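import Cfsg.Statements.S3941

set_option autoImplicit false
set_option linter.style.haveILetI false
open Cfsg

open scoped Pointwise commutatorElement

namespace Cfsg.Agent.S3941

theorem sign_eq_one_of_odd_pow {α : Type*} [Fintype α] [DecidableEq α] {c : Equiv.Perm α} {m : ℕ}
    (hm : Odd m) (hc : c ^ m = 1) : Equiv.Perm.sign c = 1 := by
  obtain ⟨k, rfl⟩ := hm
  have h := congrArg Equiv.Perm.sign hc
  rcases Int.units_eq_one_or (Equiv.Perm.sign c) with h1 | h1
  · exact h1
  · rw [map_pow, map_one, h1, pow_succ, pow_mul] at h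
    simp at h

theorem no_pair {n p m : ℕ} [hp : Fact p.Prime] (hp2 : p ≠ 2)
    (h : ∀ H : Subgroup ↥(alternatingGroup (Fin n)), H ≠ ⊤ → p ∣ Nat.card ↥H → Cfsg.IsPClosed p ↥H)
    (hm : m < n) (hn5 : 5 ≤ n) (c d : Equiv.Perm (Fin m)) (hc : c ^ p = 1) (hd : d ^ p = 1)
    (hc1 : c ≠ 1) (r : ℕ) (hr : r.Prime) (hrp : r ≠ p) (hne : c * d ≠ 1) (hcd : (c * d) ^ r = 1) :
    False := by
  classical
  have hodd : Odd p := hp.out.odd_of_ne_two hp2
  let ι : Fin m ↪ Fin n := Fin.castLEEmb hm.le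
  let f : alternatingGroup (Fin m) →* alternatingGroup (Fin n) :=
    ((Equiv.Perm.viaEmbeddingHom ι).comp (alternatingGroup (Fin m)).subtype).codRestrict _
      fun x => by
        rw [Equiv.Perm.mem_alternatingGroup, MonoidHom.comp_apply, Equiv.Perm.viaEmbeddingHom_apply,
          Equiv.Perm.viaEmbedding, Equiv.Perm.sign_extendDomain]
        exact Equiv.Perm.mem_alternatingGroup.1 x.2
  have hf : Function.Injective f := fun x y hxy =>
    Subtype.ext (Equiv.Perm.viaEmbeddingHom_injective ι (congrArg Subtype.val hxy))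
  obtain ⟨H, hH⟩ : ∃ H, H = f.range := ⟨_, rfl⟩
  have hcardH : Nat.card H = Nat.card (alternatingGroup (Fin m)) := by
    rw [hH]
    exact Nat.card_congr (MonoidHom.ofInjective hf).toEquiv.symm
  have hne_top : H ≠ ⊤ := fun htop => by
    rw [htop, Subgroup.card_top] at hcardH
    have : Nontrivial (Fin n) := Fin.nontrivial_iff_two_le.2 (by omega)
    have h1 := two_mul_card_alternatingGroup (α := Fin n)
    rw [← Nat.card_eq_fintype_card, ← Nat.card_eq_fintype_card, hcardH, Nat.card_perm,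
      Nat.card_fin] at h1
    have h2 : Nat.card (alternatingGroup (Fin m)) ≤ m.factorial := by
      refine le_trans (Nat.card_le_card_of_injective _ (alternatingGroup (Fin m)).subtype_injective)
        (le_of_eq ?_)
      rw [Nat.card_perm, Nat.card_fin]
    have h3 : n.factorial ≤ 2 * m.factorial := by omega
    have h4 : n * (n - 1).factorial = n.factorial := Nat.mul_factorial_pred (by omega)
    have h5 : m.factorial ≤ (n - 1).factorial := Nat.factorial_le (by omega)
    have h6 := Nat.factorial_pos (n - 1)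
    nlinarith
  let c' : H := ⟨f ⟨c, Equiv.Perm.mem_alternatingGroup.2 (sign_eq_one_of_odd_pow hodd hc)⟩,
    hH ▸ ⟨_, rfl⟩⟩
  let d' : H := ⟨f ⟨d, Equiv.Perm.mem_alternatingGroup.2 (sign_eq_one_of_odd_pow hodd hd)⟩,
    hH ▸ ⟨_, rfl⟩⟩
  have hpow : ∀ (x : alternatingGroup (Fin m)) (k : ℕ), (x : Equiv.Perm (Fin m)) ^ k = 1 →
      f x ^ k = 1 := fun x k hx => by
    rw [← map_pow, show x ^ k = 1 from Subtype.ext (by rw [SubgroupClass.coe_pow, hx]; rfl), map_one]
  have hc' : c' ^ p = 1 := Subtype.ext (hpow _ p hc)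
  have hd' : d' ^ p = 1 := Subtype.ext (hpow _ p hd)
  have hdvd : p ∣ Nat.card H := by
    have : orderOf c' = p := orderOf_eq_prime hc' fun he => hc1 (by
      have h1 := hf ((congrArg Subtype.val he).trans (map_one f).symm)
      exact congrArg Subtype.val h1)
    exact this ▸ orderOf_dvd_natCard c'
  obtain ⟨P⟩ := (inferInstance : Nonempty (Sylow p H))
  have hPn := h H hne_top hdvd P
  have hmem : ∀ x : H, x ^ p = 1 → x ∈ (P : Subgroup H) := fun x hx => by
    have hX : IsPGroup p (Subgroup.zpowers x) := fun ⟨y, hy⟩ => by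
      obtain ⟨i, rfl⟩ := Subgroup.mem_zpowers_iff.1 hy
      refine ⟨1, Subtype.ext ?_⟩
      show (x ^ i) ^ (p ^ 1) = 1
      rw [pow_one, ← zpow_natCast, ← zpow_mul, mul_comm, zpow_mul, zpow_natCast, hx, one_zpow]
    obtain ⟨Q, hQ⟩ := hX.exists_le_sylow
    have := Sylow.unique_of_normal P hPn
    have hQP : Q = P := Subsingleton.elim _ _
    exact hQP ▸ hQ (Subgroup.mem_zpowers x)
  obtain ⟨k, hk⟩ := IsPGroup.iff_orderOf.1 P.isPGroup'
    ⟨c' * d', mul_mem (hmem _ hc') (hmem _ hd')⟩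
  rw [← Subgroup.orderOf_coe] at hk
  have h1 : orderOf (c' * d') = r := by
    have := Fact.mk hr
    refine orderOf_eq_prime (Subtype.ext ?_) fun he => hne ?_
    · show ((f _ : alternatingGroup (Fin n)) * f _) ^ r = 1
      rw [← map_mul]
      exact hpow _ r hcd
    · have := congrArg Subtype.val he
      rw [Subgroup.coe_mul, ← map_mul] at this
      exact congrArg Subtype.val (hf (this.trans (map_one f).symm))
  rw [h1] at hk
  rcases Nat.eq_zero_or_pos k with rfl | hk0
  · exact hr.one_lt.ne' (by simpa using hk)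
  · exact hrp ((Nat.prime_dvd_prime_iff_eq hp.out hr).1 (hk ▸ dvd_pow_self p hk0.ne')).symm

/-- Let n ≥ 5 and p an odd prime with p ≤ n, and suppose that every proper subgroup of the alternating group of degree n whose order is divisible by p has a normal Sylow p-subgroup. Then n = p. -/
theorem result (n p : ℕ) (hn : 5 ≤ n) [Fact p.Prime] (hp : p ≠ 2) (hpn : p ≤ n)
    (h : ∀ H : Subgroup ↥(alternatingGroup (Fin n)), H ≠ ⊤ → p ∣ Nat.card ↥H → Cfsg.IsPClosed p ↥H) : n = p := by
  by_contra hne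
  have hlt : p < n := lt_of_le_of_ne hpn fun he => hne he.symm
  have hp' : p.Prime := Fact.out
  by_cases h3 : p = 3
  · subst h3
    exact no_pair hp h (m := 4) (by omega) hn
      (Equiv.swap 0 1 * Equiv.swap 1 2) (Equiv.swap 1 2 * Equiv.swap 2 3)
      (by decide) (by decide) (by decide) 2 Nat.prime_two (by decide) (by decide) (by decide)
  have h5 : 5 ≤ p := by
    have := hp'.two_le
    rcases Nat.lt_or_ge p 5 with hl | hl
    · interval_cases p <;> first | omega | norm_num at hp'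
    · exact hl
  have : NeZero p := ⟨hp'.pos.ne'⟩
  let C : Equiv.Perm (ZMod p) := Equiv.addRight 1
  let σ : Equiv.Perm (ZMod p) := Equiv.subLeft 1 * Equiv.swap 0 1
  let D : Equiv.Perm (ZMod p) := σ * C * σ⁻¹
  have hCp : ∀ k : ℕ, ∀ x, (C ^ k) x = x + k := by
    intro k
    induction k with
    | zero => intro x; simp
    | succ k ih => intro x; rw [pow_succ', Equiv.Perm.mul_apply, ih]; simp [C]; ring
  have hC : C ^ p = 1 := Equiv.ext fun x => by rw [hCp, ZMod.natCast_self, add_zero]; rfl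
  have hD : D ^ p = 1 := by rw [conj_pow, hC, mul_one, mul_inv_cancel]
  have h01 : (0 : ZMod p) ≠ 1 := zero_ne_one
  have hn2 : ∀ k : ℕ, k < p → k ≠ 0 → (k : ZMod p) ≠ 0 := fun k hk hk0 h =>
    hk0 (Nat.eq_zero_of_dvd_of_lt ((ZMod.natCast_eq_zero_iff k p).1 h) hk)
  have h20 : (2 : ZMod p) ≠ 0 := hn2 2 (by omega) two_ne_zero
  have h30 : (3 : ZMod p) ≠ 0 := hn2 3 (by omega) (by omega)
  have hσ : ∀ x, σ x = 1 - Equiv.swap 0 1 x := fun x => rfl
  have hσinv : ∀ x, σ⁻¹ x = Equiv.swap 0 1 (1 - x) := fun x => by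
    rw [Equiv.Perm.inv_def, Equiv.symm_apply_eq, hσ, Equiv.swap_apply_self]
    ring
  have hCD : ∀ x, (C * D) x = 1 - Equiv.swap 0 1 (Equiv.swap 0 1 (1 - x) + 1) + 1 := fun x => by
    show σ (σ⁻¹ x + 1) + 1 = _
    rw [hσ, hσinv]
  have v0 : (C * D) 0 = 2 := by
    rw [hCD, sub_zero, Equiv.swap_apply_right, zero_add, Equiv.swap_apply_right]; ring
  have v1 : (C * D) 1 = 0 := by
    rw [hCD, sub_self, Equiv.swap_apply_left]
    rw [Equiv.swap_apply_of_ne_of_ne (by rwa [one_add_one_eq_two])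
      (fun h => one_ne_zero (add_eq_right.1 h))]
    ring
  have v2 : (C * D) 2 = 1 := by
    have e : (1 : ZMod p) - 2 = -1 := by ring
    rw [hCD, e, Equiv.swap_apply_of_ne_of_ne (neg_ne_zero.2 one_ne_zero)
      (fun h => h20 (by linear_combination -h)), neg_add_cancel, Equiv.swap_apply_left]
    ring
  have vx : ∀ x, x ≠ 0 → x ≠ 1 → x ≠ 2 → (C * D) x = x := fun x x0 x1 x2 => by
    rw [hCD, Equiv.swap_apply_of_ne_of_ne (sub_ne_zero.2 (Ne.symm x1))
      (fun h => x0 (by linear_combination -h)), Equiv.swap_apply_of_ne_of_ne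
      (fun h => x2 (by linear_combination -h)) (fun h => x1 (by linear_combination -h))]
    ring
  have hCD3 : (C * D) ^ 3 = 1 := Equiv.ext fun x => by
    rw [pow_succ, pow_two, Equiv.Perm.mul_apply, Equiv.Perm.mul_apply, Equiv.Perm.one_apply]
    rcases eq_or_ne x 0 with rfl | x0
    · rw [v0, v2, v1]
    rcases eq_or_ne x 1 with rfl | x1
    · rw [v1, v0, v2]
    rcases eq_or_ne x 2 with rfl | x2
    · rw [v2, v1, v0]
    rw [vx x x0 x1 x2, vx x x0 x1 x2, vx x x0 x1 x2]
  let e : Equiv.Perm (ZMod p) ≃* Equiv.Perm (Fin p) := (ZMod.finEquiv p).toEquiv.symm.permCongrHom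
  refine no_pair hp h (m := p) hlt hn (e C) (e D) (by rw [← map_pow, hC, map_one])
    (by rw [← map_pow, hD, map_one]) (fun he => ?_) 3 Nat.prime_three (Ne.symm h3) (fun he => ?_)
    (by rw [← map_mul, ← map_pow, hCD3, map_one])
  · have := DFunLike.congr_fun (e.injective (he.trans (map_one e).symm)) 0
    simp [C] at this
  · rw [← map_mul] at he
    have h0 := DFunLike.congr_fun (e.injective (he.trans (map_one e).symm)) 0
    rw [v0] at h0
    exact h20 h0

end Cfsg.Agent.S3941
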