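import Cfsg.Statements.S3946
import Cfsg.Agent.Lib.Solv.Splitting

set_option autoImplicit false
set_option linter.style.haveILetI false
open Cfsg

open scoped Pointwise commutatorElement

namespace Cfsg.Agent.S3946

theorem prod_formula {G : Type*} [Group G] (α : MulAut G) (x : G) (n : ℕ) :
    ((SemidirectProduct.inl x : G ⋊[MonoidHom.id (MulAut G)] MulAut G) * SemidirectProduct.inr α) ^ n =
      SemidirectProduct.inl (((List.range n).map (fun i : ℕ => (α ^ i) x)).prod) *
        SemidirectProduct.inr (α ^ n) := by
  induction n with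
  | zero => simp
  | succ n ih =>
    have h := SemidirectProduct.inl_aut (φ := MonoidHom.id (MulAut G)) (α ^ n) x
    rw [MonoidHom.id_apply, map_inv] at h
    rw [pow_succ, ih, List.range_succ, List.map_append, List.prod_append, List.map_singleton,
      List.prod_singleton, map_mul, h, pow_succ α n, map_mul]
    group

/-- Call an automorphism α of order n of a group G splitting when x · α(x) · α²(x) ⋯ α^(n−1)(x) = 1 for every x ∈ G. A finite group admitting a splitting automorphism of prime order is nilpotent (this contains the case of a fixed-point-free automorphism of prime order). -/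
theorem result {G : Type*} [Group G] [Finite G] (α : MulAut G) (hp : (orderOf α).Prime)
    (hsplit : ∀ x : G, (((List.range (orderOf α)).map (fun i : ℕ => (α ^ i) x)).prod = 1)) : Group.IsNilpotent G := by
  obtain ⟨p, hp, hpα⟩ : ∃ p, p.Prime ∧ orderOf α = p := ⟨_, hp, rfl⟩
  haveI := Fact.mk hp
  rw [hpα] at hsplit
  by_cases hp2 : p = 2
  · subst hp2
    have hinv : ∀ x : G, α x = x⁻¹ := fun x => by
      have := hsplit x
      simp [List.range_succ] at this
      exact (inv_eq_of_mul_eq_one_right this).symm
    have hcomm : ∀ a b : G, a * b = b * a := by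
      intro a b
      have h := hinv (a * b)
      rw [map_mul, hinv, hinv, mul_inv_rev] at h
      calc a * b = (b⁻¹ * a⁻¹)⁻¹ := by group
        _ = (a⁻¹ * b⁻¹)⁻¹ := by rw [h]
        _ = b * a := by group
    letI : CommGroup G := { (inferInstance : Group G) with mul_comm := hcomm }
    exact (isNilpotent_of_finite_tfae.out 0 3).2 fun q _ Q => Subgroup.normal_of_isMulCommutative _
  haveI : Finite (MulAut G) := Finite.of_injective (fun e => (e : G → G)) DFunLike.coe_injective
  haveI : Finite (G ⋊[MonoidHom.id (MulAut G)] MulAut G) := Finite.of_equiv _ SemidirectProduct.equivProd.symm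
  haveI := Cfsg.Agent.Solv.split_nilpotent_aux (p := p) hp2 _
    (SemidirectProduct.inl : G →* G ⋊[MonoidHom.id (MulAut G)] MulAut G).range (SemidirectProduct.inr α) rfl
    ⟨Subgroup.mem_normalizer_iff.2 fun y => ⟨?_, ?_⟩, ?_⟩
  · exact Group.nilpotent_of_mulEquiv
      (MonoidHom.ofInjective (SemidirectProduct.inl_injective (φ := MonoidHom.id (MulAut G)))).symm
  · rintro ⟨x, rfl⟩
    have h1 := SemidirectProduct.inl_aut (φ := MonoidHom.id (MulAut G)) α x
    rw [MonoidHom.id_apply, map_inv] at h1
    exact ⟨α x, h1⟩
  · rintro ⟨x, hx⟩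
    refine ⟨α⁻¹ x, ?_⟩
    have h1 := SemidirectProduct.inl_aut (φ := MonoidHom.id (MulAut G)) α⁻¹ x
    rw [MonoidHom.id_apply] at h1
    rw [h1, hx, map_inv]
    group
  · rintro _ ⟨x, rfl⟩
    rw [prod_formula, hsplit x, ← hpα, pow_orderOf_eq_one, map_one, map_one, one_mul]

end Cfsg.Agent.S3946
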