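import Cfsg.Statements.S3949
import Cfsg.Agent.Lib.Solv.Cores

set_option autoImplicit false
open Cfsg

open scoped Pointwise commutatorElement

namespace Cfsg.Agent.S3949

/-- Let G be a finite group and α an automorphism of G of order 2 such that the elements g·α(g)⁻¹ generate G. Let j be a positive integer such that 2^j divides the order of no element inverted by α. Then the set of values of the j-th iterate of the map c ↦ c·α(c)⁻¹ is exactly the set of elements of odd order inverted by α. -/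
theorem result {G : Type*} [Group G] [Finite G] (α : MulAut G) (hα : orderOf α = 2) (hG : Subgroup.closure (Set.range (fun c : G => c * (α c)⁻¹)) = ⊤)
    (j : ℕ) (hj : ∀ g : G, α g = g⁻¹ → ¬ 2 ^ j ∣ orderOf g) :
    Set.range ((fun c : G => c * (α c)⁻¹)^[j]) = {g : G | Odd (orderOf g) ∧ α g = g⁻¹} := by
  set f : G → G := fun c => c * (α c)⁻¹ with hf
  have hα2 : ∀ x, α (α x) = x := fun x => by
    have := congrArg (fun β : MulAut G => β x) (hα ▸ pow_orderOf_eq_one α : α ^ 2 = 1)
    simpa [sq] using this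
  have hinv : ∀ c, α (f c) = (f c)⁻¹ := fun c => by
    simp [f, map_mul, map_inv, hα2, mul_inv_rev]
  have hiter : ∀ (i : ℕ) (c : G), f^[i + 1] c = f c ^ 2 ^ i := by
    intro i c
    induction i with
    | zero => simp
    | succ i ih =>
      rw [Function.iterate_succ_apply', ih]
      show f c ^ 2 ^ i * (α (f c ^ 2 ^ i))⁻¹ = _
      rw [map_pow, hinv, inv_pow, inv_inv, pow_succ, pow_mul, sq]
  obtain ⟨i, rfl⟩ : ∃ i, j = i + 1 := ⟨j - 1, by
    rcases Nat.eq_zero_or_pos j with h | h
    · exact absurd (by simp [h]) (hj 1 (by simp))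
    · omega⟩
  ext g
  constructor
  · rintro ⟨c, rfl⟩
    refine ⟨?_, ?_⟩
    · rw [hiter, orderOf_pow, Nat.odd_iff, ← Nat.two_dvd_ne_zero]
      intro h2
      have hpos := orderOf_pos (f c)
      set d := Nat.gcd (orderOf (f c)) (2 ^ i) with hd
      obtain ⟨k, hk, hk'⟩ := (Nat.dvd_prime_pow Nat.prime_two).1 (Nat.gcd_dvd_right (orderOf (f c)) (2 ^ i))
      have hdd : d ∣ orderOf (f c) := Nat.gcd_dvd_left _ _
      have h3 : 2 ^ (k + 1) ∣ orderOf (f c) := by
        have h4 : d * 2 ∣ d * (orderOf (f c) / d) := Nat.mul_dvd_mul_left d h2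
        rw [Nat.mul_div_cancel' hdd] at h4
        rwa [pow_succ, ← hk']
      rcases eq_or_lt_of_le hk with rfl | hlt
      · exact hj _ (hinv c) h3
      · have : 2 ^ (k + 1) ∣ d := Nat.dvd_gcd h3 (pow_dvd_pow 2 hlt)
        rw [hd, hk', Nat.pow_dvd_pow_iff_le_right (by norm_num)] at this
        omega
    · rw [hiter, map_pow, hinv, inv_pow]
  · rintro ⟨hodd, hg⟩
    have hco : Nat.Coprime (orderOf g) (2 ^ (i + 1)) :=
      (Nat.coprime_two_right.2 hodd).pow_right (i + 1)
    obtain ⟨m, hm⟩ := exists_pow_eq_self_of_coprime hco.symm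
    refine ⟨g ^ m, ?_⟩
    rw [hiter]
    show (g ^ m * (α (g ^ m))⁻¹) ^ 2 ^ i = g
    rw [map_pow, hg, inv_pow, inv_inv, ← pow_two, ← pow_mul, ← pow_succ', ← pow_mul,
      mul_comm m, pow_mul, hm]

end Cfsg.Agent.S3949
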