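import Cfsg.Statements.S3979
import Cfsg.Agent.Lib.Solv.Cores

set_option autoImplicit false
open Cfsg

open scoped Pointwise commutatorElement

namespace Cfsg.Agent.S3979

/-- A finite cyclic group has trivial Schur multiplier: every finite stem extension of it is an isomorphism, said through `HasCyclicSchurMultiplier G 1`. -/
theorem result {G : Type*} [Group G] [Finite G] [IsCyclic G] : Cfsg.HasCyclicSchurMultiplier G 1 := by
  refine ⟨⟨G, inferInstance, inferInstance, MonoidHom.id G,
    ⟨Function.surjective_id, ?_, ?_⟩, ⟨?_⟩⟩, fun Γ _ _ σ hσ => ⟨1, fun y => ⟨1, ?_⟩⟩⟩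
  · rw [MonoidHom.ker_id]; exact bot_le
  · rw [MonoidHom.ker_id]; exact bot_le
  · have : Subsingleton (MonoidHom.id G).ker := by rw [MonoidHom.ker_id]; infer_instance
    exact
      { toFun := fun _ => 1
        invFun := fun _ => 1
        left_inv := fun x => Subsingleton.elim _ _
        right_inv := fun x => Subsingleton.elim _ _
        map_mul' := fun _ _ => Subsingleton.elim _ _ }
  · obtain ⟨-, hc, hd⟩ := hσ
    have hab := σ.isMulCommutative_of_isCyclic_of_ker_le_center hc
    have : commutator Γ = ⊥ := by
      rw [eq_bot_iff, commutator_def, Subgroup.commutator_le]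
      intro a _ b _
      rw [Subgroup.mem_bot, commutatorElement_eq_one_iff_mul_comm]
      exact hab.is_comm.comm a b
    rw [map_one]
    exact Subtype.ext (Subgroup.mem_bot.1 (this ▸ hd y.2)).symm

end Cfsg.Agent.S3979
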