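import Cfsg.Statements.S3950
import Cfsg.Agent.Lib.Solv.SchurSmall
import Cfsg.Agent.S3979

set_option autoImplicit false
set_option linter.style.haveILetI false
open Cfsg

open scoped Pointwise commutatorElement

namespace Cfsg.Agent.S3950

/-- A finite abelian group has trivial Schur multiplier if and only if it is cyclic. -/
theorem result {G : Type*} [CommGroup G] [Finite G] : Cfsg.HasCyclicSchurMultiplier G 1 ↔ IsCyclic G := by
  refine ⟨fun h => ?_, fun h => S3979.result⟩
  by_contra hnc
  -- two maximal subgroups of the same prime index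
  obtain ⟨p, M₁, M₂, hp, hne, h1, h2⟩ : ∃ (p : ℕ) (M₁ M₂ : Subgroup G), p.Prime ∧ M₁ ≠ M₂ ∧
      M₁.index = p ∧ M₂.index = p := by
    by_contra hno
    push Not at hno
    apply hnc
    have hM : ∀ M : Subgroup G, IsCoatom M → (M.index).Prime := by
      intro M hM
      have : IsSimpleGroup (G ⧸ M) := by
        haveI : Nontrivial (G ⧸ M) := QuotientGroup.nontrivial_iff.mpr hM.1
        refine ⟨fun K _ => ?_⟩
        rcases hM.le_iff.1 (show M ≤ K.comap (QuotientGroup.mk' M) from fun y hy => by
          show QuotientGroup.mk' M y ∈ K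
          rw [QuotientGroup.mk'_apply, (QuotientGroup.eq_one_iff y).2 hy]; exact one_mem _) with e | e
        · right
          exact Subgroup.comap_injective (QuotientGroup.mk'_surjective M) (by rw [e, Subgroup.comap_top])
        · left
          refine Subgroup.comap_injective (QuotientGroup.mk'_surjective M) ?_
          rw [e, MonoidHom.comap_bot, QuotientGroup.ker_mk']
      rw [Subgroup.index_eq_card]
      exact IsSimpleGroup.prime_card
    classical
    let P : Finset ℕ := (Nat.card G).primeFactors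
    let M : ℕ → Subgroup G := fun q => if h : ∃ M : Subgroup G, M.index = q then h.choose else ⊥
    have hMq : ∀ q, (∃ M : Subgroup G, M.index = q) → (M q).index = q := fun q h => by
      simp only [M, dif_pos h]; exact h.choose_spec
    let x : ℕ → G := fun q => if h : ∃ y : G, y ∉ M q then h.choose else 1
    set y : G := ∏ q ∈ P, x q ^ ∏ r ∈ P.erase q, r with hy
    refine ⟨⟨y, fun g => ?_⟩⟩
    suffices Subgroup.zpowers y = ⊤ from this.ge (Subgroup.mem_top g)
    by_contra hne
    obtain ⟨N, hN, hyN⟩ := (eq_top_or_exists_le_coatom (Subgroup.zpowers y)).resolve_left hne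
    set q := N.index with hq
    have hqp := hM N hN
    have hqP : q ∈ P := Nat.mem_primeFactors.2 ⟨hqp, N.index_dvd_card, Nat.card_pos.ne'⟩
    have hNM : M q = N := by
      by_contra e
      exact hno q (M q) N hqp e (hMq q ⟨N, rfl⟩) rfl
    have hxq : x q ∉ N := by
      have he : ∃ y : G, y ∉ M q := by
        obtain ⟨y, -, hy⟩ := SetLike.exists_of_lt hN.lt_top
        exact ⟨y, hNM ▸ hy⟩
      simp only [x, dif_pos he]
      have := he.choose_spec
      rwa [← hNM]
    have hyq : y ∈ N := hyN (Subgroup.mem_zpowers y)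
    rw [hy, ← Finset.mul_prod_erase P _ hqP] at hyq
    have hrest : (∏ r ∈ P.erase q, x r ^ ∏ t ∈ P.erase r, t) ∈ N := Subgroup.prod_mem N fun r hr => by
      have hqr : q ∈ P.erase r := Finset.mem_erase.2 ⟨(Finset.mem_erase.1 hr).1.symm, hqP⟩
      obtain ⟨t, ht⟩ := Finset.dvd_prod_of_mem (fun t => t) hqr
      rw [ht, pow_mul]
      exact pow_mem (Subgroup.pow_index_mem N (x r)) t
    have h3 : x q ^ (∏ r ∈ P.erase q, r) ∈ N := (Subgroup.mul_mem_cancel_right N hrest).1 hyq
    apply hxq
    have hco : Nat.Coprime (∏ r ∈ P.erase q, r) q := Nat.Coprime.prod_left fun r hr =>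
      (Nat.coprime_primes (Nat.prime_of_mem_primeFactors (Finset.mem_of_mem_erase hr)) hqp).2
        (Finset.mem_erase.1 hr).1
    rw [← QuotientGroup.eq_one_iff] at h3 ⊢
    rw [QuotientGroup.mk_pow] at h3
    have h4 : (QuotientGroup.mk (x q) : G ⧸ N) ^ q = 1 := by
      rw [hq, Subgroup.index_eq_card]; exact pow_card_eq_one'
    have := pow_gcd_eq_one.2 ⟨h3, h4⟩
    rwa [hco.gcd_eq_one, pow_one] at this
  haveI := Fact.mk hp
  have hhom : ∀ M : Subgroup G, M.index = p → ∃ f : G →* Multiplicative (ZMod p), f.ker = M := by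
    intro M hM
    have hc : Nat.card (G ⧸ M) = p := by rw [← Subgroup.index_eq_card, hM]
    let e : G ⧸ M ≃* Multiplicative (ZMod p) := mulEquivOfPrimeCardEq (p := p) hc (by simp)
    refine ⟨e.toMonoidHom.comp (QuotientGroup.mk' M), ?_⟩
    ext y
    rw [MonoidHom.mem_ker, MonoidHom.comp_apply, ← QuotientGroup.eq_one_iff]
    exact map_eq_one_iff _ e.injective
  obtain ⟨f, hf⟩ := hhom M₁ h1
  obtain ⟨g, hg⟩ := hhom M₂ h2
  have hcoatom : ∀ {A B : Subgroup G}, A.index = p → B.index = p → A ≤ B → A = B := by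
    intro A B hA hB hle
    have h := Subgroup.relIndex_mul_index hle
    rw [hA, hB] at h
    exact le_antisymm hle (Subgroup.relIndex_eq_one.1 ((Nat.mul_eq_right hp.ne_zero).1 h))
  obtain ⟨a, ha2, ha1⟩ := SetLike.not_le_iff_exists.1 (fun h => hne (hcoatom h2 h1 h).symm)
  obtain ⟨b, hb1, hb2⟩ := SetLike.not_le_iff_exists.1 (fun h => hne (hcoatom h1 h2 h))
  set F : G → ZMod p := fun u => Multiplicative.toAdd (f u) with hF
  set K : G → ZMod p := fun u => Multiplicative.toAdd (g u) with hK
  have hFm : ∀ u v, F (u * v) = F u + F v := fun u v => by simp [hF]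
  have hKm : ∀ u v, K (u * v) = K u + K v := fun u v => by simp [hK]
  have hFa : F a ≠ 0 := fun e => ha1 (hf ▸ MonoidHom.mem_ker.2 (Multiplicative.toAdd.injective e))
  have hKb : K b ≠ 0 := fun e => hb2 (hg ▸ MonoidHom.mem_ker.2 (Multiplicative.toAdd.injective e))
  have hFb : F b = 0 := by
    have : b ∈ f.ker := hf.symm ▸ hb1
    simp [hF, MonoidHom.mem_ker.1 this]
  obtain ⟨Γ, i1, i2, σ, hσ, ⟨φ⟩⟩ := Solv.heis_stem (Q := G) (A := ULift (ZMod p))
    (fun u v => ULift.up (F u * K v))
    (fun u v w => ULift.ext _ _ (by simp [hFm, add_mul]))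
    (fun u v w => ULift.ext _ _ (by simp [hKm, mul_add])) a b (fun t => by
      obtain ⟨j, hj⟩ := ZMod.natCast_zmod_surjective (t.down / (F a * K b))
      refine ⟨j, ULift.ext _ _ ?_⟩
      show ((j : ℤ) • (F a * K b - F b * K a) : ZMod p) = t.down
      rw [hFb, zero_mul, sub_zero, natCast_zsmul, nsmul_eq_mul, hj, div_mul_cancel₀]
      exact mul_ne_zero hFa hKb)
  obtain ⟨π, hπ⟩ := h.2 Γ σ hσ
  have h5 : Nat.card σ.ker ≤ Nat.card (Multiplicative (ZMod 1)) := Nat.card_le_card_of_surjective π hπ
  rw [Nat.card_congr φ.toEquiv] at h5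
  simp at h5
  have := hp.two_le
  omega

end Cfsg.Agent.S3950
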