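import Cfsg.Statements.S3951
import Cfsg.Agent.Lib.Solv.SchurSmall

set_option autoImplicit false
set_option linter.style.haveILetI false
open Cfsg

open scoped Pointwise commutatorElement

namespace Cfsg.Agent.S3951

/-- For positive integers `m` and `n` with `n` dividing `m`, the Schur multiplier of the abelian group `ZMod m × ZMod n` (written multiplicatively) is cyclic of order `n`. In particular the elementary abelian group of order `p ^ 2` has multiplier of order `p`. -/
theorem result (m n : ℕ) [NeZero m] [NeZero n] (hnm : n ∣ m) : Cfsg.HasCyclicSchurMultiplier (Multiplicative (ZMod m × ZMod n)) n := by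
  set Q := Multiplicative (ZMod m × ZMod n) with hQ
  let χ : ZMod m →+* ZMod n := ZMod.castHom hnm (ZMod n)
  refine Solv.hasCyclicSchur_of ?_ fun Γ _ _ σ hσ => ?_
  · refine Solv.heis_stem (A := ZMod n)
      (fun p q : Q => χ (Multiplicative.toAdd p).1 * (Multiplicative.toAdd q).2)
      (fun a b c => ?_) (fun a b c => ?_) (Multiplicative.ofAdd (1, 0)) (Multiplicative.ofAdd (0, 1)) fun t => ?_
    · show χ ((Multiplicative.toAdd a).1 + (Multiplicative.toAdd b).1) * _ = _
      rw [map_add, add_mul]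
    · show _ * ((Multiplicative.toAdd b).2 + (Multiplicative.toAdd c).2) = _
      rw [mul_add]
    · show t ∈ AddSubgroup.zmultiples (χ (1 : ZMod m) * (1 : ZMod n) - χ (0 : ZMod m) * (0 : ZMod n))
      obtain ⟨j, rfl⟩ := ZMod.natCast_zmod_surjective t
      rw [map_one, map_zero, one_mul, mul_zero, sub_zero]
      exact ⟨j, by simp⟩
  obtain ⟨hsurj, hc, hd⟩ := hσ
  obtain ⟨a, ha⟩ := hsurj (Multiplicative.ofAdd ((1, 0) : ZMod m × ZMod n))
  obtain ⟨b, hb⟩ := hsurj (Multiplicative.ofAdd ((0, 1) : ZMod m × ZMod n))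
  have hck : ⁅a, b⁆ ∈ σ.ker := by
    rw [MonoidHom.mem_ker, map_commutatorElement, commutatorElement_eq_one_iff_mul_comm, mul_comm]
  have hcc := Subgroup.mem_center_iff.1 (hc hck)
  haveI : (Subgroup.zpowers ⁅a, b⁆).Normal := ⟨by
    rintro _ ⟨i, rfl⟩ g
    show g * ⁅a, b⁆ ^ i * g⁻¹ ∈ _
    have e : Commute g ⁅a, b⁆ := hcc g
    rw [(e.zpow_right i).eq, mul_inv_cancel_right]
    exact ⟨i, rfl⟩⟩
  have hS : Subgroup.closure ({a, b} : Set Γ) ⊔ Subgroup.center Γ = ⊤ := by
    refine Solv.closure_sup_center_eq_top σ hc {a, b} ?_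
    rw [Set.image_pair, ha, hb]
    refine top_le_iff.1 fun q _ => ?_
    obtain ⟨i, j, rfl⟩ : ∃ (i : ℕ) (j : ℕ), q = Multiplicative.ofAdd ((i : ZMod m), (j : ZMod n)) := by
      obtain ⟨i, hi⟩ := ZMod.natCast_zmod_surjective (Multiplicative.toAdd q).1
      obtain ⟨j, hj⟩ := ZMod.natCast_zmod_surjective (Multiplicative.toAdd q).2
      exact ⟨i, j, by rw [hi, hj]; rfl⟩
    rw [show Multiplicative.ofAdd (((i : ZMod m), (j : ZMod n))) =
      (Multiplicative.ofAdd ((1, 0) : ZMod m × ZMod n)) ^ i * (Multiplicative.ofAdd ((0, 1) : ZMod m × ZMod n)) ^ j by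
        rw [← ofAdd_nsmul, ← ofAdd_nsmul, ← ofAdd_add]
        congr 1
        simp]
    exact mul_mem (pow_mem (Subgroup.subset_closure (Set.mem_insert _ _)) i)
      (pow_mem (Subgroup.subset_closure (Set.mem_insert_of_mem _ (Set.mem_singleton _))) j)
  have hle : σ.ker ≤ Subgroup.zpowers ⁅a, b⁆ := hd.trans (Solv.commutator_le_of_gen _ _ hS (by
    rintro p hp q hq
    simp only [Set.mem_insert_iff, Set.mem_singleton_iff] at hp hq
    rcases hp with hp | hp <;> rcases hq with hq | hq <;> rw [hp, hq]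
    · rw [commutatorElement_self]; exact one_mem _
    · exact Subgroup.mem_zpowers _
    · rw [← commutatorElement_inv a b]; exact inv_mem (Subgroup.mem_zpowers _)
    · rw [commutatorElement_self]; exact one_mem _))
  have hpow : ∀ j : ℕ, ⁅a, b ^ j⁆ = ⁅a, b⁆ ^ j := by
    intro j
    induction j with
    | zero => simp
    | succ j ih =>
      rw [pow_succ', show ⁅a, b * b ^ j⁆ = ⁅a, b⁆ * (b * ⁅a, b ^ j⁆ * b⁻¹) by
        simp only [commutatorElement_def]; group, ih,
        ((show Commute b ⁅a, b⁆ from hcc b).pow_right j).eq, mul_inv_cancel_right, pow_succ']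
  refine ⟨⟨⁅a, b⁆, hck⟩, Subtype.ext ?_, fun k => ?_⟩
  · show ⁅a, b⁆ ^ n = 1
    rw [← hpow, commutatorElement_eq_one_iff_mul_comm]
    have hbn : b ^ n ∈ σ.ker := by
      rw [MonoidHom.mem_ker, map_pow, hb, ← ofAdd_nsmul]
      simp
    exact Subgroup.mem_center_iff.1 (hc hbn) a
  · obtain ⟨i, hi⟩ := hle k.2
    exact ⟨i, Subtype.ext hi⟩

end Cfsg.Agent.S3951
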