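import Cfsg.Statements.S3952
import Cfsg.Agent.Lib.Solv.SchurProj

set_option autoImplicit false
set_option linter.style.haveILetI false
open Cfsg

open scoped Pointwise commutatorElement

namespace Cfsg.Agent.S3952

/-- If `A` is the Schur multiplier of the finite group `Q`, then the square of the exponent of `A` divides the order of `Q`. -/
theorem result {Q : Type*} [Group Q] [Finite Q] {A : Type*} [CommGroup A] (hA : Cfsg.HasSchurMultiplier Q A) : Monoid.exponent A ^ 2 ∣ Nat.card Q := by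
  obtain ⟨Γ, i1, i2, σ, hσ, ⟨e⟩⟩ := hA.1
  classical
  have := Fintype.ofFinite Q
  letI : CommGroup σ.ker :=
    { (inferInstance : Group σ.ker) with
      mul_comm := fun a b => Subtype.ext (Subgroup.mem_center_iff.1 (hσ.2.1 b.2) a) }
  have : Finite A := Finite.of_equiv _ e.toEquiv
  obtain ⟨dual⟩ := CommGroup.monoidHom_mulEquiv_of_hasEnoughRootsOfUnity σ.ker ℂ
  obtain ⟨a, ha⟩ := Monoid.exists_orderOf_eq_exponent (Monoid.ExponentExists.of_finite (G := A))
  obtain ⟨lam, hlam⟩ : ∃ lam : σ.ker →* ℂˣ, orderOf lam = Monoid.exponent A :=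
    ⟨(dual.trans e).symm a, by rw [MulEquiv.orderOf_eq, ha]⟩
  obtain ⟨ρ, hker, hsupp⟩ := Solv.exists_monomial_rep σ hσ.1 hσ.2.1 lam
  let f : MonoidAlgebra ℂ Γ →ₐ[ℂ] Matrix Q Q ℂ :=
    MonoidAlgebra.lift ℂ (Matrix Q Q ℂ) Γ ((Units.coeHom _).comp ρ)
  have : NeZero (Nat.card Γ : ℂ) := ⟨Nat.cast_ne_zero.2 Nat.card_pos.ne'⟩
  have : IsSemisimpleRing f.range :=
    f.rangeRestrict.toRingHom.isSemisimpleRing_of_surjective f.rangeRestrict_surjective
  have : FiniteDimensional ℂ f.range :=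
    FiniteDimensional.finiteDimensional_submodule (Subalgebra.toSubmodule f.range)
  obtain ⟨m, d, hd, ⟨E⟩⟩ :=
    IsSemisimpleRing.exists_algEquiv_pi_matrix_of_isAlgClosed ℂ f.range
  -- the dimension of the twisted group algebra
  obtain ⟨s, hs⟩ : ∃ s : Q → Γ, ∀ q, σ (s q) = q :=
    ⟨Function.surjInv hσ.1, Function.surjInv_eq hσ.1⟩
  let v : Q → Matrix Q Q ℂ := fun q => (ρ (s q) : Matrix Q Q ℂ)
  have hli : LinearIndependent ℂ v := by
    rw [Fintype.linearIndependent_iff]
    intro g hg q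
    have h1 : (∑ i, g i • v i) q 1 = 0 := by rw [hg]; rfl
    rw [Matrix.sum_apply, Finset.sum_eq_single q (fun i _ hi => ?_)
      (fun h => absurd (Finset.mem_univ q) h)] at h1
    · refine (mul_eq_zero.1 h1).resolve_right ((hsupp (s q) q).2 (hs q).symm)
    · show g i * v i q 1 = 0
      rw [show v i q 1 = 0 from not_not.1 (mt (hsupp (s i) q).1 (by rw [hs]; exact Ne.symm hi)),
        mul_zero]
  have hρmem : ∀ g : Γ, (ρ g : Matrix Q Q ℂ) ∈ f.range := fun g =>
    ⟨MonoidAlgebra.of ℂ Γ g, MonoidAlgebra.lift_of _ g⟩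
  have hsmul : ∀ g : Γ, (ρ g : Matrix Q Q ℂ) ∈ Submodule.span ℂ (Set.range v) := fun g => by
    have hz : g * (s (σ g))⁻¹ ∈ σ.ker := by
      rw [MonoidHom.mem_ker, map_mul, map_inv, hs, mul_inv_cancel]
    have h1 : ρ g = ρ (g * (s (σ g))⁻¹) * ρ (s (σ g)) := by rw [← map_mul]; group
    rw [h1, show ρ (g * (s (σ g))⁻¹) = _ from hker ⟨_, hz⟩, Units.val_mul,
      Matrix.GeneralLinearGroup.coe_scalar]
    have h2 : Matrix.scalar Q (lam ⟨_, hz⟩ : ℂ) * v (σ g) = (lam ⟨_, hz⟩ : ℂ) • v (σ g) := by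
      rw [Matrix.scalar_apply, ← Matrix.smul_eq_diagonal_mul]
    exact h2 ▸ Submodule.smul_mem _ _ (Submodule.subset_span ⟨σ g, rfl⟩)
  have hspan : Subalgebra.toSubmodule f.range = Submodule.span ℂ (Set.range v) := by
    refine le_antisymm ?_ (Submodule.span_le.2 (Set.range_subset_iff.2 fun q => hρmem _))
    rintro _ ⟨x, rfl⟩
    induction x using MonoidAlgebra.induction_on with
    | of g =>
      show f (MonoidAlgebra.of ℂ Γ g) ∈ _
      rw [MonoidAlgebra.lift_of]
      exact hsmul g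
    | add x y hx hy => exact (map_add f x y).symm ▸ Submodule.add_mem _ hx hy
    | smul r x hx => exact (map_smul f r x).symm ▸ Submodule.smul_mem _ r hx
  have hdim : Module.finrank ℂ f.range = Nat.card Q := by
    rw [← Subalgebra.finrank_toSubmodule, hspan, finrank_span_eq_card hli,
      Nat.card_eq_fintype_card]
  rw [← hdim, E.toLinearEquiv.finrank_eq, Module.finrank_pi_fintype]
  refine Finset.dvd_sum fun i _ => ?_
  rw [Module.finrank_matrix, Module.finrank_self, mul_one, Fintype.card_fin, ← sq]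
  refine pow_dvd_pow_of_dvd ?_ 2
  rw [← hlam, orderOf_dvd_iff_pow_eq_one]
  let ρS : Γ →* f.range :=
    { toFun := fun g => ⟨(ρ g : Matrix Q Q ℂ), hρmem g⟩
      map_one' := Subtype.ext (by simp)
      map_mul' := fun a b => Subtype.ext (by simp) }
  let D : Γ →* ℂˣ := (Matrix.detMonoidHom.comp
    (((Pi.evalMonoidHom (fun j => Matrix (Fin (d j)) (Fin (d j)) ℂ) i).comp
      (E : f.range →* _)).comp ρS)).toHomUnits
  ext z
  have hz1 : D (z : Γ) = 1 := Abelianization.commutator_subset_ker D (hσ.2.2 z.2)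
  have hz2 : ρS (z : Γ) = algebraMap ℂ f.range (lam z : ℂ) := by
    refine Subtype.ext ?_
    show (ρ (z : Γ) : Matrix Q Q ℂ) = algebraMap ℂ (Matrix Q Q ℂ) (lam z : ℂ)
    rw [hker z, Matrix.GeneralLinearGroup.coe_scalar]
    simp [Matrix.algebraMap_eq_diagonal, Matrix.scalar_apply, Pi.algebraMap_def]
  have h3 : (D (z : Γ) : ℂ) = (lam z : ℂ) ^ d i := by
    show Matrix.det (E (ρS (z : Γ)) i) = _
    rw [hz2, AlgEquiv.commutes, Pi.algebraMap_apply, Matrix.algebraMap_eq_diagonal,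
      Matrix.det_diagonal]
    simp
  rw [hz1, Units.val_one] at h3
  simp only [MonoidHom.pow_apply, MonoidHom.one_apply, Units.val_pow_eq_pow_val, Units.val_one]
  exact h3.symm

end Cfsg.Agent.S3952
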