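import Cfsg.Statements.S3953
import Cfsg.Agent.Lib.Solv.SchurSub

set_option autoImplicit false
set_option linter.style.haveILetI false
open Cfsg

open scoped Pointwise commutatorElement

namespace Cfsg.Agent.S3953

/-- Let `P` be a Sylow `p`-subgroup of the finite group `G`, let `A` be the Schur multiplier of `G` and `B` that of `P`. Then the `p`-primary component of `A` is isomorphic to a direct factor of `B`: there are subgroups `C` and `D` of `B` meeting trivially and generating `B`, with `C` isomorphic to the `p`-primary component of `A`. -/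
theorem result {G : Type*} [Group G] [Finite G] (p : ℕ) [Fact p.Prime] (P : Sylow p G) {A B : Type*} [CommGroup A] [CommGroup B] (hA : Cfsg.HasSchurMultiplier G A) (hB : Cfsg.HasSchurMultiplier P B) : ∃ C D : Subgroup B, C ⊓ D = ⊥ ∧ C ⊔ D = ⊤ ∧ Nonempty (CommGroup.primaryComponent A p ≃* C) := by
  obtain ⟨eA⟩ := Solv.mult_iso _ (Solv.allGen_surjective G) hA
  obtain ⟨eB⟩ := Solv.mult_iso _ (Solv.allGen_surjective P) hB
  have := Solv.finite_relD _ (Solv.allGen_surjective G)
  have : Finite A := Finite.of_equiv _ eA.toEquiv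
  obtain ⟨s, j, hsj⟩ := Solv.exists_res_cores _ (Solv.allGen_surjective G) (P : Subgroup G)
  obtain ⟨k, hk⟩ := IsPGroup.iff_card.1 P.isPGroup'
  have hB' : ∀ b : B, b ^ p ^ k = 1 := fun b => by
    obtain ⟨d, rfl⟩ := eB.surjective b
    rw [← map_pow, ← hk, Solv.pow_card_relD _ (Solv.allGen_surjective P) d, map_one]
  let g : B →* A := eA.toMonoidHom.comp (j.comp eB.symm.toMonoidHom)
  let s' : A →* B := eB.toMonoidHom.comp (s.comp eA.symm.toMonoidHom)
  have hgs : ∀ a, g (s' a) = a ^ (P : Subgroup G).index := fun a => by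
    show eA (j (eB.symm (eB (s (eA.symm a))))) = _
    rw [eB.symm_apply_apply, hsj, map_pow, eA.apply_symm_apply]
  have hgp : ∀ b, g b ∈ CommGroup.primaryComponent A p := fun b =>
    CommGroup.mem_primaryComponent.2 ⟨k, by rw [← map_pow, hB', map_one]⟩
  have hcop : Nat.Coprime (Nat.card (CommGroup.primaryComponent A p)) (P : Subgroup G).index := by
    obtain ⟨l, hl⟩ := IsPGroup.iff_card.1 (CommGroup.primaryComponent.isPGroup (G := A) (p := p))
    rw [hl]
    exact Nat.Coprime.pow_left l ((Nat.Prime.coprime_iff_not_dvd (Fact.out)).2 P.not_dvd_index)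
  let σ : CommGroup.primaryComponent A p →* B := s'.comp (CommGroup.primaryComponent A p).subtype
  have hbij := (powCoprime hcop).bijective
  have hσ : ∀ a, g (σ a) = ((a ^ (P : Subgroup G).index : CommGroup.primaryComponent A p) : A) :=
    fun a => by rw [SubgroupClass.coe_pow]; exact hgs a
  have hinj : Function.Injective σ := fun a b h => hbij.1 (Subtype.ext (by
    show ((a ^ (P : Subgroup G).index : CommGroup.primaryComponent A p) : A) = _
    rw [← hσ, h, hσ]
    rfl))
  refine ⟨σ.range, g.ker, eq_bot_iff.2 fun b hb => ?_, eq_top_iff.2 fun b _ => ?_,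
    ⟨MonoidHom.ofInjective hinj⟩⟩
  · obtain ⟨⟨a, rfl⟩, hb2⟩ := Subgroup.mem_inf.1 hb
    have : a = 1 := hbij.1 (Subtype.ext (by
      show ((a ^ (P : Subgroup G).index : CommGroup.primaryComponent A p) : A) = _
      rw [← hσ, MonoidHom.mem_ker.1 hb2]
      show (1 : A) = ((1 ^ (P : Subgroup G).index : CommGroup.primaryComponent A p) : A)
      rw [one_pow, Subgroup.coe_one]))
    rw [Subgroup.mem_bot, this, map_one]
  · obtain ⟨a, ha⟩ := hbij.2 ⟨g b, hgp b⟩
    have hab : g (σ a) = g b := (hσ a).trans (congrArg Subtype.val ha)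
    rw [show b = σ a * ((σ a)⁻¹ * b) by group]
    exact Subgroup.mul_mem_sup ⟨a, rfl⟩ (by rw [MonoidHom.mem_ker, map_mul, map_inv, hab,
      inv_mul_cancel])

end Cfsg.Agent.S3953
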