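import Cfsg.Statements.S3954
import Cfsg.Agent.Lib.Solv.SchurSub

set_option autoImplicit false
set_option linter.style.haveILetI false
open Cfsg

open scoped Pointwise commutatorElement

namespace Cfsg.Agent.S3954

/-- Let `U` be a subgroup of index `m` in the finite group `G`, let `A` be the Schur multiplier of `G` and `B` that of `U`. Then the subgroup of `m`-th powers of `A` is isomorphic to a subgroup of `B`. -/
theorem result {G : Type*} [Group G] [Finite G] (U : Subgroup G) {A B : Type*} [CommGroup A] [CommGroup B] (hA : Cfsg.HasSchurMultiplier G A) (hB : Cfsg.HasSchurMultiplier U B) : ∃ C : Subgroup B, Nonempty ((powMonoidHom U.index : A →* A).range ≃* C) := by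
  obtain ⟨eA⟩ := Solv.mult_iso _ (Solv.allGen_surjective G) hA
  obtain ⟨eB⟩ := Solv.mult_iso _ (Solv.allGen_surjective U) hB
  have := Solv.finite_relD _ (Solv.allGen_surjective G)
  have := Solv.finite_relD _ (Solv.allGen_surjective U)
  have : Finite B := Finite.of_equiv _ eB.toEquiv
  obtain ⟨s, j, hsj⟩ := Solv.exists_res_cores _ (Solv.allGen_surjective G) U
  let g : B →* A := eA.toMonoidHom.comp (j.comp eB.symm.toMonoidHom)
  let s' : A →* B := eB.toMonoidHom.comp (s.comp eA.symm.toMonoidHom)
  have hgs : ∀ a, g (s' a) = a ^ U.index := fun a => by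
    show eA (j (eB.symm (eB (s (eA.symm a))))) = _
    rw [eB.symm_apply_apply, hsj, map_pow, eA.apply_symm_apply]
  have hmem : ∀ b : s'.range, g b.1 ∈ (powMonoidHom U.index : A →* A).range := by
    rintro ⟨_, a, rfl⟩
    exact ⟨a, (hgs a).symm⟩
  let f : s'.range →* (powMonoidHom U.index : A →* A).range :=
    (g.comp s'.range.subtype).codRestrict _ hmem
  have hf : Function.Surjective f := by
    rintro ⟨_, a, rfl⟩
    exact ⟨⟨_, a, rfl⟩, Subtype.ext (hgs a)⟩
  obtain ⟨C, ⟨e⟩⟩ := Solv.exists_subgroup_equiv_of_surjective f hf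
  exact ⟨C.map s'.range.subtype,
    ⟨e.trans (C.equivMapOfInjective _ s'.range.subtype_injective)⟩⟩

end Cfsg.Agent.S3954
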