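import Cfsg.Statements.S3958
import Cfsg.Agent.Lib.Solv.SchurProj

set_option autoImplicit false
set_option linter.style.haveILetI false
universe u v
open Cfsg

open scoped Pointwise commutatorElement

namespace Cfsg.Agent.S3958

/-- Let `σ : Γ →* Q` be a finite stem extension of the finite group `Q` with `Γ` of trivial Schur multiplier. Then `σ` is a Schur covering group of `Q`: for every finite stem extension `τ : Δ →* Q` with `Δ` in the same universe as `Q`, the kernel of `τ` is a homomorphic image of the kernel of `σ`. -/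
theorem result {Q : Type u} [Group Q] [Finite Q] {Γ : Type v} [Group Γ] [Finite Γ] (σ : Γ →* Q) (hσ : Cfsg.IsStemExtension σ) (hΓ : Cfsg.HasCyclicSchurMultiplier Γ 1) (Δ : Type u) [Group Δ] [Finite Δ] (τ : Δ →* Q) (hτ : Cfsg.IsStemExtension τ) : ∃ π : σ.ker →* τ.ker, Function.Surjective π := by
  obtain ⟨e⟩ := Solv.mult_iso _ (Solv.allGen_surjective Γ) hΓ
  have : Subsingleton (Solv.relD (Solv.allGen Γ)) := e.toEquiv.subsingleton
  obtain ⟨φ, hφ⟩ := Solv.exists_lift_over (Solv.allGen Q) σ hσ.1 hσ.2.1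
  obtain ⟨φ', hφ'⟩ := Solv.exists_lift_over (Solv.allGen Q) τ hτ.1 hτ.2.1
  refine Solv.exists_surj_of_ker_le _ (Solv.allGen_surjective Q) σ hσ τ hτ φ hφ φ' hφ'
    fun d hd hd1 => ?_
  let P : Subgroup (Γ × Δ) :=
    (σ.comp (MonoidHom.fst Γ Δ)).eqLocus (τ.comp (MonoidHom.snd Γ Δ))
  let ξ : P →* Γ := (MonoidHom.fst Γ Δ).comp P.subtype
  have hξs : Function.Surjective ξ := fun g => by
    obtain ⟨x, hx⟩ := hτ.1 (σ g)
    exact ⟨⟨(g, x), hx.symm⟩, rfl⟩
  have hξc : ξ.ker ≤ Subgroup.center P := by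
    rintro ⟨⟨a, b⟩, hab⟩ hk
    have ha : a = 1 := hk
    subst ha
    have hb : b ∈ Subgroup.center Δ := hτ.2.1 (by
      have : σ 1 = τ b := hab
      rw [map_one] at this
      exact this.symm)
    refine Subgroup.mem_center_iff.2 fun p => Subtype.ext (Prod.ext ?_ ?_)
    · show p.1.1 * 1 = 1 * p.1.1
      rw [one_mul, mul_one]
    · exact Subgroup.mem_center_iff.1 hb p.1.2
  let η : Solv.CExt (Solv.allGen Q) →* P := (φ.prod φ').codRestrict P fun c =>
    (DFunLike.congr_fun hφ c).trans (DFunLike.congr_fun hφ' c).symm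
  have hmem : η d ∈ ξ.ker ⊓ commutator P := by
    refine Subgroup.mem_inf.2 ⟨hd1, ?_⟩
    have h1 : η d ∈ (commutator (Solv.CExt (Solv.allGen Q))).map η :=
      Subgroup.mem_map_of_mem _ (Solv.relD_le_commutator _ hd)
    rw [commutator_def, Subgroup.map_commutator] at h1
    exact Subgroup.commutator_mono le_top le_top h1
  rw [Solv.ker_inf_commutator_eq_bot _ (Solv.allGen_surjective Γ) ξ hξs hξc, Subgroup.mem_bot]
    at hmem
  exact congrArg (fun p : P => p.1.2) hmem

end Cfsg.Agent.S3958
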