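import Cfsg.Statements.S3961
import Cfsg.Agent.Lib.Solv.Universal
import Cfsg.Agent.Lib.Solv.SchurSmall

set_option autoImplicit false
set_option linter.style.haveILetI false
universe u v
open Cfsg

open scoped Pointwise commutatorElement

namespace Cfsg.Agent.S3961

/-- Let `π : G →* Q` be a surjective homomorphism with central kernel from a finite perfect group `G` (a perfect cover of `Q`). Then `π` is universal, in the sense that every surjective homomorphism `ξ : X →* Q` with central kernel from a group `X` in the universe of `G` admits a homomorphism `η : G →* X` with `ξ ∘ η = π`, if and only if `G` has trivial Schur multiplier. -/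
theorem result {G : Type u} {Q : Type v} [Group G] [Group Q] [Finite G] (hG : Group.IsPerfect G) (π : G →* Q) (hπ : Function.Surjective π) (hker : π.ker ≤ Subgroup.center G) : (∀ (X : Type u) [Group X] (ξ : X →* Q), Function.Surjective ξ → ξ.ker ≤ Subgroup.center X → ∃ η : G →* X, ξ.comp η = π) ↔ Cfsg.HasCyclicSchurMultiplier G 1 := by
  constructor
  · intro h
    refine Solv.hasCyclicSchur_one_of fun Γ _ _ σ hσ k hk => ?_
    obtain ⟨hs, hc, hd⟩ := hσ
    set K := (π.comp σ).ker with hK
    -- `Γ` is perfect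
    have hΓ : Group.IsPerfect Γ := by
      rw [Group.isPerfect_def, ← top_le_iff]
      intro y _
      have h1 : σ y ∈ (commutator Γ).map σ := by
        rw [commutator_def, Subgroup.map_commutator, ← MonoidHom.range_eq_map,
          σ.range_eq_top_of_surjective hs, ← commutator_def, hG.commutator_eq_top]
        exact Subgroup.mem_top _
      obtain ⟨z, hz, hzy⟩ := h1
      rw [show y = z * (z⁻¹ * y) by group]
      exact mul_mem hz (hd (by rw [MonoidHom.mem_ker, map_mul, map_inv, hzy, inv_mul_cancel]))
    -- so the composite is a central extension of `Q`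
    have hKc : K ≤ Subgroup.center Γ := by
      have hKΓ : ⁅K, (⊤ : Subgroup Γ)⁆ ≤ Subgroup.center Γ := by
        refine le_trans ?_ hc
        rw [Subgroup.commutator_le]
        intro a ha b _
        rw [MonoidHom.mem_ker, map_commutatorElement, commutatorElement_eq_one_iff_mul_comm]
        exact (Subgroup.mem_center_iff.1 (hker (show σ a ∈ π.ker from ha)) _).symm
      have h1 : ⁅⁅K, (⊤ : Subgroup Γ)⁆, (⊤ : Subgroup Γ)⁆ = ⊥ := by
        rw [Subgroup.commutator_eq_bot_iff_le_centralizer]
        exact hKΓ.trans (Subgroup.center_le_centralizer _)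
      have h2 : ⁅⁅(⊤ : Subgroup Γ), K⁆, (⊤ : Subgroup Γ)⁆ = ⊥ := by rwa [Subgroup.commutator_comm ⊤ K]
      have h3 := Subgroup.commutator_commutator_eq_bot_of_rotate h2 h1
      rw [← commutator_def, hΓ.commutator_eq_top, Subgroup.commutator_eq_bot_iff_le_centralizer] at h3
      intro a ha
      rw [Subgroup.mem_center_iff]
      intro y
      exact (Subgroup.mem_centralizer_iff.1 (h3 (Subgroup.mem_top y)) a ha).symm
    obtain ⟨s, hη⟩ := h Γ (π.comp σ) (hπ.comp hs) hKc
    have hid : σ.comp s = MonoidHom.id G := Solv.hom_unique_of_perfect hG π hker (by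
      rw [MonoidHom.comp_id, ← MonoidHom.comp_assoc, hη])
    -- `Γ = s G × ker σ`
    have htop : commutator Γ ≤ s.range := by
      rw [commutator_def, Subgroup.commutator_le]
      intro a _ b _
      refine ⟨⁅σ a, σ b⁆, ?_⟩
      rw [map_commutatorElement]
      have e : ∀ a : Γ, ∃ z ∈ Subgroup.center Γ, s (σ a) = a * z := fun a => ⟨a⁻¹ * s (σ a), hc (by
        rw [MonoidHom.mem_ker, map_mul, map_inv, show σ (s (σ a)) = σ a from DFunLike.congr_fun hid (σ a),
          inv_mul_cancel]), by group⟩
      obtain ⟨z, hz, hza⟩ := e a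
      obtain ⟨w, hw, hwb⟩ := e b
      rw [hza, hwb]
      have e1 : ∀ (a b c : Γ), c ∈ Subgroup.center Γ → ⁅a * c, b⁆ = ⁅a, b⁆ := fun a b c hc => by
        rw [show ⁅a * c, b⁆ = a * (c * b) * c⁻¹ * a⁻¹ * b⁻¹ by simp only [commutatorElement_def]; group,
          ← Subgroup.mem_center_iff.1 hc b, commutatorElement_def]
        group
      rw [e1 _ _ _ hz, ← commutatorElement_inv, e1 _ _ _ hw, commutatorElement_inv]
    obtain ⟨g, rfl⟩ := htop (hd hk)
    have hg : σ (s g) = g := DFunLike.congr_fun hid g
    rw [MonoidHom.mem_ker.1 hk] at hg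
    rw [← hg, map_one]
  · intro h X _ ξ hξ hξc
    haveI : Finite Q := Finite.of_surjective π hπ
    have hQ : Group.IsPerfect Q := Group.IsPerfect.ofSurjective hπ
    obtain ⟨D, _, _, ψ, φ, hD, hψ, hcomp, hDc⟩ := Solv.exists_common_cover hQ hG π hπ hker ξ hξ hξc
    -- `ψ` is a stem extension of `G`, hence an isomorphism
    have hψk : ψ.ker ≤ (π.comp ψ).ker := fun d hd => by
      rw [MonoidHom.mem_ker, MonoidHom.comp_apply, MonoidHom.mem_ker.1 hd, map_one]
    obtain ⟨p, hp⟩ := h.2 D ψ ⟨hψ, hψk.trans hDc, fun d _ => hD.mem_commutator⟩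
    haveI : Subsingleton ψ.ker := hp.subsingleton
    have hinj : Function.Injective ψ := (injective_iff_map_eq_one ψ).2 fun d hd =>
      congrArg Subtype.val (Subsingleton.elim (⟨d, hd⟩ : ψ.ker) 1)
    let e : D ≃* G := MulEquiv.ofBijective ψ ⟨hinj, hψ⟩
    refine ⟨φ.comp e.symm.toMonoidHom, MonoidHom.ext fun g => ?_⟩
    show ξ (φ (e.symm g)) = π g
    have h1 : ψ (e.symm g) = g := e.apply_symm_apply g
    rw [← show π (ψ (e.symm g)) = ξ (φ (e.symm g)) from DFunLike.congr_fun hcomp _, h1]

end Cfsg.Agent.S3961
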