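import Cfsg.Statements.S3962
import Cfsg.Agent.Lib.Solv.Basic

set_option autoImplicit false
open Cfsg

open scoped Pointwise commutatorElement

namespace Cfsg.Agent.S3962

/-- Let `G` be a perfect group and `π : G →* Q` a surjective homomorphism whose kernel is central. Then `π` maps the centre of `G` onto the centre of `Q`. Taking `π` to be the map to `G ⧸ Z(G)` shows that the central quotient of a perfect group has trivial centre. -/
theorem result {G Q : Type*} [Group G] [Group Q] (hG : Group.IsPerfect G) (π : G →* Q) (hπ : Function.Surjective π) (hker : π.ker ≤ Subgroup.center G) : (Subgroup.center G).map π = Subgroup.center Q := by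
  apply le_antisymm
  · rintro _ ⟨z, hz, rfl⟩
    rw [Subgroup.mem_center_iff]
    intro q
    obtain ⟨g, rfl⟩ := hπ q
    rw [← map_mul, ← map_mul, Subgroup.mem_center_iff.1 hz g]
  · intro q hq
    obtain ⟨g, rfl⟩ := hπ q
    refine ⟨g, ?_, rfl⟩
    have hcomm : ∀ x : G, ⁅g, x⁆ ∈ Subgroup.center G := fun x => hker <| by
      rw [MonoidHom.mem_ker, map_commutatorElement, commutatorElement_eq_one_iff_mul_comm]
      exact (Subgroup.mem_center_iff.1 hq _).symm
    let f : G →* G :=
      { toFun := fun x => ⁅g, x⁆
        map_one' := commutatorElement_one_right g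
        map_mul' := fun x y => by
          have hz := Subgroup.mem_center_iff.1 (hcomm y) x
          have e : ⁅g, x * y⁆ = ⁅g, x⁆ * (x * ⁅g, y⁆ * x⁻¹) := by
            simp only [commutatorElement_def]; group
          rw [e, hz, mul_inv_cancel_right] }
    have hle : commutator G ≤ f.ker := by
      rw [commutator_def, Subgroup.commutator_le]
      intro a _ b _
      rw [MonoidHom.mem_ker, map_commutatorElement, commutatorElement_eq_one_iff_mul_comm]
      exact (Subgroup.mem_center_iff.1 (hcomm a) _).symm
    have htop : commutator G = ⊤ := Group.isPerfect_def.1 hG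
    rw [SetLike.mem_coe, Subgroup.mem_center_iff]
    intro x
    have : f x = 1 := hle (htop ▸ Subgroup.mem_top x)
    exact (commutatorElement_eq_one_iff_mul_comm.1 this).symm

end Cfsg.Agent.S3962
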