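import Cfsg.Statements.S3963
import Cfsg.Agent.Lib.Solv.SchurSmall

set_option autoImplicit false
set_option linter.style.haveILetI false
open Cfsg

open scoped Pointwise commutatorElement

namespace Cfsg.Agent.S3963

/-- For every `n ≥ 1` the dicyclic (generalized quaternion) group of order `4 n` has trivial Schur multiplier. -/
theorem result (n : ℕ) [NeZero n] : Cfsg.HasCyclicSchurMultiplier (QuaternionGroup n) 1 := by
  refine Solv.hasCyclicSchur_one_of fun Γ _ _ σ hσ k hk => ?_
  set r : QuaternionGroup n := QuaternionGroup.a 1 with hr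
  set s : QuaternionGroup n := QuaternionGroup.xa 0 with hs
  have hgen : Subgroup.closure ({r, s} : Set (QuaternionGroup n)) = ⊤ := by
    refine top_le_iff.1 ?_
    rintro (i | i) -
    · obtain ⟨j, rfl⟩ := ZMod.natCast_zmod_surjective i
      rw [← QuaternionGroup.a_one_pow]
      exact pow_mem (Subgroup.subset_closure (show r ∈ ({r, s} : Set _) by simp)) j
    · obtain ⟨j, rfl⟩ := ZMod.natCast_zmod_surjective i
      rw [show QuaternionGroup.xa (j : ZMod (2 * n)) = s * QuaternionGroup.a (j : ZMod (2 * n)) by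
        rw [hs, QuaternionGroup.xa_mul_a, zero_add], ← QuaternionGroup.a_one_pow]
      exact mul_mem (Subgroup.subset_closure (show s ∈ ({r, s} : Set _) by simp)) (pow_mem (Subgroup.subset_closure (show r ∈ ({r, s} : Set _) by simp)) j)
  have hrs : s * r * s⁻¹ = r⁻¹ := by
    rw [eq_inv_iff_mul_eq_one, hs, hr, mul_assoc, mul_eq_one_iff_eq_inv, mul_inv_rev]
    rw [QuaternionGroup.xa_mul_a, eq_inv_mul_iff_mul_eq, QuaternionGroup.a_mul_xa, inv_inv]
    congr 1; ring
  obtain ⟨a, x, z, w, ha, hx, hzc, hxa, hw, hσw, hker⟩ := Solv.dihedral_type σ hσ r s hgen hrs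
  have hw1 : w ^ n = 1 := by
    refine Solv.w_pow_eq_one hzc hxa hw ?_
    have hk2 : a ^ n * (x ^ 2)⁻¹ ∈ Subgroup.center Γ := by
      refine hσ.2.1 ?_
      rw [MonoidHom.mem_ker, map_mul, map_inv, map_pow, map_pow, ha, hx, mul_inv_eq_one, hr, hs,
        QuaternionGroup.a_one_pow, pow_two, QuaternionGroup.xa_mul_xa, add_zero, sub_zero]
    have e := (Subgroup.mem_center_iff.1 hk2 x)
    calc x * a ^ n * x⁻¹ = (x * (a ^ n * (x ^ 2)⁻¹)) * x := by group
      _ = (a ^ n * (x ^ 2)⁻¹) * x * x := by rw [e]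
      _ = a ^ n := by group
  obtain ⟨i, hi⟩ := hker hk
  have hi : w ^ i = k := hi
  have hord : orderOf (σ w) = n := by
    rw [hσw, orderOf_pow, hr, QuaternionGroup.orderOf_a_one, Nat.gcd_eq_right (dvd_mul_right 2 n),
      Nat.mul_div_cancel_left _ two_pos]
  have hd : (n : ℤ) ∣ i := by
    rw [← hord, orderOf_dvd_iff_zpow_eq_one, ← map_zpow, hi]
    exact hk
  obtain ⟨j, rfl⟩ := hd
  rw [← hi, zpow_mul, zpow_natCast, hw1, one_zpow]

end Cfsg.Agent.S3963
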