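import Cfsg.Statements.S3964
import Cfsg.Agent.Lib.Solv.SchurSmall

set_option autoImplicit false
set_option linter.style.haveILetI false
open Cfsg

open scoped Pointwise commutatorElement

namespace Cfsg.Agent.S3964

/-- For odd `n` the dihedral group of order `2 n` has trivial Schur multiplier. -/
theorem result (n : ℕ) (hn : Odd n) : Cfsg.HasCyclicSchurMultiplier (DihedralGroup n) 1 := by
  haveI : NeZero n := ⟨fun h => by rw [h] at hn; exact absurd hn (by decide)⟩
  refine Solv.hasCyclicSchur_one_of fun Γ _ _ σ hσ k hk => ?_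
  set r : DihedralGroup n := DihedralGroup.r 1 with hr
  set s : DihedralGroup n := DihedralGroup.sr 0 with hs
  have hgen : Subgroup.closure ({r, s} : Set (DihedralGroup n)) = ⊤ := by
    refine top_le_iff.1 ?_
    rintro (i | i) -
    · obtain ⟨j, rfl⟩ := ZMod.natCast_zmod_surjective i
      rw [← DihedralGroup.r_one_pow]
      exact pow_mem (Subgroup.subset_closure (show r ∈ ({r, s} : Set _) by simp)) j
    · obtain ⟨j, rfl⟩ := ZMod.natCast_zmod_surjective i
      rw [show DihedralGroup.sr (j : ZMod n) = s * DihedralGroup.r (j : ZMod n) by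
        rw [hs, DihedralGroup.sr_mul_r, zero_add], ← DihedralGroup.r_one_pow]
      exact mul_mem (Subgroup.subset_closure (show s ∈ ({r, s} : Set _) by simp)) (pow_mem (Subgroup.subset_closure (show r ∈ ({r, s} : Set _) by simp)) j)
  have hrs : s * r * s⁻¹ = r⁻¹ := by
    rw [hs, hr, DihedralGroup.inv_sr, DihedralGroup.sr_mul_r, DihedralGroup.sr_mul_sr, DihedralGroup.inv_r]
    congr 1; ring
  obtain ⟨a, x, z, w, ha, hx, hzc, hxa, hw, hσw, hker⟩ := Solv.dihedral_type σ hσ r s hgen hrs
  have hw1 : w ^ n = 1 := by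
    refine Solv.w_pow_eq_one hzc hxa hw ?_
    have hk2 : a ^ n ∈ Subgroup.center Γ := hσ.2.1 (by
      rw [MonoidHom.mem_ker, map_pow, ha, hr, DihedralGroup.r_one_pow_n])
    rw [Subgroup.mem_center_iff.1 hk2 x, mul_inv_cancel_right]
  obtain ⟨i, hi⟩ := hker hk
  have hi : w ^ i = k := hi
  have hord : orderOf (σ w) = n := by
    rw [hσw, orderOf_pow, hr, DihedralGroup.orderOf_r_one, (Nat.coprime_two_right.2 hn).gcd_eq_one,
      Nat.div_one]
  have hd : (n : ℤ) ∣ i := by
    rw [← hord, orderOf_dvd_iff_zpow_eq_one, ← map_zpow, hi]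
    exact hk
  obtain ⟨j, rfl⟩ := hd
  rw [← hi, zpow_mul, zpow_natCast, hw1, one_zpow]

end Cfsg.Agent.S3964
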