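import Cfsg.Statements.S3965
import Cfsg.Agent.Lib.Solv.SchurSmall
import Cfsg.Agent.S3966

set_option autoImplicit false
set_option linter.style.haveILetI false
open Cfsg

open scoped Pointwise commutatorElement

namespace Cfsg.Agent.S3965

/-- For even `n ≥ 2` the dihedral group of order `2 n` has Schur multiplier cyclic of order `2`. -/
theorem result (n : ℕ) [NeZero n] (hn : Even n) : Cfsg.HasCyclicSchurMultiplier (DihedralGroup n) 2 := by
  refine Solv.hasCyclicSchur_of ?_ fun Γ _ _ σ hσ => ?_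
  · obtain ⟨σ, hσ, hc⟩ := S3966.result n hn
    haveI : Fact (Nat.Prime 2) := ⟨Nat.prime_two⟩
    exact ⟨QuaternionGroup n, inferInstance, inferInstance, σ, hσ,
      ⟨mulEquivOfPrimeCardEq (p := 2) hc (by simp)⟩⟩
  obtain ⟨m, rfl⟩ := even_iff_two_dvd.1 hn
  set r : DihedralGroup (2 * m) := DihedralGroup.r 1 with hr
  set s : DihedralGroup (2 * m) := DihedralGroup.sr 0 with hs
  have hgen : Subgroup.closure ({r, s} : Set (DihedralGroup (2 * m))) = ⊤ := by
    refine top_le_iff.1 ?_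
    rintro (i | i) -
    · obtain ⟨j, rfl⟩ := ZMod.natCast_zmod_surjective i
      rw [← DihedralGroup.r_one_pow]
      exact pow_mem (Subgroup.subset_closure (show r ∈ ({r, s} : Set _) by simp)) j
    · obtain ⟨j, rfl⟩ := ZMod.natCast_zmod_surjective i
      rw [show DihedralGroup.sr (j : ZMod (2 * m)) = s * DihedralGroup.r (j : ZMod (2 * m)) by
        rw [hs, DihedralGroup.sr_mul_r, zero_add], ← DihedralGroup.r_one_pow]
      exact mul_mem (Subgroup.subset_closure (show s ∈ ({r, s} : Set _) by simp)) (pow_mem (Subgroup.subset_closure (show r ∈ ({r, s} : Set _) by simp)) j)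
  have hrs : s * r * s⁻¹ = r⁻¹ := by
    rw [hs, hr, DihedralGroup.inv_sr, DihedralGroup.sr_mul_r, DihedralGroup.sr_mul_sr, DihedralGroup.inv_r]
    congr 1; ring
  obtain ⟨a, x, z, w, ha, hx, hzc, hxa, hw, hσw, hker⟩ := Solv.dihedral_type σ hσ r s hgen hrs
  have hw1 : w ^ (2 * m) = 1 := by
    refine Solv.w_pow_eq_one hzc hxa hw ?_
    have hk2 : a ^ (2 * m) ∈ Subgroup.center Γ := hσ.2.1 (by
      rw [MonoidHom.mem_ker, map_pow, ha, hr, DihedralGroup.r_one_pow_n])
    rw [Subgroup.mem_center_iff.1 hk2 x, mul_inv_cancel_right]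
  have hord : orderOf (σ w) = m := by
    rw [hσw, orderOf_pow, hr, DihedralGroup.orderOf_r_one, Nat.gcd_eq_right (dvd_mul_right 2 m),
      Nat.mul_div_cancel_left _ two_pos]
  have hwk : w ^ m ∈ σ.ker := by
    have h1 := pow_orderOf_eq_one (σ w)
    rw [hord] at h1
    rwa [MonoidHom.mem_ker, map_pow]
  refine ⟨⟨w ^ m, hwk⟩, Subtype.ext ?_, fun k => ?_⟩
  · show (w ^ m) ^ 2 = 1
    rw [← pow_mul, mul_comm, hw1]
  · obtain ⟨i, hi⟩ := hker k.2
    have hi : w ^ i = (k : Γ) := hi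
    have hd : (m : ℤ) ∣ i := by
      rw [← hord, orderOf_dvd_iff_zpow_eq_one, ← map_zpow, hi]
      exact k.2
    obtain ⟨j, rfl⟩ := hd
    refine ⟨j, Subtype.ext ?_⟩
    show (w ^ m) ^ j = (k : Γ)
    rw [← hi, zpow_mul, zpow_natCast]

end Cfsg.Agent.S3965
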