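import Cfsg.Statements.S3967
import Cfsg.Agent.Lib.Solv.SchurMult

set_option autoImplicit false
open Cfsg
open Cfsg.Agent

namespace Cfsg.Agent.S3967

theorem conj_pow_twist {G : Type*} [Group G] {A B z : G} {r : ℕ} (h : B * A * B⁻¹ = A ^ r * z)
    (hz : ∀ g, Commute z g) : ∀ j : ℕ,
      B ^ j * A * (B ^ j)⁻¹ = A ^ (r ^ j) * z ^ (∑ i ∈ Finset.range j, r ^ i) := by
  intro j
  induction j with
  | zero => simp
  | succ j ih =>
    rw [pow_succ', show B * B ^ j * A * (B * B ^ j)⁻¹ = B * (B ^ j * A * (B ^ j)⁻¹) * B⁻¹ by group, ih,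
      ← MulAut.conj_apply, map_mul, map_pow, map_pow, MulAut.conj_apply, MulAut.conj_apply, h,
      ((hz (A ^ r)).symm).mul_pow, ← pow_mul, ← pow_succ', Finset.sum_range_succ,
      show B * z * B⁻¹ = z from mul_inv_eq_iff_eq_mul.2 (hz B).eq.symm, mul_assoc, ← pow_add,
      add_comm (r ^ j)]

/-- A finite set closed under left multiplication by generators, containing one, is everything. -/
theorem finite_of_gen {G : Type*} [Group G] {s : Set G} (hs : Subgroup.closure s = ⊤) (S : Set G)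
    (hS : S.Finite) (h1 : (1 : G) ∈ S) (hmul : ∀ g ∈ s, ∀ x ∈ S, g * x ∈ S) : Finite G := by
  have hinv : ∀ g ∈ s, ∀ x ∈ S, g⁻¹ * x ∈ S := by
    intro g hg x hx
    have himg : (fun y => g * y) '' S = S :=
      Set.eq_of_subset_of_ncard_le (Set.image_subset_iff.2 (hmul g hg))
        (Set.ncard_image_of_injective _ (mul_right_injective g)).ge hS
    rw [← himg] at hx
    obtain ⟨y, hy, rfl⟩ := hx
    rwa [inv_mul_cancel_left]
  refine Set.finite_univ_iff.1 (hS.subset fun g hgu => ?_)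
  clear hgu
  have hg : g ∈ Subgroup.closure s := hs ▸ Subgroup.mem_top g
  induction hg using Subgroup.closure_induction_left with
  | one => exact h1
  | mul_left x hx y _ ih => exact hmul x hx y ih
  | inv_mul_cancel x hx y _ ih => exact hinv x hx y ih

/-- The presented metacyclic group is finite. -/
theorem finite_metacyclic {G : Type*} [Group G] {a b : G} (hgen : Subgroup.closure {a, b} = ⊤)
    {m n r t : ℕ} (hm : 0 < m) (hn : 0 < n) (ha : a ^ m = 1) (hb : b ^ n = a ^ t)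
    (hab : b * a * b⁻¹ = a ^ r) : Finite G := by
  have hmod : ∀ i, a ^ (i % m) = a ^ i := fun i => by
    conv_rhs => rw [← Nat.mod_add_div i m, pow_add, pow_mul, ha, one_pow, mul_one]
  refine finite_of_gen hgen (Set.range fun x : Fin m × Fin n => a ^ (x.1 : ℕ) * b ^ (x.2 : ℕ))
    (Set.finite_range _) ⟨(⟨0, hm⟩, ⟨0, hn⟩), by simp⟩ ?_
  have hS : ∀ i j, j < n → a ^ i * b ^ j ∈ Set.range fun x : Fin m × Fin n => a ^ (x.1 : ℕ) * b ^ (x.2 : ℕ) :=
    fun i j hj => ⟨(⟨i % m, Nat.mod_lt _ hm⟩, ⟨j, hj⟩), by simp [hmod]⟩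
  rintro g hg _ ⟨⟨i, j⟩, rfl⟩
  rcases hg with rfl | rfl
  · show g * (g ^ (i : ℕ) * b ^ (j : ℕ)) ∈ _
    rw [← mul_assoc, ← pow_succ']
    exact hS _ _ j.2
  · show g * (a ^ (i : ℕ) * g ^ (j : ℕ)) ∈ _
    have e : g * (a ^ (i : ℕ) * g ^ (j : ℕ)) = a ^ (r * i) * g ^ ((j : ℕ) + 1) := by
      rw [pow_mul, ← hab, conj_pow, pow_succ']; group
    rw [e]
    rcases Nat.lt_or_ge ((j : ℕ) + 1) n with h | h
    · exact hS _ _ h
    · rw [show (j : ℕ) + 1 = n by omega, hb, ← pow_add, ← mul_one (a ^ (r * (i : ℕ) + t)), ← pow_zero g]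
      exact hS _ _ hn

/-- Let `m, n ≥ 1`, `r ≥ 1` with `r ^ n ≡ 1 (mod m)`, and `l` a natural number; put `d = gcd(m, r - 1)`, `t = m l / d` and `h = d · gcd(m, 1 + r + ⋯ + r^(n-1)) / m`. The group presented by generators `a, b` and relations `a ^ m = 1`, `b ^ n = a ^ t`, `b a b⁻¹ = a ^ r` (a metacyclic group of order `m n`) has Schur multiplier cyclic of order `gcd(l, h)`. -/
theorem result (m n r l : ℕ) (hm : 0 < m) (hn : 0 < n) (hr : 0 < r) (hrn : r ^ n ≡ 1 [MOD m]) : Cfsg.HasCyclicSchurMultiplier (PresentedGroup ({FreeGroup.of true ^ m, (FreeGroup.of false) ^ n * (FreeGroup.of true ^ (m * l / Nat.gcd m (r - 1)))⁻¹, FreeGroup.of false * FreeGroup.of true * (FreeGroup.of false)⁻¹ * (FreeGroup.of true ^ r)⁻¹} : Set (FreeGroup Bool))) (Nat.gcd l (Nat.gcd m (r - 1) * Nat.gcd m (∑ i ∈ Finset.range n, r ^ i) / m)) := by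
  classical
  obtain ⟨d, hd⟩ : ∃ d, d = Nat.gcd m (r - 1) := ⟨_, rfl⟩
  rw [← hd]
  have hd0 : 0 < d := hd ▸ Nat.gcd_pos_of_pos_left _ hm
  obtain ⟨m0, hm0⟩ : d ∣ m := hd ▸ Nat.gcd_dvd_left _ _
  obtain ⟨a0, ha0⟩ : d ∣ r - 1 := hd ▸ Nat.gcd_dvd_right _ _
  have hm0p : 0 < m0 := by
    rcases Nat.eq_zero_or_pos m0 with h | h
    · rw [h, mul_zero] at hm0; omega
    · exact h
  have hco : Nat.Coprime a0 m0 := by
    have h := hd
    rw [hm0, ha0, Nat.gcd_mul_left] at h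
    exact Nat.Coprime.symm (Nat.eq_of_mul_eq_mul_left hd0 (h.symm.trans (mul_one d).symm))
  obtain ⟨S, hS⟩ : ∃ S, S = ∑ i ∈ Finset.range n, r ^ i := ⟨_, rfl⟩
  rw [← hS]
  have hgeom : (r - 1) * S + 1 = r ^ n := by
    obtain ⟨x, hx⟩ : ∃ x, r = x + 1 := ⟨r - 1, by omega⟩
    rw [hS, hx, Nat.add_sub_cancel, mul_comm]
    exact geom_sum_mul_add x n
  obtain ⟨q, hq⟩ : m0 ∣ S := by
    have h1 : m ∣ (r - 1) * S := by
      have h := (Nat.modEq_iff_dvd' (by omega)).1 hrn.symm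
      rwa [← hgeom, Nat.add_sub_cancel] at h
    rw [hm0, ha0, mul_assoc] at h1
    exact hco.symm.dvd_of_dvd_mul_left ((Nat.mul_dvd_mul_iff_left hd0).1 h1)
  have hh : Nat.gcd m (r - 1) * Nat.gcd m S / m = Nat.gcd d q := by
    rw [← hd, hm0, hq, show d * m0 = m0 * d by ring, Nat.gcd_mul_left,
      show d * (m0 * Nat.gcd d q) = (m0 * d) * Nat.gcd d q by ring,
      Nat.mul_div_cancel_left _ (Nat.mul_pos hm0p hd0)]
  rw [← hd] at hh
  rw [hh, show m * l / d = m0 * l by rw [hm0, mul_assoc, Nat.mul_div_cancel_left _ hd0]]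
  obtain ⟨g, hg⟩ : ∃ g, g = Nat.gcd l (Nat.gcd d q) := ⟨_, rfl⟩
  rw [← hg]
  have hg0 : 0 < g := hg ▸ Nat.gcd_pos_of_pos_right _ (Nat.gcd_pos_of_pos_left _ hd0)
  obtain ⟨gl, hgl⟩ : g ∣ l := hg ▸ Nat.gcd_dvd_left _ _
  obtain ⟨gd, hgd⟩ : g ∣ d := hg ▸ (Nat.gcd_dvd_right _ _).trans (Nat.gcd_dvd_left _ _)
  obtain ⟨gq, hgq⟩ : g ∣ q := hg ▸ (Nat.gcd_dvd_right _ _).trans (Nat.gcd_dvd_right _ _)
  obtain ⟨rels, hrels⟩ : ∃ rels : Set (FreeGroup Bool), rels = {FreeGroup.of true ^ m,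
      (FreeGroup.of false) ^ n * (FreeGroup.of true ^ (m0 * l))⁻¹,
      FreeGroup.of false * FreeGroup.of true * (FreeGroup.of false)⁻¹ * (FreeGroup.of true ^ r)⁻¹} := ⟨_, rfl⟩
  rw [← hrels]
  obtain ⟨π, hπ⟩ : ∃ π : FreeGroup Bool →* PresentedGroup rels, π = PresentedGroup.mk rels := ⟨_, rfl⟩
  have hπs : Function.Surjective π := hπ ▸ PresentedGroup.mk_surjective rels
  have hker : π.ker = Subgroup.normalClosure rels := by rw [hπ]; exact QuotientGroup.ker_mk' _
  have hrel : ∀ x ∈ rels, π x = 1 := fun x hx => MonoidHom.mem_ker.1 (hker ▸ Subgroup.subset_normalClosure hx)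
  haveI : Finite (PresentedGroup rels) := by
    refine finite_metacyclic (a := π (FreeGroup.of true)) (b := π (FreeGroup.of false)) (m := m) (n := n)
      (r := r) (t := m0 * l) ?_ hm hn ?_ ?_ ?_
    · rw [← Set.image_pair, ← MonoidHom.map_closure,
        show ({FreeGroup.of true, FreeGroup.of false} : Set (FreeGroup Bool)) = Set.range FreeGroup.of by
          ext x; simp only [Set.mem_insert_iff, Set.mem_singleton_iff, Set.mem_range, Bool.exists_bool]; grind,
        FreeGroup.closure_range_of, Subgroup.map_top_of_surjective _ hπs]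
    · rw [← map_pow]; exact hrel _ (hrels ▸ Or.inl rfl)
    · refine eq_of_mul_inv_eq_one ?_
      rw [← map_pow, ← map_pow, ← map_inv, ← map_mul]
      exact hrel _ (hrels ▸ Or.inr (Or.inl rfl))
    · refine eq_of_mul_inv_eq_one ?_
      rw [← map_inv, ← map_mul, ← map_mul, ← map_pow, ← map_inv, ← map_mul]
      exact hrel _ (hrels ▸ Or.inr (Or.inr rfl))
  -- the universal central extension
  obtain ⟨A, hA⟩ : ∃ A : Solv.CExt π, A = QuotientGroup.mk (FreeGroup.of true) := ⟨_, rfl⟩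
  obtain ⟨B, hB⟩ : ∃ B : Solv.CExt π, B = QuotientGroup.mk (FreeGroup.of false) := ⟨_, rfl⟩
  obtain ⟨z1, hz1⟩ : ∃ z, z = A ^ m := ⟨_, rfl⟩
  obtain ⟨z2, hz2⟩ : ∃ z, z = B ^ n * (A ^ (m0 * l))⁻¹ := ⟨_, rfl⟩
  obtain ⟨z3, hz3⟩ : ∃ z, z = B * A * B⁻¹ * (A ^ r)⁻¹ := ⟨_, rfl⟩
  have hK : ∀ x ∈ rels, (QuotientGroup.mk x : Solv.CExt π) ∈ Solv.kerC π := fun x hx =>
    MonoidHom.mem_ker.2 ((Solv.extHom_mk π x).trans (hrel x hx))
  have hzK : z1 ∈ Solv.kerC π ∧ z2 ∈ Solv.kerC π ∧ z3 ∈ Solv.kerC π :=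
    ⟨hz1 ▸ hA ▸ hK _ (hrels ▸ Or.inl rfl), hz2 ▸ hA ▸ hB ▸ hK _ (hrels ▸ Or.inr (Or.inl rfl)),
      hz3 ▸ hA ▸ hB ▸ hK _ (hrels ▸ Or.inr (Or.inr rfl))⟩
  have hcen : ∀ z ∈ Solv.kerC π, ∀ x, Commute z x := fun z hz x =>
    (Subgroup.mem_center_iff.1 (Solv.kerC_central π hz) x).symm
  have hBA : B * A * B⁻¹ = A ^ r * z3 := by
    rw [← (hcen z3 hzK.2.2 (A ^ r)).eq, hz3, inv_mul_cancel_right]
  have hconj : ∀ k : ℕ, B * A ^ k * B⁻¹ = A ^ k * (A ^ ((r - 1) * k) * z3 ^ k) := fun k => by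
    rw [← conj_pow, hBA, (hcen z3 hzK.2.2 (A ^ r)).symm.mul_pow, ← pow_mul, ← mul_assoc, ← pow_add]
    congr 2
    obtain ⟨x, hx⟩ : ∃ x, r = x + 1 := ⟨r - 1, by omega⟩
    rw [hx, Nat.add_sub_cancel]; ring
  obtain ⟨w, hw⟩ : ∃ w, w = z1 ^ a0 * z3 ^ m0 := ⟨_, rfl⟩
  have hwpow : ∀ k, w ^ k = A ^ (m * (a0 * k)) * z3 ^ (m0 * k) := fun k => by
    rw [hw, (hcen z3 hzK.2.2 (z1 ^ a0)).symm.pow_right m0 |>.mul_pow, ← pow_mul, ← pow_mul, hz1, ← pow_mul]
  have hwd : w ^ d = 1 := by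
    have h := hconj m
    rw [show B * A ^ m * B⁻¹ = A ^ m from mul_inv_eq_iff_eq_mul.2 (hz1 ▸ (hcen z1 hzK.1 B).eq.symm), left_eq_mul] at h
    rw [hwpow, show m * (a0 * d) = (r - 1) * m by rw [ha0]; ring, show m0 * d = m by rw [hm0]; ring]
    exact h
  have hwl : w ^ l = 1 := by
    have hAt : A ^ (m0 * l) = z2⁻¹ * B ^ n := by rw [hz2]; group
    have hc : Commute B (A ^ (m0 * l)) := hAt ▸ ((hcen z2 hzK.2.1 B).symm.inv_right).mul_right (Commute.pow_right (Commute.refl B) n)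
    have h := hconj (m0 * l)
    rw [mul_inv_eq_iff_eq_mul.2 hc.eq, left_eq_mul] at h
    rw [hwpow, show m * (a0 * l) = (r - 1) * (m0 * l) by rw [ha0, hm0]; ring]
    exact h
  have hwq : w ^ q = 1 := by
    have hBn : B ^ n = z2 * A ^ (m0 * l) := by rw [hz2, inv_mul_cancel_right]
    have hc : Commute (B ^ n) A := hBn ▸ (hcen z2 hzK.2.1 A).mul_left ((Commute.refl A).pow_left _)
    have h := conj_pow_twist hBA (hcen z3 hzK.2.2) n
    rw [mul_inv_eq_iff_eq_mul.2 hc.eq, ← hS, ← hgeom, pow_succ', mul_assoc, left_eq_mul] at h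
    rw [hwpow, show m * (a0 * q) = (r - 1) * S by rw [hm0, ha0, hq]; ring, ← hq]
    exact h
  have hwg : w ^ g = 1 := hg ▸ pow_gcd_eq_one.2 ⟨hwl, pow_gcd_eq_one.2 ⟨hwd, hwq⟩⟩
  -- a group showing that the order is `g`
  obtain ⟨M, hM⟩ : ∃ M, M = g * m0 := ⟨_, rfl⟩
  haveI : NeZero M := ⟨hM ▸ (Nat.mul_pos hg0 hm0p).ne'⟩
  have hMm : (m : ZMod M) = 0 := by
    rw [ZMod.natCast_eq_zero_iff]
    exact ⟨gd, by rw [hM, hm0, hgd]; ring⟩
  have hMt : ((m0 * l : ℕ) : ZMod M) = 0 := (ZMod.natCast_eq_zero_iff _ _).2 ⟨gl, by rw [hM, hgl]; ring⟩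
  have hMS : (S : ZMod M) = 0 := (ZMod.natCast_eq_zero_iff _ _).2 ⟨gq, by rw [hM, hq, hgq]; ring⟩
  have hrn' : (r : ZMod M) ^ n = 1 := by
    rw [← Nat.cast_pow, ← hgeom, Nat.cast_add, Nat.cast_mul, hMS, mul_zero, zero_add, Nat.cast_one]
  obtain ⟨u, hu⟩ : ∃ u : (ZMod M)ˣ, (u : ZMod M) = r := ⟨Units.ofPowEqOne _ n hrn' (by omega), rfl⟩
  obtain ⟨β, hβ⟩ : ∃ β : MulAut (Multiplicative (ℤ × ZMod M)), ∀ (x : ℤ) (y : ZMod M),
      β (Multiplicative.ofAdd (x, y)) = Multiplicative.ofAdd (x, (x : ZMod M) + r * y) := by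
    refine ⟨{ toFun := fun v => Multiplicative.ofAdd (v.toAdd.1, (v.toAdd.1 : ZMod M) + r * v.toAdd.2)
              invFun := fun v => Multiplicative.ofAdd (v.toAdd.1, (↑u⁻¹ : ZMod M) * (v.toAdd.2 - (v.toAdd.1 : ZMod M)))
              left_inv := fun v => ?_
              right_inv := fun v => ?_
              map_mul' := fun v v' => ?_ }, fun _ _ => rfl⟩
    · simp [← hu]
    · simp [← hu]
    · apply Multiplicative.toAdd.injective
      ext <;> simp [mul_add]; ring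
  have hβpow : ∀ (j : ℕ) (x : ℤ) (y : ZMod M), (β ^ j) (Multiplicative.ofAdd (x, y)) =
      Multiplicative.ofAdd (x, (x : ZMod M) * (∑ i ∈ Finset.range j, (r : ZMod M) ^ i) + (r : ZMod M) ^ j * y) := by
    intro j
    induction j with
    | zero => intro x y; simp
    | succ j ih =>
      intro x y
      rw [pow_succ', MulAut.mul_apply, ih, hβ, geom_sum_succ, pow_succ']
      congr 2
      ring
  have hβn : β ^ n = 1 := by
    refine MulEquiv.ext fun v => ?_
    obtain ⟨⟨x, y⟩, rfl⟩ := Multiplicative.ofAdd.surjective v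
    rw [hβpow, hrn', show ∑ i ∈ Finset.range n, (r : ZMod M) ^ i = 0 by rw [← hMS, hS]; push_cast; rfl]
    simp
  let a' : Multiplicative (ℤ × ZMod M) := Multiplicative.ofAdd (1, 0)
  obtain ⟨φB, hφB⟩ : ∃ φ : Multiplicative ℤ →* MulAut (Multiplicative (ℤ × ZMod M)), φ = zpowersHom _ β := ⟨_, rfl⟩
  let X := SemidirectProduct (Multiplicative (ℤ × ZMod M)) (Multiplicative ℤ) φB
  let xa : X := SemidirectProduct.inl a'
  let xb : X := SemidirectProduct.inr (Multiplicative.ofAdd 1)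
  obtain ⟨ψ, hψ⟩ : ∃ ψ : FreeGroup Bool →* X, ψ (FreeGroup.of true) = xa ∧ ψ (FreeGroup.of false) = xb :=
    ⟨FreeGroup.lift fun b => if b then xa else xb, by simp, by simp⟩
  have hbconj : ∀ v, xb * SemidirectProduct.inl v * xb⁻¹ = SemidirectProduct.inl (β v) := fun v => by
    show SemidirectProduct.inr _ * SemidirectProduct.inl v * (SemidirectProduct.inr _)⁻¹ = _
    rw [← map_inv, ← SemidirectProduct.inl_aut, hφB]
    simp
  have hpa : ∀ k : ℕ, a' ^ k = Multiplicative.ofAdd ((k : ℤ), (0 : ZMod M)) := fun k => by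
    rw [← ofAdd_nsmul]; congr 1; ext <;> simp
  have hcentral : ∀ z : X, Commute z xa → Commute z xb → Commute z (SemidirectProduct.inl (Multiplicative.ofAdd ((0 : ℤ), (1 : ZMod M)))) → z ∈ Subgroup.center X := by
    intro z h1 h2 h3
    refine Subgroup.mem_center_iff.2 fun x => ?_
    have hi : ∀ v, Commute z (SemidirectProduct.inl v) := by
      intro v
      obtain ⟨⟨i, j⟩, rfl⟩ := Multiplicative.ofAdd.surjective v
      have e : Multiplicative.ofAdd (i, j) = a' ^ i * Multiplicative.ofAdd ((0 : ℤ), (1 : ZMod M)) ^ j.val := by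
        rw [← ofAdd_zsmul, ← ofAdd_nsmul, ← ofAdd_add]; congr 1; ext <;> simp
      rw [e, map_mul, map_zpow, map_pow]
      exact (h1.zpow_right i).mul_right (h3.pow_right _)
    rw [← SemidirectProduct.inl_left_mul_inr_right x]
    refine ((hi _).mul_right ?_).eq.symm
    have e : x.right = Multiplicative.ofAdd 1 ^ x.right.toAdd := by rw [← ofAdd_zsmul]; simp
    rw [e, map_zpow]
    exact h2.zpow_right _
  have hinl : ∀ v, Commute (SemidirectProduct.inl v : X) xa := fun v => by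
    show SemidirectProduct.inl v * SemidirectProduct.inl a' = SemidirectProduct.inl a' * SemidirectProduct.inl v
    rw [← map_mul, ← map_mul, mul_comm]
  have hinlcen : ∀ v, β v = v → (SemidirectProduct.inl v : X) ∈ Subgroup.center X := fun v hv =>
    hcentral _ (hinl v) ((mul_inv_eq_iff_eq_mul.1 ((hbconj v).trans (congrArg _ hv))).symm) (by
      show SemidirectProduct.inl v * _ = _ * SemidirectProduct.inl v
      rw [← map_mul, ← map_mul, mul_comm])
  have hψrel : ∀ x ∈ rels, ψ x ∈ Subgroup.center X := by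
    rw [hrels]
    rintro x (rfl | rfl | rfl)
    · rw [map_pow, hψ.1, ← map_pow, hpa]
      refine hinlcen _ ?_
      rw [hβ, Int.cast_natCast, hMm, mul_zero, zero_add]
    · rw [map_mul, map_pow, map_inv, map_pow, hψ.1, hψ.2]
      have hpn : (SemidirectProduct.inl (a' ^ (m0 * l)) : X) ∈ Subgroup.center X := hinlcen _ (by
        rw [hpa, hβ, Int.cast_natCast, hMt, mul_zero, zero_add])
      rw [← map_pow SemidirectProduct.inl]
      refine mul_mem ?_ (inv_mem hpn)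
      have hfix : ∀ v, Commute (xb ^ n) (SemidirectProduct.inl v : X) := fun v => by
        refine (mul_inv_eq_iff_eq_mul (a := xb ^ n * SemidirectProduct.inl v)).1 ?_
        show (SemidirectProduct.inr (Multiplicative.ofAdd (1 : ℤ)) : X) ^ n * _ *
          ((SemidirectProduct.inr (Multiplicative.ofAdd (1 : ℤ)) : X) ^ n)⁻¹ = _
        rw [← map_pow, ← map_inv, ← SemidirectProduct.inl_aut, hφB, map_pow]
        simp [hβn]
      exact hcentral _ (hfix _) (Commute.pow_left (Commute.refl xb) n) (hfix _)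
    · rw [map_mul, map_mul, map_mul, map_inv, map_inv, map_pow, hψ.1, hψ.2, hbconj, ← map_pow, hpa, ← map_inv, ← map_mul]
      refine hinlcen _ ?_
      have e : β a' * (Multiplicative.ofAdd ((r : ℤ), (0 : ZMod M)))⁻¹ = Multiplicative.ofAdd (1 - (r : ℤ), (1 : ZMod M)) := by
        rw [show a' = Multiplicative.ofAdd ((1 : ℤ), (0 : ZMod M)) from rfl, hβ, ← ofAdd_neg, ← ofAdd_add]
        congr 1; ext <;> simp [sub_eq_add_neg]
      rw [e, hβ]
      congr 2
      push_cast; ring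
  have hψker : Solv.relCore π ≤ ψ.ker := by
    rw [Solv.relCore, Subgroup.commutator_le]
    intro x hx c _
    haveI : ((Subgroup.center X).comap ψ).Normal := inferInstance
    have hx' : ψ x ∈ Subgroup.center X := by
      have h := Subgroup.normalClosure_le_normal (N := (Subgroup.center X).comap ψ) (fun y hy => hψrel y hy)
      exact h (hker ▸ hx)
    rw [MonoidHom.mem_ker, map_commutatorElement, commutatorElement_eq_one_iff_mul_comm]
    exact (Subgroup.mem_center_iff.1 hx' (ψ c)).symm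
  obtain ⟨φ, hφ⟩ : ∃ φ : Solv.CExt π →* X, ∀ x, φ (QuotientGroup.mk x) = ψ x :=
    ⟨QuotientGroup.lift _ ψ hψker, fun _ => rfl⟩
  have hφw : φ w = SemidirectProduct.inl (Multiplicative.ofAdd ((0 : ℤ), (m0 : ZMod M))) := by
    rw [hw, hz1, hz3, hA, hB]
    simp only [map_mul, map_pow, map_inv, hφ, hψ.1, hψ.2, xa, hbconj]
    simp only [← map_pow, ← map_inv, ← map_mul]
    congr 1
    rw [show a' = Multiplicative.ofAdd ((1 : ℤ), (0 : ZMod M)) from rfl, hβ]
    simp only [← ofAdd_nsmul, ← ofAdd_neg, ← ofAdd_add]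
    congr 1
    ext
    · simp [hm0]
      rw [show (r : ℤ) = ((r - 1 : ℕ) : ℤ) + 1 by omega, ha0]
      push_cast; ring
    · simp
  have hord : orderOf w = g := by
    refine Nat.dvd_antisymm (orderOf_dvd_of_pow_eq_one hwg) ?_
    have h := orderOf_map_dvd φ w
    rw [hφw, orderOf_injective _ SemidirectProduct.inl_injective, orderOf_ofAdd_eq_addOrderOf,
      Prod.addOrderOf, addOrderOf_zero, Nat.lcm_one_left, ZMod.addOrderOf_coe _ (NeZero.ne M), hM,
      Nat.gcd_mul_left_left, Nat.mul_div_cancel _ hm0p] at h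
    exact h
  -- the multiplier is generated by `w`
  have hgenK : ∀ x ∈ Solv.kerC π, ∃ i j k : ℤ, x = z1 ^ i * z2 ^ j * z3 ^ k := by
    obtain ⟨T, hT⟩ : ∃ T : Subgroup (Solv.CExt π), T = Subgroup.zpowers z1 ⊔ Subgroup.zpowers z2 ⊔ Subgroup.zpowers z3 := ⟨_, rfl⟩
    have hTc : T ≤ Subgroup.center (Solv.CExt π) := by
      rw [hT]
      refine sup_le (sup_le ?_ ?_) ?_ <;> rw [Subgroup.zpowers_le]
      exacts [Solv.kerC_central π hzK.1, Solv.kerC_central π hzK.2.1, Solv.kerC_central π hzK.2.2]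
    haveI : T.Normal := ⟨fun t ht c => by
      rw [Subgroup.mem_center_iff.1 (hTc ht) c, mul_inv_cancel_right]; exact ht⟩
    have hle : ∀ x ∈ π.ker, (QuotientGroup.mk x : Solv.CExt π) ∈ T := by
      intro x hx
      have hx : x ∈ Subgroup.normalClosure rels := hker ▸ hx
      refine Subgroup.normalClosure_le_normal (N := T.comap (QuotientGroup.mk' _)) ?_ hx
      intro y hy
      obtain rfl | rfl | rfl := (Set.ext_iff.1 hrels y).1 hy <;> rw [hT, SetLike.mem_coe, Subgroup.mem_comap]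
      · exact Subgroup.mem_sup_left (Subgroup.mem_sup_left ⟨1, by simp [hz1, hA]⟩)
      · exact Subgroup.mem_sup_left (Subgroup.mem_sup_right ⟨1, by simp [hz2, hA, hB]⟩)
      · exact Subgroup.mem_sup_right ⟨1, by simp [hz3, hA, hB]⟩
    intro x hx
    obtain ⟨y, rfl⟩ := QuotientGroup.mk_surjective x
    have h := hle y (MonoidHom.mem_ker.2 ((Solv.extHom_mk π y).symm.trans (MonoidHom.mem_ker.1 hx)))
    rw [hT] at h
    haveI : (Subgroup.zpowers z1).Normal := ⟨fun t ht c => by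
      obtain ⟨i, rfl⟩ := ht
      rw [Subgroup.mem_center_iff.1 (zpow_mem (Solv.kerC_central π hzK.1) i) c, mul_inv_cancel_right]
      exact ⟨i, rfl⟩⟩
    haveI : (Subgroup.zpowers z3).Normal := ⟨fun t ht c => by
      obtain ⟨i, rfl⟩ := ht
      rw [Subgroup.mem_center_iff.1 (zpow_mem (Solv.kerC_central π hzK.2.2) i) c, mul_inv_cancel_right]
      exact ⟨i, rfl⟩⟩
    obtain ⟨s, hs, _, ⟨k, rfl⟩, he⟩ := Subgroup.mem_sup_of_normal_right.1 h
    obtain ⟨_, ⟨i, rfl⟩, _, ⟨j, rfl⟩, rfl⟩ := Subgroup.mem_sup_of_normal_left.1 hs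
    exact ⟨i, j, k, he.symm⟩
  have hexA : Solv.expSum π A = Multiplicative.ofAdd (Pi.single true (1 : ℤ)) := hA ▸ Solv.expSum_of π true
  have hexB : Solv.expSum π B = Multiplicative.ofAdd (Pi.single false (1 : ℤ)) := hB ▸ Solv.expSum_of π false
  have hrel' : Solv.relD π = Subgroup.zpowers w := by
    refine le_antisymm ?_ ((Subgroup.zpowers_le).2 ⟨hw ▸ mul_mem (pow_mem hzK.1 _) (pow_mem hzK.2.2 _), ?_⟩)
    · rintro x ⟨hx, hx'⟩
      obtain ⟨i, j, k, rfl⟩ := hgenK x hx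
      replace hx' : z1 ^ i * z2 ^ j * z3 ^ k ∈ commutator (Solv.CExt π) := hx'
      rw [← Solv.expSum_ker, MonoidHom.mem_ker] at hx'
      have h := congrArg Multiplicative.toAdd hx'
      simp only [hz1, hz2, hz3, map_mul, map_zpow, map_pow, map_inv, hexA, hexB, toAdd_mul, toAdd_zpow,
        toAdd_inv, toAdd_pow, toAdd_ofAdd, toAdd_one] at h
      have hT' := congrFun h true
      have hF' := congrFun h false
      simp at hT' hF'
      have hj : j = 0 := by
        rcases hF' with e | e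
        · exact e
        · omega
      subst hj
      simp at hT'
      have hr' : (r : ℤ) = (d : ℤ) * a0 + 1 := by
        rw [show r = d * a0 + 1 by omega]; push_cast; ring
      have hik : (i : ℤ) * m0 = k * a0 := by
        have hd' : (d : ℤ) ≠ 0 := by exact_mod_cast hd0.ne'
        refine mul_left_cancel₀ hd' ?_
        rw [hm0, Nat.cast_mul, hr'] at hT'
        linarith
      have hk : (m0 : ℤ) ∣ k := by
        have hc : IsCoprime (m0 : ℤ) (a0 : ℤ) := by
          rw [Int.isCoprime_iff_nat_coprime]; simpa using hco.symm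
        exact hc.dvd_of_dvd_mul_right ⟨i, by rw [← hik]; ring⟩
      obtain ⟨c, rfl⟩ := hk
      have hi : i = c * a0 := mul_right_cancel₀ (b := (m0 : ℤ)) (by exact_mod_cast hm0p.ne') (by rw [hik]; ring)
      refine ⟨c, ?_⟩
      show w ^ c = _
      rw [hw, ((hcen z3 hzK.2.2 (z1 ^ a0)).symm.pow_right m0).mul_zpow, ← zpow_natCast, ← zpow_natCast,
        ← zpow_mul, ← zpow_mul, hi, zpow_zero, mul_one, mul_comm (c : ℤ) (a0 : ℤ)]
    · show w ∈ commutator (Solv.CExt π)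
      rw [← Solv.expSum_ker, MonoidHom.mem_ker, hw, hz1, hz3]
      apply Multiplicative.toAdd.injective
      simp only [map_mul, map_pow, map_inv, hexA, hexB, toAdd_mul, toAdd_inv, toAdd_pow, toAdd_ofAdd, toAdd_one]
      funext b
      have hr' : (r : ℤ) = (d : ℤ) * a0 + 1 := by
        rw [show r = d * a0 + 1 by omega]; push_cast; ring
      cases b <;> simp [hm0, hr']
      ring
  haveI : NeZero g := ⟨hg0.ne'⟩
  refine Solv.hasSchur_of_iso π hπs ?_
  refine (MulEquiv.subgroupCongr hrel').trans (mulEquivOfCyclicCardEq ?_)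
  rw [Nat.card_zpowers, hord, Nat.card_congr Multiplicative.toAdd, Nat.card_zmod]

end Cfsg.Agent.S3967
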