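import Cfsg.Statements.S3968
import Cfsg.Agent.Lib.Char.Burnside

set_option autoImplicit false
set_option linter.style.haveILetI false
open Cfsg

open scoped Pointwise commutatorElement

namespace Cfsg.Agent.S3968

/-- Let `p` be a prime and `G` a finite group with a faithful irreducible complex character of degree `p` (so `G` is an irreducible linear group in `p` variables). If `p ^ 2` divides the order of `G`, then the centre of `G` is nontrivial. -/
theorem result {G : Type*} [Group G] [Finite G] (p : ℕ) (hp : p.Prime) (χ : Cfsg.IrrCharacter G) (hdeg : χ.1 1 = p) (hfaith : ∀ g : G, χ.1 g = χ.1 1 → g = 1) (hdiv : p ^ 2 ∣ Nat.card G) : Subgroup.center G ≠ ⊥ := by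
  classical
  haveI : Fact p.Prime := ⟨hp⟩
  haveI := Fintype.ofFinite G
  intro hZ
  obtain ⟨n, ρ, hρ, hχ⟩ := χ.2
  have hn : n = p := by
    have h1 : ρ.character 1 = (p : ℂ) := by rw [hχ]; exact hdeg
    rw [Representation.char_one] at h1
    simpa using h1
  subst hn
  have hdim : Module.finrank ℂ (Fin n → ℂ) = n := by simp
  have hfull : ∀ g : G, ‖ρ.character g‖ = (n : ℝ) → g = 1 := by
    intro g hg
    obtain ⟨ω, hω⟩ := (Char.eq_scalar_iff ρ g).mp (by rw [hdim]; exact hg)
    have hc : g ∈ Subgroup.center G := by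
      rw [Subgroup.mem_center_iff]
      intro x
      have h1 : ρ (x * g) = ρ (g * x) := by
        rw [map_mul, map_mul, hω]
        ext v
        simp
      have h2 : ρ ((g * x)⁻¹ * (x * g)) = 1 := by
        rw [map_mul, h1, ← map_mul, inv_mul_cancel, map_one]
      have h3 := hfaith ((g * x)⁻¹ * (x * g)) (by
        rw [← hχ]
        show LinearMap.trace ℂ _ (ρ _) = LinearMap.trace ℂ _ (ρ 1)
        rw [h2]; exact (congrArg (LinearMap.trace ℂ _) (map_one ρ)).symm)
      exact (inv_mul_eq_one.mp h3).symm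
    rw [hZ] at hc
    exact Subgroup.mem_bot.mp hc
  obtain ⟨P⟩ : Nonempty (Sylow n G) := inferInstance
  obtain ⟨k, hk⟩ := IsPGroup.iff_card.mp P.2
  have hk2 : 2 ≤ k := by
    have h2 : n ^ 2 ∣ n ^ k := hk ▸ P.pow_dvd_card_of_pow_dvd_card hdiv
    exact (Nat.pow_dvd_pow_iff_le_right hp.one_lt).mp h2
  have hvan : ∀ g ∈ Subgroup.center ↥(P : Subgroup G), g ≠ 1 → ρ.character (g : G) = 0 := by
    intro g hg hg1
    have hle : (P : Subgroup G) ≤ Subgroup.centralizer ({(g : G)} : Set G) := by
      intro x hx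
      rw [Subgroup.mem_centralizer_singleton_iff]
      exact congrArg Subtype.val (Subgroup.mem_center_iff.mp hg ⟨x, hx⟩)
    have hcop : Nat.Coprime n (Subgroup.centralizer ({(g : G)} : Set G)).index :=
      hp.coprime_iff_not_dvd.mpr fun h =>
        P.not_dvd_index (h.trans (Subgroup.index_dvd_of_le hle))
    rcases Char.vanish_or_full ρ hρ (g : G) (by rw [hdim]; exact hcop) with h | h
    · exact h
    · exact absurd (hfull _ (by rw [h, hdim])) (fun h1 => hg1 (Subtype.ext h1))
  let σ : Representation ℂ ↥(P : Subgroup G) (Fin n → ℂ) := ρ.comp (P : Subgroup G).subtype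
  have hσ : IsCharacter ↥(P : Subgroup G) σ.character := Char.isCharacter_character σ
  have hσ1 : ∀ g : ↥(P : Subgroup G), σ.character g = ρ.character (g : G) := fun g => rfl
  obtain ⟨m, hm⟩ := Char.exists_decomposition hσ
  have hmg : ∀ g, σ.character g = ∑ ψ, (m ψ : ℂ) * (ψ : ↥(P : Subgroup G) → ℂ) g := by
    intro g
    rw [hm, Finset.sum_apply]
    simp [nsmul_eq_mul]
  have hsum : ∑ ψ : IrrCharacter ↥(P : Subgroup G), m ψ * Char.deg (ψ : ↥(P : Subgroup G) → ℂ) = n := by
    have h1 := hmg 1
    rw [Representation.char_one, hdim] at h1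
    rw [Finset.sum_congr rfl (fun ψ _ => by
      rw [Char.char_one_eq_deg (Char.irr_isCharacter ψ.2)]), ] at h1
    exact_mod_cast h1.symm
  by_cases hlin : ∀ ψ, m ψ ≠ 0 → Char.deg (ψ : ↥(P : Subgroup G) → ℂ) = 1
  · -- abelian Sylow subgroup
    have hab : commutator ↥(P : Subgroup G) = ⊥ := by
      rw [Subgroup.eq_bot_iff_forall]
      intro g hg
      have h1 : σ.character g = σ.character 1 := by
        rw [hmg, hmg]
        refine Finset.sum_congr rfl fun ψ _ => ?_
        by_cases h0 : m ψ = 0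
        · simp [h0]
        · have hd : (ψ : ↥(P : Subgroup G) → ℂ) 1 = 1 := by
            rw [Char.char_one_eq_deg (Char.irr_isCharacter ψ.2), hlin ψ h0]; simp
          obtain ⟨l, hl⟩ := Char.exists_hom_of_degree_one (Char.irr_isCharacter ψ.2) hd
          have : g ∈ l.ker := Abelianization.commutator_subset_ker l hg
          simp [hl, MonoidHom.mem_ker.mp this]
      rw [hσ1, hσ1] at h1
      exact Subtype.ext (hfaith _ (by rw [← hχ]; exact h1))
    have hc : ∀ a b : ↥(P : Subgroup G), a * b = b * a := fun a b => by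
      have h1 : ⁅a, b⁆ ∈ commutator ↥(P : Subgroup G) :=
        Subgroup.commutator_mem_commutator (Subgroup.mem_top _) (Subgroup.mem_top _)
      rw [hab, Subgroup.mem_bot] at h1
      exact commutatorElement_eq_one_iff_mul_comm.mp h1
    haveI := Fintype.ofFinite ↥(P : Subgroup G)
    obtain ⟨N, hN⟩ := Char.classInner_natCast hσ
      (Char.isCharacter_one (G := ↥(P : Subgroup G)))
    rw [classInner, Finset.sum_eq_single 1 (fun g _ hg => by
      rw [hσ1, hvan g (Subgroup.mem_center_iff.mpr fun b => hc b g) hg, zero_mul])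
      (fun h => absurd (Finset.mem_univ _) h), Representation.char_one, hdim, map_one, mul_one,
      hk] at hN
    have h2 : (n : ℂ) = ((n ^ k * N : ℕ) : ℂ) := by
      rw [Nat.cast_mul, ← hN, ← mul_assoc,
        mul_inv_cancel₀ (Nat.cast_ne_zero.mpr (pow_ne_zero k hp.ne_zero)), one_mul]
    have h3 : n ^ k ∣ n := ⟨N, by exact_mod_cast h2⟩
    have h4 := Nat.le_of_dvd hp.pos h3
    have h5 : n ^ 1 < n ^ k := Nat.pow_lt_pow_right hp.one_lt (by omega)
    rw [pow_one] at h5
    omega
  · -- the restriction is irreducible, so central elements act as scalars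
    push Not at hlin
    obtain ⟨ψ, hψ0, hψ1⟩ := hlin
    have hdψ : Char.deg (ψ : ↥(P : Subgroup G) → ℂ) ∣ n ^ k := hk ▸ Char.deg_dvd_card ψ.2
    obtain ⟨e, he, hee⟩ := (Nat.dvd_prime_pow hp).mp hdψ
    have hge : n ≤ Char.deg (ψ : ↥(P : Subgroup G) → ℂ) := by
      rw [hee]
      exact Nat.le_self_pow (fun h0 => hψ1 (by rw [hee, h0, pow_zero])) n
    have hother : ∀ φ, φ ≠ ψ → m φ = 0 := by
      intro φ hφ
      by_contra hne
      have hle : m ψ * Char.deg (ψ : ↥(P : Subgroup G) → ℂ) + m φ * Char.deg (φ : ↥(P : Subgroup G) → ℂ) ≤ n := by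
        rw [← Finset.sum_pair hφ.symm (f := fun φ => m φ * Char.deg (φ : ↥(P : Subgroup G) → ℂ))]
        exact (Finset.sum_le_sum_of_subset (Finset.subset_univ _)).trans hsum.le
      have := Nat.mul_pos (Nat.pos_of_ne_zero hne) (Char.deg_pos φ.2)
      have := Nat.le_mul_of_pos_left (Char.deg (ψ : ↥(P : Subgroup G) → ℂ)) (Nat.pos_of_ne_zero hψ0)
      omega
    have hm1 : m ψ = 1 := by
      rw [Finset.sum_eq_single ψ (fun φ _ h => by rw [hother φ h, zero_mul])
        (fun h => absurd (Finset.mem_univ _) h)] at hsum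
      have h1 : m ψ * n ≤ 1 * n := by
        rw [one_mul]; exact (Nat.mul_le_mul_left _ hge).trans hsum.le
      have := Nat.le_of_mul_le_mul_right h1 hp.pos
      omega
    have hσψ : ∀ g, σ.character g = (ψ : ↥(P : Subgroup G) → ℂ) g := by
      intro g
      rw [hmg, Finset.sum_eq_single ψ (fun φ _ h => by rw [hother φ h]; simp)
        (fun h => absurd (Finset.mem_univ _) h), hm1]
      simp
    obtain ⟨d, τ, hτ, hτχ⟩ := ψ.2
    haveI := hτ
    haveI : Nontrivial ↥(P : Subgroup G) := by
      rw [← Finite.one_lt_card_iff_nontrivial, hk]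
      exact Nat.one_lt_pow (by omega) hp.one_lt
    have hne : Subgroup.center ↥(P : Subgroup G) ≠ ⊥ := P.2.bot_lt_center.ne'
    obtain ⟨⟨z, hz⟩, hz'⟩ := Subgroup.ne_bot_iff_exists_ne_one.mp hne
    have hz1 : z ≠ 1 := fun h => hz' (Subtype.ext h)
    haveI := Fintype.ofFinite ↥(P : Subgroup G)
    have hcl := Char.classSum_eq_omega τ z
    have hτn : ‖τ.character z‖ = (Module.finrank ℂ (Fin d → ℂ) : ℝ) := by
      refine (Char.eq_scalar_iff τ z).mpr
        ⟨_, ((Finset.sum_eq_single_of_mem z ?_ ?_).symm.trans hcl)⟩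
      · convert Finset.mem_filter.mpr ⟨Finset.mem_univ z, IsConj.refl z⟩
      · intro x hx hne'
        simp only [Finset.mem_filter, Finset.mem_univ, true_and] at hx
        obtain ⟨c, hc⟩ := isConj_iff.mp hx
        exact absurd (by rw [← hc, Subgroup.mem_center_iff.mp hz c, mul_inv_cancel_right]) hne'
    have hd : d = n := by
      have h1 := hσψ 1
      rw [← hτχ, Representation.char_one, Representation.char_one, hdim] at h1
      simp only [Module.finrank_fin_fun] at h1
      exact_mod_cast h1.symm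
    have h0 := hvan z hz hz1
    rw [← hσ1, hσψ, ← hτχ] at h0
    rw [h0, norm_zero, Module.finrank_fin_fun, hd] at hτn
    exact hp.ne_zero (by exact_mod_cast hτn.symm)

end Cfsg.Agent.S3968
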