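import Cfsg.Statements.S3969
import Cfsg.Agent.Lib.Fusion.SmallSylow

set_option autoImplicit false
set_option linter.style.haveILetI false
open Cfsg

open scoped Pointwise commutatorElement

namespace Cfsg.Agent.S3969

theorem prime_aut_dvd {T : Type*} [CommGroup T] [Finite T] {p r : ℕ} [hp : Fact p.Prime]
    [hr : Fact r.Prime] (hT : IsPGroup p T) (hrp : r ≠ p) (σ : MulAut T) (hσ : orderOf σ = r) :
    ∃ i, 1 ≤ i ∧ i ≤ Group.rank T ∧ r ∣ p ^ i - 1 := by
  obtain ⟨Om, hOm⟩ : ∃ Om, Om = (powMonoidHom p : T →* T).ker := ⟨_, rfl⟩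
  obtain ⟨R, hR⟩ : ∃ R, R = (powMonoidHom p : T →* T).range := ⟨_, rfl⟩
  have hmap : Om.map σ.toMonoidHom = Om := by
    refine Subgroup.eq_of_le_of_card_ge ?_ (by rw [Subgroup.card_map_of_injective σ.injective])
    rw [hOm]
    rintro _ ⟨x, hx, rfl⟩
    show (σ x) ^ p = 1
    rw [← map_pow, show x ^ p = 1 from hx, map_one]
  let τ : MulAut Om := (σ.subgroupMap Om).trans (MulEquiv.subgroupCongr hmap)
  have hτ : ∀ x : Om, ((τ x : Om) : T) = σ x := fun x => rfl
  have hτk : ∀ (k : ℕ) (x : Om), (((τ ^ k) x : Om) : T) = (σ ^ k) x := by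
    intro k
    induction k with
    | zero => intro x; rfl
    | succ k ih =>
      intro x
      rw [pow_succ', pow_succ', MulAut.mul_apply, MulAut.mul_apply, hτ, ih]
  have hσr : σ ^ r = 1 := hσ ▸ pow_orderOf_eq_one σ
  have hτ1 : τ ≠ 1 := by
    intro h
    have key : ∀ (k : ℕ) (x : T), x ^ p ^ k = 1 → σ x = x := by
      intro k
      induction k with
      | zero => intro x hx; rw [pow_zero, pow_one] at hx; rw [hx, map_one]
      | succ k ih =>
        intro x hx
        have h1 := ih (x ^ p) (by rw [← pow_mul, ← pow_succ', hx])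
        rw [map_pow] at h1
        obtain ⟨u, hu⟩ : ∃ u, u = x⁻¹ * σ x := ⟨_, rfl⟩
        have hup : u ^ p = 1 := by rw [hu, mul_pow, h1, inv_pow, inv_mul_cancel]
        have hfix : σ u = u :=
          (hτ ⟨u, hOm ▸ hup⟩).symm.trans (by rw [h]; rfl)
        have hσx : σ x = x * u := by rw [hu, mul_inv_cancel_left]
        have hit : ∀ m : ℕ, (σ ^ m) x = x * u ^ m := by
          intro m
          induction m with
          | zero => simp
          | succ m im =>
            rw [pow_succ', MulAut.mul_apply, im, map_mul, map_pow, hfix, hσx, pow_succ',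
              mul_assoc]
        have hur : u ^ r = 1 := by
          have := hit r
          rw [hσr, MulAut.one_apply] at this
          exact left_eq_mul.1 this
        have hu1 : u = 1 := orderOf_eq_one_iff.1 (Nat.eq_one_of_dvd_coprimes
          ((Nat.coprime_primes hr.out hp.out).2 hrp) (orderOf_dvd_of_pow_eq_one hur)
          (orderOf_dvd_of_pow_eq_one hup))
        rw [hσx, hu1, mul_one]
    obtain ⟨n, hn⟩ := IsPGroup.iff_card.1 hT
    have : σ = 1 := MulEquiv.ext fun x => key n x (by rw [← hn]; exact pow_card_eq_one')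
    rw [this, orderOf_one] at hσ
    exact hr.out.one_lt.ne hσ
  have hτo : orderOf τ = r := orderOf_eq_prime (MulEquiv.ext fun x => Subtype.ext (by
    rw [hτk, hσr]; rfl)) hτ1
  obtain ⟨d, h1, h2, h3⟩ := Fusion.aut_fixed_proper τ hτo
  obtain ⟨m, hm⟩ := IsPGroup.iff_card.1 (hT.to_subgroup Om)
  have hmd : m ≤ Group.rank T := by
    have hidx : Nat.card Om = R.index := by
      have h4 : Om.index = Nat.card R := by rw [hOm, hR, Subgroup.index_ker]
      have h5 := Om.card_mul_index
      have h6 := R.card_mul_index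
      rw [h4, ← h6, mul_comm] at h5
      exact Nat.eq_of_mul_eq_mul_left Nat.card_pos h5
    have h7 : Nat.card (T ⧸ R) ∣ p ^ Group.rank (T ⧸ R) :=
      card_dvd_exponent_pow_rank' _ fun g => by
        induction g using QuotientGroup.induction_on with | _ g
        rw [← QuotientGroup.mk_pow, QuotientGroup.eq_one_iff, hR]
        exact ⟨g, rfl⟩
    rw [← Subgroup.index_eq_card, ← hidx, hm, Nat.pow_dvd_pow_iff_le_right hp.out.one_lt] at h7
    exact h7.trans (Group.rank_le_of_surjective (QuotientGroup.mk' R)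
      (QuotientGroup.mk'_surjective R))
  obtain ⟨j, hj, rfl⟩ := (Nat.dvd_prime_pow hp.out).1 (hm ▸ h1)
  rw [hm, Nat.pow_lt_pow_iff_right hp.out.one_lt] at h2
  rw [hm, show p ^ m - p ^ j = p ^ j * (p ^ (m - j) - 1) by
    rw [Nat.mul_sub, mul_one, ← pow_add, Nat.add_sub_cancel' hj]] at h3
  refine ⟨m - j, by omega, by omega, ?_⟩
  exact ((Nat.coprime_primes hr.out hp.out).2 hrp).pow_right j |>.dvd_of_dvd_mul_left h3

/-- Let `P` be an abelian Sylow `p`-subgroup of the finite group `G`, generated by `d` elements (`d` its minimal number of generators). If the order of `G` is coprime to `(p - 1)(p ^ 2 - 1) ⋯ (p ^ d - 1)`, then `G` has a normal `p`-complement. (The classical statement needs only the largest number of cyclic factors of `P` of equal order in place of `d`; the form here follows from it.) -/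
theorem result {G : Type*} [Group G] [Finite G] (p : ℕ) [Fact p.Prime] (P : Sylow p G) (hab : IsMulCommutative (P : Subgroup G)) (hcop : Nat.Coprime (Nat.card G) (∏ i ∈ Finset.Icc 1 (Group.rank (P : Subgroup G)), (p ^ i - 1))) : Cfsg.HasNormalPComplement p G := by
  refine Fusion.hnpc_of_normalizer_le_centralizer P ?_
  obtain ⟨Q, hQ⟩ := ((Fusion.sylIn_top P).mono Subgroup.le_normalizer le_top).exists_sylow_subgroupOf
  letI : CommGroup (P : Subgroup G) :=
    { (inferInstance : Group (P : Subgroup G)) with mul_comm := hab.is_comm.comm }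
  have hle : (⊤ : Subgroup (Subgroup.normalizer ((P : Subgroup G) : Set G))) ≤
      (Subgroup.centralizer ((P : Subgroup G) : Set G)).subgroupOf _ := by
    rw [← Fusion.pResidual_sup_sylow Q, hQ]
    refine sup_le ((Subgroup.closure_le _).2 fun g hg => ?_) ?_
    · rw [SetLike.mem_coe, ← Subgroup.normalizerMonoidHom_ker, MonoidHom.mem_ker]
      by_contra hne
      obtain ⟨σ, hσ⟩ : ∃ σ, σ = (P : Subgroup G).normalizerMonoidHom g := ⟨_, rfl⟩
      rw [← hσ] at hne
      obtain ⟨r, hr, hrs⟩ := Nat.exists_prime_and_dvd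
        (fun h => hne (orderOf_eq_one_iff.1 h) : orderOf σ ≠ 1)
      haveI := Fact.mk hr
      have hrg : r ∣ orderOf g := hrs.trans (hσ ▸ orderOf_map_dvd _ g)
      have hrp : r ≠ p := fun hrp =>
        hr.ne_one (Nat.eq_one_of_dvd_coprimes hg hrg (hrp ▸ dvd_rfl))
      obtain ⟨i, hi1, hi2, hi3⟩ := prime_aut_dvd P.isPGroup' hrp (σ ^ (orderOf σ / r))
        (orderOf_pow_orderOf_div (orderOf_pos σ).ne' hrs)
      refine hr.ne_one (Nat.eq_one_of_dvd_coprimes hcop
        (hrg.trans ((orderOf_dvd_natCard g).trans (Subgroup.card_subgroup_dvd_card _))) (hi3.trans ?_))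
      exact Finset.dvd_prod_of_mem _ (Finset.mem_Icc.2 ⟨hi1, hi2⟩)
    · intro x hx
      rw [Subgroup.mem_subgroupOf, Subgroup.mem_centralizer_iff]
      intro y hy
      exact congrArg Subtype.val
        (hab.is_comm.comm (⟨y, hy⟩ : (P : Subgroup G)) ⟨x, hx⟩)
  exact fun x hx => hle (Subgroup.mem_top ⟨x, hx⟩)

end Cfsg.Agent.S3969
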