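import Cfsg.Statements.S3970
import Cfsg.Agent.Lib.Solv.SmallRank
import Cfsg.Agent.Lib.Fusion.NPC

set_option autoImplicit false
set_option linter.style.haveILetI false
open Cfsg

open scoped Pointwise commutatorElement

namespace Cfsg.Agent.S3970

universe u

theorem aux : ∀ (c : ℕ) {G : Type u} [Group G] [Finite G], Nat.card G = c →
    (∀ p : ℕ, p.Prime → p ∣ Nat.card G → (∃ q : ℕ, q.Prime ∧ q ∣ Nat.card G ∧ p < q) →
      ∀ P : Sylow p G, IsMulCommutative (P : Subgroup G) ∧ Group.rank (P : Subgroup G) ≤ 2) →
    ¬ 12 ∣ Nat.card G → Group.IsSolvable G := by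
  intro c
  induction c using Nat.strong_induction_on with
  | _ c ih =>
    intro G _ _ hc h h12
    classical
    rcases subsingleton_or_nontrivial G with hsub | hnt
    · infer_instance
    obtain ⟨p, hp⟩ : ∃ p, p = (Nat.card G).minFac := ⟨_, rfl⟩
    have hG1 : Nat.card G ≠ 1 := (Finite.one_lt_card (α := G)).ne'
    have hpp : p.Prime := hp ▸ Nat.minFac_prime hG1
    have hpd : p ∣ Nat.card G := hp ▸ Nat.minFac_dvd _
    haveI := Fact.mk hpp
    have hmin : ∀ q : ℕ, q.Prime → q ∣ Nat.card G → p ≤ q := fun q hq hqd =>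
      hp ▸ Nat.minFac_le_of_dvd hq.two_le hqd
    by_cases hq : ∃ q : ℕ, q.Prime ∧ q ∣ Nat.card G ∧ p < q
    swap
    · push Not at hq
      have hG : IsPGroup p G := IsPGroup.of_card (Nat.eq_prime_pow_of_unique_prime_dvd
        (Nat.card_pos (α := G)).ne' fun {q} hqp hqd => le_antisymm (hq q hqp hqd) (hmin q hqp hqd))
      haveI := hG.isNilpotent
      infer_instance
    obtain ⟨P⟩ : Nonempty (Sylow p G) := inferInstance
    obtain ⟨hab, hrank⟩ := h p hpp hpd hq P
    haveI := hab
    obtain ⟨S, hS1, hS2⟩ := Group.rank_spec (P : Subgroup G)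
    have hsmall := Solv.card_frattini_quot_le_of_two_gen P.2 S (hS1.trans_le hrank) hS2
    have hNC : Subgroup.normalizer ((P : Subgroup G) : Set G) ≤ Subgroup.centralizer ((P : Subgroup G) : Set G) := by
      intro g hg
      obtain ⟨a, m, hm, hgm⟩ := Nat.exists_eq_pow_mul_and_not_dvd (orderOf_pos g).ne' p hpp.ne_one
      have h1 : g ^ p ^ a ∈ Subgroup.centralizer ((P : Subgroup G) : Set G) := by
        by_cases hP2 : Nat.card (P : Subgroup G) = 2
        · refine Subgroup.mem_centralizer_iff.2 fun y hy => ?_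
          obtain ⟨y₀, -, hy₀⟩ := (Nat.card_eq_two_iff' (1 : (P : Subgroup G))).1 hP2
          rcases eq_or_ne y 1 with rfl | hy1
          · simp
          have hgy := (Subgroup.mem_normalizer_iff.1 (pow_mem hg (p ^ a)) y).1 hy
          have e1 := hy₀ ⟨y, hy⟩ fun e => hy1 (congrArg Subtype.val e)
          have e2 := hy₀ ⟨_, hgy⟩ fun e => hy1 (by
            have := congrArg Subtype.val e
            simpa using this)
          have e3 : g ^ p ^ a * y * (g ^ p ^ a)⁻¹ = y := congrArg Subtype.val (e2.trans e1.symm)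
          exact (mul_inv_eq_iff_eq_mul.1 e3).symm
        refine Solv.centralizes_of_small_frattini _ P.2 hsmall _ (pow_mem hg _) fun r hr hrd => ?_
        have hrm : r ∣ m := hrd.trans (orderOf_dvd_of_pow_eq_one (by rw [← pow_mul, ← hgm, pow_orderOf_eq_one]))
        have hrG : r ∣ Nat.card G := (hrd.trans (orderOf_pow_dvd _)).trans (orderOf_dvd_natCard g)
        refine ⟨fun e => hm (e ▸ hrm), fun hr2 => ?_⟩
        have hpr : p < r := lt_of_le_of_ne (hmin r hr hrG) fun e => hm (e ▸ hrm)
        rw [show p ^ 2 - 1 = (p + 1) * (p - 1) by rw [← Nat.sq_sub_sq, one_pow]] at hr2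
        rcases hr.dvd_mul.1 hr2 with h' | h'
        · have hr1 : r = p + 1 := le_antisymm (Nat.le_of_dvd (by omega) h') hpr
          have hp2 : p = 2 := by
            by_contra hne
            have he : Even r := by rw [hr1]; exact (hpp.odd_of_ne_two hne).add_odd odd_one
            have := (Nat.Prime.even_iff hr).1 he
            have := hpp.two_le
            omega
          subst hp2
          subst hr1
          obtain ⟨k, hk⟩ := P.2.exists_card_eq
          rcases k with _ | _ | k
          · exact absurd (P.dvd_card_of_dvd_card hpd) (by rw [hk]; norm_num)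
          · exact hP2 hk
          · exact h12 (Nat.Coprime.mul_dvd_of_dvd_of_dvd (by norm_num : Nat.Coprime 4 3)
              ((Dvd.intro_left (2 ^ k) (by ring) : 4 ∣ 2 ^ (k + 1 + 1)).trans
                (hk ▸ Subgroup.card_subgroup_dvd_card _)) hrG)
        · exact absurd (Nat.le_of_dvd (by have := hpp.two_le; omega) h') (by omega)
      have h2 : g ^ m ∈ Subgroup.centralizer ((P : Subgroup G) : Set G) := by
        have hQ : IsPGroup p (Subgroup.zpowers (g ^ m)) := by
          refine IsPGroup.of_card_dvd_pow (n := a) ?_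
          rw [Nat.card_zpowers]
          exact orderOf_dvd_of_pow_eq_one (by rw [← pow_mul, mul_comm, ← hgm, pow_orderOf_eq_one])
        have hmem : g ^ m ∈ Subgroup.zpowers (g ^ m) ⊓ Subgroup.normalizer ((P : Subgroup G) : Set G) :=
          ⟨Subgroup.mem_zpowers _, pow_mem hg m⟩
        replace hmem := (IsPGroup.inf_normalizer_sylow hQ P).le hmem
        exact Subgroup.mem_centralizer_iff.2 fun y hy =>
          congrArg Subtype.val (IsMulCommutative.is_comm.comm (⟨y, hy⟩ : (P : Subgroup G)) ⟨_, hmem.2⟩)
      obtain ⟨u, v, huv⟩ : ∃ u v : ℤ, (1 : ℤ) = (p ^ a : ℕ) * u + (m : ℤ) * v := by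
        refine ⟨Nat.gcdA (p ^ a) m, Nat.gcdB (p ^ a) m, ?_⟩
        rw [← Nat.gcd_eq_gcd_ab, Nat.Coprime.gcd_eq_one ((hpp.coprime_iff_not_dvd.2 hm).pow_left a)]
        rfl
      rw [← zpow_one g, huv, zpow_add, zpow_mul, zpow_mul, zpow_natCast, zpow_natCast]
      exact mul_mem (zpow_mem h1 u) (zpow_mem h2 v)
    obtain ⟨T, N, hN, hcomp⟩ := Fusion.hnpc_of_normalizer_le_centralizer P hNC
    have hmul := hcomp.card_mul
    have hcopN : ¬ p ∣ Nat.card N := fun hd => by
      have h1 := Nat.mul_dvd_mul_right hd (Nat.card (T : Subgroup G))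
      rw [hmul, T.card_eq_multiplicity, ← pow_succ'] at h1
      exact Nat.pow_succ_factorization_not_dvd (Nat.card_pos (α := G)).ne' hpp h1
    have hlt : Nat.card N < c := by
      rw [← hc, ← hmul]
      refine lt_mul_of_one_lt_right Nat.card_pos ?_
      exact lt_of_lt_of_le hpp.one_lt (Nat.le_of_dvd Nat.card_pos (T.dvd_card_of_dvd_card hpd))
    have hNd : Nat.card N ∣ Nat.card G := Subgroup.card_subgroup_dvd_card N
    haveI : Group.IsSolvable N := by
      refine ih _ hlt rfl (fun q hq hqN hlarge Q => ?_) fun hd => h12 (hd.trans hNd)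
      obtain ⟨r, hr, hrN, hqr⟩ := hlarge
      haveI := Fact.mk hq
      have hQG : IsPGroup q ((Q : Subgroup N).map N.subtype) := Q.2.map _
      obtain ⟨U, hU⟩ := hQG.exists_le_sylow
      obtain ⟨hU1, hU2⟩ := h q hq (hqN.trans hNd) ⟨r, hr, hrN.trans hNd, hqr⟩ U
      have hcard : Nat.card (U : Subgroup G) ≤ Nat.card ((Q : Subgroup N).map N.subtype) := by
        rw [Subgroup.card_subtype, U.card_eq_multiplicity, Q.card_eq_multiplicity, ← hmul,
          Nat.factorization_mul Nat.card_pos.ne' Nat.card_pos.ne', T.card_eq_multiplicity,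
          hpp.factorization_pow]
        rw [Finsupp.add_apply, Finsupp.single_apply, if_neg (fun e : p = q => hcopN (e ▸ hqN)), add_zero]
      have heq := Subgroup.eq_of_le_of_card_ge hU hcard
      have e := ((Q : Subgroup N).equivMapOfInjective N.subtype N.subtype_injective).trans
        (MulEquiv.subgroupCongr heq)
      haveI := hU1
      refine ⟨⟨⟨fun x y => e.injective (by
        rw [map_mul, map_mul, IsMulCommutative.is_comm.comm (e x) (e y)])⟩⟩, ?_⟩
      exact (Group.rank_congr e).trans_le hU2
    haveI : Group.IsSolvable (G ⧸ N) := by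
      haveI : Group.IsNilpotent (G ⧸ N) := (IsPGroup.of_card (p := p) (n := (Nat.card G).factorization p)
        (by rw [← Subgroup.index_eq_card, hcomp.symm.index_eq_card, T.card_eq_multiplicity])).isNilpotent
      infer_instance
    exact solvable_of_ker_le_range N.subtype (QuotientGroup.mk' N) (by simp)

/-- Let `G` be a finite group such that for every prime `p` dividing its order, other than the largest such prime, the Sylow `p`-subgroups are abelian and generated by at most two elements, and suppose `12` does not divide the order of `G`. Then `G` is solvable. In particular a group of cube-free order not divisible by `12` is solvable. -/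
theorem result {G : Type*} [Group G] [Finite G] (h : ∀ p : ℕ, p.Prime → p ∣ Nat.card G → (∃ q : ℕ, q.Prime ∧ q ∣ Nat.card G ∧ p < q) → ∀ P : Sylow p G, IsMulCommutative (P : Subgroup G) ∧ Group.rank (P : Subgroup G) ≤ 2) (h12 : ¬ 12 ∣ Nat.card G) : Group.IsSolvable G := by
  exact aux _ rfl h h12

end Cfsg.Agent.S3970
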