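import Cfsg.Statements.S3971
import Cfsg.Agent.Lib.Solv.SmallRank
import Cfsg.Agent.Lib.Fusion.NPC

set_option autoImplicit false
set_option linter.style.haveILetI false
open Cfsg

open scoped Pointwise commutatorElement

namespace Cfsg.Agent.S3971

/-- Let `G` be a finite group of order `2 ^ a * n` with `n` odd and not divisible by `3`, and suppose `G` has an element of order `2 ^ (a - 1)` (so a Sylow `2`-subgroup has a cyclic subgroup of index at most `2`). Then `G` has a normal subgroup of order `n`. -/
theorem result {G : Type*} [Group G] [Finite G] (a n : ℕ) (hG : Nat.card G = 2 ^ a * n) (hn : Odd n) (h3 : ¬ 3 ∣ n) (hx : ∃ x : G, orderOf x = 2 ^ (a - 1)) : ∃ N : Subgroup G, N.Normal ∧ Nat.card N = n := by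
  classical
  haveI : Fact (Nat.Prime 2) := ⟨Nat.prime_two⟩
  obtain ⟨x, hx⟩ := hx
  obtain ⟨S, hS⟩ := (IsPGroup.of_card (p := 2) (G := Subgroup.zpowers x) (n := a - 1)
    (by rw [Nat.card_zpowers, hx])).exists_le_sylow
  have hn0 : ¬ 2 ∣ n := hn.not_two_dvd_nat
  have hfac : (Nat.card G).factorization 2 = a := by
    rw [hG, Nat.factorization_mul (by positivity) (by rintro rfl; simp at hn0)]
    simp [Nat.factorization_eq_zero_of_not_dvd hn0, Nat.Prime.factorization_self Nat.prime_two]
  have hcardS : Nat.card (S : Subgroup G) = 2 ^ a := by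
    rw [S.card_eq_multiplicity, hfac]
  have hidx : (Subgroup.zpowers x).relIndex S ≤ 2 := by
    have h := Subgroup.relIndex_mul_relIndex ⊥ (Subgroup.zpowers x) (S : Subgroup G) bot_le hS
    rw [Subgroup.relIndex_bot_left, Subgroup.relIndex_bot_left, Nat.card_zpowers, hx, hcardS] at h
    rcases Nat.eq_zero_or_pos a with rfl | ha
    · rw [Nat.zero_sub, pow_zero, one_mul] at h; omega
    · rw [show a = a - 1 + 1 by omega, pow_succ, Nat.add_sub_cancel] at h
      exact (Nat.eq_of_mul_eq_mul_left (pow_pos two_pos _) h).le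
  obtain ⟨N', N, hN, hcomp⟩ : Cfsg.HasNormalPComplement 2 G := by
    refine Fusion.hnpc_of_centralize (S := (S : Subgroup G)) (Fusion.sylIn_top S) fun Q hQS g hg hgo => ?_
    have hQp : IsPGroup 2 Q := S.2.to_le hQS
    refine Solv.centralizes_of_small_frattini Q hQp ?_ g hg fun r hr hrd => ⟨?_, ?_⟩
    · haveI : IsCyclic ((Subgroup.zpowers x).subgroupOf Q) :=
        isCyclic_of_injective ((Subgroup.inclusion (inf_le_left : Subgroup.zpowers x ⊓ Q ≤ _)).comp
          ((Q.subtype.comp ((Subgroup.zpowers x).subgroupOf Q).subtype).codRestrict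
            (Subgroup.zpowers x ⊓ Q) fun z => ⟨z.2, z.1.2⟩)) fun u v h =>
          Subtype.ext (Subtype.ext (congrArg Subtype.val h :))
      obtain ⟨c, hc⟩ := Subgroup.isCyclic_iff_exists_zpowers_eq_top ((Subgroup.zpowers x).subgroupOf Q) |>.1 inferInstance
      refine Solv.card_frattini_quot_le_of_cyclic_index hQp c ?_
      rw [hc]
      exact (Subgroup.relIndex_le_of_le_right hQS Subgroup.index_ne_zero_of_finite).trans hidx
    · rintro rfl
      exact Nat.not_coprime_of_dvd_of_dvd (by norm_num) hrd dvd_rfl hgo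
    · intro h
      norm_num at h
      have h3r : r = 3 := (Nat.prime_dvd_prime_iff_eq hr Nat.prime_three).1 h
      subst h3r
      have h3G := hrd.trans (orderOf_dvd_natCard g)
      rw [hG] at h3G
      rcases Nat.prime_three.dvd_mul.1 h3G with h' | h'
      · exact absurd (Nat.prime_three.dvd_of_dvd_pow h') (by norm_num)
      · exact h3 h'
  refine ⟨N, hN, ?_⟩
  have h := hcomp.card_mul
  rw [N'.card_eq_multiplicity, hfac, hG, mul_comm] at h
  exact Nat.eq_of_mul_eq_mul_left (pow_pos two_pos a) h

end Cfsg.Agent.S3971
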