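import Cfsg.Statements.S3973
import Cfsg.Agent.Lib.Solv.SchurMult

set_option autoImplicit false
set_option linter.style.haveILetI false
open Cfsg

open scoped Pointwise commutatorElement

namespace Cfsg.Agent.S3973

/-- If a finite group is presented by `n` generators and a finite set of `r` relators, then its Schur multiplier can be generated by `r - n` elements. In particular a finite group with a presentation having as many relators as generators has trivial Schur multiplier. -/
theorem result (n : ℕ) (rels : Finset (FreeGroup (Fin n))) [Finite (PresentedGroup (rels : Set (FreeGroup (Fin n))))] {A : Type*} [CommGroup A] [Finite A] (hA : Cfsg.HasSchurMultiplier (PresentedGroup (rels : Set (FreeGroup (Fin n)))) A) : Group.rank A ≤ rels.card - n := by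
  classical
  let π := PresentedGroup.mk (rels : Set (FreeGroup (Fin n)))
  have hπ : Function.Surjective π := PresentedGroup.mk_surjective _
  obtain ⟨e⟩ := Solv.mult_iso π hπ hA
  have hrel : ∀ r ∈ rels, (QuotientGroup.mk r : Solv.CExt π) ∈ Solv.kerC π := fun r hr => by
    show π r = 1
    exact (QuotientGroup.eq_one_iff _).2 (Subgroup.subset_normalClosure hr)
  let r : rels → Solv.kerC π := fun i => ⟨QuotientGroup.mk i.1, hrel i.1 i.2⟩
  let Φ : (rels → ℤ) →+ Additive (Solv.kerC π) :=
    AddMonoidHom.mk' (fun v => Additive.ofMul (∏ i, r i ^ v i)) fun v w => by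
      simp only [Pi.add_apply, zpow_add, Finset.prod_mul_distrib, ofMul_mul]
  have hΦ : ∀ x : Solv.kerC π, ∃ v, Φ v = Additive.ofMul x := by
    rintro ⟨x, hx⟩
    induction x using QuotientGroup.induction_on with | _ x
    have hx' : x ∈ Subgroup.normalClosure (rels : Set (FreeGroup (Fin n))) :=
      (QuotientGroup.eq_one_iff (N := Subgroup.normalClosure (rels : Set (FreeGroup (Fin n)))) x).1
        hx
    have key : Subgroup.normalClosure (rels : Set (FreeGroup (Fin n))) ≤
        ((AddSubgroup.toSubgroup' Φ.range).map (Solv.kerC π).subtype).comap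
          (QuotientGroup.mk' (Solv.relCore π)) := by
      rw [Subgroup.normalClosure, Subgroup.closure_le]
      intro y hy
      obtain ⟨r0, hr0, hy⟩ := Group.mem_conjugatesOfSet_iff.1 hy
      obtain ⟨c, hc⟩ := isConj_iff.1 hy
      refine Subgroup.mem_comap.2 ⟨r ⟨r0, hr0⟩, ?_, ?_⟩
      · refine ⟨Pi.single ⟨r0, hr0⟩ 1, ?_⟩
        show Additive.ofMul (∏ i, r i ^ (Pi.single (⟨r0, hr0⟩ : rels) (1 : ℤ) : rels → ℤ) i) = _
        rw [Finset.prod_eq_single (⟨r0, hr0⟩ : rels)
          (fun b _ hb => by rw [Pi.single_eq_of_ne hb, zpow_zero])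
          (fun h => absurd (Finset.mem_univ _) h), Pi.single_eq_same, zpow_one]
        rfl
      · rw [← hc, map_mul, map_mul, map_inv]
        show QuotientGroup.mk r0 = _
        rw [QuotientGroup.mk'_apply, QuotientGroup.mk'_apply,
          Subgroup.mem_center_iff.1 (Solv.kerC_central π (hrel r0 hr0)), mul_inv_cancel_right]
    obtain ⟨y, ⟨v, hv⟩, hy⟩ := Subgroup.mem_comap.1 (key hx')
    exact ⟨v, hv.trans (congrArg Additive.ofMul (Subtype.ext hy))⟩
  let ψ : (rels → ℤ) →+ (Fin n → ℤ) :=
    (MonoidHom.toAdditiveLeft ((Solv.expSum π).comp (Solv.kerC π).subtype)).comp Φ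
  have hD : ∀ v : ψ.toIntLinearMap.ker,
      ((Additive.toMul (Φ v.1) : Solv.kerC π) : Solv.CExt π) ∈ Solv.relD π := fun v => by
    refine Subgroup.mem_inf.2 ⟨(Additive.toMul (Φ v.1) : Solv.kerC π).2, ?_⟩
    rw [← Solv.expSum_ker, MonoidHom.mem_ker]
    exact Multiplicative.toAdd.injective v.2
  let P : ψ.toIntLinearMap.ker →+ Additive A :=
    AddMonoidHom.mk' (fun v => Additive.ofMul (e ⟨_, hD v⟩)) fun v w => by
      rw [← ofMul_mul, ← map_mul]
      congr 2
      refine Subtype.ext ?_
      show ((Additive.toMul (Φ (v.1 + w.1)) : Solv.kerC π) : Solv.CExt π) = _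
      rw [map_add, toMul_add, Subgroup.coe_mul]
      rfl
  have hP : Function.Surjective P := fun a => by
    obtain ⟨v, hv⟩ := hΦ ⟨((e.symm (Additive.toMul a) : Solv.relD π) : Solv.CExt π),
      Solv.relD_le_kerC π (e.symm (Additive.toMul a)).2⟩
    have hv0 : v ∈ ψ.toIntLinearMap.ker := by
      show Multiplicative.toAdd (Solv.expSum π
        ((Additive.toMul (Φ v) : Solv.kerC π) : Solv.CExt π)) = 0
      rw [hv, toMul_ofMul, MonoidHom.mem_ker.1 (show _ ∈ (Solv.expSum π).ker by
        rw [Solv.expSum_ker]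
        exact Solv.relD_le_commutator π (e.symm (Additive.toMul a)).2), toAdd_one]
    refine ⟨⟨v, hv0⟩, ?_⟩
    show Additive.ofMul (e ⟨_, hD ⟨v, hv0⟩⟩) = a
    have : (⟨_, hD ⟨v, hv0⟩⟩ : Solv.relD π) = e.symm (Additive.toMul a) := by
      refine Subtype.ext ?_
      show ((Additive.toMul (Φ v) : Solv.kerC π) : Solv.CExt π) = _
      rw [hv, toMul_ofMul]
    rw [this, MulEquiv.apply_symm_apply, ofMul_toMul]
  -- ranks
  have hm : (Nat.card (PresentedGroup (rels : Set (FreeGroup (Fin n)))) : ℤ) ≠ 0 :=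
    Nat.cast_ne_zero.2 Nat.card_pos.ne'
  have hn : n ≤ Module.finrank ℤ ψ.toIntLinearMap.range := by
    obtain ⟨m, hm'⟩ : ∃ m, m = Nat.card (PresentedGroup (rels : Set (FreeGroup (Fin n)))) :=
      ⟨_, rfl⟩
    have hmem : ∀ x : Fin n → ℤ, (m : ℤ) • x ∈ ψ.toIntLinearMap.range := by
      intro x
      have hsurj : Multiplicative.ofAdd x ∈ (Solv.expSum π).range := by
        rw [← Finset.univ_sum_single x, ofAdd_sum]
        refine Subgroup.prod_mem _ fun i _ => ?_
        refine ⟨(QuotientGroup.mk (FreeGroup.of i) : Solv.CExt π) ^ x i, ?_⟩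
        rw [map_zpow]
        refine Multiplicative.toAdd.injective ?_
        rw [toAdd_zpow, Solv.expSum_of, toAdd_ofAdd,
          toAdd_ofAdd, ← Pi.single_smul, smul_eq_mul, mul_one]
      obtain ⟨c, hc⟩ := hsurj
      have hck : c ^ m ∈ Solv.kerC π := by
        show Solv.extHom π (c ^ m) = 1
        rw [map_pow, hm', pow_card_eq_one']
      obtain ⟨v, hv⟩ := hΦ ⟨c ^ m, hck⟩
      refine ⟨v, ?_⟩
      show Multiplicative.toAdd (Solv.expSum π
        ((Additive.toMul (Φ v) : Solv.kerC π) : Solv.CExt π)) = _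
      rw [hv, toMul_ofMul, map_pow, hc, toAdd_pow, toAdd_ofAdd, natCast_zsmul]
    have h1 := LinearMap.finrank_le_finrank_of_injective
      (f := (((m : ℤ) • LinearMap.id : (Fin n → ℤ) →ₗ[ℤ] (Fin n → ℤ))).codRestrict _ hmem)
      (fun x y h => smul_right_injective (Fin n → ℤ) (hm' ▸ hm) (congrArg Subtype.val h))
    rwa [Module.finrank_fintype_fun_eq_card, Fintype.card_fin] at h1
  have hker : Module.finrank ℤ ψ.toIntLinearMap.ker ≤ rels.card - n := by
    have h1 := ψ.toIntLinearMap.ker.finrank_quotient_add_finrank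
    rw [ψ.toIntLinearMap.quotKerEquivRange.finrank_eq, Module.finrank_fintype_fun_eq_card,
      Fintype.card_coe] at h1
    omega
  let b := Module.finBasis ℤ ψ.toIntLinearMap.ker
  refine le_trans ?_ hker
  have htop : Subgroup.closure
      ((Finset.univ.image fun i => Additive.toMul (P (b i))) : Set A) = ⊤ := by
    refine eq_top_iff.2 fun a _ => ?_
    obtain ⟨v, hv⟩ := hP (Additive.ofMul a)
    rw [← b.sum_repr v, map_sum] at hv
    rw [show a = Additive.toMul (∑ i, P (b.repr v i • b i)) by rw [hv, toMul_ofMul], toMul_sum]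
    refine Subgroup.prod_mem _ fun i _ => ?_
    rw [map_zsmul, toMul_zsmul]
    exact Subgroup.zpow_mem _ (Subgroup.subset_closure (Finset.mem_coe.2
      (Finset.mem_image_of_mem _ (Finset.mem_univ i)))) _
  exact (Group.rank_le htop).trans (Finset.card_image_le.trans (by rw [Finset.card_univ,
    Fintype.card_fin]))

end Cfsg.Agent.S3973
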