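import Cfsg.Statements.S3974
import Cfsg.Agent.Lib.Solv.SchurMult

set_option autoImplicit false
set_option linter.style.haveILetI false
universe u v
open Cfsg

open scoped Pointwise commutatorElement

namespace Cfsg.Agent.S3974

theorem card_of_surj {Γ Q : Type*} [Group Γ] [Group Q] (σ : Γ →* Q)
    (hs : Function.Surjective σ) : Nat.card Γ = Nat.card Q * Nat.card σ.ker := by
  rw [σ.ker.card_eq_card_quotient_mul_card_subgroup,
    Nat.card_congr (QuotientGroup.quotientKerEquivOfSurjective σ hs).toEquiv]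

theorem exists_iso_of_coprime {Q : Type u} [Group Q] [Finite Q] {Γ₁ Γ₂ : Type u}
    [Group Γ₁] [Finite Γ₁] [Group Γ₂] [Finite Γ₂] (σ₁ : Γ₁ →* Q) (σ₂ : Γ₂ →* Q)
    (h₁ : Cfsg.IsStemExtension σ₁) (h₂ : Cfsg.IsStemExtension σ₂)
    (c₁ : Nat.card σ₁.ker = Nat.card (Solv.relD (Solv.allGen Q)))
    (c₂ : Nat.card σ₂.ker = Nat.card (Solv.relD (Solv.allGen Q)))
    (hco : Nat.Coprime (Nat.card (Abelianization Q)) (Nat.card σ₂.ker)) :
    ∃ e : Γ₁ ≃* Γ₂, σ₂.comp e.toMonoidHom = σ₁ := by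
  classical
  obtain ⟨π, rfl⟩ : ∃ π, π = Solv.allGen Q := ⟨_, rfl⟩
  have hπ := Solv.allGen_surjective Q
  obtain ⟨φ1, hφ1⟩ := Solv.exists_lift_over (Solv.allGen Q) σ₁ h₁.1 h₁.2.1
  obtain ⟨φ2, hφ2⟩ := Solv.exists_lift_over (Solv.allGen Q) σ₂ h₂.1 h₂.2.1
  let e1 := MulEquiv.ofBijective _ (Solv.relDMap_bijective _ σ₁ h₁ φ1 hπ hφ1 c₁)
  letI : CommGroup σ₂.ker :=
    { (inferInstance : Group σ₂.ker) with
      mul_comm := fun a b => Subtype.ext (Subgroup.mem_center_iff.1 (h₂.2.1 b.2) a) }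
  let K := Solv.kerC (Solv.allGen Q)
  let res1 : K →* σ₁.ker := (φ1.comp K.subtype).codRestrict _ fun r =>
    (DFunLike.congr_fun hφ1 _).trans r.2
  let res2 : K →* σ₂.ker := (φ2.comp K.subtype).codRestrict _ fun r =>
    (DFunLike.congr_fun hφ2 _).trans r.2
  let η : K →* K := MonoidHom.id _ *
    ((Subgroup.inclusion (Solv.relD_le_kerC _)).comp (e1.symm.toMonoidHom.comp res1))⁻¹
  let ψ : K →* σ₂.ker := res2.comp η
  have hψD : ∀ r : K, (r : Solv.CExt (Solv.allGen Q)) ∈ commutator _ → ψ r = 1 := fun r hr => by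
    have h1 : e1.symm (res1 r) = ⟨(r : Solv.CExt (Solv.allGen Q)), Subgroup.mem_inf.2 ⟨r.2, hr⟩⟩ :=
      e1.injective ((e1.apply_symm_apply _).trans (Subtype.ext rfl))
    have h2 : η r = 1 := by
      show r * (Subgroup.inclusion (Solv.relD_le_kerC _) (e1.symm (res1 r)))⁻¹ = 1
      rw [h1, mul_inv_eq_one]
      exact Subtype.ext rfl
    show res2 (η r) = 1
    rw [h2, map_one]
  obtain ⟨h, hh⟩ : ∃ h, h = Nat.card (Abelianization Q) := ⟨_, rfl⟩
  rw [← hh] at hco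
  have hex : ∀ c : Solv.CExt (Solv.allGen Q), ∃ r : K, (r : Solv.CExt (Solv.allGen Q))⁻¹ * c ^ h ∈
      commutator (Solv.CExt (Solv.allGen Q)) := fun c => by
    have h1 : Solv.extHom (Solv.allGen Q) c ^ h ∈ commutator Q := by
      refine (QuotientGroup.eq_one_iff _).1 ?_
      rw [hh, QuotientGroup.mk_pow]
      exact pow_card_eq_one' (G := Abelianization Q)
    have h2 : commutator Q = (commutator (Solv.CExt (Solv.allGen Q))).map
        (Solv.extHom (Solv.allGen Q)) := by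
      rw [commutator_def, commutator_def, Subgroup.map_commutator, ← MonoidHom.range_eq_map,
        MonoidHom.range_eq_top_of_surjective _ (Solv.extHom_surjective _ hπ)]
    obtain ⟨y, hy, hyc⟩ := Subgroup.mem_map.1 (h2 ▸ h1)
    refine ⟨⟨c ^ h * y⁻¹, ?_⟩, ?_⟩
    · show Solv.extHom (Solv.allGen Q) (c ^ h * y⁻¹) = 1
      rw [map_mul, map_inv, hyc, map_pow, mul_inv_cancel]
    · show (c ^ h * y⁻¹)⁻¹ * c ^ h ∈ commutator _
      rw [mul_inv_rev, inv_inv, inv_mul_cancel_right]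
      exact hy
  choose rr hrr using hex
  have hexp : ∀ c, Solv.expSum (Solv.allGen Q) (rr c : Solv.CExt (Solv.allGen Q)) =
      Solv.expSum (Solv.allGen Q) c ^ h := fun c => by
    have := hrr c
    rw [← Solv.expSum_ker, MonoidHom.mem_ker, map_mul, map_inv, inv_mul_eq_one, map_pow] at this
    exact this
  have hdep : ∀ r r' : K, Solv.expSum (Solv.allGen Q) (r : Solv.CExt (Solv.allGen Q)) =
      Solv.expSum (Solv.allGen Q) r' → ψ r = ψ r' := fun r r' hrr' => by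
    refine inv_mul_eq_one.1 ?_
    rw [← map_inv, ← map_mul]
    refine hψD _ ?_
    rw [← Solv.expSum_ker, MonoidHom.mem_ker, Subgroup.coe_mul, map_mul, Subgroup.coe_inv, map_inv,
      hrr', inv_mul_cancel]
  have hpow : Function.Bijective (powMonoidHom h : σ₂.ker →* σ₂.ker) :=
    (powCoprime hco.symm).bijective
  let P := MulEquiv.ofBijective _ hpow
  let χ : Solv.CExt (Solv.allGen Q) →* σ₂.ker :=
    MonoidHom.mk' (fun c => P.symm (ψ (rr c))) fun c d => by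
      rw [← map_mul, ← map_mul]
      exact congrArg P.symm (hdep _ _ (by
        rw [Subgroup.coe_mul, map_mul, hexp, hexp, hexp, map_mul, mul_pow]))
  have hχ : ∀ r : K, χ r = ψ r := fun r => by
    refine P.injective ((P.apply_symm_apply _).trans ?_)
    show ψ (rr r) = ψ r ^ h
    rw [← map_pow]
    exact hdep _ _ (by rw [hexp, SubgroupClass.coe_pow, map_pow])
  let B : Solv.CExt (Solv.allGen Q) →* Γ₂ :=
    MonoidHom.mk' (fun c => φ2 c * ((χ c : σ₂.ker) : Γ₂)⁻¹) fun c d => by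
      obtain ⟨z, hz⟩ : ∃ z, z = ((χ c : σ₂.ker) : Γ₂)⁻¹ := ⟨_, rfl⟩
      have hzc : φ2 d * z = z * φ2 d :=
        Subgroup.mem_center_iff.1 (hz ▸ inv_mem (h₂.2.1 (χ c).2)) _
      obtain ⟨w, hw⟩ : ∃ w, w = ((χ d : σ₂.ker) : Γ₂)⁻¹ := ⟨_, rfl⟩
      have hwz : w * z = z * w := Subgroup.mem_center_iff.1 (hz ▸ inv_mem (h₂.2.1 (χ c).2)) _
      rw [map_mul, map_mul, Subgroup.coe_mul, mul_inv_rev, ← hz, ← hw, hwz, mul_assoc (φ2 c),
        ← mul_assoc (φ2 d), hzc, mul_assoc z, ← mul_assoc]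
  have hker : φ1.ker ≤ B.ker := by
    intro r hr
    have hrk : r ∈ K := by
      show Solv.extHom (Solv.allGen Q) r = 1
      rw [← hφ1, MonoidHom.comp_apply, MonoidHom.mem_ker.1 hr, map_one]
    have hη : η ⟨r, hrk⟩ = ⟨r, hrk⟩ := by
      show ⟨r, hrk⟩ * (Subgroup.inclusion (Solv.relD_le_kerC _) (e1.symm (res1 ⟨r, hrk⟩)))⁻¹ = _
      rw [show res1 ⟨r, hrk⟩ = 1 from Subtype.ext hr, map_one, map_one, inv_one, mul_one]
    show φ2 r * ((χ r : σ₂.ker) : Γ₂)⁻¹ = 1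
    rw [show χ r = ψ ⟨r, hrk⟩ from hχ ⟨r, hrk⟩, mul_inv_eq_one]
    show φ2 r = φ2 ((η ⟨r, hrk⟩ : K) : Solv.CExt (Solv.allGen Q))
    rw [hη]
  have hsur := Solv.lift_surjective _ σ₁ h₁ φ1 hπ hφ1
  have hB : σ₂.comp B = Solv.extHom (Solv.allGen Q) := MonoidHom.ext fun c => by
    show σ₂ (φ2 c * ((χ c : σ₂.ker) : Γ₂)⁻¹) = _
    rw [map_mul, map_inv, MonoidHom.mem_ker.1 (χ c).2, inv_one, mul_one]
    exact DFunLike.congr_fun hφ2 c
  obtain ⟨β, hβ⟩ : ∃ β : Γ₁ →* Γ₂, β.comp φ1 = B :=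
    ⟨φ1.liftOfSurjective hsur ⟨B, hker⟩, MonoidHom.liftOfRightInverse_comp _ _ _ _⟩
  have hβs : Function.Surjective β := fun x => by
    obtain ⟨c, rfl⟩ := Solv.lift_surjective _ σ₂ h₂ B hπ hB x
    exact ⟨φ1 c, DFunLike.congr_fun hβ c⟩
  have hbij : Function.Bijective β := (Nat.bijective_iff_surjective_and_card β).2
    ⟨hβs, by rw [card_of_surj σ₁ h₁.1, card_of_surj σ₂ h₂.1, c₁, c₂]⟩
  refine ⟨MulEquiv.ofBijective β hbij, MonoidHom.ext fun x => ?_⟩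
  obtain ⟨c, rfl⟩ := hsur x
  show σ₂ (β (φ1 c)) = σ₁ (φ1 c)
  rw [← MonoidHom.comp_apply β φ1, hβ]
  exact (DFunLike.congr_fun hB c).trans (DFunLike.congr_fun hφ1 c).symm

theorem exists_coord {α Q : Type u} [Finite α] [Group Q] [Finite Q] (π : FreeGroup α →* Q)
    (hπ : Function.Surjective π) {p : ℕ} (hp : p.Prime)
    (hpd : p ∣ Nat.card (Abelianization Q)) :
    ∃ (ℓ : Solv.kerC π →* Multiplicative ℤ) (r0 : Solv.kerC π) (c : Solv.CExt π),
      (∀ r : Solv.kerC π, (r : Solv.CExt π) ∈ commutator (Solv.CExt π) → ℓ r = 1) ∧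
      (r0 : Solv.CExt π)⁻¹ * c ^ p ∈ commutator (Solv.CExt π) ∧
      ¬ (p : ℤ) ∣ Multiplicative.toAdd (ℓ r0) := by
  classical
  have := Fact.mk hp
  obtain ⟨qb, hqb⟩ := exists_prime_orderOf_dvd_card' p hpd
  obtain ⟨q, rfl⟩ := QuotientGroup.mk_surjective qb
  obtain ⟨c, hc⟩ := Solv.extHom_surjective π hπ q
  have hqn : q ∉ commutator Q := fun h => hp.one_lt.ne' (by
    rw [← hqb, (QuotientGroup.eq_one_iff q).2 h]
    exact orderOf_one)
  have hqp : q ^ p ∈ commutator Q := (QuotientGroup.eq_one_iff _).1 (by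
    rw [QuotientGroup.mk_pow, ← hqb]
    exact pow_orderOf_eq_one _)
  have h2 : commutator Q = (commutator (Solv.CExt π)).map (Solv.extHom π) := by
    rw [commutator_def, commutator_def, Subgroup.map_commutator, ← MonoidHom.range_eq_map,
      MonoidHom.range_eq_top_of_surjective _ (Solv.extHom_surjective π hπ)]
  obtain ⟨y, hy, hyc⟩ := Subgroup.mem_map.1 (h2 ▸ hqp)
  have hr0 : c ^ p * y⁻¹ ∈ Solv.kerC π := by
    show Solv.extHom π (c ^ p * y⁻¹) = 1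
    rw [map_mul, map_inv, hyc, map_pow, hc, mul_inv_cancel]
  let F : Additive (Solv.kerC π) →+ (α → ℤ) :=
    MonoidHom.toAdditiveLeft ((Solv.expSum π).comp (Solv.kerC π).subtype)
  let N := LinearMap.range F.toIntLinearMap
  let b := Module.Free.chooseBasis ℤ N
  have hdiv : ∃ i, ¬ (p : ℤ) ∣ b.repr (F.toIntLinearMap.rangeRestrict
      (Additive.ofMul ⟨_, hr0⟩)) i := by
    by_contra hall
    simp only [not_exists, not_not] at hall
    choose g hg using hall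
    have hN : F.toIntLinearMap.rangeRestrict (Additive.ofMul ⟨_, hr0⟩) =
        (p : ℤ) • ∑ i, g i • b i := by
      conv_lhs => rw [← b.sum_repr (F.toIntLinearMap.rangeRestrict (Additive.ofMul ⟨_, hr0⟩))]
      rw [Finset.smul_sum]
      exact Finset.sum_congr rfl fun i _ => by rw [hg, mul_smul]
    obtain ⟨r', hr'⟩ := (∑ i, g i • b i : N).2
    have hval := congrArg Subtype.val hN
    have h3 : Multiplicative.toAdd (Solv.expSum π (c ^ p * y⁻¹)) =
        (p : ℤ) • Multiplicative.toAdd (Solv.expSum π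
          ((Additive.toMul r' : Solv.kerC π) : Solv.CExt π)) := by
      rw [SetLike.val_smul, ← hr'] at hval
      exact hval
    rw [map_mul, map_inv, MonoidHom.mem_ker.1 (show y ∈ (Solv.expSum π).ker by
      rw [Solv.expSum_ker]; exact hy), inv_one, mul_one, map_pow, toAdd_pow,
      ← natCast_zsmul] at h3
    have h4 : Solv.expSum π c = Solv.expSum π ((Additive.toMul r' : Solv.kerC π) : Solv.CExt π) :=
      Multiplicative.toAdd.injective
        (smul_right_injective (α → ℤ) (Int.natCast_ne_zero.2 hp.pos.ne') h3)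
    have h5 : ((Additive.toMul r' : Solv.kerC π) : Solv.CExt π)⁻¹ * c ∈
        commutator (Solv.CExt π) := by
      rw [← Solv.expSum_ker, MonoidHom.mem_ker, map_mul, map_inv, h4, inv_mul_cancel]
    refine hqn ?_
    rw [h2, ← hc]
    refine ⟨_, h5, ?_⟩
    rw [map_mul, map_inv,
      show Solv.extHom π ((Additive.toMul r' : Solv.kerC π) : Solv.CExt π) = 1 from
        (Additive.toMul r' : Solv.kerC π).2, inv_one, one_mul]
  obtain ⟨i, hi⟩ := hdiv
  let ℓ : Solv.kerC π →* Multiplicative ℤ := AddMonoidHom.toMultiplicativeRight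
    (((b.coord i).comp F.toIntLinearMap.rangeRestrict).toAddMonoidHom)
  refine ⟨ℓ, ⟨_, hr0⟩, c, fun r hr => ?_, ?_, hi⟩
  · have h0 : F.toIntLinearMap.rangeRestrict (Additive.ofMul r) = 0 := by
      refine Subtype.ext ?_
      show Multiplicative.toAdd (Solv.expSum π (r : Solv.CExt π)) = 0
      rw [MonoidHom.mem_ker.1 (show (r : Solv.CExt π) ∈ (Solv.expSum π).ker by
        rw [Solv.expSum_ker]; exact hr), toAdd_one]
    show Multiplicative.ofAdd (b.coord i (F.toIntLinearMap.rangeRestrict (Additive.ofMul r))) = 1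
    rw [h0, map_zero, ofAdd_zero]
  · show (c ^ p * y⁻¹)⁻¹ * c ^ p ∈ commutator _
    rw [mul_inv_rev, inv_inv, inv_mul_cancel_right]
    exact hy

theorem not_unique_of_dvd {Q : Type u} [Group Q] [Finite Q] {p : ℕ} (hp : p.Prime)
    (hph : p ∣ Nat.card (Abelianization Q)) (hpd : p ∣ Nat.card (Solv.relD (Solv.allGen Q))) :
    ∃ (Γ₁ : Type u) (_ : Group Γ₁) (_ : Finite Γ₁) (Γ₂ : Type u) (_ : Group Γ₂) (_ : Finite Γ₂)
      (σ₁ : Γ₁ →* Q) (σ₂ : Γ₂ →* Q), Cfsg.IsStemExtension σ₁ ∧ Cfsg.IsStemExtension σ₂ ∧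
      Nonempty (Solv.relD (Solv.allGen Q) ≃* σ₁.ker) ∧
      Nonempty (Solv.relD (Solv.allGen Q) ≃* σ₂.ker) ∧
      ¬ ∃ e : Γ₁ ≃* Γ₂, σ₂.comp e.toMonoidHom = σ₁ := by
  classical
  have := Fact.mk hp
  have hπ := Solv.allGen_surjective Q
  have := Solv.finite_relD _ hπ
  letI : CommGroup (Solv.relD (Solv.allGen Q)) :=
    { (inferInstance : Group (Solv.relD (Solv.allGen Q))) with
      mul_comm := fun a b => Subtype.ext (Subgroup.mem_center_iff.1
        (Solv.kerC_central _ (Solv.relD_le_kerC _ b.2)) a) }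
  obtain ⟨d, hd⟩ : ∃ d : Solv.relD (Solv.allGen Q), ∀ x, x ^ p ≠ d := by
    obtain ⟨z, hz⟩ := exists_prime_orderOf_dvd_card' p hpd
    by_contra hall
    simp only [not_exists, not_forall, not_not] at hall
    have hinj := Finite.injective_iff_surjective.2
      (show Function.Surjective (fun x : Solv.relD (Solv.allGen Q) => x ^ p) from hall)
    have : z = 1 := hinj (by
      show z ^ p = 1 ^ p
      rw [one_pow, ← hz, pow_orderOf_eq_one])
    rw [this, orderOf_one] at hz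
    exact hp.one_lt.ne hz
  obtain ⟨ℓ, r0, c, hℓ, hrc, hnd⟩ := exists_coord (Solv.allGen Q) hπ hp hph
  obtain ⟨W1, h1, h2, h3, -⟩ :=
    Solv.exists_compl (Solv.allGen Q) (1 : Solv.CExt (Solv.allGen Q) →* Unit)
      (fun x _ => ⟨1, one_mem _, rfl⟩)
  let δ : Solv.kerC (Solv.allGen Q) →* Solv.relD (Solv.allGen Q) := (zpowersHom _ d).comp ℓ
  let tw : W1 →* Solv.kerC (Solv.allGen Q) := Subgroup.inclusion h1 *
    (Subgroup.inclusion (Solv.relD_le_kerC _)).comp (δ.comp (Subgroup.inclusion h1))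
  have htw : ∀ w : W1, (tw w : Solv.CExt (Solv.allGen Q)) =
      (w : Solv.CExt (Solv.allGen Q)) *
        (δ ⟨w, h1 w.2⟩ : Solv.CExt (Solv.allGen Q)) := fun w => rfl
  let W2 := tw.range.map (Solv.kerC (Solv.allGen Q)).subtype
  have g1 : W2 ≤ Solv.kerC (Solv.allGen Q) := Subgroup.map_subtype_le _
  have g2 : W2 ⊓ commutator _ = ⊥ := eq_bot_iff.2 fun x hx => by
    obtain ⟨⟨_, ⟨w, rfl⟩, rfl⟩, hxc⟩ := Subgroup.mem_inf.1 hx
    have hw : (w : Solv.CExt (Solv.allGen Q)) ∈ W1 ⊓ commutator _ := by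
      refine Subgroup.mem_inf.2 ⟨w.2, ?_⟩
      have h4 := mul_mem (show (tw w : Solv.CExt (Solv.allGen Q)) ∈ commutator _ from hxc)
        (inv_mem (Solv.relD_le_commutator _ (δ ⟨w, h1 w.2⟩).2))
      rwa [htw, mul_inv_cancel_right] at h4
    rw [h2, Subgroup.mem_bot] at hw
    have : w = 1 := Subtype.ext hw
    rw [Subgroup.mem_bot, this, map_one, map_one]
  have g3 : W2 ⊔ Solv.relD (Solv.allGen Q) = Solv.kerC (Solv.allGen Q) := by
    refine le_antisymm (sup_le g1 (Solv.relD_le_kerC _)) ?_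
    conv_lhs => rw [← h3]
    refine sup_le (fun w hw => ?_) le_sup_right
    have : (w : Solv.CExt (Solv.allGen Q)) = (tw ⟨w, hw⟩ : Solv.CExt (Solv.allGen Q)) *
        (δ ⟨w, h1 hw⟩ : Solv.CExt (Solv.allGen Q))⁻¹ := by
      rw [htw, mul_inv_cancel_right]
    rw [this]
    exact Subgroup.mul_mem_sup (show (tw ⟨w, hw⟩ : Solv.CExt (Solv.allGen Q)) ∈ W2 from ⟨tw ⟨w, hw⟩, ⟨_, rfl⟩, rfl⟩) (inv_mem (δ ⟨w, h1 hw⟩).2)
  obtain ⟨Γ₁, i1, i2, q1, σ₁, hq1, hk1, hσq1, hst1, ⟨e1⟩⟩ :=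
    Solv.exists_cover_of_compl _ hπ W1 h1 h2 h3
  obtain ⟨Γ₂, j1, j2, q2, σ₂, hq2, hk2, hσq2, hst2, ⟨e2⟩⟩ :=
    Solv.exists_cover_of_compl _ hπ W2 g1 g2 g3
  refine ⟨Γ₁, i1, i2, Γ₂, j1, j2, σ₁, σ₂, hst1, hst2, ⟨e1⟩, ⟨e2⟩, ?_⟩
  rintro ⟨e, he⟩
  letI : CommGroup σ₂.ker :=
    { (inferInstance : Group σ₂.ker) with
      mul_comm := fun a b => Subtype.ext (Subgroup.mem_center_iff.1 (hst2.2.1 b.2) a) }
  have hmem : ∀ x, (q2 x)⁻¹ * e (q1 x) ∈ σ₂.ker := fun x => by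
    rw [MonoidHom.mem_ker, map_mul, map_inv,
      show σ₂ (e (q1 x)) = σ₁ (q1 x) from DFunLike.congr_fun he _,
      show σ₁ (q1 x) = _ from DFunLike.congr_fun hσq1 x,
      show σ₂ (q2 x) = _ from DFunLike.congr_fun hσq2 x, inv_mul_cancel]
  let χ : Solv.CExt (Solv.allGen Q) →* σ₂.ker :=
    MonoidHom.mk' (fun x => ⟨_, hmem x⟩) fun a b => Subtype.ext (by
      show (q2 (a * b))⁻¹ * e (q1 (a * b)) = (q2 a)⁻¹ * e (q1 a) * ((q2 b)⁻¹ * e (q1 b))
      rw [← mul_assoc, ← Subgroup.mem_center_iff.1 (hst2.2.1 (hmem a)) (q2 b)⁻¹, map_mul,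
        map_mul, map_mul]
      group)
  have hχc : ∀ y ∈ commutator (Solv.CExt (Solv.allGen Q)), χ y = 1 := fun y hy =>
    Abelianization.commutator_subset_ker χ hy
  obtain ⟨w, hw, d0, hd0, hwd⟩ : ∃ w ∈ W1, ∃ d0 ∈ Solv.relD (Solv.allGen Q),
      w * d0 = (r0 : Solv.CExt (Solv.allGen Q)) := by
    have : (Solv.relD (Solv.allGen Q)).Normal := ⟨fun x hx g => by
      rw [Subgroup.mem_center_iff.1 (Solv.kerC_central _ (Solv.relD_le_kerC _ hx)) g,
        mul_inv_cancel_right]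
      exact hx⟩
    have hr : (r0 : Solv.CExt (Solv.allGen Q)) ∈ W1 ⊔ Solv.relD (Solv.allGen Q) := by
      rw [h3]; exact r0.2
    exact Subgroup.mem_sup_of_normal_right.1 hr
  have hℓw : ℓ ⟨w, h1 hw⟩ = ℓ r0 := by
    rw [show r0 = ⟨w, h1 hw⟩ * ⟨d0, Solv.relD_le_kerC _ hd0⟩ from Subtype.ext hwd.symm, map_mul,
      hℓ ⟨d0, _⟩ (Solv.relD_le_commutator _ hd0), mul_one]
  let ρ := Solv.relDMap (Solv.allGen Q) σ₂ q2 hσq2
  have hbij : Function.Bijective ρ :=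
    Solv.relDMap_bijective _ σ₂ hst2 q2 hπ hσq2 (Nat.card_congr e2.toEquiv).symm
  have key : χ c ^ p = ρ (d ^ Multiplicative.toAdd (ℓ r0)) := by
    have h5 := hχc _ hrc
    rw [map_mul, map_inv, inv_mul_eq_one, map_pow] at h5
    rw [← h5, ← hwd, map_mul, hχc d0 (Solv.relD_le_commutator _ hd0), mul_one]
    refine Subtype.ext ?_
    show (q2 w)⁻¹ * e (q1 w) = q2 ((d ^ Multiplicative.toAdd (ℓ r0) :
      Solv.relD (Solv.allGen Q)) : Solv.CExt (Solv.allGen Q))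
    rw [MonoidHom.mem_ker.1 (show w ∈ q1.ker from hk1 ▸ hw), map_one, mul_one, inv_eq_iff_mul_eq_one,
      ← map_mul, ← MonoidHom.mem_ker, hk2]
    refine ⟨tw ⟨w, hw⟩, ⟨_, rfl⟩, ?_⟩
    show (tw ⟨w, hw⟩ : Solv.CExt (Solv.allGen Q)) = _
    rw [htw]
    show w * ((d ^ Multiplicative.toAdd (ℓ ⟨w, h1 hw⟩) :
      Solv.relD (Solv.allGen Q)) : Solv.CExt (Solv.allGen Q)) = _
    rw [hℓw]
  obtain ⟨x, hx⟩ := hbij.2 (χ c)
  have hxp : x ^ p = d ^ Multiplicative.toAdd (ℓ r0) := hbij.1 (by rw [map_pow, hx, key])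
  obtain ⟨a, b, hab⟩ := (Int.isCoprime_iff_gcd_eq_one.2 (show Int.gcd (p : ℤ)
      (Multiplicative.toAdd (ℓ r0)) = 1 from Nat.coprime_iff_gcd_eq_one.1
        (hp.coprime_iff_not_dvd.2 fun h => hnd (Int.natCast_dvd.2 h))))
  refine hd (d ^ a * x ^ b) ?_
  calc (d ^ a * x ^ b) ^ p = d ^ (a * (p : ℤ)) * (x ^ p) ^ b := by
        rw [mul_pow, zpow_mul, zpow_natCast, ← zpow_natCast (x ^ b), ← zpow_mul, mul_comm b,
          zpow_mul, zpow_natCast]
    _ = d := by rw [hxp, ← zpow_mul, ← zpow_add, mul_comm _ b, hab, zpow_one]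

/-- Let `Q` be a finite group with Schur multiplier `A`. Any two Schur covering groups of `Q` (finite stem extensions `σ₁ : Γ₁ →* Q`, `σ₂ : Γ₂ →* Q` with kernels isomorphic to `A`, `Γ₁, Γ₂` in the universe of `Q`) are isomorphic over `Q` — there is a group isomorphism `e : Γ₁ ≃* Γ₂` with `σ₂ ∘ e = σ₁` — if and only if the order of the commutator quotient of `Q` is coprime to the order of `A`. In particular a finite perfect group has a unique Schur covering group up to isomorphism over it. -/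
theorem result {Q : Type u} [Group Q] [Finite Q] {A : Type v} [CommGroup A] (hA : Cfsg.HasSchurMultiplier Q A) : (∀ (Γ₁ Γ₂ : Type u) [Group Γ₁] [Finite Γ₁] [Group Γ₂] [Finite Γ₂] (σ₁ : Γ₁ →* Q) (σ₂ : Γ₂ →* Q), Cfsg.IsStemExtension σ₁ → Cfsg.IsStemExtension σ₂ → Nonempty (σ₁.ker ≃* A) → Nonempty (σ₂.ker ≃* A) → ∃ e : Γ₁ ≃* Γ₂, σ₂.comp e.toMonoidHom = σ₁) ↔ Nat.Coprime (Nat.card (Abelianization Q)) (Nat.card A) := by
  obtain ⟨eA⟩ := Solv.mult_iso _ (Solv.allGen_surjective Q) hA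
  constructor
  · intro huniq
    by_contra hnc
    obtain ⟨p, hp, hph, hpd⟩ := Nat.Prime.not_coprime_iff_dvd.1 hnc
    obtain ⟨Γ₁, i1, i2, Γ₂, j1, j2, σ₁, σ₂, h₁, h₂, ⟨e1⟩, ⟨e2⟩, hne⟩ :=
      not_unique_of_dvd hp hph ((Nat.card_congr eA.toEquiv).symm ▸ hpd)
    exact hne (@huniq Γ₁ Γ₂ i1 i2 j1 j2 σ₁ σ₂ h₁ h₂ ⟨e1.symm.trans eA⟩ ⟨e2.symm.trans eA⟩)
  · intro hco Γ₁ Γ₂ _ _ _ _ σ₁ σ₂ h₁ h₂ ⟨k₁⟩ ⟨k₂⟩
    exact exists_iso_of_coprime σ₁ σ₂ h₁ h₂ (Nat.card_congr (k₁.trans eA.symm).toEquiv)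
      (Nat.card_congr (k₂.trans eA.symm).toEquiv)
      (by rw [Nat.card_congr k₂.toEquiv]; exact hco)

end Cfsg.Agent.S3974
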