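import Cfsg.Statements.S3976
import Cfsg.Agent.Lib.Solv.Count

set_option autoImplicit false
open Cfsg

open scoped Pointwise commutatorElement

namespace Cfsg.Agent.S3976

/-- Let `p` be a prime and `G` a group of order `p ^ m`. For every `s ≤ m` the number of normal subgroups of `G` of order `p ^ s` is congruent to `1` modulo `p`. -/
theorem result {G : Type*} [Group G] [Finite G] (p m s : ℕ) (hp : p.Prime) (hG : Nat.card G = p ^ m) (hs : s ≤ m) : Nat.card {H : Subgroup G // H.Normal ∧ Nat.card H = p ^ s} ≡ 1 [MOD p] := by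
  have := Fact.mk hp
  refine Nat.ModEq.trans ?_ (Solv.card_subgroups_modEq_one hp (hG ▸ pow_dvd_pow p hs))
  letI act : MulAction G {H : Subgroup G // Nat.card H = p ^ s} :=
    { smul := fun g H => ⟨MulAut.conj g • H.1, by rw [Solv.card_conj_smul]; exact H.2⟩
      one_smul := fun H => Subtype.ext (by show MulAut.conj (1 : G) • H.1 = H.1; simp)
      mul_smul := fun g h H => Subtype.ext (by
        show MulAut.conj (g * h) • H.1 = MulAut.conj g • MulAut.conj h • H.1
        rw [map_mul, mul_smul]) }
  refine Nat.ModEq.trans ?_ ((IsPGroup.of_card hG).card_modEq_card_fixedPoints _).symm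
  show _ % p = _ % p
  refine congrArg (· % p) (Nat.card_congr ?_)
  refine ((Equiv.subtypeEquivRight fun H => and_comm).trans
    (Equiv.subtypeSubtypeEquivSubtypeInter _ (fun H : Subgroup G => H.Normal)).symm).trans
    (Equiv.subtypeEquivRight fun H => ⟨fun hn g => Subtype.ext (Subgroup.Normal.conj_smul_eq_self g H.1 (h := hn)), fun h => ?_⟩)
  exact Subgroup.normalizer_eq_top_iff.1 (eq_top_iff.2 fun g _ =>
    Solv.mem_normalizer_of_conj_smul (congrArg Subtype.val (h g)))

end Cfsg.Agent.S3976
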