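import Cfsg.Statements.S3977
import Cfsg.Agent.Lib.Solv.UniqueSub

set_option autoImplicit false
open Cfsg

open scoped Pointwise commutatorElement

namespace Cfsg.Agent.S3977

/-- Let `p` be a prime and `G` a group of order `p ^ m` which has exactly one subgroup of order `p ^ s`, where `1 ≤ s < m`, and where `s ≥ 2` if `p = 2`. Then `G` is cyclic. (For `p = 2` and `s = 1` the generalized quaternion groups also occur; that case is the classical criterion for a unique involution.) -/
theorem result {G : Type*} [Group G] [Finite G] (p m s : ℕ) (hp : p.Prime) (hG : Nat.card G = p ^ m) (hs : 1 ≤ s) (hsm : s < m) (h2 : p ≠ 2 ∨ 2 ≤ s) (huniq : ∀ H K : Subgroup G, Nat.card H = p ^ s → Nat.card K = p ^ s → H = K) : IsCyclic G := by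
  have := Fact.mk hp
  have hP : IsPGroup p G := IsPGroup.of_card hG
  obtain ⟨S, hS⟩ := Sylow.exists_subgroup_card_pow_prime p (hG ▸ pow_dvd_pow p hsm.le)
  -- every subgroup of order at most `p ^ s` lies in `S`, every larger one contains `S`
  have hsmall : ∀ H : Subgroup G, Nat.card H ≤ p ^ s → H ≤ S := by
    intro H hH
    obtain ⟨j, hj⟩ := IsPGroup.iff_card.mp (hP.to_subgroup H)
    have hjs : j ≤ s := (Nat.pow_le_pow_iff_right hp.one_lt).1 (hj ▸ hH)
    obtain ⟨K, hK, hHK⟩ := Sylow.exists_subgroup_card_pow_prime_le p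
      (n := j) (m := s) (hG ▸ pow_dvd_pow p hsm.le) H hj hjs
    exact hHK.trans (huniq K S hK hS).le
  have hbig : ∀ H : Subgroup G, p ^ s ≤ Nat.card H → S ≤ H := by
    intro H hH
    obtain ⟨j, hj⟩ := IsPGroup.iff_card.mp (hP.to_subgroup H)
    have hjs : s ≤ j := (Nat.pow_le_pow_iff_right hp.one_lt).1 (hj ▸ hH)
    obtain ⟨K, hK⟩ := Sylow.exists_subgroup_card_pow_prime p (G := H) (n := s) (hj ▸ pow_dvd_pow p hjs)
    rw [← huniq (K.map H.subtype) S (by rw [Solv.card_map_subtype, hK]) hS]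
    exact Subgroup.map_subtype_le K
  obtain ⟨c, hc⟩ : ∃ c, S ≤ Subgroup.zpowers c := by
    have hne : S ≠ ⊤ := fun h => by
      rw [h, Subgroup.card_top, hG] at hS
      exact hsm.ne' (Nat.pow_right_injective hp.two_le hS)
    obtain ⟨x, -, hx⟩ := SetLike.exists_of_lt (lt_top_iff_ne_top.2 hne)
    refine ⟨x, hbig _ (le_of_not_ge fun h => hx ?_)⟩
    exact hsmall _ h (Subgroup.mem_zpowers x)
  have hScyc : IsCyclic S := isCyclic_of_injective (Subgroup.inclusion hc) (Subgroup.inclusion_injective hc)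
  have hu : Solv.UniqueOrderP p G := by
    refine Solv.uniqueOrderP_of_subgroups fun H K hH hK => ?_
    have hps : p ≤ p ^ s := Nat.le_self_pow (by omega) p
    have hmap : ∀ H' : Subgroup G, Nat.card H' = p → H' ≤ S ∧ Nat.card (H'.subgroupOf S) = p := by
      intro H' h'
      have hle := hsmall H' (h'.trans_le hps)
      exact ⟨hle, (Nat.card_congr (Subgroup.subgroupOfEquivOfLe hle).toEquiv).trans h'⟩
    obtain ⟨hH1, hH2⟩ := hmap H hH
    obtain ⟨hK1, hK2⟩ := hmap K hK
    letI : CommGroup S := IsCyclic.commGroup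
    have hker : ∀ D : Subgroup S, Nat.card D = p → D = (powMonoidHom p : S →* S).ker := fun D hD => by
      refine Subgroup.eq_of_le_of_card_ge (fun d hd => ?_) ?_
      · have h1 : (⟨d, hd⟩ : D) ^ p = 1 := hD ▸ pow_card_eq_one'
        exact congrArg Subtype.val h1
      · rw [IsCyclic.card_powMonoidHom_ker, hD]
        exact Nat.gcd_le_right _ hp.pos
    have h := (hker _ hH2).trans (hker _ hK2).symm
    rw [← Subgroup.map_subgroupOf_eq_of_le hH1, h, Subgroup.map_subgroupOf_eq_of_le hK1]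
  rcases Solv.cyclic_or_quaternion hP hu with h | ⟨rfl, k, ⟨e⟩⟩
  · exact h
  exfalso
  have hs2 : 2 ≤ s := h2.resolve_left (not_not.2 rfl)
  have hmem : ∀ i, e.symm (QuaternionGroup.xa i) ∈ S := fun i => by
    refine hsmall _ ?_ (Subgroup.mem_zpowers _)
    rw [Nat.card_zpowers, MulEquiv.orderOf_eq]
    have : NeZero (2 ^ k) := ⟨pow_ne_zero _ two_ne_zero⟩
    rw [QuaternionGroup.orderOf_xa]
    calc 4 = 2 ^ 2 := rfl
      _ ≤ 2 ^ s := Nat.pow_le_pow_right (by norm_num) hs2
  letI : CommGroup S := IsCyclic.commGroup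
  have hcomm := congrArg Subtype.val (mul_comm (⟨_, hmem 0⟩ : S) ⟨_, hmem 1⟩)
  simp only [Subgroup.coe_mul] at hcomm
  rw [← map_mul, ← map_mul] at hcomm
  have h0 := e.symm.injective hcomm
  rw [QuaternionGroup.xa_mul_xa, QuaternionGroup.xa_mul_xa] at h0
  simp only [QuaternionGroup.a.injEq] at h0
  have h2' : ((2 : ℕ) : ZMod (2 * 2 ^ k)) = 0 := by
    push_cast
    linear_combination h0
  rw [ZMod.natCast_eq_zero_iff] at h2'
  have hk : 2 ^ k = 1 := by
    have := Nat.le_of_dvd two_pos h2'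
    have := Nat.one_le_two_pow (n := k)
    omega
  have hcard : Nat.card G = 4 := by
    rw [Nat.card_congr e.toEquiv]
    have : NeZero (2 ^ k) := ⟨pow_ne_zero _ two_ne_zero⟩
    rw [Nat.card_eq_fintype_card, QuaternionGroup.card, hk]
  rw [hG] at hcard
  have : m = 2 := Nat.pow_right_injective le_rfl (hcard.trans (by norm_num : (4 : ℕ) = 2 ^ 2))
  omega

end Cfsg.Agent.S3977
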