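import Cfsg.Statements.S3978
import Cfsg.Agent.Lib.Solv.SchurProj

set_option autoImplicit false
set_option linter.style.haveILetI false
open Cfsg

open scoped Pointwise commutatorElement

namespace Cfsg.Agent.S3978

/-- A finite group `Q` has trivial Schur multiplier if and only if, for every `n`, every homomorphism from `Q` to the projective general linear group (the quotient of `GL n ℂ` by its centre) lifts to a homomorphism into `GL n ℂ`. -/
theorem result {Q : Type*} [Group Q] [Finite Q] : Cfsg.HasCyclicSchurMultiplier Q 1 ↔ ∀ (n : ℕ) (γ : Q →* (GL (Fin n) ℂ ⧸ Subgroup.center (GL (Fin n) ℂ))), ∃ ρ : Q →* GL (Fin n) ℂ, (QuotientGroup.mk' (Subgroup.center (GL (Fin n) ℂ))).comp ρ = γ := by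
  have hid : Cfsg.IsStemExtension (MonoidHom.id Q) :=
    ⟨Function.surjective_id, fun x hx => by rw [show x = 1 from hx]; exact one_mem _,
      fun x hx => by rw [show x = 1 from hx]; exact one_mem _⟩
  have hsub : Subsingleton (MonoidHom.id Q).ker :=
    ⟨fun a b => Subtype.ext ((show (a : Q) = 1 from a.2).trans (show (b : Q) = 1 from b.2).symm)⟩
  constructor
  · intro h n γ
    obtain ⟨e⟩ := Solv.mult_iso _ (Solv.allGen_surjective Q) h
    have : Subsingleton (Solv.relD (Solv.allGen Q)) := e.toEquiv.subsingleton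
    obtain ⟨ρ, hρ⟩ := Solv.lift_of_cover _ (Solv.allGen_surjective Q) (MonoidHom.id Q) hid
      (by rw [Nat.card_unique, Nat.card_unique]) n γ
    exact ⟨ρ, hρ.trans (MonoidHom.comp_id γ)⟩
  · intro hlift
    obtain ⟨Γ, i1, i2, σ, hσ, ⟨e⟩, -⟩ :=
      Solv.exists_cover_over _ (Solv.allGen_surjective Q) (MonoidHom.id Q) hid
    obtain ⟨f, hf⟩ := Solv.surj_of_lifts (MonoidHom.id Q) hid
      (fun n γ => (hlift n γ).imp fun ρ hρ => hρ.trans (MonoidHom.comp_id γ).symm) σ hσ
    have : Subsingleton σ.ker := hf.subsingleton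
    have : Subsingleton (Solv.relD (Solv.allGen Q)) := e.toEquiv.subsingleton
    let _ : Unique (Solv.relD (Solv.allGen Q)) := ⟨⟨1⟩, fun _ => Subsingleton.elim _ _⟩
    exact Solv.hasSchur_of_iso _ (Solv.allGen_surjective Q)
      { toFun := fun _ => 1
        invFun := fun _ => 1
        left_inv := fun _ => Subsingleton.elim _ _
        right_inv := fun _ => Subsingleton.elim _ _
        map_mul' := fun _ _ => Subsingleton.elim _ _ }

end Cfsg.Agent.S3978
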