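import Cfsg.Statements.S3980
import Cfsg.Agent.Lib.Solv.SchurProd

set_option autoImplicit false
set_option linter.style.haveILetI false
universe u v w
open Cfsg

open scoped Pointwise commutatorElement

namespace Cfsg.Agent.S3980

/-- Let `Q₁` and `Q₂` be finite groups whose commutator quotients have coprime orders, with Schur multipliers `A` and `B`. Then the Schur multiplier of `Q₁ × Q₂` is isomorphic to `A × B`. -/
theorem result {Q₁ : Type u} {Q₂ : Type v} [Group Q₁] [Group Q₂] [Finite Q₁] [Finite Q₂] {A B : Type w} [CommGroup A] [CommGroup B] (hA : Cfsg.HasSchurMultiplier Q₁ A) (hB : Cfsg.HasSchurMultiplier Q₂ B) (hcop : Nat.Coprime (Nat.card (Abelianization Q₁)) (Nat.card (Abelianization Q₂))) : Cfsg.HasSchurMultiplier (Q₁ × Q₂) (A × B) := by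
  have hz : ∀ x : Solv.AbTensor Q₁ Q₂, x = 0 := fun x => by
    have h1 := Solv.nsmul_abTensor_eq_zero (Q₁ := Q₁) (Q₂ := Q₂)
      (k := Nat.card (Abelianization Q₁)) (Or.inl fun a => pow_card_eq_one') x
    have h2 := Solv.nsmul_abTensor_eq_zero (Q₁ := Q₁) (Q₂ := Q₂)
      (k := Nat.card (Abelianization Q₂)) (Or.inr fun a => pow_card_eq_one') x
    have h3 : addOrderOf x ∣ 1 := by
      rw [← hcop.gcd_eq_one]
      exact Nat.dvd_gcd (addOrderOf_dvd_iff_nsmul_eq_zero.2 h1)
        (addOrderOf_dvd_iff_nsmul_eq_zero.2 h2)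
    exact AddMonoid.addOrderOf_eq_one_iff.1 (Nat.dvd_one.1 h3)
  refine Solv.hasSchur_congr ?_ (Solv.hasSchur_prod hA hB)
  exact
    { toFun := fun z => (z.1, z.2.1)
      invFun := fun z => (z.1, z.2, 1)
      left_inv := fun z => Prod.ext rfl (Prod.ext rfl
        (Multiplicative.toAdd.injective ((hz _).trans (hz _).symm)))
      right_inv := fun z => rfl
      map_mul' := fun a b => rfl }

end Cfsg.Agent.S3980
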