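import Cfsg.Statements.S3981
import Cfsg.Agent.Lib.Solv.Basic
import Cfsg.Agent.Lib.Fusion.Basic

set_option autoImplicit false
open Cfsg

open scoped Pointwise commutatorElement

namespace Cfsg.Agent.S3981

theorem pow_mod {G : Type*} [Group G] {Q : Subgroup G} {a b : G}
    (hb : b ∈ Subgroup.normalizer (Q : Set G)) (h : a * b⁻¹ ∈ Q) (n : ℕ) : a ^ n * (b ^ n)⁻¹ ∈ Q := by
  induction n with
  | zero => simp
  | succ n ih =>
    have hbn := Subgroup.pow_mem _ hb n
    have h2 := (Subgroup.mem_normalizer_iff.1 hbn _).1 h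
    have h3 := Q.mul_mem ih h2
    rw [show a ^ n * (b ^ n)⁻¹ * (b ^ n * (a * b⁻¹) * (b ^ n)⁻¹) = a ^ n * a * (b⁻¹ * (b ^ n)⁻¹) by group,
      ← mul_inv_rev, ← pow_succ, ← pow_succ] at h3
    exact h3

theorem exists_last_pow {G : Type*} [Group G] {p : ℕ} {Q : Subgroup G} {w : G} (hw : w ∉ Q)
    (hk : ∃ k, w ^ p ^ k ∈ Q) : ∃ k, w ^ p ^ k ∉ Q ∧ (w ^ p ^ k) ^ p ∈ Q := by
  classical
  have h0 : Nat.find hk ≠ 0 := fun h => hw (by
    have := Nat.find_spec hk
    rwa [h, pow_zero, pow_one] at this)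
  refine ⟨Nat.find hk - 1, Nat.find_min hk (by omega), ?_⟩
  rw [← pow_mul, ← pow_succ, Nat.sub_add_cancel (Nat.one_le_iff_ne_zero.2 h0)]
  exact Nat.find_spec hk

/-- Let p be an odd prime, Q a p-subgroup of the finite group G and y an involution normalizing Q. Then Q is maximal among the p-subgroups of G normalized by y if and only if the image of y in N_G(Q) ⧸ Q neither inverts nor centralizes any element of order p there; the latter is phrased inside N_G(Q): for every x in N_G(Q) outside Q with x ^ p ∈ Q, neither y x y⁻¹ x nor y x y⁻¹ x⁻¹ lies in Q. -/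
theorem result {G : Type*} [Group G] [Finite G] (p : ℕ) [Fact p.Prime] (hp2 : p ≠ 2) (Q : Subgroup G) (hQ : IsPGroup p ↥Q) (y : G) (hy : orderOf y = 2) (hyQ : y ∈ Subgroup.normalizer (Q : Set G)) : (∀ R : Subgroup G, IsPGroup p ↥R → Q ≤ R → y ∈ Subgroup.normalizer (R : Set G) → R = Q) ↔ ∀ x : G, x ∈ Subgroup.normalizer (Q : Set G) → x ∉ Q → x ^ p ∈ Q → (y * x * y⁻¹ * x ∉ Q ∧ y * x * y⁻¹ * x⁻¹ ∉ Q) := by
  have hp : p.Prime := Fact.out
  constructor
  · intro hmax x hxN hxQ hxp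
    have hxpg : IsPGroup p (Subgroup.zpowers x) := by
      obtain ⟨k, hk⟩ := hQ ⟨_, hxp⟩
      have hd : orderOf x ∣ p ^ (k + 1) := by
        refine orderOf_dvd_of_pow_eq_one ?_
        rw [pow_succ', pow_mul]
        exact congrArg Subtype.val hk
      obtain ⟨j, -, hj⟩ := (Nat.dvd_prime_pow hp).1 hd
      exact IsPGroup.of_card (n := j) (by rw [Nat.card_zpowers, hj])
    have hR : IsPGroup p (Subgroup.zpowers x ⊔ Q : Subgroup G) :=
      hxpg.to_sup_of_normal_right' hQ (Subgroup.zpowers_le.2 hxN)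
    have hbad : y * x * y⁻¹ ∈ (Subgroup.zpowers x ⊔ Q : Subgroup G) → False := by
      intro hyx
      have hyR : y ∈ Subgroup.normalizer ((Subgroup.zpowers x ⊔ Q : Subgroup G) : Set G) := by
        refine Solv.mem_normalizer_of_conj_smul (Subgroup.eq_of_le_of_card_ge ?_ (by rw [Solv.card_conj_smul]))
        rw [Solv.conj_smul_eq_map, Subgroup.map_sup, MonoidHom.map_zpowers]
        refine sup_le (Subgroup.zpowers_le.2 hyx) ?_
        rintro _ ⟨q, hq, rfl⟩
        exact Subgroup.mem_sup_right ((Subgroup.mem_normalizer_iff.1 hyQ q).1 hq)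
      exact hxQ ((hmax _ hR le_sup_right hyR).le (Subgroup.mem_sup_left (Subgroup.mem_zpowers x)))
    refine ⟨fun h => hbad ?_, fun h => hbad ?_⟩
    · have := mul_mem (Subgroup.mem_sup_right h : _ ∈ Subgroup.zpowers x ⊔ Q)
        (Subgroup.mem_sup_left (inv_mem (Subgroup.mem_zpowers x)))
      rwa [mul_inv_cancel_right] at this
    · have := mul_mem (Subgroup.mem_sup_right h : _ ∈ Subgroup.zpowers x ⊔ Q)
        (Subgroup.mem_sup_left (Subgroup.mem_zpowers x))
      rwa [inv_mul_cancel_right] at this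
  · intro h R hR hQR hyR
    by_contra hne
    obtain ⟨r, ⟨hrR, hrN⟩, hrQ⟩ := SetLike.exists_of_lt
      (Fusion.SylIn.normalizer_growth hQR (Ne.symm hne) hR)
    have hs : y * r * y⁻¹ * r⁻¹ ∈ R ⊓ Subgroup.normalizer (Q : Set G) :=
      ⟨R.mul_mem ((Subgroup.mem_normalizer_iff.1 hyR r).1 hrR) (R.inv_mem hrR),
        (Subgroup.normalizer (Q : Set G)).mul_mem (mul_mem (mul_mem hyQ hrN) (inv_mem hyQ)) ((Subgroup.normalizer (Q : Set G)).inv_mem hrN)⟩
    have hpow : ∀ w ∈ R, ∃ k, w ^ p ^ k ∈ Q := fun w hw => by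
      obtain ⟨k, hk⟩ := hR ⟨w, hw⟩
      refine ⟨k, ?_⟩
      rw [show w ^ p ^ k = 1 from congrArg Subtype.val hk]
      exact Q.one_mem
    have hy2 : y * y = 1 := by rw [← pow_two, ← hy, pow_orderOf_eq_one]
    by_cases hsQ : y * r * y⁻¹ * r⁻¹ ∈ Q
    · obtain ⟨k, hk1, hk2⟩ := exists_last_pow hrQ (hpow r hrR)
      refine (h _ (Subgroup.pow_mem _ hrN _) hk1 hk2).2 ?_
      rw [← conj_pow]
      exact pow_mod hrN hsQ _
    · set s := y * r * y⁻¹ * r⁻¹
      obtain ⟨k, hk1, hk2⟩ := exists_last_pow hsQ (hpow s hs.1)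
      refine (h _ (Subgroup.pow_mem _ hs.2 _) hk1 hk2).1 ?_
      have hy' : y⁻¹ = y := inv_eq_of_mul_eq_one_right hy2
      have hsi : y * s * y⁻¹ = s⁻¹ := by
        show y * (y * r * y⁻¹ * r⁻¹) * y⁻¹ = (y * r * y⁻¹ * r⁻¹)⁻¹
        rw [show y * (y * r * y⁻¹ * r⁻¹) * y⁻¹ = (y * y) * (r * y⁻¹ * r⁻¹ * y⁻¹) by group, hy2, one_mul,
          mul_inv_rev, mul_inv_rev, mul_inv_rev, inv_inv, inv_inv, hy']
        simp [mul_assoc]
      rw [← conj_pow, hsi, inv_pow, inv_mul_cancel]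
      exact Q.one_mem

end Cfsg.Agent.S3981
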