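import Cfsg.Statements.S3982
import Cfsg.Agent.Lib.Solv.Coprime
import Cfsg.Agent.Lib.Fusion.Basic
import Mathlib.GroupTheory.FixedPointFree

set_option autoImplicit false
open Cfsg

open scoped Pointwise commutatorElement

namespace Cfsg.Agent.S3982

/-- Let p be an odd prime and G a finite group of even order divisible by p in which the centralizer of every non-identity p-element has odd order. If some nontrivial p-subgroup of G has a normalizer of even order, then the normalizer of every Sylow p-subgroup of G has even order. -/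
theorem result {G : Type*} [Group G] [Finite G] (p : ℕ) [Fact p.Prime] (hp2 : p ≠ 2) (hpG : p ∣ Nat.card G) (h2G : 2 ∣ Nat.card G) (hC : ∀ g : G, g ≠ 1 → (∃ k : ℕ, orderOf g = p ^ k) → Odd (Nat.card ↥(Subgroup.centralizer ({g} : Set G)))) (Q : Subgroup G) (hQ : IsPGroup p ↥Q) (hQ1 : Q ≠ ⊥) (hev : Even (Nat.card ↥(Subgroup.normalizer (Q : Set G)))) (P : Sylow p G) : Even (Nat.card ↥(Subgroup.normalizer ((P : Subgroup G) : Set G))) := by
  have hp : p.Prime := Fact.out
  have := Fact.mk Nat.prime_two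
  obtain ⟨R, -, hRmax⟩ := Finite.exists_le_maximal (p := fun R : Subgroup G =>
    IsPGroup p R ∧ R ≠ ⊥ ∧ Even (Nat.card (Subgroup.normalizer (R : Set G)))) (a := Q) ⟨hQ, hQ1, hev⟩
  obtain ⟨hRp, hR1, hRev⟩ := hRmax.1
  set M := Subgroup.normalizer (R : Set G) with hM
  obtain ⟨⟨y, hyM⟩, hy⟩ := exists_prime_orderOf_dvd_card' (G := M) 2 (even_iff_two_dvd.1 hRev)
  rw [Subgroup.orderOf_mk] at hy
  have hy2 : y * y = 1 := by rw [← pow_two, ← hy, pow_orderOf_eq_one]
  have hord : ∀ g ∈ R, ∃ k : ℕ, orderOf g = p ^ k := fun g hg => by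
    obtain ⟨k, hk⟩ := IsPGroup.iff_orderOf.1 hRp ⟨g, hg⟩
    exact ⟨k, by rwa [Subgroup.orderOf_mk] at hk⟩
  have hnoy : ∀ g : G, (∃ k : ℕ, orderOf g = p ^ k) → y * g = g * y → g = 1 := by
    intro g hg hyg
    by_contra hg1
    have hd : orderOf y ∣ Nat.card (Subgroup.centralizer ({g} : Set G)) := by
      rw [← Subgroup.orderOf_mk y (Subgroup.mem_centralizer_singleton_iff.2 hyg)]
      exact orderOf_dvd_natCard _
    rw [hy] at hd
    exact Nat.not_even_iff_odd.2 (hC g hg1 hg) (even_iff_two_dvd.2 hd)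
  have hinv : ∀ q ∈ R, y * q * y⁻¹ = q⁻¹ := by
    intro q hq
    let φ : R →* R :=
      { toFun := fun u => ⟨y * u * y⁻¹, (Subgroup.mem_normalizer_iff.1 hyM _).1 u.2⟩
        map_one' := Subtype.ext (by simp)
        map_mul' := fun a b => Subtype.ext (by simp [mul_assoc]) }
    have hfix : MonoidHom.FixedPointFree φ := fun u hu =>
      Subtype.ext (hnoy u (hord u u.2) (mul_inv_eq_iff_eq_mul.1 (congrArg Subtype.val hu)))
    have hi : Function.Involutive φ := fun u => Subtype.ext (by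
      show y * (y * u * y⁻¹) * y⁻¹ = u
      rw [show y * (y * (u : G) * y⁻¹) * y⁻¹ = y * y * u * (y * y)⁻¹ by group, hy2]; simp)
    exact congrArg Subtype.val (congrFun (hfix.coe_eq_inv_of_involutive hi) ⟨q, hq⟩)
  have hRc : R ≤ Subgroup.centralizer (R : Set G) := by
    intro a ha
    refine Subgroup.mem_centralizer_iff.2 fun b hb => ?_
    have h := hinv _ (R.mul_mem ha hb)
    rw [← conj_mul, hinv a ha, hinv b hb, mul_inv_rev] at h
    have := congrArg (·⁻¹) h
    simpa using this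
  set K := M ⊓ Subgroup.centralizer (R : Set G) with hK
  have hRK : R ≤ K := le_inf Subgroup.le_normalizer hRc
  obtain ⟨⟨q, hq⟩, hq1⟩ := Subgroup.ne_bot_iff_exists_ne_one.1 hR1
  have hq1 : q ≠ 1 := fun e => hq1 (Subtype.ext e)
  have hKodd : Odd (Nat.card K) := by
    refine (hC q hq1 (hord q hq)).of_dvd_nat (Subgroup.card_dvd_of_le fun t ht => ?_)
    exact Subgroup.mem_centralizer_singleton_iff.2 (Subgroup.mem_centralizer_iff.1 ht.2 q hq).symm
  set A := Subgroup.zpowers y with hA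
  have hco : (Nat.card A).Coprime (Nat.card K) := by
    rw [hA, Nat.card_zpowers, hy]; exact hKodd.coprime_two_left
  have hKn : ∀ m ∈ M, m ∈ Subgroup.normalizer (K : Set G) := by
    intro m hm
    refine Solv.mem_normalizer_of_conj_smul (Subgroup.eq_of_le_of_card_ge ?_ (by rw [Solv.card_conj_smul]))
    rw [Solv.conj_smul_eq_map]
    rintro _ ⟨k, ⟨hkM, hkC⟩, rfl⟩
    refine ⟨M.mul_mem (M.mul_mem hm hkM) (M.inv_mem hm), Subgroup.mem_centralizer_iff.2 fun u hu => ?_⟩
    show u * (m * k * m⁻¹) = m * k * m⁻¹ * u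
    have hu' : m⁻¹ * u * m ∈ R := by
      rw [Subgroup.mem_normalizer_iff.1 hm]
      rw [show m * (m⁻¹ * u * m) * m⁻¹ = u by group]; exact hu
    have e := Subgroup.mem_centralizer_iff.1 hkC _ hu'
    calc u * (m * k * m⁻¹) = m * (m⁻¹ * u * m * k) * m⁻¹ := by group
      _ = m * (k * (m⁻¹ * u * m)) * m⁻¹ := by rw [e]
      _ = _ := by group
  have hAK : A ≤ Subgroup.normalizer (K : Set G) := Subgroup.zpowers_le.2 (hKn y hyM)
  have hsolA : Group.IsSolvable A := inferInstance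
  -- `M` is covered by `K` and the centralizer of `y`
  set C := M ⊓ Subgroup.centralizer ({y} : Set G) with hCdef
  have hcomm : ∀ m ∈ M, m⁻¹ * (y * m * y⁻¹) ∈ K := by
    intro m hm
    refine ⟨M.mul_mem (M.inv_mem hm) (M.mul_mem (M.mul_mem hyM hm) (M.inv_mem hyM)), ?_⟩
    refine Subgroup.mem_centralizer_iff.2 fun u hu => ?_
    have hy' : y⁻¹ = y := inv_eq_of_mul_eq_one_right hy2
    have hu' : y⁻¹ * u * y = u⁻¹ := by
      rw [hy']
      have := hinv u hu
      rwa [hy'] at this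
    have hmu : m * u * m⁻¹ ∈ R := (Subgroup.mem_normalizer_iff.1 hm u).1 hu
    have h1 : y * (m * u * m⁻¹) * y⁻¹ = (m * u * m⁻¹)⁻¹ := hinv _ hmu
    have h2 : (m⁻¹ * (y * m * y⁻¹)) * u * (m⁻¹ * (y * m * y⁻¹))⁻¹ = u := by
      calc (m⁻¹ * (y * m * y⁻¹)) * u * (m⁻¹ * (y * m * y⁻¹))⁻¹
          = m⁻¹ * (y * (m * (y⁻¹ * u * y) * m⁻¹) * y⁻¹) * m := by group
        _ = m⁻¹ * ((y * (m * u * m⁻¹) * y⁻¹)⁻¹) * m := by rw [hu']; group
        _ = u := by rw [h1]; group
    exact (mul_inv_eq_iff_eq_mul.1 h2).symm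
  have hcover : M ≤ C ⊔ K := by
    intro m hm
    obtain ⟨d, hd, hn⟩ := Solv.exists_fixed_in_coset A K hAK hco (Or.inl hsolA) (x := m) (by
      intro a ha
      obtain ⟨i, rfl⟩ := ha
      show m⁻¹ * (y ^ i * m * (y ^ i)⁻¹) ∈ K
      rcases Int.even_or_odd i with ⟨j, rfl⟩ | ⟨j, rfl⟩
      · rw [show y ^ (j + j) = 1 by rw [← two_mul, zpow_mul, show y ^ (2 : ℤ) = 1 by
          rw [zpow_two, hy2], one_zpow]]
        simp
      · rw [show y ^ (2 * j + 1) = y by rw [zpow_add, zpow_mul, show y ^ (2 : ℤ) = 1 by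
          rw [zpow_two, hy2], one_zpow, one_mul, zpow_one]]
        exact hcomm m hm)
    have hcy : (m * d) * y * (m * d)⁻¹ = y := by
      obtain ⟨i, hi⟩ := (Subgroup.mem_normalizer_iff.1 hn y).1 (Subgroup.mem_zpowers y)
      have hi : y ^ i = (m * d) * y * (m * d)⁻¹ := hi
      rcases Int.even_or_odd i with ⟨j, rfl⟩ | ⟨j, rfl⟩
      · exfalso
        rw [← two_mul, zpow_mul, show y ^ (2 : ℤ) = 1 by rw [zpow_two, hy2], one_zpow, eq_comm,
          conj_eq_one_iff] at hi
        rw [hi, orderOf_one] at hy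
        omega
      · rw [zpow_add, zpow_mul, show y ^ (2 : ℤ) = 1 by rw [zpow_two, hy2], one_zpow, one_mul, zpow_one] at hi
        exact hi.symm
    have hmd : m * d ∈ C := ⟨M.mul_mem hm hd.1, Subgroup.mem_centralizer_singleton_iff.2 (mul_inv_eq_iff_eq_mul.1 hcy)⟩
    have := mul_mem (Subgroup.mem_sup_left hmd : _ ∈ C ⊔ K) (Subgroup.mem_sup_right (inv_mem hd))
    rwa [mul_inv_cancel_right] at this
  have hCp : ¬ p ∣ Nat.card C := by
    intro h
    obtain ⟨⟨g, hg⟩, hgo⟩ := exists_prime_orderOf_dvd_card' (G := C) p h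
    rw [Subgroup.orderOf_mk] at hgo
    have hg1 := hnoy g ⟨1, by rw [hgo, pow_one]⟩ (Subgroup.mem_centralizer_singleton_iff.1 hg.2).symm
    rw [hg1, orderOf_one] at hgo
    exact hp.ne_one hgo.symm
  obtain ⟨S, hS, hAS⟩ := Solv.exists_invariant_sylow hAK hco (Or.inl hsolA) p
  have hRS : R ≤ S := by
    have hsup : IsPGroup p (S ⊔ R : Subgroup G) :=
      hS.isPGroup.to_sup_of_normal_right' hRp (hS.1.trans inf_le_left)
    exact (le_sup_right : R ≤ S ⊔ R).trans (hS.eq_of_le hsup (sup_le hS.1 hRK) le_sup_left).ge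
  have hSR : S = R := le_antisymm (hRmax.2 ⟨hS.isPGroup, fun e => hR1 (le_bot_iff.1 (e ▸ hRS)), by
    rw [even_iff_two_dvd, ← hy, ← Subgroup.orderOf_mk y (hAS (Subgroup.mem_zpowers y))]
    exact orderOf_dvd_natCard _⟩ hRS) hRS
  -- hence `R` is a Sylow subgroup
  obtain ⟨T, hT⟩ := hRp.exists_le_sylow
  have hTR : (T : Subgroup G) = R := by
    by_contra hne
    have hgrow := Fusion.SylIn.normalizer_growth hT (Ne.symm hne) T.isPGroup'
    have hW : IsPGroup p ((T : Subgroup G) ⊓ M : Subgroup G) := T.isPGroup'.to_le inf_le_left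
    obtain ⟨w, hw⟩ := IsPGroup.iff_card.1 hW
    have h1 : Nat.card R < p ^ w := hw ▸ Solv.card_lt_of_lt hgrow
    have h2 : p ^ w ∣ Nat.card C * Nat.card K := by
      rw [← hw]
      refine (Subgroup.card_dvd_of_le (inf_le_right.trans hcover)).trans ?_
      have h3 := Solv.card_sup_mul_card_inf' K C (inf_le_left.trans hKn)
      rw [sup_comm] at h3
      exact Dvd.intro _ (h3.trans (mul_comm _ _))
    have h4 : p ^ w ∣ Nat.card K :=
      ((hp.coprime_iff_not_dvd.2 hCp).pow_left w).dvd_of_dvd_mul_left h2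
    rw [← hSR, hS.2] at h1
    exact absurd ((hp.pow_dvd_iff_le_factorization Nat.card_pos.ne').1 h4)
      (Nat.not_le.2 ((Nat.pow_lt_pow_iff_right hp.one_lt).1 h1))
  obtain ⟨g, hg⟩ := MulAction.exists_smul_eq G T P
  have hconj : (P : Subgroup G) = MulAut.conj g • R := by
    rw [← hTR, ← hg]; rfl
  rw [hconj, even_iff_two_dvd]
  have hmem : g * y * g⁻¹ ∈ Subgroup.normalizer ((MulAut.conj g • R : Subgroup G) : Set G) := by
    refine Solv.mem_normalizer_of_conj_smul ?_
    rw [Solv.conj_smul_conj, show g * y * g⁻¹ * g = g * y by group, ← Solv.conj_smul_conj,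
      Solv.conj_smul_of_mem_normalizer hyM]
  have : orderOf (g * y * g⁻¹) = 2 := by rw [← hy]; exact MulEquiv.orderOf_eq (MulAut.conj g) y
  rw [← this, ← Subgroup.orderOf_mk _ hmem]
  exact orderOf_dvd_natCard _

end Cfsg.Agent.S3982
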