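import Cfsg.Statements.S3983
import Cfsg.Agent.Lib.Solv.Basic

set_option autoImplicit false
open scoped Pointwise
open Cfsg

open scoped Pointwise commutatorElement

namespace Cfsg.Agent.S3983

/-- Let P be a Sylow p-subgroup of the finite group G that meets each conjugate g P g⁻¹ with g outside N_G(P) trivially, and let U be a subgroup of G of order divisible by p. Then a Sylow p-subgroup Q of U has the same property inside U: Q meets each conjugate u Q u⁻¹ with u ∈ U outside N_U(Q) trivially. -/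
theorem result {G : Type*} [Group G] [Finite G] (p : ℕ) [Fact p.Prime] (P : Sylow p G) (hTI : ∀ g : G, g ∉ Subgroup.normalizer ((P : Subgroup G) : Set G) → (P : Subgroup G) ⊓ (MulAut.conj g • (P : Subgroup G)) = ⊥) (U : Subgroup G) (hU : p ∣ Nat.card ↥U) (Q : Sylow p ↥U) : ∀ u : ↥U, u ∉ Subgroup.normalizer ((Q : Subgroup ↥U) : Set ↥U) → (Q : Subgroup ↥U) ⊓ (MulAut.conj u • (Q : Subgroup ↥U)) = ⊥ := by
  intro u hu
  set Q' := (Q : Subgroup U).map U.subtype with hQ'
  obtain ⟨R, hR⟩ := (Q.isPGroup'.map U.subtype).exists_le_sylow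
  obtain ⟨g, rfl⟩ := MulAction.exists_smul_eq G P R
  set P' := MulAut.conj g • (P : Subgroup G) with hP'
  have hR : Q' ≤ P' := hR
  by_contra hne
  obtain ⟨⟨v, hv⟩, hv1⟩ := Subgroup.ne_bot_iff_exists_ne_one.1 hne
  have hvP : ((v : U) : G) ∈ P' ⊓ MulAut.conj (u : G) • P' := by
    refine ⟨hR ⟨v, hv.1, rfl⟩, ?_⟩
    have h1 : ((v : U) : G) ∈ (MulAut.conj u • (Q : Subgroup U)).map U.subtype := ⟨v, hv.2, rfl⟩
    rw [Solv.map_conj_smul] at h1
    exact Subgroup.pointwise_smul_le_pointwise_smul_iff.2 hR h1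
  by_cases hg : g⁻¹ * (u : G) * g ∈ Subgroup.normalizer ((P : Subgroup G) : Set G)
  · -- `u` normalizes the Sylow subgroup `P'`
    apply hu
    have hfix : MulAut.conj (u : G) • P' = P' := by
      rw [hP', Solv.conj_smul_conj, show (u : G) * g = g * (g⁻¹ * u * g) by group, ← Solv.conj_smul_conj,
        Solv.conj_smul_of_mem_normalizer hg]
    have hsub : P'.subgroupOf U = (Q : Subgroup U) := by
      refine Q.3 ((IsPGroup.of_equiv P.isPGroup' (Subgroup.equivSMul _ _)).comap_of_injective U.subtype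
        U.subtype_injective) ?_
      intro z hz
      exact hR ⟨z, hz, rfl⟩
    refine Solv.mem_normalizer_of_conj_smul ?_
    rw [← hsub]
    ext z
    rw [Solv.mem_conj_smul, Subgroup.mem_subgroupOf, Subgroup.mem_subgroupOf]
    conv_rhs => rw [← hfix, Solv.mem_conj_smul]
    rfl
  · refine hv1 (Subtype.ext (Subtype.ext ?_))
    have h := hTI _ hg
    have h2 : g⁻¹ * (v : U) * g ∈ (P : Subgroup G) ⊓ MulAut.conj (g⁻¹ * (u : G) * g) • (P : Subgroup G) := by
      refine ⟨Solv.mem_conj_smul.1 hvP.1, ?_⟩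
      show _ ∈ MulAut.conj (g⁻¹ * (u : G) * g) • (P : Subgroup G)
      rw [Solv.mem_conj_smul]
      have h3 := Solv.mem_conj_smul.1 (Solv.mem_conj_smul.1 hvP.2)
      rw [show (g⁻¹ * (u : G) * g)⁻¹ * (g⁻¹ * ((v : U) : G) * g) * (g⁻¹ * u * g) =
        g⁻¹ * ((u : G)⁻¹ * ((v : U) : G) * u) * g by group]
      exact h3
    rw [h, Subgroup.mem_bot] at h2
    show ((v : U) : G) = 1
    calc ((v : U) : G) = g * (g⁻¹ * (v : U) * g) * g⁻¹ := by group
      _ = 1 := by rw [h2]; group

end Cfsg.Agent.S3983
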