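import Cfsg.Statements.S3984
import Cfsg.Agent.Lib.Solv.SZ
import Cfsg.Agent.Lib.Solv.PConj

set_option autoImplicit false
open scoped Pointwise
open Cfsg

open scoped Pointwise commutatorElement

namespace Cfsg.Agent.S3984

/-- Let P be a Sylow p-subgroup of the finite group G that meets each conjugate g P g⁻¹ with g outside N_G(P) trivially, and let N be a normal subgroup of G of order prime to p. Then every Sylow p-subgroup Q of G ⧸ N meets each conjugate x Q x⁻¹ with x outside its normalizer trivially. -/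
theorem result {G : Type*} [Group G] [Finite G] (p : ℕ) [Fact p.Prime] (P : Sylow p G) (hTI : ∀ g : G, g ∉ Subgroup.normalizer ((P : Subgroup G) : Set G) → (P : Subgroup G) ⊓ (MulAut.conj g • (P : Subgroup G)) = ⊥) (N : Subgroup G) [N.Normal] (hN : (Nat.card ↥N).Coprime p) (Q : Sylow p (G ⧸ N)) : ∀ x : G ⧸ N, x ∉ Subgroup.normalizer ((Q : Subgroup (G ⧸ N)) : Set (G ⧸ N)) → (Q : Subgroup (G ⧸ N)) ⊓ (MulAut.conj x • (Q : Subgroup (G ⧸ N))) = ⊥ := by
  have hp : p.Prime := Fact.out
  have hdis : ∀ R R' : Sylow p G, R ≠ R' → (R : Subgroup G) ⊓ R' = ⊥ := by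
    intro R R' hne
    obtain ⟨a, rfl⟩ := MulAction.exists_smul_eq G P R
    obtain ⟨b, rfl⟩ := MulAction.exists_smul_eq G P R'
    have hn : a⁻¹ * b ∉ Subgroup.normalizer ((P : Subgroup G) : Set G) := fun h => hne (by
      apply Sylow.ext
      show MulAut.conj a • (P : Subgroup G) = MulAut.conj b • (P : Subgroup G)
      rw [show b = a * (a⁻¹ * b) by group, ← Solv.conj_smul_conj, Solv.conj_smul_of_mem_normalizer h])
    show MulAut.conj a • (P : Subgroup G) ⊓ MulAut.conj b • (P : Subgroup G) = ⊥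
    rw [show b = a * (a⁻¹ * b) by group, ← Solv.conj_smul_conj, ← Subgroup.smul_inf, hTI _ hn, Subgroup.smul_bot]
  intro x hx
  set f := QuotientGroup.mk' N
  have hf := QuotientGroup.mk'_surjective N
  obtain ⟨R, rfl⟩ := Sylow.mapSurjective_surjective hf p Q
  obtain ⟨g, rfl⟩ := hf x
  rw [Sylow.coe_mapSurjective] at hx ⊢
  rw [eq_bot_iff]
  intro z hz
  obtain ⟨hz1, hz2⟩ := hz
  obtain ⟨a, ha, rfl⟩ := hz1
  have haL : a ∈ N ⊔ MulAut.conj g • (R : Subgroup G) := by
    have h1 : f a ∈ (MulAut.conj g • (R : Subgroup G)).map f := by rw [Solv.map_conj_smul]; exact hz2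
    have h2 : a ∈ ((MulAut.conj g • (R : Subgroup G)).map f).comap f := h1
    rwa [Subgroup.comap_map_eq, QuotientGroup.ker_mk', sup_comm] at h2
  have hRco : ∀ H : Subgroup G, IsPGroup p H → (Nat.card N).Coprime (Nat.card H) := fun H hH => by
    obtain ⟨k, hk⟩ := IsPGroup.iff_card.1 hH
    rw [hk]; exact hN.pow_right k
  have haz : IsPGroup p (Subgroup.zpowers a) := R.isPGroup'.to_le (Subgroup.zpowers_le.2 ha)
  obtain ⟨n, hn, hle⟩ := Solv.sz_contain N (MulAut.conj g • (R : Subgroup G)) (Subgroup.zpowers a)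
    (by rw [Subgroup.normalizer_eq_top]; exact le_top) (Subgroup.zpowers_le.2 haL) (hRco _ haz)
    (hRco _ (R.isPGroup'.of_equiv (Subgroup.equivSMul _ _))) (Or.inr (by
      letI : CommGroup (Subgroup.zpowers a) := IsCyclic.commGroup
      infer_instance))
  have hmem : a ∈ ((n * g) • R : Sylow p G) := by
    show a ∈ MulAut.conj (n * g) • (R : Subgroup G)
    rw [← Solv.conj_smul_conj]
    exact hle (Subgroup.mem_zpowers a)
  by_cases heq : (n * g) • R = R
  · exfalso
    refine hx (Solv.mem_normalizer_of_conj_smul ?_)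
    have h1 : MulAut.conj (n * g) • (R : Subgroup G) = R := congrArg (fun S : Sylow p G => (S : Subgroup G)) heq
    have h2 := congrArg (Subgroup.map f) h1
    rw [Solv.map_conj_smul, map_mul, show f n = 1 from (QuotientGroup.eq_one_iff n).2 hn, one_mul] at h2
    exact h2
  · have h : a ∈ (((n * g) • R : Sylow p G) : Subgroup G) ⊓ R := ⟨hmem, ha⟩
    rw [hdis _ _ heq, Subgroup.mem_bot] at h
    rw [h, map_one]
    exact Subgroup.one_mem _

end Cfsg.Agent.S3984
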