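import Cfsg.Statements.S3985
import Cfsg.Agent.Lib.Solv.PConj
import Mathlib.RingTheory.Int.Basic

set_option autoImplicit false
open scoped Pointwise
open Cfsg

open scoped Pointwise commutatorElement

namespace Cfsg.Agent.S3985

/-- Let P be a cyclic Sylow p-subgroup of the finite group G. Then P meets each conjugate g P g⁻¹ with g outside N_G(P) trivially if and only if P is weakly self-centralizing: C_G(x) = C_G(P) for every non-identity x ∈ P. -/
theorem result {G : Type*} [Group G] [Finite G] (p : ℕ) [Fact p.Prime] (P : Sylow p G) (hcyc : IsCyclic ↥(P : Subgroup G)) : (∀ g : G, g ∉ Subgroup.normalizer ((P : Subgroup G) : Set G) → (P : Subgroup G) ⊓ (MulAut.conj g • (P : Subgroup G)) = ⊥) ↔ ∀ x : G, x ∈ (P : Subgroup G) → x ≠ 1 → Subgroup.centralizer ({x} : Set G) = Subgroup.centralizer ((P : Subgroup G) : Set G) := by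
  have hp : p.Prime := Fact.out
  letI : CommGroup (P : Subgroup G) := IsCyclic.commGroup
  have hPab : ∀ a ∈ (P : Subgroup G), ∀ b ∈ (P : Subgroup G), a * b = b * a := fun a ha b hb =>
    congrArg Subtype.val (mul_comm (⟨a, ha⟩ : (P : Subgroup G)) ⟨b, hb⟩)
  constructor
  · intro hTI x hxP hx1
    refine le_antisymm (fun c hc => ?_) (Subgroup.centralizer_le (fun u hu => by rw [Set.mem_singleton_iff.1 hu]; exact hxP))
    have hcx : c * x = x * c := Subgroup.mem_centralizer_singleton_iff.1 hc
    have hcn : c ∈ Subgroup.normalizer ((P : Subgroup G) : Set G) := by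
      by_contra h
      have hm : x ∈ (P : Subgroup G) ⊓ MulAut.conj c • (P : Subgroup G) := by
        refine ⟨hxP, ?_⟩
        show x ∈ MulAut.conj c • (P : Subgroup G)
        rw [Solv.mem_conj_smul, show c⁻¹ * x * c = x by rw [mul_assoc, ← hcx, inv_mul_cancel_left]]
        exact hxP
      rw [hTI c h, Subgroup.mem_bot] at hm
      exact hx1 hm
    obtain ⟨i, m, hm, him⟩ := Nat.exists_eq_pow_mul_and_not_dvd (orderOf_pos c).ne' p hp.ne_one
    have hm0 : m ≠ 0 := fun h => hm (h ▸ dvd_zero p)
    have hco : (p ^ i).Coprime m := (hp.coprime_iff_not_dvd.2 hm).pow_left i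
    refine Subgroup.mem_centralizer_iff.2 fun d hd => ?_
    have h1 : Commute (c ^ p ^ i) d := by
      refine Solv.centralizes_cyclic P.isPGroup' hcyc (Subgroup.pow_mem _ hcn _) ?_ hxP hx1
        ((show Commute c x from hcx).pow_left _).eq d hd
      rw [orderOf_pow_of_dvd (pow_ne_zero _ hp.ne_zero) (him ▸ dvd_mul_right _ m), him,
        Nat.mul_div_cancel_left _ (pow_pos hp.pos i)]
      exact (hp.coprime_iff_not_dvd.2 hm).symm
    have h2 : Commute (c ^ m) d := by
      have hcp : IsPGroup p (Subgroup.zpowers (c ^ m)) := IsPGroup.of_card (n := i) (by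
        rw [Nat.card_zpowers, orderOf_pow_of_dvd hm0 (him ▸ dvd_mul_left m _), him,
          Nat.mul_div_cancel _ (Nat.pos_of_ne_zero hm0)])
      have hsup := hcp.to_sup_of_normal_right' P.isPGroup'
        (Subgroup.zpowers_le.2 (Subgroup.pow_mem _ hcn m))
      have hle := P.3 hsup le_sup_right
      exact hPab _ (hle.le (Subgroup.mem_sup_left (Subgroup.mem_zpowers _))) d hd
    obtain ⟨u, v, huv⟩ : IsCoprime ((p ^ i : ℕ) : ℤ) (m : ℤ) := Int.isCoprime_iff_gcd_eq_one.2 hco
    have h3 : Commute (c ^ ((u * ((p ^ i : ℕ) : ℤ)) + v * (m : ℤ))) d := by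
      rw [zpow_add, mul_comm u, mul_comm v, zpow_mul, zpow_mul, zpow_natCast, zpow_natCast]
      exact (h1.zpow_left u).mul_left (h2.zpow_left v)
    rw [huv, zpow_one] at h3
    exact h3.eq.symm
  · intro h g hg
    by_contra hne
    obtain ⟨⟨y, hy1, hy2⟩, hy⟩ := Subgroup.ne_bot_iff_exists_ne_one.1 hne
    have hy0 : y ≠ 1 := fun e => hy (Subtype.ext e)
    have hy2 : g⁻¹ * y * g ∈ (P : Subgroup G) := Solv.mem_conj_smul.1 hy2
    apply hg
    have hcg : ∀ u ∈ (P : Subgroup G), g * u * g⁻¹ ∈ Subgroup.centralizer ((P : Subgroup G) : Set G) := by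
      intro u hu
      rw [← h y hy1 hy0]
      refine Subgroup.mem_centralizer_singleton_iff.2 ?_
      have e := hPab u hu _ hy2
      calc g * u * g⁻¹ * y = g * (u * (g⁻¹ * y * g)) * g⁻¹ := by group
        _ = g * ((g⁻¹ * y * g) * u) * g⁻¹ := by rw [e]
        _ = y * (g * u * g⁻¹) := by group
    refine Solv.mem_normalizer_of_conj_smul ?_
    have hsup : IsPGroup p ((MulAut.conj g • (P : Subgroup G)) ⊔ (P : Subgroup G) : Subgroup G) := by
      refine IsPGroup.to_sup_of_normal_right' (P.isPGroup'.of_equiv (Subgroup.equivSMul _ _)) P.isPGroup' ?_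
      rw [Solv.conj_smul_eq_map]
      rintro _ ⟨u, hu, rfl⟩
      exact Subgroup.centralizer_le_normalizer _ (hcg u hu)
    exact Subgroup.eq_of_le_of_card_ge ((P.3 hsup le_sup_right).le.trans' le_sup_left)
      (by rw [Solv.card_conj_smul])

end Cfsg.Agent.S3985
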