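import Cfsg.Statements.S3986
import Cfsg.Agent.Lib.Solv.DirectFactor

set_option autoImplicit false
open Cfsg

open scoped Pointwise commutatorElement

namespace Cfsg.Agent.S3986

theorem forward {G : Type*} [Group G] [Finite G] {p : ℕ} [Fact p.Prime] (P : Sylow p G) (K : Subgroup G)
    (hP : (P : Subgroup G).Normal) (hK : K.Normal) (hi : (P : Subgroup G) ⊓ K = ⊥)
    (hs : (P : Subgroup G) ⊔ K = ⊤) {x y : G} (hx : ∃ a : ℕ, orderOf x = p ^ a)
    (hy : ∃ q b : ℕ, q.Prime ∧ q ≠ p ∧ orderOf y = q ^ b) : x ∈ (P : Subgroup G) ∧ y ∈ K := by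
  have hp : p.Prime := Fact.out
  have hcard : Nat.card K = (P : Subgroup G).index := by
    have h := Solv.card_sup_of_inf_eq_bot (P : Subgroup G) K hi
    rw [hs, Subgroup.card_top, ← (P : Subgroup G).card_mul_index] at h
    exact (Nat.eq_of_mul_eq_mul_left Nat.card_pos h).symm
  obtain ⟨a, ha⟩ := hx
  obtain ⟨q, b, hq, hqp, hb⟩ := hy
  have hxP : ∀ z : G, ∀ N : Subgroup G, [N.Normal] → (orderOf z).Coprime N.index → z ∈ N := by
    intro z N _ hco
    rw [← QuotientGroup.eq_one_iff, ← orderOf_eq_one_iff]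
    refine Nat.eq_one_of_dvd_coprimes hco (orderOf_map_dvd (QuotientGroup.mk' N) z) ?_
    rw [Subgroup.index_eq_card]; exact orderOf_dvd_natCard _
  refine ⟨hxP x P ?_, hxP y K ?_⟩
  · rw [ha]
    exact (hp.coprime_iff_not_dvd.2 P.not_dvd_index).pow_left a
  · have hKi : K.index = Nat.card (P : Subgroup G) := by
      have h := K.card_mul_index
      rw [hcard, ← (P : Subgroup G).card_mul_index, mul_comm (Nat.card _)] at h
      exact Nat.eq_of_mul_eq_mul_left (Nat.pos_of_ne_zero Subgroup.index_ne_zero_of_finite) h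
    rw [hb, hKi, P.card_eq_multiplicity]
    exact Nat.Coprime.pow _ _ ((Nat.coprime_primes hq hp).2 hqp)

theorem backward {G : Type*} [Group G] [Finite G] {p : ℕ} [Fact p.Prime]
    (h : ∀ x y : G, (∃ a : ℕ, orderOf x = p ^ a) → (∃ q b : ℕ, q.Prime ∧ q ≠ p ∧ orderOf y = q ^ b) →
      x * y = y * x) :
    ∃ (P : Sylow p G) (K : Subgroup G), (P : Subgroup G).Normal ∧ K.Normal ∧
      (P : Subgroup G) ⊓ K = ⊥ ∧ (P : Subgroup G) ⊔ K = ⊤ := by
  obtain ⟨P⟩ : Nonempty (Sylow p G) := inferInstance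
  obtain ⟨hn, K, hK, hi, hs, -⟩ := Solv.exists_direct_factor P fun q hq hqp Q hQ y hy =>
    Subgroup.mem_centralizer_iff.2 fun x hx => by
      have := Fact.mk hq
      obtain ⟨a, ha⟩ := IsPGroup.iff_orderOf.1 P.isPGroup' ⟨x, hx⟩
      obtain ⟨b, hb⟩ := IsPGroup.iff_orderOf.1 hQ ⟨y, hy⟩
      rw [Subgroup.orderOf_mk] at ha hb
      exact h x y ⟨a, ha⟩ ⟨q, b, hq, hqp, hb⟩
  exact ⟨P, K, hn, hK, hi, hs⟩

/-- Let p be a prime and G a finite group. Then some Sylow p-subgroup of G is a direct factor of G (it is normal and has a normal complement) if and only if every element of p-power order commutes with every element whose order is a power of a prime other than p. -/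
theorem result {G : Type*} [Group G] [Finite G] (p : ℕ) [Fact p.Prime] : (∃ (P : Sylow p G) (K : Subgroup G), (P : Subgroup G).Normal ∧ K.Normal ∧ (P : Subgroup G) ⊓ K = ⊥ ∧ (P : Subgroup G) ⊔ K = ⊤) ↔ ∀ x y : G, (∃ a : ℕ, orderOf x = p ^ a) → (∃ q b : ℕ, q.Prime ∧ q ≠ p ∧ orderOf y = q ^ b) → x * y = y * x := by
  refine ⟨?_, backward⟩
  rintro ⟨P, K, hP, hK, hi, hs⟩ x y hx hy
  obtain ⟨h1, h2⟩ := forward P K hP hK hi hs hx hy
  exact Subgroup.commute_of_normal_of_disjoint _ _ hP hK (disjoint_iff.2 hi) x y h1 h2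

end Cfsg.Agent.S3986
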