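import Cfsg.Statements.S3987
import Cfsg.Agent.S3986
import Cfsg.Agent.Lib.Solv.ThreeSolv

set_option autoImplicit false
open Cfsg

open scoped Pointwise commutatorElement

namespace Cfsg.Agent.S3987

/-- Let p be a prime and G a finite group. Then some Sylow p-subgroup of G is a direct factor of G (normal with a normal complement) if and only if for every element x of p-power order and every element y whose order is a power of a prime other than p, the conjugacy class of x y has as many elements as the product of the sizes of the classes of x and of y. -/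
theorem result {G : Type*} [Group G] [Finite G] (p : ℕ) [Fact p.Prime] : (∃ (P : Sylow p G) (K : Subgroup G), (P : Subgroup G).Normal ∧ K.Normal ∧ (P : Subgroup G) ⊓ K = ⊥ ∧ (P : Subgroup G) ⊔ K = ⊤) ↔ ∀ x y : G, (∃ a : ℕ, orderOf x = p ^ a) → (∃ q b : ℕ, q.Prime ∧ q ≠ p ∧ orderOf y = q ^ b) → (Subgroup.centralizer ({x * y} : Set G)).index = (Subgroup.centralizer ({x} : Set G)).index * (Subgroup.centralizer ({y} : Set G)).index := by
  have hp : p.Prime := Fact.out
  have hcle : ∀ x y : G, Subgroup.centralizer ({x} : Set G) ⊓ Subgroup.centralizer {y} ≤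
      Subgroup.centralizer {x * y} := fun x y z hz => by
    have h1 : z * x = x * z := Subgroup.mem_centralizer_singleton_iff.1 hz.1
    have h2 : z * y = y * z := Subgroup.mem_centralizer_singleton_iff.1 hz.2
    exact Subgroup.mem_centralizer_singleton_iff.2 (by rw [← mul_assoc, h1, mul_assoc, h2, mul_assoc])
  constructor
  · rintro ⟨P, K, hP, hK, hi, hs⟩ x y hx hy
    obtain ⟨hxP, hyK⟩ := S3986.forward P K hP hK hi hs hx hy
    have hcomm := fun u v => Subgroup.commute_of_normal_of_disjoint _ _ hP hK (disjoint_iff.2 hi) u v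
    have hc : Commute x y := hcomm x y hxP hyK
    have hKx : K ≤ Subgroup.centralizer ({x} : Set G) := fun k hk =>
      Subgroup.mem_centralizer_singleton_iff.2 (hcomm x k hxP hk).eq.symm
    have hPy : (P : Subgroup G) ≤ Subgroup.centralizer ({y} : Set G) := fun u hu =>
      Subgroup.mem_centralizer_singleton_iff.2 (hcomm u y hu hyK).eq
    have hco : (Subgroup.centralizer ({x} : Set G)).index.Coprime (Subgroup.centralizer ({y} : Set G)).index := by
      refine Nat.Coprime.coprime_dvd_left (Subgroup.index_dvd_of_le hKx)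
        (Nat.Coprime.coprime_dvd_right (Subgroup.index_dvd_of_le hPy) ?_)
      have hcard := Solv.card_sup_of_inf_eq_bot (P : Subgroup G) K hi
      rw [hs, Subgroup.card_top] at hcard
      have h := K.card_mul_index
      rw [hcard, mul_comm (Nat.card (P : Subgroup G))] at h
      rw [Nat.eq_of_mul_eq_mul_left Nat.card_pos h]
      exact P.card_coprime_index
    rw [← Solv.inf_index_of_coprime hco]
    refine congrArg Subgroup.index (le_antisymm (le_inf ?_ ?_) (hcle x y))
    all_goals
      obtain ⟨a, ha⟩ := hx
      obtain ⟨q, b, hq, hqp, hb⟩ := hy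
      have hab : (p ^ a).Coprime (q ^ b) := Nat.Coprime.pow _ _ ((Nat.coprime_primes hp hq).2 (Ne.symm hqp))
      intro z hz
      have hz' : Commute z (x * y) := Subgroup.mem_centralizer_singleton_iff.1 hz
      refine Subgroup.mem_centralizer_singleton_iff.2 (?_ : Commute z _).eq
    · obtain ⟨s, hs'⟩ := exists_pow_eq_self_of_coprime (x := x) (n := q ^ b) (ha ▸ hab.symm)
      rw [← hs', show x ^ q ^ b = (x * y) ^ q ^ b by rw [hc.mul_pow, ← hb, pow_orderOf_eq_one, mul_one]]
      exact (hz'.pow_right _).pow_right _
    · obtain ⟨s, hs'⟩ := exists_pow_eq_self_of_coprime (x := y) (n := p ^ a) (hb ▸ hab)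
      rw [← hs', show y ^ p ^ a = (x * y) ^ p ^ a by rw [hc.mul_pow, ← ha, pow_orderOf_eq_one, one_mul]]
      exact (hz'.pow_right _).pow_right _
  · intro h
    refine S3986.backward fun x y hx hy => ?_
    set Cx := Subgroup.centralizer ({x} : Set G)
    set Cy := Subgroup.centralizer ({y} : Set G)
    set D := Subgroup.centralizer ({x * y} : Set G)
    have hle : Cx ⊓ Cy ≤ D := hcle x y
    have hidx : (Cx ⊓ Cy).index ≤ D.index := Subgroup.index_inf_le.trans (h x y hx hy).ge
    have heq : Cx ⊓ Cy = D := by
      refine Subgroup.eq_of_le_of_card_ge hle ?_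
      have h1 := (Cx ⊓ Cy).card_mul_index
      rw [← D.card_mul_index] at h1
      refine Nat.le_of_mul_le_mul_right ?_ (Nat.pos_of_ne_zero (Subgroup.index_ne_zero_of_finite (H := D)))
      rw [← h1]
      exact Nat.mul_le_mul_left _ hidx
    have hm : x * y ∈ Cx := (heq.ge (Subgroup.mem_centralizer_singleton_iff.2 rfl : x * y ∈ D)).1
    have h2 : x * y * x = x * (x * y) := Subgroup.mem_centralizer_singleton_iff.1 hm
    rw [mul_assoc] at h2
    exact (mul_left_cancel h2).symm

end Cfsg.Agent.S3987
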