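import Cfsg.Statements.S3992
import Cfsg.Agent.Lib.Solv.EPPO

set_option autoImplicit false
set_option linter.style.haveILetI false
open Cfsg

open scoped Pointwise commutatorElement

namespace Cfsg.Agent.S3992

/-- Let G be a finite non-solvable group in which every element has prime-power order, and let R be its largest solvable normal subgroup. Then R is a p-group for some prime p; G/R has a non-abelian simple normal subgroup contained in every nontrivial normal subgroup of G/R (its unique minimal normal subgroup); and the order of every solvable subgroup of G has at most two prime divisors. -/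
theorem result {G : Type*} [Group G] [Finite G] (hns : ¬ Group.IsSolvable G) (hpp : ∀ g : G, g ≠ 1 → IsPrimePow (orderOf g))
    (R : Subgroup G) [R.Normal] (hRs : Group.IsSolvable ↥R) (hRmax : ∀ N : Subgroup G, N.Normal → Group.IsSolvable ↥N → N ≤ R) :
    (∃ p : ℕ, p.Prime ∧ IsPGroup p ↥R) ∧
      (∃ M : Subgroup (G ⧸ R), M.Normal ∧ IsSimpleGroup ↥M ∧ ¬ IsMulCommutative ↥M ∧
        ∀ N : Subgroup (G ⧸ R), N.Normal → N ≠ ⊥ → M ≤ N) ∧
      ∀ H : Subgroup G, Group.IsSolvable ↥H → (Nat.card ↥H).primeFactors.card ≤ 2 := by
  refine ⟨Solv.EPPO.radical_pgroup hpp hns R hRs, ?_, fun H hH => Solv.EPPO.solvable_primes_le_two hpp H hH⟩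
  haveI : Nontrivial (G ⧸ R) := by
    rw [QuotientGroup.nontrivial_iff]
    intro h
    refine hns ?_
    have e : Group.IsSolvable (⊤ : Subgroup G) := h ▸ hRs
    haveI := e
    exact Group.isSolvable_of_surjective (f := (⊤ : Subgroup G).subtype) fun g => ⟨⟨g, trivial⟩, rfl⟩
  exact Solv.EPPO.socle (Solv.EPPO.quotient hpp R) (Solv.EPPO.radical_quotient R hRs hRmax) inferInstance

end Cfsg.Agent.S3992
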