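import Cfsg.Statements.S3994
import Cfsg.Agent.Lib.Solv.FrobDiv
import Cfsg.Agent.Lib.Solv.Parts
import Cfsg.Agent.Lib.Solv.Hall
import Cfsg.Agent.Lib.Solv.ClassPow
import Mathlib

set_option autoImplicit false
set_option linter.style.haveILetI false
open Cfsg

open scoped Pointwise commutatorElement

namespace Cfsg.Agent.S3994

/-- Let G be a finite group and n a positive integer. The number of elements of G whose order is divisible by n is either 0 or divisible by the largest divisor of the order of G that is coprime to n. -/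
theorem result {G : Type*} [Group G] [Finite G] (n : ℕ) (hn : 0 < n) :
    Nat.card {g : G // n ∣ orderOf g} = 0 ∨
      (Nat.card G / Nat.gcd (Nat.card G) (n ^ Nat.card G)) ∣ Nat.card {g : G // n ∣ orderOf g} := by
  right
  classical
  set π : Set ℕ := {q | q ∣ n} with hπ
  obtain ⟨a, b, hab, hco, ha, hb⟩ : ∃ a b : ℕ, Nat.card G = a * b ∧ a.Coprime b ∧
      a ∣ n ^ Nat.card G ∧ n.Coprime b := by
    obtain ⟨a, b, hab, hco, ha, hb⟩ := Solv.exists_pi_split π (Nat.card G) Nat.card_pos.ne'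
    refine ⟨a, b, hab, hco, ?_, Nat.coprime_of_dvd fun q hq hqn hqb => hb q hq hqb hqn⟩
    rw [Nat.dvd_iff_prime_pow_dvd_dvd]
    intro q k hq hk
    rcases k.eq_zero_or_pos with rfl | hk0
    · simp
    have hqn : q ∣ n := ha q hq ((dvd_pow_self q hk0.ne').trans hk)
    refine ((pow_dvd_pow q ?_).trans (pow_dvd_pow_of_dvd hqn _))
    exact le_trans (Nat.lt_pow_self hq.one_lt).le
      (Nat.le_of_dvd Nat.card_pos (hk.trans (hab ▸ dvd_mul_right a b)))
  have hgcd : Nat.gcd (Nat.card G) (n ^ Nat.card G) = a := by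
    rw [hab, Nat.Coprime.gcd_mul_right_cancel a
      ((hb.symm).pow_right _), Nat.gcd_eq_left]
    exact hab ▸ ha
  rw [hgcd, hab, Nat.mul_div_cancel_left _ (Nat.pos_of_ne_zero fun h => by
    have := (Nat.card_pos (α := G)).ne'
    rw [hab, h, zero_mul] at this
    exact this rfl)]
  -- split each element into its parts
  have key : Nat.card {g : G // n ∣ orderOf g} =
      Nat.card (Σ u : {u : G // u ^ a = 1 ∧ n ∣ orderOf u},
        {v : G // v ∈ Subgroup.centralizer ({u.1} : Set G) ∧ v ^ b = 1}) := by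
    symm
    have hord : ∀ {u v : G}, u * v = v * u → u ^ a = 1 → v ^ b = 1 →
        orderOf (u * v) = orderOf u * orderOf v := fun hc hu hv =>
      (Commute.orderOf_mul_eq_mul_orderOf_of_coprime hc
        ((hco.coprime_dvd_left (orderOf_dvd_of_pow_eq_one hu)).coprime_dvd_right
          (orderOf_dvd_of_pow_eq_one hv)))
    refine Nat.card_eq_of_bijective (fun x => ⟨x.1.1 * x.2.1, ?_⟩) ⟨?_, ?_⟩
    · rw [hord (Subgroup.mem_centralizer_singleton_iff.1 x.2.2.1).symm x.1.2.1 x.2.2.2]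
      exact x.1.2.2.trans (dvd_mul_right _ _)
    · rintro ⟨⟨u, hu, hun⟩, ⟨v, hvc, hv⟩⟩ ⟨⟨u', hu', hun'⟩, ⟨v', hvc', hv'⟩⟩ he
      have he : u * v = u' * v' := congrArg Subtype.val he
      obtain ⟨y, x, hxy⟩ : IsCoprime (a : ℤ) (b : ℤ) := Int.isCoprime_iff_gcd_eq_one.2 hco
      have hu_eq : ∀ {u v : G}, u * v = v * u → u ^ a = 1 → v ^ b = 1 → (u * v) ^ (x * b) = u := by
        intro u v hc hu hv
        rw [Commute.mul_zpow hc, show x * (b : ℤ) = 1 - y * a by rw [← hxy]; ring]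
        nth_rewrite 2 [show (1 - y * (a : ℤ)) = (b : ℤ) * x by rw [← hxy]; ring]
        rw [zpow_sub, zpow_one, mul_comm y, zpow_mul, zpow_natCast, hu, one_zpow, inv_one, mul_one,
          zpow_mul, zpow_natCast, hv, one_zpow, mul_one]
      have h1 := hu_eq (Subgroup.mem_centralizer_singleton_iff.1 hvc).symm hu hv
      rw [he, hu_eq (Subgroup.mem_centralizer_singleton_iff.1 hvc').symm hu' hv'] at h1
      subst h1
      have h2 := mul_left_cancel he
      subst h2
      rfl
    · rintro ⟨g, hg⟩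
      obtain ⟨u, v, hu, hv, huv, hua, hvb⟩ :=
        Solv.exists_split_of_coprime hco (by rw [← hab]; exact pow_card_eq_one' : g ^ (a * b) = 1)
      have hc : u * v = v * u := by
        obtain ⟨i, rfl⟩ := hu
        obtain ⟨j, rfl⟩ := hv
        exact (Commute.zpow_zpow_self g i j).eq
      refine ⟨⟨⟨u, hua, ?_⟩, ⟨v, Subgroup.mem_centralizer_singleton_iff.2 hc.symm, hvb⟩⟩, Subtype.ext huv⟩
      rw [← huv, hord hc hua hvb] at hg
      exact (hb.coprime_dvd_right (orderOf_dvd_of_pow_eq_one hvb)).dvd_of_dvd_mul_right hg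
  rw [key]
  have : Fintype {u : G // u ^ a = 1 ∧ n ∣ orderOf u} := Fintype.ofFinite _
  have : Fintype (ConjClasses G) := Fintype.ofFinite _
  rw [Nat.card_sigma]
  -- group the sum by conjugacy classes
  set f : G → ℕ := fun u => Nat.card {v : G // v ∈ Subgroup.centralizer ({u} : Set G) ∧ v ^ b = 1} with hf
  show b ∣ ∑ u : {u : G // u ^ a = 1 ∧ n ∣ orderOf u}, f u.1
  have hclass : ∀ u : G, b ∣ (Subgroup.centralizer ({u} : Set G)).index * f u := by
    intro u
    set C := Subgroup.centralizer ({u} : Set G) with hC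
    have h1 : Nat.gcd (Nat.card C) b ∣ f u := by
      have h := Solv.frobenius_dvd (G := C) (Nat.gcd (Nat.card C) b) (Nat.gcd_dvd_left _ _)
      refine h.trans (dvd_of_eq (Nat.card_congr ⟨fun c => ⟨c.1, c.1.2, ?_⟩,
        fun v => ⟨⟨v.1, v.2.1⟩, ?_⟩, fun c => rfl, fun v => rfl⟩))
      · have h2 : orderOf (c.1 : G) ∣ b := by
          refine dvd_trans (orderOf_dvd_of_pow_eq_one ?_) (Nat.gcd_dvd_right (Nat.card C) b)
          exact (Subgroup.coe_pow C _ _).symm.trans (congrArg Subtype.val c.2)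
        exact orderOf_dvd_iff_pow_eq_one.1 h2
      · exact pow_gcd_eq_one.2 ⟨pow_card_eq_one', Subtype.ext v.2.2⟩
    refine dvd_trans ?_ (mul_dvd_mul_left C.index h1)
    rw [← Nat.gcd_mul_left]
    exact Nat.dvd_gcd (by rw [C.index_mul_card, hab]; exact dvd_mul_left b a) (dvd_mul_left b _)
  rw [show (∑ u : {u : G // u ^ a = 1 ∧ n ∣ orderOf u}, f u.1) =
      ∑ c : ConjClasses G, ∑ u : {u : {u : G // u ^ a = 1 ∧ n ∣ orderOf u} // ConjClasses.mk u.1 = c}, f u.1.1 from
    (Fintype.sum_fiberwise (fun u : {u : G // u ^ a = 1 ∧ n ∣ orderOf u} => ConjClasses.mk u.1)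
      (fun u => f u.1)).symm]
  refine Finset.dvd_sum fun c _ => ?_
  obtain ⟨u, rfl⟩ := ConjClasses.mk_surjective c
  have hfc : ∀ w : G, ConjClasses.mk w = ConjClasses.mk u → f w = f u ∧
      (w ^ a = 1 ↔ u ^ a = 1) ∧ orderOf w = orderOf u := by
    intro w hw
    obtain ⟨x, hx⟩ := isConj_iff.1 (ConjClasses.mk_eq_mk_iff_isConj.1 hw)
    subst hx
    have ho : orderOf (x * w * x⁻¹) = orderOf w := by rw [← MulAut.conj_apply, MulEquiv.orderOf_eq]
    refine ⟨Nat.card_congr ((MulAut.conj x).toEquiv.subtypeEquiv fun v => ?_), ?_, ho.symm⟩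
    · refine and_congr ?_ ?_
      · rw [Subgroup.mem_centralizer_singleton_iff, Subgroup.mem_centralizer_singleton_iff]
        constructor <;> intro h
        · show MulAut.conj x v * MulAut.conj x w = MulAut.conj x w * MulAut.conj x v
          rw [← map_mul, ← map_mul, h]
        · exact (MulAut.conj x).injective (by rw [map_mul, map_mul]; exact h)
      · show v ^ b = 1 ↔ MulAut.conj x v ^ b = 1
        rw [← map_pow, map_eq_one_iff _ (MulEquiv.injective _)]
    · rw [conj_pow, ← MulAut.conj_apply, map_eq_one_iff _ (MulEquiv.injective _)]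
  by_cases hu : u ^ a = 1 ∧ n ∣ orderOf u
  · rw [Finset.sum_congr rfl (fun w _ => (hfc w.1.1 w.2).1), Finset.sum_const, Finset.card_univ,
      smul_eq_mul, ← Nat.card_eq_fintype_card]
    refine dvd_trans (hclass u) (dvd_of_eq ?_)
    congr 1
    rw [← Solv.class_ncard u, ← Nat.card_coe_set_eq]
    refine Nat.card_congr ⟨fun w => ⟨⟨w.1, ?_⟩, ConjClasses.mem_carrier_iff_mk_eq.1 w.2⟩,
      fun w => ⟨w.1.1, ConjClasses.mem_carrier_iff_mk_eq.2 w.2⟩, fun w => rfl, fun w => rfl⟩
    obtain ⟨-, h1, h2⟩ := hfc w.1 (ConjClasses.mem_carrier_iff_mk_eq.1 w.2)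
    exact ⟨h1.2 hu.1, h2.symm ▸ hu.2⟩
  · rw [Finset.sum_eq_zero]
    · exact dvd_zero b
    · intro w _
      obtain ⟨-, h1, h2⟩ := hfc w.1.1 w.2
      exact absurd ⟨h1.1 w.1.2.1, h2 ▸ w.1.2.2⟩ hu

end Cfsg.Agent.S3994
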