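import Cfsg.Statements.S3995
import Cfsg.Agent.Lib.Solv.FrobDiv
import Cfsg.Agent.Lib.Solv.UniqueSub

set_option autoImplicit false
set_option linter.style.haveILetI false
open Cfsg

open scoped Pointwise commutatorElement

namespace Cfsg.Agent.S3995


theorem count_prime_pow {G : Type*} [Group G] [Finite G] {a b : ℕ} (c : ℕ → ℕ)
    (hc : ∀ d, c d = Nat.card {g : G // orderOf g = d}) (hm : a ∣ Nat.card G) (ha : a = b) :
    b ∣ ∑ d ∈ b.divisors, c d := by
  subst ha
  classical
  haveI := Fintype.ofFinite G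
  have h := Solv.frobenius_dvd a hm
  rw [Nat.card_eq_fintype_card, Fintype.card_subtype] at h
  rw [Finset.card_eq_sum_card_fiberwise (f := orderOf) (t := a.divisors) (fun g hg => by
    simp only [Finset.mem_coe, Finset.mem_filter] at hg
    exact Nat.mem_divisors.2 ⟨orderOf_dvd_of_pow_eq_one hg.2, fun h0 => by
      subst h0; exact Nat.card_pos.ne' (Nat.eq_zero_of_zero_dvd hm)⟩)] at h
  refine h.trans (dvd_of_eq (Finset.sum_congr rfl fun d hd => ?_))
  rw [hc, Nat.card_eq_fintype_card, Fintype.card_subtype, Finset.filter_filter]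
  refine congrArg Finset.card (Finset.filter_congr fun g _ => ⟨fun h => h.2, fun h => ⟨?_, h⟩⟩)
  exact orderOf_dvd_iff_pow_eq_one.1 (h ▸ (Nat.mem_divisors.1 hd).1)

/-- Let G be a finite group such that the numbers of elements of each order that occurs in G (the numbers #{g : o(g) = m}, m ranging over the element orders of G) take exactly two values, 1 and some n ≠ 1. Then either G is a p-group of exponent p and order at least 3 for some prime p, or G is the quaternion group of order 8, or G is cyclic of order 4, or G ≅ Z₂ × P for a p-group P of exponent p with p an odd prime. -/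
theorem result {G : Type*} [Group G] [Finite G] (n : ℕ) (hn : n ≠ 1) (h : ((fun m : ℕ => Nat.card {g : G // orderOf g = m}) '' Set.range (orderOf : G → ℕ)) = {1, n}) :
    (∃ p : ℕ, p.Prime ∧ IsPGroup p G ∧ 3 ≤ Nat.card G ∧ Monoid.exponent G = p) ∨
      Nonempty (G ≃* QuaternionGroup 2) ∨ (IsCyclic G ∧ Nat.card G = 4) ∨
      (∃ (p : ℕ) (P : Type) (_ : Group P) (_ : Finite P), p.Prime ∧ p ≠ 2 ∧ IsPGroup p P ∧ Monoid.exponent P = p ∧
        Nonempty (G ≃* Multiplicative (ZMod 2) × P)) := by
  classical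
  set c : ℕ → ℕ := fun d => Nat.card {g : G // orderOf g = d} with hc
  have hcval : ∀ g : G, c (orderOf g) = 1 ∨ c (orderOf g) = n := by
    intro g
    have : c (orderOf g) ∈ ({1, n} : Set ℕ) := h ▸ ⟨orderOf g, ⟨g, rfl⟩, rfl⟩
    simpa using this
  have hzero : ∀ d, (∀ g : G, orderOf g ≠ d) → c d = 0 := fun d hd => by
    haveI : IsEmpty {g : G // orderOf g = d} := ⟨fun g => hd g g.2⟩
    exact Nat.card_of_isEmpty
  have hexists_n : ∃ g : G, c (orderOf g) = n := by
    have : n ∈ ({1, n} : Set ℕ) := Or.inr rfl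
    rw [← h] at this
    obtain ⟨_, ⟨g, rfl⟩, hg⟩ := this
    exact ⟨g, hg⟩
  by_cases hsmall : ∀ g : G, orderOf g ≤ 2
  · -- exponent two
    left
    obtain ⟨g, hg⟩ := hexists_n
    have hg1 : orderOf g = 2 := by
      rcases Nat.lt_or_ge (orderOf g) 2 with h1 | h1
      · exfalso
        apply hn
        have h2 : orderOf g = 1 := by have := orderOf_pos g; omega
        rw [← hg, h2, hc]
        show Nat.card {g : G // orderOf g = 1} = 1
        haveI : Unique {g : G // orderOf g = 1} :=
          ⟨⟨⟨1, orderOf_one⟩⟩, fun x => Subtype.ext (orderOf_eq_one_iff.1 x.2)⟩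
        exact Nat.card_unique
      · exact le_antisymm (hsmall g) h1
    have hsq : ∀ x : G, x ^ 2 = 1 := fun x => orderOf_dvd_iff_pow_eq_one.1 (by
      rcases Nat.lt_or_ge (orderOf x) 2 with h1 | h1
      · have := orderOf_pos x
        rw [show orderOf x = 1 by omega]; exact one_dvd _
      · rw [le_antisymm (hsmall x) h1])
    have hG2 : IsPGroup 2 G := fun x => ⟨1, by rw [pow_one]; exact hsq x⟩
    refine ⟨2, Nat.prime_two, hG2, ?_, ?_⟩
    · have hle : n ≤ Nat.card G - 1 := by
        rw [← hg, hg1, hc]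
        haveI := Fintype.ofFinite G
        show Nat.card {g : G // orderOf g = 2} ≤ _
        rw [Nat.card_eq_fintype_card, Fintype.card_subtype, Nat.card_eq_fintype_card,
          ← Finset.card_univ, ← Finset.card_erase_of_mem (Finset.mem_univ (1 : G))]
        refine Finset.card_le_card fun x hx => ?_
        simp only [Finset.mem_filter] at hx
        exact Finset.mem_erase.2 ⟨fun e => by subst e; simp at hx, Finset.mem_univ _⟩
      have hn1 : 1 ≤ n := by
        rw [← hg]
        haveI : Nonempty {x : G // orderOf x = orderOf g} := ⟨⟨g, rfl⟩⟩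
        exact Nat.card_pos
      omega
    · exact Nat.dvd_antisymm (Monoid.exponent_dvd_of_forall_pow_eq_one hsq) (hg1 ▸ Monoid.order_dvd_exponent g)
  push Not at hsmall
  have hbig : ∀ g : G, 2 < orderOf g → c (orderOf g) = n ∧ 2 ∣ n := by
    intro g hg
    have htot : Nat.totient (orderOf g) ∣ c (orderOf g) :=
      Solv.totient_dvd_card_of_order {x : G | orderOf x = orderOf g} (fun x hx => dvd_of_eq hx.symm)
        (fun x (hx : orderOf x = orderOf g) y hy => by
          show orderOf y = orderOf g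
          rw [← hx, ← Nat.card_zpowers, hy, Nat.card_zpowers])
    have h2 : 2 ∣ Nat.totient (orderOf g) := (Nat.totient_even hg).two_dvd
    rcases hcval g with h1 | h1
    · exact absurd (h1 ▸ h2.trans htot) (by norm_num)
    · exact ⟨h1, h1 ▸ h2.trans htot⟩
  obtain ⟨g₀, hg₀⟩ := hsmall
  have hneven : 2 ∣ n := (hbig g₀ hg₀).2
  have hc1 : c 1 = 1 := by
    haveI : Unique {g : G // orderOf g = 1} :=
      ⟨⟨⟨1, orderOf_one⟩⟩, fun x => Subtype.ext (orderOf_eq_one_iff.1 x.2)⟩
    exact Nat.card_unique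
  have key : ∀ b : ℕ, b ∣ Nat.card G → b ∣ ∑ d ∈ b.divisors, c d :=
    fun b hb => count_prime_pow c (fun d => rfl) hb rfl
  -- involutions are unique
  have hc2 : ∀ z : G, orderOf z = 2 → c 2 = 1 := by
    intro z hz
    have h2 := key 2 (hz ▸ orderOf_dvd_natCard z)
    rw [Nat.prime_two.sum_divisors, hc1] at h2
    rcases hcval z with h1 | h1 <;> rw [hz] at h1
    · exact h1
    · omega
  have huniq : ∀ z w : G, orderOf z = 2 → orderOf w = 2 → z = w := by
    intro z w hz hw
    have := (Nat.card_eq_one_iff_unique.1 (hc2 z hz)).1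
    exact congrArg Subtype.val (this.elim (⟨z, hz⟩ : {g : G // orderOf g = 2}) ⟨w, hw⟩)
  have hcn : ∀ d, 2 < d → (∃ g : G, orderOf g = d) → c d = n := fun d hd ⟨g, hg⟩ => hg ▸ (hbig g (hg ▸ hd)).1
  have hcd : ∀ d, 2 < d → c d = n ∨ c d = 0 := fun d hd => by
    by_cases he : ∃ g : G, orderOf g = d
    · exact Or.inl (hcn d hd he)
    · exact Or.inr (hzero d (fun g hg => he ⟨g, hg⟩))
  have hmodp : ∀ p : ℕ, p.Prime → p ≠ 2 → p ∣ Nat.card G → p ∣ 1 + n ∧ c p = n := by
    intro p hp hp2 hpG
    haveI := Fact.mk hp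
    obtain ⟨g, hg⟩ := exists_prime_orderOf_dvd_card' p hpG
    have hcp := hcn p (by have := hp.two_le; omega) ⟨g, hg⟩
    have := key p hpG
    rw [hp.sum_divisors, hc1, hcp] at this
    exact ⟨by rwa [add_comm] at this, hcp⟩
  have hpsq : ∀ p : ℕ, p.Prime → p ≠ 2 → ∀ g : G, orderOf g ≠ p ^ 2 := by
    intro p hp hp2 g hg
    have hpG : p ^ 2 ∣ Nat.card G := hg ▸ orderOf_dvd_natCard g
    obtain ⟨h1, hcp⟩ := hmodp p hp hp2 ((dvd_pow_self p two_ne_zero).trans hpG)
    have h2 := key _ hpG
    rw [Nat.sum_divisors_prime_pow hp] at h2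
    simp only [Finset.sum_range_succ, Finset.sum_range_zero, pow_zero, pow_one, zero_add] at h2
    rw [hc1, hcp, hcn (p ^ 2) (by have := hp.two_le; nlinarith) ⟨g, hg⟩] at h2
    have h3 : p ∣ 1 + n + n := (dvd_pow_self p two_ne_zero).trans h2
    have h4 : p ∣ n := (Nat.dvd_add_right h1).1 h3
    exact hp.ne_one (Nat.dvd_one.1 ((Nat.dvd_add_left h4).1 h1))
  have hone : ∀ p q : ℕ, p.Prime → q.Prime → p ≠ 2 → q ≠ 2 → p ∣ Nat.card G → q ∣ Nat.card G → p = q := by
    intro p q hp hq hp2 hq2 hpG hqG
    by_contra hne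
    obtain ⟨h1, hcp⟩ := hmodp p hp hp2 hpG
    obtain ⟨-, hcq⟩ := hmodp q hq hq2 hqG
    have hcop := (Nat.coprime_primes hp hq).2 hne
    have h2 := key _ (hcop.mul_dvd_of_dvd_of_dvd hpG hqG)
    rw [Nat.divisors_mul, Finset.mul_def, Finset.sum_image hcop.mul_injOn_divisors, hp.divisors, hq.divisors] at h2
    rw [Finset.sum_product, Finset.sum_pair hp.ne_one.symm, Finset.sum_pair hq.ne_one.symm,
      Finset.sum_pair hq.ne_one.symm] at h2
    simp only [one_mul, mul_one] at h2
    rw [hc1, hcp, hcq] at h2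
    have h3 : p ∣ 1 + n + (n + c (p * q)) := (dvd_mul_right p q).trans h2
    have h4 : p ∣ n + c (p * q) := (Nat.dvd_add_right h1).1 h3
    have hp3 : 2 < p := by have := hp.two_le; omega
    rcases hcd (p * q) (by nlinarith [hq.two_le, hp3]) with he | he <;> rw [he] at h4
    · have h5 : p ∣ n := (Nat.Prime.coprime_iff_not_dvd hp).2 (fun h => by
        have := Nat.le_of_dvd (by norm_num) h; omega) |>.dvd_of_dvd_mul_left (show p ∣ 2 * n by rw [two_mul]; exact h4)
      exact hp.ne_one (Nat.dvd_one.1 ((Nat.dvd_add_left h5).1 h1))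
    · rw [add_zero] at h4
      exact hp.ne_one (Nat.dvd_one.1 ((Nat.dvd_add_left h4).1 h1))
  have h8 : ∀ g : G, orderOf g ≠ 8 := by
    intro g hg
    have h8G : 8 ∣ Nat.card G := hg ▸ orderOf_dvd_natCard g
    have h4e : ∃ x : G, orderOf x = 4 := ⟨g ^ 2, by rw [orderOf_pow, hg]; rfl⟩
    have h2e : orderOf (g ^ 4) = 2 := by rw [orderOf_pow, hg]; rfl
    have k4 := key 4 (dvd_trans (by norm_num) h8G)
    have k8 := key 8 h8G
    rw [show (8 : ℕ).divisors = {1, 2, 4, 8} from by decide] at k8
    rw [show (4 : ℕ).divisors = {1, 2, 4} from by decide] at k4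
    simp only [Finset.sum_insert, Finset.mem_insert, Finset.mem_singleton, OfNat.ofNat_eq_ofNat,
      Nat.reduceEqDiff, OfNat.one_ne_ofNat, or_self, not_false_eq_true, Finset.sum_singleton] at k4 k8
    rw [hc1, hc2 _ h2e, hcn 4 (by norm_num) h4e] at k4 k8
    rw [hcn 8 (by norm_num) ⟨g, hg⟩] at k8
    omega
  have h4p : ∀ p : ℕ, p.Prime → p ≠ 2 → p ∣ Nat.card G → ∀ g : G, orderOf g ≠ 4 := by
    intro p hp hp2 hpG g hg
    haveI := Fact.mk hp
    obtain ⟨h1, hcp⟩ := hmodp p hp hp2 hpG
    have hcop : Nat.Coprime 4 p := by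
      rw [show (4 : ℕ) = 2 ^ 2 by rfl]
      exact ((Nat.coprime_primes Nat.prime_two hp).2 (Ne.symm hp2)).pow_left 2
    have hz : orderOf (g ^ 2) = 2 := by rw [orderOf_pow, hg]; rfl
    obtain ⟨x, hx⟩ := exists_prime_orderOf_dvd_card' p hpG
    have hcomm : Commute (g ^ 2) x := by
      have := huniq (x * g ^ 2 * x⁻¹) (g ^ 2) (by rw [show x * g ^ 2 * x⁻¹ = MulAut.conj x (g ^ 2) from rfl, MulEquiv.orderOf_eq, hz]) hz
      exact (mul_inv_eq_iff_eq_mul.1 this).symm
    have he2p : c (2 * p) = n := hcn _ (by have := hp.two_le; omega) ⟨g ^ 2 * x, by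
      rw [hcomm.orderOf_mul_eq_mul_orderOf_of_coprime (by
        rw [hz, hx]; exact (Nat.coprime_primes Nat.prime_two hp).2 (Ne.symm hp2)), hz, hx]⟩
    have k := key _ (hcop.mul_dvd_of_dvd_of_dvd (hg ▸ orderOf_dvd_natCard g) hpG)
    rw [Nat.divisors_mul, Finset.mul_def, Finset.sum_image hcop.mul_injOn_divisors, show (4 : ℕ).divisors = {1, 2, 4} from by decide, hp.divisors,
      Finset.sum_product] at k
    simp only [Finset.sum_insert, Finset.mem_insert, Finset.mem_singleton, OfNat.ofNat_eq_ofNat,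
      Nat.reduceEqDiff, OfNat.one_ne_ofNat, or_self, not_false_eq_true, Finset.sum_singleton,
      hp.ne_one.symm, one_mul, mul_one] at k
    rw [hc1, hcp, hc2 _ hz, hcn 4 (by norm_num) ⟨g, hg⟩, he2p] at k
    have hk : p ∣ 1 + n + (1 + n + (n + c (4 * p))) := (dvd_mul_left p 4).trans k
    have h5 : p ∣ n + c (4 * p) := (Nat.dvd_add_right h1).1 ((Nat.dvd_add_right h1).1 hk)
    have hp3 : 2 < p := by have := hp.two_le; omega
    rcases hcd (4 * p) (by omega) with he | he <;> rw [he] at h5
    · have h6 : p ∣ n := (Nat.Prime.coprime_iff_not_dvd hp).2 (fun h => by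
        have := Nat.le_of_dvd (by norm_num) h; omega) |>.dvd_of_dvd_mul_left (show p ∣ 2 * n by rw [two_mul]; exact h5)
      exact hp.ne_one (Nat.dvd_one.1 ((Nat.dvd_add_left h6).1 h1))
    · rw [add_zero] at h5
      exact hp.ne_one (Nat.dvd_one.1 ((Nat.dvd_add_left h5).1 h1))
  by_cases hodd : ∃ p : ℕ, p.Prime ∧ p ≠ 2 ∧ p ∣ Nat.card G
  · obtain ⟨p, hp, hp2, hpG⟩ := hodd
    haveI := Fact.mk hp
    have hordp : ∀ g : G, Odd (orderOf g) → g ^ p = 1 := by
      intro g hg
      have hpp : ∀ q : ℕ, q.Prime → q ∣ orderOf g → q = p := by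
        intro q hq hqd
        refine hone q p hq hp (fun e => ?_) hp2 (hqd.trans (orderOf_dvd_natCard g)) hpG
        subst e
        exact Nat.not_even_iff_odd.2 hg (even_iff_two_dvd.2 hqd)
      have h1 : orderOf g = p ^ (orderOf g).factorization p := by
        refine Nat.eq_pow_of_factorization_eq_single (orderOf_pos g).ne' (Finsupp.ext fun q => ?_)
        by_cases hqp : q = p
        · subst hqp; simp
        · rw [Finsupp.single_eq_of_ne hqp]
          by_contra hne
          exact hqp (hpp q (Nat.prime_of_mem_primeFactors (Finsupp.mem_support_iff.2 hne))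
            (Nat.dvd_of_factorization_pos hne))
      rcases Nat.lt_or_ge ((orderOf g).factorization p) 2 with h2 | h2
      · exact orderOf_dvd_iff_pow_eq_one.1 (h1 ▸ (pow_dvd_pow p (by omega)).trans (dvd_of_eq (pow_one p)))
      · exfalso
        refine hpsq p hp hp2 (g ^ p ^ ((orderOf g).factorization p - 2)) ?_
        rw [orderOf_pow]
        generalize (orderOf g).factorization p = e at h1 h2 ⊢
        rw [h1, Nat.gcd_eq_right (pow_dvd_pow p (Nat.sub_le _ _)), Nat.pow_div (Nat.sub_le _ _) hp.pos]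
        congr 1; omega
    by_cases h2G : 2 ∣ Nat.card G
    · right; right; right
      haveI := Fact.mk Nat.prime_two
      obtain ⟨S⟩ : Nonempty (Sylow 2 G) := inferInstance
      have hSc : IsCyclic ↥(S : Subgroup G) ∧ Nat.card ↥(S : Subgroup G) = 2 := by
        have hsq : ∀ s : ↥(S : Subgroup G), s ^ 2 = 1 := by
          intro s
          obtain ⟨k, hk⟩ := IsPGroup.iff_orderOf.1 S.2 s
          rcases Nat.lt_or_ge k 2 with hk2 | hk2
          · exact orderOf_dvd_iff_pow_eq_one.1 (hk ▸ (pow_dvd_pow 2 (by omega)).trans (dvd_of_eq (pow_one 2)))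
          · exfalso
            refine h4p p hp hp2 hpG ((s : G) ^ 2 ^ (k - 2)) ?_
            rw [orderOf_pow, Subgroup.orderOf_coe, hk, Nat.gcd_eq_right (pow_dvd_pow 2 (Nat.sub_le _ _)),
              Nat.pow_div (Nat.sub_le _ _) two_pos, show k - (k - 2) = 2 by omega]
            rfl
        obtain ⟨s, hs⟩ := exists_prime_orderOf_dvd_card' 2 (S.dvd_card_of_dvd_card h2G)
        have htop : Subgroup.zpowers s = ⊤ := by
          rw [Subgroup.eq_top_iff']
          intro u
          by_cases hu : u = 1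
          · rw [hu]; exact Subgroup.one_mem _
          · have : u = s := Subtype.ext (huniq _ _ (by
              rw [Subgroup.orderOf_coe]; exact orderOf_eq_prime (hsq u) hu) (by rw [Subgroup.orderOf_coe, hs]))
            rw [this]; exact Subgroup.mem_zpowers s
        exact ⟨⟨s, fun u => by show u ∈ Subgroup.zpowers s; rw [htop]; exact Subgroup.mem_top u⟩,
          by rw [← Subgroup.card_top (G := ↥(S : Subgroup G)), ← htop, Nat.card_zpowers, hs]⟩
      obtain ⟨hcyc, hS2⟩ := hSc
      have hmin : (Nat.card G).minFac = 2 := (Nat.minFac_eq_two_iff _).2 h2G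
      have hKS := IsCyclic.isComplement' hmin hcyc
      set K := (MonoidHom.transferSylow S (hcyc.normalizer_le_centralizer hmin)).ker with hKdef
      have hKodd : Odd (Nat.card ↥K) := by
        rw [← Nat.not_even_iff_odd, even_iff_two_dvd]
        exact fun h => S.not_dvd_index (hKS.index_eq_card ▸ h)
      obtain ⟨z, hz⟩ := exists_prime_orderOf_dvd_card' (G := G) 2 h2G
      have hzc : ∀ x : G, x * z = z * x := fun x => by
        have := huniq (x * z * x⁻¹) z (by rw [show x * z * x⁻¹ = MulAut.conj x z from rfl, MulEquiv.orderOf_eq, hz]) hz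
        exact mul_inv_eq_iff_eq_mul.1 this
      let f : ↥(Subgroup.zpowers z) × ↥K →* G :=
        { toFun := fun a => (a.1 : G) * (a.2 : G)
          map_one' := by simp
          map_mul' := fun a b => by
            obtain ⟨i, hi⟩ := b.1.2
            have hc : Commute (a.2 : G) (b.1 : G) := by
              have : Commute (a.2 : G) (z ^ i) := (show Commute (a.2 : G) z from hzc (a.2 : G)).zpow_right i
              simp only at hi
              rwa [hi] at this
            simp only [Prod.fst_mul, Prod.snd_mul, Subgroup.coe_mul]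
            calc (a.1 : G) * b.1 * ((a.2 : G) * b.2) = (a.1 : G) * ((b.1 : G) * (a.2 : G)) * b.2 := by group
              _ = (a.1 : G) * ((a.2 : G) * (b.1 : G)) * b.2 := by rw [hc.eq]
              _ = _ := by group }
      have hfb : Function.Bijective f := by
        refine Function.Injective.bijective_of_nat_card_le ?_ ?_
        · rw [injective_iff_map_eq_one]
          rintro ⟨a, b⟩ hab
          have hab' : (a : G) * (b : G) = 1 := hab
          have hb2 : (b : G) ^ 2 = 1 := by
            have ha2 : a ^ 2 = 1 := by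
              have := pow_card_eq_one' (x := a)
              rwa [Nat.card_zpowers, hz] at this
            rw [eq_inv_of_mul_eq_one_right hab', inv_pow, ← Subgroup.coe_pow, ha2]
            simp
          have hb1 : b = 1 := orderOf_eq_one_iff.1 (Nat.Coprime.eq_one_of_dvd
            (Nat.coprime_two_right.2 (hKodd.of_dvd_nat (orderOf_dvd_natCard b)))
            (orderOf_dvd_of_pow_eq_one (Subtype.ext (by simpa using hb2))))
          subst hb1
          exact Prod.ext (Subtype.ext (by simpa using hab')) rfl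
        · rw [Nat.card_prod, Nat.card_zpowers, hz, ← hKS.card_mul, hS2, mul_comm]
      have hKp : ∀ x : ↥K, x ^ p = 1 := fun x => Subtype.ext (by
        simpa using hordp (x : G) (by rw [Subgroup.orderOf_coe]; exact hKodd.of_dvd_nat (orderOf_dvd_natCard x)))
      have hKexp : Monoid.exponent ↥K = p := by
        refine Nat.dvd_antisymm (Monoid.exponent_dvd_of_forall_pow_eq_one hKp) ?_
        have hpK : p ∣ Nat.card ↥K := by
          have : p ∣ Nat.card ↥K * Nat.card ↥(S : Subgroup G) := hKS.card_mul ▸ hpG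
          rw [hS2] at this
          exact ((Nat.coprime_primes hp Nat.prime_two).2 hp2).dvd_of_dvd_mul_right this
        obtain ⟨x, hx⟩ := exists_prime_orderOf_dvd_card' p hpK
        exact hx ▸ Monoid.order_dvd_exponent x
      refine ⟨p, Shrink.{0} ↥K, inferInstance, Finite.of_equiv _ (equivShrink.{0} ↥K), hp, hp2,
        (IsPGroup.of_equiv (fun x => ⟨1, by rw [pow_one]; exact hKp x⟩) (Shrink.mulEquiv.{0} : Shrink.{0} ↥K ≃* ↥K).symm), ?_, ?_⟩
      · rw [Monoid.exponent_eq_of_mulEquiv (Shrink.mulEquiv.{0} : Shrink.{0} ↥K ≃* ↥K), hKexp]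
      · have e1 : ↥(Subgroup.zpowers z) ≃* Multiplicative (ZMod 2) :=
          mulEquivOfPrimeCardEq (p := 2) (by rw [Nat.card_zpowers, hz])
            (by rw [Nat.card_congr Multiplicative.toAdd, Nat.card_zmod])
        exact ⟨(MulEquiv.ofBijective f hfb).symm.trans (e1.prodCongr (Shrink.mulEquiv.{0} : Shrink.{0} ↥K ≃* ↥K).symm)⟩
    · left
      have hall : ∀ g : G, g ^ p = 1 := fun g => hordp g (by
        rw [← Nat.not_even_iff_odd, even_iff_two_dvd]
        exact fun h => h2G (h.trans (orderOf_dvd_natCard g)))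
      refine ⟨p, hp, fun g => ⟨1, by rw [pow_one]; exact hall g⟩, ?_, ?_⟩
      · have := Nat.le_of_dvd Nat.card_pos hpG
        have := hp.two_le
        omega
      · obtain ⟨x, hx⟩ := exists_prime_orderOf_dvd_card' p hpG
        exact Nat.dvd_antisymm (Monoid.exponent_dvd_of_forall_pow_eq_one hall) (hx ▸ Monoid.order_dvd_exponent x)
  · -- a two-group
    push Not at hodd
    haveI := Fact.mk Nat.prime_two
    have hG2 : IsPGroup 2 G := by
      refine IsPGroup.of_card (n := (Nat.card G).factorization 2) (Nat.eq_pow_of_factorization_eq_single Nat.card_pos.ne' (Finsupp.ext fun q => ?_))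
      by_cases hq2 : q = 2
      · subst hq2; simp
      · rw [Finsupp.single_eq_of_ne hq2]
        by_contra hne
        exact hodd q (Nat.prime_of_mem_primeFactors (Finsupp.mem_support_iff.2 hne)) hq2
          (Nat.dvd_of_factorization_pos hne)
    have h4 : ∀ g : G, g ^ 4 = 1 := by
      intro g
      obtain ⟨k, hk⟩ := IsPGroup.iff_orderOf.1 hG2 g
      rcases Nat.lt_or_ge k 3 with hk3 | hk3
      · exact orderOf_dvd_iff_pow_eq_one.1 (hk ▸ (pow_dvd_pow 2 (by omega)).trans (dvd_of_eq (by norm_num : 2 ^ 2 = 4)))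
      · exfalso
        refine h8 (g ^ 2 ^ (k - 3)) ?_
        rw [orderOf_pow, hk, Nat.gcd_eq_right (pow_dvd_pow 2 (Nat.sub_le _ _)), Nat.pow_div (Nat.sub_le _ _) two_pos,
          show k - (k - 3) = 3 by omega]
        rfl
    have hu : Solv.UniqueOrderP 2 G := by
      intro x y hx hy hy1
      by_cases hx1 : x = 1
      · rw [hx1]; exact Subgroup.one_mem _
      rw [huniq x y (orderOf_eq_prime hx hx1) (orderOf_eq_prime hy hy1)]
      exact Subgroup.mem_zpowers y
    rcases Solv.cyclic_or_quaternion hG2 hu with hcyc | ⟨-, j, ⟨e⟩⟩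
    · right; right; left
      refine ⟨hcyc, ?_⟩
      obtain ⟨a, ha⟩ := hcyc.exists_generator
      have h1 : Nat.card G ∣ 4 := orderOf_eq_card_of_forall_mem_zpowers ha ▸ orderOf_dvd_of_pow_eq_one (h4 a)
      have h2 : 2 < Nat.card G := lt_of_lt_of_le hg₀ (Nat.le_of_dvd Nat.card_pos (orderOf_dvd_natCard g₀))
      have := Nat.le_of_dvd (by norm_num) h1
      interval_cases hk : Nat.card G <;> omega
    · have ho : orderOf (e.symm (QuaternionGroup.a 1)) ∣ 4 := orderOf_dvd_of_pow_eq_one (h4 _)
      rw [MulEquiv.orderOf_eq, QuaternionGroup.orderOf_a_one] at ho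
      have hj : j ≤ 1 := by
        by_contra hj
        have h1 : 2 ^ 2 ≤ 2 ^ j := Nat.pow_le_pow_right two_pos (by omega)
        have h2 := Nat.le_of_dvd (by norm_num) ho
        omega
      interval_cases j
      · right; right; left
        haveI : IsCyclic (QuaternionGroup (2 ^ 0)) := by
          rw [pow_zero]; exact QuaternionGroup.quaternionGroup_one_isCyclic
        refine ⟨e.isCyclic.2 inferInstance, ?_⟩
        rw [Nat.card_congr e.toEquiv, Nat.card_eq_fintype_card, QuaternionGroup.card]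
        rfl
      · exact Or.inr (Or.inl ⟨e⟩)

end Cfsg.Agent.S3995
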