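import Cfsg.Statements.S3996
import Cfsg.Agent.Lib.Solv.CountThree
-- import your own Cfsg.Agent.* helpers here

set_option autoImplicit false
open Cfsg

namespace Cfsg.Agent.S3996

/-- A finite group in which the numbers of elements of each order that occurs (the numbers #{g : o(g) = m}, m ranging over the element orders) take exactly three different values is solvable. -/
theorem result {G : Type*} [Group G] [Finite G] (h : (((fun m : ℕ => Nat.card {g : G // orderOf g = m}) '' Set.range (orderOf : G → ℕ))).ncard = 3) : Group.IsSolvable G := by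
  classical
  have hV : Cfsg.Agent.Solv.CV.TwoVal G := Cfsg.Agent.Solv.CV.twoVal_of_three h
  -- it suffices to have at most one odd prime, or two odd primes and order `2 * p ^ i * q ^ j` with centre
  by_cases hone : ∀ p q : ℕ, p.Prime → q.Prime → p ≠ 2 → q ≠ 2 → p ∣ Nat.card G → q ∣ Nat.card G → p = q
  · by_cases hex : ∃ p : ℕ, p.Prime ∧ p ≠ 2 ∧ p ∣ Nat.card G
    · obtain ⟨p, hp, hp2, hpG⟩ := hex
      exact Cfsg.Agent.Char.isSolvable_of_two_primes Nat.prime_two hp _ rfl (fun r hr hrd => by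
        by_cases hr2 : r = 2
        · exact Or.inl hr2
        · exact Or.inr (hone r p hr hp hr2 hp2 hrd hpG))
    · exact Cfsg.Agent.Char.isSolvable_of_two_primes Nat.prime_two Nat.prime_two _ rfl (fun r hr hrd => by
        by_cases hr2 : r = 2
        · exact Or.inl hr2
        · exact absurd ⟨r, hr, hr2, hrd⟩ hex)
  push Not at hone
  obtain ⟨p, q, hp, hq, hp2, hq2, hpG, hqG, hpq⟩ := hone
  haveI := Fact.mk hp
  haveI := Fact.mk hq
  haveI := Fact.mk Nat.prime_two
  by_cases hodd : ¬ 2 ∣ Nat.card G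
  · -- odd order: at most two primes
    by_cases he : Cfsg.Agent.Solv.CV.cnt G p = Cfsg.Agent.Solv.CV.cnt G q
    · exfalso
      have hd := Cfsg.Agent.Solv.CV.same_card_dvd hp2 hq2 hpq hpG hqG hV he (fun k hk => by
        rcases Nat.eq_zero_or_pos k with rfl | hk0
        · omega
        · exact absurd ((dvd_pow_self 2 hk0.ne').trans hk) hodd)
      have hle : Nat.card G ≤ 1 + Cfsg.Agent.Solv.CV.cnt G p :=
        Nat.le_of_dvd (by omega) ((Nat.Coprime.dvd_mul_left
          ((Nat.prime_two.coprime_iff_not_dvd).2 hodd).symm).1 hd)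
      have hs := Cfsg.Agent.Solv.CV.sum_cnt_le (G := G) {1, p, q}
      rw [Finset.sum_insert (by simp [hp.ne_one.symm, hq.ne_one.symm]), Finset.sum_insert (by simp [hpq]),
        Finset.sum_singleton, Cfsg.Agent.Solv.CV.cnt_one, ← he] at hs
      have := Cfsg.Agent.Solv.CV.cnt_prime_ne_zero (G := G) hpG
      omega
    · exact Cfsg.Agent.Char.isSolvable_of_two_primes hp hq _ rfl (fun r hr hrd => by
        haveI := Fact.mk hr
        exact Cfsg.Agent.Solv.CV.prime_or_of_two hp2 hq2 hpG hqG hV he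
          (fun e => hodd (e ▸ hrd)) hrd)
  push Not at hodd
  have hk2 := Cfsg.Agent.Solv.CV.cast_cnt_prime (G := G) hodd
  have hodd2 : ¬ 2 ∣ Cfsg.Agent.Solv.CV.cnt G 2 := by
    intro hd
    rw [(ZMod.natCast_eq_zero_iff _ _).2 hd] at hk2
    exact one_ne_zero (show (1 : ZMod 2) = 0 by linear_combination hk2)
  by_cases hc2 : Cfsg.Agent.Solv.CV.cnt G 2 ≠ 1
  · exfalso
    have heq : ∀ {d e : ℕ}, 2 < d → 2 < e → Cfsg.Agent.Solv.CV.cnt G d ≠ 0 → Cfsg.Agent.Solv.CV.cnt G e ≠ 0 →
        Cfsg.Agent.Solv.CV.cnt G d = Cfsg.Agent.Solv.CV.cnt G e :=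
      Cfsg.Agent.Solv.CV.oneVal_of_three h hodd2 hc2
    have hp3 := Cfsg.Agent.Solv.CV.two_lt hp2
    have hq3 := Cfsg.Agent.Solv.CV.two_lt hq2
    obtain ⟨h0, hne, -⟩ := Cfsg.Agent.Solv.CV.same_pair hp2 hpq hpG hqG
      (heq hp3 hq3 (Cfsg.Agent.Solv.CV.cnt_prime_ne_zero hpG) (Cfsg.Agent.Solv.CV.cnt_prime_ne_zero hqG))
    exact hne (heq (by nlinarith) hp3 h0 (Cfsg.Agent.Solv.CV.cnt_prime_ne_zero hpG))
  push Not at hc2
  -- a unique involution
  obtain ⟨z, hz⟩ := exists_prime_orderOf_dvd_card' (G := G) 2 hodd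
  have huniq : ∀ w : G, orderOf w = 2 → w = z := by
    intro w hw
    have := (Nat.card_eq_one_iff_unique.1 hc2).1
    exact congrArg Subtype.val (this.elim (⟨w, hw⟩ : {g : G // orderOf g = 2}) ⟨z, hz⟩)
  have hp3 := Cfsg.Agent.Solv.CV.two_lt hp2
  have hq3 := Cfsg.Agent.Solv.CV.two_lt hq2
  have h4 : Cfsg.Agent.Solv.CV.cnt G (2 ^ 2) = 0 := by
    show Cfsg.Agent.Solv.CV.cnt G 4 = 0
    by_cases he : Cfsg.Agent.Solv.CV.cnt G p = Cfsg.Agent.Solv.CV.cnt G q
    · exact Cfsg.Agent.Solv.CV.four_same hp2 hq2 hpq hpG hqG hV he hc2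
    · by_contra h40
      rcases hV p q 4 hp3 hq3 (by norm_num) (Cfsg.Agent.Solv.CV.cnt_prime_ne_zero hpG)
        (Cfsg.Agent.Solv.CV.cnt_prime_ne_zero hqG) h40 he with e | e
      · exact Cfsg.Agent.Solv.CV.four_mixed hp2 hq2 hpG hqG hV he hc2 e
      · exact Cfsg.Agent.Solv.CV.four_mixed hq2 hp2 hqG hpG hV (Ne.symm he) hc2 e
  have hk1 : ∀ k, 2 ^ k ∣ Nat.card G → k ≤ 1 := by
    intro k hk
    have := Cfsg.Agent.Solv.CV.prime_pow_dvd_succ h4 hk
    rw [hc2] at this
    by_contra hk2
    have h5 : 2 ^ 2 ≤ 2 ^ k := Nat.pow_le_pow_right two_pos (by omega)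
    have := Nat.le_of_dvd (by norm_num) this
    omega
  by_cases he : Cfsg.Agent.Solv.CV.cnt G p = Cfsg.Agent.Solv.CV.cnt G q
  · exfalso
    have hd := Cfsg.Agent.Solv.CV.same_card_dvd hp2 hq2 hpq hpG hqG hV he hk1
    have hle := Nat.le_of_dvd (by omega) hd
    have hcz : ∀ x : G, Commute z x := fun x => by
      have := huniq (x * z * x⁻¹) (by
        rw [show x * z * x⁻¹ = MulAut.conj x z from rfl, MulEquiv.orderOf_eq, hz])
      exact (mul_inv_eq_iff_eq_mul.1 this).symm
    have hdouble : ∀ r : ℕ, r.Prime → r ≠ 2 → Cfsg.Agent.Solv.CV.cnt G r ≤ Cfsg.Agent.Solv.CV.cnt G (2 * r) := by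
      intro r hr hr2
      refine Nat.card_le_card_of_injective (fun g : {g : G // orderOf g = r} =>
        (⟨z * g, by
          rw [(hcz g).orderOf_mul_eq_mul_orderOf_of_coprime (by
            rw [hz, g.2]; exact (Nat.coprime_primes Nat.prime_two hr).2 (Ne.symm hr2)), hz, g.2]⟩ :
          {g : G // orderOf g = 2 * r})) ?_
      intro a b hab
      exact Subtype.ext (mul_left_cancel (congrArg Subtype.val hab))
    have hpo := hp.eq_two_or_odd.resolve_left hp2
    have hqo := hq.eq_two_or_odd.resolve_left hq2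
    have hs := Cfsg.Agent.Solv.CV.sum_cnt_le (G := G) {1, 2, p, q, 2 * p, 2 * q}
    rw [Finset.sum_insert (by simp only [Finset.mem_insert, Finset.mem_singleton]; omega), Finset.sum_insert (by simp only [Finset.mem_insert, Finset.mem_singleton]; omega),
      Finset.sum_insert (by simp only [Finset.mem_insert, Finset.mem_singleton]; omega), Finset.sum_insert (by simp only [Finset.mem_insert, Finset.mem_singleton]; omega),
      Finset.sum_insert (by simp only [Finset.mem_insert, Finset.mem_singleton]; omega), Finset.sum_singleton, Cfsg.Agent.Solv.CV.cnt_one, hc2, ← he] at hs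
    have h1 := hdouble p hp hp2
    have h2 := hdouble q hq hq2
    rw [← he] at h2
    have := Cfsg.Agent.Solv.CV.cnt_prime_ne_zero (G := G) hpG
    omega
  · have hzn : (Subgroup.zpowers z).Normal := ⟨fun n hn g => by
      obtain ⟨i, rfl⟩ := Subgroup.mem_zpowers_iff.1 hn
      rw [show g * z ^ i * g⁻¹ = (MulAut.conj g z) ^ i by rw [← map_zpow]; rfl]
      rw [huniq (MulAut.conj g z) (by rw [MulEquiv.orderOf_eq, hz])]
      exact Subgroup.mem_zpowers_iff.2 ⟨i, rfl⟩⟩
    have hcard := (Subgroup.zpowers z).card_eq_card_quotient_mul_card_subgroup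
    rw [Nat.card_zpowers, hz] at hcard
    have hquot : Group.IsSolvable (G ⧸ Subgroup.zpowers z) :=
      Cfsg.Agent.Char.isSolvable_of_two_primes hp hq _ rfl (fun r hr hrd => by
        haveI := Fact.mk hr
        by_cases hr2 : r = 2
        · exfalso
          subst hr2
          have h22 := mul_dvd_mul_right hrd 2
          rw [← hcard] at h22
          have := hk1 2 h22
          omega
        · exact Cfsg.Agent.Solv.CV.prime_or_of_two hp2 hq2 hpG hqG hV he hr2
            (hcard ▸ hrd.trans (dvd_mul_right _ _)))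
    exact Group.isSolvable_of_ker_le_range (Subgroup.zpowers z).subtype (QuotientGroup.mk' (Subgroup.zpowers z))
      (by rw [QuotientGroup.ker_mk', Subgroup.range_subtype])

end Cfsg.Agent.S3996
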