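import Cfsg.Statements.S3997
import Cfsg.Agent.Lib.Perm.Schmidt

set_option autoImplicit false
open Cfsg

open scoped Pointwise commutatorElement

namespace Cfsg.Agent.S3997

/-- Let G and H be finite groups with the same order type: for every m they have the same number of elements of order m. If G is nilpotent then so is H. -/
theorem result {G H : Type*} [Group G] [Finite G] [Group H] [Finite H] (hT : (∀ m : ℕ, Nat.card {g : G // orderOf g = m} = Nat.card {h : H // orderOf h = m})) (hG : Group.IsNilpotent G) :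
    Group.IsNilpotent H := by
  classical
  choose e he using fun m : ℕ => (⟨(Finite.card_eq.1 (hT m)).some, trivial⟩ :
    ∃ _ : {g : G // orderOf g = m} ≃ {h : H // orderOf h = m}, True)
  let E : G ≃ H := (Equiv.sigmaFiberEquiv (fun g : G => orderOf g)).symm.trans
    ((Equiv.sigmaCongrRight e).trans (Equiv.sigmaFiberEquiv (fun h : H => orderOf h)))
  have hE : ∀ g, orderOf (E g) = orderOf g := fun g => ((e (orderOf g)) ⟨g, rfl⟩).2
  refine Cfsg.Agent.Perm.nilpotent_of_sylow_normal fun p hp Q => ?_
  obtain ⟨P⟩ : Nonempty (Sylow p G) := inferInstance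
  have hPn := Cfsg.Agent.Perm.sylow_normal_of_nilpotent hG P
  set S : Set H := {h | ∃ k, orderOf h = p ^ k}
  have hS : S = E '' ((P : Subgroup G) : Set G) := by
    ext h
    constructor
    · rintro ⟨k, hk⟩
      refine ⟨E.symm h, ?_, E.apply_symm_apply h⟩
      have h1 : IsPGroup p (Subgroup.zpowers (E.symm h)) := IsPGroup.of_card (n := k) (by
        rw [Nat.card_zpowers, ← hE, E.apply_symm_apply, hk])
      obtain ⟨R, hR⟩ := h1.exists_le_sylow
      have := Sylow.unique_of_normal P hPn
      rw [Subsingleton.elim R P] at hR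
      exact hR (Subgroup.mem_zpowers _)
    · rintro ⟨g, hg, rfl⟩
      obtain ⟨k, hk⟩ := IsPGroup.iff_orderOf.1 P.isPGroup' ⟨g, hg⟩
      rw [Subgroup.orderOf_mk] at hk
      exact ⟨k, by rw [hE, hk]⟩
  have hcard : Nat.card H = Nat.card G := (Nat.card_congr E).symm
  have hQS : ∀ R : Sylow p H, ((R : Subgroup H) : Set H) = S := by
    intro R
    refine Set.eq_of_subset_of_ncard_le (fun h hh => ?_) (le_of_eq ?_) (Set.toFinite _)
    · obtain ⟨k, hk⟩ := IsPGroup.iff_orderOf.1 R.isPGroup' ⟨h, hh⟩
      rw [Subgroup.orderOf_mk] at hk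
      exact ⟨k, hk⟩
    · rw [hS, Set.ncard_image_of_injective _ E.injective, ← Nat.card_coe_set_eq, ← Nat.card_coe_set_eq,
        SetLike.coe_sort_coe, SetLike.coe_sort_coe, P.card_eq_multiplicity, R.card_eq_multiplicity, hcard]
  have : Subsingleton (Sylow p H) :=
    ⟨fun R R' => Sylow.ext (SetLike.coe_injective ((hQS R).trans (hQS R').symm))⟩
  exact Sylow.normal_of_subsingleton Q

end Cfsg.Agent.S3997
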