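import Cfsg.Statements.S3998
import Cfsg.Agent.Lib.Perm.Supersolvable

set_option autoImplicit false
open Cfsg
open scoped Pointwise

namespace Cfsg.Agent.S3998

/-- Let G and H be finite groups with the same order type (for every m the same number of elements of order m). If G is supersolvable then H is solvable. -/
theorem result {G H : Type*} [Group G] [Finite G] [Group H] [Finite H] (hT : (∀ m : ℕ, Nat.card {g : G // orderOf g = m} = Nat.card {h : H // orderOf h = m})) (hG : Cfsg.IsSupersolvable G) :
    Group.IsSolvable H := by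
  obtain ⟨e, he⟩ : ∃ e : G ≃ H, ∀ g, orderOf (e g) = orderOf g := by
    have f : ∀ m, Nonempty ({g : G // orderOf g = m} ≃ {h : H // orderOf h = m}) := fun m =>
      Finite.card_eq.mp (hT m)
    refine ⟨((Equiv.sigmaFiberEquiv (orderOf : G → ℕ)).symm.trans
      (Equiv.sigmaCongrRight fun m => (f m).some)).trans
      (Equiv.sigmaFiberEquiv (orderOf : H → ℕ)), fun g => ?_⟩
    exact ((f (orderOf g)).some ⟨g, rfl⟩).2
  have hcard : Nat.card G = Nat.card H := Nat.card_congr e
  suffices ∀ (r m : ℕ) (N : Subgroup G) (M : Subgroup H), N.Normal → M.Normal →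
      Nat.card N = m → Nat.card M = m → m * r = Nat.card G → m.Coprime r →
      Group.IsSolvable M → Group.IsSolvable H from
    this (Nat.card G) 1 ⊥ ⊥ inferInstance inferInstance Subgroup.card_bot Subgroup.card_bot
      (one_mul _) (Nat.coprime_one_left _) inferInstance
  intro r
  induction r using Nat.strong_induction_on with
  | _ r ih =>
    intro m N M hNn hMn hN hM hmr hco hsol
    have hm0 : 0 < m := hN ▸ Nat.card_pos
    have hr0 : 0 < r := Nat.pos_of_ne_zero fun h => by
      simp [h] at hmr; have := Nat.card_pos (α := G); omega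
    rcases Nat.lt_or_ge 1 r with hr | hr
    swap
    · obtain rfl : r = 1 := by omega
      have : M = ⊤ := M.eq_top_of_card_eq (by rw [hM, ← hcard, ← hmr, mul_one])
      subst this
      exact Group.isSolvable_of_surjective (f := (⊤ : Subgroup H).subtype) fun x => ⟨⟨x, trivial⟩, rfl⟩
    obtain ⟨q, hq, hqd, hqmax⟩ := Cfsg.Agent.Perm.exists_max_prime hr
    haveI := Fact.mk hq
    have hindex : Nat.card (G ⧸ N) = r := by
      have := N.card_eq_card_quotient_mul_card_subgroup
      rw [hN, ← hmr, mul_comm] at this
      exact (Nat.eq_of_mul_eq_mul_right hm0 this).symm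
    let P : Sylow q (G ⧸ N) := default
    haveI hPn := Cfsg.Agent.Perm.sylow_normal_of_max
      (Cfsg.Agent.Perm.isSupersolvable_quotient hG N) q (by rw [hindex]; exact hqmax) P
    set v := r.factorization q with hv
    have hP : Nat.card P = q ^ v := by rw [P.card_eq_multiplicity, hindex]
    obtain ⟨r', hr'⟩ : q ^ v ∣ r := Nat.ordProj_dvd r q
    have hcoq : (q ^ v).Coprime r' := by
      have := Nat.coprime_ordCompl hq hr0.ne'
      have hdiv : r / q ^ v = r' := by
        rw [hr', Nat.mul_div_cancel_left _ (Nat.pos_of_ne_zero (by simp [hq.ne_zero]))]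
      exact (hdiv ▸ this).pow_left v
    have hlt : r' < r := by
      have h1 : 1 < q ^ v := Nat.one_lt_pow
        (Nat.pos_iff_ne_zero.mp (hq.factorization_pos_of_dvd hr0.ne' hqd)) hq.one_lt
      have : 0 < r' := Nat.pos_of_ne_zero fun h => by simp [h] at hr'; omega
      nlinarith
    set m' := m * q ^ v with hm'
    let N' := (P : Subgroup (G ⧸ N)).comap (QuotientGroup.mk' N)
    have hN' : Nat.card N' = m' := by
      show Nat.card ((P : Subgroup (G ⧸ N)).comap (QuotientGroup.mk' N)) = _
      rw [Cfsg.Agent.Perm.card_comap_mk', hN]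
      show _ = m * q ^ v
      rw [← hP]
    -- every solution of `x ^ m' = 1` lies in `N'`
    have hGset : {x : G | x ^ m' = 1} ⊆ (N' : Set G) := by
      intro x hx
      have hx : x ^ m' = 1 := hx
      show QuotientGroup.mk' N x ∈ (P : Subgroup (G ⧸ N))
      have h1 : orderOf (QuotientGroup.mk' N x) ∣ m * q ^ v :=
        orderOf_dvd_of_pow_eq_one (by rw [← map_pow, ← hm', hx, map_one])
      have h2 : orderOf (QuotientGroup.mk' N x) ∣ r := hindex ▸ orderOf_dvd_natCard _
      have h3 := Nat.Coprime.dvd_of_dvd_mul_left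
        ((Nat.Coprime.coprime_dvd_left h2) hco.symm) h1
      obtain ⟨j, -, hj⟩ := (Nat.dvd_prime_pow hq).mp h3
      have hp : IsPGroup q (Subgroup.zpowers (QuotientGroup.mk' N x)) :=
        IsPGroup.of_card (n := j) (by rw [Nat.card_zpowers, hj])
      have hle := P.is_maximal' (hp.to_sup_of_normal_right P.isPGroup') le_sup_right
      exact (SetLike.ext_iff.mp hle _).mp (Subgroup.mem_sup_left (Subgroup.mem_zpowers _))
    have hHset : Nat.card {y : H // y ^ m' = 1} ≤ m' := by
      have e' : {x : G // x ^ m' = 1} ≃ {y : H // y ^ m' = 1} :=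
        e.subtypeEquiv fun x => by
          simp only [← orderOf_dvd_iff_pow_eq_one, he]
      rw [← Nat.card_congr e']
      exact (Nat.card_mono (Set.toFinite _) hGset).trans hN'.le
    let Q : Sylow q H := default
    have hvm : (Nat.card H).factorization q = v := by
      rw [← hcard, ← hmr, Nat.factorization_mul hm0.ne' hr0.ne', Finsupp.add_apply,
        Nat.factorization_eq_zero_of_not_dvd, zero_add]
      exact fun h => hq.not_dvd_one (hco ▸ Nat.dvd_gcd h hqd)
    have hQ : Nat.card Q = q ^ v := by rw [Q.card_eq_multiplicity, hvm]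
    have hcomq : m.Coprime (q ^ v) := hco.coprime_dvd_right ⟨r', hr'⟩
    let M' : Subgroup H := M ⊔ Q
    have hdisj : Disjoint M (Q : Subgroup H) :=
      disjoint_iff.mpr (Subgroup.inf_eq_bot_of_coprime (by rw [hM, hQ]; exact hcomq))
    have hM' : Nat.card M' = m' := by
      have h1 := Nat.card_congr (Equiv.setCongr (Subgroup.mul_normal (Q : Subgroup H) M))
      have h2 : Nat.card (((Q : Subgroup H) : Set H) * (M : Set H) : Set H) = Nat.card Q * Nat.card M := by
        rw [← Nat.card_prod]
        exact (Nat.card_congr (Equiv.ofBijective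
          (fun p : ↥(Q : Subgroup H) × ↥M =>
            (⟨(p.1 : H) * p.2, Set.mul_mem_mul p.1.2 p.2.2⟩ :
              (((Q : Subgroup H) : Set H) * (M : Set H) : Set H)))
          ⟨fun a b hab => Subgroup.mul_injective_of_disjoint hdisj.symm (congrArg Subtype.val hab),
           fun ⟨x, hx⟩ => by
            obtain ⟨a, ha, b, hb, rfl⟩ := hx
            exact ⟨(⟨a, ha⟩, ⟨b, hb⟩), rfl⟩⟩)).symm
      rw [show M' = (Q : Subgroup H) ⊔ M from sup_comm _ _, hm', mul_comm m, ← hQ, ← hM, ← h2]
      exact h1
    have hsub : (M' : Set H) ⊆ {y : H | y ^ m' = 1} := fun y hy => by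
      have := pow_card_eq_one' (G := M') (x := ⟨y, hy⟩)
      rw [hM'] at this
      exact congrArg Subtype.val this
    have heq : (M' : Set H) = {y : H | y ^ m' = 1} :=
      Set.eq_of_subset_of_ncard_le hsub
        (by rw [← Nat.card_coe_set_eq, ← Nat.card_coe_set_eq]; exact hHset.trans hM'.ge)
        (Set.toFinite _)
    haveI hM'n : M'.Normal := ⟨fun y hy g => by
      have hy' : y ^ m' = 1 := (Set.ext_iff.mp heq y).mp hy
      exact (Set.ext_iff.mp heq _).mpr (by
        show (g * y * g⁻¹) ^ m' = 1
        rw [conj_pow, hy', mul_one, mul_inv_cancel])⟩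
    have hle : M ≤ M' := le_sup_left
    haveI : Group.IsSolvable (M.subgroupOf M') :=
      Group.isSolvable_of_surjective (f := (Subgroup.subgroupOfEquivOfLe hle).symm.toMonoidHom)
        (Subgroup.subgroupOfEquivOfLe hle).symm.surjective
    have hquot : Nat.card (M' ⧸ M.subgroupOf M') = q ^ v := by
      have := (M.subgroupOf M').card_eq_card_quotient_mul_card_subgroup
      rw [hM', Nat.card_congr (Subgroup.subgroupOfEquivOfLe hle).toEquiv, hM, hm', mul_comm] at this
      exact (Nat.eq_of_mul_eq_mul_right hm0 this).symm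
    haveI := (IsPGroup.of_card hquot).isNilpotent
    have hsol' : Group.IsSolvable M' :=
      solvable_of_ker_le_range (M.subgroupOf M').subtype (QuotientGroup.mk' (M.subgroupOf M'))
        (by rw [QuotientGroup.ker_mk', Subgroup.range_subtype])
    exact ih r' hlt m' N' M' inferInstance hM'n hN' hM'
      (by rw [← hmr, hr', hm', mul_assoc])
      (Nat.Coprime.mul_left (hco.coprime_dvd_right ⟨q ^ v, by rw [hr', mul_comm]⟩) hcoq) hsol'


end Cfsg.Agent.S3998
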