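import Cfsg.Statements.S4001
import Cfsg.Agent.Lib.Solv.FrobeniusGK
import Cfsg.Agent.S0042
import Cfsg.Agent.S0035
import Cfsg.Agent.Lib.Solv.Cores

set_option autoImplicit false
set_option linter.style.haveILetI false
open Cfsg

open scoped Pointwise commutatorElement

namespace Cfsg.Agent.S4001

/-- Let G be a 2-Frobenius group: it has normal subgroups H < K with K a Frobenius group with kernel H and G/H a Frobenius group with kernel K/H. Then G is solvable; K/H has odd order coprime to the order of H and to the order of G/K (it is the image of an odd-order Hall subgroup); G/K is cyclic; and the prime graph of G has exactly two connected components, both complete: for distinct primes p, q dividing the order of G, G has an element of order pq exactly when p and q either both divide the order of K/H or both do not. -/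
theorem result {G : Type*} [Group G] [Finite G] (H K : Subgroup G) [H.Normal] [K.Normal] (hlt : H < K)
    (hK : ∃ C : Subgroup ↥K, Cfsg.IsFrobeniusComplement C ∧ Cfsg.frobeniusKernel C = (H.subgroupOf K : Set ↥K))
    (hGH : ∃ C : Subgroup (G ⧸ H), Cfsg.IsFrobeniusComplement C ∧ Cfsg.frobeniusKernel C = (K.map (QuotientGroup.mk' H) : Set (G ⧸ H))) :
    Group.IsSolvable G ∧ Odd (Nat.card (↥K ⧸ H.subgroupOf K)) ∧
      Nat.Coprime (Nat.card (↥K ⧸ H.subgroupOf K)) (Nat.card ↥H * Nat.card (G ⧸ K)) ∧ IsCyclic (G ⧸ K) ∧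
      ∀ p q : ℕ, p.Prime → q.Prime → p ≠ q → p ∣ Nat.card G → q ∣ Nat.card G →
        ((∃ g : G, orderOf g = p * q) ↔ (p ∣ Nat.card (↥K ⧸ H.subgroupOf K) ↔ q ∣ Nat.card (↥K ⧸ H.subgroupOf K))) := by
  classical
  obtain ⟨C, hC, hCk⟩ := hK
  obtain ⟨D, hD, hDk⟩ := hGH
  set Kb : Subgroup (G ⧸ H) := K.map (QuotientGroup.mk' H) with hKb
  have hle : H ≤ K := hlt.le
  haveI hKbn : Kb.Normal := Subgroup.Normal.map inferInstance _ (QuotientGroup.mk'_surjective H)
  have hcomap : Kb.comap (QuotientGroup.mk' H) = K := by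
    rw [hKb, Subgroup.comap_map_eq, QuotientGroup.ker_mk', sup_eq_left.2 hle]
  have hmemKb : ∀ g : G, (g : G ⧸ H) ∈ Kb ↔ g ∈ K := fun g => by
    conv_rhs => rw [← hcomap]
    rfl
  -- kernels
  obtain ⟨N₁, hN₁, hN₁n, hN₁nil⟩ := S0042.result C hC
  obtain ⟨N₁', hN₁', -, hN₁c⟩ := S0035.result C hC
  have hN1eq : N₁ = H.subgroupOf K := SetLike.coe_injective (hN₁.trans hCk)
  have hN1eq' : N₁' = H.subgroupOf K := SetLike.coe_injective (hN₁'.trans hCk)
  subst hN1eq
  subst hN1eq'
  obtain ⟨N₂, hN₂, hN₂n, hN₂nil⟩ := S0042.result D hD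
  obtain ⟨N₂', hN₂', -, hN₂c⟩ := S0035.result D hD
  have hN2eq : N₂ = Kb := SetLike.coe_injective (hN₂.trans hDk)
  have hN2eq' : N₂' = Kb := SetLike.coe_injective (hN₂'.trans hDk)
  subst hN2eq
  subst hN2eq'
  have hHnil : Group.IsNilpotent ↥H :=
    haveI := hN₁nil
    Group.nilpotent_of_mulEquiv (Subgroup.subgroupOfEquivOfLe hle)
  -- fixed-point-free actions
  have hout1 : ∀ x ∈ H, ∀ g ∈ K, g ∉ H → Commute x g → x = 1 := by
    intro x hx g hg hgH hc
    have := Solv.frob_outside hC hCk.symm (v := ⟨x, hle hx⟩) (g := ⟨g, hg⟩)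
      (Subgroup.mem_subgroupOf.2 hx) (fun h => hgH (Subgroup.mem_subgroupOf.1 h)) (Subtype.ext hc.eq)
    exact congrArg Subtype.val this
  have hout2 : ∀ x ∈ K, ∀ g : G, g ∉ K → Commute (x : G ⧸ H) (g : G ⧸ H) → x ∈ H := by
    intro x hx g hg hc
    exact (QuotientGroup.eq_one_iff x).1
      (Solv.frob_outside hD hDk.symm ((hmemKb x).2 hx) (fun h => hg ((hmemKb g).1 h)) hc)
  -- orders
  set c := Nat.card (↥K ⧸ H.subgroupOf K) with hc
  have hcC : c = Nat.card ↥C := by
    rw [hc, ← Subgroup.index_eq_card, hN₁c.symm.index_eq_card]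
  have hHc : Nat.card ↥(H.subgroupOf K) = Nat.card ↥H :=
    Nat.card_congr (Subgroup.subgroupOfEquivOfLe hle).toEquiv
  have hcH : Nat.Coprime c (Nat.card ↥H) := by
    rw [hcC, ← hHc, ← hN₁c.index_eq_card]
    exact Solv.frob_coprime hC
  have hKcard : Nat.card ↥K = Nat.card ↥H * c := by
    rw [Subgroup.card_eq_card_quotient_mul_card_subgroup (H.subgroupOf K), hHc, hc, mul_comm]
  set A : Subgroup G := C.map K.subtype with hA
  have hAK : A ≤ K := Subgroup.map_subtype_le C
  have hAH : A ⊓ H = ⊥ := by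
    rw [Subgroup.eq_bot_iff_forall]
    rintro x ⟨⟨y, hy, rfl⟩, hyH⟩
    have : y = 1 := Subgroup.mem_bot.1 (hN₁c.disjoint.eq_bot ▸
      (⟨Subgroup.mem_subgroupOf.2 hyH, hy⟩ : y ∈ H.subgroupOf K ⊓ C))
    simp [this]
  have hAcard : Nat.card ↥A = c := by rw [hA, Solv.card_map_subtype, hcC]
  set f : ↥A →* ↥Kb :=
    ((QuotientGroup.mk' H).comp A.subtype).codRestrict Kb (fun a => (hmemKb (a : G)).2 (hAK a.2)) with hf
  have hfinj : Function.Injective f := by
    rw [injective_iff_map_eq_one]
    intro a ha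
    have h1 : (a : G) ∈ H := (QuotientGroup.eq_one_iff (a : G)).1 (congrArg Subtype.val ha)
    exact Subtype.ext (Subgroup.mem_bot.1 (hAH ▸ ⟨a.2, h1⟩))
  have hKbcard : Nat.card ↥Kb = c := by
    have h1 : ((QuotientGroup.mk' H).comp K.subtype).range = Kb := by
      rw [MonoidHom.range_comp, Subgroup.range_subtype]
    have h2 : ((QuotientGroup.mk' H).comp K.subtype).ker = H.subgroupOf K := by
      rw [← MonoidHom.comap_ker, QuotientGroup.ker_mk']; rfl
    rw [← h1, ← Subgroup.index_ker, h2, hc, Subgroup.index_eq_card]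
  have hfbij : Function.Bijective f := hfinj.bijective_of_nat_card_le (by rw [hKbcard, hAcard])
  let e : ↥A ≃* ↥Kb := MulEquiv.ofBijective f hfbij
  -- an abelian normal subgroup of `G` below `H`, acted on fixed-point-freely by `A`
  have hHne : H ≠ ⊥ := by
    intro h
    apply hC.2.1
    have h1 := hN₁c
    rw [h, Subgroup.bot_subgroupOf, Subgroup.isComplement'_bot_left] at h1
    exact h1
  haveI : Nontrivial ↥H := (Subgroup.nontrivial_iff_ne_bot H).2 hHne
  haveI := hHnil
  set Z : Subgroup G := (Subgroup.center ↥H).map H.subtype with hZ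
  have hZne : Z ≠ ⊥ := by
    rw [hZ, Ne, Subgroup.map_eq_bot_iff_of_injective _ H.subtype_injective]
    exact Group.IsNilpotent.center_ne_bot ↥H
  haveI : IsMulCommutative ↥Z := by rw [hZ]; infer_instance
  haveI : Z.Normal := Solv.map_subtype_normal_of_characteristic H (Subgroup.center ↥H)
  have hfpfA : ∀ a ∈ A, a ≠ 1 → Z ⊓ Subgroup.centralizer {a} = ⊥ := by
    intro a ha ha1
    rw [Subgroup.eq_bot_iff_forall]
    rintro z ⟨hz, hza⟩
    have hzH : z ∈ H := Subgroup.map_subtype_le _ hz
    refine hout1 z hzH a (hAK ha) (fun h => ha1 (Subgroup.mem_bot.1 (hAH ▸ ⟨ha, h⟩))) ?_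
    exact Subgroup.mem_centralizer_singleton_iff.1 hza
  -- the middle layer is cyclic of odd order
  have hDne : D ≠ ⊥ := hD.1
  obtain ⟨⟨d, hd⟩, hd1⟩ := Subgroup.ne_bot_iff_exists_ne_one.1 hDne
  have hd1' : d ≠ 1 := fun h => hd1 (Subtype.ext h)
  have hdKb : d ∉ Kb := fun h => hd1' (Subgroup.mem_bot.1 (hN₂c.disjoint.eq_bot ▸ ⟨h, hd⟩))
  obtain ⟨hKbcyc, hKbodd⟩ : IsCyclic ↥Kb ∧ Odd (Nat.card ↥Kb) := by
    refine Solv.nilpotent_cyclic_odd hN₂nil ?_ (MulAut.conjNormal (H := Kb) d) ?_
    · intro p hp x y hxy hxp hyp hy1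
      haveI := Fact.mk hp
      obtain ⟨x, rfl⟩ := e.surjective x
      obtain ⟨y, rfl⟩ := e.surjective y
      have hxy' : Commute x y := e.injective (by rw [map_mul, map_mul]; exact hxy.eq)
      have hxp' : x ^ p = 1 := e.injective (by rw [map_pow, map_one]; exact hxp)
      have hyp' : y ^ p = 1 := e.injective (by rw [map_pow, map_one]; exact hyp)
      have hy1' : y ≠ 1 := fun h => hy1 (by rw [h, map_one])
      obtain ⟨k, hk⟩ := Solv.fpf_unique_order hZne
        (by rw [Subgroup.normalizer_eq_top_iff.2 inferInstance]; exact le_top) hfpfA x.2 y.2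
        (congrArg Subtype.val hxy'.eq) (by simpa using congrArg Subtype.val hxp')
        (by simpa using congrArg Subtype.val hyp') (fun h => hy1' (Subtype.ext h))
      refine ⟨k, ?_⟩
      show e y ^ k = e x
      rw [← map_zpow]
      exact congrArg e (Subtype.ext (by simpa using hk))
    · intro x hx
      have hx' := congrArg Subtype.val hx
      rw [MulAut.conjNormal_apply] at hx'
      exact Subtype.ext (Solv.frob_outside hD hDk.symm x.2 hdKb (mul_inv_eq_iff_eq_mul.1 hx').symm)
  have hKbne : Kb ≠ ⊥ := by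
    intro h
    apply hlt.not_ge
    intro x hx
    exact (QuotientGroup.eq_one_iff x).1 (Subgroup.mem_bot.1 (h ▸ (hmemKb x).2 hx))
  have hDcyc : IsCyclic ↥D := Solv.fpf_on_cyclic hKbcyc hKbne (fun b hb hb1 => by
    rw [Subgroup.eq_bot_iff_forall]
    rintro x ⟨hx, hxb⟩
    exact Solv.frob_outside hD hDk.symm hx
      (fun h => hb1 (Subgroup.mem_bot.1 (hN₂c.disjoint.eq_bot ▸ ⟨h, hb⟩)))
      (Subgroup.mem_centralizer_singleton_iff.1 hxb))
  set π : G ⧸ H →* G ⧸ K := QuotientGroup.map H K (MonoidHom.id G) (by simpa using hle) with hπ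
  have hπsurj : Function.Surjective (π.comp D.subtype) := by
    intro q
    obtain ⟨g, rfl⟩ := QuotientGroup.mk_surjective q
    obtain ⟨⟨k, d'⟩, hkd⟩ := (hN₂c : Subgroup.IsComplement _ _).surjective (g : G ⧸ H)
    refine ⟨d', ?_⟩
    have hk : π (k : G ⧸ H) = 1 := by
      obtain ⟨k₀, hk₀⟩ := QuotientGroup.mk_surjective (k : G ⧸ H)
      rw [← hk₀, hπ, QuotientGroup.map_mk, MonoidHom.id_apply, QuotientGroup.eq_one_iff]
      exact (hmemKb k₀).1 (hk₀ ▸ k.2)
    have h1 := congrArg π hkd
    simp only [map_mul, hk, one_mul] at h1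
    exact h1
  have hGK : IsCyclic (G ⧸ K) :=
    haveI := hDcyc
    isCyclic_of_surjective _ hπsurj
  have hcodd : Odd c := hKbcard ▸ hKbodd
  have hDdvd : Nat.card (G ⧸ K) ∣ Nat.card ↥D := Subgroup.card_dvd_of_surjective _ hπsurj
  have hcQ : Nat.Coprime c (Nat.card (G ⧸ K)) := by
    refine Nat.Coprime.coprime_dvd_right hDdvd ?_
    rw [← hKbcard, ← hN₂c.index_eq_card]
    exact (Solv.frob_coprime hD).symm
  have hGcard : Nat.card G = Nat.card (G ⧸ K) * (Nat.card ↥H * c) := by
    rw [Subgroup.card_eq_card_quotient_mul_card_subgroup K, hKcard]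
  refine ⟨?_, hcodd, Nat.Coprime.mul_right hcH hcQ, hGK, ?_⟩
  · haveI := hGK
    haveI : IsCyclic ↥A := haveI := hKbcyc; isCyclic_of_injective f hfinj
    haveI : Group.IsSolvable (↥K ⧸ H.subgroupOf K) := by
      haveI : IsCyclic ↥C := (Subgroup.equivMapOfInjective C K.subtype K.subtype_injective).symm.isCyclic.1 ‹_›
      letI := IsCyclic.commGroup (α := ↥C)
      exact Group.isSolvable_of_surjective (f := (QuotientGroup.mk' (H.subgroupOf K)).comp C.subtype) (by
        intro q
        obtain ⟨k, rfl⟩ := QuotientGroup.mk_surjective q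
        obtain ⟨⟨n, c'⟩, hnc⟩ := (hN₁c : Subgroup.IsComplement _ _).surjective k
        refine ⟨c', ?_⟩
        have h1 := congrArg (QuotientGroup.mk' (H.subgroupOf K)) hnc
        simp only [map_mul, (QuotientGroup.eq_one_iff (N := H.subgroupOf K) _).2 n.2, one_mul,
          QuotientGroup.mk'_apply] at h1
        exact h1)
    haveI : Group.IsSolvable ↥H := inferInstance
    haveI : Group.IsSolvable ↥(H.subgroupOf K) :=
      Group.isSolvable_of_isSolvable_injective (f := (Subgroup.subgroupOfEquivOfLe hle).toMonoidHom)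
        (Subgroup.subgroupOfEquivOfLe hle).injective
    haveI : Group.IsSolvable ↥K :=
      Group.isSolvable_of_ker_le_range (H.subgroupOf K).subtype (QuotientGroup.mk' (H.subgroupOf K))
        (by simp)
    haveI : Group.IsSolvable (G ⧸ K) := by
      letI := IsCyclic.commGroup (α := G ⧸ K)
      infer_instance
    exact Group.isSolvable_of_ker_le_range K.subtype (QuotientGroup.mk' K) (by simp)
  -- the prime graph
  intro p q hp hq hpq hpG hqG
  haveI := Fact.mk hp
  haveI := Fact.mk hq
  have hcop : Nat.Coprime p q := (Nat.coprime_primes hp hq).2 hpq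
  have hpow : ∀ g : G, ∀ n : ℕ, n ∣ orderOf g → ∃ x : G, orderOf x = n := by
    intro g n hn
    exact ⟨g ^ (orderOf g / n), orderOf_pow_orderOf_div (orderOf_pos g).ne' hn⟩
  constructor
  · rintro ⟨g, hg⟩
    have key : ∀ (x y : G) (r s : ℕ), r.Prime → s.Prime → orderOf x = r → orderOf y = s →
        Commute x y → r ∣ c → ¬ s ∣ c → False := by
      intro x y r s hr hs hx hy hxy hrc hsc
      have hxK : x ∈ K := by
        rw [← QuotientGroup.eq_one_iff, ← orderOf_eq_one_iff]
        refine Nat.eq_one_of_dvd_coprimes hcQ ?_ (orderOf_dvd_natCard _)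
        exact ((orderOf_map_dvd (QuotientGroup.mk' K) x).trans (hx ▸ hrc))
      have hxH : x ∉ H := fun h => by
        refine hr.ne_one (Nat.eq_one_of_dvd_coprimes hcH hrc ?_)
        rw [← hx, ← Subgroup.orderOf_mk x h]
        exact orderOf_dvd_natCard _
      have hy1 : y ≠ 1 := fun h => hs.ne_one (by rw [← hy, h, orderOf_one])
      by_cases hyK : y ∈ K
      · by_cases hyH : y ∈ H
        · exact hy1 (hout1 y hyH x hxK hxH hxy.symm)
        · have h1 : orderOf ((⟨y, hyK⟩ : ↥K) : ↥K ⧸ H.subgroupOf K) = s := by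
            rcases (Nat.dvd_prime hs).1 ((orderOf_map_dvd (QuotientGroup.mk' (H.subgroupOf K)) ⟨y, hyK⟩).trans
              (by rw [Subgroup.orderOf_mk, hy])) with h | h
            · rw [orderOf_eq_one_iff, QuotientGroup.mk'_apply, QuotientGroup.eq_one_iff] at h
              exact absurd (Subgroup.mem_subgroupOf.1 h) hyH
            · exact h
          exact hsc (h1 ▸ orderOf_dvd_natCard _)
      · exact hxH (hout2 x hxK y hyK (hxy.map (QuotientGroup.mk' H)))
    have hgp : orderOf (g ^ q) = p := by
      rw [orderOf_pow_of_dvd hq.ne_zero (hg ▸ dvd_mul_left q p), hg, Nat.mul_div_cancel _ hq.pos]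
    have hgq : orderOf (g ^ p) = q := by
      rw [orderOf_pow_of_dvd hp.ne_zero (hg ▸ dvd_mul_right p q), hg, Nat.mul_div_cancel_left _ hp.pos]
    constructor
    · intro h
      by_contra h'
      exact key _ _ p q hp hq hgp hgq ((Commute.refl g).pow_pow q p) h h'
    · intro h
      by_contra h'
      exact key _ _ q p hq hp hgq hgp ((Commute.refl g).pow_pow p q) h h'
  · intro hiff
    by_cases hpc : p ∣ c
    · -- both divide the cyclic middle layer
      haveI : IsCyclic ↥A := haveI := hKbcyc; isCyclic_of_injective f hfinj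
      obtain ⟨a, ha⟩ := IsCyclic.exists_generator (α := ↥A)
      have hao : orderOf a = c := by
        rw [← hAcard, orderOf_eq_card_of_forall_mem_zpowers ha]
      exact hpow (a : G) _ (by
        rw [Subgroup.orderOf_coe, hao]
        exact Nat.Coprime.mul_dvd_of_dvd_of_dvd hcop hpc (hiff.1 hpc))
    have hqc : ¬ q ∣ c := fun h => hpc (hiff.2 h)
    have hfac : ∀ r : ℕ, r.Prime → r ∣ Nat.card G → ¬ r ∣ c →
        r ∣ Nat.card ↥H ∨ r ∣ Nat.card (G ⧸ K) := by
      intro r hr hrG hrc
      rw [hGcard] at hrG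
      rcases hr.dvd_mul.1 hrG with h | h
      · exact Or.inr h
      · rcases hr.dvd_mul.1 h with h | h
        · exact Or.inl h
        · exact absurd h hrc
    -- `p ∣ |H|` and `q ∣ |G/K|` but not `|H|`
    have mixed : ∀ (r s : ℕ), r.Prime → s.Prime → r ≠ s → r ∣ Nat.card ↥H →
        s ∣ Nat.card (G ⧸ K) → ¬ s ∣ Nat.card ↥H → ¬ s ∣ c → ∃ g : G, orderOf g = r * s := by
      intro r s hr hs hrs hrH hsQ hsH hsc
      haveI := Fact.mk hr
      haveI := Fact.mk hs
      obtain ⟨t, ht, htc⟩ := Nat.exists_prime_and_dvd (n := c) (fun h1 => by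
        rw [h1] at hKcard
        exact hlt.ne (Subgroup.eq_of_le_of_card_ge hle (by omega)))
      haveI := Fact.mk ht
      obtain ⟨R⟩ : Nonempty (Sylow t ↥K) := inferInstance
      set R' : Subgroup G := (R : Subgroup ↥K).map K.subtype with hR'
      have hFr := Sylow.normalizer_sup_eq_top R
      have hsK : ¬ s ∣ Nat.card ↥K := by
        rw [hKcard]; intro h
        rcases hs.dvd_mul.1 h with h | h
        · exact hsH h
        · exact hsc h
      have hsN : s ∣ Nat.card ↥(Subgroup.normalizer (R' : Set G)) := by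
        have h1 : Nat.card G ∣ Nat.card ↥(Subgroup.normalizer (R' : Set G)) * Nat.card ↥K := by
          rw [← Subgroup.card_top (G := G), ← hFr, sup_comm, mul_comm]
          exact Solv.card_sup_dvd K _
        have h2 : s ∣ Nat.card G := hsQ.trans (by rw [hGcard]; exact dvd_mul_right _ _)
        exact (hs.dvd_mul.1 (h2.trans h1)).resolve_right hsK
      obtain ⟨⟨y, hyN⟩, hys⟩ := exists_prime_orderOf_dvd_card' s hsN
      rw [Subgroup.orderOf_mk] at hys
      have hyK : y ∉ K := fun h => hsK (by
        rw [← hys, ← Subgroup.orderOf_mk y h]; exact orderOf_dvd_natCard _)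
      have hy1 : y ≠ 1 := fun h => hyK (h ▸ K.one_mem)
      have hR'K : R' ≤ K := Subgroup.map_subtype_le _
      have hR'card : Nat.card ↥R' = Nat.card ↥(R : Subgroup ↥K) := Solv.card_map_subtype _
      have hR'H : R' ⊓ H = ⊥ := by
        refine Solv.coprime_inf ?_
        rw [hR'card]
        obtain ⟨k, hk⟩ := IsPGroup.iff_card.1 R.2
        rw [hk]
        exact Nat.Coprime.pow_left k (Nat.Coprime.coprime_dvd_left htc hcH)
      have hR'ne : R' ≠ ⊥ := by
        intro h
        have h2 : t ∣ Nat.card ↥(R : Subgroup ↥K) :=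
          R.dvd_card_of_dvd_card (hKcard ▸ dvd_mul_of_dvd_right htc _)
        rw [← hR'card, h, Subgroup.card_bot] at h2
        exact ht.one_lt.ne' (Nat.dvd_one.1 h2)
      -- `V`: central elements of `H` of order dividing `r`
      let V : Subgroup G :=
        { carrier := {x | x ∈ Z ∧ x ^ r = 1}
          one_mem' := ⟨Z.one_mem, one_pow r⟩
          mul_mem' := fun {a b} ha hb => ⟨Z.mul_mem ha.1 hb.1, by
            rw [(show Commute a b from congrArg Subtype.val
              (mul_comm' (⟨a, ha.1⟩ : Z) ⟨b, hb.1⟩)).mul_pow, ha.2, hb.2, one_mul]⟩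
          inv_mem' := fun {a} ha => ⟨Z.inv_mem ha.1, by rw [inv_pow, ha.2, inv_one]⟩ }
      haveI : IsMulCommutative ↥V := ⟨⟨fun a b => Subtype.ext (congrArg Subtype.val
        (mul_comm' (⟨a, a.2.1⟩ : Z) ⟨b, b.2.1⟩) :)⟩⟩
      haveI : V.Normal := ⟨fun a ha g => ⟨(inferInstance : Z.Normal).conj_mem a ha.1 g, by
        rw [conj_pow, ha.2, mul_one, mul_inv_cancel]⟩⟩
      have hVne : V ≠ ⊥ := by
        obtain ⟨P⟩ : Nonempty (Sylow r ↥H) := inferInstance
        haveI : Nontrivial ↥(P : Subgroup ↥H) := by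
          rw [← Finite.one_lt_card_iff_nontrivial]
          have := Nat.le_of_dvd Nat.card_pos (P.dvd_card_of_dvd_card hrH)
          have := hr.two_le
          omega
        haveI : Nontrivial (Subgroup.center ↥(P : Subgroup ↥H)) := P.2.center_nontrivial
        have h2 : r ∣ Nat.card (Subgroup.center ↥(P : Subgroup ↥H)) := by
          obtain ⟨k, hk⟩ := IsPGroup.iff_card.1 (P.2.to_subgroup (Subgroup.center _))
          have h3 := Finite.one_lt_card_iff_nontrivial.2
            (inferInstance : Nontrivial (Subgroup.center ↥(P : Subgroup ↥H)))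
          rw [hk] at h3 ⊢
          exact dvd_pow_self r (fun h0 => by rw [h0] at h3; simp at h3)
        obtain ⟨⟨z, hz⟩, hzr⟩ := exists_prime_orderOf_dvd_card' r h2
        rw [Subgroup.orderOf_mk] at hzr
        have hzc : (z : ↥H) ∈ Subgroup.center ↥H := by
          rw [← Subgroup.centralizer_univ, Subgroup.mem_centralizer_iff]
          intro w _
          have htop : ∀ (l : ℕ) [Fact l.Prime] (S : Sylow l ↥H),
              (S : Subgroup ↥H) ≤ Subgroup.centralizer {(z : ↥H)} := by
            intro l _ S u hu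
            rw [Subgroup.mem_centralizer_singleton_iff]
            by_cases hlr : l = r
            · subst hlr
              haveI : (P : Subgroup ↥H).Normal :=
                P.normal_of_normalizerCondition Group.normalizerCondition_of_isNilpotent
              haveI : Unique (Sylow l ↥H) := Sylow.unique_of_normal P inferInstance
              rw [Subsingleton.elim S P] at hu
              exact congrArg Subtype.val (Subgroup.mem_center_iff.1 hz ⟨u, hu⟩)
            · have h4 := Perm.commute_of_le_nilpotent (H := (⊤ : Subgroup ↥H)) inferInstance hlr S.2 P.2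
                le_top le_top hu
              exact (Subgroup.mem_centralizer_iff.1 h4 (z : ↥H) z.2).symm
          have := Solv.eq_top_of_forall_sylow_le _ (fun l [Fact l.Prime] => ⟨default, htop l default⟩)
          exact (Subgroup.mem_centralizer_singleton_iff.1 (this ▸ Subgroup.mem_top w))
        intro hV
        have hmem : ((z : ↥H) : G) ∈ V := ⟨⟨_, hzc, rfl⟩, by
          have h6 : z ^ r = 1 := by
            have h7 := pow_orderOf_eq_one z
            rwa [hzr] at h7
          simpa using congrArg (fun w : ↥(P : Subgroup ↥H) => ((w : ↥H) : G)) h6⟩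
        rw [hV, Subgroup.mem_bot] at hmem
        exact hr.ne_one (hzr.symm.trans (orderOf_eq_one_iff.2 (Subtype.ext (Subtype.ext hmem))))
      have hVH : V ≤ H := fun v hv => Subgroup.map_subtype_le _ hv.1
      by_cases hfix : V ⊓ Subgroup.centralizer {y} = ⊥
      swap
      · obtain ⟨⟨v, hv, hvy⟩, hv1⟩ := Subgroup.ne_bot_iff_exists_ne_one.1 hfix
        have hvo : orderOf v = r := orderOf_eq_prime hv.2 (fun h => hv1 (Subtype.ext h))
        have hvy' : Commute v y := Subgroup.mem_centralizer_singleton_iff.1 hvy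
        refine ⟨v * y, ?_⟩
        rw [hvy'.orderOf_mul_eq_mul_orderOf_of_coprime
          (by rw [hvo, hys]; exact (Nat.coprime_primes hr hs).2 hrs), hvo, hys]
      exfalso
      -- otherwise `R⟨y⟩` would act fixed-point-freely and be a Frobenius group
      set A' : Subgroup G := R' ⊔ Subgroup.zpowers y with hA'
      have hynorm : Subgroup.zpowers y ≤ Subgroup.normalizer (R' : Set G) := Subgroup.zpowers_le.2 hyN
      have hRn : (R'.subgroupOf A').Normal :=
        Subgroup.normal_subgroupOf_iff_le_normalizer le_sup_left |>.2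
          (sup_le Subgroup.le_normalizer hynorm)
      haveI := hRn
      have hYR : R' ⊓ Subgroup.zpowers y = ⊥ := by
        rw [Subgroup.eq_bot_iff_forall]
        rintro x ⟨hxR, hxy⟩
        obtain ⟨k, rfl⟩ := hxy
        by_contra hne
        have h1 : Subgroup.zpowers (y ^ k) = Subgroup.zpowers y :=
          Subgroup.eq_of_le_of_card_ge (Subgroup.zpowers_le.2 (zpow_mem (Subgroup.mem_zpowers y) k)) (by
            rw [Nat.card_zpowers, Nat.card_zpowers, hys]
            rcases (Nat.dvd_prime hs).1 (hys ▸ orderOf_dvd_of_pow_eq_one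
              (show (y ^ k) ^ orderOf y = 1 by
                rw [← zpow_natCast, ← zpow_mul, mul_comm, zpow_mul, zpow_natCast, pow_orderOf_eq_one,
                  one_zpow])) with h | h
            · exact absurd (orderOf_eq_one_iff.1 h) hne
            · exact h.ge)
        exact hyK (hR'K ((Subgroup.zpowers_le.1
          (h1 ▸ Subgroup.zpowers_le.2 hxR : Subgroup.zpowers y ≤ R'))))
      have hfpfR : ∀ a ∈ R', a ≠ 1 → ∀ g : G, g ∉ K → ¬ Commute a g := by
        intro a ha ha1 g hg hag
        exact ha1 (Subgroup.mem_bot.1 (hR'H ▸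
          ⟨ha, hout2 a (hR'K ha) g hg (hag.map (QuotientGroup.mk' H))⟩))
      have hnotK : ∀ w ∈ Subgroup.zpowers y, w ≠ 1 → w ∉ K := by
        intro w hw hw1 hwK
        obtain ⟨k, rfl⟩ := hw
        have h1 : orderOf (y ^ k) ∣ s := hys ▸ orderOf_dvd_of_pow_eq_one (by
          rw [← zpow_natCast, ← zpow_mul, mul_comm, zpow_mul, zpow_natCast, pow_orderOf_eq_one,
            one_zpow])
        rcases (Nat.dvd_prime hs).1 h1 with h | h
        · exact hw1 (orderOf_eq_one_iff.1 h)
        · exact hsK (by rw [← h, ← Subgroup.orderOf_mk (y ^ k) hwK]; exact orderOf_dvd_natCard _)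
      have hcompl : Subgroup.IsComplement' (R'.subgroupOf A') ((Subgroup.zpowers y).subgroupOf A') := by
        refine Subgroup.isComplement'_of_disjoint_and_mul_eq_univ ?_ ?_
        · rw [disjoint_iff, Subgroup.eq_bot_iff_forall]
          rintro x ⟨h1, h2⟩
          exact Subtype.ext (Subgroup.mem_bot.1 (hYR ▸
            ⟨Subgroup.mem_subgroupOf.1 h1, Subgroup.mem_subgroupOf.1 h2⟩))
        · rw [← Subgroup.normal_mul, ← Subgroup.subgroupOf_sup le_sup_left le_sup_right,
            Subgroup.subgroupOf_self, Subgroup.coe_top]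
      have hR'ne' : R'.subgroupOf A' ≠ ⊥ := fun h => hR'ne (by
        have := congrArg (Subgroup.map A'.subtype) h
        rwa [Subgroup.map_bot, Subgroup.subgroupOf_map_subtype, inf_eq_left.2 le_sup_left] at this)
      have hYne : (Subgroup.zpowers y).subgroupOf A' ≠ ⊥ := fun h => hy1 (by
        have := congrArg (Subgroup.map A'.subtype) h
        rwa [Subgroup.map_bot, Subgroup.subgroupOf_map_subtype, inf_eq_left.2 le_sup_right,
          Subgroup.zpowers_eq_bot] at this)
      obtain ⟨hfrob, hker⟩ := Solv.frob_of_fpf_complement hcompl hR'ne' hYne (by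
        intro h hh hh1
        rw [Subgroup.eq_bot_iff_forall]
        rintro x ⟨hx, hxc⟩
        by_contra hx1
        exact hfpfR (x : G) (Subgroup.mem_subgroupOf.1 hx) (fun e => hx1 (Subtype.ext e)) (h : G)
          (hnotK _ (Subgroup.mem_subgroupOf.1 hh) (fun e => hh1 (Subtype.ext e)))
          (congrArg Subtype.val (Subgroup.mem_centralizer_singleton_iff.1 hxc)))
      refine Solv.fpf_not_frobenius (A := A') hVne
        (by rw [Subgroup.normalizer_eq_top_iff.2 inferInstance]; exact le_top) ?_ _ hfrob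
      intro a ha ha1
      rw [Subgroup.eq_bot_iff_forall]
      rintro v ⟨hv, hva⟩
      have hva' : Commute v a := Subgroup.mem_centralizer_singleton_iff.1 hva
      by_cases haR : a ∈ R'
      · exact hout1 v (hVH hv) a (hR'K haR) (fun h => ha1 (Subgroup.mem_bot.1 (hR'H ▸ ⟨haR, h⟩))) hva'
      · -- `a` is conjugate to a power of `y`
        have hk : (⟨a, ha⟩ : ↥A') ∉ Cfsg.frobeniusKernel ((Subgroup.zpowers y).subgroupOf A') := by
          rw [hker]
          exact fun h => haR (Subgroup.mem_subgroupOf.1 h)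
        simp only [Cfsg.frobeniusKernel, Set.mem_setOf_eq, not_or, not_forall, not_not] at hk
        obtain ⟨-, g, hg⟩ := hk
        rw [Solv.mem_conj_smul, Subgroup.mem_subgroupOf] at hg
        push_cast at hg
        obtain ⟨k, hk⟩ := hg
        by_contra hv1
        have hw : (g : G)⁻¹ * v * g ∈ V := by
          have := (inferInstance : V.Normal).conj_mem v hv (g : G)⁻¹
          rwa [inv_inv] at this
        have hcomm : Commute ((g : G)⁻¹ * v * g) (y ^ k) := by
          show _ = _
          simp only at hk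
          rw [hk]
          calc (g : G)⁻¹ * v * g * ((g : G)⁻¹ * a * g) = (g : G)⁻¹ * (v * a) * g := by group
            _ = (g : G)⁻¹ * (a * v) * g := by rw [hva'.eq]
            _ = _ := by group
        have hyk : y ^ k ≠ 1 := fun h => ha1 (by
          simp only at hk
          rw [h] at hk
          have h' : (g : G) * 1 * (g : G)⁻¹ = a := by rw [hk]; group
          simpa using h'.symm)
        -- some power of `y ^ k` is `y`
        have hmem : y ∈ Subgroup.zpowers (y ^ k) := by
          rw [Subgroup.eq_of_le_of_card_ge (Subgroup.zpowers_le.2 (zpow_mem (Subgroup.mem_zpowers y) k)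
            : Subgroup.zpowers (y ^ k) ≤ Subgroup.zpowers y) (by
            rw [Nat.card_zpowers, Nat.card_zpowers, hys]
            rcases (Nat.dvd_prime hs).1 (hys ▸ orderOf_dvd_of_pow_eq_one
              (show (y ^ k) ^ orderOf y = 1 by
                rw [← zpow_natCast, ← zpow_mul, mul_comm, zpow_mul, zpow_natCast, pow_orderOf_eq_one,
                  one_zpow])) with h | h
            · exact absurd (orderOf_eq_one_iff.1 h) hyk
            · exact h.ge)]
          exact Subgroup.mem_zpowers y
        obtain ⟨j, hj⟩ := hmem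
        have hcy : Commute ((g : G)⁻¹ * v * g) y := hj ▸ hcomm.zpow_right j
        have h5 : (g : G)⁻¹ * v * g = 1 :=
          Subgroup.mem_bot.1 (hfix ▸ ⟨hw, Subgroup.mem_centralizer_singleton_iff.2 hcy.eq⟩)
        exact hv1 (by
          have : v = (g : G) * ((g : G)⁻¹ * v * g) * (g : G)⁻¹ := by group
          rw [this, h5]; group)
    by_cases hpH : p ∣ Nat.card ↥H
    · by_cases hqH : q ∣ Nat.card ↥H
      · obtain ⟨x, hx⟩ := exists_prime_orderOf_dvd_card' p hpH
        obtain ⟨y, hy⟩ := exists_prime_orderOf_dvd_card' q hqH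
        refine ⟨((x * y : ↥H) : G), ?_⟩
        rw [Subgroup.orderOf_coe, (Solv.commute_of_nilpotent_prime hHnil hpq hx hy).orderOf_mul_eq_mul_orderOf_of_coprime
          (by rw [hx, hy]; exact hcop), hx, hy]
      · exact mixed p q hp hq hpq hpH ((hfac q hq hqG hqc).resolve_left hqH) hqH hqc
    · by_cases hqH : q ∣ Nat.card ↥H
      · rw [mul_comm]
        exact mixed q p hq hp (Ne.symm hpq) hqH ((hfac p hp hpG hpc).resolve_left hpH) hpH hpc
      · obtain ⟨x, hx⟩ := IsCyclic.exists_generator (α := G ⧸ K)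
        obtain ⟨g, rfl⟩ := QuotientGroup.mk_surjective x
        refine hpow g _ (dvd_trans ?_ (orderOf_map_dvd (QuotientGroup.mk' K) g))
        rw [QuotientGroup.mk'_apply, orderOf_eq_card_of_forall_mem_zpowers hx]
        exact Nat.Coprime.mul_dvd_of_dvd_of_dvd hcop ((hfac p hp hpG hpc).resolve_left hpH)
          ((hfac q hq hqG hqc).resolve_left hqH)

end Cfsg.Agent.S4001
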