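import Cfsg.Statements.S4002
import Cfsg.Agent.Lib.Solv.ThreePrimeLemma
import Cfsg.Agent.Lib.Perm.ThreePrimes

set_option autoImplicit false
open Cfsg

open scoped Pointwise commutatorElement

namespace Cfsg.Agent.S4002

/-- If the set of element orders of a finite group G is {1, 2, …, n} with n ≥ 7, then G is not solvable. -/
theorem result {G : Type*} [Group G] [Finite G] (n : ℕ) (hn : 7 ≤ n) (h : Set.range (orderOf : G → ℕ) = {k : ℕ | 1 ≤ k ∧ k ≤ n}) : ¬ Group.IsSolvable G := by
  classical
  have key : ∀ a b c : ℕ, a.Prime → b.Prime → c.Prime → a < b → b < c → c ≤ n → n < a * b →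
      ¬ Group.IsSolvable G := by
    intro a b c ha hb hc hab hbc hcn hprod
    have hac : n < a * c := hprod.trans_le (Nat.mul_le_mul_left a hbc.le)
    have hbc' : n < b * c := hac.trans_le (Nat.mul_le_mul_right c hab.le)
    have hmem : ∀ k : ℕ, k.Prime → k ≤ n → k ∣ Nat.card G := fun k hk hkn => by
      have h1 : k ∈ Set.range (orderOf : G → ℕ) := h ▸ ⟨hk.one_lt.le, hkn⟩
      obtain ⟨g, hg⟩ := h1
      exact hg ▸ orderOf_dvd_natCard g
    refine Solv.not_solvable_of_three_apart (σ := {a, b, c})
      (Finset.card_eq_three.2 ⟨a, b, c, hab.ne, (hab.trans hbc).ne, hbc.ne, rfl⟩) ?_ ?_ ?_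
    · intro x hx
      simp only [Finset.mem_insert, Finset.mem_singleton] at hx
      rcases hx with rfl | rfl | rfl <;> assumption
    · intro x hx
      simp only [Finset.mem_insert, Finset.mem_singleton] at hx
      rcases hx with rfl | rfl | rfl
      · exact hmem _ ha (by omega)
      · exact hmem _ hb (by omega)
      · exact hmem _ hc hcn
    · intro x hx y hy hxy g hg
      have h1 : orderOf g ∈ ({k : ℕ | 1 ≤ k ∧ k ≤ n} : Set ℕ) := h ▸ ⟨g, rfl⟩
      have h2 : x * y ≤ n := hg ▸ h1.2
      simp only [Finset.mem_insert, Finset.mem_singleton] at hx hy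
      rcases hx with rfl | rfl | rfl <;> rcases hy with rfl | rfl | rfl <;>
        first | exact hxy rfl | linarith
  by_cases h1 : n < 15
  · exact key 3 5 7 (by norm_num) (by norm_num) (by norm_num) (by norm_num) (by norm_num) hn h1
  by_cases h2 : n < 18
  · exact key 5 7 11 (by norm_num) (by norm_num) (by norm_num) (by norm_num) (by norm_num) (by omega) (by omega)
  obtain ⟨a, b, c, ha, hb, hc, h3, h4, h5, h6⟩ := Perm.exists_three_primes (n := n / 2) (by omega)
  refine key a b c ha hb hc h4 h5 (by omega) ?_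
  calc n ≤ 2 * (n / 2) + 1 := by omega
    _ < (n / 2) * (n / 2) := by nlinarith [show 9 ≤ n / 2 by omega]
    _ ≤ a * b := Nat.mul_le_mul h3.le (h3.trans h4).le

end Cfsg.Agent.S4002
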