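import Cfsg.Statements.S4003
import Cfsg.Agent.Lib.Solv.Kulakoff
import Cfsg.Agent.Lib.Solv.FrobDiv

set_option autoImplicit false
set_option linter.style.haveILetI false
open Cfsg

open scoped Pointwise commutatorElement

namespace Cfsg.Agent.S4003

theorem zpowers_eq_of_mem {G : Type*} [Group G] [Finite G] {g t : G} {a b : ℕ} (hg : orderOf g = a * b)
    (hb : b ≠ 0) (ht : t ∈ Subgroup.zpowers g) (hta : orderOf t = a) :
    Subgroup.zpowers t = Subgroup.zpowers (g ^ b) := by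
  refine Subgroup.eq_of_le_of_card_ge (Subgroup.zpowers_le.2 ?_) (le_of_eq ?_)
  · obtain ⟨i, hi⟩ := mem_powers_iff_mem_zpowers.2 ht
    simp only at hi
    have h1 : a * b ∣ i * a := by
      rw [← hg, orderOf_dvd_iff_pow_eq_one, pow_mul, hi, ← hta, pow_orderOf_eq_one]
    have ha : 0 < a := hta ▸ orderOf_pos t
    obtain ⟨q, hq⟩ : b ∣ i := Nat.dvd_of_mul_dvd_mul_left ha (by rwa [mul_comm a i])
    exact ⟨q, by simp only; rw [zpow_natCast, ← pow_mul, ← hq, hi]⟩
  · rw [Nat.card_zpowers, Nat.card_zpowers, hta, orderOf_pow_of_dvd hb (hg ▸ dvd_mul_left b a), hg,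
      Nat.mul_div_cancel _ (Nat.pos_of_ne_zero hb)]

theorem centralised {G : Type*} [Group G] [Finite G] {p : ℕ} [Fact p.Prime] {u y : G} {m : ℕ}
    (hu : ∃ j : ℕ, orderOf u = p ^ j) (hy : orderOf y = m) (hφ : ¬ p ∣ Nat.totient m)
    (hconj : u * y * u⁻¹ ∈ Subgroup.zpowers y) : u * y = y * u := by
  obtain ⟨k, hk⟩ := mem_powers_iff_mem_zpowers.2 hconj
  simp only at hk
  obtain ⟨j, hj⟩ := hu
  have h1 : ∀ t : ℕ, u ^ t * y * (u ^ t)⁻¹ = y ^ (k ^ t) := by
    intro t
    induction t with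
    | zero => simp
    | succ t ih =>
      calc u ^ (t + 1) * y * (u ^ (t + 1))⁻¹ = u * (u ^ t * y * (u ^ t)⁻¹) * u⁻¹ := by rw [pow_succ']; group
        _ = (u * y * u⁻¹) ^ (k ^ t) := by rw [ih, conj_pow]
        _ = _ := by rw [← hk, ← pow_mul, ← pow_succ']
  haveI : NeZero m := ⟨hy ▸ (orderOf_pos y).ne'⟩
  have h2 : (k : ZMod m) ^ (p ^ j) = 1 := by
    have := h1 (p ^ j)
    rw [← hj, pow_orderOf_eq_one, one_mul, inv_one, mul_one, hj] at this
    rw [← Nat.cast_pow, ← Nat.cast_one, ZMod.natCast_eq_natCast_iff, ← hy, ← pow_eq_pow_iff_modEq, pow_one]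
    exact this.symm
  set v := Units.ofPowEqOne (k : ZMod m) (p ^ j) h2 (pow_ne_zero _ (Fact.out : p.Prime).ne_zero) with hv
  have hv1 : orderOf v ∣ p ^ j := orderOf_dvd_of_pow_eq_one (Units.ext h2)
  have hv2 : orderOf v ∣ Nat.totient m := by
    rw [← ZMod.card_units_eq_totient]
    exact orderOf_dvd_card
  have hv3 : orderOf v = 1 := Nat.eq_one_of_dvd_coprimes
    (((Fact.out : p.Prime).coprime_iff_not_dvd.2 hφ).pow_left j) hv1 hv2
  have hk1 : (k : ZMod m) = 1 := by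
    have := congrArg Units.val (orderOf_eq_one_iff.1 hv3)
    rwa [hv, Units.val_ofPowEqOne, Units.val_one] at this
  have : y ^ k = y ^ 1 := by
    rwa [pow_eq_pow_iff_modEq, hy, ← ZMod.natCast_eq_natCast_iff, Nat.cast_one]
  rw [pow_one, hk, mul_inv_eq_iff_eq_mul] at this
  exact this

theorem card_order_eq {G : Type*} [Group G] [Finite G] (n : ℕ) :
    Nat.card {g : G // orderOf g = n} =
      Nat.card {C : Subgroup G // ∃ g, orderOf g = n ∧ Subgroup.zpowers g = C} * Nat.totient n := by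
  refine Solv.card_eq_mul_of_fibres (fun g => ⟨Subgroup.zpowers g.1, g.1, g.2, rfl⟩) ?_
  rintro ⟨_, g, hg, rfl⟩
  classical
  haveI := Fintype.ofFinite (Subgroup.zpowers g)
  rw [← IsCyclic.card_orderOf_eq_totient (α := Subgroup.zpowers g) (d := n)
    (by rw [Fintype.card_eq_nat_card, Nat.card_zpowers, hg]), ← Fintype.card_subtype, ← Nat.card_eq_fintype_card]
  refine Nat.card_congr
    { toFun := fun t => ⟨⟨t.1.1, ?_⟩, ?_⟩
      invFun := fun u => ⟨⟨u.1, ?_⟩, ?_⟩
      left_inv := fun t => rfl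
      right_inv := fun u => rfl }
  · have h : Subgroup.zpowers t.1.1 = Subgroup.zpowers g := congrArg Subtype.val t.2
    exact h.le (Subgroup.mem_zpowers _)
  · rw [Subgroup.orderOf_mk]; exact t.1.2
  · rw [Subgroup.orderOf_coe]; exact u.2
  · exact Subtype.ext (Subgroup.eq_of_le_of_card_ge (Subgroup.zpowers_le.2 u.1.2)
      (by rw [Nat.card_zpowers, Nat.card_zpowers, hg, Subgroup.orderOf_coe, u.2]))

/-- Let G be a finite group, p an odd prime dividing the order of G whose Sylow p-subgroups are not cyclic, and n = p^s·m with s > 1 and m coprime to p. Then the number of elements of G of order n is a multiple of p^s. -/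
theorem result {G : Type*} [Group G] [Finite G] (p : ℕ) [Fact p.Prime] (hodd : p ≠ 2) (hpG : p ∣ Nat.card G)
    (P : Sylow p G) (hP : ¬ IsCyclic ↥(P : Subgroup G)) (s m : ℕ) (hs : 1 < s) (hm : Nat.Coprime p m) :
    p ^ s ∣ Nat.card {g : G // orderOf g = p ^ s * m} := by
  have hp : p.Prime := Fact.out
  have hm0 : m ≠ 0 := by
    rintro rfl
    exact hp.ne_one (Nat.coprime_zero_right p |>.1 hm)
  have hcop : (p ^ s).Coprime m := Nat.Coprime.pow_left s hm
  have htot : Nat.totient (p ^ s * m) = p ^ (s - 1) * (p - 1) * Nat.totient m := by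
    rw [Nat.totient_mul hcop, Nat.totient_prime_pow hp (by omega)]
  have hps : p ^ s = p ^ (s - 1) * p := by rw [← pow_succ, Nat.sub_add_cancel (by omega)]
  by_cases hφ : p ∣ Nat.totient m
  · refine dvd_trans ?_ (Solv.totient_dvd_card_of_order (d := p ^ s * m) {g : G | orderOf g = p ^ s * m}
      (fun g hg => dvd_of_eq (Eq.symm hg)) (fun g hg h hh => ?_))
    · obtain ⟨q, hq⟩ := hφ
      rw [htot, hq, hps]
      exact ⟨(p - 1) * q, by ring⟩
    · show orderOf h = p ^ s * m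
      rw [← Nat.card_zpowers, hh, Nat.card_zpowers]
      exact hg
  suffices h : p ∣ Nat.card {C : Subgroup G // ∃ g, orderOf g = p ^ s * m ∧ Subgroup.zpowers g = C} by
    obtain ⟨q, hq⟩ := h
    rw [card_order_eq, htot, hq]
    exact ⟨q * (p - 1) * Nat.totient m, by rw [hps]; ring⟩
  let S : Set (Subgroup G) := {C | ∃ g, orderOf g = p ^ s * m ∧ Subgroup.zpowers g = C}
  have hmod := Solv.card_subgroups_modEq_normalised (P : Subgroup G) P.isPGroup' S (by
    rintro _ ⟨c, hc, rfl⟩ u -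
    exact ⟨u * c * u⁻¹, (Solv.orderOf_conj' u c).trans hc, (Solv.conj_smul_zpowers u c).symm⟩)
  refine (Nat.ModEq.dvd_iff hmod dvd_rfl).2 ?_
  let SP : Set (Subgroup ↥(P : Subgroup G)) := {K | ∃ c, orderOf c = p ^ s ∧ Subgroup.zpowers c = K}
  have hKul : p ∣ Nat.card {K : Subgroup ↥(P : Subgroup G) // K ∈ SP ∧ ⊤ ≤ Subgroup.normalizer (K : Set ↥(P : Subgroup G))} := by
    refine (Nat.ModEq.dvd_iff (Solv.card_subgroups_modEq_normalised
      (⊤ : Subgroup ↥(P : Subgroup G)) (P.isPGroup'.to_subgroup _) SP ?_) dvd_rfl).1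
      (Solv.kulakoff hodd P.isPGroup' hP hs)
    rintro _ ⟨c, hc, rfl⟩ u -
    exact ⟨u * c * u⁻¹, (Solv.orderOf_conj' u c).trans hc, (Solv.conj_smul_zpowers u c).symm⟩
  let DS := {D : Subgroup G // ∃ y, orderOf y = m ∧ Subgroup.zpowers y = D ∧ ∀ u ∈ (P : Subgroup G), u * y = y * u}
  refine (Dvd.dvd.mul_left hKul (Nat.card DS)).trans (dvd_of_eq ?_)
  rw [← Nat.card_prod]
  -- the product of the two parts
  have hgen : ∀ (D : DS) (K : {K : Subgroup ↥(P : Subgroup G) // K ∈ SP ∧ ⊤ ≤ Subgroup.normalizer (K : Set ↥(P : Subgroup G))}),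
      ∃ (x : ↥(P : Subgroup G)) (y : G), orderOf x = p ^ s ∧ orderOf y = m ∧ Subgroup.zpowers x = K.1 ∧
        Subgroup.zpowers y = D.1 ∧ Commute (x : G) y ∧ orderOf ((x : G) * y) = p ^ s * m ∧
        D.1 ⊔ K.1.map (P : Subgroup G).subtype = Subgroup.zpowers ((x : G) * y) := by
    rintro ⟨_, y, hy, rfl, hyc⟩ ⟨_, ⟨x, hx, rfl⟩, -⟩
    have hxy : Commute (x : G) y := hyc x x.2
    have hxG : orderOf (x : G) = p ^ s := (Subgroup.orderOf_coe x).trans hx
    have hord : orderOf ((x : G) * y) = p ^ s * m := by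
      rw [hxy.orderOf_mul_eq_mul_orderOf_of_coprime (by rw [hxG, hy]; exact hcop), hxG, hy]
    refine ⟨x, y, hx, hy, rfl, rfl, hxy, hord, le_antisymm ?_ ?_⟩
    · rw [MonoidHom.map_zpowers, sup_le_iff]
      constructor
      · refine le_of_eq_of_le ?_ (Subgroup.zpowers_le.2 (Subgroup.pow_mem _ (Subgroup.mem_zpowers ((x : G) * y)) (p ^ s)))
        refine (Subgroup.eq_of_le_of_card_ge (Subgroup.zpowers_le.2 ?_) (le_of_eq ?_)).symm
        · rw [hxy.mul_pow, ← hxG, pow_orderOf_eq_one, one_mul]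
          exact Subgroup.pow_mem _ (Subgroup.mem_zpowers _) _
        · rw [Nat.card_zpowers, Nat.card_zpowers, orderOf_pow_of_dvd (pow_ne_zero _ hp.ne_zero) (hord ▸ dvd_mul_right _ _),
            hord, Nat.mul_div_cancel_left _ (pow_pos hp.pos _), hy]
      · refine le_of_eq_of_le ?_ (Subgroup.zpowers_le.2 (Subgroup.pow_mem _ (Subgroup.mem_zpowers ((x : G) * y)) m))
        refine (Subgroup.eq_of_le_of_card_ge (Subgroup.zpowers_le.2 ?_) (le_of_eq ?_)).symm
        · rw [hxy.mul_pow, ← hy, pow_orderOf_eq_one, mul_one]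
          exact Subgroup.pow_mem _ (Subgroup.mem_zpowers _) _
        · rw [Nat.card_zpowers, Nat.card_zpowers, orderOf_pow_of_dvd hm0 (hord ▸ dvd_mul_left _ _),
            hord, Nat.mul_div_cancel _ (Nat.pos_of_ne_zero hm0), Subgroup.subtype_apply, hxG]
    · exact Subgroup.zpowers_le.2 (Subgroup.mul_mem _
        (Subgroup.mem_sup_right ⟨x, Subgroup.mem_zpowers x, rfl⟩) (Subgroup.mem_sup_left (Subgroup.mem_zpowers y)))
  refine Nat.card_congr (Equiv.ofBijective (fun DK => ⟨DK.1.1 ⊔ DK.2.1.map (P : Subgroup G).subtype, ?_, ?_⟩) ⟨?_, ?_⟩)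
  · obtain ⟨x, y, -, -, -, -, -, hord, he⟩ := hgen DK.1 DK.2
    exact ⟨_, hord, he.symm⟩
  · intro u hu
    obtain ⟨⟨D, yy, -, hDy, hyc⟩, ⟨K, hKS, hKn⟩⟩ := DK
    have hK' : ∀ k ∈ K, u * (k : G) * u⁻¹ ∈ K.map (P : Subgroup G).subtype := fun k hk =>
      ⟨_, Solv.conj_mem_of_le_normalizer hKn (Subgroup.mem_top ⟨u, hu⟩) hk, rfl⟩
    refine Solv.mem_normalizer_of_conj_smul (Subgroup.eq_of_le_of_card_ge ?_ (le_of_eq (Solv.card_conj_smul u _).symm))
    rw [Solv.conj_smul_eq_map, Subgroup.map_sup, sup_le_iff]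
    constructor
    · subst hDy
      rw [MonoidHom.map_zpowers]
      refine le_trans (le_of_eq ?_) le_sup_left
      show Subgroup.zpowers (u * yy * u⁻¹) = _
      rw [hyc u hu, mul_inv_cancel_right]
    · rintro _ ⟨_, ⟨k, hk, rfl⟩, rfl⟩
      exact Subgroup.mem_sup_right (hK' k hk)
  · rintro ⟨D, K⟩ ⟨D', K'⟩ h
    have h' : D.1 ⊔ K.1.map (P : Subgroup G).subtype = D'.1 ⊔ K'.1.map (P : Subgroup G).subtype :=
      congrArg Subtype.val h
    obtain ⟨x, y, hx, hy, hxK, hyD, hxy, hord, he⟩ := hgen D K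
    obtain ⟨x', y', hx', hy', hxK', hyD', hxy', hord', he'⟩ := hgen D' K'
    rw [he] at h'
    rw [he'] at h'
    have hyC : ∀ {a b : G}, Commute a b → orderOf a = p ^ s → orderOf b = m →
        b ∈ Subgroup.zpowers (a * b) ∧ a ∈ Subgroup.zpowers (a * b) := by
      intro a b hab ha hb
      have hco : (orderOf b).Coprime (orderOf a) := by rw [ha, hb]; exact hcop.symm
      obtain ⟨i, hi⟩ := exists_pow_eq_self_of_coprime (x := b) (n := orderOf a) hco.symm
      have h1 : b ∈ Subgroup.zpowers (a * b) := by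
        have h2 : ((a * b) ^ orderOf a) ^ i = b := by rw [hab.mul_pow, pow_orderOf_eq_one, one_mul, hi]
        exact (congrArg (· ∈ Subgroup.zpowers (a * b)) h2).mp
          (Subgroup.pow_mem _ (Subgroup.pow_mem _ (Subgroup.mem_zpowers _) _) _)
      exact ⟨h1, by simpa using Subgroup.mul_mem _ (Subgroup.mem_zpowers (a * b)) (Subgroup.inv_mem _ h1)⟩
    have hxG : orderOf (x : G) = p ^ s := (Subgroup.orderOf_coe x).trans hx
    have hxG' : orderOf (x' : G) = p ^ s := (Subgroup.orderOf_coe x').trans hx'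
    obtain ⟨hb, ha⟩ := hyC hxy hxG hy
    obtain ⟨hb', ha'⟩ := hyC hxy' hxG' hy'
    rw [← h'] at hb' ha'
    have e1 : D.1 = D'.1 := by
      rw [← hyD, ← hyD', zpowers_eq_of_mem (hord.trans (mul_comm _ _)) (pow_ne_zero _ hp.ne_zero) hb hy,
        zpowers_eq_of_mem (hord.trans (mul_comm _ _)) (pow_ne_zero _ hp.ne_zero) hb' hy']
    have e2 : K.1.map (P : Subgroup G).subtype = K'.1.map (P : Subgroup G).subtype := by
      rw [← hxK, ← hxK', MonoidHom.map_zpowers, MonoidHom.map_zpowers, Subgroup.subtype_apply, Subgroup.subtype_apply,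
        zpowers_eq_of_mem hord hm0 ha hxG, zpowers_eq_of_mem hord hm0 ha' hxG']
    exact Prod.ext (Subtype.ext e1) (Subtype.ext (Subgroup.map_injective (P : Subgroup G).subtype_injective e2))
  · rintro ⟨_, ⟨g, hg, rfl⟩, hPC⟩
    have hxo : orderOf (g ^ m) = p ^ s := by
      rw [orderOf_pow_of_dvd hm0 (hg ▸ dvd_mul_left _ _), hg, Nat.mul_div_cancel _ (Nat.pos_of_ne_zero hm0)]
    have hyo : orderOf (g ^ p ^ s) = m := by
      rw [orderOf_pow_of_dvd (pow_ne_zero _ hp.ne_zero) (hg ▸ dvd_mul_right _ _), hg,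
        Nat.mul_div_cancel_left _ (pow_pos hp.pos _)]
    have hconj : ∀ (k : ℕ), ∀ u ∈ (P : Subgroup G), u * g ^ k * u⁻¹ ∈ Subgroup.zpowers (g ^ k) := by
      intro k u hu
      obtain ⟨i, hi⟩ := Solv.conj_mem_of_le_normalizer hPC hu (Subgroup.mem_zpowers g)
      refine ⟨i, ?_⟩
      simp only at hi ⊢
      rw [← conj_pow, ← hi, ← zpow_natCast, ← zpow_mul, mul_comm, zpow_mul, zpow_natCast]
    have hxn : (P : Subgroup G) ≤ Subgroup.normalizer (Subgroup.zpowers (g ^ m) : Set G) := fun u hu =>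
      Solv.mem_normalizer_of_conj_smul (Subgroup.eq_of_le_of_card_ge
        (by rw [Solv.conj_smul_zpowers, Subgroup.zpowers_le]; exact hconj m u hu)
        (le_of_eq (Solv.card_conj_smul u _).symm))
    have hxP : g ^ m ∈ (P : Subgroup G) := by
      have hxpg : IsPGroup p (Subgroup.zpowers (g ^ m)) := IsPGroup.of_card (n := s) (by rw [Nat.card_zpowers, hxo])
      have hsup := IsPGroup.to_sup_of_normal_right' P.isPGroup' hxpg hxn
      rw [← P.is_maximal' hsup le_sup_left]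
      exact Subgroup.mem_sup_right (Subgroup.mem_zpowers _)
    have hyc : ∀ u ∈ (P : Subgroup G), u * g ^ p ^ s = g ^ p ^ s * u := fun u hu => by
      refine centralised ?_ hyo hφ (hconj (p ^ s) u hu)
      obtain ⟨j, hj⟩ := IsPGroup.iff_orderOf.1 P.isPGroup' ⟨u, hu⟩
      exact ⟨j, by rw [← Subgroup.orderOf_coe] at hj; exact hj⟩
    let D : DS := ⟨Subgroup.zpowers (g ^ p ^ s), _, hyo, rfl, hyc⟩
    let K : {K : Subgroup ↥(P : Subgroup G) // K ∈ SP ∧ ⊤ ≤ Subgroup.normalizer (K : Set ↥(P : Subgroup G))} :=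
      ⟨Subgroup.zpowers ⟨g ^ m, hxP⟩, ⟨⟨g ^ m, hxP⟩, by rw [Subgroup.orderOf_mk]; exact hxo, rfl⟩, fun u _ =>
        Solv.mem_normalizer_of_conj_smul (Subgroup.eq_of_le_of_card_ge
          (by
            rw [Solv.conj_smul_zpowers, Subgroup.zpowers_le]
            obtain ⟨i, hi⟩ := hconj m u u.2
            exact ⟨i, Subtype.ext hi⟩)
          (le_of_eq (Solv.card_conj_smul u _).symm))⟩
    refine ⟨(D, K), Subtype.ext ?_⟩
    show Subgroup.zpowers (g ^ p ^ s) ⊔ (Subgroup.zpowers (⟨g ^ m, hxP⟩ : ↥(P : Subgroup G))).map (P : Subgroup G).subtype =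
      Subgroup.zpowers g
    rw [MonoidHom.map_zpowers, Subgroup.subtype_apply]
    refine le_antisymm (sup_le (Subgroup.zpowers_le.2 (Subgroup.pow_mem _ (Subgroup.mem_zpowers g) _))
      (Subgroup.zpowers_le.2 (Subgroup.pow_mem _ (Subgroup.mem_zpowers g) _))) (Subgroup.zpowers_le.2 ?_)
    have hco : IsCoprime ((p ^ s : ℕ) : ℤ) (m : ℤ) := Nat.isCoprime_iff_coprime.2 hcop
    obtain ⟨a, b, hab⟩ := hco
    have : g = (g ^ p ^ s) ^ a * (g ^ m) ^ b := by
      rw [← zpow_natCast g (p ^ s), ← zpow_natCast g m, ← zpow_mul, ← zpow_mul, ← zpow_add, mul_comm _ a,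
        mul_comm _ b, hab, zpow_one]
    refine (congrArg (· ∈ Subgroup.zpowers (g ^ p ^ s) ⊔ Subgroup.zpowers (g ^ m)) this).mpr ?_
    exact Subgroup.mul_mem _ (Subgroup.zpow_mem _ (Subgroup.mem_sup_left (Subgroup.mem_zpowers _)) _)
      (Subgroup.zpow_mem _ (Subgroup.mem_sup_right (Subgroup.mem_zpowers _)) _)

end Cfsg.Agent.S4003
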