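import Cfsg.Statements.S4004
import Cfsg.Agent.Lib.Solv.CountThree
import Cfsg.Agent.Lib.Solv.CountFrob
-- import your own Cfsg.Agent.* helpers here

set_option autoImplicit false
open Cfsg

namespace Cfsg.Agent.S4004

/-- Let G be a finite group of odd order in which the numbers of elements of each order that occurs (the numbers #{g : o(g) = m}, m ranging over the element orders of G) take exactly three different values. Then the order of G has at most two prime divisors; and if it has exactly two, then every Sylow subgroup of G for a prime dividing its order has prime exponent, G is a Frobenius group, and some Frobenius complement of G has prime order. -/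
theorem result {G : Type*} [Group G] [Finite G] (hodd : Odd (Nat.card G)) (h : (((fun m : ℕ => Nat.card {g : G // orderOf g = m}) '' Set.range (orderOf : G → ℕ))).ncard = 3) :
    (Nat.card G).primeFactors.card ≤ 2 ∧
      ((Nat.card G).primeFactors.card = 2 →
        (∀ (p : ℕ) [Fact p.Prime] (P : Sylow p G), p ∣ Nat.card G → Monoid.exponent ↥(P : Subgroup G) = p) ∧
        ∃ C : Subgroup G, Cfsg.IsFrobeniusComplement C ∧ (Nat.card ↥C).Prime) := by
  classical
  have hV : Cfsg.Agent.Solv.CV.TwoVal G := Cfsg.Agent.Solv.CV.twoVal_of_three h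
  have hne2 : ∀ p : ℕ, p ∣ Nat.card G → p ≠ 2 := fun p hp e => by
    subst e
    exact Nat.not_even_iff_odd.2 hodd (even_iff_two_dvd.2 hp)
  have hdiff : ∀ p q : ℕ, p.Prime → q.Prime → p ≠ q → p ∣ Nat.card G → q ∣ Nat.card G →
      Cfsg.Agent.Solv.CV.cnt G p ≠ Cfsg.Agent.Solv.CV.cnt G q := by
    intro p q hp hq hne hpG hqG he
    haveI := Fact.mk hp
    haveI := Fact.mk hq
    have hd := Cfsg.Agent.Solv.CV.same_card_dvd (hne2 p hpG) (hne2 q hqG) hne hpG hqG hV he (fun k hk => by
      rcases Nat.eq_zero_or_pos k with rfl | hk0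
      · omega
      · exact absurd rfl (hne2 2 ((dvd_pow_self 2 hk0.ne').trans hk)))
    have hle : Nat.card G ≤ 1 + Cfsg.Agent.Solv.CV.cnt G p := by
      refine Nat.le_of_dvd (by omega) ((Nat.Coprime.dvd_mul_left ?_).1 hd)
      exact (Nat.coprime_two_right.2 hodd)
    have hs := Cfsg.Agent.Solv.CV.sum_cnt_le (G := G) {1, p, q}
    rw [Finset.sum_insert (by simp [hp.ne_one.symm, hq.ne_one.symm]), Finset.sum_insert (by simp [hne]),
      Finset.sum_singleton, Cfsg.Agent.Solv.CV.cnt_one, ← he] at hs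
    have := Cfsg.Agent.Solv.CV.cnt_prime_ne_zero (G := G) hpG
    omega
  have hmem : ∀ {p : ℕ}, p ∈ (Nat.card G).primeFactors → p.Prime ∧ p ∣ Nat.card G := fun {p} hp =>
    ⟨Nat.prime_of_mem_primeFactors hp, Nat.dvd_of_mem_primeFactors hp⟩
  constructor
  · by_contra hc
    obtain ⟨p, hp, q, hq, hpq⟩ := Finset.one_lt_card.1 (show 1 < (Nat.card G).primeFactors.card by omega)
    haveI := Fact.mk (hmem hp).1
    haveI := Fact.mk (hmem hq).1
    have hsub : (Nat.card G).primeFactors ⊆ {p, q} := by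
      intro r hr
      haveI := Fact.mk (hmem hr).1
      have := Cfsg.Agent.Solv.CV.prime_or_of_two (hne2 p (hmem hp).2) (hne2 q (hmem hq).2) (hmem hp).2
        (hmem hq).2 hV (hdiff p q (hmem hp).1 (hmem hq).1 hpq (hmem hp).2 (hmem hq).2)
        (hne2 r (hmem hr).2) (hmem hr).2
      simpa using this
    exact hc ((Finset.card_le_card hsub).trans Finset.card_le_two)
  intro h2
  obtain ⟨p, q, hpq, hpf⟩ := Finset.card_eq_two.1 h2
  obtain ⟨hp, hpG⟩ := hmem (p := p) (by rw [hpf]; simp)
  obtain ⟨hq, hqG⟩ := hmem (p := q) (by rw [hpf]; simp)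
  haveI := Fact.mk hp
  haveI := Fact.mk hq
  have hne := hdiff p q hp hq hpq hpG hqG
  obtain ⟨h0, -⟩ := Cfsg.Agent.Solv.CV.mixed (hne2 p hpG) (hne2 q hqG) hpG hqG hV hne
  have hsp := Cfsg.Agent.Solv.CV.mixed_sq (hne2 p hpG) (hne2 q hqG) hpG hqG hV hne
  have hsq := Cfsg.Agent.Solv.CV.mixed_sq (hne2 q hqG) (hne2 p hpG) hqG hpG hV hne.symm
  have hall : ∀ g : G, g ≠ 1 → orderOf g = p ∨ orderOf g = q := by
    intro g hg
    have hsupp : ∀ r : ℕ, r.Prime → r ∣ orderOf g → r = p ∨ r = q := fun r hr hrd => by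
      have : r ∈ (Nat.card G).primeFactors :=
        Nat.mem_primeFactors.2 ⟨hr, hrd.trans (orderOf_dvd_natCard g), Nat.card_pos.ne'⟩
      simpa [hpf] using this
    have hdiv : ∀ d : ℕ, d ∣ orderOf g → ∃ x : G, orderOf x = d := fun d hd =>
      ⟨g ^ (orderOf g / d), orderOf_pow_orderOf_div (orderOf_pos g).ne' hd⟩
    have hn1 : orderOf g ≠ 1 := fun e => hg (orderOf_eq_one_iff.1 e)
    have hkill : ∀ d : ℕ, Cfsg.Agent.Solv.CV.cnt G d = 0 → ¬ d ∣ orderOf g := fun d hd hdd =>
      Cfsg.Agent.Solv.CV.cnt_ne_zero.2 (hdiv d hdd) hd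
    obtain ⟨r, hr, hrd⟩ := Nat.exists_prime_and_dvd hn1
    obtain ⟨m, hm⟩ := hrd
    suffices m = 1 by
      subst this
      rw [mul_one] at hm
      rw [hm]
      exact hsupp r hr (hm ▸ dvd_rfl)
    by_contra hm1
    obtain ⟨r', hr', hr'm⟩ := Nat.exists_prime_and_dvd hm1
    have hrr : r * r' ∣ orderOf g := hm ▸ mul_dvd_mul_left r hr'm
    rcases hsupp r hr ((dvd_mul_right r r').trans hrr) with rfl | rfl <;>
      rcases hsupp r' hr' ((dvd_mul_left r' _).trans hrr) with rfl | rfl
    · exact hkill _ hsp (by rw [sq]; exact hrr)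
    · exact hkill _ h0 hrr
    · exact hkill _ h0 (by rw [mul_comm]; exact hrr)
    · exact hkill _ hsq (by rw [sq]; exact hrr)
  refine ⟨fun r hr P hrG => ?_, Cfsg.Agent.Solv.CV.exists_prime_frobenius_complement hp hq hpq hpG hqG hall⟩
  have hrr : r.Prime := hr.out
  refine Nat.dvd_antisymm (Monoid.exponent_dvd_of_forall_pow_eq_one fun x => ?_) ?_
  · by_cases hx : x = 1
    · rw [hx, one_pow]
    obtain ⟨k, hk⟩ := IsPGroup.iff_orderOf.1 P.2 x
    have hxo : orderOf x = r := by
      have key : ∀ a : ℕ, a.Prime → orderOf (x : G) = a → orderOf x = r := by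
        intro a ha e
        rw [Subgroup.orderOf_coe] at e
        have h3 : a ∣ r ^ k := by rw [← hk, e]
        exact e.trans ((Nat.prime_dvd_prime_iff_eq ha hrr).1 (ha.dvd_of_dvd_pow h3))
      rcases hall (x : G) (fun e => hx (Subtype.ext e)) with e | e
      · exact key p hp e
      · exact key q hq e
    exact (congrArg (x ^ ·) hxo).symm.trans (pow_orderOf_eq_one x)
  · obtain ⟨x, hx⟩ := exists_prime_orderOf_dvd_card' (G := (P : Subgroup G)) r (P.dvd_card_of_dvd_card hrG)
    exact (dvd_of_eq hx.symm).trans (Monoid.order_dvd_exponent x)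

end Cfsg.Agent.S4004
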