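import Cfsg.Statements.S4005
import Cfsg.Agent.Lib.Char.Burnside
import Cfsg.Agent.Lib.Perm.MinNormal
import Cfsg.Agent.Lib.Solv.FPF
import Cfsg.Agent.Lib.Solv.Cores
import Cfsg.Agent.Lib.Fusion.NPC

set_option autoImplicit false
set_option linter.style.haveILetI false
open Cfsg

open scoped Pointwise commutatorElement

namespace Cfsg.Agent.S4005

/-- A finite group whose set of element orders is exactly {1, 2, 3} has either a normal elementary abelian 3-subgroup of index 2 or a normal elementary abelian 2-subgroup of index 3. -/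
theorem result {G : Type*} [Group G] [Finite G] (h : Set.range (orderOf : G → ℕ) = {k : ℕ | 1 ≤ k ∧ k ≤ 3}) :
    (∃ N : Subgroup G, N.Normal ∧ Cfsg.IsElementaryAbelian 3 N ∧ N.index = 2) ∨
      (∃ N : Subgroup G, N.Normal ∧ Cfsg.IsElementaryAbelian 2 N ∧ N.index = 3) := by
  have hord : ∀ x : G, orderOf x = 1 ∨ orderOf x = 2 ∨ orderOf x = 3 := fun x => by
    have hx : orderOf x ∈ Set.range (orderOf : G → ℕ) := ⟨x, rfl⟩
    rw [h] at hx
    obtain ⟨h1, h2⟩ : 1 ≤ orderOf x ∧ orderOf x ≤ 3 := hx
    omega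
  obtain ⟨a₂, ha₂⟩ : ∃ x : G, orderOf x = 2 := by
    have : 2 ∈ Set.range (orderOf : G → ℕ) := by rw [h]; exact ⟨by omega, by omega⟩
    exact this
  obtain ⟨a₃, ha₃⟩ : ∃ x : G, orderOf x = 3 := by
    have : 3 ∈ Set.range (orderOf : G → ℕ) := by rw [h]; exact ⟨by omega, le_rfl⟩
    exact this
  have hnc : ∀ a b : G, orderOf a = 2 → orderOf b = 3 → a * b ≠ b * a := fun a b ha hb hab => by
    have := hord (a * b)
    rw [(show Commute a b from hab).orderOf_mul_eq_mul_orderOf_of_coprime
      (by rw [ha, hb]; norm_num), ha, hb] at this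
    omega
  have hpr : ∀ r : ℕ, r.Prime → r ∣ Nat.card G → r = 2 ∨ r = 3 := fun r hr hd => by
    haveI := Fact.mk hr
    obtain ⟨x, hx⟩ := exists_prime_orderOf_dvd_card' r hd
    have := hr.two_le
    rcases hord x with h1 | h1 | h1 <;> omega
  have hsol : Group.IsSolvable G :=
    Char.isSolvable_of_two_primes Nat.prime_two Nat.prime_three _ rfl hpr
  haveI : Nontrivial G := ⟨a₂, 1, fun e => by rw [e, orderOf_one] at ha₂; omega⟩
  obtain ⟨V, hV⟩ := Perm.exists_isMinNormal (G := G)
  haveI := hV.1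
  have hVc := hV.isMulCommutative inferInstance
  obtain ⟨q, hq, hVpow, hVp, k, hk0, hVk⟩ := hV.exists_prime hVc
  haveI := Fact.mk hq
  haveI := Fact.mk Nat.prime_two
  haveI := Fact.mk Nat.prime_three
  have hq23 := hpr q hq ((hVk ▸ dvd_pow_self q hk0.ne').trans (Subgroup.card_subgroup_dvd_card _))
  obtain ⟨P⟩ : Nonempty (Sylow 2 G) := inferInstance
  have hP2 : ∀ x ∈ (P : Subgroup G), x ^ 2 = 1 := fun x hx => by
    obtain ⟨j, hj⟩ := (IsPGroup.iff_orderOf.1 P.isPGroup') ⟨x, hx⟩
    rw [← Subgroup.orderOf_coe] at hj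
    change orderOf x = 2 ^ j at hj
    rcases hord x with h1 | h1 | h1
    · rw [orderOf_eq_one_iff.1 h1, one_pow]
    · rw [← h1, pow_orderOf_eq_one]
    · exfalso
      rcases Nat.eq_zero_or_pos j with rfl | h2
      · omega
      · have : 2 ∣ 2 ^ j := dvd_pow_self 2 h2.ne'
        omega
  have hPc : ∀ x ∈ (P : Subgroup G), ∀ y ∈ (P : Subgroup G), x * y = y * x := fun x hx y hy => by
    have hi : ∀ w ∈ (P : Subgroup G), w⁻¹ = w := fun w hw => inv_eq_of_mul_eq_one_right (by
      rw [← sq]; exact hP2 w hw)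
    calc x * y = (x * y)⁻¹ := (hi _ (mul_mem hx hy)).symm
      _ = y * x := by rw [mul_inv_rev, hi x hx, hi y hy]
  rcases hq23 with rfl | rfl
  · -- the minimal normal subgroup is a `2`-group
    right
    obtain ⟨N, hN⟩ : ∃ N, N = Cfsg.pCore 2 G := ⟨_, rfl⟩
    haveI : N.Normal := hN ▸ Solv.pCore_normal 2
    have hNp : IsPGroup 2 N := hN ▸ Solv.pCore_isPGroup 2
    have hVN : V ≤ N := hN ▸ Solv.normal_le_pCore hVp
    have hNP : N ≤ P := by
      obtain ⟨Q, hQ⟩ := hNp.exists_le_sylow
      obtain ⟨g, rfl⟩ := MulAction.exists_smul_eq G Q P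
      intro x hx
      rw [Sylow.coe_subgroup_smul]
      exact Solv.mem_conj_smul.2 (hQ (by
        simpa using (inferInstance : N.Normal).conj_mem x hx g⁻¹))
    haveI hNc : IsMulCommutative N := ⟨⟨fun a b => Subtype.ext (hPc _ (hNP a.2) _ (hNP b.2))⟩⟩
    obtain ⟨v, hvN, hv⟩ : ∃ v ∈ N, orderOf v = 2 := by
      obtain ⟨⟨v, hv⟩, hvo⟩ := exists_prime_orderOf_dvd_card' (G := V) 2
        (hVk ▸ dvd_pow_self 2 hk0.ne')
      exact ⟨v, hVN hv, by rw [← hvo, ← Subgroup.orderOf_coe]⟩
    have hCN : Subgroup.centralizer (N : Set G) ≤ N := by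
      rw [hN]
      refine Solv.normal_le_pCore (N := Subgroup.centralizer (Cfsg.pCore 2 G : Set G)) ?_
      rw [← hN]
      intro x
      rcases hord (x : G) with h1 | h1 | h1
      · exact ⟨0, by rw [pow_zero, pow_one]; exact Subtype.ext (orderOf_eq_one_iff.1 h1)⟩
      · exact ⟨1, Subtype.ext (by rw [pow_one, Subgroup.coe_pow, ← h1, pow_orderOf_eq_one]; rfl)⟩
      · exact absurd (Subgroup.mem_centralizer_iff.1 x.2 v hvN) (hnc v x hv h1)
    have hPN : (P : Subgroup G) = N := le_antisymm (fun x hx => hCN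
      (Subgroup.mem_centralizer_iff.2 fun y hy => hPc y (hNP hy) x hx)) hNP
    refine ⟨N, inferInstance, ⟨hNc, fun a ha => hP2 a (hNP ha)⟩, ?_⟩
    obtain ⟨Q⟩ : Nonempty (Sylow 3 G) := inferInstance
    have hQ3 : Nat.card Q = 3 := by
      haveI : Nontrivial (Q : Subgroup G) := (Subgroup.nontrivial_iff_ne_bot _).2
        (Q.ne_bot_of_dvd_card (ha₃ ▸ orderOf_dvd_natCard a₃))
      haveI := Q.isPGroup'.center_nontrivial
      obtain ⟨⟨⟨c, hcQ⟩, hcz⟩, hc1⟩ := exists_ne (1 : Subgroup.center (Q : Subgroup G))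
      have h3 : ∀ x ∈ (Q : Subgroup G), x ≠ 1 → orderOf x = 3 := fun x hx hx1 => by
        obtain ⟨j, hj⟩ := (IsPGroup.iff_orderOf.1 Q.isPGroup') ⟨x, hx⟩
        rw [← Subgroup.orderOf_coe] at hj
        change orderOf x = 3 ^ j at hj
        rcases hord x with h1 | h1 | h1
        · exact absurd (orderOf_eq_one_iff.1 h1) hx1
        · rcases Nat.eq_zero_or_pos j with rfl | h2
          · omega
          · have : 3 ∣ 3 ^ j := dvd_pow_self 3 h2.ne'
            omega
        · exact h1
      have hc3 : orderOf c = 3 := h3 c hcQ fun e => hc1 (Subtype.ext (Subtype.ext (by exact e)))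
      suffices hQ : (Q : Subgroup G) = Subgroup.zpowers c by
        show Nat.card (Q : Subgroup G) = 3
        rw [hQ, Nat.card_zpowers, hc3]
      refine le_antisymm (fun x hx => ?_) (Subgroup.zpowers_le.2 hcQ)
      by_contra hxc
      -- a fixed-point-free elementary abelian group of order `9`
      have hcx : Commute c x := (congrArg Subtype.val (Subgroup.mem_center_iff.1 hcz ⟨x, hx⟩)).symm
      have hx1 : x ≠ 1 := fun e => hxc (e ▸ one_mem _)
      obtain ⟨A, hA⟩ : ∃ A, A = Subgroup.zpowers c ⊔ Subgroup.zpowers x := ⟨_, rfl⟩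
      have hAQ : A ≤ Q := hA ▸ sup_le (Subgroup.zpowers_le.2 hcQ) (Subgroup.zpowers_le.2 hx)
      obtain ⟨K, hK⟩ : ∃ K : Option (Fin 3) → Subgroup G, ∀ i, K i =
          Subgroup.zpowers (i.elim c fun j => c ^ (j : ℕ) * x) := ⟨_, fun _ => rfl⟩
      have hcx' : Subgroup.zpowers x ≤ Subgroup.normalizer (Subgroup.zpowers c : Set G) := by
        rw [Subgroup.zpowers_le]
        refine Subgroup.mem_normalizer_iff.2 fun w => ⟨fun hw => ?_, fun hw => ?_⟩
        · obtain ⟨i, rfl⟩ := hw
          rw [← (hcx.zpow_left i).eq, mul_inv_cancel_right]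
          exact ⟨i, rfl⟩
        · obtain ⟨i, hi⟩ := hw
          refine ⟨i, ?_⟩
          rw [show w = x⁻¹ * (x * w * x⁻¹) * x by group, ← show c ^ i = x * w * x⁻¹ from hi,
            mul_assoc, (hcx.zpow_left i).eq, inv_mul_cancel_left]
      have hmem : ∀ a ∈ A, ∃ i j : ℕ, a = c ^ i * x ^ j ∧ i < 3 ∧ j < 3 := fun a ha => by
        replace ha : a ∈ ((Subgroup.zpowers c ⊔ Subgroup.zpowers x : Subgroup G) : Set G) := hA ▸ ha
        rw [Subgroup.coe_mul_of_right_le_normalizer_left _ _ hcx'] at ha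
        obtain ⟨u, hu, w, hw, rfl⟩ := ha
        obtain ⟨i, hi⟩ := (IsOfFinOrder.mem_powers_iff_mem_zpowers (isOfFinOrder_of_finite c)).2 hu
        obtain ⟨j, hj⟩ := (IsOfFinOrder.mem_powers_iff_mem_zpowers (isOfFinOrder_of_finite x)).2 hw
        refine ⟨i % 3, j % 3, ?_, Nat.mod_lt _ (by norm_num), Nat.mod_lt _ (by norm_num)⟩
        show u * w = _
        rw [← hi, ← hj]
        have e1 := pow_mod_orderOf c i; rw [hc3] at e1
        have e2 := pow_mod_orderOf x j; rw [h3 x hx hx1] at e2
        rw [e1, e2]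
      refine Solv.fpf_partition_false (A := A) (V := N) (fun hb => ?_)
        (fun a _ => by rw [Subgroup.normalizer_eq_top_iff.2 inferInstance]; trivial) ?_ K (fun i => ?_)
        (fun i => ?_) ?_ ?_ 3 (by simp) ?_
      · rw [hb, Subgroup.mem_bot] at hvN
        rw [hvN, orderOf_one] at hv; omega
      · intro a ha ha1
        refine eq_bot_iff.2 fun w hw => ?_
        rw [Subgroup.mem_bot]
        by_contra hw1
        have hw2 : orderOf w = 2 := orderOf_eq_prime (hP2 w (hNP hw.1)) hw1
        exact hnc w a hw2 (h3 a (hAQ ha) ha1)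
          (Subgroup.mem_centralizer_singleton_iff.1 hw.2)
      · rw [hK]
        refine Subgroup.zpowers_le.2 ?_
        rcases i with _ | j
        · exact hA ▸ Subgroup.mem_sup_left (Subgroup.mem_zpowers c)
        · exact hA ▸ Subgroup.mul_mem_sup (pow_mem (Subgroup.mem_zpowers c) _) (Subgroup.mem_zpowers x)
      · rw [hK, Ne, Subgroup.zpowers_eq_bot]
        rcases i with _ | j
        · exact fun e => hc1 (Subtype.ext (Subtype.ext (by exact e)))
        · intro e
          have e' : x = (c ^ (j : ℕ))⁻¹ := eq_inv_of_mul_eq_one_right e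
          exact hxc (e' ▸ inv_mem (pow_mem (Subgroup.mem_zpowers c) _))
      · -- each nontrivial element lies in exactly one of the four cyclic subgroups
        intro a ha ha1
        have hex : ∃ i, a ∈ K i := by
          obtain ⟨i, j, rfl, hi, hj⟩ := hmem a ha
          rcases Nat.eq_zero_or_pos j with rfl | hj0
          · exact ⟨none, by rw [hK, pow_zero, mul_one]; exact pow_mem (Subgroup.mem_zpowers c) _⟩
          refine ⟨some ⟨(i * j) % 3, Nat.mod_lt _ (by norm_num)⟩, ?_⟩
          rw [hK]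
          refine ⟨(j : ℤ), ?_⟩
          show (c ^ (i * j % 3) * x) ^ (j : ℤ) = _
          rw [zpow_natCast, ((hcx.pow_left _)).mul_pow, ← pow_mul]
          congr 1
          refine pow_eq_pow_iff_modEq.2 ?_
          rw [hc3]
          interval_cases j <;> interval_cases i <;> decide
        obtain ⟨i, hi⟩ := hex
        refine ⟨i, hi, fun i' hi' => ?_⟩
        have hgen : ∀ l, a ∈ K l → K l = Subgroup.zpowers a := by
          intro l hl
          rw [hK] at hl ⊢
          refine (Subgroup.eq_of_le_of_card_ge (Subgroup.zpowers_le.2 hl) ?_).symm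
          rw [Nat.card_zpowers, Nat.card_zpowers, h3 a (hAQ ha) ha1]
          refine Nat.le_of_dvd (by norm_num) (orderOf_dvd_of_pow_eq_one ?_)
          have hg : (l.elim c fun j => c ^ (j : ℕ) * x) ∈ A := by
            rcases l with _ | j
            · exact hA ▸ Subgroup.mem_sup_left (Subgroup.mem_zpowers c)
            · exact hA ▸ Subgroup.mul_mem_sup (pow_mem (Subgroup.mem_zpowers c) _)
                (Subgroup.mem_zpowers x)
          by_cases e : (l.elim c fun j => c ^ (j : ℕ) * x) = 1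
          · rw [e, one_pow]
          · exact orderOf_dvd_iff_pow_eq_one.1 (h3 _ (hAQ hg) e).dvd
        have heq : K i' = K i := (hgen i' hi').trans (hgen i hi).symm
        rw [hK, hK] at heq
        rcases i' with _ | j' <;> rcases i with _ | j
        · rfl
        · exfalso
          refine hxc ?_
          have hm : c ^ (j : ℕ) * x ∈ Subgroup.zpowers c :=
            (heq.symm ▸ Subgroup.mem_zpowers (c ^ (j : ℕ) * x) : c ^ (j : ℕ) * x ∈ Subgroup.zpowers c)
          simpa using mul_mem (inv_mem (pow_mem (Subgroup.mem_zpowers c) (j : ℕ))) hm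
        · exfalso
          refine hxc ?_
          have hm : c ^ (j' : ℕ) * x ∈ Subgroup.zpowers c :=
            (heq ▸ Subgroup.mem_zpowers (c ^ (j' : ℕ) * x) : c ^ (j' : ℕ) * x ∈ Subgroup.zpowers c)
          simpa using mul_mem (inv_mem (pow_mem (Subgroup.mem_zpowers c) (j' : ℕ))) hm
        · -- the difference of two generators is a power of `c`
          have hsub : ∀ l : Fin 3, c ^ (l : ℕ) * x ∈ Subgroup.zpowers (c ^ (j : ℕ) * x) →
              l = j := by
            intro l hl
            by_contra hlj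
            refine hxc ?_
            have hd : c ^ (l : ℕ) * (c ^ (j : ℕ))⁻¹ ∈ Subgroup.zpowers (c ^ (j : ℕ) * x) := by
              have := mul_mem hl (inv_mem (Subgroup.mem_zpowers (c ^ (j : ℕ) * x)))
              simpa [mul_assoc] using this
            have hne : c ^ (l : ℕ) * (c ^ (j : ℕ))⁻¹ ≠ 1 := fun e => hlj (Fin.ext (by
              have h5 := pow_eq_pow_iff_modEq.1 (mul_inv_eq_one.1 e)
              rw [hc3] at h5
              exact Nat.ModEq.eq_of_lt_of_lt h5 l.2 j.2))
            have hdc : c ^ (l : ℕ) * (c ^ (j : ℕ))⁻¹ ∈ Subgroup.zpowers c :=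
              mul_mem (pow_mem (Subgroup.mem_zpowers c) _) (inv_mem (pow_mem (Subgroup.mem_zpowers c) _))
            have h6 : Subgroup.zpowers (c ^ (j : ℕ) * x) ≤ Subgroup.zpowers c := by
              refine le_of_eq_of_le ?_ (Subgroup.zpowers_le.2 hdc)
              refine (Subgroup.eq_of_le_of_card_ge (Subgroup.zpowers_le.2 hd) ?_).symm
              rw [Nat.card_zpowers, Nat.card_zpowers, h3 _ ((mul_mem (pow_mem hcQ _)
                (inv_mem (pow_mem hcQ _)))) hne]
              refine Nat.le_of_dvd (by norm_num) (orderOf_dvd_of_pow_eq_one ?_)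
              by_cases e : c ^ (j : ℕ) * x = 1
              · rw [e, one_pow]
              · exact orderOf_dvd_iff_pow_eq_one.1 (h3 _ (mul_mem (pow_mem hcQ _) hx) e).dvd
            simpa using mul_mem (inv_mem (pow_mem (Subgroup.mem_zpowers c) (j : ℕ)))
              (h6 (Subgroup.mem_zpowers _))
          exact congrArg some (hsub j' (heq ▸ Subgroup.mem_zpowers (c ^ (j' : ℕ) * x)))
      · exact fun e => hx1 (by
          have : x ∈ A := hA ▸ Subgroup.mem_sup_right (Subgroup.mem_zpowers x)
          rwa [e, Subgroup.mem_bot] at this)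
      · intro r hr hr3
        obtain rfl := (Nat.prime_dvd_prime_iff_eq hr Nat.prime_three).1 hr3
        rw [← hc3, ← Nat.card_zpowers]
        exact Subgroup.card_dvd_of_le (hA ▸ le_sup_left)
    have hidx : N.index ∣ 3 := by
      have h1 : ∀ r : ℕ, r.Prime → r ∣ N.index → r = 3 := fun r hr hd => by
        rcases hpr r hr (hd.trans N.index_dvd_card) with rfl | rfl
        · exact absurd (hPN ▸ hd) P.not_dvd_index
        · rfl
      have h2 : N.index ∣ Nat.card Q := by
        have hd : N.index ∣ Q.toSubgroup.index * Nat.card Q := by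
          rw [mul_comm, Subgroup.card_mul_index]; exact N.index_dvd_card
        refine Nat.Coprime.dvd_of_dvd_mul_left ?_ hd
        refine Nat.coprime_of_dvd fun r hr hr1 hr2 => ?_
        rw [h1 r hr hr1] at hr2
        exact Q.not_dvd_index hr2
      rwa [hQ3] at h2
    refine ((Nat.dvd_prime Nat.prime_three).1 hidx).resolve_left fun h1 => ?_
    rw [Subgroup.index_eq_one] at h1
    have := orderOf_dvd_of_pow_eq_one (hP2 a₃ (hPN.symm ▸ h1.symm ▸ Subgroup.mem_top a₃))
    rw [ha₃] at this
    omega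
  · -- the minimal normal subgroup is a `3`-group
    left
    have hinv : ∀ t : G, orderOf t = 2 → ∀ v ∈ V, t * v * t⁻¹ = v⁻¹ := by
      intro t ht v hv
      have hti : t⁻¹ = t := inv_eq_of_mul_eq_one_right (by rw [← sq, ← ht, pow_orderOf_eq_one])
      have hw : v * (t * v * t⁻¹) ∈ V := mul_mem hv (hV.1.conj_mem v hv t)
      have hcomm : Commute t (v * (t * v * t⁻¹)) := by
        have e : v * (t * v * t⁻¹) = t * v * t⁻¹ * v := congrArg Subtype.val
          (hVc.is_comm.comm (⟨v, hv⟩ : V) ⟨_, hV.1.conj_mem v hv t⟩)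
        show t * (v * (t * v * t⁻¹)) = v * (t * v * t⁻¹) * t
        have htt : t * t = 1 := by rw [← sq, ← ht, pow_orderOf_eq_one]
        calc t * (v * (t * v * t⁻¹)) = t * v * t⁻¹ * (t * t) * v * t⁻¹ := by group
          _ = t * v * t⁻¹ * v * t⁻¹ := by rw [htt, mul_one]
          _ = v * (t * v * t⁻¹) * t⁻¹ := by rw [e]
          _ = _ := by rw [hti]
      rcases hord (v * (t * v * t⁻¹)) with h1 | h1 | h1
      · exact eq_inv_of_mul_eq_one_right (orderOf_eq_one_iff.1 h1)
      · have := orderOf_dvd_of_pow_eq_one (hVpow _ hw)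
        rw [h1] at this
        omega
      · exact absurd hcomm.eq (hnc t _ ht h1)
    obtain ⟨v, hv, hv1⟩ : ∃ v ∈ V, v ≠ 1 := V.bot_or_exists_ne_one.resolve_left hV.2.1
    have hPcard : Nat.card P = 2 := by
      haveI : Nontrivial (P : Subgroup G) := (Subgroup.nontrivial_iff_ne_bot _).2
        (P.ne_bot_of_dvd_card (ha₂ ▸ orderOf_dvd_natCard a₂))
      obtain ⟨⟨s, hs⟩, hs1⟩ := exists_ne (1 : (P : Subgroup G))
      have hso : orderOf s = 2 := orderOf_eq_prime (hP2 s hs) fun e => hs1 (Subtype.ext e)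
      suffices hP : (P : Subgroup G) = Subgroup.zpowers s by
        show Nat.card (P : Subgroup G) = 2
        rw [hP, Nat.card_zpowers, hso]
      refine le_antisymm (fun t ht => ?_) (Subgroup.zpowers_le.2 hs)
      by_cases ht1 : t = 1
      · rw [ht1]; exact one_mem _
      by_contra hne
      have hto := orderOf_eq_prime (hP2 t ht) ht1
      have hst1 : s * t ≠ 1 := fun e => hne (eq_inv_of_mul_eq_one_right e ▸
        inv_mem (Subgroup.mem_zpowers s))
      have hsto := orderOf_eq_prime (hP2 _ (mul_mem hs ht)) hst1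
      have h1 := hinv _ hsto v hv
      have h2 : (s * t) * v * (s * t)⁻¹ = v := by
        rw [show (s * t) * v * (s * t)⁻¹ = s * (t * v * t⁻¹) * s⁻¹ by group, hinv t hto v hv,
          hinv s hso _ (inv_mem hv), inv_inv]
      refine hv1 ?_
      have h3 : v = v⁻¹ := h2.symm.trans h1
      have h4 : v ^ 2 = 1 := by rw [sq]; nth_rewrite 2 [h3]; exact mul_inv_cancel v
      have h5 : v ^ 3 = 1 := hVpow v hv
      rwa [pow_succ, h4, one_mul] at h5
    have hNPC : Cfsg.HasNormalPComplement 2 G :=
      Fusion.hnpc_of_normalizer_le_centralizer P fun g hg => Subgroup.mem_centralizer_iff.2 fun x hx => by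
        by_cases hx1 : x = 1
        · rw [hx1, mul_one, one_mul]
        have hgx : g * x * g⁻¹ ∈ (P : Subgroup G) := (Subgroup.mem_normalizer_iff.1 hg x).1 hx
        have hP' : ∀ w ∈ (P : Subgroup G), w ≠ 1 → w = x := by
          intro w hw hw1
          have hz : Subgroup.zpowers x = (P : Subgroup G) :=
            Subgroup.eq_of_le_of_card_ge (Subgroup.zpowers_le.2 hx) (by
              rw [Nat.card_zpowers, orderOf_eq_prime (hP2 x hx) hx1]; exact hPcard.le)
          obtain ⟨i, rfl⟩ := hz.ge hw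
          have : x ^ (i % 2) = x ^ i := by
            rw [show (2 : ℤ) = (orderOf x : ℤ) by rw [orderOf_eq_prime (hP2 x hx) hx1]; rfl,
              zpow_mod_orderOf]
          rcases Int.emod_two_eq i with h0 | h0
          · exact absurd (by show x ^ i = 1; rw [← this, h0, zpow_zero]) hw1
          · show x ^ i = x
            rw [← this, h0, zpow_one]
        have := hP' _ hgx fun e => hx1 (conj_eq_one_iff.1 e)
        rw [mul_inv_eq_iff_eq_mul] at this
        exact this.symm
    obtain ⟨N, hNn, hN⟩ := Fusion.hnpc_exists_complement hNPC P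
    haveI := hNn
    have hidx : N.index = 2 := by rw [hN.symm.index_eq_card]; exact hPcard
    have hodd : ∀ w ∈ N, w ≠ 1 → orderOf w = 3 := fun w hw hw1 => by
      rcases hord w with h1 | h1 | h1
      · exact absurd (orderOf_eq_one_iff.1 h1) hw1
      · exfalso
        have := Fusion.coprime_card_of_isComplement' hN
        rw [Fusion.coprime_card_iff_not_dvd] at this
        exact this (h1 ▸ Subgroup.orderOf_mk w hw ▸ orderOf_dvd_natCard _)
      · exact h1
    obtain ⟨σ, hσ⟩ : ∃ σ : N →* N, ∀ w : N, (σ w : G) = a₂ * w * a₂⁻¹ :=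
      ⟨MonoidHom.mk' (fun w => ⟨a₂ * w * a₂⁻¹, hNn.conj_mem _ w.2 a₂⟩)
        fun u w => Subtype.ext (by simp), fun _ => rfl⟩
    have hfree : MonoidHom.FixedPointFree σ := fun w hw => by
      by_contra hw1
      refine hnc a₂ w ha₂ (hodd w w.2 fun e => hw1 (Subtype.ext e)) ?_
      have := congrArg Subtype.val hw
      rw [hσ, mul_inv_eq_iff_eq_mul] at this
      exact this
    have hinvol : Function.Involutive σ := fun w => Subtype.ext (by
      rw [hσ, hσ]
      have : a₂ * a₂ = 1 := by rw [← sq, ← ha₂, pow_orderOf_eq_one]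
      rw [show a₂ * (a₂ * w * a₂⁻¹) * a₂⁻¹ = (a₂ * a₂) * w * (a₂ * a₂)⁻¹ by group, this, one_mul,
        inv_one, mul_one])
    refine ⟨N, hNn, ⟨⟨⟨fun a b => hfree.commute_all_of_involutive hinvol a b⟩⟩, fun a ha => ?_⟩, hidx⟩
    by_cases ha1 : a = 1
    · rw [ha1, one_pow]
    · rw [← hodd a ha ha1, pow_orderOf_eq_one]

end Cfsg.Agent.S4005
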