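import Cfsg.Statements.S4006
import Cfsg.Agent.Lib.Solv.EngelTwo
import Cfsg.Agent.Lib.Solv.FrobeniusGK
import Cfsg.Agent.Lib.Solv.UniqueSub
import Cfsg.Agent.Lib.Solv.Cores
import Cfsg.Agent.Lib.Char.Burnside

set_option autoImplicit false
set_option linter.style.haveILetI false
open Cfsg

open scoped Pointwise commutatorElement

namespace Cfsg.Agent.S4006


open Cfsg.Agent.Solv Cfsg.Agent.Solv.EngelTwo

/-- every element has order at most 4 and not 6 -/
def Spec (H : Type*) [Group H] : Prop := ∀ x : H, x ^ 4 = 1 ∨ x ^ 3 = 1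

theorem eq_one_of_pow {H : Type*} [Group H] {x : H} (h4 : x ^ 4 = 1) (h3 : x ^ 3 = 1) : x = 1 := by
  calc x = x ^ 4 * (x ^ 3)⁻¹ := by group
    _ = 1 := by rw [h4, h3]; group

theorem Spec.nc {H : Type*} [Group H] (hS : Spec H) {x y : H} (hx : x ^ 4 = 1) (hy : y ^ 3 = 1)
    (hc : Commute x y) : x = 1 ∨ y = 1 := by
  rcases hS (x * y) with h | h <;> rw [hc.mul_pow] at h
  · rw [hx, one_mul] at h; exact Or.inr (eq_one_of_pow h hy)
  · rw [hy, mul_one] at h; exact Or.inl (eq_one_of_pow hx h)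

theorem Spec.quot {H : Type*} [Group H] (hS : Spec H) (N : Subgroup H) [N.Normal] : Spec (H ⧸ N) := by
  intro q
  obtain ⟨x, rfl⟩ := QuotientGroup.mk'_surjective N q
  rcases hS x with h | h
  · left; rw [← map_pow, h, map_one]
  · right; rw [← map_pow, h, map_one]

theorem Spec.sub {H : Type*} [Group H] (hS : Spec H) (S : Subgroup H) : Spec S := by
  intro x
  rcases hS x with h | h
  · left; exact Subtype.ext (by simpa using h)
  · right; exact Subtype.ext (by simpa using h)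

theorem Spec.two {H : Type*} [Group H] (hS : Spec H) (P : Subgroup H) (hP : IsPGroup 2 P) {x : H}
    (hx : x ∈ P) : x ^ 4 = 1 := by
  rcases hS x with h | h
  · exact h
  obtain ⟨k, hk⟩ := hP ⟨x, hx⟩
  have hk' : x ^ 2 ^ k = 1 := by simpa using congrArg Subtype.val hk
  have : orderOf x = 1 := Nat.eq_one_of_dvd_coprimes
    (Nat.Coprime.pow_left k (by norm_num : Nat.Coprime 2 3))
    (orderOf_dvd_of_pow_eq_one hk') (orderOf_dvd_of_pow_eq_one h)
  rw [orderOf_eq_one_iff.1 this, one_pow]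

theorem Spec.three {H : Type*} [Group H] (hS : Spec H) (P : Subgroup H) (hP : IsPGroup 3 P) {x : H}
    (hx : x ∈ P) : x ^ 3 = 1 := by
  rcases hS x with h | h
  swap
  · exact h
  obtain ⟨k, hk⟩ := hP ⟨x, hx⟩
  have hk' : x ^ 3 ^ k = 1 := by simpa using congrArg Subtype.val hk
  have : orderOf x = 1 := Nat.eq_one_of_dvd_coprimes
    (Nat.Coprime.pow_left k (by norm_num : Nat.Coprime 3 4))
    (orderOf_dvd_of_pow_eq_one hk') (orderOf_dvd_of_pow_eq_one h)
  rw [orderOf_eq_one_iff.1 this, one_pow]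

theorem Spec.primes {H : Type*} [Group H] [Finite H] (hS : Spec H) (r : ℕ) (hr : r.Prime)
    (hd : r ∣ Nat.card H) : r = 2 ∨ r = 3 := by
  haveI := Fact.mk hr
  obtain ⟨x, hx⟩ := exists_prime_orderOf_dvd_card' r hd
  rcases hS x with h | h
  · left
    have h' : r ∣ 2 ^ 2 := by rw [← hx]; exact orderOf_dvd_of_pow_eq_one h
    exact (Nat.prime_dvd_prime_iff_eq hr Nat.prime_two).1 (hr.dvd_of_dvd_pow h')
  · right
    have h' : r ∣ 3 := by rw [← hx]; exact orderOf_dvd_of_pow_eq_one h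
    exact (Nat.prime_dvd_prime_iff_eq hr Nat.prime_three).1 h'

theorem Spec.pCore_cases {H : Type*} [Group H] [Finite H] [Nontrivial H] (hS : Spec H) :
    Cfsg.pCore 2 H ≠ ⊥ ∨ Cfsg.pCore 3 H ≠ ⊥ := by
  have hsol : Group.IsSolvable H := Char.isSolvable_of_two_primes Nat.prime_two Nat.prime_three _ rfl
    hS.primes
  obtain ⟨N, hN, hNb, hmin⟩ := exists_minimal_normal (G := H)
  obtain ⟨-, p, hp, -, hpg⟩ := minimal_normal_elementaryAbelian N inferInstance hNb hmin
  haveI := hN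
  have hle := normal_le_pCore hpg
  have hd : p ∣ Nat.card H := by
    haveI := Fact.mk hp
    haveI := (Subgroup.nontrivial_iff_ne_bot N).2 hNb
    obtain ⟨n, hn0, hn⟩ := hpg.nontrivial_iff_card.1 inferInstance
    exact ((dvd_pow_self p hn0.ne').trans (dvd_of_eq hn.symm)).trans (Subgroup.card_subgroup_dvd_card N)
  rcases hS.primes p hp hd with rfl | rfl
  · exact Or.inl fun e => hNb (le_bot_iff.1 (e ▸ hle))
  · exact Or.inr fun e => hNb (le_bot_iff.1 (e ▸ hle))

theorem pCore_quot {H : Type*} [Group H] [Finite H] (p : ℕ) [Fact p.Prime] [(Cfsg.pCore p H).Normal] :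
    Cfsg.pCore p (H ⧸ Cfsg.pCore p H) = ⊥ := by
  set V := Cfsg.pCore p H
  set π := QuotientGroup.mk' V with hπ
  haveI := pCore_normal (G := H ⧸ V) p
  have hK : IsPGroup p ((Cfsg.pCore p (H ⧸ V)).comap π) :=
    (pCore_isPGroup p).comap_of_ker_isPGroup π (by rw [hπ, QuotientGroup.ker_mk']; exact pCore_isPGroup p)
  have hle := normal_le_pCore hK
  rw [eq_bot_iff]
  intro q hq
  obtain ⟨x, rfl⟩ := QuotientGroup.mk'_surjective V q
  exact Subgroup.mem_bot.2 ((QuotientGroup.eq_one_iff x).2 (hle hq))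

/-- an abelian normal nontrivial subgroup inside a normal p-group -/
theorem exists_abelian {H : Type*} [Group H] [Finite H] (p : ℕ) [Fact p.Prime] (V : Subgroup H) [V.Normal]
    (hV : IsPGroup p V) (hVb : V ≠ ⊥) :
    ∃ Z : Subgroup H, Z.Normal ∧ IsMulCommutative Z ∧ Z ≠ ⊥ ∧ Z ≤ V := by
  haveI := (Subgroup.nontrivial_iff_ne_bot V).2 hVb
  haveI : Nontrivial (Subgroup.center V) := hV.center_nontrivial
  refine ⟨(Subgroup.center V).map V.subtype, map_subtype_normal_of_characteristic V _,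
    ⟨⟨?_⟩⟩, ?_, Subgroup.map_subtype_le _⟩
  · rintro ⟨_, a, ha, rfl⟩ ⟨_, b, hb, rfl⟩
    apply Subtype.ext
    show (a : H) * b = b * a
    exact congrArg Subtype.val (Subgroup.mem_center_iff.1 hb a)
  · rw [Ne, Subgroup.map_eq_bot_iff_of_injective _ V.subtype_injective]
    exact (Subgroup.nontrivial_iff_ne_bot _).1 inferInstance

theorem unique_in {H : Type*} [Group H] [Finite H] {p : ℕ} [Fact p.Prime] {Z P : Subgroup H} [Z.Normal]
    [IsMulCommutative Z] (hZb : Z ≠ ⊥)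
    (hfpf : ∀ x ∈ P, x ≠ 1 → ∀ v ∈ Z, Commute x v → v = 1) (hP : IsPGroup p P) (hPb : P ≠ ⊥) :
    ∃ z ∈ P, z ≠ 1 ∧ z ^ p = 1 ∧ ∀ x ∈ P, x ^ p = 1 → x ∈ Subgroup.zpowers z := by
  haveI := (Subgroup.nontrivial_iff_ne_bot P).2 hPb
  haveI : Nontrivial (Subgroup.center P) := hP.center_nontrivial
  have hd : p ∣ Nat.card (Subgroup.center P) := by
    obtain ⟨n, hn0, hn⟩ := (hP.to_subgroup (Subgroup.center P)).nontrivial_iff_card.1 inferInstance
    rw [hn]; exact dvd_pow_self p hn0.ne'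
  obtain ⟨w, hw⟩ := exists_prime_orderOf_dvd_card' p hd
  have hwo : orderOf ((w : P) : H) = p := by rw [Subgroup.orderOf_coe, Subgroup.orderOf_coe, hw]
  refine ⟨((w : P) : H), (w : P).2, ?_, ?_, ?_⟩
  · intro e; rw [e, orderOf_one] at hwo; exact (Fact.out : p.Prime).ne_one hwo.symm
  · conv_lhs => rw [← hwo]
    exact pow_orderOf_eq_one _
  intro x hx hxp
  have hw1 : ((w : P) : H) ≠ 1 := fun e => by
    rw [e, orderOf_one] at hwo; exact (Fact.out : p.Prime).ne_one hwo.symm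
  refine fpf_unique_order (A := P) (V := Z) hZb (fun a _ => by
      rw [Subgroup.normalizer_eq_top_iff.2 ‹Z.Normal›]; exact Subgroup.mem_top a) ?_ hx (w : P).2 ?_ hxp
    (by conv_lhs => rw [← hwo]
        exact pow_orderOf_eq_one _) hw1
  · intro a ha ha1
    rw [eq_bot_iff]
    rintro v ⟨hv, hva⟩
    exact Subgroup.mem_bot.2 (hfpf a ha ha1 v hv (Subgroup.mem_centralizer_iff.1 hva a rfl))
  · exact congrArg Subtype.val (Subgroup.mem_center_iff.1 w.2 ⟨x, hx⟩)

/-- fixed-point-free involution inverts -/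
theorem inverted {H : Type*} [Group H] [Finite H] (V : Subgroup H) [V.Normal] {z : H} (hz : z * z = 1)
    (hfix : ∀ v ∈ V, Commute z v → v = 1) : ∀ v ∈ V, z * v * z⁻¹ = v⁻¹ := by
  set σ : V ≃* V := MulAut.conjNormal z
  have hinj : Function.Injective fun v : V => v⁻¹ * σ v := by
    intro a b h
    have h' : (a : H)⁻¹ * (z * a * z⁻¹) = (b : H)⁻¹ * (z * b * z⁻¹) := by
      simpa [σ] using congrArg Subtype.val h
    have hm : (b : H) * (a : H)⁻¹ = 1 := by
      refine hfix _ (mul_mem b.2 (inv_mem a.2)) ?_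
      show z * _ = _ * z
      have h2 : z * (a : H) * z⁻¹ = a * (b : H)⁻¹ * (z * b * z⁻¹) := by
        rw [mul_assoc (a : H), ← h']; group
      calc z * ((b : H) * (a : H)⁻¹) = z * b * z⁻¹ * (z * a * z⁻¹)⁻¹ * z := by group
        _ = z * b * z⁻¹ * (a * (b : H)⁻¹ * (z * b * z⁻¹))⁻¹ * z := by rw [h2]
        _ = (b : H) * (a : H)⁻¹ * z := by group
    exact Subtype.ext (mul_inv_eq_one.1 hm).symm
  intro u hu
  obtain ⟨v, hv⟩ := Finite.injective_iff_surjective.1 hinj ⟨u, hu⟩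
  have hv' : (v : H)⁻¹ * (z * v * z⁻¹) = u := by simpa [σ] using congrArg Subtype.val hv
  have hzi : z⁻¹ = z := inv_eq_of_mul_eq_one_right hz
  rw [← hv']
  calc z * ((v : H)⁻¹ * (z * v * z⁻¹)) * z⁻¹
      = z * (v : H)⁻¹ * z * v * (z⁻¹ * z⁻¹) := by group
    _ = ((v : H)⁻¹ * (z * v * z⁻¹))⁻¹ := by
      rw [show z⁻¹ * z⁻¹ = 1 by rw [hzi, hz]]
      simp only [mul_inv_rev, inv_inv, hzi]
      group

theorem rc_mul_left {H : Type*} [Group H] (hc : ∀ x y z : H, Commute (rc x y) z) (a b z : H) :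
    rc (a * b) z = rc a z * rc b z := by
  have e : rc (a * b) z = b⁻¹ * rc a z * b * rc b z := by simp only [rc]; group
  rw [e, mul_assoc b⁻¹, (hc a z b).eq, ← mul_assoc b⁻¹, inv_mul_cancel, one_mul]

/-- the computation for the index 6 case -/
theorem sq_eq_one {H : Type*} [Group H] (hc : ∀ x y z : H, Commute (rc x y) z)
    (h4 : ∀ x : H, x ^ 4 = 1) (σ τ : H ≃* H) (hsum : ∀ u, u * σ u * σ (σ u) = 1)
    (h0 : ∀ v, (τ v * v) ^ 2 = 1) (h1 : ∀ v, (τ (σ v) * v) ^ 2 = 1)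
    (h2 : ∀ v, (τ (σ (σ v)) * v) ^ 2 = 1) : ∀ v : H, v ^ 2 = 1 := by
  have hsm : ∀ a b : H, (a * b) ^ 2 = a ^ 2 * b ^ 2 * rc b a := by
    intro a b
    calc (a * b) ^ 2 = a * (b * a) * b := by rw [pow_two]; simp only [mul_assoc]
      _ = a * (a * b * rc b a) * b := by rw [mul_eq b a]
      _ = a * a * b * (rc b a * b) := by group
      _ = a * a * b * (b * rc b a) := by rw [(hc b a b).eq]
      _ = a ^ 2 * b ^ 2 * rc b a := by rw [pow_two, pow_two]; simp only [mul_assoc]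
  have hr2 : ∀ a b : H, rc (a ^ 2) b = rc a b ^ 2 := by
    intro a b; rw [pow_two, rc_mul_left hc, pow_two]
  have hcsq : ∀ a b : H, rc b a ^ 2 = 1 := by
    intro a b
    have e : rc (b ^ 2) (a ^ 2) = 1 := by
      rw [hr2, ← rc_inv (a ^ 2) b, hr2, inv_pow, ← pow_mul, h4, inv_one]
    have hq : (a * b) ^ 4 = 1 := h4 _
    rw [show (a * b) ^ 4 = ((a * b) ^ 2) ^ 2 by rw [← pow_mul], hsm, (hc b a _).symm.mul_pow, hsm,
      ← pow_mul, ← pow_mul, h4, h4, one_mul, one_mul, e, one_mul] at hq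
    exact hq
  have hsc : ∀ a b : H, Commute (a ^ 2) b := fun a b => commute_of_rc (by rw [hr2, hcsq])
  intro v
  let q : H → Subgroup.center H := fun a => ⟨a ^ 2, Subgroup.mem_center_iff.2 fun g => (hsc a g).eq.symm⟩
  let C : H → H → Subgroup.center H := fun a b =>
    ⟨rc a b, Subgroup.mem_center_iff.2 fun g => (hc a b g).eq.symm⟩
  set a0 := τ v with ha0
  set a1 := τ (σ v) with ha1
  set a2 := τ (σ (σ v)) with ha2
  have hprod : a0 * a1 * a2 = 1 := by rw [ha0, ha1, ha2, ← map_mul, ← map_mul, hsum, map_one]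
  have hsq : a0 ^ 2 * a1 ^ 2 * a2 ^ 2 = 1 := by
    rw [ha0, ha1, ha2]
    rw [← map_pow τ, ← map_pow τ, ← map_pow τ, ← map_mul τ, ← map_mul τ, ← map_pow σ, ← map_pow σ,
      ← map_pow σ, hsum, map_one]
  have k : ∀ a : H, (a * v) ^ 2 = 1 → q a * q v * C v a = 1 := fun a h => by
    apply Subtype.ext
    show a ^ 2 * v ^ 2 * rc v a = 1
    rw [← hsm, h]
  have k0 := k a0 (h0 v)
  have k1 := k a1 (h1 v)
  have k2 := k a2 (h2 v)
  have hq3 : q a0 * q a1 * q a2 = 1 := Subtype.ext hsq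
  have hC3 : C v a0 * C v a1 * C v a2 = 1 := by
    apply Subtype.ext
    show rc v a0 * rc v a1 * rc v a2 = 1
    rw [← inv_eq_one, mul_inv_rev, mul_inv_rev, rc_inv, rc_inv, rc_inv, (hc a2 v _).eq, (hc a1 v _).eq,
      ← rc_mul_left hc, ← rc_mul_left hc, hprod]
    exact rc_eq_one (Commute.one_left v)
  have hv3 : q v * q v * q v = 1 := by
    calc q v * q v * q v = (q a0 * q a1 * q a2) * (q v * q v * q v) * (C v a0 * C v a1 * C v a2) := by
          rw [hq3, hC3, one_mul, mul_one]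
      _ = (q a0 * q v * C v a0) * (q a1 * q v * C v a1) * (q a2 * q v * C v a2) := by ac_rfl
      _ = 1 := by rw [k0, k1, k2, one_mul, one_mul]
  have hv6 : v ^ 2 * v ^ 2 * v ^ 2 = 1 := congrArg Subtype.val hv3
  calc v ^ 2 = v ^ 2 * v ^ 2 * v ^ 2 * (v ^ 4)⁻¹ := by group
    _ = 1 := by rw [hv6, h4]; group

theorem sylow_three {G : Type*} [Group G] [Finite G] (hS : Spec G) (V : Subgroup G) [V.Normal]
    (hV : IsPGroup 2 V) (hVb : V ≠ ⊥) (P : Sylow 3 G) : Nat.card P ∣ 3 := by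
  by_cases hPb : (P : Subgroup G) = ⊥
  · rw [hPb, Subgroup.card_bot]; exact one_dvd 3
  obtain ⟨Z, hZn, hZc, hZb, hZV⟩ := exists_abelian 2 V hV hVb
  haveI := hZn; haveI := hZc
  obtain ⟨z, -, -, hz3, hu⟩ := unique_in (P := (P : Subgroup G)) hZb
    (fun x hx hx1 v hv hxv => ((hS.nc (hS.two V hV (hZV hv)) (hS.three P P.isPGroup' hx) hxv.symm)).resolve_right hx1)
    P.isPGroup' hPb
  have hle : (P : Subgroup G) ≤ Subgroup.zpowers z := fun x hx => hu x hx (hS.three P P.isPGroup' hx)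
  refine (Subgroup.card_dvd_of_le hle).trans ?_
  rw [Nat.card_zpowers]; exact orderOf_dvd_of_pow_eq_one hz3

theorem case_two {G : Type*} [Group G] [Finite G] (hS : Spec G) (h4e : ∃ x : G, orderOf x = 4)
    (h3e : ∃ x : G, orderOf x = 3) (hVb : Cfsg.pCore 2 G ≠ ⊥) :
    ∃ (N : Subgroup G) (_ : N.Normal),
      (IsPGroup 2 ↥N ∧ Monoid.exponent ↥N = 4 ∧ Group.nilpotencyClass ↥N ≤ 2 ∧ N.index = 3) ∨
      (Cfsg.IsElementaryAbelian 2 N ∧ Nonempty (G ⧸ N ≃* Equiv.Perm (Fin 3))) := by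
  haveI hVn := pCore_normal (G := G) 2
  set V := Cfsg.pCore 2 G with hVd
  have hV : IsPGroup 2 V := pCore_isPGroup 2
  refine ⟨V, hVn, ?_⟩
  set π := QuotientGroup.mk' V with hπ
  have hSQ := hS.quot V
  haveI : Nontrivial (G ⧸ V) := by
    obtain ⟨y, hy⟩ := h3e
    refine ⟨⟨π y, 1, fun e => ?_⟩⟩
    have hy4 := hS.two V hV ((QuotientGroup.eq_one_iff y).1 e)
    have := orderOf_dvd_of_pow_eq_one hy4
    rw [hy] at this
    norm_num at this
  have hWb : Cfsg.pCore 3 (G ⧸ V) ≠ ⊥ := hSQ.pCore_cases.resolve_left fun h => h (pCore_quot 2)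
  haveI hWn := pCore_normal (G := G ⧸ V) 3
  set W := Cfsg.pCore 3 (G ⧸ V) with hWd
  obtain ⟨P⟩ : Nonempty (Sylow 3 G) := inferInstance
  have hle3 : ∀ K : Subgroup (G ⧸ V), IsPGroup 3 K → Nat.card K ∣ 3 := by
    intro K hK
    obtain ⟨m, hm⟩ := IsPGroup.iff_card.1 hK
    have hd : 3 ^ m ∣ Nat.card G := hm ▸ (Subgroup.card_subgroup_dvd_card K).trans
      (Subgroup.card_quotient_dvd_card V)
    obtain ⟨L, hL⟩ := Sylow.exists_subgroup_card_pow_prime 3 hd
    obtain ⟨Q, hQ⟩ := (IsPGroup.of_card hL).exists_le_sylow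
    rw [hm, ← hL]
    exact (Subgroup.card_dvd_of_le hQ).trans (sylow_three hS V hV hVb Q)
  have hW3 : Nat.card W = 3 := by
    rcases (Nat.dvd_prime Nat.prime_three).1 (hle3 W (pCore_isPGroup 3)) with h | h
    · exact absurd (Subgroup.eq_bot_of_card_eq W h) hWb
    · exact h
  obtain ⟨w, hw⟩ := exists_prime_orderOf_dvd_card' 3 (dvd_of_eq hW3.symm : 3 ∣ Nat.card W)
  have hwo : orderOf (w : G ⧸ V) = 3 := by rw [Subgroup.orderOf_coe, hw]
  have hWz : W = Subgroup.zpowers (w : G ⧸ V) :=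
    (Subgroup.eq_of_le_of_card_ge (Subgroup.zpowers_le.2 w.2) (by rw [Nat.card_zpowers, hwo, hW3])).symm
  have hw1 : (w : G ⧸ V) ≠ 1 := fun e => by rw [e, orderOf_one] at hwo; norm_num at hwo
  have hw3 : (w : G ⧸ V) ^ 3 = 1 := by
    conv_lhs => rw [← hwo]
    exact pow_orderOf_eq_one _
  have hcent : ∀ x : G ⧸ V, Commute x w → x ∈ W := by
    intro x hx
    have hC : IsPGroup 3 (Subgroup.centralizer ({(w : G ⧸ V)} : Set (G ⧸ V))) := fun c => by
      refine ⟨1, Subtype.ext ?_⟩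
      rcases hSQ (c : G ⧸ V) with h | h
      · have hcc : Commute (c : G ⧸ V) w := (Subgroup.mem_centralizer_iff.1 c.2 w rfl).symm
        rw [SubgroupClass.coe_pow, (hSQ.nc h hw3 hcc).resolve_right hw1, one_pow, OneMemClass.coe_one]
      · simpa using h
    have hle : W ≤ Subgroup.centralizer ({(w : G ⧸ V)} : Set (G ⧸ V)) := by
      refine hWz.le.trans (Subgroup.zpowers_le.2 (Subgroup.mem_centralizer_iff.2 ?_))
      intro a ha; rw [Set.mem_singleton_iff.1 ha]
    have := Subgroup.eq_of_le_of_card_ge hle (by rw [hW3]; exact Nat.le_of_dvd (by norm_num) (hle3 _ hC))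
    rw [this, Subgroup.mem_centralizer_iff]
    intro a ha; rw [Set.mem_singleton_iff.1 ha]; exact hx.symm.eq
  have hinv : ∀ x : G ⧸ V, x ∉ W → x * w * x⁻¹ = (w : G ⧸ V)⁻¹ := by
    intro x hx
    have hm : x * w * x⁻¹ ∈ Subgroup.zpowers (w : G ⧸ V) := hWz ▸ hWn.conj_mem _ w.2 x
    classical
    rw [mem_zpowers_iff_mem_range_orderOf, hwo] at hm
    simp only [Finset.mem_image, Finset.mem_range] at hm
    obtain ⟨i, hi, he⟩ := hm
    interval_cases i
    · rw [pow_zero] at he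
      exact absurd (conj_eq_one_iff.1 he.symm) hw1
    · rw [pow_one] at he
      exact absurd (hcent x (show x * w = w * x from mul_inv_eq_iff_eq_mul.1 he.symm)) hx
    · rw [← he]
      exact eq_inv_of_mul_eq_one_left (by rw [← pow_succ]; exact hw3)
  obtain ⟨y, hy3, hyw⟩ : ∃ y : G, y ^ 3 = 1 ∧ π y = w := by
    obtain ⟨y, hy⟩ := QuotientGroup.mk'_surjective V (w : G ⧸ V)
    refine ⟨y, ?_, hy⟩
    rcases hS y with h | h
    · exfalso
      apply hw1
      refine eq_one_of_pow ?_ hw3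
      rw [← hy, ← map_pow, h, map_one]
    · exact h
  have hy1 : y ≠ 1 := fun e => hw1 (by rw [← hyw, e, map_one])
  have hyfix : ∀ v ∈ V, Commute y v → v = 1 := fun v hv hc =>
    (hS.nc (hS.two V hV hv) hy3 hc.symm).resolve_right hy1
  set σ : V ≃* V := MulAut.conjNormal y with hσ
  obtain ⟨hsum, hE⟩ := engel_of_fpf σ
    (fun u => Subtype.ext (by
      simp only [hσ, MulAut.conjNormal_apply]
      calc y * (y * (y * (u : G) * y⁻¹) * y⁻¹) * y⁻¹ = y ^ 3 * u * (y ^ 3)⁻¹ := by simp [pow_succ, mul_assoc]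
        _ = u := by rw [hy3]; group))
    (fun u hu => Subtype.ext (hyfix u u.2 (by
      have := congrArg Subtype.val hu
      simp only [hσ, MulAut.conjNormal_apply] at this
      exact mul_inv_eq_iff_eq_mul.1 this)))
  have h4V : ∀ x : V, x ^ 4 = 1 := fun x => Subtype.ext (by simpa using hS.two V hV x.2)
  have hc : ∀ a b c : V, Commute (rc a b) c := fun a b c =>
    commute_of_rc (eq_one_of_pow (h4V _) (triple_cube hE a b c))
  by_cases hall : ∀ x : G ⧸ V, x ∈ W
  · left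
    have hidx : V.index = 3 := by
      rw [Subgroup.index_eq_card, ← hW3]
      have : W = ⊤ := eq_top_iff.2 fun x _ => hall x
      rw [this, Subgroup.card_top]
    refine ⟨hV, ?_, ?_, hidx⟩
    · apply Nat.dvd_antisymm (Monoid.exponent_dvd_of_forall_pow_eq_one h4V)
      obtain ⟨x, hx⟩ := h4e
      have hxV : x ∈ V := by
        rw [← QuotientGroup.eq_one_iff]
        apply eq_one_of_pow
        · rw [← QuotientGroup.mk_pow, show x ^ 4 = 1 from hx ▸ pow_orderOf_eq_one x, QuotientGroup.mk_one]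
        · rw [← hidx, Subgroup.index_eq_card]; exact pow_card_eq_one'
      have : orderOf (⟨x, hxV⟩ : V) = 4 := by rw [← Subgroup.orderOf_coe]; exact hx
      exact this ▸ Monoid.order_dvd_exponent _
    · haveI := hV.isNilpotent
      rw [← Subgroup.lowerCentralSeries_eq_bot_iff_nilpotencyClass_le, eq_bot_iff,
        Subgroup.lowerCentralSeries_succ, Subgroup.commutator_le]
      intro a ha b _
      have ha' : a ∈ Subgroup.center V := by
        rw [Subgroup.lowerCentralSeries_succ, Subgroup.lowerCentralSeries_zero] at ha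
        refine (Subgroup.commutator_le.2 ?_) ha
        intro a _ b _
        rw [Subgroup.mem_center_iff]
        intro g
        have : ⁅a, b⁆ = rc a⁻¹ b⁻¹ := by simp only [commutatorElement_def, rc]; group
        rw [this]
        exact (hc a⁻¹ b⁻¹ g).eq.symm
      exact Subgroup.mem_bot.2 (commutatorElement_eq_one_iff_commute.2 (Subgroup.mem_center_iff.1 ha' b).symm)
  right
  push Not at hall
  obtain ⟨tb, htb⟩ := hall
  have h4out : ∀ g : G, π g ∉ W → g ^ 4 = 1 ∧ π g * π g = 1 := by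
    intro g hg
    have hsqW : π g * π g ∈ W := by
      refine hcent _ ?_
      show π g * π g * w = w * (π g * π g)
      have h1 := hinv _ hg
      calc π g * π g * (w : G ⧸ V) = π g * (π g * w * (π g)⁻¹) * (π g) := by group
        _ = π g * (w : G ⧸ V)⁻¹ * π g := by rw [h1]
        _ = (π g * w * (π g)⁻¹)⁻¹ * (π g * π g) := by group
        _ = w * (π g * π g) := by rw [h1, inv_inv]
    have hg4 : g ^ 4 = 1 := by
      rcases hS g with h | h
      · exact h
      · exfalso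
        apply hg
        have e : π g = ((π g) * (π g))⁻¹ := by
          apply eq_inv_of_mul_eq_one_left
          calc π g * (π g * π g) = π g ^ 3 := by simp [pow_succ, mul_assoc]
            _ = 1 := by rw [← map_pow, h, map_one]
        rw [e]; exact inv_mem hsqW
    refine ⟨hg4, eq_one_of_pow ?_ ?_⟩
    · rw [← pow_two, ← pow_mul, show 2 * 4 = 4 * 2 by rfl, pow_mul, ← map_pow, hg4, map_one, one_pow]
    · have hcw := pow_card_eq_one' (G := W) (x := ⟨_, hsqW⟩)
      rw [hW3] at hcw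
      exact congrArg Subtype.val hcw
  obtain ⟨x, hx⟩ := QuotientGroup.mk'_surjective V tb
  obtain ⟨v, hv⟩ : ∃ v : V, (v : G) * y⁻¹ * (v : G)⁻¹ = x * y * x⁻¹ := by
    have hm : x * y * x⁻¹ * y ∈ V := by
      rw [← QuotientGroup.eq_one_iff]
      show π (x * y * x⁻¹ * y) = 1
      rw [map_mul, map_mul, map_mul, map_inv, hx, hyw, hinv tb htb, inv_mul_cancel]
    have hinj : Function.Injective fun v : V =>
        (⟨(v : G) * (y⁻¹ * (v : G)⁻¹ * y), mul_mem v.2 (by
          simpa using hVn.conj_mem _ (inv_mem v.2) y⁻¹)⟩ : V) := by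
      intro a b h
      have h' : (a : G) * (y⁻¹ * (a : G)⁻¹ * y) = b * (y⁻¹ * (b : G)⁻¹ * y) := congrArg Subtype.val h
      have hm : (a : G)⁻¹ * b = 1 := by
        refine hyfix _ (mul_mem (inv_mem a.2) b.2) ?_
        show y * ((a : G)⁻¹ * b) = (a : G)⁻¹ * b * y
        calc y * ((a : G)⁻¹ * b) = y * (a : G)⁻¹ * (b * (y⁻¹ * (b : G)⁻¹ * y)) * y⁻¹ * b * y := by group
          _ = y * (a : G)⁻¹ * (a * (y⁻¹ * (a : G)⁻¹ * y)) * y⁻¹ * b * y := by rw [h']
          _ = (a : G)⁻¹ * b * y := by group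
      exact Subtype.ext (inv_mul_eq_one.1 hm)
    obtain ⟨v, hv⟩ := Finite.injective_iff_surjective.1 hinj ⟨_, hm⟩
    refine ⟨v, ?_⟩
    have hv' : (v : G) * (y⁻¹ * (v : G)⁻¹ * y) = x * y * x⁻¹ * y := congrArg Subtype.val hv
    apply mul_right_cancel (b := y)
    rw [← hv']; group
  set t := (v : G)⁻¹ * x with ht
  have hπt : π t = tb := by
    rw [ht, map_mul, map_inv, hx, show π (v : G) = 1 from (QuotientGroup.eq_one_iff _).2 v.2, inv_one, one_mul]
  have hty : t * y * t⁻¹ = y⁻¹ := by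
    calc t * y * t⁻¹ = (v : G)⁻¹ * (x * y * x⁻¹) * v := by rw [ht]; group
      _ = y⁻¹ := by rw [← hv]; group
  have htt : t * t = 1 := by
    refine hyfix _ ((QuotientGroup.eq_one_iff _).1 ?_) ?_
    · show π (t * t) = 1
      rw [map_mul]; exact (h4out t (hπt ▸ htb)).2
    · show y * (t * t) = t * t * y
      calc y * (t * t) = (t * y * t⁻¹)⁻¹ * (t * t) := by rw [hty, inv_inv]
        _ = t * y⁻¹ * t := by group
        _ = t * (t * y * t⁻¹) * t := by rw [hty]
        _ = t * t * y := by group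
  have hti : ∀ i : ℕ, t * y ^ i * (t * y ^ i) = 1 := by
    intro i
    calc t * y ^ i * (t * y ^ i) = (t * y * t⁻¹) ^ i * (t * t) * y ^ i := by rw [conj_pow]; group
      _ = 1 := by rw [hty, htt, inv_pow, mul_one, inv_mul_cancel]
  set τ : V ≃* V := MulAut.conjNormal t with hτ
  have hgen : ∀ (s : G) (u : V), s * s = 1 → π s ∉ W → ((s * u * s⁻¹) * u : G) ^ 2 = 1 := by
    intro s u hs hsW
    have hsi : s⁻¹ = s := inv_eq_of_mul_eq_one_right hs
    have h4 := (h4out (s * u) (by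
      rw [map_mul, show π (u : G) = 1 from (QuotientGroup.eq_one_iff _).2 u.2, mul_one]; exact hsW)).1
    rw [hsi]
    calc (s * (u : G) * s * u) ^ 2 = ((s * u) ^ 2) ^ 2 := by simp [pow_succ, mul_assoc]
      _ = 1 := by rw [← pow_mul]; exact h4
  have htW : ∀ i : ℕ, π (t * y ^ i) ∉ W := by
    intro i hh
    apply htb
    rw [map_mul, map_pow, hπt, hyw] at hh
    exact (mul_mem_cancel_right (pow_mem w.2 i)).1 hh
  have hsq := sq_eq_one hc h4V σ τ hsum
    (fun u => Subtype.ext (by simpa [hτ] using hgen t u htt (hπt ▸ htb)))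
    (fun u => Subtype.ext (by
      have := hgen (t * y ^ 1) u (hti 1) (htW 1)
      simpa [hτ, hσ, pow_one, mul_assoc] using this))
    (fun u => Subtype.ext (by
      have := hgen (t * y ^ 2) u (hti 2) (htW 2)
      simpa [hτ, hσ, pow_two, mul_assoc] using this))
  refine ⟨⟨⟨⟨fun a b => ?_⟩⟩, fun a ha => by simpa using congrArg Subtype.val (hsq ⟨a, ha⟩)⟩, ?_⟩
  · have hi : ∀ c : V, c⁻¹ = c := fun c => inv_eq_of_mul_eq_one_right (by rw [← pow_two]; exact hsq c)
    rw [← hi (a * b), mul_inv_rev, hi, hi]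
  have hW2 : W.index = 2 := Subgroup.index_eq_two_iff.2 ⟨tb, fun b => by
    by_cases hb : b ∈ W
    · exact Or.inr ⟨hb, fun h => htb ((mul_mem_cancel_left hb).1 h)⟩
    · refine Or.inl ⟨hcent _ ?_, hb⟩
      show b * tb * w = w * (b * tb)
      calc b * tb * (w : G ⧸ V) = b * (tb * w * tb⁻¹) * tb := by group
        _ = b * (w : G ⧸ V)⁻¹ * tb := by rw [hinv tb htb]
        _ = (b * w * b⁻¹)⁻¹ * (b * tb) := by group
        _ = w * (b * tb) := by rw [hinv b hb, inv_inv]⟩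
  have hcard : Nat.card (G ⧸ V) = 6 := by rw [← W.card_mul_index, hW3, hW2]
  set T := Subgroup.zpowers tb with hT
  have htb2 : tb * tb = 1 := by rw [← hπt]; exact (h4out t (hπt ▸ htb)).2
  have htb1 : tb ≠ 1 := fun e => htb (e ▸ one_mem W)
  have hTo : orderOf tb = 2 := orderOf_eq_prime (by rw [pow_two]; exact htb2) htb1
  have hTm : ∀ a ∈ T, a = 1 ∨ a = tb := by
    intro a ha
    classical
    rw [hT, mem_zpowers_iff_mem_range_orderOf, hTo] at ha
    simp only [Finset.mem_image, Finset.mem_range] at ha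
    obtain ⟨i, hi, he⟩ := ha
    interval_cases i
    · exact Or.inl (by rw [← he, pow_zero])
    · exact Or.inr (by rw [← he, pow_one])
  have hker : T.normalCore = ⊥ := by
    rw [eq_bot_iff]
    intro a ha
    rcases hTm a (Subgroup.normalCore_le T ha) with h | h
    · exact Subgroup.mem_bot.2 h
    exfalso
    subst h
    have hc' := hTm _ (Subgroup.normalCore_le T ((Subgroup.normalCore_normal T).conj_mem a ha w))
    rcases hc' with h | h
    · exact htb1 (conj_eq_one_iff.1 h)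
    · exact htb (hcent a (show a * w = w * a from (mul_inv_eq_iff_eq_mul.1 h).symm))
  have hTidx : T.index = 3 := by
    have := T.card_mul_index
    rw [Nat.card_zpowers, hTo, hcard] at this
    omega
  haveI : Fintype ((G ⧸ V) ⧸ T) := Fintype.ofFinite _
  let e : (G ⧸ V) ⧸ T ≃ Fin 3 := Finite.equivFinOfCardEq (by rw [← Subgroup.index_eq_card, hTidx])
  let φ : G ⧸ V →* Equiv.Perm (Fin 3) :=
    e.permCongrHom.toMonoidHom.comp (MulAction.toPermHom (G ⧸ V) ((G ⧸ V) ⧸ T))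
  have hinjφ : Function.Injective φ := by
    refine (Equiv.permCongrHom e).injective.comp ?_
    rw [← MonoidHom.ker_eq_bot_iff, ← Subgroup.normalCore_eq_ker]
    exact hker
  exact ⟨MulEquiv.ofBijective φ ((Nat.bijective_iff_injective_and_card φ).2 ⟨hinjφ, by
    rw [hcard, Nat.card_perm, Nat.card_fin]; rfl⟩)⟩

theorem case_three {G : Type*} [Group G] [Finite G] (hS : Spec G) (h4e : ∃ x : G, orderOf x = 4)
    (h2b : Cfsg.pCore 2 G = ⊥) :
    ∃ (N : Subgroup G) (_ : N.Normal),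
      Cfsg.IsElementaryAbelian 3 N ∧ ((IsCyclic (G ⧸ N) ∧ N.index = 4) ∨ Nonempty (G ⧸ N ≃* QuaternionGroup 2)) := by
  obtain ⟨x4, hx4⟩ := h4e
  haveI : Nontrivial G := ⟨⟨x4, 1, fun e => by rw [e, orderOf_one] at hx4; norm_num at hx4⟩⟩
  have hVb : Cfsg.pCore 3 G ≠ ⊥ := hS.pCore_cases.resolve_left fun h => h h2b
  haveI hVn := pCore_normal (G := G) 3
  set V := Cfsg.pCore 3 G with hVd
  have hV : IsPGroup 3 V := pCore_isPGroup 3
  refine ⟨V, hVn, ?_⟩
  set π := QuotientGroup.mk' V with hπ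
  have hSQ := hS.quot V
  obtain ⟨Z, hZn, hZc, hZb, hZV⟩ := exists_abelian 3 V hV hVb
  haveI := hZn; haveI := hZc
  have hfix : ∀ s : G, s ^ 4 = 1 → s ≠ 1 → ∀ v ∈ V, Commute s v → v = 1 := fun s hs hs1 v hv hc =>
    (hS.nc hs (hS.three V hV hv) hc).resolve_left hs1
  have hxV : ∀ s : G, s ^ 4 = 1 → s ∈ V → s = 1 := fun s hs hm => eq_one_of_pow hs (hS.three V hV hm)
  obtain ⟨S, hxS⟩ : ∃ S : Sylow 2 G, x4 ∈ (S : Subgroup G) := by
    obtain ⟨S, hS'⟩ := (IsPGroup.of_card (p := 2) (n := 2)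
      (by rw [Nat.card_zpowers, hx4]; rfl) : IsPGroup 2 (Subgroup.zpowers x4)).exists_le_sylow
    exact ⟨S, hS' (Subgroup.mem_zpowers x4)⟩
  have hSb : (S : Subgroup G) ≠ ⊥ := fun e => by
    rw [e, Subgroup.mem_bot] at hxS
    rw [hxS, orderOf_one] at hx4; norm_num at hx4
  obtain ⟨z, hzS, hz1, hz2, hu⟩ := unique_in (P := (S : Subgroup G)) hZb
    (fun a ha ha1 v hv hc => hfix a (hS.two S S.isPGroup' ha) ha1 v (hZV hv) hc) S.isPGroup' hSb
  have hz4 : z ^ 4 = 1 := hS.two S S.isPGroup' hzS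
  have hzo : orderOf z = 2 := orderOf_eq_prime hz2 hz1
  have hzm : ∀ a ∈ Subgroup.zpowers z, a = 1 ∨ a = z := by
    intro a ha
    classical
    rw [mem_zpowers_iff_mem_range_orderOf, hzo] at ha
    simp only [Finset.mem_image, Finset.mem_range] at ha
    obtain ⟨i, hi, he⟩ := ha
    interval_cases i
    · exact Or.inl (by rw [← he, pow_zero])
    · exact Or.inr (by rw [← he, pow_one])
  have hu1 : ∀ a ∈ (S : Subgroup G), a ^ 2 = 1 → a ≠ 1 → a = z := fun a ha ha2 ha1 =>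
    (hzm a (hu a ha ha2)).resolve_left ha1
  -- V is elementary abelian
  have hinvz := inverted V (show z * z = 1 by rw [← pow_two]; exact hz2) (hfix z hz4 hz1)
  have hVab : IsMulCommutative V := by
    refine ⟨⟨fun a b => Subtype.ext ?_⟩⟩
    show (a : G) * b = b * a
    calc (a : G) * b = ((a : G) * b)⁻¹⁻¹ := (inv_inv _).symm
      _ = (z * ((a : G) * b) * z⁻¹)⁻¹ := by rw [hinvz _ (mul_mem a.2 b.2)]
      _ = (z * b * z⁻¹)⁻¹ * (z * a * z⁻¹)⁻¹ := by group
      _ = b * a := by rw [hinvz _ b.2, hinvz _ a.2, inv_inv, inv_inv]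
  refine ⟨⟨hVab, fun a ha => hS.three V hV ha⟩, ?_⟩
  -- the quotient has no element of order 3
  haveI : Nontrivial (G ⧸ V) := ⟨⟨π x4, 1, fun e => by
    have := hxV x4 (hx4 ▸ pow_orderOf_eq_one x4) ((QuotientGroup.eq_one_iff x4).1 e)
    rw [this, orderOf_one] at hx4; norm_num at hx4⟩⟩
  have hWb : Cfsg.pCore 2 (G ⧸ V) ≠ ⊥ := hSQ.pCore_cases.resolve_right fun h => h (pCore_quot 3)
  haveI hWn := pCore_normal (G := G ⧸ V) 2
  set W := Cfsg.pCore 2 (G ⧸ V) with hWd
  let SQ : Sylow 2 (G ⧸ V) := S.mapSurjective (QuotientGroup.mk'_surjective V)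
  have hWS : W ≤ (SQ : Subgroup (G ⧸ V)) := by
    obtain ⟨Q, hQ⟩ := (pCore_isPGroup (G := G ⧸ V) 2).exists_le_sylow
    obtain ⟨g, hg⟩ := MulAction.exists_smul_eq (G ⧸ V) Q SQ
    rw [← hg, Sylow.coe_subgroup_smul]
    intro a ha
    rw [mem_conj_smul]
    exact hQ (by simpa using hWn.conj_mem a ha g⁻¹)
  have hzW : π z ∈ W := by
    haveI := (Subgroup.nontrivial_iff_ne_bot W).2 hWb
    obtain ⟨n, hn0, hn⟩ := (pCore_isPGroup (G := G ⧸ V) 2).nontrivial_iff_card.1 ‹_›
    obtain ⟨i, hi⟩ := exists_prime_orderOf_dvd_card' 2 (hn ▸ dvd_pow_self 2 hn0.ne' : 2 ∣ Nat.card W)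
    obtain ⟨s, hs, hsi⟩ := hWS i.2
    have hi2 : (i : G ⧸ V) ^ 2 = 1 := by
      have := pow_orderOf_eq_one (i : G ⧸ V)
      rwa [Subgroup.orderOf_coe, hi] at this
    have hs4 := hS.two S S.isPGroup' hs
    have hs2 : s ^ 2 = 1 := hxV _ (by rw [← pow_mul, show 2 * 4 = 4 * 2 by rfl, pow_mul, hs4, one_pow])
      ((QuotientGroup.eq_one_iff _).1 (by
        show π (s ^ 2) = 1
        rw [map_pow, hsi, hi2]))
    have hs1 : s ≠ 1 := fun e => by
      have : (i : G ⧸ V) = 1 := by rw [← hsi, e, map_one]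
      rw [← Subgroup.orderOf_coe, this, orderOf_one] at hi; norm_num at hi
    rw [← hu1 s hs hs2 hs1]
    exact hsi ▸ i.2
  have hπz1 : π z ≠ 1 := fun e => hz1 (hxV z hz4 ((QuotientGroup.eq_one_iff z).1 e))
  have hcz : ∀ q : G ⧸ V, q * π z * q⁻¹ = π z := by
    intro q
    obtain ⟨s, hs, hsq⟩ := hWS (hWn.conj_mem _ hzW q)
    have hs2 : s ^ 2 = 1 := hxV _ (by
        rw [← pow_mul, show 2 * 4 = 4 * 2 by rfl, pow_mul, hS.two S S.isPGroup' hs, one_pow])
      ((QuotientGroup.eq_one_iff _).1 (by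
        show π (s ^ 2) = 1
        rw [map_pow, hsq, conj_pow, ← map_pow, hz2, map_one, mul_one, mul_inv_cancel]))
    have hs1 : s ≠ 1 := fun e => hπz1 (conj_eq_one_iff.1 (by rw [← hsq, e, map_one]))
    rw [← hsq, hu1 s hs hs2 hs1]
  have hno3 : ∀ q : G ⧸ V, q ^ 3 = 1 → q = 1 := fun q hq =>
    (hSQ.nc (by rw [← map_pow, hz4, map_one]) hq
      (show π z * q = q * π z from (mul_inv_eq_iff_eq_mul.1 (hcz q)).symm)).resolve_left hπz1
  have hQ2 : IsPGroup 2 (G ⧸ V) := fun q => by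
    refine ⟨2, ?_⟩
    rcases hSQ q with h | h
    · simpa using h
    · rw [hno3 q h, one_pow]
  have hStop : (S : Subgroup G).map π = ⊤ :=
    (SQ.is_maximal' (hQ2.to_subgroup ⊤) le_top).symm
  let ψ : (S : Subgroup G) ≃* G ⧸ V := MulEquiv.ofBijective (π.comp (S : Subgroup G).subtype) ⟨by
    rw [← MonoidHom.ker_eq_bot_iff, eq_bot_iff]
    intro a ha
    exact Subgroup.mem_bot.2 (Subtype.ext (hxV a (hS.two S S.isPGroup' a.2)
      ((QuotientGroup.eq_one_iff _).1 ha))), by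
    intro q
    obtain ⟨s, hs, hsq⟩ := (hStop.ge (Subgroup.mem_top q) : q ∈ (S : Subgroup G).map π)
    exact ⟨⟨s, hs⟩, hsq⟩⟩
  have hU : UniqueOrderP 2 (S : Subgroup G) := by
    intro a b ha hb hb1
    by_cases ha1 : a = 1
    · rw [ha1]; exact one_mem _
    have ea := hu1 (a : G) a.2 (by simpa using congrArg Subtype.val ha) fun e => ha1 (Subtype.ext e)
    have eb := hu1 (b : G) b.2 (by simpa using congrArg Subtype.val hb) fun e => hb1 (Subtype.ext e)
    rw [show a = b from Subtype.ext (ea.trans eb.symm)]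
    exact Subgroup.mem_zpowers b
  have hxo : orderOf (⟨x4, hxS⟩ : (S : Subgroup G)) = 4 := by rw [← Subgroup.orderOf_coe]; exact hx4
  have h4S : ∀ a : (S : Subgroup G), orderOf a ∣ 4 := fun a => by
    rw [← Subgroup.orderOf_coe]; exact orderOf_dvd_of_pow_eq_one (hS.two S S.isPGroup' a.2)
  have hcyc : IsCyclic (S : Subgroup G) → IsCyclic (G ⧸ V) ∧ V.index = 4 := by
    intro hc
    refine ⟨isCyclic_of_surjective ψ ψ.surjective, ?_⟩
    rw [Subgroup.index_eq_card, ← Nat.card_congr ψ.toEquiv]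
    obtain ⟨g, hg⟩ := IsCyclic.exists_ofOrder_eq_natCard (α := (S : Subgroup G))
    apply Nat.dvd_antisymm
    · exact hg ▸ h4S g
    · exact hxo ▸ orderOf_dvd_natCard _
  rcases cyclic_or_quaternion S.isPGroup' hU with hc | ⟨-, n, ⟨e⟩⟩
  · exact Or.inl (hcyc hc)
  · haveI : NeZero (2 ^ n) := ⟨pow_ne_zero n two_ne_zero⟩
    have hb : 2 * 2 ^ n ∣ 4 := by
      rw [← QuaternionGroup.orderOf_a_one (n := 2 ^ n)]
      have := h4S (e.symm (QuaternionGroup.a 1))
      rwa [MulEquiv.orderOf_eq] at this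
    rcases n with _ | _ | n
    · refine Or.inl (hcyc ?_)
      refine isCyclic_of_orderOf_eq_card (⟨x4, hxS⟩ : (S : Subgroup G)) ?_
      rw [hxo, Nat.card_congr e.toEquiv, Nat.card_eq_fintype_card, QuaternionGroup.card, pow_zero, mul_one]
    · exact Or.inr ⟨ψ.symm.trans e⟩
    · exfalso
      have := Nat.le_of_dvd (by norm_num) hb
      have h2 : 0 < 2 ^ n := by positivity
      rw [pow_succ, pow_succ] at this
      omega

/-- A finite group whose set of element orders is exactly {1, 2, 3, 4} has a normal subgroup N such that either N is a 2-group of exponent 4 and nilpotency class at most 2 with G/N of order 3, or N is an elementary abelian 2-group with G/N isomorphic to the symmetric group of degree 3, or N is an elementary abelian 3-group with G/N cyclic of order 4 or quaternion of order 8. -/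
theorem result {G : Type*} [Group G] [Finite G] (h : Set.range (orderOf : G → ℕ) = {k : ℕ | 1 ≤ k ∧ k ≤ 4}) :
    ∃ (N : Subgroup G) (_ : N.Normal),
      (IsPGroup 2 ↥N ∧ Monoid.exponent ↥N = 4 ∧ Group.nilpotencyClass ↥N ≤ 2 ∧ N.index = 3) ∨
      (Cfsg.IsElementaryAbelian 2 N ∧ Nonempty (G ⧸ N ≃* Equiv.Perm (Fin 3))) ∨
      (Cfsg.IsElementaryAbelian 3 N ∧ ((IsCyclic (G ⧸ N) ∧ N.index = 4) ∨ Nonempty (G ⧸ N ≃* QuaternionGroup 2))) := by
  have hr : ∀ k : ℕ, (∃ x : G, orderOf x = k) ↔ 1 ≤ k ∧ k ≤ 4 := fun k => Set.ext_iff.1 h k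
  have hS : Spec G := by
    intro x
    have := (hr (orderOf x)).1 ⟨x, rfl⟩
    rcases (show orderOf x = 1 ∨ orderOf x = 2 ∨ orderOf x = 3 ∨ orderOf x = 4 by omega) with e | e | e | e
    · exact Or.inl (orderOf_dvd_iff_pow_eq_one.1 (e ▸ one_dvd 4))
    · exact Or.inl (orderOf_dvd_iff_pow_eq_one.1 (e ▸ by norm_num))
    · exact Or.inr (orderOf_dvd_iff_pow_eq_one.1 (e ▸ dvd_rfl))
    · exact Or.inl (orderOf_dvd_iff_pow_eq_one.1 (e ▸ dvd_rfl))
  by_cases h2 : Cfsg.pCore 2 G = ⊥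
  · obtain ⟨N, hN, h'⟩ := case_three hS ((hr 4).2 (by omega)) h2
    exact ⟨N, hN, Or.inr (Or.inr h')⟩
  · obtain ⟨N, hN, h'⟩ := case_two hS ((hr 4).2 (by omega)) ((hr 3).2 (by omega)) h2
    exact ⟨N, hN, h'.imp id Or.inl⟩

end Cfsg.Agent.S4006
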