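import Cfsg.Statements.S4010
import Cfsg.Agent.Lib.Solv.CoprimeRep

set_option autoImplicit false
set_option linter.style.haveILetI false
open Cfsg

open scoped Pointwise commutatorElement

namespace Cfsg.Agent.S4010

open Cfsg.Agent.Solv.CRep

universe u v w

theorem derived_succ_le {P : Type u} [Group P] (b : ℕ) :
    derivedSeries P (b + 1) ≤ (derivedSeries (commutator P) b).map (commutator P).subtype := by
  induction b with
  | zero =>
    rw [derivedSeries_zero, derivedSeries_one, ← MonoidHom.range_eq_map, Subgroup.range_subtype]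
  | succ b ih =>
    rw [derivedSeries_succ P (b + 1), derivedSeries_succ (↥(commutator P)) b, Subgroup.map_commutator]
    exact Subgroup.commutator_mono ih ih

theorem exists_fixed {K : Type v} [Field K] {V : Type w} [AddCommGroup V] [Module K V] [Nontrivial V]
    {P : Type u} [Group P] [Finite P] {p : ℕ} [Fact p.Prime] (hP : IsPGroup p P)
    (hpK : (p : K) = 0) (ρ : P →* Module.End K V) : ∃ v : V, v ≠ 0 ∧ ∀ g, ρ g v = v := by
  obtain ⟨v, hv⟩ := exists_ne (0 : V)
  have hpv : ∀ w : V, p • w = 0 := fun w => by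
    rw [← Nat.cast_smul_eq_nsmul K, hpK, zero_smul]
  obtain ⟨A, hA⟩ : ∃ A : AddSubgroup V, A = AddSubgroup.closure (Set.range fun g => ρ g v) :=
    ⟨_, rfl⟩
  haveI : Finite A := by
    letI : Module (ZMod p) V := AddCommGroup.zmodModule (n := p) hpv
    haveI : Module.Finite (ZMod p) (Submodule.span (ZMod p) (Set.range fun g => ρ g v)) :=
      Module.Finite.span_of_finite _ (Set.finite_range _)
    haveI : Finite (Submodule.span (ZMod p) (Set.range fun g => ρ g v)) :=
      Module.finite_of_finite (ZMod p)
    have hle : A ≤ (Submodule.span (ZMod p) (Set.range fun g => ρ g v)).toAddSubgroup := by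
      rw [hA, AddSubgroup.closure_le]; exact Submodule.subset_span
    exact Finite.of_injective _ (AddSubgroup.inclusion_injective hle)
  have hinv : ∀ g : P, ∀ a ∈ A, ρ g a ∈ A := by
    intro g a ha
    rw [hA] at ha ⊢
    refine (AddSubgroup.closure_le (K := (AddSubgroup.closure _).comap (ρ g).toAddMonoidHom)).2 ?_ ha
    rintro _ ⟨h, rfl⟩
    refine AddSubgroup.subset_closure ⟨g * h, ?_⟩
    show ρ (g * h) v = ρ g (ρ h v)
    rw [map_mul, Module.End.mul_apply]
  letI : MulAction P A :=
    { smul := fun g a => ⟨ρ g a, hinv g a a.2⟩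
      one_smul := fun a => Subtype.ext (show ρ 1 (a : V) = a by rw [map_one, Module.End.one_apply])
      mul_smul := fun g h a => Subtype.ext (show ρ (g * h) (a : V) = ρ g (ρ h a) by
        rw [map_mul, Module.End.mul_apply]) }
  have hvA : v ∈ A := hA ▸ AddSubgroup.subset_closure ⟨1, by
    show ρ 1 v = v
    rw [map_one, Module.End.one_apply]⟩
  have hdvd : p ∣ Nat.card A := by
    have h1 : addOrderOf (⟨v, hvA⟩ : A) = p :=
      addOrderOf_eq_prime (Subtype.ext (hpv v)) fun h => hv (congrArg Subtype.val h)
    exact h1 ▸ addOrderOf_dvd_natCard _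
  obtain ⟨b, hb, hne⟩ := hP.exists_fixed_point_of_prime_dvd_card_of_fixed_point A hdvd
    (a := (0 : A)) (fun g => Subtype.ext (map_zero (ρ g)))
  exact ⟨b, fun h => hne (Subtype.ext h.symm), fun g => congrArg Subtype.val (hb g)⟩

/-- In the natural characteristic a `p`-group has invariant subspaces of all dimensions. -/
theorem exists_invariant {K : Type v} [Field K] {V : Type w} [AddCommGroup V] [Module K V]
    [FiniteDimensional K V] {P : Type u} [Group P] [Finite P] {p : ℕ} [Fact p.Prime]
    (hP : IsPGroup p P) (hpK : (p : K) = 0) (ρ : P →* Module.End K V) :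
    ∀ j ≤ Module.finrank K V, ∃ U : Submodule K V,
      Module.finrank K U = j ∧ ∀ g, ∀ w ∈ U, ρ g w ∈ U := by
  intro j
  induction j with
  | zero => exact fun _ => ⟨⊥, finrank_bot K V, fun g w hw => by simp_all⟩
  | succ j ih =>
    intro hj
    obtain ⟨U, hUd, hU⟩ := ih (by omega)
    haveI : Nontrivial (V ⧸ U) := by
      rw [← Module.finrank_pos_iff (R := K)]
      have := U.finrank_quotient_add_finrank
      omega
    let ρ' : P →* Module.End K (V ⧸ U) :=
      { toFun := fun g => U.mapQ U (ρ g) (fun w hw => hU g w hw)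
        map_one' := Submodule.linearMap_qext _ (LinearMap.ext fun w => by simp)
        map_mul' := fun a b => Submodule.linearMap_qext _ (LinearMap.ext fun w => by simp) }
    obtain ⟨wbar, hw0, hwfix⟩ := exists_fixed hP hpK ρ'
    obtain ⟨w, rfl⟩ := Submodule.Quotient.mk_surjective U wbar
    have hwU : w ∉ U := fun h => hw0 ((Submodule.Quotient.mk_eq_zero U).2 h)
    refine ⟨U ⊔ Submodule.span K {w}, ?_, ?_⟩
    · have h1 := Submodule.finrank_sup_add_finrank_inf_eq U (Submodule.span K {w})
      have h2 : U ⊓ Submodule.span K {w} = ⊥ := by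
        rw [eq_bot_iff]
        rintro x ⟨hxU, hxw⟩
        obtain ⟨c, rfl⟩ := Submodule.mem_span_singleton.1 hxw
        rcases eq_or_ne c 0 with hc | hc
        · simp [hc]
        · exact absurd ((U.smul_mem_iff hc).1 hxU) hwU
      rw [h2, finrank_bot, finrank_span_singleton (fun h => hwU (by rw [h]; exact U.zero_mem))] at h1
      omega
    · intro g x hx
      obtain ⟨a, ha, b, hb, rfl⟩ := Submodule.mem_sup.1 hx
      obtain ⟨c, rfl⟩ := Submodule.mem_span_singleton.1 hb
      rw [map_add, map_smul]
      have h1 : ρ g w - w ∈ U := (Submodule.Quotient.eq U).1 (hwfix g)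
      have h2 : ρ g a + c • ρ g w = (ρ g a + c • (ρ g w - w)) + c • w := by
        rw [smul_sub]; abel
      rw [h2]
      exact add_mem (Submodule.mem_sup_left (add_mem (hU g a ha) (U.smul_mem c h1)))
        (Submodule.mem_sup_right (Submodule.smul_mem _ c (Submodule.mem_span_singleton_self w)))

theorem char_case {K : Type v} [Field K] {P : Type u} [Group P] [Finite P] {p : ℕ} [Fact p.Prime]
    (hP : IsPGroup p P) (hpK : (p : K) = 0) :
    ∀ (j : ℕ) {V : Type w} [AddCommGroup V] [Module K V] [FiniteDimensional K V]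
      (ρ : P →* Module.End K V), Module.finrank K V ≤ 2 ^ j → ∀ g ∈ derivedSeries P j, ρ g = 1 := by
  intro j
  induction j with
  | zero =>
    intro V _ _ _ ρ hV g _
    rcases subsingleton_or_nontrivial V with h | h
    · exact LinearMap.ext fun v => Subsingleton.elim _ _
    obtain ⟨v, hv0, hv⟩ := exists_fixed hP hpK ρ
    obtain ⟨u₀, hu₀⟩ := finrank_le_one_iff.1 (by simpa using hV)
    refine LinearMap.ext fun w => ?_
    obtain ⟨a, ha⟩ := hu₀ v
    have ha0 : a ≠ 0 := fun h0 => hv0 (by rw [← ha, h0, zero_smul])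
    obtain ⟨b, rfl⟩ := hu₀ w
    rw [Module.End.one_apply, show b • u₀ = (b * a⁻¹) • v by
      rw [← ha, smul_smul, mul_assoc, inv_mul_cancel₀ ha0, mul_one], map_smul, hv]
  | succ j ih =>
    intro V _ _ _ ρ hV g hg
    obtain ⟨U, hUd, hU⟩ := exists_invariant hP hpK ρ (min (2 ^ j) (Module.finrank K V)) (min_le_right _ _)
    let ρ' : P →* Module.End K (V ⧸ U) :=
      { toFun := fun g => U.mapQ U (ρ g) (fun w hw => hU g w hw)
        map_one' := Submodule.linearMap_qext _ (LinearMap.ext fun w => by simp)
        map_mul' := fun a b => Submodule.linearMap_qext _ (LinearMap.ext fun w => by simp) }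
    have h1 := ih (subRep ρ U hU) (by rw [hUd]; exact min_le_left _ _)
    have h2 := ih ρ' (by
      have := U.finrank_quotient_add_finrank
      rw [pow_succ] at hV
      omega)
    have hA : ∀ a ∈ derivedSeries P j, ∀ v : V, ρ a v - v ∈ U := fun a ha v =>
      (Submodule.Quotient.eq U).1 (LinearMap.congr_fun (h2 a ha) (Submodule.Quotient.mk v))
    have hB : ∀ a ∈ derivedSeries P j, ∀ v ∈ U, ρ a v = v := fun a ha v hv =>
      congrArg Subtype.val (LinearMap.congr_fun (h1 a ha) ⟨v, hv⟩)
    have hker : derivedSeries P (j + 1) ≤ ρ.ker := by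
      rw [derivedSeries_succ, Subgroup.commutator_le]
      intro a ha b hb
      have hab : ρ a * ρ b = ρ b * ρ a := by
        refine LinearMap.ext fun v => ?_
        rw [Module.End.mul_apply, Module.End.mul_apply]
        have e1 : ρ a (ρ b v) = ρ a v + (ρ b v - v) := by
          rw [← hB a ha _ (hA b hb v), map_sub]; abel
        have e2 : ρ b (ρ a v) = ρ b v + (ρ a v - v) := by
          rw [← hB b hb _ (hA a ha v), map_sub]; abel
        rw [e1, e2]; abel
      rw [MonoidHom.mem_ker, commutatorElement_def, map_mul, map_mul, map_mul, hab,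
        mul_assoc (ρ b), ← map_mul ρ a, mul_inv_cancel, map_one, mul_one, ← map_mul, mul_inv_cancel,
        map_one]
    exact MonoidHom.mem_ker.1 (hker hg)

theorem coprime_case {K : Type v} [Field K] [IsAlgClosed K] {p : ℕ} [Fact p.Prime]
    (hpK : (p : K) ≠ 0) :
    ∀ (n : ℕ) {P : Type u} [Group P] [Finite P], IsPGroup p P →
      ∀ {V : Type w} [AddCommGroup V] [Module K V] [FiniteDimensional K V]
        (ρ : P →* Module.End K V), Module.finrank K V ≤ n →
        ∀ g ∈ derivedSeries P (Nat.log 2 n + 1), ρ g = 1 := by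
  intro n
  induction n using Nat.strong_induction_on with
  | _ n ih =>
    intro P _ _ hP V _ _ _ ρ hV
    haveI := derivedSeries_normal P (Nat.log 2 n + 1)
    refine triv_of_simple ρ _ ?_ fun U hU hs k hk u hu => ?_
    · obtain ⟨m, hm⟩ := (hP.to_subgroup (derivedSeries P (Nat.log 2 n + 1))).exists_card_eq
      rw [hm, Nat.cast_pow]; exact pow_ne_zero _ hpK
    have hUn : Module.finrank K U ≤ n := (Submodule.finrank_le U).trans hV
    suffices hker : derivedSeries P (Nat.log 2 n + 1) ≤ (subRep ρ U hU).ker by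
      have h := congrArg Subtype.val (LinearMap.congr_fun (MonoidHom.mem_ker.1 (hker hk)) ⟨u, hu⟩)
      simpa [subRep_apply] using h
    clear hk hu u k
    obtain ⟨σ, hσ⟩ : ∃ σ, σ = subRep ρ U hU := ⟨_, rfl⟩
    rw [← hσ] at hs ⊢
    haveI := hs.1
    haveI : Group.IsNilpotent P := hP.isNilpotent
    by_cases hab : ∀ a b : P, σ a * σ b = σ b * σ a
    · refine (derivedSeries_antitone P (Nat.succ_le_succ (Nat.zero_le _))).trans ?_
      rw [derivedSeries_one, commutator_def, Subgroup.commutator_le]
      intro a _ b _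
      rw [MonoidHom.mem_ker, commutatorElement_def, map_mul, map_mul, map_mul, hab a b,
        mul_assoc (σ b), ← map_mul σ a, mul_inv_cancel, map_one, mul_one, ← map_mul, mul_inv_cancel,
        map_one]
    -- an element whose image is not scalar but commutes with the image up to scalars
    obtain ⟨g, hgns, hgc⟩ : ∃ g : P, (¬ ∀ h, σ h * σ g = σ g * σ h) ∧
        ∀ h, ∀ a, σ a * σ ⁅h, g⁆ = σ ⁅h, g⁆ * σ a := by
      obtain ⟨C, hC⟩ : ∃ C : Subgroup P, ∀ x, x ∈ C ↔ ∀ h, σ h * σ x = σ x * σ h :=
        ⟨{ carrier := {x | ∀ h, σ h * σ x = σ x * σ h}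
           mul_mem' := fun {x y} hx hy h => by
             rw [map_mul, ← mul_assoc, hx h, mul_assoc, hy h, mul_assoc]
           one_mem' := fun h => by rw [map_one, one_mul, mul_one]
           inv_mem' := fun {x} hx h => by
             have e : σ x⁻¹ * σ x = 1 := by rw [← map_mul, inv_mul_cancel, map_one]
             have e' : σ x * σ x⁻¹ = 1 := by rw [← map_mul, mul_inv_cancel, map_one]
             calc σ h * σ x⁻¹ = σ x⁻¹ * σ x * (σ h * σ x⁻¹) := by rw [e, one_mul]
               _ = σ x⁻¹ * (σ h * σ x) * σ x⁻¹ := by rw [hx h]; simp only [mul_assoc]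
               _ = σ x⁻¹ * σ h := by simp only [mul_assoc, e', mul_one] }, fun x => Iff.rfl⟩
      have hCn : C.Normal := ⟨fun x hx y => by
        rw [hC] at hx ⊢
        intro h
        have e : σ (y * x * y⁻¹) = σ x := by
          rw [map_mul, map_mul, hx y, mul_assoc, ← map_mul, mul_inv_cancel, map_one, mul_one]
        rw [e, hx h]⟩
      have hne : C ≠ ⊤ := fun h => hab fun a b => ((hC b).1 (h ▸ Subgroup.mem_top b)) a
      haveI : Nontrivial (P ⧸ C) := QuotientGroup.nontrivial_iff.2 hne
      obtain ⟨gb, hg, hg1⟩ := (Subgroup.bot_or_exists_ne_one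
        (Subgroup.center (P ⧸ C))).resolve_left (Group.IsNilpotent.center_ne_bot _)
      obtain ⟨g, rfl⟩ := QuotientGroup.mk_surjective gb
      refine ⟨g, fun h => hg1 ((QuotientGroup.eq_one_iff g).2 ((hC g).2 h)), fun h a => ?_⟩
      refine (hC _).1 ((QuotientGroup.eq_one_iff _).1 ?_) a
      rw [← QuotientGroup.mk'_apply, map_commutatorElement, commutatorElement_eq_one_iff_mul_comm]
      exact Subgroup.mem_center_iff.1 hg _
    have hchi : ∀ h, ∃ c : K, c ≠ 0 ∧ σ h * σ g = c • (σ g * σ h) := by
      intro h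
      obtain ⟨c, hc⟩ := schur hs (σ ⁅h, g⁆) fun a => (hgc h a).symm
      refine ⟨c, fun h0 => ?_, ?_⟩
      · obtain ⟨w, hw⟩ := exists_ne (0 : U)
        refine hw (rep_injective σ ⁅h, g⁆ ?_)
        rw [hc, h0, zero_smul, LinearMap.zero_apply, LinearMap.zero_apply]
      · rw [← map_mul, ← map_mul, show h * g = ⁅h, g⁆ * (g * h) by rw [commutatorElement_def]; group,
          map_mul σ ⁅h, g⁆, hc, smul_mul_assoc, one_mul]
    have heig : ∀ (h : P) (μ : K), ∀ w ∈ Module.End.eigenspace (σ g) μ, ∀ c : K, c ≠ 0 →
        σ h * σ g = c • (σ g * σ h) → σ h w ∈ Module.End.eigenspace (σ g) (μ / c) := by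
      intro h μ w hw c hc0 hc
      rw [Module.End.mem_eigenspace_iff] at hw ⊢
      have h1 := LinearMap.congr_fun hc w
      rw [LinearMap.smul_apply, Module.End.mul_apply, Module.End.mul_apply, hw, map_smul] at h1
      rw [div_eq_inv_mul, ← smul_smul, h1, smul_smul, inv_mul_cancel₀ hc0, one_smul]
    have htop : (⨆ μ : K, Module.End.eigenspace (σ g) μ) = ⊤ := by
      refine (hs.2 _ fun h w hw => ?_).resolve_left fun hb => ?_
      · induction hw using Submodule.iSup_induction' with
        | mem μ x hx =>
          obtain ⟨c, hc0, hc⟩ := hchi h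
          exact Submodule.mem_iSup_of_mem _ (heig h μ x hx c hc0 hc)
        | zero => rw [map_zero]; exact zero_mem _
        | add x y _ _ hx hy => rw [map_add]; exact add_mem hx hy
      · obtain ⟨μ, hμ⟩ := Module.End.exists_eigenvalue (σ g)
        exact hμ (le_bot_iff.1 ((le_iSup (fun μ => Module.End.eigenspace (σ g) μ) μ).trans hb.le))
    have hDc : ∀ d ∈ commutator P, σ d * σ g = σ g * σ d := by
      obtain ⟨M, hM⟩ : ∃ M : Subgroup P, ∀ d, d ∈ M ↔ σ d * σ g = σ g * σ d :=
        ⟨{ carrier := {d | σ d * σ g = σ g * σ d}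
           mul_mem' := fun {x y} hx hy => by
             show σ (x * y) * σ g = σ g * σ (x * y)
             rw [map_mul, mul_assoc, show σ y * σ g = σ g * σ y from hy, ← mul_assoc,
               show σ x * σ g = σ g * σ x from hx, mul_assoc]
           one_mem' := by show σ 1 * σ g = σ g * σ 1; rw [map_one, one_mul, mul_one]
           inv_mem' := fun {x} hx => by
             show σ x⁻¹ * σ g = σ g * σ x⁻¹
             calc σ x⁻¹ * σ g = σ x⁻¹ * (σ g * σ x) * σ x⁻¹ := by
                   rw [mul_assoc, mul_assoc, ← map_mul σ x, mul_inv_cancel, map_one, mul_one]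
               _ = σ g * σ x⁻¹ := by
                   rw [← show σ x * σ g = σ g * σ x from hx, ← mul_assoc, ← map_mul, inv_mul_cancel,
                     map_one, one_mul] }, fun d => Iff.rfl⟩
      intro d hd
      rw [commutator_def] at hd
      refine (hM d).1 ((Subgroup.commutator_le (H₃ := M)).2 (fun a _ b _ => ?_) hd)
      rw [hM]
      have key : ∀ a b : P, ∀ ca cb : K, σ a * σ g = ca • (σ g * σ a) → σ b * σ g = cb • (σ g * σ b) →
          σ (a * b) * σ g = (ca * cb) • (σ g * σ (a * b)) := by
        intro a b ca cb ha hb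
        rw [map_mul, mul_assoc, hb, mul_smul_comm, ← mul_assoc, ha, smul_mul_assoc, smul_smul,
          mul_assoc, mul_comm cb]
      obtain ⟨ca, hca0, hca⟩ := hchi a
      obtain ⟨cb, hcb0, hcb⟩ := hchi b
      obtain ⟨ca', -, hca'⟩ := hchi a⁻¹
      obtain ⟨cb', -, hcb'⟩ := hchi b⁻¹
      have huniq : ∀ c : K, σ (1 : P) * σ g = c • (σ g * σ (1 : P)) → c = 1 := by
        intro c hc
        obtain ⟨w, hw⟩ := exists_ne (0 : U)
        have h1 := LinearMap.congr_fun hc w
        rw [map_one, one_mul, mul_one, LinearMap.smul_apply] at h1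
        by_contra hc1
        have h2 : (c - 1) • σ g w = 0 := by rw [sub_smul, one_smul, ← h1, sub_self]
        exact hw (rep_injective σ g (((smul_eq_zero.1 h2).resolve_left
          (sub_ne_zero.2 hc1)).trans (map_zero _).symm))
      have ha1 : ca * ca' = 1 := huniq _ (by
        have := key a a⁻¹ ca ca' hca hca'; rwa [mul_inv_cancel] at this)
      have hb1 : cb * cb' = 1 := huniq _ (by
        have := key b b⁻¹ cb cb' hcb hcb'; rwa [mul_inv_cancel] at this)
      rw [commutatorElement_def, key _ _ _ _ (key _ _ _ _ (key _ _ _ _ hca hcb) hca') hcb',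
        show ca * cb * ca' * cb' = (ca * ca') * (cb * cb') by ring, ha1, hb1, mul_one, one_smul]
    -- eigenspaces have at most half the dimension
    have hhalf : ∀ μ, Module.finrank K (Module.End.eigenspace (σ g) μ) ≤ n / 2 := by
      intro μ
      rcases eq_or_ne (Module.End.eigenspace (σ g) μ) ⊥ with h | h
      · rw [h, finrank_bot]; exact Nat.zero_le _
      obtain ⟨h₁, c, hc0, hc, hc1⟩ : ∃ h₁ : P, ∃ c : K, c ≠ 0 ∧
          σ h₁ * σ g = c • (σ g * σ h₁) ∧ c ≠ 1 := by
        by_contra hcon
        push Not at hcon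
        refine hgns fun h₁ => ?_
        obtain ⟨c, hc0, hc⟩ := hchi h₁
        rw [hc, hcon h₁ c hc0 hc, one_smul]
      have hμ0 : μ ≠ 0 := fun h0 => h ((Submodule.eq_bot_iff _).2 fun w hw => rep_injective σ g (by
        rw [Module.End.mem_eigenspace_iff.1 hw, h0, zero_smul, map_zero]))
      have hdisj : Module.End.eigenspace (σ g) μ ⊓ Module.End.eigenspace (σ g) (μ / c) = ⊥ := by
        rw [eq_bot_iff]
        rintro w ⟨h1, h2⟩
        have h3 := (Module.End.mem_eigenspace_iff.1 h1).symm.trans (Module.End.mem_eigenspace_iff.1 h2)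
        rw [Submodule.mem_bot]
        by_contra hw
        have h4 := smul_left_injective K hw h3
        refine hc1 ?_
        field_simp at h4
        exact h4
      let f : Module.End.eigenspace (σ g) μ →ₗ[K] Module.End.eigenspace (σ g) (μ / c) :=
        (σ h₁).restrict fun w hw => heig h₁ μ w hw c hc0 hc
      have hfle := LinearMap.finrank_le_finrank_of_injective (f := f) (fun a b hab =>
        Subtype.ext (rep_injective σ h₁ (congrArg Subtype.val hab)))
      have h2 := Submodule.finrank_sup_add_finrank_inf_eq (Module.End.eigenspace (σ g) μ)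
        (Module.End.eigenspace (σ g) (μ / c))
      rw [hdisj, finrank_bot] at h2
      have h3 := Submodule.finrank_le
        (Module.End.eigenspace (σ g) μ ⊔ Module.End.eigenspace (σ g) (μ / c))
      omega
    have hn2 : 2 ≤ n := by
      obtain ⟨μ, hμ⟩ := Module.End.exists_eigenvalue (σ g)
      have h1 := hhalf μ
      have h2 : 0 < Module.finrank K (Module.End.eigenspace (σ g) μ) :=
        Nat.pos_of_ne_zero fun h0 => hμ (Submodule.finrank_eq_zero.1 h0)
      omega
    intro d hd
    obtain ⟨d', hd', rfl⟩ := derived_succ_le (Nat.log 2 n) hd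
    rw [MonoidHom.mem_ker]
    refine LinearMap.ext fun w => ?_
    have hw : w ∈ ⨆ μ : K, Module.End.eigenspace (σ g) μ := htop ▸ Submodule.mem_top
    induction hw using Submodule.iSup_induction' with
    | zero => simp
    | add x y _ _ hx hy => simp only [map_add, hx, hy]
    | mem μ x hx =>
      have hinvμ : ∀ e : commutator P, ∀ v ∈ Module.End.eigenspace (σ g) μ,
          (σ.comp (commutator P).subtype) e v ∈ Module.End.eigenspace (σ g) μ := by
        intro e v hv
        rw [Module.End.mem_eigenspace_iff] at hv ⊢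
        show σ g (σ (e : P) v) = μ • σ (e : P) v
        rw [← Module.End.mul_apply, ← hDc _ e.2, Module.End.mul_apply, hv, map_smul]
      have hlog : Nat.log 2 (n / 2) + 1 = Nat.log 2 n := by
        rw [Nat.log_div_base]
        have := Nat.log_pos one_lt_two hn2
        omega
      have h1 := ih (n / 2) (by omega) (hP.to_subgroup (commutator P))
        (subRep (σ.comp (commutator P).subtype) _ hinvμ) (hhalf μ) d' (by rw [hlog]; exact hd')
      exact congrArg Subtype.val (LinearMap.congr_fun h1 ⟨x, hx⟩)

/-- Let F be a field, n ≥ 1, and P a finite p-group (p a prime) admitting an injective homomorphism into the general linear group of degree n over F. Then the derived length of P is at most ⌊log₂ n⌋ + 1: that term of the derived series of P is trivial. -/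
theorem result {P : Type*} [Group P] [Finite P] (p : ℕ) [Fact p.Prime] (hP : IsPGroup p P) (F : Type*) [Field F] (n : ℕ) (hn : 1 ≤ n) (ρ : P →* Matrix.GeneralLinearGroup (Fin n) F) (hρ : Function.Injective ρ) : derivedSeries P (Nat.log 2 n + 1) = ⊥ := by
  obtain ⟨σ, hσ⟩ : ∃ σ : P →* Module.End (AlgebraicClosure F) (Fin n → AlgebraicClosure F),
      Function.Injective σ := by
    refine ⟨((Matrix.toLinAlgEquiv' : Matrix (Fin n) (Fin n) (AlgebraicClosure F) ≃ₐ[AlgebraicClosure F]
        _).toRingEquiv.toRingHom.comp (algebraMap F (AlgebraicClosure F)).mapMatrix).toMonoidHom.comp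
          ((Units.coeHom (Matrix (Fin n) (Fin n) F)).comp ρ), ?_⟩
    intro a b h
    apply hρ
    apply Units.ext
    exact Matrix.map_injective (algebraMap F (AlgebraicClosure F)).injective
      (Matrix.toLinAlgEquiv'.injective h)
  rw [Subgroup.eq_bot_iff_forall]
  intro g hg
  refine hσ (Eq.trans ?_ (map_one σ).symm)
  have hdim : Module.finrank (AlgebraicClosure F) (Fin n → AlgebraicClosure F) = n := Module.finrank_fin_fun _
  by_cases hpK : (p : AlgebraicClosure F) = 0
  · refine char_case hP hpK (Nat.log 2 n + 1) σ ?_ g hg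
    rw [hdim]
    exact (Nat.lt_pow_succ_log_self one_lt_two n).le
  · exact coprime_case hpK n hP σ hdim.le g hg

end Cfsg.Agent.S4010
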