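import Cfsg.Statements.S4013
import Cfsg.Agent.Lib.Solv.ClassPow

set_option autoImplicit false
open Cfsg

open scoped Pointwise commutatorElement

namespace Cfsg.Agent.S4013

/-- Let G be a finite p-group (p prime) and N < M normal subgroups of G such that for some g ∈ M ∖ N the conjugacy class of g is exactly M ∖ N. Then p = 2 and N has index 2 in M. -/
theorem result {G : Type*} [Group G] [Finite G] (p : ℕ) [Fact p.Prime] (hG : IsPGroup p G) (N M : Subgroup G) [N.Normal] [M.Normal] (hNM : N < M) (g : G) (hgM : g ∈ M) (hgN : g ∉ N) (hcl : {h : G | IsConj g h} = (M : Set G) \ (N : Set G)) : p = 2 ∧ N.relIndex M = 2 := by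
  have hp : p.Prime := Fact.out
  have h1 : (Subgroup.centralizer ({g} : Set G)).index = ((M : Set G) \ N).ncard := by
    rw [← Solv.class_ncard g, ← hcl]
    congr 1
  rw [Set.ncard_sdiff (SetLike.coe_subset_coe.2 hNM.le), ← Nat.card_coe_set_eq, ← Nat.card_coe_set_eq] at h1
  simp only [SetLike.coe_sort_coe] at h1
  obtain ⟨a, ha⟩ := hG.index (Subgroup.centralizer ({g} : Set G))
  rw [ha] at h1
  have h2 : Nat.card (N.subgroupOf M) * (N.subgroupOf M).index = Nat.card M := Subgroup.card_mul_index _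
  rw [Solv.card_subgroupOf hNM.le] at h2
  change Nat.card N * N.relIndex M = Nat.card M at h2
  obtain ⟨b, hb⟩ : ∃ b, N.relIndex M = p ^ b := (hG.to_subgroup M).index (N.subgroupOf M)
  have hr : 2 ≤ N.relIndex M := by
    by_contra h
    have hlt : Nat.card N < Nat.card M := Solv.card_lt_of_lt hNM
    rcases Nat.lt_succ_iff.1 (Nat.lt_of_not_le h) |>.eq_or_lt with h' | h'
    · rw [h', mul_one] at h2; omega
    · rw [Nat.lt_one_iff.1 h', mul_zero] at h2; omega
  have h3 : p ^ a = Nat.card N * (N.relIndex M - 1) := by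
    rw [h1, Nat.mul_sub, mul_one, h2]
  obtain ⟨c, -, hc⟩ := (Nat.dvd_prime_pow hp).1 (h3 ▸ dvd_mul_left (N.relIndex M - 1) (Nat.card N))
  rw [hb] at hc hr ⊢
  have hb0 : b ≠ 0 := by rintro rfl; simp at hr
  by_cases hc0 : c = 0
  · subst hc0
    rw [pow_zero] at hc
    have hpb : p ^ b = 2 := by omega
    have hb1 : b = 1 := by
      by_contra hne
      have h4 : 2 ^ 2 ≤ p ^ b := (Nat.pow_le_pow_left hp.two_le 2).trans
        (Nat.pow_le_pow_right hp.pos (by omega))
      omega
    subst hb1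
    rw [pow_one] at hpb ⊢
    exact ⟨hpb, hpb⟩
  · exfalso
    have d1 : p ∣ p ^ b := dvd_pow_self p hb0
    have d2 : p ∣ p ^ b - 1 := hc ▸ dvd_pow_self p hc0
    have := Nat.dvd_sub d1 d2
    rw [Nat.sub_sub_self (by omega)] at this
    exact hp.ne_one (Nat.dvd_one.1 this)

end Cfsg.Agent.S4013
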