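import Cfsg.Statements.S4014
import Cfsg.Agent.Lib.Solv.Basic
import Cfsg.Agent.Lib.Perm.NilpFrattini

set_option autoImplicit false
set_option linter.style.haveILetI false
open Cfsg

open scoped Pointwise commutatorElement

namespace Cfsg.Agent.S4014


theorem orbit_fixed {p : ℕ} [Fact p.Prime] {Ω : Type*} : ∀ (k : ℕ) {G : Type} [Group G] [Finite G]
    [MulAction G Ω], IsPGroup p G → ∀ ω : Ω, Nat.card (MulAction.orbit G ω) ≤ p ^ k →
      derivedSeries G k ≤ MulAction.stabilizer G ω := by
  intro k
  induction k with
  | zero =>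
    intro G _ _ _ _ ω h
    rw [pow_zero] at h
    have h0 := (MulAction.stabilizer G ω).index_ne_zero_of_finite
    have : (MulAction.stabilizer G ω).index = 1 := by
      have h1 := MulAction.index_stabilizer G ω
      rw [Nat.card_coe_set_eq] at h
      omega
    rw [Subgroup.index_eq_one.1 this]
    exact le_top
  | succ k ih =>
    intro G _ _ _ hG ω h
    have hp : p.Prime := Fact.out
    by_cases htop : MulAction.stabilizer G ω = ⊤
    · rw [htop]; exact le_top
    obtain ⟨M, hM, hle⟩ := (eq_top_or_exists_le_coatom (MulAction.stabilizer G ω)).resolve_left htop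
    haveI : Group.IsNilpotent G := hG.isNilpotent
    haveI hMn : M.Normal := Subgroup.NormalizerCondition.normal_of_coatom M Group.normalizerCondition_of_isNilpotent hM
    have hcom : commutator G ≤ M := Perm.commutator_le_of_normal_coatom hM
    have hder : ∀ i, derivedSeries G (i + 1) ≤ (derivedSeries M i).map M.subtype := by
      intro i
      induction i with
      | zero =>
        rw [derivedSeries_zero, derivedSeries_one, ← MonoidHom.range_eq_map, Subgroup.range_subtype]
        exact hcom
      | succ i ih2 =>
        rw [derivedSeries_succ, derivedSeries_succ M, Subgroup.map_commutator]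
        exact Subgroup.commutator_mono ih2 ih2
    have hidx : M.index ≠ 1 := fun e => hM.1 (Subgroup.index_eq_one.1 e)
    have hp2 : p ≤ M.index := by
      obtain ⟨j, hj⟩ := hG.index M
      rw [hj] at hidx ⊢
      exact Nat.le_self_pow (fun h0 => hidx (by rw [h0, pow_zero])) p
    have hsub : Nat.card (MulAction.orbit M ω) ≤ p ^ k := by
      have h1 := MulAction.index_stabilizer M ω
      have h2 := MulAction.index_stabilizer G ω
      have h3 : (MulAction.stabilizer M ω) = (MulAction.stabilizer G ω).subgroupOf M := rfl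
      rw [Nat.card_coe_set_eq, ← h1, h3]
      rw [Nat.card_coe_set_eq, ← h2] at h
      have h4 := Subgroup.relIndex_mul_index hle
      rw [← h4, pow_succ] at h
      exact Nat.le_of_mul_le_mul_right ((Nat.mul_le_mul_left _ hp2).trans h) hp.pos
    intro g hg
    obtain ⟨g', hg', rfl⟩ := hder k hg
    exact ih (hG.to_subgroup M) ω hsub hg'

/-- Block-diagonal permutations of `ZMod p × X`. -/
def blockHom (p : ℕ) (X : Type) : (ZMod p → Equiv.Perm X) →* Equiv.Perm (ZMod p × X) where
  toFun f := Equiv.prodShear (Equiv.refl (ZMod p)) f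
  map_one' := by ext ⟨i, x⟩ <;> rfl
  map_mul' f g := by ext ⟨i, x⟩ <;> rfl

theorem lower {p : ℕ} [Fact p.Prime] : ∀ k : ℕ, ∃ (X : Type) (_ : Fintype X), Fintype.card X = p ^ (k + 1) ∧
    ∃ S : Subgroup (Equiv.Perm X), IsPGroup p S ∧ derivedSeries S k ≠ ⊥ := by
  intro k
  have hp : p.Prime := Fact.out
  haveI : NeZero p := ⟨hp.ne_zero⟩
  induction k with
  | zero =>
    refine ⟨ZMod p, inferInstance, by rw [ZMod.card, zero_add, pow_one],
      Subgroup.zpowers (Equiv.addRight (1 : ZMod p)), ?_, ?_⟩
    · refine IsPGroup.of_card (n := 1) ?_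
      rw [Nat.card_zpowers, pow_one]
      refine orderOf_eq_prime ?_ ?_
      · have hj : ∀ (j : ℕ) (i : ZMod p), (Equiv.addRight (1 : ZMod p) ^ j) i = i + j := by
          intro j
          induction j with
          | zero => intro i; simp
          | succ j ihj =>
            intro i
            rw [pow_succ, Equiv.Perm.mul_apply, ihj]
            push_cast
            show i + 1 + (j : ZMod p) = _
            ring
        ext i; simp [hj]
      · intro h
        have := Equiv.ext_iff.1 h 0
        simp at this
    · rw [derivedSeries_zero]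
      intro h
      have h0 : (⟨_, Subgroup.mem_zpowers (Equiv.addRight (1 : ZMod p))⟩ :
        Subgroup.zpowers (Equiv.addRight (1 : ZMod p))) ∈ (⊤ : Subgroup _) := Subgroup.mem_top _
      rw [h, Subgroup.mem_bot] at h0
      have := Equiv.ext_iff.1 (congrArg Subtype.val h0) 0
      simp at this
  | succ k ih =>
    obtain ⟨X, hX, hcard, A, hA, hne⟩ := ih
    classical
    refine ⟨ZMod p × X, inferInstance, by rw [Fintype.card_prod, ZMod.card, hcard, ← pow_succ'], ?_⟩
    set D := blockHom p X with hD
    set s : Equiv.Perm (ZMod p × X) := Equiv.prodCongr (Equiv.addRight (1 : ZMod p)) (Equiv.refl X) with hs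
    have hconj : ∀ f : ZMod p → Equiv.Perm X, s * D f * s⁻¹ = D (fun i => f (i - 1)) := by
      intro f
      rw [mul_inv_eq_iff_eq_mul]
      ext ⟨i, x⟩
      · rfl
      · show f i x = f (i + 1 - 1) x
        rw [add_sub_cancel_right]
    set B : Subgroup (Equiv.Perm (ZMod p × X)) := (Subgroup.pi Set.univ (fun _ : ZMod p => A)).map D with hB
    have hBp : IsPGroup p B := by
      rintro ⟨_, f, hf, rfl⟩
      obtain ⟨N, hN⟩ := IsPGroup.iff_card.1 hA
      refine ⟨N, Subtype.ext ?_⟩
      show D f ^ p ^ N = 1
      rw [← map_pow]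
      have : f ^ p ^ N = 1 := by
        funext i
        have h1 : (⟨f i, hf i (Set.mem_univ _)⟩ : A) ^ Nat.card A = 1 := pow_card_eq_one'
        rw [hN] at h1
        exact congrArg Subtype.val h1
      rw [this, map_one]
    have hsB : Subgroup.zpowers s ≤ Subgroup.normalizer (B : Set (Equiv.Perm (ZMod p × X))) := by
      rw [Subgroup.zpowers_le]
      refine Solv.mem_normalizer_of_conj_smul (Subgroup.eq_of_le_of_card_ge ?_
        (by rw [Solv.card_conj_smul]))
      intro x hx
      rw [Solv.mem_conj_smul] at hx
      obtain ⟨f, hf, hfx⟩ := hx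
      refine ⟨fun i => f (i - 1), fun i _ => hf (i - 1) (Set.mem_univ _), ?_⟩
      rw [← hconj, hfx]
      group
    have hsp : IsPGroup p (Subgroup.zpowers s) := by
      refine IsPGroup.of_card (n := 1) ?_
      rw [Nat.card_zpowers, pow_one]
      refine orderOf_eq_prime ?_ ?_
      · have : ∀ j : ℕ, ∀ z : ZMod p × X, (s ^ j) z = (z.1 + j, z.2) := by
          intro j
          induction j with
          | zero => intro z; simp
          | succ j ihj =>
            intro z
            rw [pow_succ, Equiv.Perm.mul_apply, ihj]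
            push_cast
            exact Prod.ext (by show z.1 + 1 + (j : ZMod p) = _; ring) rfl
        ext z <;> simp [this]
      · intro h
        have hXne : Nonempty X := Fintype.card_pos_iff.1 (by rw [hcard]; exact pow_pos hp.pos _)
        obtain ⟨x⟩ := hXne
        have := congrArg Prod.fst (Equiv.ext_iff.1 h (0, x))
        simp [hs] at this
    set S := B ⊔ Subgroup.zpowers s with hS
    refine ⟨S, hBp.to_sup_of_normal_left' hsp hsB, ?_⟩
    -- projections of the derived series
    let L : ℕ → Subgroup (ZMod p → Equiv.Perm X) := fun i =>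
      (((derivedSeries S (i + 1)).map S.subtype).comap D) ⊓ Subgroup.pi Set.univ (fun _ => A)
    let ev : (ZMod p → Equiv.Perm X) →* Equiv.Perm X := Pi.evalMonoidHom (fun _ => Equiv.Perm X) 1
    have key : ∀ i, (derivedSeries A i).map A.subtype ≤ (L i).map ev := by
      intro i
      induction i with
      | zero =>
        rintro _ ⟨⟨a, ha⟩, -, rfl⟩
        set δ : ZMod p → Equiv.Perm X := Pi.mulSingle 0 a with hδ
        have hδA : δ ∈ Subgroup.pi Set.univ (fun _ => A) := by
          intro j _
          by_cases hj : j = 0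
          · subst hj; simpa [hδ] using ha
          · simp [hδ, hj]
        refine ⟨(fun j => δ (j - 1)) * δ⁻¹, ⟨?_, fun j _ => ?_⟩, ?_⟩
        · show D _ ∈ (derivedSeries S (0 + 1)).map S.subtype
          rw [map_mul, map_inv, ← hconj, derivedSeries_one]
          refine ⟨⁅(⟨s, Subgroup.mem_sup_right (Subgroup.mem_zpowers s)⟩ : S),
            ⟨D δ, Subgroup.mem_sup_left ⟨δ, hδA, rfl⟩⟩⁆, ?_, ?_⟩
          · exact Subgroup.commutator_mem_commutator (Subgroup.mem_top _) (Subgroup.mem_top _)
          · simp [commutatorElement_def]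
        · exact A.mul_mem (hδA (j - 1) (Set.mem_univ _)) (A.inv_mem (hδA j (Set.mem_univ _)))
        · show δ (1 - 1) * (δ 1)⁻¹ = a
          simp [hδ]
      | succ i ihi =>
        rw [derivedSeries_succ, Subgroup.map_commutator]
        refine (Subgroup.commutator_mono ihi ihi).trans ?_
        rw [← Subgroup.map_commutator]
        refine Subgroup.map_mono (le_inf ?_ ?_)
        · rw [← Subgroup.map_le_iff_le_comap, Subgroup.map_commutator, derivedSeries_succ S (i + 1),
            Subgroup.map_commutator]
          exact Subgroup.commutator_mono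
            ((Subgroup.map_mono inf_le_left).trans (Subgroup.map_comap_le _ _))
            ((Subgroup.map_mono inf_le_left).trans (Subgroup.map_comap_le _ _))
        · exact (Subgroup.commutator_mono inf_le_right inf_le_right).trans (Subgroup.commutator_le_self _)
    intro h
    apply hne
    have h1 := key k
    have h2 : (L k).map ev ≤ ⊥ := by
      rintro _ ⟨f, ⟨hf, -⟩, rfl⟩
      rw [Subgroup.mem_bot]
      have hf' : D f ∈ (derivedSeries S (k + 1)).map S.subtype := hf
      rw [h, Subgroup.map_bot, Subgroup.mem_bot] at hf'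
      ext x
      exact congrArg Prod.snd (Equiv.ext_iff.1 hf' ((1 : ZMod p), x))
    exact (Subgroup.map_eq_bot_iff_of_injective _ A.subtype_injective).1 (eq_bot_iff.2 (h1.trans h2))

/-- Let p be a prime, n ≥ 1, and P a Sylow p-subgroup of the symmetric group on n letters. Then the derived length of P is exactly k = ⌊log_p n⌋ (the largest k with p^k ≤ n): the k-th derived subgroup of P is trivial and, when k ≥ 1, the (k−1)-st is not. -/
theorem result (p : ℕ) [Fact p.Prime] (n : ℕ) (hn : 1 ≤ n) (P : Sylow p (Equiv.Perm (Fin n))) : derivedSeries ↥(P : Subgroup (Equiv.Perm (Fin n))) (Nat.log p n) = ⊥ ∧ (1 ≤ Nat.log p n → derivedSeries ↥(P : Subgroup (Equiv.Perm (Fin n))) (Nat.log p n - 1) ≠ ⊥) := by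
  have hp : p.Prime := Fact.out
  constructor
  · rw [Subgroup.eq_bot_iff_forall]
    intro x hx
    refine Subtype.ext (Equiv.ext fun ω => ?_)
    have hle : Nat.card (MulAction.orbit ↥(P : Subgroup (Equiv.Perm (Fin n))) ω) ≤ p ^ Nat.log p n := by
      have h1 : Nat.card (MulAction.orbit ↥(P : Subgroup (Equiv.Perm (Fin n))) ω) ≤ n := by
        refine (Finite.card_subtype_le _).trans_eq (Nat.card_fin n)
      obtain ⟨j, hj⟩ := P.2.card_orbit ω
      rw [hj] at h1 ⊢
      exact Nat.pow_le_pow_right hp.pos (Nat.le_log_of_pow_le hp.one_lt h1)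
    exact orbit_fixed (Nat.log p n) P.2 ω hle hx
  · intro hk h
    obtain ⟨X, hX, hcard, S, hS, hne⟩ := lower (p := p) (Nat.log p n - 1)
    classical
    obtain ⟨e⟩ : Nonempty (X ↪ Fin n) := Function.Embedding.nonempty_of_card_le (by
      rw [hcard, Fintype.card_fin, Nat.sub_add_cancel hk]
      exact Nat.pow_log_le_self p (by omega))
    let φ := (Equiv.Perm.viaEmbeddingHom e).comp S.subtype
    have hφ : Function.Injective φ :=
      (Equiv.Perm.viaEmbeddingHom_injective e).comp S.subtype_injective
    obtain ⟨Q, hQ⟩ := (hS.of_surjective φ.rangeRestrict φ.rangeRestrict_surjective).exists_le_sylow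
    let ψ : ↥S →* ↥(P : Subgroup (Equiv.Perm (Fin n))) :=
      ((Q.equiv P).toMonoidHom.comp (Subgroup.inclusion hQ)).comp φ.rangeRestrict
    have hψ : Function.Injective ψ := (((Q.equiv P).injective.comp
      (Subgroup.inclusion_injective hQ)).comp (MonoidHom.rangeRestrict_injective_iff.2 hφ))
    apply hne
    rw [← Subgroup.map_eq_bot_iff_of_injective _ hψ, eq_bot_iff, ← h]
    exact map_derivedSeries_le_derivedSeries ψ _

end Cfsg.Agent.S4014
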