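import Cfsg.Statements.S4015
import Cfsg.Agent.S4417
import Cfsg.Agent.Lib.Solv.Basic
import Cfsg.Agent.Lib.Small.FieldMatrix

set_option autoImplicit false
set_option linter.style.haveILetI false
open Cfsg

open scoped commutatorElement

namespace Cfsg.Agent.S4015

universe u v w

theorem log_bound_p {a b e p : ℕ} (hp : 2 ≤ p) (he : 0 < e) (hea : e ≤ a) (hab : p * a ≤ b) :
    Nat.log p (a / e) + 1 + 1 ≤ Nat.log p (b / e) + 1 := by
  have h1 : 1 ≤ a / e := (Nat.one_le_div_iff he).2 hea
  have h2 : p * (a / e) ≤ b / e := by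
    rw [Nat.le_div_iff_mul_le he, mul_assoc]
    exact (Nat.mul_le_mul_left p (Nat.div_mul_le_self a e)).trans hab
  have h3 : Nat.log p (p * (a / e)) = Nat.log p (a / e) + 1 := by
    rw [mul_comm, Nat.log_mul_base (by omega) (by omega)]
  have := Nat.log_mono_right (b := p) h2
  omega

section Upper

variable {F : Type v} [Field F] [Fintype F] {p : ℕ} [Fact p.Prime]

/-- For odd `p`, a `p`-group all of whose abelian normal subgroups are cyclic is cyclic. -/
theorem cyclic_case_odd (hp2 : p ≠ 2) {P : Type u} [Group P] [Finite P] (hP : IsPGroup p P)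
    (hnab : ∀ A : Subgroup P, A.Normal → IsMulCommutative A → IsCyclic A) (g : P) (hg1 : g ≠ 1)
    (hg : g ∈ derivedSeries P 1) : False := by
  have hp : p.Prime := Fact.out
  have hnc : ¬ IsCyclic P := fun h => hg1 (by
    haveI := IsCyclic.isMulCommutative (α := P)
    have hbot : derivedSeries P 1 = ⊥ := by
      rw [derivedSeries_one, commutator_def, eq_bot_iff, Subgroup.commutator_le]
      intro a _ b _
      rw [Subgroup.mem_bot, commutatorElement_eq_one_iff_mul_comm]
      exact mul_comm' a b
    rwa [hbot, Subgroup.mem_bot] at hg)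
  obtain ⟨E, hEn, hEe, hEc⟩ := Cfsg.Agent.Solv.exists_normal_elementary_sq hp2 hP hnc
  haveI := hnab E hEn hEe.1
  obtain ⟨x, hx⟩ := IsCyclic.exists_generator (α := E)
  have h3 : orderOf x ∣ p := orderOf_dvd_of_pow_eq_one (Subtype.ext (hEe.2 x x.2))
  rw [orderOf_eq_card_of_forall_mem_zpowers hx, hEc, pow_two] at h3
  have := Nat.le_of_dvd hp.pos h3
  have := hp.two_le
  nlinarith

open scoped Classical in
set_option maxHeartbeats 1000000 in
/-- The induction step for a faithful action. -/
theorem faithful_step (hp2 : p ≠ 2) (hpq : ¬ p ∣ Fintype.card F) (d : ℕ) (e : ℕ) (he : e = orderOf (Fintype.card F : ZMod p))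
    (he0 : 0 < e)
    (ih : ∀ m < d, ∀ (P : Type u) [Group P] [Finite P], IsPGroup p P → ∀ (V : Type w) [AddCommGroup V] [Module F V]
      [FiniteDimensional F V], Module.finrank F V = m → ∀ ρ : Representation F P V,
      ∀ g ∈ derivedSeries P (Nat.log p (m / e) + 1), ρ g = 1)
    (P : Type u) [Group P] [Finite P] (hP : IsPGroup p P) (V : Type w) [AddCommGroup V] [Module F V]
    [FiniteDimensional F V] (hd : Module.finrank F V = d) (ρ : Representation F P V) (hfaith : ∀ g, ρ g = 1 → g = 1)
    (g : P) (hg : g ∈ derivedSeries P (Nat.log p (d / e) + 1)) : ρ g = 1 := by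
  subst he
  set e := orderOf (Fintype.card F : ZMod p) with he
  have hp : p.Prime := Fact.out
  by_cases hirr : ∀ U : Submodule F V, (∀ a, ∀ x ∈ U, ρ a x ∈ U) → U = ⊥ ∨ U = ⊤
  swap
  · push Not at hirr
    obtain ⟨U, hU, hU0, hU1⟩ := hirr
    obtain ⟨W, hW, hcompl⟩ := S4417.exists_invariant_compl hpq hP ρ U hU
    have hUlt : Module.finrank F U < d := hd ▸ Submodule.finrank_lt hU1
    have hW1 : W ≠ ⊤ := fun h => hU0 (by
      have := hcompl.disjoint
      rw [h, disjoint_top] at this
      exact this)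
    have hWlt : Module.finrank F W < d := hd ▸ Submodule.finrank_lt hW1
    have hmono : ∀ k, k < d → derivedSeries P (Nat.log p (d / e) + 1) ≤ derivedSeries P (Nat.log p (k / e) + 1) := fun k hk =>
      derivedSeries_antitone _ (Nat.add_le_add_right (Nat.log_mono_right (Nat.div_le_div_right hk.le)) 1)
    have h1 := ih _ hUlt P hP U rfl (S4417.sub ρ U hU) g (hmono _ hUlt hg)
    have h2 := ih _ hWlt P hP W rfl (S4417.sub ρ W hW) g (hmono _ hWlt hg)
    refine LinearMap.ext fun x => ?_
    obtain ⟨y, hy, z, hz, rfl⟩ := Submodule.mem_sup.1 (hcompl.sup_eq_top.ge (Submodule.mem_top (x := x)))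
    have e1 : ρ g y = y := congrArg Subtype.val (LinearMap.congr_fun h1 (⟨y, hy⟩ : U))
    have e2 : ρ g z = z := congrArg Subtype.val (LinearMap.congr_fun h2 (⟨z, hz⟩ : W))
    rw [map_add, e1, e2]; rfl
  rcases eq_or_ne g 1 with rfl | hg1
  · exact map_one ρ
  have hρg : ρ g ≠ 1 := fun h => hg1 (hfaith g h)
  have hed : e ≤ d := hd ▸ S4417.e_le hpq hP ρ g hρg
  haveI : Group.IsNilpotent P := hP.isNilpotent
  by_cases hnab : ∃ A : Subgroup P, A.Normal ∧ IsMulCommutative A ∧ ¬ IsCyclic A
  swap
  · push Not at hnab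
    exact (cyclic_case_odd hp2 hP hnab g hg1 (derivedSeries_antitone P (Nat.le_add_left 1 _) hg)).elim
  obtain ⟨A, hAn, hAc, hAnc⟩ := hnab
  haveI := hAn
  obtain ⟨M, hMn, U, hcomM, hUinv, hU0, hdimU, heU, -⟩ := S4417.exists_block hpq hP ρ hfaith d hd hirr g hρg A hAc hAnc
  haveI := hMn
  let ρM : Representation F M U := S4417.sub (ρ.comp M.subtype) U (fun m x hx => hUinv m m.2 x hx)
  have hlog := log_bound_p hp.two_le he0 heU hdimU
  have hlt : Module.finrank F U < d := by
    have := hp.two_le
    nlinarith [heU, he0, hdimU]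
  have hM' := ih _ hlt M (hP.to_subgroup M) U rfl ρM
  have hgM := S4417.derived_le_map M hcomM _ (derivedSeries_antitone P hlog hg)
  -- acts trivially on every conjugate block
  have hcon : ∀ a : P, ∀ x ∈ U, ρ g (ρ a x) = ρ a x := by
    intro a x hx
    have hga : a⁻¹ * g * a ∈ (derivedSeries M (Nat.log p (Module.finrank F U / e) + 1)).map M.subtype := by
      haveI : ((derivedSeries M (Nat.log p (Module.finrank F U / e) + 1)).map M.subtype).Normal := inferInstance
      simpa using Subgroup.Normal.conj_mem this g hgM a⁻¹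
    obtain ⟨m, hm, hma⟩ := hga
    have h1 : ρ (a⁻¹ * g * a) x = x := by
      rw [← hma]
      exact congrArg Subtype.val (LinearMap.congr_fun (hM' m hm) (⟨x, hx⟩ : U))
    calc ρ g (ρ a x) = ρ (a * (a⁻¹ * g * a)) x := by
          rw [← Module.End.mul_apply, ← map_mul]; group
      _ = ρ a x := by rw [map_mul, Module.End.mul_apply, h1]
  refine LinearMap.ext fun v => ?_
  have hspan : (⨆ a : P, U.map (ρ a)) = ⊤ := by
    refine (hirr _ fun b x hx => ?_).resolve_left fun h => hU0 (eq_bot_iff.2 fun x hx => ?_)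
    · refine (show (⨆ a : P, U.map (ρ a)) ≤ (⨆ a : P, U.map (ρ a)).comap (ρ b) from iSup_le fun a => ?_) hx
      rintro _ ⟨y, hy, rfl⟩
      exact Submodule.mem_iSup_of_mem (b * a) ⟨y, hy, by rw [map_mul]; rfl⟩
    · have : x ∈ ⨆ a : P, U.map (ρ a) := Submodule.mem_iSup_of_mem 1 ⟨x, hx, by rw [map_one]; rfl⟩
      rwa [h] at this
  have hle : (⨆ a : P, U.map (ρ a)) ≤ LinearMap.eqLocus (ρ g) (1 : V →ₗ[F] V) := iSup_le fun a => by
    rintro _ ⟨y, hy, rfl⟩
    exact hcon a y hy
  exact hle (hspan ▸ Submodule.mem_top)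

open scoped Classical in
set_option maxHeartbeats 1000000 in
theorem upper (hp2 : p ≠ 2) (hpq : ¬ p ∣ Fintype.card F) :
    ∀ (d : ℕ) (P : Type u) [Group P] [Finite P], IsPGroup p P → ∀ (V : Type w) [AddCommGroup V] [Module F V]
      [FiniteDimensional F V], Module.finrank F V = d → ∀ ρ : Representation F P V,
      ∀ g ∈ derivedSeries P (Nat.log p (d / orderOf (Fintype.card F : ZMod p)) + 1), ρ g = 1 := by
  have hp : p.Prime := Fact.out
  set e := orderOf (Fintype.card F : ZMod p) with he
  have he0 : 0 < e := by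
    have hq0 : (Fintype.card F : ZMod p) ≠ 0 := fun h => hpq ((ZMod.natCast_eq_zero_iff _ _).1 h)
    exact Nat.pos_of_ne_zero fun h => orderOf_eq_zero_iff'.1 h (p - 1) (by have := hp.two_le; omega)
      (ZMod.pow_card_sub_one_eq_one hq0)
  intro d
  induction d using Nat.strong_induction_on with
  | _ d ih =>
  -- reduce to a faithful action
  suffices h : ∀ (P : Type u) [Group P] [Finite P], IsPGroup p P → ∀ (V : Type w) [AddCommGroup V] [Module F V]
      [FiniteDimensional F V], Module.finrank F V = d → ∀ ρ : Representation F P V, (∀ g, ρ g = 1 → g = 1) →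
      ∀ g ∈ derivedSeries P (Nat.log p (d / e) + 1), ρ g = 1 by
    intro P _ _ hP V _ _ _ hd ρ g hg
    exact S4417.of_faithful (fun P' _ _ hP' ρ' hf g' hg' => h P' hP' V hd ρ' hf g' hg') hP ρ g hg
  exact faithful_step hp2 hpq d _ he he0 ih

end Upper

section Lower

/-- From a p-group of derived length `> j`, a shifted direct power gives derived length `> j + 1`. -/
theorem wreath_step {p : ℕ} [Fact p.Prime] {G : Type u} [Group G] {G' : Type v} [Group G']
    (D : (ZMod p → G) →* G') (hD : Function.Injective D) (s : G') (hs : s ^ p = 1)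
    (hconj : ∀ f : ZMod p → G, s * D f * s⁻¹ = D (fun i => f (i - 1)))
    (A : Subgroup G) [Finite A] (hA : IsPGroup p A) (j : ℕ) (hne : derivedSeries A j ≠ ⊥) :
    ∃ S : Subgroup G', IsPGroup p S ∧ derivedSeries S (j + 1) ≠ ⊥ := by
  classical
  have hp : p.Prime := Fact.out
  haveI : NeZero p := ⟨hp.ne_zero⟩
  set B : Subgroup G' := (Subgroup.pi Set.univ (fun _ : ZMod p => A)).map D with hB
  have hBp : IsPGroup p B := by
    rintro ⟨_, f, hf, rfl⟩
    obtain ⟨N, hN⟩ := IsPGroup.iff_card.1 hA
    refine ⟨N, Subtype.ext ?_⟩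
    show D f ^ p ^ N = 1
    rw [← map_pow]
    have : f ^ p ^ N = 1 := by
      funext i
      have h1 : (⟨f i, hf i (Set.mem_univ _)⟩ : A) ^ Nat.card A = 1 := pow_card_eq_one'
      rw [hN] at h1
      exact congrArg Subtype.val h1
    rw [this, map_one]
  have hsB : Subgroup.zpowers s ≤ Subgroup.normalizer (B : Set G') := by
    rw [Subgroup.zpowers_le, Subgroup.mem_normalizer_iff]
    intro b
    have hstep : ∀ b ∈ B, s * b * s⁻¹ ∈ B := by
      rintro _ ⟨f, hf, rfl⟩
      exact ⟨fun i => f (i - 1), fun i _ => hf (i - 1) (Set.mem_univ _), (hconj f).symm⟩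
    have hiter : ∀ m : ℕ, ∀ b ∈ B, s ^ m * b * (s ^ m)⁻¹ ∈ B := by
      intro m
      induction m with
      | zero => intro b hb; simpa using hb
      | succ m ih =>
        intro b hb
        have := hstep _ (ih b hb)
        rw [pow_succ']
        convert this using 1
        group
    refine ⟨hstep b, fun hb => ?_⟩
    have h1 := hiter (p - 1) _ hb
    have h2 : s ^ (p - 1) * (s * b * s⁻¹) * (s ^ (p - 1))⁻¹ = s ^ p * b * (s ^ p)⁻¹ := by
      have h3 : s ^ p = s ^ (p - 1) * s := by rw [← pow_succ, Nat.sub_add_cancel hp.one_le]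
      rw [h3, mul_inv_rev]
      simp only [mul_assoc]
    rw [h2, hs] at h1
    simpa using h1
  have hsp : IsPGroup p (Subgroup.zpowers s) := by
    have hdvd : orderOf s ∣ p ^ 1 := by rw [pow_one]; exact orderOf_dvd_of_pow_eq_one hs
    obtain ⟨m, -, hm⟩ := (Nat.dvd_prime_pow hp).1 hdvd
    exact IsPGroup.of_card (n := m) (by rw [Nat.card_zpowers, hm])
  set S := B ⊔ Subgroup.zpowers s with hS
  refine ⟨S, hBp.to_sup_of_normal_left' hsp hsB, ?_⟩
  let L : ℕ → Subgroup (ZMod p → G) := fun i =>
    (((derivedSeries S (i + 1)).map S.subtype).comap D) ⊓ Subgroup.pi Set.univ (fun _ => A)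
  let ev : (ZMod p → G) →* G := Pi.evalMonoidHom (fun _ => G) 1
  have key : ∀ i, (derivedSeries A i).map A.subtype ≤ (L i).map ev := by
    intro i
    induction i with
    | zero =>
      rintro _ ⟨⟨a, ha⟩, -, rfl⟩
      set δ : ZMod p → G := Pi.mulSingle 0 a with hδ
      have hδA : δ ∈ Subgroup.pi Set.univ (fun _ => A) := by
        intro j _
        by_cases hj : j = 0
        · subst hj; simpa [hδ] using ha
        · simp [hδ, hj]
      refine ⟨(fun j => δ (j - 1)) * δ⁻¹, ⟨?_, fun j _ => ?_⟩, ?_⟩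
      · show D _ ∈ (derivedSeries S (0 + 1)).map S.subtype
        rw [map_mul, map_inv, ← hconj, derivedSeries_one]
        refine ⟨⁅(⟨s, Subgroup.mem_sup_right (Subgroup.mem_zpowers s)⟩ : S),
          ⟨D δ, Subgroup.mem_sup_left ⟨δ, hδA, rfl⟩⟩⁆, ?_, ?_⟩
        · exact Subgroup.commutator_mem_commutator (Subgroup.mem_top _) (Subgroup.mem_top _)
        · simp [commutatorElement_def]
      · exact A.mul_mem (hδA (j - 1) (Set.mem_univ _)) (A.inv_mem (hδA j (Set.mem_univ _)))
      · show δ (1 - 1) * (δ 1)⁻¹ = a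
        simp [hδ]
    | succ i ihi =>
      rw [derivedSeries_succ, Subgroup.map_commutator]
      refine (Subgroup.commutator_mono ihi ihi).trans ?_
      rw [← Subgroup.map_commutator]
      refine Subgroup.map_mono (le_inf ?_ ?_)
      · rw [← Subgroup.map_le_iff_le_comap, Subgroup.map_commutator, derivedSeries_succ S (i + 1),
          Subgroup.map_commutator]
        exact Subgroup.commutator_mono
          ((Subgroup.map_mono inf_le_left).trans (Subgroup.map_comap_le _ _))
          ((Subgroup.map_mono inf_le_left).trans (Subgroup.map_comap_le _ _))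
      · exact (Subgroup.commutator_mono inf_le_right inf_le_right).trans (Subgroup.commutator_le_self _)
  intro h
  apply hne
  have h2 : (L j).map ev ≤ ⊥ := by
    rintro _ ⟨f, ⟨hf, -⟩, rfl⟩
    rw [Subgroup.mem_bot]
    have hf' : D f ∈ (derivedSeries S (j + 1)).map S.subtype := hf
    rw [h, Subgroup.map_bot, Subgroup.mem_bot] at hf'
    rw [hD (hf'.trans (map_one D).symm)]
    rfl
  exact (Subgroup.map_eq_bot_iff_of_injective _ A.subtype_injective).1 (eq_bot_iff.2 ((key j).trans h2))

variable {F : Type u} [Field F] [Fintype F]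

/-- A p-subgroup of `GL` in dimension `p^j e` of derived length `> j`. -/
theorem lower {p : ℕ} [Fact p.Prime] (hpq : ¬ p ∣ Fintype.card F) (j : ℕ) :
    ∃ (V : Type u) (_ : AddCommGroup V) (_ : Module F V) (_ : FiniteDimensional F V),
      Module.finrank F V = p ^ j * orderOf (Fintype.card F : ZMod p) ∧
      ∃ S : Subgroup (V ≃ₗ[F] V), IsPGroup p S ∧ derivedSeries S j ≠ ⊥ := by
  classical
  have hp : p.Prime := Fact.out
  haveI : NeZero p := ⟨hp.ne_zero⟩
  induction j with
  | zero =>
    set e := orderOf (Fintype.card F : ZMod p) with he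
    have hq0 : (Fintype.card F : ZMod p) ≠ 0 := fun h => hpq ((ZMod.natCast_eq_zero_iff _ _).1 h)
    have he1 : 1 ≤ e := (IsOfFinOrder.orderOf_pos (isOfFinOrder_iff_pow_eq_one.2
      ⟨p - 1, Nat.sub_pos_of_lt hp.one_lt, ZMod.pow_card_sub_one_eq_one hq0⟩))
    obtain ⟨t, ht⟩ := Small.exists_singer (F := F) e he1
    have hdvd : p ∣ orderOf t := by
      rw [ht, Nat.card_eq_fintype_card, ← ZMod.natCast_eq_zero_iff,
        Nat.cast_sub (Nat.one_le_pow _ _ Fintype.card_pos), Nat.cast_pow, he, pow_orderOf_eq_one, Nat.cast_one,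
        sub_self]
    let φ : GL (Fin e) F ≃* ((Fin e → F) ≃ₗ[F] (Fin e → F)) :=
      Matrix.GeneralLinearGroup.toLin.trans (LinearMap.GeneralLinearGroup.generalLinearEquiv F (Fin e → F))
    set a := φ (t ^ (orderOf t / p)) with ha
    have hao : orderOf a = p := by
      rw [ha, MulEquiv.orderOf_eq, orderOf_pow_orderOf_div (orderOf_pos t).ne' hdvd]
    refine ⟨Fin e → F, inferInstance, inferInstance, inferInstance, by rw [Module.finrank_fin_fun, pow_zero, one_mul],
      Subgroup.zpowers a, IsPGroup.of_card (n := 1) (by rw [Nat.card_zpowers, hao, pow_one]), ?_⟩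
    rw [derivedSeries_zero]
    intro h
    have h1 : (⟨a, Subgroup.mem_zpowers a⟩ : Subgroup.zpowers a) ∈ (⊤ : Subgroup _) := Subgroup.mem_top _
    rw [h, Subgroup.mem_bot] at h1
    have h2 : a = 1 := congrArg Subtype.val h1
    rw [h2, orderOf_one] at hao
    exact hp.ne_one hao.symm
  | succ j ih =>
    obtain ⟨V, _, _, _, hV, A, hA, hne⟩ := ih
    haveI : Finite V := Module.finite_of_finite F
    haveI : Finite (V ≃ₗ[F] V) := Finite.of_injective _ DFunLike.coe_injective
    let D : (ZMod p → (V ≃ₗ[F] V)) →* ((ZMod p → V) ≃ₗ[F] (ZMod p → V)) :=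
      { toFun := fun f => LinearEquiv.piCongrRight f
        map_one' := rfl
        map_mul' := fun f g => rfl }
    let s : (ZMod p → V) ≃ₗ[F] (ZMod p → V) := LinearEquiv.funCongrLeft F V (Equiv.subRight (1 : ZMod p))
    have hsap : ∀ (m : ℕ) (x : ZMod p → V) (i : ZMod p), (s ^ m) x i = x (i - m) := by
      intro m
      induction m with
      | zero => intro x i; simp
      | succ m ihm =>
        intro x i
        rw [pow_succ', LinearEquiv.mul_apply]
        show (s ^ m) x (i - 1) = _
        rw [ihm]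
        push_cast
        rw [sub_sub, add_comm]
    have hD : Function.Injective D := by
      intro f g h
      funext i
      refine LinearEquiv.ext fun x => ?_
      exact congrFun (LinearEquiv.congr_fun h (fun _ => x)) i
    obtain ⟨S, hS, hSne⟩ := wreath_step D hD s
      (LinearEquiv.ext fun x => funext fun i => by rw [hsap, ZMod.natCast_self, sub_zero]; rfl)
      (fun f => by
        refine mul_inv_eq_of_eq_mul (LinearEquiv.ext fun x => funext fun i => ?_)
        show f (i - 1) (x (i - 1)) = f (i - 1) (s x i)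
        rfl) A hA j hne
    refine ⟨ZMod p → V, inferInstance, inferInstance, inferInstance, ?_, S, hS, hSne⟩
    rw [Module.finrank_pi_fintype, Finset.sum_const, Finset.card_univ, ZMod.card, smul_eq_mul, hV, pow_succ]
    ring

end Lower

theorem result (p : ℕ) [Fact p.Prime] (hp : p ≠ 2) (F : Type*) [Field F] [Fintype F] (q : ℕ) (hq : Fintype.card F = q) (hpq : ¬ p ∣ q) (n : ℕ) (hn : orderOf (q : ZMod p) ≤ n) (P : Sylow p (Matrix.GeneralLinearGroup (Fin n) F)) : derivedSeries ↥(P : Subgroup (Matrix.GeneralLinearGroup (Fin n) F)) (Nat.log p (n / orderOf (q : ZMod p)) + 1) = ⊥ ∧ derivedSeries ↥(P : Subgroup (Matrix.GeneralLinearGroup (Fin n) F)) (Nat.log p (n / orderOf (q : ZMod p))) ≠ ⊥ := by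
  classical
  subst hq
  set e := orderOf (Fintype.card F : ZMod p) with he
  constructor
  · rw [eq_bot_iff]
    intro g hg
    let ρ : Representation F P (Fin n → F) :=
      { toFun := fun a => Matrix.mulVecLin ((a : GL (Fin n) F) : Matrix (Fin n) (Fin n) F)
        map_one' := by simp [Matrix.mulVecLin_one]; rfl
        map_mul' := fun a b => by simp [Matrix.mulVecLin_mul]; rfl }
    have h := upper hp hpq n P P.2 (Fin n → F) (Module.finrank_fin_fun F) ρ g hg
    rw [Subgroup.mem_bot]
    apply Subtype.ext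
    apply Units.ext
    refine Matrix.ext_iff_mulVec.2 fun x => ?_
    rw [Subgroup.coe_one, Units.val_one, Matrix.one_mulVec]
    exact LinearMap.congr_fun h x
  · intro h
    set k := Nat.log p (n / e) with hk
    obtain ⟨V, _, _, _, hV, S, hS, hne⟩ := lower (F := F) hpq k
    have hle : p ^ k * e ≤ n := by
      rcases Nat.eq_zero_or_pos e with h0 | h0
      · simp [h0]
      · refine (Nat.mul_le_mul_right e (Nat.pow_log_le_self p ?_)).trans (Nat.div_mul_le_self n e)
        exact (Nat.div_pos hn h0).ne'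
    let b : Module.Basis (Fin (p ^ k * e)) F V := Module.finBasisOfFinrankEq F V hV
    let ψ : (V ≃ₗ[F] V) →* GL (Fin n) F :=
      (Small.glBlockHom F hle).comp
        (((LinearMap.GeneralLinearGroup.generalLinearEquiv F V).symm.toMonoidHom).comp (MonoidHom.id _) |>
          fun χ => (Units.map (LinearMap.toMatrixAlgEquiv b).toMonoidHom).comp χ)
    have hψ : Function.Injective ψ := (Small.glBlockHom_injective F hle).comp
      ((Units.map_injective (LinearMap.toMatrixAlgEquiv b).injective).comp
        (LinearMap.GeneralLinearGroup.generalLinearEquiv F V).symm.injective)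
    let φ := ψ.comp S.subtype
    have hφ : Function.Injective φ := hψ.comp S.subtype_injective
    obtain ⟨Q, hQ⟩ := (hS.of_surjective φ.rangeRestrict φ.rangeRestrict_surjective).exists_le_sylow
    let χ : ↥S →* ↥(P : Subgroup (GL (Fin n) F)) :=
      ((Q.equiv P).toMonoidHom.comp (Subgroup.inclusion hQ)).comp φ.rangeRestrict
    have hχ : Function.Injective χ := (((Q.equiv P).injective.comp
      (Subgroup.inclusion_injective hQ)).comp (MonoidHom.rangeRestrict_injective_iff.2 hφ))
    apply hne
    rw [← Subgroup.map_eq_bot_iff_of_injective _ hχ, eq_bot_iff, ← h]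
    exact map_derivedSeries_le_derivedSeries χ _

end Cfsg.Agent.S4015
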