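import Cfsg.Statements.S4023
import Cfsg.Agent.Lib.Solv.IsoSubgroups

set_option autoImplicit false
open Cfsg

open scoped Pointwise commutatorElement

namespace Cfsg.Agent.S4023

/-- Let p be a prime and G a finite group in which any two p-subgroups of the same order are conjugate, with Sylow p-subgroup P. Then P is cyclic, or elementary abelian, or p = 2 and P is a quaternion group of order 8, or p is odd and P is non-abelian of order p³ and exponent p. -/
theorem result {G : Type*} [Group G] [Finite G]
    {p : ℕ} [Fact p.Prime] (hC : ∀ H K : Subgroup G, IsPGroup p H → IsPGroup p K → Nat.card H = Nat.card K →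
      ∃ g : G, K = H.map (MulAut.conj g).toMonoidHom) (P : Sylow p G) :
    IsCyclic P ∨ Cfsg.IsElementaryAbelian p (P : Subgroup G) ∨
      (p = 2 ∧ Nonempty ((P : Subgroup G) ≃* QuaternionGroup 2)) ∨
      (p ≠ 2 ∧ ¬ IsMulCommutative P ∧ Nat.card P = p ^ 3 ∧ Monoid.exponent P = p) := by
  have hiso : ∀ U V : Subgroup P, Nat.card U = Nat.card V → Nonempty (U ≃* V) := by
    intro U V h
    obtain ⟨g, hg⟩ := hC (U.map (P : Subgroup G).subtype) (V.map (P : Subgroup G).subtype)
      ((P.2.to_subgroup U).map _) ((P.2.to_subgroup V).map _)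
      (by rw [Cfsg.Agent.Solv.card_map_subtype, Cfsg.Agent.Solv.card_map_subtype, h])
    exact ⟨(U.equivMapOfInjective _ (P : Subgroup G).subtype_injective).trans
      ((((U.map (P : Subgroup G).subtype).equivMapOfInjective _ (MulAut.conj g).injective).trans
        (MulEquiv.subgroupCongr hg.symm)).trans
        (V.equivMapOfInjective _ (P : Subgroup G).subtype_injective).symm)⟩
  rcases Cfsg.Agent.Solv.IsoSubgroups.classify P.2 hiso with h | ⟨h1, h2⟩ | h | h
  · exact Or.inl h
  · exact Or.inr (Or.inl ⟨h1, fun a ha => congrArg Subtype.val (h2 ⟨a, ha⟩)⟩)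
  · exact Or.inr (Or.inr (Or.inl h))
  · exact Or.inr (Or.inr (Or.inr h))

end Cfsg.Agent.S4023
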