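import Cfsg.Statements.S4024
import Cfsg.Agent.Lib.Solv.SameOrderConj
import Cfsg.Agent.Lib.Solv.PSolvHall
import Cfsg.Agent.Lib.Solv.Cores
import Cfsg.Agent.Lib.Fusion.Cores
import Cfsg.Agent.S4023

set_option autoImplicit false
open Cfsg

open scoped Pointwise commutatorElement
open Cfsg.Agent

namespace Cfsg.Agent.S4024

/-- Let p be an odd prime and G a finite group in which any two p-subgroups of the same order are conjugate, with Sylow p-subgroup P. If H is a normal p-solvable subgroup of G whose order is divisible by p, then P is abelian, and either P ≤ H or P is cyclic. -/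
theorem result {G : Type*} [Group G] [Finite G]
    {p : ℕ} [Fact p.Prime] (hp : p ≠ 2) (hC : ∀ H K : Subgroup G, IsPGroup p H → IsPGroup p K → Nat.card H = Nat.card K →
      ∃ g : G, K = H.map (MulAut.conj g).toMonoidHom) (P : Sylow p G)
    (H : Subgroup G) [H.Normal] (hsolv : Cfsg.IsPSolvable p H) (hdiv : p ∣ Nat.card H) :
    IsMulCommutative P ∧ ((P : Subgroup G) ≤ H ∨ IsCyclic P) := by
  have hp' : p.Prime := Fact.out
  rcases Cfsg.Agent.S4023.result hC P with hcyc | hel | ⟨h2, -⟩ | hcube
  · exact ⟨⟨⟨fun a b => (IsCyclic.commGroup (α := P)).mul_comm a b⟩⟩, Or.inr hcyc⟩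
  rotate_left
  · exact absurd h2 hp
  all_goals
    have hexp : ∀ x ∈ (P : Subgroup G), x ^ p = 1 := by
      first
      | exact hel.2
      | exact fun x hx => congrArg Subtype.val
          (hcube.2.2.2 ▸ Monoid.pow_exponent_eq_one (⟨x, hx⟩ : P))
    have hord : ∀ x ∈ (P : Subgroup G), x ≠ 1 → Nat.card (Subgroup.zpowers x) = p := fun x hx h1 => by
      rw [Nat.card_zpowers, orderOf_eq_prime (hexp x hx) h1]
    have hPH : (P : Subgroup G) ≤ H := by
      intro x hx
      by_cases h1 : x = 1
      · rw [h1]; exact one_mem _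
      obtain ⟨U, hU⟩ := Sylow.exists_subgroup_card_pow_prime p (show p ^ 1 ∣ Nat.card H by rwa [pow_one])
      have hU' : Nat.card (U.map H.subtype) = p ^ 1 := by rw [Solv.card_map_subtype, hU]
      obtain ⟨g, hg⟩ := hC (U.map H.subtype) (Subgroup.zpowers x) (IsPGroup.of_card hU')
        (IsPGroup.of_card (n := 1) (by rw [hord x hx h1, pow_one])) (by rw [hU', hord x hx h1, pow_one])
      obtain ⟨u, hu, hux⟩ := hg.le (Subgroup.mem_zpowers x)
      rw [← hux]
      exact Subgroup.Normal.conj_mem inferInstance u (Subgroup.map_subtype_le U hu) g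
    refine ⟨⟨⟨fun a b => ?_⟩⟩, Or.inl hPH⟩
    -- the largest normal `p'`-subgroup inside `H`
    obtain ⟨K, ⟨hKn, hKH, hKp⟩, hKmax⟩ := Set.exists_max_image
      {K : Subgroup G | K.Normal ∧ K ≤ H ∧ ¬ p ∣ Nat.card K} (fun K => Nat.card K) (Set.toFinite _)
      ⟨⊥, inferInstance, bot_le, by rw [Subgroup.card_bot]; exact hp'.not_dvd_one⟩
    haveI := hKn
    set f := QuotientGroup.mk' K with hf
    set Hb := H.map f with hHb
    haveI : Hb.Normal := Subgroup.Normal.map inferInstance f (QuotientGroup.mk'_surjective K)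
    have hHb_nt : Nontrivial Hb := by
      rw [← Finite.one_lt_card_iff_nontrivial]
      by_contra hle
      have h1 := Solv.card_map_mk'_mul_card_inf K H
      rw [inf_eq_left.2 hKH] at h1
      have : Nat.card Hb = 1 := by
        have := Nat.card_pos (α := Hb); omega
      change Nat.card Hb * _ = _ at h1
      rw [this, one_mul] at h1
      exact hKp (h1 ▸ hdiv)
    have hHb_solv : Cfsg.IsPSolvable p Hb :=
      Solv.isPSolvable_map hp' hsolv (f.subgroupMap H) (f.subgroupMap_surjective H)
    obtain ⟨M, hMn, hM1, hM⟩ := Solv.exists_normal_pgroup_or_coprime hHb_solv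
    haveI := hMn
    have hMp : IsPGroup p M := by
      refine hM.resolve_right fun hco => ?_
      haveI hchar : (Cfsg.pPrimeCore p Hb).Characteristic :=
        Subgroup.characteristic_iff_map_eq.2 fun e => Fusion.map_pPrimeCore_equiv e
      haveI := Solv.map_subtype_normal_of_characteristic Hb (Cfsg.pPrimeCore p Hb)
      set L := ((Cfsg.pPrimeCore p Hb).map Hb.subtype).comap f with hL
      haveI hLn : L.Normal := Subgroup.Normal.comap inferInstance f
      have hcl : Nat.card L = Nat.card (Cfsg.pPrimeCore p Hb) * Nat.card K := by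
        rw [hL, hf, Solv.card_comap_mk', Solv.card_map_subtype]
      have hge : M ≤ Cfsg.pPrimeCore p Hb := Solv.normal_le_pPrimeCore hco
      have hLH : L ≤ H := fun y hy => by
        obtain ⟨h', hh', hy'⟩ := (Subgroup.map_subtype_le _ hy : f y ∈ Hb)
        have : y * h'⁻¹ ∈ K := by
          rw [← QuotientGroup.eq_one_iff, QuotientGroup.mk_mul, QuotientGroup.mk_inv]
          show f y * (f h')⁻¹ = 1
          rw [hy', mul_inv_cancel]
        have := mul_mem (hKH this) hh'
        rwa [inv_mul_cancel_right] at this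
      have hndvd : ¬ p ∣ Nat.card L := by
        rw [hcl]
        intro h
        rcases hp'.dvd_mul.1 h with h | h
        · exact hp'.one_lt.ne' (Nat.eq_one_of_dvd_coprimes (Solv.pPrimeCore_coprime p) h dvd_rfl)
        · exact hKp h
      have hle := hKmax L ⟨hLn, hLH, hndvd⟩
      replace hle : Nat.card L ≤ Nat.card K := hle
      rw [hcl] at hle
      have h2 : 2 ≤ Nat.card (Cfsg.pPrimeCore p Hb) := by
        refine le_trans ?_ (Subgroup.card_le_of_le hge)
        rw [← not_lt]
        intro h'
        exact hM1 (Subgroup.card_eq_one.1 (by have := Nat.card_pos (α := M); omega))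
      have := Nat.card_pos (α := K)
      nlinarith
    haveI hchar : (Cfsg.pCore p Hb).Characteristic :=
      Subgroup.characteristic_iff_map_eq.2 fun e => Fusion.map_pCore_equiv e
    haveI := Solv.map_subtype_normal_of_characteristic Hb (Cfsg.pCore p Hb)
    set N := (Cfsg.pCore p Hb).map Hb.subtype with hN
    have hNp : IsPGroup p N := (Solv.pCore_isPGroup p).map _
    haveI : Nontrivial N := by
      refine (Subgroup.nontrivial_iff_ne_bot N).2 fun h => hM1 ?_
      rw [hN, Subgroup.map_eq_bot_iff_of_injective _ Hb.subtype_injective] at h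
      exact le_bot_iff.1 (h ▸ Solv.normal_le_pCore hMp)
    haveI := hNp.center_nontrivial
    set Z := (Subgroup.center N).map N.subtype with hZ
    haveI : Z.Normal := Solv.map_subtype_normal_of_characteristic N (Subgroup.center N)
    have hdvdZ : p ∣ Nat.card (Subgroup.center N) := by
      obtain ⟨k, hk⟩ := IsPGroup.iff_card.1 (hNp.to_subgroup (Subgroup.center N))
      rw [hk]
      refine dvd_pow_self p fun h => ?_
      rw [h, pow_zero] at hk
      exact absurd hk Finite.one_lt_card.ne'
    obtain ⟨w, hw⟩ := exists_prime_orderOf_dvd_card' p hdvdZ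
    set Wb := Subgroup.zpowers (((w : N) : G ⧸ K)) with hWb
    have hWc : Nat.card Wb = p := by
      rw [hWb, Nat.card_zpowers, Subgroup.orderOf_coe, Subgroup.orderOf_coe, hw]
    have hWZ : Wb ≤ Z := Subgroup.zpowers_le.2 ⟨w.1, w.2, rfl⟩
    obtain ⟨U, hUp, hUmap, hUc⟩ := Solv.SameOrderConj.lift_pgroup K Wb
      (IsPGroup.of_card (n := 1) (by rw [hWc, pow_one]))
    have hUc' : Nat.card U = p := by
      rw [hUc, hWc, Nat.factorization_mul hp'.ne_zero Nat.card_pos.ne', Finsupp.add_apply,
        hp'.factorization_self, Nat.factorization_eq_zero_of_not_dvd hKp, pow_one]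
    have hPZ : ∀ x ∈ (P : Subgroup G), f x ∈ Z := by
      intro x hx
      by_cases h1 : x = 1
      · rw [h1, map_one]; exact one_mem _
      obtain ⟨g, hg⟩ := hC U (Subgroup.zpowers x) hUp
        (IsPGroup.of_card (n := 1) (by rw [hord x hx h1, pow_one])) (by rw [hUc', hord x hx h1])
      obtain ⟨u, hu, hux⟩ := hg.le (Subgroup.mem_zpowers x)
      rw [← hux]
      show f (g * u * g⁻¹) ∈ Z
      rw [map_mul, map_mul, map_inv]
      exact Subgroup.Normal.conj_mem inferInstance _ (hWZ (hUmap ▸ ⟨u, hu, rfl⟩)) (f g)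
    obtain ⟨u, hu, hua⟩ := hPZ a a.2
    obtain ⟨v, hv, hvb⟩ := hPZ b b.2
    have hK1 : (a : G) * b * (a : G)⁻¹ * (b : G)⁻¹ ∈ K := by
      rw [← QuotientGroup.eq_one_iff]
      show f _ = 1
      have huv : (u : G ⧸ K) * v = v * u :=
        (congrArg Subtype.val (Subgroup.mem_center_iff.1 hu v)).symm
      simp only [Subgroup.coe_subtype] at hua hvb
      rw [map_mul, map_mul, map_mul, map_inv, map_inv, ← hua, ← hvb, huv, mul_inv_cancel_right,
        mul_inv_cancel]
    have hP1 : (a : G) * b * (a : G)⁻¹ * (b : G)⁻¹ ∈ (P : Subgroup G) :=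
      (P : Subgroup G).mul_mem (mul_mem (mul_mem a.2 b.2) (inv_mem a.2)) (inv_mem b.2)
    have hinf : K ⊓ (P : Subgroup G) = ⊥ := by
      refine Solv.coprime_inf ?_
      obtain ⟨k, hk⟩ := IsPGroup.iff_card.1 P.2
      rw [hk]
      exact ((Nat.Prime.coprime_iff_not_dvd hp').2 hKp).symm.pow_right k
    have h1 := Subgroup.mem_bot.1 (hinf.le (Subgroup.mem_inf.2 ⟨hK1, hP1⟩))
    refine Subtype.ext ?_
    rwa [← commutatorElement_def, commutatorElement_eq_one_iff_mul_comm] at h1

end Cfsg.Agent.S4024
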