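import Cfsg.Statements.S4027
import Cfsg.Agent.Lib.Solv.Zipper
import Cfsg.Agent.Lib.Solv.SZ
import Cfsg.Agent.Lib.Solv.Cores
import Cfsg.Agent.Lib.Solv.Parts

set_option autoImplicit false
set_option linter.style.haveILetI false
open Cfsg

open scoped Pointwise commutatorElement

namespace Cfsg.Agent.S4027

theorem commute_of_inverted {G : Type*} [Group G] [Finite G]
    (hirr : ∀ x : G, (∀ r : ℕ, r.Prime → r ∣ orderOf x → r ≠ 2) →
      Subgroup.normalizer ((Subgroup.zpowers x : Subgroup G) : Set G) ≤ Subgroup.centralizer {x})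
    {h t : G} (hh : Odd (orderOf h)) (ht : t * h * t⁻¹ ∈ Subgroup.zpowers h) : t * h = h * t := by
  have hn : t ∈ Subgroup.normalizer ((Subgroup.zpowers h : Subgroup G) : Set G) := by
    refine Solv.mem_normalizer_of_conj_smul (Subgroup.eq_of_le_of_card_ge ?_ (Solv.card_conj_smul t _).ge)
    intro y hy
    obtain ⟨k, hk⟩ := Subgroup.mem_zpowers_iff.1 (Solv.mem_conj_smul.1 hy)
    rw [show y = (t * h * t⁻¹) ^ k by rw [conj_zpow, hk]; group]
    exact Subgroup.zpow_mem _ ht k
  refine Subgroup.mem_centralizer_singleton_iff.1 (hirr h (fun r _ hrd e => ?_) hn)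
  subst e
  exact absurd (even_iff_two_dvd.2 hrd) (Nat.not_even_iff_odd.2 hh)

/-- Let G be a finite group in which every element x of odd order satisfies N_G(⟨x⟩) = C_G(x). Then the Sylow 2-subgroups of G are normal. -/
theorem result {G : Type*} [Group G] [Finite G]
    (hirr : ∀ x : G, (∀ r : ℕ, r.Prime → r ∣ orderOf x → r ≠ 2) →
      Subgroup.normalizer ((Subgroup.zpowers x : Subgroup G) : Set G) ≤ Subgroup.centralizer {x}) (P : Sylow 2 G) :
    (P : Subgroup G).Normal := by
  haveI : Fact (Nat.Prime 2) := ⟨Nat.prime_two⟩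
  haveI hTn : (Cfsg.pCore 2 G).Normal := Solv.pCore_normal 2
  set T := Cfsg.pCore 2 G with hT
  have hTp : IsPGroup 2 T := Solv.pCore_isPGroup 2
  set π := QuotientGroup.mk' T with hπ
  have hbot : Cfsg.pCore 2 (G ⧸ T) = ⊥ := by
    rw [eq_bot_iff]
    intro y hy
    obtain ⟨x, rfl⟩ := QuotientGroup.mk'_surjective T y
    haveI := Solv.pCore_normal (G := G ⧸ T) 2
    haveI hMn : ((Cfsg.pCore 2 (G ⧸ T)).comap π).Normal := inferInstance
    have hM : IsPGroup 2 ((Cfsg.pCore 2 (G ⧸ T)).comap π) :=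
      (Solv.pCore_isPGroup 2).comap_of_ker_isPGroup π (by rw [hπ, QuotientGroup.ker_mk']; exact hTp)
    rw [Subgroup.mem_bot]
    exact (QuotientGroup.eq_one_iff x).2 (Solv.normal_le_pCore hM hy)
  -- `G / T` has odd order
  have hodd : ¬ 2 ∣ Nat.card (G ⧸ T) := by
    intro hd
    obtain ⟨x', hx'⟩ := exists_prime_orderOf_dvd_card' 2 hd
    have hx'1 : x' ∉ Cfsg.pCore 2 (G ⧸ T) := by
      rw [hbot, Subgroup.mem_bot]
      intro e
      rw [e, orderOf_one] at hx'
      omega
    obtain ⟨h', hh'1, hh'odd, hinv⟩ := Solv.exists_odd_inverted hx' hx'1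
    obtain ⟨x, rfl⟩ := QuotientGroup.mk'_surjective T x'
    obtain ⟨a, rfl⟩ := QuotientGroup.mk'_surjective T h'
    obtain ⟨j, m, hm, hjm⟩ := Nat.exists_eq_pow_mul_and_not_dvd (orderOf_pos a).ne' 2 (by norm_num)
    set h := a ^ 2 ^ j with hh
    have ho : orderOf h = m := by
      rw [hh, orderOf_pow_of_dvd (pow_ne_zero _ two_ne_zero) (hjm ▸ dvd_mul_right _ _), hjm,
        Nat.mul_div_cancel_left _ (pow_pos two_pos j)]
    have hoodd : Odd (orderOf h) := by
      rw [ho, ← Nat.not_even_iff_odd, even_iff_two_dvd]; exact hm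
    have hne : π h ≠ 1 := by
      intro e
      rw [hh, map_pow] at e
      refine hh'1 (orderOf_eq_one_iff.1 (Nat.eq_one_of_dvd_coprimes ?_ dvd_rfl (orderOf_dvd_of_pow_eq_one e)))
      exact Nat.Coprime.pow_right j (Nat.coprime_two_right.2 hh'odd)
    have hinv' : π x * π h * (π x)⁻¹ = (π h)⁻¹ := by
      rw [hh, map_pow, ← conj_pow, hinv, inv_pow]
    have hco : (Nat.card T).Coprime (Nat.card (Subgroup.zpowers h)) := by
      obtain ⟨k, hk⟩ := IsPGroup.iff_card.1 hTp
      rw [hk, Nat.card_zpowers]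
      exact Nat.Coprime.pow_left k (Nat.coprime_two_left.2 hoodd)
    have hKH : MulAut.conj x • Subgroup.zpowers h ≤ T ⊔ Subgroup.zpowers h := by
      intro y hy
      obtain ⟨k, hk⟩ := Subgroup.mem_zpowers_iff.1 (Solv.mem_conj_smul.1 hy)
      have hy' : y = (x * h * x⁻¹) ^ k := by rw [conj_zpow, hk]; group
      have h1 : x * h * x⁻¹ * h ∈ T := by
        refine (QuotientGroup.eq_one_iff _).1 ?_
        show π (x * h * x⁻¹ * h) = 1
        rw [map_mul, map_mul, map_mul, map_inv, hinv', inv_mul_cancel]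
      rw [hy']
      refine Subgroup.zpow_mem _ ?_ k
      rw [show x * h * x⁻¹ = (x * h * x⁻¹ * h) * h⁻¹ by rw [mul_inv_cancel_right]]
      exact Subgroup.mul_mem_sup h1 (Subgroup.inv_mem _ (Subgroup.mem_zpowers h))
    obtain ⟨c, hc, hcK⟩ := Solv.sz_conj_rel T (Subgroup.zpowers h) (MulAut.conj x • Subgroup.zpowers h)
      (by rw [Subgroup.normalizer_eq_top]; exact le_top) hKH hco (Solv.card_conj_smul _ _)
      (Or.inl (by haveI := hTp.isNilpotent; infer_instance))
    have hcomm : (c⁻¹ * x) * h = h * (c⁻¹ * x) := by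
      refine commute_of_inverted hirr hoodd ?_
      have h1 : x * h * x⁻¹ ∈ MulAut.conj x • Subgroup.zpowers h := by
        rw [Solv.mem_conj_smul]
        simp [mul_assoc]
      rw [← hcK, Solv.mem_conj_smul] at h1
      simpa [mul_assoc] using h1
    have h2 : π x * π h = π h * π x := by
      have := congrArg π hcomm
      have hc1 : π c = 1 := (QuotientGroup.eq_one_iff c).2 hc
      simpa [map_mul, map_inv, hc1] using this
    rw [h2, mul_inv_cancel_right] at hinv'
    have h3 : (π h) ^ 2 = 1 := by rw [pow_two]; exact eq_inv_iff_mul_eq_one.1 hinv'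
    exact hne (orderOf_eq_one_iff.1 (Nat.eq_one_of_dvd_coprimes (Nat.coprime_two_right.2 hoodd)
      (orderOf_map_dvd π h) (orderOf_dvd_of_pow_eq_one h3)))
  have hPT : (P : Subgroup G) = T := by
    refine (P.is_maximal' hTp ?_).symm
    exact Solv.le_of_coprime_index T P (by
      obtain ⟨k, hk⟩ := IsPGroup.iff_card.1 P.isPGroup'
      rw [hk]
      exact Nat.Coprime.pow_left k (Nat.prime_two.coprime_iff_not_dvd.2 (by rwa [Subgroup.index_eq_card])))
  exact hPT ▸ hTn

end Cfsg.Agent.S4027
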