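import Cfsg.Statements.S4028
import Cfsg.Agent.Lib.Solv.PConj

set_option autoImplicit false
open Cfsg

open scoped Pointwise commutatorElement

namespace Cfsg.Agent.S4028

/-- Let G be a finite group with Sylow 2-subgroup P. Then N_G(⟨x⟩) = C_G(x) holds for every 2-element x of G if and only if N_P(⟨y⟩) = C_P(y) holds for every y ∈ P (computed inside P). -/
theorem result {G : Type*} [Group G] [Finite G] (P : Sylow 2 G) :
    (∀ x : G, (∀ r : ℕ, r.Prime → r ∣ orderOf x → r = 2) →
      Subgroup.normalizer ((Subgroup.zpowers x : Subgroup G) : Set G) ≤ Subgroup.centralizer {x}) ↔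
    (∀ y : ↥(P : Subgroup G), Subgroup.normalizer ((Subgroup.zpowers y : Subgroup ↥(P : Subgroup G)) : Set ↥(P : Subgroup G)) ≤
        Subgroup.centralizer {y}) := by
  constructor
  · intro h y z hz
    obtain ⟨k, hk⟩ := IsPGroup.iff_orderOf.1 P.isPGroup' y
    have hord : ∀ r : ℕ, r.Prime → r ∣ orderOf (y : G) → r = 2 := fun r hr hd => by
      rw [Subgroup.orderOf_coe, hk] at hd
      exact (Nat.prime_dvd_prime_iff_eq hr Nat.prime_two).1 (hr.dvd_of_dvd_pow hd)
    have hz' : (z : G) ∈ Subgroup.normalizer ((Subgroup.zpowers (y : G) : Subgroup G) : Set G) := by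
      have := Subgroup.le_normalizer_map (P : Subgroup G).subtype ⟨z, hz, rfl⟩
      rwa [MonoidHom.map_zpowers] at this
    exact Subgroup.mem_centralizer_singleton_iff.2
      (Subtype.ext (Subgroup.mem_centralizer_singleton_iff.1 (h (y : G) hord hz')))
  · intro h x hx c hc
    have := Fact.mk Nat.prime_two
    have hx2 : IsPGroup 2 (Subgroup.zpowers x) :=
      IsPGroup.of_card (n := (orderOf x).primeFactorsList.length) (by
        rw [Nat.card_zpowers]
        exact Nat.eq_prime_pow_of_unique_prime_dvd (orderOf_pos x).ne' (fun {d} hd hdx => hx d hd hdx))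
    obtain ⟨i, m, hm, him⟩ := Nat.exists_eq_two_pow_mul_odd (orderOf_pos c).ne'
    -- odd part centralizes, two part by hypothesis
    have hodd : c ^ (2 ^ i) * x = x * c ^ (2 ^ i) := by
      rcases eq_or_ne x 1 with rfl | hx1
      · simp
      obtain ⟨l, hl⟩ := IsPGroup.iff_orderOf.1 hx2 ⟨x, Subgroup.mem_zpowers x⟩
      rw [Subgroup.orderOf_mk] at hl
      have hl0 : l ≠ 0 := by rintro rfl; exact hx1 (orderOf_eq_one_iff.1 (by simpa using hl))
      set v := x ^ 2 ^ (l - 1)
      have hv : orderOf v = 2 := by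
        rw [orderOf_pow_of_dvd (pow_ne_zero _ two_ne_zero) (hl ▸ pow_dvd_pow 2 (Nat.sub_le l 1)), hl,
          Nat.pow_div (Nat.sub_le l 1) two_pos, Nat.sub_sub_self (Nat.one_le_iff_ne_zero.2 hl0), pow_one]
      have hcn := Subgroup.pow_mem _ hc (2 ^ i)
      refine (Solv.centralizes_cyclic hx2 inferInstance hcn ?_ (x := v)
        (Subgroup.pow_mem _ (Subgroup.mem_zpowers x) _) (fun e => by rw [e, orderOf_one] at hv; omega) ?_
        x (Subgroup.mem_zpowers x))
      · rw [orderOf_pow_of_dvd (pow_ne_zero _ two_ne_zero) (him ▸ dvd_mul_right _ m), him,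
          Nat.mul_div_cancel_left _ (pow_pos two_pos i)]
        exact hm.coprime_two_right
      · -- the involution of `⟨x⟩` is fixed
        have h1 : c ^ 2 ^ i * v * (c ^ 2 ^ i)⁻¹ ∈ Subgroup.zpowers x :=
          (Subgroup.mem_normalizer_iff.1 hcn v).1 (Subgroup.pow_mem _ (Subgroup.mem_zpowers x) _)
        have h2 : (⟨_, h1⟩ : Subgroup.zpowers x) ∈ ({a | a ^ 2 = 1} : Set (Subgroup.zpowers x)) := by
          refine Subtype.ext ?_
          show (c ^ 2 ^ i * v * (c ^ 2 ^ i)⁻¹) ^ 2 = 1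
          rw [conj_pow, ← hv, pow_orderOf_eq_one, mul_one, mul_inv_cancel]
        have hvm : v ∈ Subgroup.zpowers x := Subgroup.pow_mem _ (Subgroup.mem_zpowers x) _
        letI : CommGroup (Subgroup.zpowers x) := IsCyclic.commGroup
        set K := (powMonoidHom 2 : Subgroup.zpowers x →* Subgroup.zpowers x).ker
        have hK : Nat.card K ≤ 2 := by
          rw [IsCyclic.card_powMonoidHom_ker]; exact Nat.gcd_le_right _ two_pos
        have hvK : Subgroup.zpowers (⟨v, hvm⟩ : Subgroup.zpowers x) = K := by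
          refine Subgroup.eq_of_le_of_card_ge (Subgroup.zpowers_le.2 ?_) (hK.trans (le_of_eq ?_))
          · refine Subtype.ext ?_
            show v ^ 2 = 1
            rw [← hv, pow_orderOf_eq_one]
          · rw [Nat.card_zpowers, Subgroup.orderOf_mk, hv]
        obtain ⟨j, hj⟩ := hvK.ge (h2 : _ ∈ K)
        have hj : v ^ j = c ^ 2 ^ i * v * (c ^ 2 ^ i)⁻¹ := congrArg Subtype.val hj
        rcases Int.even_or_odd j with ⟨r, rfl⟩ | ⟨r, rfl⟩
        · exfalso
          rw [← two_mul, zpow_mul, show v ^ (2 : ℤ) = 1 by rw [show (2 : ℤ) = ((2 : ℕ) : ℤ) from rfl,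
            zpow_natCast, ← hv, pow_orderOf_eq_one], one_zpow, eq_comm, conj_eq_one_iff] at hj
          rw [hj, orderOf_one] at hv
          omega
        · rw [zpow_add, zpow_mul, show v ^ (2 : ℤ) = 1 by rw [show (2 : ℤ) = ((2 : ℕ) : ℤ) from rfl,
            zpow_natCast, ← hv, pow_orderOf_eq_one], one_zpow, one_mul, zpow_one] at hj
          exact (mul_inv_eq_iff_eq_mul.1 hj.symm)
    have htwo : c ^ m * x = x * c ^ m := by
      have hcn := Subgroup.pow_mem _ hc m
      have hcp : IsPGroup 2 (Subgroup.zpowers (c ^ m)) := IsPGroup.of_card (n := i) (by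
        rw [Nat.card_zpowers, orderOf_pow_of_dvd hm.pos.ne' (him ▸ dvd_mul_left m _), him,
          Nat.mul_div_cancel _ hm.pos])
      have hsup := hcp.to_sup_of_normal_right' hx2 (Subgroup.zpowers_le.2 hcn)
      obtain ⟨g, hg⟩ := Solv.exists_le_conj_sylow hsup P
      have hxP := Solv.mem_conj_smul.1 (hg (Subgroup.mem_sup_right (Subgroup.mem_zpowers x)))
      have hcP := Solv.mem_conj_smul.1 (hg (Subgroup.mem_sup_left (Subgroup.mem_zpowers (c ^ m))))
      have hnorm : (⟨_, hcP⟩ : (P : Subgroup G)) ∈ Subgroup.normalizer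
          ((Subgroup.zpowers (⟨_, hxP⟩ : (P : Subgroup G)) : Subgroup (P : Subgroup G)) : Set (P : Subgroup G)) := by
        refine Solv.mem_normalizer_of_conj_smul (Subgroup.eq_of_le_of_card_ge ?_ (by rw [Solv.card_conj_smul]))
        rw [Solv.conj_smul_eq_map, MonoidHom.map_zpowers, Subgroup.zpowers_le]
        obtain ⟨j, hj⟩ := (Subgroup.mem_normalizer_iff.1 hcn x).1 (Subgroup.mem_zpowers x)
        refine ⟨j, Subtype.ext ?_⟩
        show (g⁻¹ * x * g) ^ j = g⁻¹ * c ^ m * g * (g⁻¹ * x * g) * (g⁻¹ * c ^ m * g)⁻¹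
        have hj : x ^ j = c ^ m * x * (c ^ m)⁻¹ := hj
        have h1 : (g⁻¹ * x * g⁻¹⁻¹) ^ j = g⁻¹ * x ^ j * g⁻¹⁻¹ := conj_zpow
        rw [inv_inv] at h1
        rw [h1, hj]; group
      have h2 := congrArg Subtype.val (Subgroup.mem_centralizer_singleton_iff.1 (h _ hnorm))
      simp only [Subgroup.coe_mul] at h2
      calc c ^ m * x = g * ((g⁻¹ * c ^ m * g) * (g⁻¹ * x * g)) * g⁻¹ := by group
        _ = g * ((g⁻¹ * x * g) * (g⁻¹ * c ^ m * g)) * g⁻¹ := by rw [h2]
        _ = x * c ^ m := by group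
    refine Subgroup.mem_centralizer_singleton_iff.2 ?_
    obtain ⟨u, v, huv⟩ : IsCoprime ((2 ^ i : ℕ) : ℤ) (m : ℤ) :=
      Int.isCoprime_iff_gcd_eq_one.2 (hm.coprime_two_left.pow_left i)
    have hc1 : Commute (c ^ (2 ^ i)) x := hodd
    have hc2 : Commute (c ^ m) x := htwo
    have h3 : Commute (c ^ ((u * ((2 ^ i : ℕ) : ℤ)) + v * (m : ℤ))) x := by
      rw [zpow_add, mul_comm u, mul_comm v, zpow_mul, zpow_mul, zpow_natCast, zpow_natCast]
      exact (hc1.zpow_left u).mul_left (hc2.zpow_left v)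
    rw [huv, zpow_one] at h3
    exact h3.eq

end Cfsg.Agent.S4028
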