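import Cfsg.Statements.S4029
import Cfsg.Agent.Lib.Solv.PGroupPhi
import Cfsg.Agent.Lib.Char.Linear
import Cfsg.Agent.Lib.Char.RealClass

set_option autoImplicit false
set_option linter.style.haveILetI false
open Cfsg

open scoped Pointwise commutatorElement

namespace Cfsg.Agent.S4029

/-- Let P be a finite 2-group in which N_P(⟨y⟩) = C_P(y) for every y ∈ P. If s is the number of conjugacy classes of involutions of P, then #(P/Φ(P)) ≤ s + 1; in particular the subgroup generated by the involutions of P has order at least #(P/Φ(P)). -/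
theorem result {P : Type*} [Group P] [Finite P] (hP : IsPGroup 2 P)
    (hirr : ∀ y : P, Subgroup.normalizer ((Subgroup.zpowers y : Subgroup P) : Set P) ≤ Subgroup.centralizer {y}) :
    Nat.card (P ⧸ frattini P) ≤ Nat.card {c : ConjClasses P // ∃ y : P, ConjClasses.mk y = c ∧ orderOf y = 2} + 1 ∧
    Nat.card (P ⧸ frattini P) ≤ Nat.card (Subgroup.closure {y : P | orderOf y = 2}) := by
  classical
  have := Fintype.ofFinite P
  have hc := Solv.commutatorElement_mem_frattini hP
  letI : CommGroup (P ⧸ frattini P) :=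
    { (inferInstance : Group (P ⧸ frattini P)) with
      mul_comm := Solv.quotient_mul_comm (frattini P) hc }
  have hreal : ∀ y : P, IsConj y y⁻¹ → y ^ 2 = 1 := by
    intro y hy
    obtain ⟨c, hcy⟩ := isConj_iff.1 hy
    have hN : c ∈ Subgroup.normalizer ((Subgroup.zpowers y : Subgroup P) : Set P) := by
      refine Subgroup.mem_normalizer_iff.2 fun h => ?_
      constructor
      · intro hh
        obtain ⟨i, rfl⟩ := Subgroup.mem_zpowers_iff.1 hh
        rw [← conj_zpow, hcy]
        exact zpow_mem (inv_mem (Subgroup.mem_zpowers y)) i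
      · intro hh
        obtain ⟨i, hi⟩ := Subgroup.mem_zpowers_iff.1 hh
        have h2 : c⁻¹ * y * c = y⁻¹ := by
          rw [show y⁻¹ = c⁻¹ * (c * y⁻¹ * c⁻¹) * c by group, ← conj_inv, hcy, inv_inv]
        rw [show h = c⁻¹ * (c * h * c⁻¹) * (c⁻¹)⁻¹ by group, ← hi, ← conj_zpow, inv_inv, h2]
        exact zpow_mem (inv_mem (Subgroup.mem_zpowers y)) i
    have := Subgroup.mem_centralizer_iff.1 (hirr y hN) y rfl
    rw [← this, mul_inv_cancel_right] at hcy
    rw [sq]
    exact eq_inv_iff_mul_eq_one.1 hcy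
  have h1 : Nat.card (P ⧸ frattini P) ≤
      Nat.card {χ : Cfsg.IrrCharacter P // Char.irrConj χ = χ} := by
    rw [← CommGroup.card_monoidHom_of_hasEnoughRootsOfUnity (P ⧸ frattini P) ℂ]
    have hreal2 : ∀ l : P ⧸ frattini P →* ℂˣ,
        Char.irrConj (Char.linearEquiv (l.comp (QuotientGroup.mk' (frattini P)))).1 =
          (Char.linearEquiv (l.comp (QuotientGroup.mk' (frattini P)))).1 := fun l => by
      rw [Char.irrConj_eq_iff]
      intro g
      show ((l (QuotientGroup.mk' (frattini P) g) : ℂˣ) : ℂ).im = 0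
      have h2 : (l (QuotientGroup.mk' (frattini P) g) : ℂ) ^ 2 = 1 := by
        rw [← Units.val_pow_eq_pow_val, ← map_pow, ← map_pow, QuotientGroup.mk'_apply,
          (QuotientGroup.eq_one_iff _).2 (Solv.pow_mem_frattini hP g), map_one, Units.val_one]
      rcases sq_eq_one_iff.1 h2 with h | h <;> rw [h] <;> simp
    refine Nat.card_le_card_of_injective (fun l => ⟨_, hreal2 l⟩) fun l l' hll => ?_
    exact MonoidHom.cancel_right (QuotientGroup.mk'_surjective _) |>.1
      (Char.linearEquiv.injective (Subtype.ext (by exact congrArg (fun x => x.1) hll)))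
  rw [Char.card_real_irr_eq_card_real_classes] at h1
  obtain ⟨I, hI⟩ : ∃ I, I = {c : ConjClasses P | ∃ y : P, ConjClasses.mk y = c ∧ orderOf y = 2} :=
    ⟨_, rfl⟩
  have h2 : Nat.card {C : ConjClasses P // ∀ g : P, ConjClasses.mk g = C → IsConj g g⁻¹} ≤
      I.ncard + 1 := by
    refine le_trans ?_ (Set.ncard_insert_le (ConjClasses.mk 1) I)
    refine le_trans (le_of_eq (Nat.card_coe_set_eq
      {C : ConjClasses P | ∀ g : P, ConjClasses.mk g = C → IsConj g g⁻¹}))
      (Set.ncard_le_ncard (fun C hC => ?_) (Set.toFinite _))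
    obtain ⟨g, rfl⟩ := ConjClasses.mk_surjective C
    by_cases hg : g = 1
    · exact Or.inl (hg ▸ rfl)
    · refine Or.inr (hI ▸ ⟨g, rfl, orderOf_eq_prime (hreal g (hC g rfl)) hg⟩)
  have h3 : Nat.card (P ⧸ frattini P) ≤ I.ncard + 1 := h1.trans h2
  refine ⟨by rwa [hI, ← Nat.card_coe_set_eq] at h3, h3.trans ?_⟩
  obtain ⟨W, hW⟩ : ∃ W, W = Subgroup.closure {y : P | orderOf y = 2} := ⟨_, rfl⟩
  rw [← hW]
  have h4 : I ⊆ ConjClasses.mk '' {y : P | orderOf y = 2} := fun c hc => by
    rw [hI] at hc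
    obtain ⟨y, rfl, hy⟩ := hc
    exact ⟨y, hy, rfl⟩
  have h5 : I.ncard ≤ {y : P | orderOf y = 2}.ncard :=
    (Set.ncard_le_ncard h4 (Set.toFinite _)).trans (Set.ncard_image_le (Set.toFinite _))
  have h6 : (insert 1 {y : P | orderOf y = 2}).ncard ≤ (W : Set P).ncard :=
    Set.ncard_le_ncard (Set.insert_subset (one_mem W) (fun y hy => by
      rw [hW]
      exact Subgroup.subset_closure hy)) (Set.toFinite _)
  rw [Set.ncard_insert_of_notMem (by simp) (Set.toFinite _)] at h6
  rw [← Nat.card_coe_set_eq (W : Set P)] at h6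
  exact (Nat.add_le_add_right h5 1).trans h6

end Cfsg.Agent.S4029
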