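import Cfsg.Statements.S4032
import Cfsg.Agent.Lib.Solv.SZ

set_option autoImplicit false
open Cfsg

open scoped Pointwise commutatorElement

namespace Cfsg.Agent.S4032

/-- Let π be a set of primes and G a finite group in which N_G(⟨x⟩) = C_G(x) for every π-element x. If N is a normal subgroup of G whose order is divisible by no prime of π, then G/N has the same property: N_{G/N}(⟨y⟩) = C_{G/N}(y) for every π-element y of G/N. -/
theorem result {G : Type*} [Group G] [Finite G] (π : Set ℕ)
    (hirr : ∀ x : G, (∀ r : ℕ, r.Prime → r ∣ orderOf x → r ∈ π) →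
      Subgroup.normalizer ((Subgroup.zpowers x : Subgroup G) : Set G) ≤ Subgroup.centralizer {x})
    (N : Subgroup G) [N.Normal] (hN : ∀ r : ℕ, r.Prime → r ∣ Nat.card N → r ∉ π) :
    ∀ y : G ⧸ N, (∀ r : ℕ, r.Prime → r ∣ orderOf y → r ∈ π) →
      Subgroup.normalizer ((Subgroup.zpowers y : Subgroup (G ⧸ N)) : Set (G ⧸ N)) ≤ Subgroup.centralizer {y} := by
  intro y hy h hh
  obtain ⟨g, rfl⟩ := QuotientGroup.mk_surjective y
  obtain ⟨h, rfl⟩ := QuotientGroup.mk_surjective h
  set f := QuotientGroup.mk' N
  set n := orderOf (f g) with hn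
  set d := Nat.card N with hd
  have hco : n.Coprime d := Nat.coprime_of_dvd fun r hr h1 h2 => hN r hr h2 (hy r hr h1)
  obtain ⟨s, hs⟩ := exists_pow_eq_self_of_coprime (x := f g) (n := d) hco.symm
  set x := (g ^ d) ^ s with hx
  have hxf : f x = f g := by rw [hx, map_pow, map_pow, hs]
  have hxn : orderOf x ∣ n := by
    refine (orderOf_pow_dvd s).trans (orderOf_dvd_of_pow_eq_one ?_)
    rw [← pow_mul, mul_comm, pow_mul]
    have h1 : g ^ n ∈ N := by
      rw [← QuotientGroup.eq_one_iff, QuotientGroup.mk_pow]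
      exact pow_orderOf_eq_one (f g)
    exact congrArg Subtype.val (pow_card_eq_one' (G := N) (x := ⟨g ^ n, h1⟩))
  have hxord : (Nat.card N).Coprime (Nat.card (Subgroup.zpowers x)) := by
    rw [Nat.card_zpowers]; exact hco.symm.coprime_dvd_right hxn
  have hxN : Subgroup.zpowers x ≤ Subgroup.normalizer (N : Set G) := by
    rw [Subgroup.normalizer_eq_top]; exact le_top
  have himg : (Subgroup.zpowers x).map f = Subgroup.zpowers (f g) := by
    rw [MonoidHom.map_zpowers, hxf]
  have hK : MulAut.conj h • Subgroup.zpowers x ≤ N ⊔ Subgroup.zpowers x := by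
    have h1 : (MulAut.conj h • Subgroup.zpowers x).map f = (Subgroup.zpowers x).map f := by
      rw [Solv.map_conj_smul, himg]
      exact Solv.conj_smul_of_mem_normalizer hh
    have h2 := Subgroup.le_comap_map f (MulAut.conj h • Subgroup.zpowers x)
    rw [h1, Subgroup.comap_map_eq, QuotientGroup.ker_mk', sup_comm] at h2
    exact h2
  obtain ⟨m, hm, e⟩ := Solv.sz_conj_rel N (Subgroup.zpowers x) _ hxN hK hxord
    (Solv.card_conj_smul h _) (Or.inr inferInstance)
  have hmn : m⁻¹ * h ∈ Subgroup.normalizer ((Subgroup.zpowers x : Subgroup G) : Set G) :=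
    Solv.mem_normalizer_of_conj_smul (by
      rw [← Solv.conj_smul_conj, ← e, Solv.conj_smul_conj, inv_mul_cancel, Solv.conj_one_smul])
  have hc := Subgroup.mem_centralizer_singleton_iff.1 (hirr x (fun r hr hrx => hy r hr (hrx.trans hxn)) hmn)
  have h3 := congrArg f hc
  have hm1 : f m = 1 := (QuotientGroup.eq_one_iff m).2 hm
  simp only [map_mul, map_inv, hm1, hxf, inv_one, one_mul] at h3
  exact Subgroup.mem_centralizer_singleton_iff.2 h3

end Cfsg.Agent.S4032
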