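import Cfsg.Statements.S4034
import Cfsg.Agent.Lib.Solv.ClassPow
import Cfsg.Agent.Lib.Fusion.Cores

set_option autoImplicit false
open Cfsg

open scoped Pointwise commutatorElement

namespace Cfsg.Agent.S4034

section

variable {Q : Type*} [Group Q] [Finite Q] {p : ℕ} [Fact p.Prime]

theorem fitting_coprime (hO : pCore p Q = ⊥) : (Nat.card (fittingSubgroup Q)).Coprime p := by
  have hp : p.Prime := Fact.out
  refine (hp.coprime_iff_not_dvd.2 fun hdvd => ?_).symm
  have hn := Solv.fittingSubgroup_normal (G := Q)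
  have := Solv.fittingSubgroup_nilpotent (G := Q)
  obtain ⟨P⟩ : Nonempty (Sylow p (fittingSubgroup Q)) := inferInstance
  have : (P : Subgroup (fittingSubgroup Q)).Characteristic := P.characteristic_of_normal inferInstance
  have h1 : (P : Subgroup (fittingSubgroup Q)).map (fittingSubgroup Q).subtype ≤ pCore p Q :=
    Solv.normal_le_pCore (P.2.map _)
  rw [hO, le_bot_iff, Subgroup.map_eq_bot_iff_of_injective _ (Subgroup.subtype_injective _)] at h1
  exact P.ne_bot_of_dvd_card hdvd h1

theorem fitting_comm (hP : Solv.PClass p Q) (hO : pCore p Q = ⊥) :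
    ∀ x ∈ fittingSubgroup Q, ∀ y ∈ fittingSubgroup Q, x * y = y * x := by
  intro x hx y hy
  have hn := Solv.fittingSubgroup_normal (G := Q)
  have hco := fitting_coprime hO
  obtain ⟨k, hk⟩ := hP x (hco.coprime_dvd_left (Subgroup.orderOf_mk x hx ▸ orderOf_dvd_natCard _))
  have h1 : (Subgroup.centralizer ({x} : Set Q)).relIndex (fittingSubgroup Q) = 1 :=
    Nat.eq_one_of_dvd_coprimes (hco.pow_right k) (Subgroup.relIndex_dvd_card _ _)
      (hk ▸ Solv.relIndex_dvd_index_normal _ _)
  exact (Subgroup.mem_centralizer_singleton_iff.1 (Subgroup.relIndex_eq_one.1 h1 hy)).symm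

theorem preg_mem_fitting (hP : Solv.PClass p Q) (hO : pCore p Q = ⊥) (q : Q)
    (hq : (orderOf q).Coprime p) : q ∈ fittingSubgroup Q := by
  have hp : p.Prime := Fact.out
  have hn := Solv.fittingSubgroup_normal (G := Q)
  have hsol := Solv.isSolvable_of_pClass hp _ Q rfl hP
  obtain ⟨i, hi⟩ := hP q hq
  set C := Subgroup.centralizer ({q} : Set Q) with hC
  set m := Nat.card C / p ^ (Nat.card C).factorization p with hm
  set j := (Nat.card C).factorization p
  have hco : m.Coprime (p ^ j) := ((Nat.coprime_ordCompl hp Nat.card_pos.ne').pow_left _).symm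
  have hCm : Nat.card C = m * p ^ j := by
    rw [mul_comm]; exact (Nat.ordProj_mul_ordCompl_eq_self _ _).symm
  obtain ⟨K, hK⟩ := Solv.hall_exists (inferInstance : Group.IsSolvable C) hCm hco
  have hqC : q ∈ C := Subgroup.mem_centralizer_singleton_iff.2 rfl
  have hqK : (⟨q, hqC⟩ : C) ∈ K := by
    obtain ⟨c, hc⟩ := Solv.hall_contain (inferInstance : Group.IsSolvable C) hCm hco
      (Subgroup.zpowers ⟨q, hqC⟩) K
      (by rw [Nat.card_zpowers, ← Subgroup.orderOf_coe]; exact hq.pow_right j) hK
    have h1 := Solv.mem_conj_smul.1 (hc (Subgroup.mem_zpowers _))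
    have e : c⁻¹ * ⟨q, hqC⟩ * c = (⟨q, hqC⟩ : C) := by
      rw [mul_assoc, inv_mul_eq_iff_eq_mul]
      exact Subtype.ext (Subgroup.mem_centralizer_singleton_iff.1 c.2).symm
    rwa [e] at h1
  refine Solv.centralizer_fitting_le hsol ?_
  rw [Subgroup.mem_centralizer_iff]
  intro f hf
  have hidx : (K.map C.subtype).index = p ^ (j + i) := by
    have h1 := (K.map C.subtype).card_mul_index
    rw [Solv.card_map_subtype, hK, ← C.card_mul_index, hi, hCm, mul_assoc, ← pow_add] at h1
    exact Nat.eq_of_mul_eq_mul_left (hK ▸ Nat.card_pos) h1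
  have hle := Solv.normal_le_of_coprime_index (fittingSubgroup Q) (K.map C.subtype)
    (hidx ▸ (fitting_coprime hO).pow_right _)
  obtain ⟨⟨f', hf'⟩, -, rfl⟩ := hle hf
  exact Subgroup.mem_centralizer_singleton_iff.1 hf'

end

/-- Let G be a finite group and p a prime. Every conjugacy class of p-regular elements of G (elements of order prime to p) has p-power size if and only if G has an abelian p-complement, i.e. an abelian subgroup of order prime to p and p-power index. -/
theorem result {G : Type*} [Group G] [Finite G] {p : ℕ} (hp : p.Prime) :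
    (∀ x : G, (orderOf x).Coprime p → ∃ k : ℕ, (ConjClasses.mk x).carrier.ncard = p ^ k) ↔
    (∃ H : Subgroup G, IsMulCommutative H ∧ ¬ p ∣ Nat.card H ∧ ∃ k : ℕ, H.index = p ^ k) := by
  have := Fact.mk hp
  constructor
  · intro h
    have hP : Solv.PClass p G := fun x hx => (h x hx).imp fun k hk => Solv.class_ncard x ▸ hk
    have hsol := Solv.isSolvable_of_pClass hp _ G rfl hP
    obtain ⟨H, hH⟩ := Solv.hall_exists hsol
      (m := Nat.card G / p ^ (Nat.card G).factorization p) (n := p ^ (Nat.card G).factorization p)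
      (by rw [mul_comm]; exact (Nat.ordProj_mul_ordCompl_eq_self _ _).symm)
      ((Nat.coprime_ordCompl hp Nat.card_pos.ne').pow_left _).symm
    have hHp : ¬ p ∣ Nat.card H := hH ▸ Nat.not_dvd_ordCompl hp Nat.card_pos.ne'
    refine ⟨H, ?_, hHp, (Nat.card G).factorization p, ?_⟩
    · have hN := Solv.pCore_normal (G := G) p
      refine ⟨⟨fun a b => Subtype.ext ?_⟩⟩
      have key : ∀ x ∈ H, QuotientGroup.mk' (pCore p G) x ∈ fittingSubgroup (G ⧸ pCore p G) := by
        intro x hx
        refine preg_mem_fitting (hP.quotient _) Fusion.pCore_quotient_eq_bot _ ?_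
        refine Nat.Coprime.coprime_dvd_left (orderOf_map_dvd _ x) ?_
        exact ((hp.coprime_iff_not_dvd.2 hHp).symm).coprime_dvd_left
          (Subgroup.orderOf_mk x hx ▸ orderOf_dvd_natCard _)
      have hc := fitting_comm (hP.quotient _) Fusion.pCore_quotient_eq_bot _ (key _ a.2) _ (key _ b.2)
      rw [← map_mul, ← map_mul] at hc
      have hmem : ((a : G) * b)⁻¹ * (b * a) ∈ H ⊓ pCore p G :=
        ⟨H.mul_mem (H.inv_mem (H.mul_mem a.2 b.2)) (H.mul_mem b.2 a.2), QuotientGroup.eq.1 hc⟩
      rw [Fusion.coprime_inf_pGroup (hp.coprime_iff_not_dvd.2 hHp).symm (Solv.pCore_isPGroup p),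
        Subgroup.mem_bot, inv_mul_eq_one] at hmem
      exact hmem
    · have h1 := H.card_mul_index
      conv_rhs at h1 => rw [← Nat.ordProj_mul_ordCompl_eq_self (Nat.card G) p]
      rw [hH, mul_comm] at h1
      exact Nat.eq_of_mul_eq_mul_right (Nat.ordCompl_pos p Nat.card_pos.ne') h1
  · rintro ⟨H, hH, hHp, k, hk⟩ x hx
    have hsol := Solv.isSolvable_of_abelian_pow_index hp _ G rfl H hH ⟨k, hk⟩
    have hG : Nat.card G = Nat.card H * p ^ k := by rw [← hk, H.card_mul_index]
    obtain ⟨g, hg⟩ := Solv.hall_contain hsol hG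
      (((hp.coprime_iff_not_dvd.2 hHp).symm).pow_right k) (Subgroup.zpowers x) H
      (by rw [Nat.card_zpowers]; exact hx.pow_right k) rfl
    have hx' := Solv.mem_conj_smul.1 (hg (Subgroup.mem_zpowers x))
    have hle : MulAut.conj g • H ≤ Subgroup.centralizer ({x} : Set G) := by
      intro y hy
      have : (g⁻¹ * y * g) * (g⁻¹ * x * g) = (g⁻¹ * x * g) * (g⁻¹ * y * g) :=
        congrArg Subtype.val (hH.is_comm.comm ⟨_, Solv.mem_conj_smul.1 hy⟩ ⟨_, hx'⟩)
      rw [Subgroup.mem_centralizer_singleton_iff]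
      calc y * x = g * ((g⁻¹ * y * g) * (g⁻¹ * x * g)) * g⁻¹ := by group
        _ = g * ((g⁻¹ * x * g) * (g⁻¹ * y * g)) * g⁻¹ := by rw [this]
        _ = x * y := by group
    have hidx : (MulAut.conj g • H).index = p ^ k := by
      have := (MulAut.conj g • H).card_mul_index
      rw [Solv.card_conj_smul, hG] at this
      exact Nat.eq_of_mul_eq_mul_left Nat.card_pos this
    obtain ⟨i, -, hi⟩ := (Nat.dvd_prime_pow hp).1 (hidx ▸ Subgroup.index_dvd_of_le hle)
    exact ⟨i, Solv.class_ncard x ▸ hi⟩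

end Cfsg.Agent.S4034
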