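import Cfsg.Statements.S4035
import Cfsg.Agent.Lib.Solv.Parts
import Cfsg.Agent.Lib.Solv.ClassPow
import Cfsg.Agent.Lib.Solv.DirectFactor
import Cfsg.Agent.Lib.Fusion.Basic

set_option autoImplicit false
set_option linter.style.haveILetI false
open Cfsg

open scoped Pointwise commutatorElement

namespace Cfsg.Agent.S4035

/-- Let G be a finite group and p a prime such that p divides the size of no conjugacy class of p-regular elements (elements of order prime to p). Then G is the internal direct product of a Sylow p-subgroup P and a normal subgroup H of order prime to p: P is normal, P ⊓ H = 1 and PH = G. -/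
theorem result {G : Type*} [Group G] [Finite G] {p : ℕ} [Fact p.Prime]
    (h : ∀ x : G, (orderOf x).Coprime p → ¬ p ∣ (ConjClasses.mk x).carrier.ncard) (P : Sylow p G) :
    (P : Subgroup G).Normal ∧ ∃ H : Subgroup G, H.Normal ∧ ¬ p ∣ Nat.card H ∧
      (P : Subgroup G) ⊓ H = ⊥ ∧ (P : Subgroup G) ⊔ H = ⊤ := by
  have hp : p.Prime := Fact.out
  set C := Subgroup.centralizer ((P : Subgroup G) : Set G) with hC
  have hconj : ∀ v : G, (orderOf v).Coprime p → ∃ x : G, x * v * x⁻¹ ∈ C := by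
    intro v hv
    have hnd := h v hv
    rw [Solv.class_ncard] at hnd
    obtain ⟨Q, hQ⟩ := Fusion.exists_sylIn (p := p) (Subgroup.centralizer ({v} : Set G))
    have hQ' : Fusion.SylIn p Q ⊤ := ⟨le_top, hQ.isPGroup, fun hd => by
      rw [← Subgroup.relIndex_mul_relIndex Q _ ⊤ hQ.le le_top, Subgroup.relIndex_top_right] at hd
      exact (hp.dvd_mul.1 hd).elim hQ.not_dvd hnd⟩
    obtain ⟨x, -, hx⟩ := hQ'.conj_eq (Fusion.sylIn_top P)
    refine ⟨x, ?_⟩
    rw [hC, ← hx, ← Fusion.cj_centralizer]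
    refine ⟨v, ?_, rfl⟩
    show v ∈ Subgroup.centralizer (Q : Set G)
    rw [Subgroup.mem_centralizer_iff]
    intro q hq
    exact Subgroup.mem_centralizer_singleton_iff.1 (hQ.le hq)
  set L := Subgroup.normalizer ((P : Subgroup G) : Set G) with hL
  have hLtop : L = ⊤ := Solv.eq_top_of_forall_conj_mem L fun g => by
    obtain ⟨u, v, hu, hv, huv, ⟨k, hk⟩, hvp⟩ := Solv.exists_ppart p g
    obtain ⟨x, hx⟩ := hconj v hvp
    set v' := x * v * x⁻¹ with hv'
    set u' := x * u * x⁻¹ with hu'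
    have hcomm : u * v = v * u := by
      obtain ⟨i, rfl⟩ := hu
      obtain ⟨j, rfl⟩ := hv
      exact (Commute.zpow_zpow_self g i j).eq
    have hu'C : Subgroup.zpowers u' ≤ Subgroup.centralizer ({v'} : Set G) := by
      rw [Subgroup.zpowers_le, Subgroup.mem_centralizer_singleton_iff, hu', hv']
      calc x * u * x⁻¹ * (x * v * x⁻¹) = x * (u * v) * x⁻¹ := by group
        _ = x * (v * u) * x⁻¹ := by rw [hcomm]
        _ = _ := by group
    have hPC : (P : Subgroup G) ≤ Subgroup.centralizer ({v'} : Set G) := fun s hs =>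
      Subgroup.mem_centralizer_singleton_iff.2 (Subgroup.mem_centralizer_iff.1 hx s hs)
    obtain ⟨y, hy, hyu⟩ := ((Fusion.sylIn_top P).mono hPC le_top).conj_le
      (Solv.isPGroup_zpowers (p := p) (k := k) (by
        rw [hu', ← MulAut.conj_apply, MulEquiv.orderOf_eq, hk])) hu'C
    refine ⟨y * x, ?_⟩
    have h1 : y * u' * y⁻¹ ∈ (P : Subgroup G) := hyu ⟨u', Subgroup.mem_zpowers u', rfl⟩
    have hy' := Subgroup.mem_centralizer_singleton_iff.1 hy
    have h2 : y * v' * y⁻¹ = v' := by rw [hy', mul_inv_cancel_right]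
    rw [← huv, show y * x * (u * v) * (y * x)⁻¹ = y * u' * y⁻¹ * (y * v' * y⁻¹) by
      rw [hu', hv']; group, h2]
    exact mul_mem (Subgroup.le_normalizer h1) (Subgroup.centralizer_le_normalizer _ hx)
  haveI hPn : (P : Subgroup G).Normal := Subgroup.normalizer_eq_top_iff.1 hLtop
  haveI hCn : C.Normal := by rw [hC]; infer_instance
  obtain ⟨-, K, hKn, hinf, hsup, -⟩ := Solv.exists_direct_factor P fun q hq hqp Q hQ v hv => by
    haveI := Fact.mk hq
    obtain ⟨k, hk⟩ := IsPGroup.iff_orderOf.1 hQ ⟨v, hv⟩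
    rw [Subgroup.orderOf_mk] at hk
    obtain ⟨x, hx⟩ := hconj v (hk ▸ Nat.Coprime.pow_left k ((Nat.coprime_primes hq hp).2 hqp))
    have h3 := hCn.conj_mem _ hx x⁻¹
    rwa [show x⁻¹ * (x * v * x⁻¹) * x⁻¹⁻¹ = v by group] at h3
  refine ⟨hPn, K, hKn, fun hd => P.not_dvd_index ?_, hinf, hsup⟩
  have h5 := Solv.card_sup_of_inf_eq_bot (P : Subgroup G) K hinf
  rw [hsup, Subgroup.card_top] at h5
  have h6 := (P : Subgroup G).card_mul_index
  rw [h5] at h6
  rwa [Nat.eq_of_mul_eq_mul_left Nat.card_pos h6]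

end Cfsg.Agent.S4035
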