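import Cfsg.Statements.S4036

set_option autoImplicit false
open Cfsg

open scoped Pointwise commutatorElement

namespace Cfsg.Agent.S4036

/-- Let P be a finite abelian p-group and K a group of automorphisms of P (a subgroup of Aut P) whose order is divisible by p. If all non-identity elements of K have the same fixed-point subgroup on P, then K has no non-trivial normal subgroup of order prime to p. -/
theorem result {P : Type*} [CommGroup P] [Finite P] {p : ℕ}
    [Fact p.Prime] (hP : IsPGroup p P) (K : Subgroup (MulAut P)) (hK : p ∣ Nat.card K)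
    (hfix : ∀ x y : MulAut P, x ∈ K → y ∈ K → x ≠ 1 → y ≠ 1 → ∀ v : P, x v = v ↔ y v = v) :
    ∀ N : Subgroup ↥K, N.Normal → ¬ p ∣ Nat.card N → N = ⊥ := by
  intro N hN hNp
  by_contra hne
  have hp : p.Prime := Fact.out
  obtain ⟨⟨x, hxK⟩, hx⟩ := exists_prime_orderOf_dvd_card' (G := K) p hK
  have hx1 : x ≠ 1 := fun e => by
    subst e
    rw [show (⟨1, hxK⟩ : K) = 1 from rfl, orderOf_one] at hx
    exact hp.ne_one hx.symm
  obtain ⟨n₀, hn₀⟩ := Subgroup.ne_bot_iff_exists_ne_one.1 hne
  have hall : ∀ y : K, y ≠ 1 → ∀ v : P, (y : MulAut P) v = v ↔ x v = v := fun y hy v =>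
    hfix y x y.2 hxK (fun e => hy (Subtype.ext e)) hx1 v
  have hn₀' : (n₀ : K) ≠ 1 := fun e => hn₀ (Subtype.ext e)
  let δ : P →* P :=
    { toFun := fun v => x v / v
      map_one' := by simp
      map_mul' := fun a b => by rw [map_mul]; exact mul_div_mul_comm _ _ _ _ }
  have hker : ∀ v : P, δ v = 1 ↔ x v = v := fun v => div_eq_one
  have hPe : ∀ v : P, x v = v := by
    by_contra hex
    rw [not_forall] at hex
    obtain ⟨v₁, hv₁⟩ := hex
    suffices h : ∃ v, x v ≠ v ∧ x (δ v) = δ v by
      obtain ⟨v, hv, hfv⟩ := h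
      set f := δ v with hf
      have hxv : x v = v * f := by rw [hf]; exact (mul_div_cancel v (x v)).symm
      classical
      have := Fintype.ofFinite N
      set w := ∏ n : N, ((n : K) : MulAut P) v with hw
      have hwN : ((n₀ : K) : MulAut P) w = w := by
        rw [hw, map_prod]
        exact Equiv.prod_comp (Equiv.mulLeft n₀) (fun n : N => ((n : K) : MulAut P) v)
      have hwx : x w = w := (hall _ hn₀' w).1 hwN
      let c : N ≃ N :=
        { toFun := fun n => ⟨⟨x, hxK⟩ * n * (⟨x, hxK⟩ : K)⁻¹, hN.conj_mem _ n.2 _⟩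
          invFun := fun n => ⟨(⟨x, hxK⟩ : K)⁻¹ * n * ⟨x, hxK⟩, by
            simpa using hN.conj_mem _ n.2 (⟨x, hxK⟩ : K)⁻¹⟩
          left_inv := fun n => Subtype.ext (by simp [mul_assoc])
          right_inv := fun n => Subtype.ext (by simp [mul_assoc]) }
      have h1 : x w = w * f ^ Nat.card N := by
        rw [hw, map_prod, ← Equiv.prod_comp c (fun n : N => ((n : K) : MulAut P) v),
          Nat.card_eq_fintype_card, ← Finset.card_univ, ← Finset.prod_const, ← Finset.prod_mul_distrib]
        refine Finset.prod_congr rfl fun n _ => ?_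
        have hm : ((c n : K) : MulAut P) = x * ((n : K) : MulAut P) * x⁻¹ := rfl
        have hmf : ((c n : K) : MulAut P) f = f := by
          by_cases hc1 : (c n : K) = 1
          · rw [hc1]; rfl
          · exact (hall _ hc1 f).2 hfv
        calc x (((n : K) : MulAut P) v) = (x * ((n : K) : MulAut P) * x⁻¹) (x v) := by
              simp [MulAut.mul_apply]
          _ = _ := by rw [← hm, hxv, map_mul, hmf]
      rw [hwx, left_eq_mul] at h1
      have hf1 : f = 1 := by
        obtain ⟨j, hj⟩ := IsPGroup.iff_orderOf.1 hP f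
        rw [← orderOf_eq_one_iff]
        refine Nat.eq_one_of_dvd_coprimes ((hp.coprime_iff_not_dvd.2 hNp).pow_left j) ?_
          (orderOf_dvd_of_pow_eq_one h1)
        rw [hj]
      exact hv ((hker v).1 hf1)
    -- `δ` is nilpotent
    obtain ⟨v, hv, hfv⟩ : ∃ v : P, x v ≠ v ∧ x (δ v) = δ v := by
      letI : MulAction K P := MulAction.compHom P K.subtype
      let Q : Subgroup K := Subgroup.zpowers ⟨x, hxK⟩
      have hQ : IsPGroup p Q := IsPGroup.of_card (n := 1) (by rw [Nat.card_zpowers, hx, pow_one])
      let F : Subgroup P := δ.ker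
      have hFstab : ∀ q : Q, ∀ u ∈ F, ((q : K) : MulAut P) u = u := by
        intro q u hu
        by_cases hq : (q : K) = 1
        · rw [hq]; rfl
        · exact (hall _ hq u).2 ((hker u).1 hu)
      letI : MulAction Q (P ⧸ F) :=
        { smul := fun q => Quotient.map' (fun u => ((q : K) : MulAut P) u) (fun a b hab => by
            rw [QuotientGroup.leftRel_apply] at hab ⊢
            rw [← map_inv, ← map_mul, hFstab q _ hab]
            exact hab)
          one_smul := fun t => by
            obtain ⟨u, rfl⟩ := QuotientGroup.mk_surjective t; rfl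
          mul_smul := fun q r t => by
            obtain ⟨u, rfl⟩ := QuotientGroup.mk_surjective t; rfl }
      have hd : p ∣ Nat.card (P ⧸ F) := by
        obtain ⟨k, hk⟩ := IsPGroup.iff_card.1 (hP.to_quotient F)
        rw [hk]
        refine dvd_pow_self p fun h0 => ?_
        rw [h0, pow_zero, ← Subgroup.index_eq_card, Subgroup.index_eq_one] at hk
        exact hv₁ ((hker v₁).1 (hk.ge (Subgroup.mem_top v₁)))
      obtain ⟨t, ht, ht1⟩ := hQ.exists_fixed_point_of_prime_dvd_card_of_fixed_point (P ⧸ F) hd
        (a := ((1 : P) : P ⧸ F)) (fun q => by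
          show ((((q : K) : MulAut P) 1 : P) : P ⧸ F) = _
          rw [map_one])
      obtain ⟨v, rfl⟩ := QuotientGroup.mk_surjective t
      refine ⟨v, fun e => ht1 ?_, ?_⟩
      · symm; rw [QuotientGroup.eq]; simpa using F.inv_mem ((hker v).2 e)
      · have h2 : ((x v : P) : P ⧸ F) = (v : P ⧸ F) := ht ⟨⟨x, hxK⟩, Subgroup.mem_zpowers _⟩
        rw [← hker]
        show δ (x v / v) = 1
        rw [← MonoidHom.mem_ker]
        rw [QuotientGroup.eq] at h2
        have h3 : x v / v = ((x v)⁻¹ * v)⁻¹ := by rw [mul_inv_rev, inv_inv, div_eq_inv_mul]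
        rw [h3]
        exact F.inv_mem h2
    exact ⟨v, hv, hfv⟩
  exact hx1 (MulEquiv.ext hPe)

end Cfsg.Agent.S4036
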