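import Cfsg.Statements.S4039
import Cfsg.Agent.Lib.Solv.NilMax
import Cfsg.Agent.Lib.Solv.DirectFactor
import Cfsg.Agent.Lib.Fusion.AbelianHall
import Cfsg.Agent.Lib.Fusion.NPC

set_option autoImplicit false
set_option linter.style.haveILetI false
open Cfsg

open scoped Pointwise commutatorElement

namespace Cfsg.Agent.S4039

theorem cj_coatom {G : Type*} [Group G] {M : Subgroup G} (h : IsCoatom M) (x : G) :
    IsCoatom (M.map (MulAut.conj x).toMonoidHom) := by
  exact ((MulAut.conj x).mapSubgroup.isCoatom_iff M).2 h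

theorem cj_normalCore {G : Type*} [Group G] {M : Subgroup G} (h : M.normalCore = ⊥) (x : G) :
    (M.map (MulAut.conj x).toMonoidHom).normalCore = ⊥ := by
  rw [eq_bot_iff, ← h]
  refine Subgroup.normal_le_normalCore.2 fun y hy => ?_
  have hy' : x * y * x⁻¹ ∈ (M.map (MulAut.conj x).toMonoidHom).normalCore :=
    (Subgroup.normalCore_normal _).conj_mem y hy x
  obtain ⟨m, hm, hmy⟩ := Subgroup.normalCore_le _ hy'
  have hmy' : x * m * x⁻¹ = x * y * x⁻¹ := hmy
  rw [show y = m from mul_left_cancel (mul_right_cancel hmy'.symm)]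
  exact hm

/-- In a group with a core-free nilpotent maximal subgroup of class at most two, every
`p`-subgroup is centralized by the `p'`-elements normalizing it. -/
theorem centralize_aux {G : Type*} [Group G] [Finite G] {M : Subgroup G} (hmax : IsCoatom M)
    (hnil : Group.IsNilpotent M) (hcl : ∀ a b c : M, ⁅⁅a, b⁆, c⁆ = 1) (hcore : M.normalCore = ⊥)
    {p : ℕ} [Fact p.Prime] (hpM : p ∣ Nat.card M) :
    ∀ (k : ℕ) (Q : Subgroup G), IsPGroup p Q → Nat.card G - Nat.card Q = k →
      ∀ g ∈ Subgroup.normalizer (Q : Set G), (orderOf g).Coprime p →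
        g ∈ Subgroup.centralizer (Q : Set G) := by
  intro k
  induction k using Nat.strong_induction_on with
  | _ k ih =>
  intro Q hQ hk g hg hgp
  by_cases hQb : Q = ⊥
  · subst hQb
    rw [Subgroup.mem_centralizer_iff]
    intro q hq
    rw [show q = 1 from hq]; simp
  set N := Subgroup.normalizer (Q : Set G) with hN
  set C := Subgroup.centralizer (Q : Set G) with hC
  obtain ⟨R, hR⟩ := Fusion.exists_sylIn (p := p) N
  have hQR : Q ≤ R := by
    have hRQ : IsPGroup p (R ⊔ Q : Subgroup G) :=
      hR.isPGroup.to_sup_of_normal_right' hQ hR.le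
    rw [← hR.eq_of_le hRQ le_sup_left (sup_le hR.le Subgroup.le_normalizer)]
    exact le_sup_right
  obtain ⟨T, hRT⟩ := hR.isPGroup.exists_le_sylow
  obtain ⟨-, P, hPM, hPne, hMP⟩ := Solv.sylow_le_coatom (p := p) hmax hcore hnil hpM
  obtain ⟨x, rfl⟩ := MulAction.exists_smul_eq G P T
  set M' := M.map (MulAut.conj x).toMonoidHom with hM'
  have hTM' : ((x • P : Sylow p G) : Subgroup G) ≤ M' := Subgroup.map_mono hPM
  have hM'nil : Group.IsNilpotent M' :=
    Group.nilpotent_of_surjective ((MulAut.conj x).toMonoidHom.subgroupMap M)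
      ((MulAut.conj x).toMonoidHom.subgroupMap_surjective M)
  have hM'T : M' ≤ Subgroup.normalizer (((x • P : Sylow p G) : Subgroup G) : Set G) :=
    (Subgroup.map_mono hMP).trans (Subgroup.le_normalizer_map _)
  set Z := ((x • P : Sylow p G) : Subgroup G) ⊓
    Subgroup.centralizer (((x • P : Sylow p G) : Subgroup G) : Set G) with hZdef
  have hQT : Q ≤ ((x • P : Sylow p G) : Subgroup G) := hQR.trans hRT
  by_cases hZ : Z ≤ Q
  · have hTN : ((x • P : Sylow p G) : Subgroup G) ≤ N := by
      have key : ∀ t ∈ ((x • P : Sylow p G) : Subgroup G), ∀ q ∈ Q, t * q * t⁻¹ ∈ Q := by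
        intro t ht q hq
        have hz : ⁅t, q⁆ ∈ Z := by
          refine Subgroup.mem_inf.2 ⟨?_, ?_⟩
          · rw [commutatorElement_def]
            exact mul_mem (mul_mem (mul_mem ht (hQT hq)) (inv_mem ht)) (inv_mem (hQT hq))
          · rw [Subgroup.mem_centralizer_iff]
            intro c hc
            obtain ⟨a, ha, ha'⟩ :=
              (show t ∈ (P : Subgroup G).map (MulAut.conj x).toMonoidHom from ht)
            obtain ⟨b, hb, hb'⟩ :=
              (show q ∈ (P : Subgroup G).map (MulAut.conj x).toMonoidHom from hQT hq)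
            obtain ⟨d, hd, hd'⟩ :=
              (show c ∈ (P : Subgroup G).map (MulAut.conj x).toMonoidHom from hc)
            have h1 := congrArg (Subtype.val : M → G) (hcl ⟨a, hPM ha⟩ ⟨b, hPM hb⟩ ⟨d, hPM hd⟩)
            have h2 : ⁅⁅t, q⁆, c⁆ = 1 := by
              rw [← ha', ← hb', ← hd', ← map_commutatorElement, ← map_commutatorElement]
              rw [show (⁅⁅a, b⁆, d⁆ : G) = 1 from h1, map_one]
            exact (commutatorElement_eq_one_iff_mul_comm.1 h2).symm
        have h3 := Q.mul_mem (hZ hz) hq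
        simpa [commutatorElement_def] using h3
      intro t ht
      refine Subgroup.mem_normalizer_iff.2 fun q => ⟨key t ht q, fun h => ?_⟩
      have h4 := key t⁻¹ (inv_mem ht) _ h
      simpa [mul_assoc] using h4
    have hM'N : M' ≤ N := by
      haveI := hM'nil
      refine Solv.le_of_forall_isPGroup fun q hq R' hR'M hR' => ?_
      by_cases hqp : q = p
      · subst hqp
        refine le_trans ?_ hTN
        have hs : IsPGroup q (R' ⊔ ((x • P : Sylow q G) : Subgroup G) : Subgroup G) :=
          hR'.to_sup_of_normal_right' (x • P : Sylow q G).isPGroup' (hR'M.trans hM'T)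
        rw [← (x • P : Sylow q G).is_maximal' hs le_sup_right]
        exact le_sup_left
      · intro r hr
        refine Subgroup.centralizer_le_normalizer _
          (Subgroup.centralizer_le (s := (Q : Set G)) (t := (((x • P : Sylow p G) : Subgroup G) : Set G)) hQT ?_)
        have hrp : (orderOf r).Coprime p := by
          obtain ⟨j, hj⟩ := hR' ⟨r, hr⟩
          haveI := Fact.mk hq
          refine Nat.Coprime.coprime_dvd_left (orderOf_dvd_of_pow_eq_one
            (congrArg Subtype.val hj)) ?_
          exact Nat.Coprime.pow_left j ((Nat.coprime_primes hq Fact.out).2 hqp)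
        have h := Fusion.hnpc_centralize (Fusion.hnpc_of_isNilpotent (G := M') (p := p))
          (Q := ((x • P : Sylow p G) : Subgroup G).subgroupOf M')
          ((x • P : Sylow p G).isPGroup'.comap_of_injective _ M'.subtype_injective)
          (g := ⟨r, hR'M hr⟩) (by
            rw [← Subgroup.subgroupOf_normalizer_eq hTM']
            exact hM'T (hR'M hr)) (by rwa [Subgroup.orderOf_mk])
        rw [Subgroup.mem_centralizer_iff] at h ⊢
        intro t ht
        exact congrArg Subtype.val (h ⟨t, hTM' ht⟩ ht)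
    have hNeq : N = M' := Solv.normalizer_eq_coatom (cj_coatom hmax x) (cj_normalCore hcore x)
      (hQT.trans hTM') hQb hM'N
    haveI : Group.IsNilpotent N := hNeq ▸ hM'nil
    have h := Fusion.hnpc_centralize (Fusion.hnpc_of_isNilpotent (G := N) (p := p))
      (Q := Q.subgroupOf N) (hQ.comap_of_injective _ N.subtype_injective)
      (g := ⟨g, hg⟩) (by
        rw [← Subgroup.subgroupOf_normalizer_eq Subgroup.le_normalizer]; exact hg)
      (by rwa [Subgroup.orderOf_mk])
    rw [Subgroup.mem_centralizer_iff] at h ⊢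
    intro t ht
    exact congrArg Subtype.val (h ⟨t, Subgroup.le_normalizer ht⟩ ht)
  · set L := Q ⊔ C with hL
    have hLN : L ≤ N := sup_le Subgroup.le_normalizer (Subgroup.centralizer_le_normalizer _)
    have hNC : N ≤ Subgroup.normalizer (C : Set G) := fun n hn => by
      rw [Fusion.mem_normalizer_iff_cj, hC, Fusion.cj_centralizer, Fusion.cj_eq_self hn]
    have hNL : N ≤ Subgroup.normalizer (L : Set G) := fun n hn => by
      rw [Fusion.mem_normalizer_iff_cj, hL, Fusion.cj_sup, Fusion.cj_eq_self hn,
        Fusion.cj_eq_self (hNC hn)]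
    have hU := hR.inf_normal hLN hNL
    set U := R ⊓ L with hUdef
    have hQU : Q < U := by
      refine lt_of_le_not_ge (le_inf hQR le_sup_left) fun h => hZ fun z hz => h ?_
      have hzC : z ∈ C := Subgroup.centralizer_le (s := (Q : Set G))
        (t := (((x • P : Sylow p G) : Subgroup G) : Set G)) hQT hz.2
      refine ⟨?_, Subgroup.mem_sup_right hzC⟩
      have hRe := hR.eq_of_le (Q := ((x • P : Sylow p G) : Subgroup G) ⊓ N)
        (x • P : Sylow p G).isPGroup'.to_inf_left (le_inf hRT hR.le) inf_le_right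
      rw [← hRe]
      exact ⟨hz.1, Subgroup.centralizer_le_normalizer _ hzC⟩
    obtain ⟨l, hl, hlg⟩ := Fusion.frattini_conj hU hNL hg
    have hl' : l ∈ ((Q : Set G) * (C : Set G)) := by
      rw [← Subgroup.coe_mul_of_right_le_normalizer_left Q C (Subgroup.centralizer_le_normalizer _)]
      exact hl
    obtain ⟨q, hq, c, hc, rfl⟩ := hl'
    replace hq : q ∈ Q := hq
    replace hc : c ∈ C := hc
    have hn : c * g ∈ Subgroup.normalizer (U : Set G) := by
      have h := mul_mem (inv_mem (Subgroup.le_normalizer (H := U) (hQU.le hq))) hlg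
      simpa [mul_assoc] using h
    have hU' : ∀ n ∈ Subgroup.normalizer (U : Set G), (orderOf n).Coprime p →
        n ∈ C := by
      intro n hn hnp
      refine Subgroup.centralizer_le (s := (Q : Set G)) (t := (U : Set G)) hQU.le ?_
      refine ih (Nat.card G - Nat.card U) ?_ U hU.isPGroup rfl n hn hnp
      rw [← hk]
      have h1 := Solv.card_lt_of_lt hQU
      have h2 := Subgroup.card_le_card_group U
      omega
    obtain ⟨j, m, hm, hnm⟩ := Nat.exists_eq_pow_mul_and_not_dvd (orderOf_pos (c * g)).ne' p
      (Fact.out : p.Prime).ne_one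
    have hmc : (c * g) ^ p ^ j ∈ C := by
      refine hU' _ (pow_mem hn _) (Nat.Coprime.coprime_dvd_left
        (orderOf_dvd_of_pow_eq_one (n := m) (by rw [← pow_mul, ← hnm, pow_orderOf_eq_one])) ?_)
      exact ((Fact.out : p.Prime).coprime_iff_not_dvd.2 hm).symm
    have hexp : ∀ i : ℕ, ∃ c' ∈ C, (c * g) ^ i = c' * g ^ i := by
      intro i
      induction i with
      | zero => exact ⟨1, one_mem _, by simp⟩
      | succ i hi =>
        obtain ⟨c', hc', he⟩ := hi
        refine ⟨c' * (g ^ i * c * (g ^ i)⁻¹),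
          mul_mem hc' ((Subgroup.mem_normalizer_iff.1 (hNC (pow_mem hg i)) c).1 hc), ?_⟩
        rw [pow_succ, he, pow_succ]; group
    obtain ⟨c', hc', he⟩ := hexp (p ^ j)
    have hgC : g ^ p ^ j ∈ C := by
      have h := mul_mem (inv_mem hc') (he ▸ hmc)
      simpa using h
    obtain ⟨i, hi⟩ := exists_pow_eq_self_of_coprime (x := g) (n := p ^ j)
      (Nat.Coprime.pow_left j hgp.symm)
    rw [← hi]
    exact pow_mem hgC i

/-- A finite group possessing a maximal subgroup that is nilpotent of class at most 2 is solvable. -/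
theorem result {G : Type*} [Group G] [Finite G]
    (M : Subgroup G) (hmax : IsCoatom M) (hnil : Group.IsNilpotent M) (hcl : Group.nilpotencyClass ↥M ≤ 2) :
    Group.IsSolvable G := by
  have hcl' : ∀ a b c : M, ⁅⁅a, b⁆, c⁆ = 1 := fun a b c => by
    have h := (Subgroup.lowerCentralSeries_eq_bot_iff_nilpotencyClass_le (G := M) (n := 2)).2 hcl
    rw [← Subgroup.mem_bot, ← h, Subgroup.lowerCentralSeries_succ, Subgroup.lowerCentralSeries_succ,
      Subgroup.lowerCentralSeries_zero]
    exact Subgroup.commutator_mem_commutator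
      (Subgroup.commutator_mem_commutator trivial trivial) trivial
  refine Solv.solvable_of_nil_coatom (fun H _ => ∀ a b c : H, ⁅⁅a, b⁆, c⁆ = 1)
    (fun H K _ _ f hf h a b c => ?_)
    (fun G _ _ M hmax hnil hcl hcore _ => ?_) M hmax hnil hcl'
  · obtain ⟨a, rfl⟩ := hf a
    obtain ⟨b, rfl⟩ := hf b
    obtain ⟨c, rfl⟩ := hf c
    rw [← map_commutatorElement, ← map_commutatorElement, h, map_one]
  refine Solv.solvable_of_forall_hnpc hmax hnil
    (fun p hp hd => by haveI := Fact.mk hp; exact (Solv.sylow_le_coatom hmax hcore hnil hd).1)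
    fun p hp hd => ?_
  haveI := Fact.mk hp
  obtain ⟨P⟩ : Nonempty (Sylow p G) := inferInstance
  exact Fusion.hnpc_of_centralize (Fusion.sylIn_top P) fun Q hQ g hg hgp =>
    centralize_aux hmax hnil hcl hcore hd _ Q (P.isPGroup'.to_le hQ) rfl g hg hgp

end Cfsg.Agent.S4039
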