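import Cfsg.Statements.S4040
import Cfsg.Agent.Lib.Solv.NilMax
import Cfsg.Agent.S1988
import Cfsg.Agent.Lib.Fusion.AbelianHall

set_option autoImplicit false
open Cfsg

open scoped Pointwise commutatorElement

namespace Cfsg.Agent.S4040

/-- A finite group possessing a maximal subgroup that is nilpotent of odd order is solvable. -/
theorem result {G : Type*} [Group G] [Finite G]
    (M : Subgroup G) (hmax : IsCoatom M) (hnil : Group.IsNilpotent M) (hodd : Odd (Nat.card M)) :
    Group.IsSolvable G := by
  refine Solv.solvable_of_nil_coatom (fun H _ => Odd (Nat.card H))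
    (fun H K _ _ f hf h => Odd.of_dvd_nat h (Subgroup.card_dvd_of_surjective f hf))
    (fun G _ _ M hmax hnil hodd hcore _ => ?_) M hmax hnil hodd
  refine Solv.solvable_of_forall_hnpc hmax hnil
    (fun p hp hd => by haveI := Fact.mk hp; exact (Solv.sylow_le_coatom hmax hcore hnil hd).1)
    fun p hp hd => ?_
  haveI := Fact.mk hp
  have hp2 : p ≠ 2 := fun h => by
    subst h
    exact (Nat.not_even_iff_odd.2 hodd) (even_iff_two_dvd.2 hd)
  obtain ⟨-, P, hPM, hPne, hMP⟩ := Solv.sylow_le_coatom hmax hcore hnil hd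
  refine S1988.result hp2 P (Or.inl ?_)
  have hW := Fusion.isConjugacyFunctor_induced (G := G) (Fusion.isCharPFunctor_kInfLower p) (P : Subgroup G) P.isPGroup'
  rw [Solv.normalizer_eq_coatom hmax hcore (hW.1.trans hPM) (hW.2.1 hPne)
    (hMP.trans (Fusion.conjFunctor_normalizer_le
      (Fusion.isConjugacyFunctor_induced (Fusion.isCharPFunctor_kInfLower p)) P.isPGroup'))]
  haveI := hnil
  exact Fusion.hnpc_of_isNilpotent

end Cfsg.Agent.S4040
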