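import Cfsg.Statements.S4043
import Cfsg.Agent.Lib.Solv.SZ
import Cfsg.Agent.Lib.Fusion.NPC
import Cfsg.Agent.Lib.Char.Glauberman
import Cfsg.Agent.Lib.Solv.Parts

set_option autoImplicit false
set_option linter.style.haveILetI false
open Cfsg

open scoped Pointwise commutatorElement

namespace Cfsg.Agent.S4043

/-- Let G be a finite group that is the semidirect product of a normal p-subgroup N by a subgroup A, and also of N by a subgroup A₁, where p is a prime and A and A₁ both have normal p-complements. If C_N(A) = C_N(A₁) = 1, then A₁ is conjugate to A by an element of N. -/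
theorem result {G : Type*} [Group G] [Finite G] {p : ℕ}
    [Fact p.Prime] (N : Subgroup G) [N.Normal] (hN : IsPGroup p N) (A A₁ : Subgroup G)
    (hA : A.IsComplement' N) (hA₁ : A₁.IsComplement' N)
    (hAp : Cfsg.HasNormalPComplement p A) (hA₁p : Cfsg.HasNormalPComplement p A₁)
    (hC : ∀ n : G, n ∈ N → (∀ a : G, a ∈ A → a * n * a⁻¹ = n) → n = 1)
    (hC₁ : ∀ n : G, n ∈ N → (∀ a : G, a ∈ A₁ → a * n * a⁻¹ = n) → n = 1) :
    ∃ n : G, n ∈ N ∧ A₁ = A.map (MulAut.conj n).toMonoidHom := by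
  have hp : p.Prime := Fact.out
  obtain ⟨P, K, hKn, hKP⟩ := hAp
  obtain ⟨P₁, K₁, hK₁n, hKP₁⟩ := hA₁p
  set K' := K.map A.subtype with hK'
  set K₁' := K₁.map A₁.subtype with hK₁'
  have facts : ∀ (B : Subgroup G) (Q : Sylow p B) (L : Subgroup B), L.Normal →
      L.IsComplement' (Q : Subgroup B) → B.IsComplement' N →
      (Nat.card (L.map B.subtype)).Coprime p ∧ B ≤ Subgroup.normalizer ((L.map B.subtype : Subgroup G) : Set G) ∧
      (∃ j, N.index = Nat.card (L.map B.subtype) * p ^ j) := by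
    intro B Q L hLn hLQ hBN
    have hco := Fusion.coprime_card_of_isComplement' hLQ
    rw [Solv.card_map_subtype]
    refine ⟨hco, fun b hb => Subgroup.le_normalizer_map B.subtype
      ⟨⟨b, hb⟩, (Subgroup.normalizer_eq_top_iff.2 hLn).ge (Subgroup.mem_top _), rfl⟩, ?_⟩
    obtain ⟨j, hj⟩ := IsPGroup.iff_card.1 Q.isPGroup'
    exact ⟨j, by rw [hBN.index_eq_card, ← hj, hLQ.card_mul_card]⟩
  obtain ⟨hco, hAK, j, hj⟩ := facts A P K hKn hKP hA
  obtain ⟨hco₁, hA₁K, j₁, hj₁⟩ := facts A₁ P₁ K₁ hK₁n hKP₁ hA₁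
  have hcard : Nat.card K₁' = Nat.card K' := by
    have h1 := hj.symm.trans hj₁
    exact Nat.dvd_antisymm
      ((Nat.Coprime.pow_right j hco₁).dvd_of_dvd_mul_right (h1 ▸ dvd_mul_right _ _))
      ((Nat.Coprime.pow_right j₁ hco).dvd_of_dvd_mul_right (h1.symm ▸ dvd_mul_right _ _))
  have hNK : K' ⊔ N = N ⊔ K' := sup_comm _ _
  set M := N ⊔ K' with hM
  haveI hMn : M.Normal := by
    refine Subgroup.normalizer_eq_top_iff.1 (top_le_iff.1 ?_)
    rw [← hA.sup_eq_top]
    refine sup_le (fun a ha => ?_) (le_sup_left.trans Subgroup.le_normalizer)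
    refine Solv.mem_normalizer_of_conj_smul ?_
    rw [hM, Subgroup.smul_sup, Solv.conj_smul_of_mem_normalizer (hAK ha),
      Solv.conj_smul_of_mem_normalizer ((Subgroup.normalizer_eq_top_iff.2 ‹N.Normal›).ge (Subgroup.mem_top a))]
  have hK₁M : K₁' ≤ M := by
    have hd : M.index ∣ p ^ j := by
      have hinf : N ⊓ K' = ⊥ := by
        obtain ⟨i, hi⟩ := IsPGroup.iff_card.1 hN
        exact Solv.coprime_inf (hi ▸ (Nat.Coprime.pow_left i hco.symm))
      have h2 := Solv.card_sup_of_inf_eq_bot N K' hinf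
      have h3 := M.card_mul_index
      rw [h2, ← N.card_mul_index, hj, mul_assoc] at h3
      exact (Nat.eq_of_mul_eq_mul_left Nat.card_pos (Nat.eq_of_mul_eq_mul_left Nat.card_pos h3)).dvd
    intro k hk
    have h4 : (QuotientGroup.mk k : G ⧸ M) = 1 := by
      rw [← orderOf_eq_one_iff]
      refine Nat.eq_one_of_dvd_coprimes (Nat.Coprime.pow_right j hco₁) ?_ ?_
      · exact (orderOf_map_dvd (QuotientGroup.mk' M) k).trans (Subgroup.orderOf_dvd_natCard _ hk)
      · exact orderOf_dvd_natCard _ |>.trans (M.index_eq_card ▸ hd)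
    exact (QuotientGroup.eq_one_iff k).1 h4
  have hNsol : Group.IsSolvable N := by
    haveI := hN.isNilpotent
    exact IsNilpotent.to_isSolvable
  obtain ⟨i, hi⟩ := IsPGroup.iff_card.1 hN
  obtain ⟨n, hn, hnK⟩ := Solv.sz_conj_rel N K' K₁'
    (le_top.trans (Subgroup.normalizer_eq_top_iff.2 ‹N.Normal›).ge) hK₁M
    (hi ▸ Nat.Coprime.pow_left i hco.symm) hcard (Or.inl hNsol)
  -- the normalizer of the complement of a Sylow subgroup is the complement
  have key : ∀ (B : Subgroup G) (Q : Sylow p B) (L : Subgroup B), L.IsComplement' (Q : Subgroup B) →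
      B.IsComplement' N →
      (∀ n : G, n ∈ N → (∀ a : G, a ∈ B → a * n * a⁻¹ = n) → n = 1) →
      B ≤ Subgroup.normalizer ((L.map B.subtype : Subgroup G) : Set G) →
      Subgroup.normalizer ((L.map B.subtype : Subgroup G) : Set G) = B := by
    intro B Q L hLQ hBN hfix hBL
    refine le_antisymm (fun g hg => ?_) hBL
    obtain ⟨⟨b, m⟩, hbm : (b : G) * (m : G) = g⟩ := hBN.2 g
    suffices hm1 : (m : G) = 1 by rw [← hbm, hm1, mul_one]; exact b.2
    have hm : (m : G) ∈ Subgroup.normalizer ((L.map B.subtype : Subgroup G) : Set G) := by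
      have h5 := mul_mem (inv_mem (hBL b.2)) hg
      rw [← hbm] at h5
      simpa using h5
    set D := N ⊓ Subgroup.centralizer ((L.map B.subtype : Subgroup G) : Set G) with hD
    have hmD : (m : G) ∈ D := by
      refine Subgroup.mem_inf.2 ⟨m.2, Subgroup.mem_centralizer_iff.2 fun l hl => ?_⟩
      have h6 : l * m * l⁻¹ * (m : G)⁻¹ ∈ L.map B.subtype ⊓ N := by
        refine Subgroup.mem_inf.2 ⟨?_, mul_mem (‹N.Normal›.conj_mem _ m.2 l) (inv_mem m.2)⟩
        rw [show l * (m : G) * l⁻¹ * (m : G)⁻¹ = l * ((m : G) * l⁻¹ * (m : G)⁻¹) by group]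
        exact mul_mem hl ((Subgroup.mem_normalizer_iff.1 hm _).1 (inv_mem hl))
      have h7 : L.map B.subtype ⊓ N = ⊥ :=
        eq_bot_iff.2 ((inf_le_inf_right N (Subgroup.map_subtype_le L)).trans hBN.disjoint.le_bot)
      rw [h7, Subgroup.mem_bot] at h6
      exact mul_inv_eq_iff_eq_mul.1 (mul_inv_eq_one.1 h6)
    by_contra hne
    have hDp : IsPGroup p D := hN.to_inf_left
    obtain ⟨d, hd⟩ := IsPGroup.iff_card.1 hDp
    have hd0 : d ≠ 0 := by
      rintro rfl
      exact hne (Subgroup.mem_bot.1 ((Subgroup.card_eq_one.1 (by rw [hd, pow_zero])).le hmD))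
    obtain ⟨a, ⟨haD, ha1⟩, hafix⟩ := Char.exists_fixed_of_card (S := (Q : Subgroup B))
      ((MulAut.conj : G →* MulAut G).comp (B.subtype.comp (Q : Subgroup B).subtype)) hp Q.isPGroup'
      ((D : Set G) \ {1}) (fun s a ha => by
        refine ⟨Subgroup.mem_inf.2 ⟨‹N.Normal›.conj_mem _ ha.1.1 _, ?_⟩, fun e => ha.2 ?_⟩
        · have h8 : ((s : B) : G) ∈ Subgroup.normalizer ((L.map B.subtype : Subgroup G) : Set G) :=
            hBL (s : B).2
          have h9 := Fusion.cj_centralizer (L.map B.subtype) ((s : B) : G)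
          rw [Fusion.cj_eq_self h8] at h9
          exact h9.le ⟨a, ha.1.2, rfl⟩
        · exact (map_eq_one_iff _ (MulEquiv.injective _)).1 e)
      (by
        rw [Nat.card_coe_set_eq, Set.ncard_diff_singleton_of_mem D.one_mem,
          ← Nat.card_coe_set_eq]
        change ¬ p ∣ Nat.card D - 1
        rw [hd]
        intro hdv
        have h10 : p ∣ p ^ d := dvd_pow_self p hd0
        have h11 : p ∣ p ^ d - (p ^ d - 1) := Nat.dvd_sub h10 hdv
        rw [Nat.sub_sub_self (Nat.one_le_pow _ _ hp.pos)] at h11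
        exact hp.ne_one (Nat.dvd_one.1 h11))
    refine ha1 (hfix a haD.1 fun x hx => ?_)
    obtain ⟨⟨l, q⟩, hlq : (l : B) * (q : B) = ⟨x, hx⟩⟩ := hLQ.2 ⟨x, hx⟩
    have hq : ((q : B) : G) * a * ((q : B) : G)⁻¹ = a := hafix q
    have hl : ((l : B) : G) * a = a * ((l : B) : G) :=
      Subgroup.mem_centralizer_iff.1 haD.2 _ ⟨(l : B), l.2, rfl⟩
    have hx' : ((l : B) : G) * ((q : B) : G) = x := congrArg Subtype.val hlq
    rw [← hx', show ((l : B) : G) * ((q : B) : G) * a * (((l : B) : G) * ((q : B) : G))⁻¹ =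
      ((l : B) : G) * (((q : B) : G) * a * ((q : B) : G)⁻¹) * ((l : B) : G)⁻¹ by group, hq, hl,
      mul_inv_cancel_right]
  refine ⟨n, hn, ?_⟩
  have e0 := key A P K hKP hA hC hAK
  have e1 := key A₁ P₁ K₁ hKP₁ hA₁ hC₁ hA₁K
  rw [← e1, ← hK₁', ← hnK, Solv.conj_smul_eq_map, ← Subgroup.map_equiv_normalizer_eq]
  exact congrArg _ e0

end Cfsg.Agent.S4043
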