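import Cfsg.Statements.S4044
import Cfsg.Agent.Lib.Bender.HallTwentyFour
import Cfsg.Agent.Lib.Bender.HallConverse
import Cfsg.Agent.Lib.Bender.SolvClaim
import Cfsg.Agent.S1220

set_option autoImplicit false
open Cfsg

namespace Cfsg.Agent.S4044

/-- For an integer m ≥ 2 the following are equivalent: (a) every finite group whose order n is divisible by m with gcd(m, n/m) = 1 has a subgroup of order m; (b) m is a prime power, or m ≡ 2 (mod 4), or m ∈ {12, 24, 60}. -/
theorem result (m : ℕ) (hm : 2 ≤ m) :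
    (∀ (G : Type) [Group G] [Finite G], m ∣ Nat.card G → m.Coprime (Nat.card G / m) →
        ∃ H : Subgroup G, Nat.card H = m) ↔
    (IsPrimePow m ∨ m % 4 = 2 ∨ m = 12 ∨ m = 24 ∨ m = 60) := by
  refine ⟨Cfsg.Agent.Bender.HallConverse.not_hall hm, fun h G _ _ hdvd hco => ?_⟩
  rcases h with hpp | h2 | rfl | rfl | rfl
  · obtain ⟨p, k, hp, hk, rfl⟩ := hpp
    haveI : Fact p.Prime := ⟨hp.nat_prime⟩
    exact Sylow.exists_subgroup_card_pow_prime p hdvd
  · exact Cfsg.Agent.Bender.HallFour.two_mod_four h2 hdvd hco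
  · exact Cfsg.Agent.Bender.HallFour.twelve hdvd hco
  · exact Cfsg.Agent.Bender.HallFour.twenty_four (fun G _ _ H h => Cfsg.Agent.S1220.result H h) (fun G _ _ H h hs => Cfsg.Agent.SEB.oddCore_le_of_solvable h hs) hdvd hco
  · exact Cfsg.Agent.Bender.HallFour.sixty hdvd hco

end Cfsg.Agent.S4044
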