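import Cfsg.Statements.S4049
import Cfsg.Agent.S3861

set_option autoImplicit false
open Cfsg

open scoped Pointwise commutatorElement

namespace Cfsg.Agent.S4049

/-- Let G be a finite group such that N_G(H)/C_G(H) has odd order for every nontrivial subgroup H of odd order. Then the Sylow 2-subgroups of G are normal. -/
theorem result {G : Type*} [Group G] [Finite G]
    (hhom : ∀ H : Subgroup G, H ≠ ⊥ → ¬ 2 ∣ Nat.card ↥H →
        ¬ 2 ∣ (Subgroup.centralizer (H : Set G)).relIndex (Subgroup.normalizer (H : Set G))) (P : Sylow 2 G) :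
    (P : Subgroup G).Normal := by
  refine (S3861.result P).1 fun x hx1 hxo hconj => ?_
  obtain ⟨g, hg⟩ := isConj_iff.1 hconj
  set H := Subgroup.zpowers x with hH
  have h2 := hhom H (by simpa [hH] using hx1) (by
    rw [hH, Nat.card_zpowers, ← even_iff_two_dvd, Nat.not_even_iff_odd]; exact hxo)
  set N := Subgroup.normalizer (H : Set G)
  set C := Subgroup.centralizer (H : Set G)
  have hgN : g ∈ N := by
    refine Solv.mem_normalizer_of_conj_smul ?_
    rw [Solv.conj_smul_eq_map, hH, MonoidHom.map_zpowers]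
    show Subgroup.zpowers (g * x * g⁻¹) = _
    rw [hg, Subgroup.zpowers_inv]
  have hCN : C ≤ N := Subgroup.centralizer_le_normalizer (H : Set G)
  have hn : (C.subgroupOf N).Normal := inferInstance
  have h1 := Subgroup.pow_index_mem (C.subgroupOf N) ⟨g, hgN⟩
  rw [Subgroup.mem_subgroupOf, SubgroupClass.coe_pow] at h1
  have hg2 : g ^ 2 ∈ C := by
    rw [Subgroup.mem_centralizer_iff]
    rintro _ ⟨i, rfl⟩
    have e : g ^ 2 * x * (g ^ 2)⁻¹ = x := by
      calc g ^ 2 * x * (g ^ 2)⁻¹ = g * (g * x * g⁻¹) * g⁻¹ := by rw [pow_two]; group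
        _ = g * x⁻¹ * g⁻¹ := by rw [hg]
        _ = (g * x * g⁻¹)⁻¹ := by group
        _ = x := by rw [hg, inv_inv]
    exact Commute.zpow_left (show Commute x (g ^ 2) from (mul_inv_eq_iff_eq_mul.1 e).symm) i
  have hgC : g ∈ C := by
    obtain ⟨m, hm⟩ : Odd (C.subgroupOf N).index := by
      rw [← Nat.not_even_iff_odd, even_iff_two_dvd]; exact h2
    rw [hm, pow_add, pow_mul, pow_one] at h1
    exact (C.mul_mem_cancel_left (C.pow_mem hg2 m)).1 h1
  refine hx1 ?_
  have e := Subgroup.mem_centralizer_iff.1 hgC x (Subgroup.mem_zpowers x)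
  rw [← e, mul_inv_cancel_right] at hg
  have h5 : x ^ 2 = 1 := by rw [pow_two]; nth_rw 1 [hg]; exact inv_mul_cancel x
  exact orderOf_eq_one_iff.1 (Nat.eq_one_of_dvd_coprimes hxo.coprime_two_left
    (orderOf_dvd_of_pow_eq_one h5) dvd_rfl)

end Cfsg.Agent.S4049
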