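import Cfsg.Statements.S4050
import Cfsg.Agent.Lib.Solv.PiClosed

set_option autoImplicit false
set_option linter.style.haveILetI false
open Cfsg

open scoped Pointwise commutatorElement

namespace Cfsg.Agent.S4050

/-- Let π be a set of primes and G a finite group. The π-elements of G (elements whose order is divisible only by primes of π) form a subgroup if and only if G is π-separable (it has a chain of normal subgroups from 1 to G with each successive index divisible only by primes in π or only by primes outside π) and N_G(H)/C_G(H) is a π'-group for every nontrivial π'-subgroup H of G. -/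
theorem result {G : Type*} [Group G] [Finite G] (π : Set ℕ)
    (hπ : ∀ p ∈ π, p.Prime) :
    (∃ K : Subgroup G, ∀ x : G, x ∈ K ↔ ∀ p : ℕ, p.Prime → p ∣ orderOf x → p ∈ π) ↔
    ((∃ (n : ℕ) (H : Fin (n + 1) → Subgroup G), H 0 = ⊥ ∧ H (Fin.last n) = ⊤ ∧ Monotone H ∧ (∀ i, (H i).Normal) ∧
      ∀ i : Fin n, (∀ q : ℕ, q.Prime → q ∣ (H i.castSucc).relIndex (H i.succ) → q ∈ π) ∨
        (∀ q : ℕ, q.Prime → q ∣ (H i.castSucc).relIndex (H i.succ) → q ∉ π)) ∧
     (∀ H : Subgroup G, H ≠ ⊥ → (∀ p : ℕ, p.Prime → p ∣ Nat.card ↥H → p ∉ π) →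
        ∀ p : ℕ, p.Prime → p ∣ (Subgroup.centralizer (H : Set G)).relIndex (Subgroup.normalizer (H : Set G)) → p ∉ π)) := by
  constructor
  · rintro ⟨K, hK⟩
    haveI hKn : K.Normal := ⟨fun x hx g => (hK _).2 fun p hp h => (hK x).1 hx p hp (by
      rwa [show g * x * g⁻¹ = MulAut.conj g x from rfl, MulEquiv.orderOf_eq] at h)⟩
    have hKπ : ∀ q : ℕ, q.Prime → q ∣ Nat.card K → q ∈ π := fun q hq h => by
      haveI := Fact.mk hq
      obtain ⟨x, hx⟩ := exists_prime_orderOf_dvd_card' q h
      rw [← Subgroup.orderOf_coe] at hx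
      exact (hK _).1 x.2 q hq hx.symm.dvd
    have hidx : ∀ q : ℕ, q.Prime → q ∣ K.index → q ∉ π := fun q hq h hqπ => by
      haveI := Fact.mk hq
      obtain ⟨S⟩ : Nonempty (Sylow q G) := inferInstance
      refine S.not_dvd_index (h.trans (Subgroup.index_dvd_of_le fun s hs => (hK s).2 fun r hr hrd => ?_))
      obtain ⟨j, hj⟩ := (IsPGroup.iff_orderOf.1 S.isPGroup') ⟨s, hs⟩
      rw [← Subgroup.orderOf_coe] at hj
      rw [show orderOf s = q ^ j from hj] at hrd
      rw [(Nat.prime_dvd_prime_iff_eq hr hq).1 (hr.dvd_of_dvd_pow hrd)]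
      exact hqπ
    refine ⟨⟨2, ![⊥, K, ⊤], rfl, rfl, Fin.monotone_iff_le_succ.2 fun i => ?_, fun i => ?_, fun i => ?_⟩, ?_⟩
    · fin_cases i
      · exact bot_le
      · exact le_top
    · fin_cases i
      · exact (inferInstance : (⊥ : Subgroup G).Normal)
      · exact hKn
      · exact (inferInstance : (⊤ : Subgroup G).Normal)
    · fin_cases i
      · left
        show ∀ q : ℕ, q.Prime → q ∣ (⊥ : Subgroup G).relIndex K → q ∈ π
        rw [Subgroup.relIndex_bot_left]
        exact hKπ
      · right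
        show ∀ q : ℕ, q.Prime → q ∣ K.relIndex (⊤ : Subgroup G) → q ∉ π
        rw [Subgroup.relIndex_top_right]
        exact hidx
    · intro H hH hHπ p hp hpd hpπ
      haveI := Fact.mk hp
      obtain ⟨D, hD⟩ : ∃ D, D = (Subgroup.centralizer (H : Set G)).subgroupOf
          (Subgroup.normalizer (H : Set G)) := ⟨_, rfl⟩
      haveI : D.Normal := hD ▸ inferInstance
      rw [Subgroup.relIndex, ← hD, Subgroup.index_eq_card] at hpd
      obtain ⟨t, ht⟩ := exists_prime_orderOf_dvd_card' p hpd
      obtain ⟨w, rfl⟩ := QuotientGroup.mk_surjective t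
      obtain ⟨e, m, hm, hem⟩ := Nat.exists_eq_pow_mul_and_not_dvd (orderOf_pos (w : G)).ne' p hp.ne_one
      have hwK : (w : G) ^ m ∈ K := (hK _).2 fun r hr hrd => by
        have h1 : orderOf ((w : G) ^ m) ∣ p ^ e := orderOf_dvd_of_pow_eq_one (by
          rw [← pow_mul, mul_comm, ← hem, pow_orderOf_eq_one])
        rw [(Nat.prime_dvd_prime_iff_eq hr hp).1 (hr.dvd_of_dvd_pow (hrd.trans h1))]
        exact hpπ
      have hwC : w ^ m ∈ D := by
        rw [hD, Subgroup.mem_subgroupOf, Subgroup.coe_pow, Subgroup.mem_centralizer_iff]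
        intro x hx
        have hn : (w : G) ^ m ∈ Subgroup.normalizer (H : Set G) := pow_mem w.2 m
        have h1 : (w : G) ^ m * x * ((w : G) ^ m)⁻¹ * x⁻¹ = 1 := by
          refine Solv.eq_one_of_pi_of_card (π := π) hHπ
            (mul_mem ((Subgroup.mem_normalizer_iff.1 hn x).1 hx) (inv_mem hx)) ((hK _).1 ?_)
          rw [show (w : G) ^ m * x * ((w : G) ^ m)⁻¹ * x⁻¹ =
            (w : G) ^ m * (x * ((w : G) ^ m)⁻¹ * x⁻¹) by group]
          exact mul_mem hwK (hKn.conj_mem _ (inv_mem hwK) x)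
        rw [mul_inv_eq_one, mul_inv_eq_iff_eq_mul] at h1
        exact h1.symm
      have h2 : p ∣ m := ht ▸ orderOf_dvd_of_pow_eq_one (by
        rw [← QuotientGroup.mk_pow, QuotientGroup.eq_one_iff]; exact hwC)
      exact hm h2
  · rintro ⟨⟨n, H, h0, hlast, hmono, hn, hstep⟩, hhom⟩
    have key : ∀ i : Fin (n + 1), ∃ O : Subgroup G, ∀ x, x ∈ O ↔ x ∈ H i ∧ Solv.IsPiElt π x := by
      intro i
      induction i using Fin.induction with
      | zero =>
        refine ⟨⊥, fun x => ⟨?_, ?_⟩⟩
        · intro hx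
          rw [Subgroup.mem_bot] at hx
          rw [hx]
          exact ⟨one_mem _, Solv.isPiElt_one π⟩
        · rintro ⟨hx, -⟩
          rw [h0] at hx
          exact hx
      | succ j ih =>
        haveI := hn j.castSucc
        haveI := hn j.succ
        have hle : H j.castSucc ≤ H j.succ := hmono j.castSucc_lt_succ.le
        rcases hstep j with hj | hj
        · exact Solv.piClosed_extend hhom _ _ hle ih hj
        · obtain ⟨O, hO⟩ := ih
          refine ⟨O, fun x => (hO x).trans ⟨fun h => ⟨hle h.1, h.2⟩, fun h => ⟨?_, h.2⟩⟩⟩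
          obtain ⟨D, hD⟩ : ∃ D, D = (H j.castSucc).subgroupOf (H j.succ) := ⟨_, rfl⟩
          haveI : D.Normal := hD ▸ inferInstance
          have h1 : (QuotientGroup.mk (⟨x, h.1⟩ : H j.succ) : H j.succ ⧸ D) = 1 := by
            rw [← orderOf_eq_one_iff]
            by_contra hne
            obtain ⟨q, hq, hqd⟩ := Nat.exists_prime_and_dvd hne
            refine hj q hq ?_ (h.2 q hq ?_)
            · rw [Subgroup.relIndex, ← hD, Subgroup.index_eq_card]
              exact hqd.trans (orderOf_dvd_natCard _)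
            · refine hqd.trans ?_
              rw [show orderOf x = orderOf (⟨x, h.1⟩ : H j.succ) from Subgroup.orderOf_coe ⟨x, h.1⟩]
              exact orderOf_map_dvd (QuotientGroup.mk' D) _
          rw [QuotientGroup.eq_one_iff, hD, Subgroup.mem_subgroupOf] at h1
          exact h1
    obtain ⟨O, hO⟩ := key (Fin.last n)
    exact ⟨O, fun x => (hO x).trans ⟨fun h => h.2, fun h => ⟨hlast ▸ Subgroup.mem_top x, h⟩⟩⟩

end Cfsg.Agent.S4050
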