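import Cfsg.Statements.S4051
import Cfsg.Agent.Lib.Solv.PiClosed

set_option autoImplicit false
set_option linter.style.haveILetI false
open Cfsg

open scoped Pointwise commutatorElement

namespace Cfsg.Agent.S4051

/-- Let π be a set of primes and G a finite group such that N_G(H)/C_G(H) is a π'-group for every nontrivial π'-subgroup H of G. If K is a normal subgroup of G such that the π-elements of K form a subgroup and the π-elements of G/K form a subgroup, then the π-elements of G form a subgroup. -/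
theorem result {G : Type*} [Group G] [Finite G] (π : Set ℕ)
    (hπ : ∀ p ∈ π, p.Prime) (hhom : (∀ H : Subgroup G, H ≠ ⊥ → (∀ p : ℕ, p.Prime → p ∣ Nat.card ↥H → p ∉ π) →
        ∀ p : ℕ, p.Prime → p ∣ (Subgroup.centralizer (H : Set G)).relIndex (Subgroup.normalizer (H : Set G)) → p ∉ π))
    (K : Subgroup G) [K.Normal]
    (hK : ∃ L : Subgroup ↥K, ∀ x : ↥K, x ∈ L ↔ ∀ p : ℕ, p.Prime → p ∣ orderOf x → p ∈ π)
    (hQ : ∃ L : Subgroup (G ⧸ K), ∀ x : G ⧸ K, x ∈ L ↔ ∀ p : ℕ, p.Prime → p ∣ orderOf x → p ∈ π) :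
    (∃ K : Subgroup G, ∀ x : G, x ∈ K ↔ ∀ p : ℕ, p.Prime → p ∣ orderOf x → p ∈ π) := by
  obtain ⟨L, hL⟩ := hK
  obtain ⟨Lq, hLq⟩ := hQ
  obtain ⟨M, hM⟩ : ∃ M, M = Lq.comap (QuotientGroup.mk' K) := ⟨_, rfl⟩
  haveI : Lq.Normal := ⟨fun x hx g => (hLq _).2 fun p hp h => (hLq x).1 hx p hp (by
    rwa [show g * x * g⁻¹ = MulAut.conj g x from rfl, MulEquiv.orderOf_eq] at h)⟩
  haveI : M.Normal := hM ▸ inferInstance
  have hKM : K ≤ M := fun x hx => by
    rw [hM, Subgroup.mem_comap, QuotientGroup.mk'_apply, (QuotientGroup.eq_one_iff x).2 hx]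
    exact one_mem _
  have hKL : ∃ L' : Subgroup G, ∀ x, x ∈ L' ↔ x ∈ K ∧ Solv.IsPiElt π x := by
    refine ⟨L.map K.subtype, fun x => ⟨?_, ?_⟩⟩
    · rintro ⟨y, hy, rfl⟩
      exact ⟨y.2, fun p hp h => (hL y).1 hy p hp (by rwa [Subgroup.coe_subtype, Subgroup.orderOf_coe] at h)⟩
    · rintro ⟨hxK, hx⟩
      exact ⟨⟨x, hxK⟩, (hL _).2 fun p hp h => hx p hp (by rwa [← Subgroup.orderOf_coe] at h), rfl⟩
  have hrel : ∀ q : ℕ, q.Prime → q ∣ K.relIndex M → q ∈ π := by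
    intro q hq h
    haveI := Fact.mk hq
    have h1 : q ∣ Nat.card Lq := by
      refine h.trans (dvd_of_eq ?_)
      have h2 := (K.subgroupOf M).card_mul_index
      rw [Solv.card_subgroupOf hKM, show Nat.card M = Nat.card Lq * Nat.card K from
        hM ▸ Solv.card_comap_mk' K Lq, mul_comm (Nat.card Lq)] at h2
      exact Nat.eq_of_mul_eq_mul_left Nat.card_pos h2
    obtain ⟨y, hy⟩ := exists_prime_orderOf_dvd_card' q h1
    rw [← Subgroup.orderOf_coe] at hy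
    exact (hLq _).1 y.2 q hq hy.symm.dvd
  obtain ⟨O, hO⟩ := Solv.piClosed_extend hhom K M hKM hKL hrel
  refine ⟨O, fun x => (hO x).trans ⟨fun h => h.2, fun h => ⟨?_, h⟩⟩⟩
  rw [hM, Subgroup.mem_comap, hLq]
  exact fun p hp hpd => h p hp (hpd.trans (orderOf_map_dvd _ x))

end Cfsg.Agent.S4051
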