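import Cfsg.Statements.S4056
import Cfsg.Agent.Lib.Fusion.Critical

set_option autoImplicit false
open Cfsg

open scoped Pointwise commutatorElement

namespace Cfsg.Agent.S4056

/-- In a finite 2-group of nilpotency class at most 2 and exponent dividing 4, the Frattini subgroup lies in the centre and is elementary abelian. -/
theorem result {P : Type*} [Group P] [Finite P] (hP : IsPGroup 2 P)
    (hcl : Group.nilpotencyClass P ≤ 2) (hexp : Monoid.exponent P ∣ 4) :
    frattini P ≤ Subgroup.center P ∧ Cfsg.IsElementaryAbelian 2 (frattini P) := by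
  have hc : ∀ x y : P, ⁅x, y⁆ ∈ Subgroup.center P := by
    intro x y
    rw [Subgroup.mem_center_iff]
    intro g
    have : Group.IsNilpotent P := hP.isNilpotent
    have htop : Subgroup.upperCentralSeries P 2 = ⊤ :=
      Subgroup.upperCentralSeries_eq_top_iff_nilpotencyClass_le.2 hcl
    have h1 : x ∈ Subgroup.upperCentralSeries P 2 := htop ▸ Subgroup.mem_top x
    rw [show (2 : ℕ) = 1 + 1 from rfl, Subgroup.mem_upperCentralSeries_succ_iff] at h1
    have h2 := h1 y
    rw [Subgroup.upperCentralSeries_one, Subgroup.mem_center_iff] at h2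
    rw [commutatorElement_def]
    exact h2 g
  have h4 : ∀ x : P, x ^ 4 = 1 := fun x => Monoid.exponent_dvd_iff_forall_pow_eq_one.1 hexp x
  have hkey : ∀ x y : P, ⁅x, y⁆ ^ 2 = 1 := by
    intro x y
    set c := ⁅x, y⁆ with hcd
    have hcz : ∀ g : P, g * c = c * g := Subgroup.mem_center_iff.1 (hc x y)
    have hxy : x * y = c * (y * x) := by rw [hcd, commutatorElement_def]; group
    -- `x` conjugates `y` to `c * y`
    have hconj : ∀ k : ℕ, x ^ k * y = c ^ k * (y * x ^ k) := by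
      intro k
      induction k with
      | zero => simp
      | succ k ih =>
        have hck : Commute x (c ^ k) := Commute.pow_right (hcz x) k
        rw [pow_succ' x, mul_assoc, ih, ← mul_assoc x, hck.eq, mul_assoc (c ^ k), ← mul_assoc x y, hxy]
        simp [pow_succ, mul_assoc]
    have hsq : x * y * (x * y) = c⁻¹ * (x ^ 2 * y ^ 2) := by
      have e : y * x = c⁻¹ * (x * y) := by rw [hxy, inv_mul_cancel_left]
      calc x * y * (x * y) = x * (y * x) * y := by simp [mul_assoc]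
        _ = x * (c⁻¹ * (x * y)) * y := by rw [e]
        _ = (x * c⁻¹) * (x * y * y) := by simp [mul_assoc]
        _ = (c⁻¹ * x) * (x * y * y) := by rw [(Commute.inv_right (hcz x)).eq]
        _ = c⁻¹ * (x ^ 2 * y ^ 2) := by simp [pow_two, mul_assoc]
    have hx2y2 : y ^ 2 * x ^ 2 = c⁻¹ ^ 4 * (x ^ 2 * y ^ 2) := by
      have e2 := hconj 2
      have : x ^ 2 * y ^ 2 = c ^ 2 * (c ^ 2 * (y ^ 2 * x ^ 2)) := by
        rw [pow_two y, ← mul_assoc, e2, mul_assoc, mul_assoc, e2]
        rw [← mul_assoc y, ((Commute.pow_right (hcz y) 2).eq : y * c ^ 2 = c ^ 2 * y)]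
        simp [mul_assoc]
      rw [this, inv_pow, show (4 : ℕ) = 2 + 2 from rfl, pow_add, mul_inv_rev]
      simp [mul_assoc]
    have h := h4 (x * y)
    rw [show (x * y) ^ 4 = (x * y * (x * y)) * (x * y * (x * y)) by simp [pow_succ, mul_assoc], hsq] at h
    have hcc : ∀ g : P, g * c⁻¹ = c⁻¹ * g := fun g => (Commute.inv_right (hcz g)).eq
    rw [show c⁻¹ * (x ^ 2 * y ^ 2) * (c⁻¹ * (x ^ 2 * y ^ 2)) =
      c⁻¹ * ((x ^ 2 * y ^ 2) * c⁻¹) * (x ^ 2 * y ^ 2) by simp [mul_assoc], hcc,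
      show c⁻¹ * (c⁻¹ * (x ^ 2 * y ^ 2)) * (x ^ 2 * y ^ 2) =
      c⁻¹ * c⁻¹ * (x ^ 2 * (y ^ 2 * x ^ 2) * y ^ 2) by simp [mul_assoc], hx2y2, inv_pow c 4,
      h4 c, inv_one, one_mul, show x ^ 2 * (x ^ 2 * y ^ 2) * y ^ 2 = x ^ 4 * y ^ 4 by
        simp [pow_succ, mul_assoc], h4, h4, mul_one, mul_one, ← mul_inv_rev, inv_eq_one] at h
    rw [pow_two]; exact h
  let D : Subgroup P :=
    { carrier := {z | z ∈ Subgroup.center P ∧ z ^ 2 = 1}
      one_mem' := ⟨Subgroup.one_mem _, one_pow 2⟩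
      mul_mem' := fun {a b} ha hb => ⟨Subgroup.mul_mem _ ha.1 hb.1, by
        rw [(show Commute a b from Subgroup.mem_center_iff.1 hb.1 a).mul_pow, ha.2, hb.2, mul_one]⟩
      inv_mem' := fun {a} ha => ⟨Subgroup.inv_mem _ ha.1, by rw [inv_pow, ha.2, inv_one]⟩ }
  have hDn : D.Normal := ⟨fun z hz g => by
    rw [show g * z * g⁻¹ = z by rw [Subgroup.mem_center_iff.1 hz.1 g, mul_inv_cancel_right]]
    exact hz⟩
  have hsqD : ∀ x : P, x ^ 2 ∈ D := by
    intro x
    refine ⟨?_, by rw [← pow_mul]; exact h4 x⟩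
    rw [Subgroup.mem_center_iff]
    intro y
    set c := ⁅x, y⁆ with hcd
    have hcz : ∀ g : P, g * c = c * g := Subgroup.mem_center_iff.1 (hc x y)
    have hxy : x * y = c * (y * x) := by rw [hcd, commutatorElement_def]; group
    symm
    calc x ^ 2 * y = x * (x * y) := by simp [pow_two, mul_assoc]
      _ = (x * c) * (y * x) := by rw [hxy]; simp [mul_assoc]
      _ = c * (x * y) * x := by rw [hcz x]; simp [mul_assoc]
      _ = (c * c) * (y * x ^ 2) := by rw [hxy]; simp [pow_two, mul_assoc]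
      _ = y * x ^ 2 := by rw [← pow_two c, hkey, one_mul]
  have := Fact.mk Nat.prime_two
  have hle : frattini P ≤ D :=
    Cfsg.Agent.Fusion.frattini_le_of_elementary_quotient D (fun a b => ⟨hc a b, hkey a b⟩) hsqD
  refine ⟨fun z hz => (hle hz).1, ⟨⟨fun a b => Subtype.ext ?_⟩⟩, fun a ha => (hle ha).2⟩
  exact Subgroup.mem_center_iff.1 (hle b.2).1 a

end Cfsg.Agent.S4056
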