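import Cfsg.Statements.S4057
import Cfsg.Agent.Lib.Solv.PGroupPhi
import Cfsg.Agent.Lib.Fusion.AlperinOmega
import Cfsg.Agent.Lib.Fusion.RankTwoExponent

set_option autoImplicit false
open Cfsg
open Cfsg.Agent

namespace Cfsg.Agent.S4057
open scoped commutatorElement

universe u

/-- Greedy choice of generators modulo a subgroup of index at most `p ^ k`. -/
theorem exists_gens_mod {D : Type u} [Group D] [Finite D] {p : ℕ} [Fact p.Prime] (hD : IsPGroup p D) :
    ∀ (k : ℕ) (N : Subgroup D), N.index ≤ p ^ k → ∃ S : Finset D, S.card ≤ k ∧ N ⊔ Subgroup.closure (S : Set D) = ⊤ := by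
  classical
  intro k
  induction k with
  | zero =>
    intro N hN
    have hidx : N.index = 1 := le_antisymm (by simpa using hN) (Nat.one_le_iff_ne_zero.2 Subgroup.index_ne_zero_of_finite)
    exact ⟨∅, le_rfl, by simp [Subgroup.index_eq_one.1 hidx]⟩
  | succ k ih =>
    intro N hN
    rcases eq_or_ne N ⊤ with rfl | hne
    · exact ⟨∅, Nat.zero_le _, by simp⟩
    obtain ⟨g, hg⟩ : ∃ g, g ∉ N := by
      by_contra h
      push Not at h
      exact hne (eq_top_iff.2 fun x _ => h x)
    obtain ⟨N', hN'⟩ : ∃ N', N' = N ⊔ Subgroup.zpowers g := ⟨_, rfl⟩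
    have hle : N ≤ N' := hN' ▸ le_sup_left
    have hmul := Subgroup.relIndex_mul_index hle
    obtain ⟨i, hi⟩ := hD.index N
    have hrel : 2 ≤ N.relIndex N' := by
      have h0 : N.relIndex N' ≠ 0 := Subgroup.index_ne_zero_of_finite
      have h1 : N.relIndex N' ≠ 1 := fun e => hg (Subgroup.relIndex_eq_one.1 e (hN' ▸ Subgroup.mem_sup_right (Subgroup.mem_zpowers g)))
      omega
    obtain ⟨e, -, he⟩ := (Nat.dvd_prime_pow (Fact.out : p.Prime)).1 (hi ▸ (⟨_, hmul.symm⟩ : N.relIndex N' ∣ N.index))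
    have he0 : 1 ≤ e := by
      rcases Nat.eq_zero_or_pos e with h | h
      · rw [h, pow_zero] at he; omega
      · exact h
    have hp2 := (Fact.out : p.Prime).two_le
    have hbound : N'.index ≤ p ^ k := by
      refine Nat.le_of_mul_le_mul_left ?_ (Fact.out : p.Prime).pos
      calc p * N'.index ≤ N.relIndex N' * N'.index := Nat.mul_le_mul_right _ (he ▸ by
            calc p = p ^ 1 := (pow_one p).symm
              _ ≤ _ := Nat.pow_le_pow_right (by omega) he0)
        _ = N.index := hmul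
        _ ≤ p ^ (k + 1) := hN
        _ = _ := pow_succ' p k
    obtain ⟨S, hS, hgen⟩ := ih N' hbound
    refine ⟨insert g S, (Finset.card_insert_le _ _).trans (by omega), top_le_iff.1 (hgen.ge.trans (sup_le ?_ ?_))⟩
    · rw [hN']
      exact sup_le le_sup_left ((Subgroup.zpowers_le).2 (Subgroup.mem_sup_right (Subgroup.subset_closure (by simp))))
    · exact le_sup_of_le_right (Subgroup.closure_mono (by simp))

section Central

variable {p : ℕ} [hp : Fact p.Prime]

/-- For odd `p`, central elements of order `p` force commutators with elements of order `p²` to have order `p`. -/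
theorem commutator_order (hp2 : p ≠ 2) : ∀ (n : ℕ) (D : Type u) [Group D] [Finite D], Nat.card D = n → IsPGroup p D →
    (∀ x : D, x ^ p = 1 → ∀ g, Commute x g) → ∀ x g : D, (x ^ p) ^ p = 1 → ⁅g, x⁆ ^ p = 1 := by
  intro n
  induction n using Nat.strong_induction_on with
  | _ n ih =>
    intro D _ _ hn hD hc x g hx
    rcases eq_or_ne (Subgroup.zpowers x) ⊤ with htop | htop
    · obtain ⟨i, hi⟩ : g ∈ Subgroup.zpowers x := htop ▸ Subgroup.mem_top g
      rw [← hi, commutatorElement_eq_one_iff_mul_comm.2 ((Commute.refl x).zpow_left i), one_pow]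
    obtain ⟨M, hM, hxM⟩ := (eq_top_or_exists_le_coatom (Subgroup.zpowers x)).resolve_left htop
    haveI := Solv.coatom_normal hD hM
    have hxM' : x ∈ M := hxM (Subgroup.mem_zpowers x)
    have hyM : g * x * g⁻¹ ∈ M := Subgroup.Normal.conj_mem inferInstance x hxM' g
    have hlt : Nat.card M < n := hn ▸ (Subgroup.card_le_card_group M).lt_of_ne fun e =>
      hM.1 (Subgroup.eq_top_of_card_eq M e)
    have hIH := ih _ hlt M rfl (hD.to_subgroup M)
      (fun u hu v => Subtype.ext (hc u (congrArg Subtype.val hu) v).eq) ⟨x, hxM'⟩ ⟨_, hyM⟩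
      (Subtype.ext hx)
    have hIH' : ⁅g * x * g⁻¹, x⁆ ^ p = 1 := congrArg Subtype.val hIH
    obtain ⟨z, hz⟩ : ∃ z, z = ⁅g, x⁆ := ⟨_, rfl⟩
    have hzx : g * x * g⁻¹ = z * x := by rw [hz, commutatorElement_def]; group
    have hcomm : ⁅g * x * g⁻¹, x⁆ = ⁅x, z⁆⁻¹ := by
      rw [hzx]; simp only [commutatorElement_def]; group
    rw [hcomm, inv_pow, inv_eq_one] at hIH'
    have hcen := hc _ hIH'
    have h := Fusion.mul_pow_of_central (a := z) (b := x) (hcen z) (hcen x) p
    rw [← hzx, conj_pow] at h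
    have hfix : g * x ^ p * g⁻¹ = x ^ p := mul_inv_eq_iff_eq_mul.2 (hc _ hx g).symm.eq
    obtain ⟨c, hc'⟩ : p ∣ p.choose 2 :=
      hp.out.dvd_choose_self (by norm_num) (lt_of_le_of_ne hp.out.two_le (Ne.symm hp2))
    rw [hfix, hc', pow_mul, hIH', one_pow, mul_one, right_eq_mul] at h
    rw [← hz]
    exact h

/-- The number of generators of a group whose elements of order `p` are central. -/
theorem frattini_index_le (hp2 : p ≠ 2) : ∀ (n : ℕ) (D : Type u) [Group D] [Finite D], Nat.card D = n → IsPGroup p D →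
    (∀ x : D, x ^ p = 1 → ∀ g, Commute x g) → (frattini D).index ≤ Nat.card {x : D // x ^ p = 1} := by
  intro n
  induction n using Nat.strong_induction_on with
  | _ n ih =>
    intro D _ _ hn hD hc
    rcases subsingleton_or_nontrivial D with hs | hnt
    · haveI : Nonempty {x : D // x ^ p = 1} := ⟨⟨1, one_pow p⟩⟩
      rw [Subgroup.index_eq_one.2 (Subsingleton.elim _ _)]
      exact Nat.card_pos
    let E : Subgroup D :=
      { carrier := {x | x ^ p = 1}
        one_mem' := one_pow p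
        mul_mem' := fun {a b} ha hb => by
          show (a * b) ^ p = 1
          rw [(hc a ha b).mul_pow, ha, hb, one_mul]
        inv_mem' := fun {a} ha => by show a⁻¹ ^ p = 1; rw [inv_pow, ha, inv_one] }
    haveI : E.Normal := ⟨fun x hx g => by show (g * x * g⁻¹) ^ p = 1; rw [conj_pow, (show x ^ p = 1 from hx)]; group⟩
    have hE1 : E ≠ ⊥ := by
      intro he
      obtain ⟨x, hx⟩ := exists_prime_orderOf_dvd_card' (G := D) p (by
        obtain ⟨k, hk⟩ := IsPGroup.iff_card.1 hD
        rw [hk]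
        exact dvd_pow_self p fun h0 => by
          rw [h0, pow_zero] at hk
          exact absurd hk Finite.one_lt_card.ne')
      have hxE : x ∈ E := show x ^ p = 1 by rw [← hx, pow_orderOf_eq_one]
      rw [he, Subgroup.mem_bot] at hxE
      rw [hxE, orderOf_one] at hx
      exact hp.out.ne_one hx.symm
    have hlt : Nat.card (D ⧸ E) < n := by
      rw [← hn, Subgroup.card_eq_card_quotient_mul_card_subgroup E]
      exact lt_mul_of_one_lt_right Nat.card_pos (E.one_lt_card_iff_ne_bot.2 hE1)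
    have hpp : ∀ x : D, (QuotientGroup.mk x : D ⧸ E) ^ p = 1 → (x ^ p) ^ p = 1 := fun x hx => by
      rw [← QuotientGroup.mk_pow, QuotientGroup.eq_one_iff] at hx
      exact hx
    have hcom : ∀ x g : D, (x ^ p) ^ p = 1 → ⁅g, x⁆ ^ p = 1 := commutator_order hp2 _ D rfl hD hc
    have hQc : ∀ x : D ⧸ E, x ^ p = 1 → ∀ g, Commute x g := by
      intro x hx g
      obtain ⟨x, rfl⟩ := QuotientGroup.mk_surjective x
      obtain ⟨g, rfl⟩ := QuotientGroup.mk_surjective g
      refine Commute.symm (commutatorElement_eq_one_iff_mul_comm.1 ?_)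
      exact (map_commutatorElement (QuotientGroup.mk' E) g x).symm.trans
        ((QuotientGroup.eq_one_iff _).2 (hcom x g (hpp x hx)))
    have hIH := ih _ hlt (D ⧸ E) rfl (hD.to_quotient E) hQc
    -- the `p`-th power map
    let W : Subgroup D :=
      { carrier := {x | (x ^ p) ^ p = 1}
        one_mem' := by simp
        mul_mem' := fun {a b} ha hb => by
          show ((a * b) ^ p) ^ p = 1
          have hcen := hc _ (hcom a b ha)
          rw [Fusion.mul_pow_of_central (hcen a) (hcen b)]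
          obtain ⟨c, hc'⟩ : p ∣ p.choose 2 :=
            hp.out.dvd_choose_self (by norm_num) (lt_of_le_of_ne hp.out.two_le (Ne.symm hp2))
          rw [hc', pow_mul, hcom a b ha, one_pow, mul_one, (hc _ ha (b ^ p)).mul_pow, ha, hb, one_mul]
        inv_mem' := fun {a} ha => by show (a⁻¹ ^ p) ^ p = 1; rw [inv_pow, inv_pow, ha, inv_one] }
    obtain ⟨ρ, hρ⟩ : ∃ ρ : W →* D, ∀ x : W, ρ x = (x : D) ^ p :=
      ⟨MonoidHom.mk' (fun x => (x : D) ^ p) fun a b => by
        show ((a : D) * b) ^ p = (a : D) ^ p * (b : D) ^ p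
        have hcen := hc _ (hcom a b a.2)
        rw [Fusion.mul_pow_of_central (hcen a) (hcen b)]
        obtain ⟨c, hc'⟩ : p ∣ p.choose 2 :=
          hp.out.dvd_choose_self (by norm_num) (lt_of_le_of_ne hp.out.two_le (Ne.symm hp2))
        rw [hc', pow_mul, hcom a b a.2, one_pow, mul_one], fun _ => rfl⟩
    have hrange : ρ.range ≤ E ⊓ frattini D := by
      rintro _ ⟨x, rfl⟩
      rw [hρ]
      exact ⟨x.2, Solv.pow_mem_frattini hD _⟩
    have hQcard : Nat.card {x : D ⧸ E // x ^ p = 1} ≤ Nat.card (E ⊓ frattini D : Subgroup D) := by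
      refine le_trans ?_ (Subgroup.card_le_of_le hrange)
      rw [← Nat.card_congr (QuotientGroup.quotientKerEquivRange ρ).toEquiv]
      refine Nat.card_le_card_of_injective (fun q : {x : D ⧸ E // x ^ p = 1} =>
        (QuotientGroup.mk (⟨q.1.out, hpp _ (by rw [QuotientGroup.out_eq']; exact q.2)⟩ : W) : W ⧸ ρ.ker)) ?_
      intro q q' h
      rw [QuotientGroup.eq, MonoidHom.mem_ker, hρ] at h
      apply Subtype.ext
      rw [← QuotientGroup.out_eq' q.1, ← QuotientGroup.out_eq' q'.1, QuotientGroup.eq]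
      exact h
    have hΦ : frattini (D ⧸ E) ≤ (frattini D).map (QuotientGroup.mk' E) := by
      haveI : ((frattini D).map (QuotientGroup.mk' E)).Normal :=
        Subgroup.Normal.map inferInstance _ (QuotientGroup.mk'_surjective E)
      refine Solv.frattini_le (p := p) _ (fun a b => ?_) (fun a => ?_)
      · obtain ⟨a, rfl⟩ := QuotientGroup.mk'_surjective E a
        obtain ⟨b, rfl⟩ := QuotientGroup.mk'_surjective E b
        exact ⟨_, Solv.commutatorElement_mem_frattini hD a b, map_commutatorElement _ a b⟩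
      · obtain ⟨a, rfl⟩ := QuotientGroup.mk'_surjective E a
        exact ⟨_, Solv.pow_mem_frattini hD a, map_pow _ a p⟩
    have h1 : (frattini D ⊔ E).index ≤ (frattini (D ⧸ E)).index := by
      refine le_trans (le_of_eq ?_) (Nat.le_of_dvd (Nat.pos_of_ne_zero Subgroup.index_ne_zero_of_finite)
        (Subgroup.index_dvd_of_le hΦ))
      rw [Subgroup.index_map, QuotientGroup.ker_mk', MonoidHom.range_eq_top.2 (QuotientGroup.mk'_surjective E),
        Subgroup.index_top, mul_one]
    have h2 : (frattini D).index = (frattini D).relIndex E * (frattini D ⊔ E).index := by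
      rw [← Subgroup.relIndex_mul_index (le_sup_left : frattini D ≤ frattini D ⊔ E), sup_comm, Subgroup.relIndex_sup_right]
    have h3 : Nat.card (E ⊓ frattini D : Subgroup D) * (frattini D).relIndex E = Nat.card E := by
      rw [← Subgroup.inf_relIndex_right, inf_comm]
      have := Subgroup.relIndex_mul_relIndex ⊥ (frattini D ⊓ E) E bot_le inf_le_right
      rwa [Subgroup.relIndex_bot_left, Subgroup.relIndex_bot_left] at this
    calc (frattini D).index = (frattini D).relIndex E * (frattini D ⊔ E).index := h2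
      _ ≤ (frattini D).relIndex E * Nat.card (E ⊓ frattini D : Subgroup D) :=
        Nat.mul_le_mul_left _ (h1.trans (hIH.trans hQcard))
      _ = Nat.card E := by rw [mul_comm, h3]

end Central

/-- Mantel's bound for directed triangle-free sets of pairs. -/
theorem mantel : ∀ (n : ℕ) (V : Finset ℕ), V.card = n → ∀ T : Finset (ℕ × ℕ),
    (∀ e ∈ T, e.1 ∈ V ∧ e.2 ∈ V ∧ e.1 < e.2) →
    (∀ i m l, (i, m) ∈ T → (m, l) ∈ T → (i, l) ∉ T) → 4 * T.card ≤ n * n := by
  intro n
  induction n using Nat.strong_induction_on with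
  | _ n ih =>
    intro V hV T hT htri
    classical
    rcases T.eq_empty_or_nonempty with rfl | ⟨⟨a, b⟩, hab⟩
    · simp
    obtain ⟨ha, hb, hlt⟩ := hT _ hab
    simp only at ha hb hlt
    obtain ⟨V', hV'⟩ : ∃ V', V' = (V.erase a).erase b := ⟨_, rfl⟩
    have hcard : V'.card + 2 = n := by
      rw [hV', Finset.card_erase_of_mem (Finset.mem_erase.2 ⟨hlt.ne', hb⟩), Finset.card_erase_of_mem ha, ← hV]
      have : 1 < V.card := Finset.one_lt_card.2 ⟨a, ha, b, hb, hlt.ne⟩
      omega
    have hmem : ∀ v, v ∈ V → v ≠ a → v ≠ b → v ∈ V' := fun v h1 h2 h3 => by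
      simp [hV', h1, h2, h3]
    obtain ⟨T', hT'⟩ : ∃ T', T' = T.filter (fun e => e.1 ∈ V' ∧ e.2 ∈ V') := ⟨_, rfl⟩
    have hIH := ih V'.card (by omega) V' rfl T' (fun e he => by
        rw [hT', Finset.mem_filter] at he
        exact ⟨he.2.1, he.2.2, (hT e he.1).2.2⟩)
      (fun i m l h1 h2 h3 => by
        rw [hT', Finset.mem_filter] at h1 h2 h3
        exact htri i m l h1.1 h2.1 h3.1)
    obtain ⟨R, hR⟩ : ∃ R, R = (T.filter (fun e => ¬(e.1 ∈ V' ∧ e.2 ∈ V'))).erase (a, b) := ⟨_, rfl⟩
    have hRcard : R.card ≤ V'.card := by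
      refine Finset.card_le_card_of_injOn (fun e => if e.1 = a ∨ e.1 = b then e.2 else e.1) ?_ ?_
      · intro e he
        simp only [hR, Finset.coe_erase, Finset.coe_filter, Set.mem_sdiff, Set.mem_setOf_eq, Set.mem_singleton_iff] at he
        obtain ⟨⟨heT, hnot⟩, hne⟩ := he
        obtain ⟨h1, h2, h3⟩ := hT e heT
        have hne' : ¬ (e.1 = a ∧ e.2 = b) := fun h => hne (Prod.ext h.1 h.2)
        show (if e.1 = a ∨ e.1 = b then e.2 else e.1) ∈ V'
        split
        · rename_i h
          refine hmem _ h2 ?_ ?_ <;> rcases h with h | h <;> omega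
        · rename_i h
          push Not at h
          exact hmem _ h1 h.1 h.2
      · intro e he e' he' heq
        simp only [hR, Finset.coe_erase, Finset.coe_filter, Set.mem_sdiff, Set.mem_setOf_eq, Set.mem_singleton_iff] at he he'
        obtain ⟨⟨heT, hnot⟩, hne⟩ := he
        obtain ⟨⟨heT', hnot'⟩, hne'⟩ := he'
        obtain ⟨i, j⟩ := e
        obtain ⟨i', j'⟩ := e'
        obtain ⟨h1, h2, h3⟩ := hT _ heT
        obtain ⟨h1', h2', h3'⟩ := hT _ heT'
        simp only at h1 h2 h3 h1' h2' h3' hnot hnot' heq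
        have hor : (i = a ∨ i = b) ∨ (j = a ∨ j = b) := by
          by_contra h
          push Not at h
          exact hnot ⟨hmem _ h1 h.1.1 h.1.2, hmem _ h2 h.2.1 h.2.2⟩
        have hor' : (i' = a ∨ i' = b) ∨ (j' = a ∨ j' = b) := by
          by_contra h
          push Not at h
          exact hnot' ⟨hmem _ h1' h.1.1 h.1.2, hmem _ h2' h.2.1 h.2.2⟩
        by_contra hdiff
        have key : ∀ v, ((v, a) ∈ T → (v, b) ∉ T) ∧ ((a, v) ∈ T → (b, v) ∉ T) ∧ ((a, v) ∈ T → (v, b) ∉ T) ∧ ((b, v) ∈ T → (v, a) ∉ T) := by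
          intro v
          refine ⟨fun x y => htri v a b x hab y, fun x y => htri a b v hab y x, fun x y => htri a v b x y hab, fun x y => ?_⟩
          have h4 := (hT _ x).2.2
          have h5 := (hT _ y).2.2
          simp only at h4 h5
          omega
        split at heq <;> split at heq
        · rename_i u u'
          subst heq
          rcases u with rfl | rfl <;> rcases u' with rfl | rfl
          · exact hdiff rfl
          · exact (key j).2.1 heT heT'
          · exact (key j).2.1 heT' heT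
          · exact hdiff rfl
        · rename_i u u'
          subst heq
          have hj' : j' = a ∨ j' = b := hor'.resolve_left u'
          rcases u with rfl | rfl <;> rcases hj' with rfl | rfl
          · omega
          · exact (key j).2.2.1 heT heT'
          · exact (key j).2.2.2 heT heT'
          · omega
        · rename_i u u'
          subst heq
          have hj : j = a ∨ j = b := hor.resolve_left u
          rcases u' with rfl | rfl <;> rcases hj with rfl | rfl
          · omega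
          · exact (key i).2.2.1 heT' heT
          · exact (key i).2.2.2 heT' heT
          · omega
        · rename_i u u'
          subst heq
          have hj : j = a ∨ j = b := hor.resolve_left u
          have hj' : j' = a ∨ j' = b := hor'.resolve_left u'
          rcases hj with rfl | rfl <;> rcases hj' with rfl | rfl
          · exact hdiff rfl
          · exact (key i).1 heT heT'
          · exact (key i).1 heT' heT
          · exact hdiff rfl
    have hsplit : T.card ≤ T'.card + (R.card + 1) := by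
      have h1 := Finset.card_filter_add_card_filter_not (s := T) (fun e => e.1 ∈ V' ∧ e.2 ∈ V')
      have h2 : (T.filter (fun e => ¬(e.1 ∈ V' ∧ e.2 ∈ V'))).card ≤ R.card + 1 := by
        rw [hR]
        have := Finset.pred_card_le_card_erase (a := (a, b)) (s := T.filter (fun e => ¬(e.1 ∈ V' ∧ e.2 ∈ V')))
        omega
      rw [← hT'] at h1
      omega
    subst hcard
    nlinarith

theorem exists_chain {P : Type u} [Group P] [Finite P] {p : ℕ} [Fact p.Prime] (hP : IsPGroup p P) :
    ∀ (i : ℕ) (N : Subgroup P), N.Normal → Nat.card N = p ^ i → ∃ F : ℕ → Subgroup P,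
      (∀ l, (F l).Normal) ∧ Monotone F ∧ (∀ l, l ≤ i → Nat.card (F l) = p ^ l) ∧ (∀ l, i ≤ l → F l = N) := by
  intro i
  induction i with
  | zero => exact fun N hN hc => ⟨fun _ => N, fun _ => hN, fun _ _ _ => le_rfl,
      fun l hl => by rw [Nat.le_zero.1 hl, hc], fun _ _ => rfl⟩
  | succ i ih =>
    intro N hN hc
    haveI := hN
    obtain ⟨M, hM, hMN, hMc⟩ := Fusion.exists_normal_le_of_card hP N i
      (hc ▸ Nat.pow_le_pow_right (Fact.out : p.Prime).pos (Nat.le_succ i))
    obtain ⟨F, h1, h2, h3, h4⟩ := ih M hM hMc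
    refine ⟨fun l => if l ≤ i then F l else N, fun l => ?_, fun a b hab => ?_, fun l hl => ?_, fun l hl => if_neg (by omega)⟩
    · dsimp only; split
      exacts [h1 l, hN]
    · dsimp only
      by_cases hb : b ≤ i
      · rw [if_pos hb, if_pos (le_trans hab hb)]; exact h2 hab
      · rw [if_neg hb]
        split
        · rename_i ha
          exact (h2 ha).trans ((h4 i le_rfl).le.trans hMN)
        · exact le_rfl
    · dsimp only; split
      · rename_i h; exact h3 l h
      · rw [hc, show l = i + 1 by omega]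

section Linear

variable {P : Type u} [Group P] [Finite P] {p : ℕ} [hp : Fact p.Prime]

/-- A subgroup is generated modulo the centralizer of a normal elementary subgroup by few elements. -/
theorem linear_part (hP : IsPGroup p P) (E : Subgroup P) [E.Normal] (hEc : ∀ a ∈ E, ∀ b ∈ E, Commute a b)
    {j : ℕ} (hEj : Nat.card E = p ^ j) (H : Subgroup P) :
    ∃ S : Finset P, 4 * S.card ≤ j * j ∧ (∀ x ∈ S, x ∈ H) ∧
      H ≤ ((frattini ↥H).map H.subtype ⊔ Subgroup.closure (S : Set P)) ⊔ (H ⊓ Subgroup.centralizer (E : Set P)) := by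
  classical
  obtain ⟨F, hFn, hFm, hFc, hFE⟩ := exists_chain hP j E inferInstance hEj
  haveI := hFn
  have hFle : ∀ l, F l ≤ E := fun l => by
    rcases Nat.le_total l j with h | h
    · exact (hFm h).trans (hFE j le_rfl).le
    · exact (hFE l h).le
  have hF0 : F 0 = ⊥ := Subgroup.card_eq_one.1 ((hFc 0 (Nat.zero_le _)).trans (pow_zero p))
  obtain ⟨δ, hδ⟩ : ∃ δ : P → P → P, ∀ g v, δ g v = g * v * g⁻¹ * v⁻¹ := ⟨_, fun _ _ => rfl⟩
  -- adjacent terms
  have hstep : ∀ l, 0 < l → l ≤ j → ∀ v ∈ F l, v ∉ F (l - 1) → ∀ U : Subgroup P, F (l - 1) ≤ U → v ∈ U → F l ≤ U := by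
    intro l hl hlj v hv hv' U hU hvU
    obtain ⟨X, hX⟩ : ∃ X, X = U ⊓ F l := ⟨_, rfl⟩
    have hle : F (l - 1) ≤ X := hX ▸ le_inf hU (hFm (Nat.sub_le l 1))
    have hlt : F (l - 1) < X := lt_of_le_of_ne hle fun e => hv' (e.symm ▸ hX ▸ ⟨hvU, hv⟩)
    have hXle : X ≤ F l := hX ▸ inf_le_right
    have hcX : Nat.card (F (l - 1)) < Nat.card X := by
      refine (Subgroup.card_le_of_le hle).lt_of_ne fun e => hlt.ne (Subgroup.eq_of_le_of_card_ge hle e.ge)
    obtain ⟨e, he, hcard⟩ := (Nat.dvd_prime_pow hp.out).1 ((hFc l hlj) ▸ Subgroup.card_dvd_of_le hXle)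
    rw [hFc (l - 1) (by omega), hcard] at hcX
    have hel : l - 1 < e := (Nat.pow_lt_pow_iff_right hp.out.one_lt).1 hcX
    have hXeq : X = F l := Subgroup.eq_of_le_of_card_ge hXle (by
      rw [hFc l hlj, hcard]; exact Nat.pow_le_pow_right hp.out.pos (by omega))
    rw [← hXeq, hX]
    exact inf_le_left
  have hcenq : ∀ l g v, v ∈ F l → δ g v ∈ F (l - 1) := by
    intro l g v hv
    rcases Nat.lt_or_ge j l with hlj | hlj
    · rw [hFE (l - 1) (by omega), hδ]
      exact mul_mem (Subgroup.Normal.conj_mem inferInstance v (hFE l hlj.le ▸ hv) g) (inv_mem (hFE l hlj.le ▸ hv))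
    rcases Nat.eq_zero_or_pos l with rfl | hl
    · rw [hF0, Subgroup.mem_bot] at hv
      rw [hv, hδ, mul_one, mul_inv_cancel, one_mul, inv_one]
      exact one_mem _
    haveI : Group.IsNilpotent P := hP.isNilpotent
    obtain ⟨x, hxF, hxN, hxc⟩ := Fusion.exists_fixed_mod (P := P) (N := F (l - 1)) (C := F l) (Q := ⊤)
      (by rw [Subgroup.normalizer_eq_top]) (fun hle => by
        have h1 := Subgroup.card_le_of_le hle
        rw [hFc l hlj, hFc (l - 1) (by omega)] at h1
        exact absurd ((Nat.pow_le_pow_iff_right hp.out.one_lt).1 h1) (by omega))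
    have hxU : x ∈ (Subgroup.center (P ⧸ F (l - 1))).comap (QuotientGroup.mk' (F (l - 1))) := by
      refine Subgroup.mem_comap.2 (Subgroup.mem_center_iff.2 fun y => ?_)
      obtain ⟨y, rfl⟩ := QuotientGroup.mk'_surjective (F (l - 1)) y
      refine (commutatorElement_eq_one_iff_mul_comm.1 ?_).symm
      rw [← map_commutatorElement]
      exact (QuotientGroup.eq_one_iff _).2 (hxc y trivial)
    have hU : F l ≤ (Subgroup.center (P ⧸ F (l - 1))).comap (QuotientGroup.mk' (F (l - 1))) :=
      hstep l hl hlj x hxF hxN _ (fun u hu => by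
        rw [Subgroup.mem_comap, QuotientGroup.mk'_apply, (QuotientGroup.eq_one_iff u).2 hu]
        exact one_mem _) hxU
    have h : QuotientGroup.mk' (F (l - 1)) g * QuotientGroup.mk' (F (l - 1)) v =
        QuotientGroup.mk' (F (l - 1)) v * QuotientGroup.mk' (F (l - 1)) g :=
      Subgroup.mem_center_iff.1 (hU hv) _
    rw [← QuotientGroup.eq_one_iff (N := F (l - 1))]
    show QuotientGroup.mk' (F (l - 1)) (δ g v) = 1
    rw [hδ, map_mul, map_mul, map_mul, h, map_inv, map_inv, mul_inv_cancel_right, mul_inv_cancel]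
  -- the filtration of `H`
  have hnc : ∀ l (g v : P), v ∈ F l → g * v * g⁻¹ ∈ F l := fun l g v hv => Subgroup.Normal.conj_mem (hFn l) v hv g
  have hmulδ : ∀ g h v, δ (g * h) v = (g * δ h v * g⁻¹) * δ g v := fun g h v => by rw [hδ, hδ, hδ]; group
  obtain ⟨W, hW⟩ : ∃ W : ℕ → ℕ → Subgroup P, ∀ g l x, x ∈ W g l ↔
      x ∈ H ∧ ∀ l' ≤ j, ∀ v ∈ F l', δ x v ∈ F (l' - g) ∧ (l' < l → δ x v ∈ F (l' - g - 1)) := by
    refine ⟨fun g l =>
      { carrier := {x | x ∈ H ∧ ∀ l' ≤ j, ∀ v ∈ F l', δ x v ∈ F (l' - g) ∧ (l' < l → δ x v ∈ F (l' - g - 1))}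
        one_mem' := ⟨one_mem _, fun l' _ v _ => by simp [hδ]⟩
        mul_mem' := fun {x y} hx hy => ⟨mul_mem hx.1 hy.1, fun l' hl' v hv => by
          rw [hmulδ]
          exact ⟨mul_mem (hnc _ _ _ (hy.2 l' hl' v hv).1) (hx.2 l' hl' v hv).1,
            fun h => mul_mem (hnc _ _ _ ((hy.2 l' hl' v hv).2 h)) ((hx.2 l' hl' v hv).2 h)⟩⟩
        inv_mem' := fun {x} hx => ⟨inv_mem hx.1, fun l' hl' v hv => by
          have hw : x⁻¹ * v * x ∈ F l' := by simpa using hnc l' x⁻¹ v hv
          have e : δ x⁻¹ v = (δ x (x⁻¹ * v * x))⁻¹ := by rw [hδ, hδ]; group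
          rw [e]
          exact ⟨inv_mem (hx.2 l' hl' _ hw).1, fun h => inv_mem ((hx.2 l' hl' _ hw).2 h)⟩⟩ },
      fun _ _ _ => Iff.rfl⟩
  obtain ⟨Φ, hΦ⟩ : ∃ Φ, Φ = (frattini ↥H).map H.subtype := ⟨_, rfl⟩
  rw [← hΦ]
  have hHp : IsPGroup p H := hP.to_subgroup H
  -- two elements with the same leading entry differ by an element further down
  have hexp : ∀ g l, 1 ≤ g → g < l → l ≤ j → ∀ x, x ∈ W g l → x ∉ W g (l + 1) → W g l ≤ W g (l + 1) ⊔ Subgroup.zpowers x := by
    intro g l hg hgl hlj x hx hx' y hy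
    rw [hW] at hx hy
    obtain ⟨v, hv, hvx⟩ : ∃ v ∈ F l, δ x v ∉ F (l - g - 1) := by
      by_contra hcon
      push Not at hcon
      refine hx' ((hW _ _ _).2 ⟨hx.1, fun l' hl' v hv => ⟨(hx.2 l' hl' v hv).1, fun h => ?_⟩⟩)
      rcases Nat.lt_or_ge l' l with h' | h'
      · exact (hx.2 l' hl' v hv).2 h'
      · obtain rfl : l' = l := by omega
        exact hcon v hv
    -- express the entry of `y`
    obtain ⟨U, hU⟩ : ∃ U, U = F (l - g - 1) ⊔ Subgroup.zpowers (δ x v) := ⟨_, rfl⟩
    have hgen := hstep (l - g) (by omega) (by omega) _ (hx.2 l hlj v hv).1 hvx U (hU ▸ le_sup_left) (hU ▸ Subgroup.mem_sup_right (Subgroup.mem_zpowers _))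
    have hyv := hgen (hy.2 l hlj v hv).1
    rw [hU, ← SetLike.mem_coe, Subgroup.normal_mul] at hyv
    obtain ⟨f, hf, _, ⟨e, rfl⟩, hfe⟩ := hyv
    simp only at hfe
    -- modulo the next term, `δ` is multiplicative
    have hadd : ∀ a b, a ∈ W g l → b ∈ W g l → (QuotientGroup.mk (δ (a * b) v) : P ⧸ F (l - g - 1)) =
        QuotientGroup.mk (δ b v) * QuotientGroup.mk (δ a v) := by
      intro a b _ hb
      rw [hmulδ, QuotientGroup.mk_mul]
      congr 1
      refine (QuotientGroup.eq_iff_div_mem).2 ?_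
      rw [div_eq_mul_inv]
      exact hδ a (δ b v) ▸ hcenq _ a _ (((hW _ _ _).1 hb).2 l hlj v hv).1
    let ψ : W g l →* (P ⧸ F (l - g - 1)) := MonoidHom.mk' (fun a => QuotientGroup.mk (δ a v)) fun a b => by
      show (QuotientGroup.mk (δ ((a : P) * b) v) : P ⧸ F (l - g - 1)) = _ * _
      rw [hadd a b a.2 b.2]
      have hce : Commute (δ b v) (δ a v) := hEc _ (hFle _ (((hW _ _ _).1 b.2).2 l hlj v hv).1) _ (hFle _ (((hW _ _ _).1 a.2).2 l hlj v hv).1)
      rw [← QuotientGroup.mk_mul, hce.eq, QuotientGroup.mk_mul]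
    have hyeq : ψ ⟨y, (hW _ _ _).2 hy⟩ = ψ ⟨x, (hW _ _ _).2 hx⟩ ^ e := by
      show (QuotientGroup.mk (δ y v) : P ⧸ F (l - g - 1)) = (QuotientGroup.mk (δ x v)) ^ e
      rw [← hfe, QuotientGroup.mk_mul, (QuotientGroup.eq_one_iff f).2 hf, one_mul, QuotientGroup.mk_zpow]
    have hk : ψ (⟨y, (hW _ _ _).2 hy⟩ * (⟨x, (hW _ _ _).2 hx⟩ ^ e)⁻¹) = 1 := by
      rw [map_mul, map_inv, map_zpow, hyeq, mul_inv_cancel]
    have hmem : y * (x ^ e)⁻¹ ∈ W g (l + 1) := by
      obtain ⟨z, hz⟩ : ∃ z, z = y * (x ^ e)⁻¹ := ⟨_, rfl⟩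
      have hzW : z ∈ W g l := hz ▸ mul_mem ((hW _ _ _).2 hy) (inv_mem (zpow_mem ((hW _ _ _).2 hx) e))
      have hzv : δ z v ∈ F (l - g - 1) := hz ▸ (QuotientGroup.eq_one_iff _).1 hk
      have hvl : v ∉ F (l - 1) := by
        intro hv1
        refine hvx ?_
        rcases Nat.lt_or_ge (l - 1) l with h | h
        · have h2 := (hx.2 (l - 1) (by omega) v hv1).2 h
          exact hFm (by omega) h2
        · omega
      rw [← hz]
      rw [hW] at hzW ⊢
      refine ⟨hzW.1, fun l' hl' w hw => ⟨(hzW.2 l' hl' w hw).1, fun h => ?_⟩⟩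
      rcases Nat.lt_or_ge l' l with h' | h'
      · exact (hzW.2 l' hl' w hw).2 h'
      obtain rfl : l' = l := by omega
      let Kz : Subgroup P :=
        { carrier := {u | u ∈ E ∧ δ z u ∈ F (l' - g - 1)}
          one_mem' := ⟨one_mem _, by simp [hδ]⟩
          mul_mem' := fun {a b} ha hb => ⟨mul_mem ha.1 hb.1, by
            have e2 : δ z (a * b) = δ z a * (a * δ z b * a⁻¹) := by rw [hδ, hδ, hδ]; group
            rw [e2]
            exact mul_mem ha.2 (hnc _ _ _ hb.2)⟩
          inv_mem' := fun {a} ha => ⟨inv_mem ha.1, by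
            have e2 : δ z a⁻¹ = a⁻¹ * (δ z a)⁻¹ * (a⁻¹)⁻¹ := by rw [hδ, hδ]; group
            rw [e2]
            exact hnc _ _ _ (inv_mem ha.2)⟩ }
      exact (hstep l' (by omega) hl' v hv hvl Kz (fun u hu => ⟨hFle _ hu,
        hFm (by omega) ((hzW.2 (l' - 1) (by omega) u hu).2 (by omega))⟩) ⟨hFle _ hv, hzv⟩ hw).2
    have := mul_mem (Subgroup.mem_sup_left hmem) (Subgroup.mem_sup_right (S := W g (l + 1)) (zpow_mem (Subgroup.mem_zpowers x) e))
    rwa [inv_mul_cancel_right] at this
  -- the leading positions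
  obtain ⟨T, hT⟩ : ∃ T : Finset (ℕ × ℕ), T = ((Finset.Icc 1 j) ×ˢ (Finset.Icc 1 j)).filter
      (fun e => e.1 < e.2 ∧ ¬ W (e.2 - e.1) e.2 ≤ Φ ⊔ W (e.2 - e.1) (e.2 + 1)) := ⟨_, rfl⟩
  have hTmem : ∀ e ∈ T, e.1 ∈ Finset.Icc 1 j ∧ e.2 ∈ Finset.Icc 1 j ∧ e.1 < e.2 := fun e he => by
    rw [hT, Finset.mem_filter, Finset.mem_product] at he
    exact ⟨he.1.1, he.1.2, he.2.1⟩
  have hlead : ∀ e ∈ T, ∃ x, x ∈ W (e.2 - e.1) e.2 ∧ x ∉ W (e.2 - e.1) (e.2 + 1) := fun e he => by
    rw [hT, Finset.mem_filter] at he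
    obtain ⟨x, hx1, hx2⟩ := SetLike.not_le_iff_exists.1 he.2.2
    exact ⟨x, hx1, fun h => hx2 (Subgroup.mem_sup_right h)⟩
  have htri : ∀ i m l, (i, m) ∈ T → (m, l) ∈ T → (i, l) ∉ T := by
    intro i m l him hml hil
    obtain ⟨h1, h2, h12⟩ := hTmem _ him
    obtain ⟨-, h3, h23⟩ := hTmem _ hml
    simp only [Finset.mem_Icc] at h1 h2 h3 h12 h23
    obtain ⟨a, ha1, ha2⟩ := hlead _ him
    obtain ⟨b, hb1, hb2⟩ := hlead _ hml
    simp only at ha1 ha2 hb1 hb2
    rw [hW] at ha1 hb1
    obtain ⟨u, hu, hbu⟩ : ∃ u ∈ F l, δ b u ∉ F (m - 1) := by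
      by_contra hcon
      push Not at hcon
      refine hb2 ((hW _ _ _).2 ⟨hb1.1, fun l' hl' v hv => ⟨(hb1.2 l' hl' v hv).1, fun h => ?_⟩⟩)
      rcases Nat.lt_or_ge l' l with h' | h'
      · exact (hb1.2 l' hl' v hv).2 h'
      · obtain rfl : l' = l := by omega
        rw [show l' - (l' - m) - 1 = m - 1 by omega]
        exact hcon v hv
    have hw : δ b u ∈ F m := by
      have := (hb1.2 l h3.2 u hu).1
      rwa [show l - (l - m) = m by omega] at this
    have haw : δ a (δ b u) ∉ F (i - 1) := by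
      intro hin
      refine ha2 ((hW _ _ _).2 ⟨ha1.1, fun l' hl' v hv => ⟨(ha1.2 l' hl' v hv).1, fun h => ?_⟩⟩)
      rcases Nat.lt_or_ge l' m with h' | h'
      · exact (ha1.2 l' hl' v hv).2 h'
      obtain rfl : l' = m := by omega
      rw [show l' - (l' - i) - 1 = i - 1 by omega]
      let Ka : Subgroup P :=
        { carrier := {w | δ a w ∈ F (i - 1)}
          one_mem' := by simp [hδ]
          mul_mem' := fun {c d} hc hd => by
            show δ a (c * d) ∈ F (i - 1)
            have e2 : δ a (c * d) = δ a c * (c * δ a d * c⁻¹) := by rw [hδ, hδ, hδ]; group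
            rw [e2]
            exact mul_mem hc (hnc _ _ _ hd)
          inv_mem' := fun {c} hc => by
            show δ a c⁻¹ ∈ F (i - 1)
            have e2 : δ a c⁻¹ = c⁻¹ * (δ a c)⁻¹ * (c⁻¹)⁻¹ := by rw [hδ, hδ]; group
            rw [e2]
            exact hnc _ _ _ (inv_mem hc) }
      refine hstep l' (by omega) hl' _ hw hbu Ka (fun w hw' => ?_) hin hv
      show δ a w ∈ F (i - 1)
      exact hFm (by omega) ((ha1.2 (l' - 1) (by omega) w hw').2 (by omega))
    -- the commutator
    obtain ⟨c, hc⟩ : ∃ c, c = ⁅a, b⁆ := ⟨_, rfl⟩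
    have hform : ∀ v, v ∈ E → δ c ((b * a) * v * (b * a)⁻¹) = δ a (δ b v) * (δ b (δ a v))⁻¹ := by
      intro v hv
      have hconjE : ∀ g, g * v * g⁻¹ ∈ E := fun g => Subgroup.Normal.conj_mem inferInstance v hv g
      have hdE : ∀ g, δ g v ∈ E := fun g => hδ g v ▸ mul_mem (hconjE g) (inv_mem hv)
      have hdd : ∀ g h, δ g (δ h v) ∈ E := fun g h =>
        hδ g (δ h v) ▸ mul_mem (Subgroup.Normal.conj_mem inferInstance _ (hdE h) g) (inv_mem (hdE h))
      have eAB : ∀ g h : P, (g * h) * v * (g * h)⁻¹ = δ g (δ h v) * δ h v * (δ g v * v) := fun g h => by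
        rw [hδ, hδ, hδ]; group
      have e0 : δ c ((b * a) * v * (b * a)⁻¹) = (a * b * v * (a * b)⁻¹) * (b * a * v * (b * a)⁻¹)⁻¹ := by
        rw [hc, hδ, commutatorElement_def]; group
      rw [e0, eAB a b, eAB b a]
      have k1 : δ b v * (δ a v * v) = δ a v * (δ b v * v) := by
        rw [← mul_assoc, (hEc _ (hdE b) _ (hdE a)).eq, mul_assoc]
      calc δ a (δ b v) * δ b v * (δ a v * v) * (δ b (δ a v) * δ a v * (δ b v * v))⁻¹
          = δ a (δ b v) * (δ b v * (δ a v * v)) * (δ a v * (δ b v * v))⁻¹ * (δ b (δ a v))⁻¹ := by group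
        _ = _ := by rw [k1]; group
    have hcW : c ∈ W (l - i) l := by
      rw [hW]
      refine ⟨hc ▸ mul_mem (mul_mem (mul_mem ha1.1 hb1.1) (inv_mem ha1.1)) (inv_mem hb1.1), fun l' hl' v' hv' => ?_⟩
      obtain ⟨v, hv, rfl⟩ : ∃ v ∈ F l', v' = (b * a) * v * (b * a)⁻¹ :=
        ⟨(b * a)⁻¹ * v' * (b * a), by simpa using hnc l' (b * a)⁻¹ v' hv', by group⟩
      rw [hform v (hFle _ hv)]
      have hb' := hb1.2 l' hl' v hv
      have ha' := ha1.2 l' hl' v hv
      refine ⟨mul_mem ?_ (inv_mem ?_), fun h => mul_mem ?_ (inv_mem ?_)⟩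
      · exact hFm (by omega) (ha1.2 _ (by omega) _ hb'.1).1
      · exact hFm (by omega) (hb1.2 _ (by omega) _ ha'.1).1
      · exact hFm (by omega) (ha1.2 _ (by omega) _ (hb'.2 h)).1
      · exact hFm (by omega) ((hb1.2 _ (by omega) _ ha'.1).2 (by omega))
    have hcN : c ∉ W (l - i) (l + 1) := by
      intro h
      have h' := ((hW _ _ _).1 h).2 l h3.2 _ (hnc l (b * a) u hu) |>.2 (by omega)
      rw [hform u (hFle _ hu), show l - (l - i) - 1 = i - 1 by omega] at h'
      refine haw ?_
      have h'' : δ b (δ a u) ∈ F (i - 1) := by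
        have ha' := (ha1.2 l h3.2 u hu).1
        exact hFm (by omega) ((hb1.2 _ (by omega) _ ha').2 (by omega))
      have := mul_mem h' h''
      rwa [inv_mul_cancel_right] at this
    rw [hT, Finset.mem_filter] at hil
    refine hil.2.2 ((hexp (l - i) l (by omega) (by omega) h3.2 c hcW hcN).trans (sup_le le_sup_right ?_))
    rw [Subgroup.zpowers_le]
    refine Subgroup.mem_sup_left ?_
    rw [hΦ, hc]
    exact ⟨⁅⟨a, ha1.1⟩, ⟨b, hb1.1⟩⁆, Solv.commutatorElement_mem_frattini hHp _ _, by simp [commutatorElement_def]⟩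
  choose! rep hrep using hlead
  obtain ⟨S, hS⟩ : ∃ S, S = T.image rep := ⟨_, rfl⟩
  refine ⟨S, ?_, ?_, ?_⟩
  · have h1 := mantel _ (Finset.Icc 1 j) rfl T hTmem htri
    rw [Nat.card_Icc, Nat.add_sub_cancel] at h1
    have h2 : S.card ≤ T.card := hS ▸ Finset.card_image_le
    omega
  · intro x hx
    rw [hS, Finset.mem_image] at hx
    obtain ⟨e, he, rfl⟩ := hx
    exact ((hW _ _ _).1 (hrep e he).1).1
  obtain ⟨X, hX⟩ : ∃ X, X = Φ ⊔ Subgroup.closure (S : Set P) ⊔ (H ⊓ Subgroup.centralizer (E : Set P)) := ⟨_, rfl⟩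
  rw [← hX]
  have hWbot : ∀ g l, j ≤ g → W g l ≤ X := by
    intro g l hg x hx
    rw [hW] at hx
    rw [hX]
    refine Subgroup.mem_sup_right ⟨hx.1, Subgroup.mem_centralizer_iff.2 fun v hv => ?_⟩
    have h := (hx.2 j le_rfl v ((hFE j le_rfl).symm ▸ hv)).1
    rw [show j - g = 0 by omega, hF0, Subgroup.mem_bot, hδ, mul_inv_eq_one] at h
    exact (mul_inv_eq_iff_eq_mul.1 h).symm
  have hnext : ∀ g, 1 ≤ g → W g (j + 1) ≤ W (g + 1) 0 := by
    intro g hg x hx
    rw [hW] at hx ⊢
    refine ⟨hx.1, fun l' hl' v hv => ⟨?_, fun h => absurd h (Nat.not_lt_zero _)⟩⟩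
    have := (hx.2 l' hl' v hv).2 (by omega)
    rwa [show l' - (g + 1) = l' - g - 1 by omega]
  have hone : ∀ g l, 1 ≤ g → l ≤ j → W g (l + 1) ≤ X → W g l ≤ X := by
    intro g l hg hlj hnextX
    by_cases hgl : g < l
    · by_cases heT : (l - g, l) ∈ T
      · have h := hrep _ heT
        rw [show l - (l - g) = g by omega] at h
        refine (hexp g l hg hgl hlj _ h.1 h.2).trans (sup_le hnextX ?_)
        rw [Subgroup.zpowers_le, hX]
        refine Subgroup.mem_sup_left (Subgroup.mem_sup_right (Subgroup.subset_closure ?_))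
        rw [hS, Finset.coe_image]
        exact ⟨_, heT, rfl⟩
      · have hle : W g l ≤ Φ ⊔ W g (l + 1) := by
          by_contra hn
          refine heT ?_
          rw [hT, Finset.mem_filter, Finset.mem_product, Finset.mem_Icc, Finset.mem_Icc]
          refine ⟨⟨⟨by omega, by omega⟩, by omega, hlj⟩, by simp only; omega, ?_⟩
          simp only [show l - (l - g) = g by omega]
          exact hn
        exact hle.trans (sup_le (hX ▸ le_sup_of_le_left le_sup_left) hnextX)
    · refine le_trans ?_ hnextX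
      intro x hx
      rw [hW] at hx ⊢
      refine ⟨hx.1, fun l' hl' v hv => ⟨(hx.2 l' hl' v hv).1, fun h => ?_⟩⟩
      have := (hx.2 l' hl' v hv).1
      rwa [show l' - g - 1 = l' - g by omega]
  have hall : ∀ d g, 1 ≤ g → j ≤ g + d → W g 0 ≤ X := by
    intro d
    induction d with
    | zero => exact fun g hg h => hWbot g 0 (by omega)
    | succ d ih =>
      intro g hg h
      have hback : ∀ s l, l + s = j + 1 → W g l ≤ X := by
        intro s
        induction s with
        | zero => intro l hl; rw [show l = j + 1 by omega]; exact (hnext g hg).trans (ih (g + 1) (by omega) (by omega))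
        | succ s ihs => intro l hl; exact hone g l hg (by omega) (ihs (l + 1) (by omega))
      exact hback (j + 1) 0 (by omega)
  refine le_trans (fun x hx => (hW 1 0 x).2 ⟨hx, fun l' hl' v hv => ⟨hcenq l' x v hv, fun h => absurd h (Nat.not_lt_zero _)⟩⟩) (hall j 1 le_rfl (by omega))

end Linear

/-- Let p be an odd prime and P a finite p-group in which every normal abelian subgroup can be generated by k elements. Then every subgroup of P can be generated by at most ⌊k(k+4)/4⌋ elements. -/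
theorem result {P : Type*} [Group P] [Finite P] {p : ℕ} [Fact p.Prime]
    (hp : p ≠ 2) (hP : IsPGroup p P) (k : ℕ)
    (hab : ∀ A : Subgroup P, A.Normal → IsMulCommutative A → ∃ S : Finset P, S.card ≤ k ∧ Subgroup.closure (S : Set P) = A) :
    ∀ H : Subgroup P, ∃ S : Finset P, S.card ≤ k * (k + 4) / 4 ∧ Subgroup.closure (S : Set P) = H := by
  classical
  intro H
  obtain ⟨E, ⟨hEn, hEc, hEp⟩, hmax⟩ := Set.exists_max_image
    {A : Subgroup P | A.Normal ∧ IsMulCommutative A ∧ ∀ a ∈ A, a ^ p = 1}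
    (fun A : Subgroup P => Nat.card A) (Set.toFinite _)
    ⟨⊥, inferInstance, inferInstance, fun a ha => by rw [Subgroup.mem_bot.1 ha, one_pow]⟩
  haveI := hEn
  have hcomm : ∀ a ∈ E, ∀ b ∈ E, Commute a b := fun a ha b hb =>
    congrArg Subtype.val (hEc.is_comm.comm ⟨a, ha⟩ ⟨b, hb⟩)
  have hcent : ∀ x : P, x ∈ Subgroup.centralizer (E : Set P) → x ^ p = 1 → x ∈ E := fun x hx hxp =>
    Fusion.mem_of_maximal_normal_abelian_exponent hP 1 (by rwa [pow_one]) E hEc (fun a ha => by rw [pow_one]; exact hEp a ha)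
      (fun B hB hBc hBp hle => (Subgroup.eq_of_le_of_card_ge hle
        (hmax B ⟨hB, hBc, fun b hb => by simpa using hBp b hb⟩)).symm) x hx (by rwa [pow_one])
  obtain ⟨j, hj⟩ := IsPGroup.iff_card.1 (hP.to_subgroup E)
  obtain ⟨Sk, hSk, hSkgen⟩ := hab E hEn hEc
  have hjk : j ≤ k := by
    letI : CommGroup E := { (inferInstance : Group E) with mul_comm := fun a b => Subtype.ext (hcomm a a.2 b b.2) }
    haveI : Finite Sk := inferInstance
    let f : (Sk → Fin p) → E := fun c => ∏ s : Sk, (⟨(s : P), hSkgen ▸ Subgroup.subset_closure s.2⟩ : E) ^ (c s : ℕ)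
    have hsurj : Function.Surjective f := by
      intro e
      have he : (e : P) ∈ Subgroup.closure (Sk : Set P) := hSkgen.symm ▸ e.2
      have hpow : ∀ (u : E) (n : ℕ), u ^ (n % p) = u ^ n := fun u n => by
        conv_rhs => rw [← Nat.mod_add_div n p, pow_add, pow_mul,
          show u ^ p = 1 from Subtype.ext (by simpa using hEp u u.2), one_pow, mul_one]
      suffices h : ∀ x ∈ Subgroup.closure (Sk : Set P), ∃ c, (f c : P) = x by
        obtain ⟨c, hc⟩ := h _ he
        exact ⟨c, Subtype.ext hc⟩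
      intro x hx
      have hf : ∀ c c', f c * f c' = f (fun s => ⟨(c s + c' s : ℕ) % p, Nat.mod_lt _ (Fact.out : p.Prime).pos⟩) := by
        intro c c'
        simp only [f, ← Finset.prod_mul_distrib, ← pow_add, hpow]
      induction hx using Subgroup.closure_induction with
      | mem s hs =>
        refine ⟨fun t => if t = ⟨s, hs⟩ then ⟨1, (Fact.out : p.Prime).one_lt⟩ else ⟨0, (Fact.out : p.Prime).pos⟩, ?_⟩
        simp only [f]
        rw [Finset.prod_eq_single (⟨s, hs⟩ : Sk) (fun t _ ht => by rw [if_neg ht, pow_zero])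
          (fun h => absurd (Finset.mem_univ _) h), if_pos rfl, pow_one]
      | one =>
        exact ⟨fun _ => ⟨0, (Fact.out : p.Prime).pos⟩, by
          simp only [f, pow_zero, Finset.prod_const_one]; rfl⟩
      | mul x y _ _ ihx ihy =>
        obtain ⟨c, rfl⟩ := ihx
        obtain ⟨c', rfl⟩ := ihy
        exact ⟨_, (congrArg Subtype.val (hf c c')).symm⟩
      | inv x _ ih =>
        obtain ⟨c, rfl⟩ := ih
        have : ∀ n : ℕ, ∃ c', f c' = f c ^ n := by
          intro n
          induction n with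
          | zero => exact ⟨fun _ => ⟨0, (Fact.out : p.Prime).pos⟩, by simp only [f, pow_zero, Finset.prod_const_one]⟩
          | succ n ihn =>
            obtain ⟨c', hc'⟩ := ihn
            exact ⟨_, (hf c' c).symm.trans (by rw [hc', pow_succ])⟩
        obtain ⟨c', hc'⟩ := this (p - 1)
        refine ⟨c', ?_⟩
        rw [hc']
        show ((f c ^ (p - 1) : E) : P) = ((f c)⁻¹ : E)
        congr 1
        refine eq_inv_of_mul_eq_one_left ?_
        rw [← pow_succ, show p - 1 + 1 = p by have := (Fact.out : p.Prime).pos; omega]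
        exact Subtype.ext (by simpa using hEp (f c) (f c).2)
    have h := Nat.card_le_card_of_surjective f hsurj
    rw [hj, Nat.card_fun, Nat.card_fin, Nat.card_eq_finsetCard] at h
    exact ((Nat.pow_le_pow_iff_right (Fact.out : p.Prime).one_lt).1 h).trans hSk
  -- the part centralizing `E`
  obtain ⟨D, hD⟩ : ∃ D, D = H ⊓ Subgroup.centralizer (E : Set P) := ⟨_, rfl⟩
  have hDE : ∀ u : D, u ^ p = 1 → (u : P) ∈ E := fun u hu =>
    hcent u (hD ▸ u.2 : (u : P) ∈ H ⊓ Subgroup.centralizer (E : Set P)).2 (congrArg Subtype.val hu)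
  have hidx : (frattini ↥D).index ≤ p ^ j := by
    refine (frattini_index_le hp _ D rfl (hP.to_subgroup D) fun u hu g => Subtype.ext ?_).trans ?_
    · exact Subgroup.mem_centralizer_iff.1 (hD ▸ g.2 : (g : P) ∈ H ⊓ Subgroup.centralizer (E : Set P)).2 _ (hDE u hu)
    · rw [← hj]
      exact Nat.card_le_card_of_injective (fun u : {x : D // x ^ p = 1} => (⟨(u.1 : P), hDE u.1 u.2⟩ : E))
        fun a b h => Subtype.ext (Subtype.ext (congrArg Subtype.val h :))
  obtain ⟨Sd, hSd, hSdgen⟩ := exists_gens_mod (hP.to_subgroup D) j _ hidx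
  have hD' : (frattini ↥D) ⊔ Subgroup.closure (Sd : Set D) = ⊤ := hSdgen
  have hDgen : Subgroup.closure (Sd : Set D) = ⊤ := frattini_nongenerating (by rwa [sup_comm] at hD')
  obtain ⟨Sl, hSl, hSlH, hle⟩ := linear_part hP E hcomm hj H
  rw [← hD] at hle
  refine ⟨Sd.image (D.subtype) ∪ Sl, ?_, ?_⟩
  · refine (Finset.card_union_le _ _).trans ?_
    have h1 : (Sd.image D.subtype).card ≤ j := Finset.card_image_le.trans hSd
    rw [Nat.le_div_iff_mul_le (by norm_num)]
    have h2 : j * j ≤ k * k := Nat.mul_le_mul hjk hjk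
    nlinarith
  · obtain ⟨X, hX⟩ : ∃ X, X = Subgroup.closure ((Sd.image D.subtype ∪ Sl : Finset P) : Set P) := ⟨_, rfl⟩
    rw [← hX]
    have hXH : X ≤ H := by
      rw [hX, Subgroup.closure_le]
      intro x hx
      rcases Finset.mem_union.1 hx with h | h
      · obtain ⟨u, -, rfl⟩ := Finset.mem_image.1 h
        exact (hD ▸ u.2 : (u : P) ∈ H ⊓ Subgroup.centralizer (E : Set P)).1
      · exact hSlH x h
    have hDX : D ≤ X := by
      intro x hx
      have h : (⟨x, hx⟩ : D) ∈ Subgroup.closure (Sd : Set D) := hDgen.symm ▸ Subgroup.mem_top _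
      have h2 := Subgroup.mem_map_of_mem D.subtype h
      rw [MonoidHom.map_closure] at h2
      refine hX ▸ Subgroup.closure_mono ?_ h2
      rw [← Finset.coe_image]
      exact_mod_cast Finset.subset_union_left
    have hSX : Subgroup.closure (Sl : Set P) ≤ X := hX ▸ Subgroup.closure_mono (by exact_mod_cast Finset.subset_union_right)
    have hsup : H ≤ X ⊔ (frattini ↥H).map H.subtype :=
      hle.trans (sup_le (sup_le le_sup_right (le_sup_of_le_left hSX)) (le_sup_of_le_left hDX))
    refine le_antisymm hXH ?_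
    have htop : X.subgroupOf H = ⊤ := by
      refine frattini_nongenerating ?_
      apply Subgroup.map_injective H.subtype_injective
      rw [Subgroup.map_sup, Subgroup.map_subgroupOf_eq_of_le hXH, ← MonoidHom.range_eq_map, Subgroup.range_subtype]
      exact le_antisymm (sup_le hXH (Subgroup.map_subtype_le _)) hsup
    exact Subgroup.subgroupOf_eq_top.1 htop

end Cfsg.Agent.S4057
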