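import Cfsg.Statements.S4058
import Cfsg.Agent.Lib.Solv.SqCount
import Cfsg.Agent.S0012
import Cfsg.Agent.Lib.Char.Central

set_option autoImplicit false
open Cfsg

open scoped Pointwise commutatorElement ComplexConjugate

namespace Cfsg.Agent.S4058

/-- Real linear characters of `G`. -/
abbrev L (G : Type*) [Group G] := (G ⧸ frattini G) →* ℂˣ

/-- Let G be a finite 2-group with #(G/Φ(G)) ≥ 2^(2k+1). Then the number of elements x of G with x² = 1 is divisible by 2^(k+1). -/
theorem result {G : Type*} [Group G] [Finite G] (hG : IsPGroup 2 G) (k : ℕ)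
    (hgen : 2 ^ (2 * k + 1) ≤ Nat.card (G ⧸ frattini G)) :
    2 ^ (k + 1) ∣ Nat.card {x : G // x ^ 2 = 1} := by
  classical
  have := Fintype.ofFinite G
  have hp2 : Fact (Nat.Prime 2) := ⟨Nat.prime_two⟩
  obtain ⟨hΦc, hΦp⟩ := S0012.result 2 hG
  have hQab : ∀ a b : G ⧸ frattini G, a * b = b * a := by
    intro a b
    obtain ⟨a, rfl⟩ := QuotientGroup.mk_surjective a
    obtain ⟨b, rfl⟩ := QuotientGroup.mk_surjective b
    rw [← QuotientGroup.mk_mul, ← QuotientGroup.mk_mul, QuotientGroup.eq]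
    refine hΦc ?_
    have := Subgroup.commutator_mem_commutator (Subgroup.mem_top b⁻¹) (Subgroup.mem_top a⁻¹)
    rw [commutator_def]
    convert this using 1
    rw [commutatorElement_def]; group
  have hQsq : ∀ a : G ⧸ frattini G, a * a = 1 := by
    intro a
    obtain ⟨a, rfl⟩ := QuotientGroup.mk_surjective a
    rw [← QuotientGroup.mk_mul, QuotientGroup.eq_one_iff, ← pow_two]
    exact hΦp a
  have hcard : Nat.card ((G ⧸ frattini G) →* ℂˣ) = Nat.card (G ⧸ frattini G) := by
    rw [Cfsg.Agent.Char.card_hom_units, show commutator (G ⧸ frattini G) = ⊥ by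
      rw [commutator_def, eq_bot_iff, Subgroup.commutator_le]
      exact fun a _ b _ => Subgroup.mem_bot.2 (commutatorElement_eq_one_iff_mul_comm.2 (hQab a b)),
      Subgroup.index_bot]
  have : Finite (L G) := Nat.finite_of_card_ne_zero (by rw [hcard]; exact Nat.card_pos.ne')
  have := Fintype.ofFinite (L G)
  have hsign : ∀ (l : (L G)) (g : G), (l (g : G ⧸ frattini G) : ℂ) = 1 ∨ (l (g : G ⧸ frattini G) : ℂ) = -1 := by
    intro l g
    refine mul_self_eq_one_iff.1 ?_
    rw [← Units.val_mul, ← map_mul, hQsq, map_one, Units.val_one]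
  have hconj : ∀ (l : (L G)) (g : G), conj (l (g : G ⧸ frattini G) : ℂ) = (l (g : G ⧸ frattini G) : ℂ) := by
    intro l g; rcases hsign l g with h | h <;> rw [h] <;> simp
  have hone : ∀ (l : (L G)) (g : G), (l (g : G ⧸ frattini G) : ℂ) * (l (g : G ⧸ frattini G) : ℂ) = 1 := by
    intro l g; rcases hsign l g with h | h <;> rw [h] <;> simp
  have hmulirr : ∀ (l : (L G)) (χ : IrrCharacter G),
      IsIrrCharacter G (fun g => (l (g : G ⧸ frattini G) : ℂ) * (χ : G → ℂ) g) := by
    intro l χ
    rw [Cfsg.Agent.Char.isIrr_iff_norm_one]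
    refine ⟨Cfsg.Agent.Char.isCharacter_mul
      (Cfsg.Agent.Char.isCharacter_linear (l.comp (QuotientGroup.mk' (frattini G))))
      (Cfsg.Agent.Char.irr_isCharacter χ.2), ?_⟩
    rw [← Cfsg.Agent.Char.irr_self χ.2]
    simp only [classInner]
    congr 1
    refine Finset.sum_congr rfl fun g _ => ?_
    rw [map_mul, hconj, mul_mul_mul_comm, hone, one_mul]
  let act : MulAction (L G) (IrrCharacter G) :=
    { smul := fun l χ => ⟨_, hmulirr l χ⟩
      one_smul := fun χ => Subtype.ext (funext fun g => by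
        show ((1 : (L G)) (g : G ⧸ frattini G) : ℂ) * (χ : G → ℂ) g = _
        simp)
      mul_smul := fun l m χ => Subtype.ext (funext fun g => by
        show ((l * m) (g : G ⧸ frattini G) : ℂ) * (χ : G → ℂ) g = (l (g : G ⧸ frattini G) : ℂ) * ((m (g : G ⧸ frattini G) : ℂ) * (χ : G → ℂ) g)
        simp [mul_assoc]) }
  have hsmul : ∀ (l : (L G)) (χ : IrrCharacter G),
      ((l • χ : IrrCharacter G) : G → ℂ) = fun g : G => (l (g : G ⧸ frattini G) : ℂ) * (χ : G → ℂ) g :=
    fun l χ => rfl
  -- the summands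
  have hz : ∀ χ : IrrCharacter G, ∃ z : ℤ,
      (Nat.card G : ℂ)⁻¹ * ∑ g : G, (χ : G → ℂ) (g * g) = z :=
    fun χ => Solv.fsSum_int (Cfsg.Agent.Char.irr_isCharacter χ.2)
  choose z hz using hz
  let F : IrrCharacter G → ℤ := fun χ => z χ * (Cfsg.Agent.Char.deg (χ : G → ℂ) : ℤ)
  have hFsum : (Nat.card {x : G // x ^ 2 = 1} : ℤ) = ∑ χ, F χ := by
    have h := Solv.card_sq_eq_one_eq_sum (G := G)
    rw [Finset.sum_congr rfl fun χ _ => by
      rw [hz χ, Cfsg.Agent.Char.char_one_eq_deg (Cfsg.Agent.Char.irr_isCharacter χ.2)]] at h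
    exact_mod_cast h
  have hinv : ∀ (l : (L G)) (χ : IrrCharacter G), F (l • χ) = F χ := by
    intro l χ
    have h1 : ((l • χ : IrrCharacter G) : G → ℂ) 1 = (χ : G → ℂ) 1 := by rw [hsmul]; simp
    have h2 : z (l • χ) = z χ := by
      have e : ∀ g : G, ((l • χ : IrrCharacter G) : G → ℂ) (g * g) = (χ : G → ℂ) (g * g) := by
        intro g
        rw [hsmul]
        simp only [QuotientGroup.mk_mul, hQsq, map_one, Units.val_one, one_mul]
      have := hz (l • χ)
      rw [Finset.sum_congr rfl fun g _ => e g, hz χ] at this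
      exact_mod_cast this.symm
    have h3 : Cfsg.Agent.Char.deg ((l • χ : IrrCharacter G) : G → ℂ) = Cfsg.Agent.Char.deg (χ : G → ℂ) := by
      have := h1
      rw [Cfsg.Agent.Char.char_one_eq_deg (Cfsg.Agent.Char.irr_isCharacter (l • χ).2),
        Cfsg.Agent.Char.char_one_eq_deg (Cfsg.Agent.Char.irr_isCharacter χ.2)] at this
      exact_mod_cast this
    simp only [F, h2, h3]
  -- stabilisers
  have hstab : ∀ χ : IrrCharacter G,
      Nat.card (MulAction.stabilizer (L G) χ) ≤ Cfsg.Agent.Char.deg (χ : G → ℂ) ^ 2 := by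
    intro χ
    have hψ : IsCharacter G ((χ : G → ℂ) * fun g => conj ((χ : G → ℂ) g)) :=
      Cfsg.Agent.Char.isCharacter_mul (Cfsg.Agent.Char.irr_isCharacter χ.2)
        (Cfsg.Agent.Char.isCharacter_conj (Cfsg.Agent.Char.irr_isCharacter χ.2))
    obtain ⟨m, hm⟩ := Cfsg.Agent.Char.exists_decomposition hψ
    let e : MulAction.stabilizer (L G) χ → IrrCharacter G := fun l =>
      ⟨_, Cfsg.Agent.Char.isIrrCharacter_linear ((l : (L G)).comp (QuotientGroup.mk' (frattini G)))⟩
    have he : Function.Injective e := by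
      intro a b h
      refine Subtype.ext (MonoidHom.ext fun q => ?_)
      obtain ⟨g, rfl⟩ := QuotientGroup.mk_surjective q
      exact Units.ext (congrFun (congrArg Subtype.val h) g)
    have h1 : ∀ l, m (e l) = 1 := by
      intro l
      have h := Cfsg.Agent.Char.decomposition_coeff m hm (e l)
      have hl := congrArg Subtype.val (MulAction.mem_stabilizer_iff.1 l.2)
      rw [hsmul] at hl
      have h' : classInner ((χ : G → ℂ) * fun g => conj ((χ : G → ℂ) g)) (e l : G → ℂ) = 1 := by
        rw [← Cfsg.Agent.Char.irr_self χ.2]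
        simp only [classInner]
        congr 1
        refine Finset.sum_congr rfl fun g _ => ?_
        show (χ : G → ℂ) g * conj ((χ : G → ℂ) g) * conj ((l : (L G)) (g : G ⧸ frattini G) : ℂ) = _
        rw [hconj]
        rw [mul_right_comm, mul_comm ((χ : G → ℂ) g), congrFun hl g]
      rw [h'] at h
      exact_mod_cast h.symm
    have h2 : (Cfsg.Agent.Char.deg (χ : G → ℂ) ^ 2 : ℕ) =
        ∑ ψ : IrrCharacter G, m ψ * Cfsg.Agent.Char.deg (ψ : G → ℂ) := by
      have h := congrFun hm 1
      simp only [Pi.mul_apply, Finset.sum_apply, nsmul_eq_mul, Pi.natCast_apply, map_natCast,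

        Cfsg.Agent.Char.char_one_eq_deg (Cfsg.Agent.Char.irr_isCharacter χ.2)] at h
      rw [← pow_two] at h
      rw [Finset.sum_congr rfl fun ψ _ => by
        rw [Cfsg.Agent.Char.char_one_eq_deg (Cfsg.Agent.Char.irr_isCharacter ψ.2)]] at h
      exact_mod_cast h
    rw [h2, Nat.card_eq_fintype_card, Fintype.card_eq_sum_ones]
    refine (Finset.sum_le_sum fun l _ => ?_).trans
      ((Finset.sum_image he.injOn).symm.le.trans
        (Finset.sum_le_sum_of_subset (Finset.subset_univ (Finset.univ.image e))))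
    rw [h1 l, one_mul]
    exact Cfsg.Agent.Char.deg_pos (e l).2
  -- divisibility
  obtain ⟨a, ha⟩ := IsPGroup.iff_card.1 (hG.to_quotient (frattini G))
  obtain ⟨N, hN⟩ := IsPGroup.iff_card.1 hG
  have hak : 2 * k + 1 ≤ a := by rw [ha] at hgen; exact (Nat.pow_le_pow_iff_right Nat.one_lt_two).1 hgen
  have key : (2 : ℤ) ^ (k + 1) ∣ ∑ χ, F χ := by
    rw [← Finset.sum_fiberwise_of_maps_to (s := Finset.univ)
      (t := Finset.univ.image fun χ : IrrCharacter G => MulAction.orbit (L G) χ)
      (g := fun χ => MulAction.orbit (L G) χ) (fun χ _ => Finset.mem_image_of_mem _ (Finset.mem_univ χ))]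
    refine Finset.dvd_sum fun O hO => ?_
    obtain ⟨χ, -, rfl⟩ := Finset.mem_image.1 hO
    have hval : ∀ ψ ∈ Finset.univ.filter (fun ψ => MulAction.orbit (L G) ψ = MulAction.orbit (L G) χ),
        F ψ = F χ := by
      intro ψ hψ
      obtain ⟨l, rfl⟩ := MulAction.orbit_eq_iff.1 (Finset.mem_filter.1 hψ).2
      exact hinv l χ
    rw [Finset.sum_congr rfl hval, Finset.sum_const, nsmul_eq_mul]
    have horb : (Finset.univ.filter (fun ψ => MulAction.orbit (L G) ψ = MulAction.orbit (L G) χ)).card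
        * Nat.card (MulAction.stabilizer (L G) χ) = 2 ^ a := by
      rw [← ha, ← hcard, ← (MulAction.stabilizer (L G) χ).index_mul_card, MulAction.index_stabilizer,
        Set.ncard_eq_toFinset_card']
      congr 2
      ext ψ
      simp [MulAction.orbit_eq_iff]
    obtain ⟨s, hsa, hs⟩ := (Nat.dvd_prime_pow Nat.prime_two).1 (Dvd.intro_left _ horb)
    obtain ⟨b, -, hb⟩ := (Nat.dvd_prime_pow Nat.prime_two).1
      (hN ▸ Cfsg.Agent.Char.deg_dvd_card χ.2)
    have hsb : s ≤ 2 * b := by
      have := hstab χ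
      rw [hs, hb, ← pow_mul] at this
      have := (Nat.pow_le_pow_iff_right Nat.one_lt_two).1 this
      omega
    have horb' : (Finset.univ.filter (fun ψ => MulAction.orbit (L G) ψ = MulAction.orbit (L G) χ)).card
        = 2 ^ (a - s) := by
      rw [hs, ← Nat.sub_add_cancel hsa, pow_add] at horb
      exact Nat.eq_of_mul_eq_mul_right (Nat.two_pow_pos s) horb
    rw [horb']
    push_cast
    simp only [F, hb]
    push_cast
    rw [mul_left_comm, ← pow_add]
    exact dvd_mul_of_dvd_right (pow_dvd_pow 2 (by omega)) _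
  rw [← hFsum] at key
  exact_mod_cast key

end Cfsg.Agent.S4058
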