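import Cfsg.Statements.S4059
import Cfsg.Agent.S3863

set_option autoImplicit false
open Cfsg

open scoped Pointwise commutatorElement

namespace Cfsg.Agent.S4059

/-- Let G be a finite group in which every element is conjugate to its inverse. Then: every non-identity element commuting with all elements of some Sylow 2-subgroup is an involution; the centre of G is an elementary abelian 2-group; the commutator quotient G/G' is an elementary abelian 2-group; and G is generated by its 2-elements. -/
theorem result {G : Type*} [Group G] [Finite G] (hamb : ∀ x : G, IsConj x x⁻¹) :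
    (∀ (S : Sylow 2 G) (x : G), x ∈ Subgroup.centralizer ((S : Subgroup G) : Set G) → x ≠ 1 → orderOf x = 2) ∧
    (∀ z : G, z ∈ Subgroup.center G → z ^ 2 = 1) ∧
    (∀ x : G, x ^ 2 ∈ commutator G) ∧
    Subgroup.closure {x : G | ∃ k : ℕ, orderOf x = 2 ^ k} = ⊤ := by
  refine ⟨fun S x hx hx1 => ?_, fun z hz => ?_, fun x => ?_, ?_⟩
  · have hC : (S : Subgroup G) ≤ Subgroup.centralizer ({x} : Set G) := fun s hs =>
      Subgroup.mem_centralizer_singleton_iff.2 (Subgroup.mem_centralizer_iff.1 hx s hs)
    have hoddi : Odd (Subgroup.centralizer ({x} : Set G)).index := by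
      rw [← Nat.not_even_iff_odd, even_iff_two_dvd]
      exact fun h => S.not_dvd_index (h.trans (Subgroup.index_dvd_of_le hC))
    exact orderOf_eq_prime ((S3863.result x (hamb x)).2.1 hoddi) hx1
  · obtain ⟨c, hc⟩ := isConj_iff.1 (hamb z)
    rw [Subgroup.mem_center_iff.1 hz c, mul_inv_cancel_right, eq_inv_iff_mul_eq_one] at hc
    rw [pow_two]; exact hc
  · obtain ⟨c, hc⟩ := isConj_iff.1 (hamb x)
    have h := Subgroup.commutator_mem_commutator (Subgroup.mem_top c) (Subgroup.mem_top x)
    rw [commutatorElement_def, hc] at h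
    have h2 := Subgroup.inv_mem _ h
    rw [mul_inv_rev, inv_inv] at h2
    rw [pow_two]; exact h2
  · set T := Subgroup.closure {x : G | ∃ k : ℕ, orderOf x = 2 ^ k} with hT
    have hTn : T.Normal := by
      rw [← Subgroup.normalizer_eq_top_iff, eq_top_iff]
      intro g _
      refine Solv.mem_normalizer_of_conj_smul (Subgroup.eq_of_le_of_card_ge ?_ (by rw [Solv.card_conj_smul]))
      rw [Solv.conj_smul_eq_map, hT, MonoidHom.map_closure]
      refine (Subgroup.closure_le _).2 ?_
      rintro _ ⟨y, ⟨k, hk⟩, rfl⟩
      exact Subgroup.subset_closure ⟨k, by rw [← hk]; exact MulEquiv.orderOf_eq (MulAut.conj g) y⟩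
    obtain ⟨S⟩ : Nonempty (Sylow 2 G) := inferInstance
    have hle : (S : Subgroup G) ≤ T := fun s hs => by
      obtain ⟨k, hk⟩ := IsPGroup.iff_orderOf.1 S.isPGroup' ⟨s, hs⟩
      rw [Subgroup.orderOf_mk] at hk
      exact Subgroup.subset_closure ⟨k, hk⟩
    have hoddi : Odd T.index := by
      rw [← Nat.not_even_iff_odd, even_iff_two_dvd]
      exact fun h => S.not_dvd_index (h.trans (Subgroup.index_dvd_of_le hle))
    exact eq_top_iff.2 fun x _ => ((S3863.result x (hamb x)).2.2 T hoddi).1

end Cfsg.Agent.S4059
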