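import Cfsg.Statements.S4060
import Cfsg.Agent.S3863
import Cfsg.Agent.Lib.Solv.Basic

set_option autoImplicit false
open Cfsg

open scoped Pointwise commutatorElement

universe u

namespace Cfsg.Agent.S4060

theorem aux : ∀ (n : ℕ) {G : Type u} [Group G] [Finite G] [Group.IsSolvable G], Nat.card G = n →
    ∀ (S : Sylow 2 G) (x : G), x ≠ 1 → Odd (orderOf x) →
      x ∈ Subgroup.normalizer ((S : Subgroup G) : Set G) → ¬ IsConj x x⁻¹ := by
  intro n
  induction n using Nat.strong_induction_on with
  | _ n ih =>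
    intro G _ _ _ hn S x hx hodd hnorm hconj
    have : Nontrivial G := ⟨⟨x, 1, hx⟩⟩
    obtain ⟨N, hNn, hN, hmin⟩ := Solv.exists_minimal_normal (G := G)
    by_cases hxN : x ∈ N
    · obtain ⟨-, q, hq, hel, -⟩ := Solv.minimal_normal_elementaryAbelian N inferInstance hN hmin
      have hq2 : q ≠ 2 := by
        rintro rfl
        exact hx (orderOf_eq_one_iff.1 (Nat.eq_one_of_dvd_coprimes hodd.coprime_two_left
          (orderOf_dvd_of_pow_eq_one (hel x hxN)) dvd_rfl))
      have hcap : ∀ z, z ∈ N → z ∈ (S : Subgroup G) → z = 1 := by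
        intro z hzN hzS
        obtain ⟨k, hk⟩ := IsPGroup.iff_orderOf.1 S.isPGroup' ⟨z, hzS⟩
        rw [Subgroup.orderOf_mk] at hk
        rw [← orderOf_eq_one_iff]
        refine Nat.eq_one_of_dvd_coprimes ?_ (orderOf_dvd_of_pow_eq_one (hel z hzN)) dvd_rfl
        rw [hk]
        exact ((Nat.coprime_primes hq Nat.prime_two).2 hq2).pow_right k
      have hC : (S : Subgroup G) ≤ Subgroup.centralizer ({x} : Set G) := by
        intro s hs
        refine Subgroup.mem_centralizer_singleton_iff.2 ?_
        have h1 : x * s * x⁻¹ * s⁻¹ = 1 := by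
          refine hcap _ ?_ ((S : Subgroup G).mul_mem ((Subgroup.mem_normalizer_iff.1 hnorm s).1 hs) (inv_mem hs))
          rw [show x * s * x⁻¹ * s⁻¹ = x * (s * x⁻¹ * s⁻¹) by group]
          exact N.mul_mem hxN (hNn.conj_mem _ (N.inv_mem hxN) s)
        rw [mul_inv_eq_one, mul_inv_eq_iff_eq_mul] at h1
        exact h1.symm
      have hoddi : Odd (Subgroup.centralizer ({x} : Set G)).index := by
        rw [← Nat.not_even_iff_odd, even_iff_two_dvd]
        exact fun h => S.not_dvd_index (h.trans (Subgroup.index_dvd_of_le hC))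
      have h2 := (S3863.result x hconj).2.1 hoddi
      exact hx (orderOf_eq_one_iff.1 (Nat.eq_one_of_dvd_coprimes hodd.coprime_two_left
        (orderOf_dvd_of_pow_eq_one h2) dvd_rfl))
    · set f := QuotientGroup.mk' N
      have hf := QuotientGroup.mk'_surjective N
      refine ih _ (hn ▸ Solv.card_quotient_lt N hN) rfl (S.mapSurjective hf) (f x) ?_ ?_ ?_ ?_
      · exact fun h => hxN ((QuotientGroup.eq_one_iff x).1 h)
      · exact hodd.of_dvd_nat (orderOf_map_dvd f x)
      · rw [Sylow.coe_mapSurjective]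
        exact Subgroup.le_normalizer_map f ⟨x, hnorm, rfl⟩
      · obtain ⟨c, hc⟩ := isConj_iff.1 hconj
        exact isConj_iff.2 ⟨f c, by rw [← map_inv, ← map_mul, ← map_mul, hc, map_inv]⟩

/-- Let G be a finite solvable group with Sylow 2-subgroup S, and let x ≠ 1 be an element of odd order normalizing S. Then x is not conjugate to its inverse in G. -/
theorem result {G : Type*} [Group G] [Finite G] [Group.IsSolvable G]
    (S : Sylow 2 G) (x : G) (hx : x ≠ 1) (hodd : Odd (orderOf x))
    (hnorm : x ∈ Subgroup.normalizer ((S : Subgroup G) : Set G)) : ¬ IsConj x x⁻¹ := by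
  exact aux _ rfl S x hx hodd hnorm

end Cfsg.Agent.S4060
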