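import Cfsg.Statements.S4061
import Cfsg.Agent.Lib.Solv.Cores
import Cfsg.Agent.Lib.Solv.UniqueSub
import Cfsg.Agent.Lib.Fusion.NPC
import Cfsg.Agent.Lib.Fusion.Cores

set_option autoImplicit false
set_option linter.style.haveILetI false
open Cfsg

open scoped Pointwise commutatorElement

namespace Cfsg.Agent.S4061


/-- In a transitive solvable action on the involutions of a normal elementary abelian `2`-subgroup
of order at least `4`, some element of odd prime order has no fixed point. -/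
theorem exists_odd_fpf {G : Type*} [Group G] [Finite G] [Group.IsSolvable G] (Z : Subgroup G)
    [Z.Normal] [IsMulCommutative ↥Z] (hexp : ∀ z ∈ Z, z ^ 2 = 1)
    (htr : ∀ u ∈ Z, ∀ v ∈ Z, u ≠ 1 → v ≠ 1 → IsConj u v) (u₀ v₀ : G) (hu₀ : u₀ ∈ Z) (hv₀ : v₀ ∈ Z)
    (hu₁ : u₀ ≠ 1) (hv₁ : v₀ ≠ 1) (huv : u₀ ≠ v₀) :
    ∃ x : G, Odd (orderOf x) ∧ x ≠ 1 ∧ Z ⊓ Subgroup.centralizer {x} = ⊥ := by
  classical
  set C := Subgroup.centralizer (Z : Set G) with hC
  haveI hCn : C.Normal := by rw [hC]; infer_instance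
  haveI : Nontrivial (G ⧸ C) := by
    obtain ⟨g, hg⟩ := isConj_iff.1 (htr u₀ hu₀ v₀ hv₀ hu₁ hv₁)
    refine ⟨⟨(g : G ⧸ C), 1, fun h => huv ?_⟩⟩
    rw [QuotientGroup.eq_one_iff, hC, Subgroup.mem_centralizer_iff] at h
    rw [← hg, ← h u₀ hu₀, mul_inv_cancel_right]
  obtain ⟨N, hN, hNne, hNmin⟩ := Solv.exists_minimal_normal (G := G ⧸ C)
  haveI := hN
  haveI : Group.IsSolvable (G ⧸ C) := Group.isSolvable_of_surjective (QuotientGroup.mk'_surjective C)
  obtain ⟨hNab, r, hr, -, hNp⟩ := Solv.minimal_normal_elementaryAbelian N inferInstance hNne hNmin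
  haveI := Fact.mk hr
  -- conjugation by `G` on `Z`, through `G ⧸ C`
  let φ : G ⧸ C →* MulAut ↥Z := QuotientGroup.lift C (MulAut.conjNormal (H := Z)) (by
    intro c hc
    rw [MonoidHom.mem_ker]
    ext z
    rw [MulAut.conjNormal_apply, MulAut.one_apply, ← (Subgroup.mem_centralizer_iff.1 hc z z.2),
      mul_inv_cancel_right])
  have hφinj : ∀ n : G ⧸ C, (∀ z : ↥Z, φ n z = z) → n = 1 := by
    intro n h
    obtain ⟨g, rfl⟩ := QuotientGroup.mk_surjective n
    rw [QuotientGroup.eq_one_iff, hC, Subgroup.mem_centralizer_iff]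
    intro z hz
    have h1 := congrArg Subtype.val (h ⟨z, hz⟩)
    have h2 : g * z * g⁻¹ = z := by simpa [φ, MulAut.conjNormal_apply] using h1
    exact (mul_inv_eq_iff_eq_mul.1 h2).symm
  letI : MulAction ↥N ↥Z := MulAction.compHom ↥Z (φ.comp N.subtype)
  have hsmul : ∀ (n : ↥N) (z : ↥Z), n • z = φ (n : G ⧸ C) z := fun n z => rfl
  have htr' : ∀ v w : ↥Z, v ≠ 1 → w ≠ 1 → ∃ h : G ⧸ C, φ h v = w := by
    intro v w hv hw
    obtain ⟨g, hg⟩ := isConj_iff.1 (htr v v.2 w w.2 (fun e => hv (Subtype.ext e)) (fun e => hw (Subtype.ext e)))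
    exact ⟨(g : G ⧸ C), Subtype.ext (by simpa [φ, MulAut.conjNormal_apply] using hg)⟩
  -- stabilisers in `N` of nontrivial vectors are conjugate
  let K : ↥Z → Subgroup ↥N := fun v => MulAction.stabilizer ↥N v
  have hKmem : ∀ v n, n ∈ K v ↔ φ (n : G ⧸ C) v = v := fun v n => Iff.rfl
  have hKcard : ∀ v w : ↥Z, v ≠ 1 → w ≠ 1 → Nat.card (K w) ≤ Nat.card (K v) := by
    intro v w hv hw
    obtain ⟨h, hh⟩ := htr' v w hv hw
    refine Nat.card_le_card_of_injective (fun n => (⟨⟨h⁻¹ * ((n : ↥N) : G ⧸ C) * h, ?_⟩, ?_⟩ : ↥(K v))) ?_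
    · have := hN.conj_mem _ (n : ↥N).2 h⁻¹
      rwa [inv_inv] at this
    · rw [hKmem]
      show φ (h⁻¹ * ((n : ↥N) : G ⧸ C) * h) v = v
      rw [map_mul, map_mul, MulAut.mul_apply, MulAut.mul_apply, hh, (hKmem w n).1 n.2, map_inv,
        ← hh, MulAut.inv_apply_self]
    · intro a b hab
      have h1 := congrArg (fun t : ↥(K v) => ((t : ↥N) : G ⧸ C)) hab
      simp only [mul_left_inj, mul_right_inj] at h1
      exact Subtype.ext (Subtype.ext h1)
  have hKle : ∀ v w : ↥Z, v ≠ 1 → w ≠ 1 → K w ≤ K v → K v ≤ K w := fun v w hv hw h =>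
    (Subgroup.eq_of_le_of_card_ge h (hKcard w v hw hv)).ge
  have hKmul : ∀ v w : ↥Z, K v ⊓ K w ≤ K (v * w) := fun v w n hn => by
    rw [hKmem, map_mul, (hKmem v n).1 hn.1, (hKmem w n).1 hn.2]
  have hKinv : ∀ (n : ↥N) (v : ↥Z), K v ≤ K (φ (n : G ⧸ C) v) := fun n v m hm => by
    have hc : (m : G ⧸ C) * (n : G ⧸ C) = (n : G ⧸ C) * (m : G ⧸ C) := hNab.is_comm.comm m n |> congrArg Subtype.val
    rw [hKmem, ← MulAut.mul_apply, ← map_mul, hc, map_mul, MulAut.mul_apply, (hKmem v m).1 hm]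
  have hsq : ∀ v : ↥Z, v * v = 1 := fun v => Subtype.ext (by
    have := hexp v v.2
    rwa [pow_two] at this)
  have hconst : ∀ v w : ↥Z, v ≠ 1 → w ≠ 1 → K v ≤ K w := by
    intro v w hv hw n hn
    by_contra hnw
    have hvw : v * w ≠ 1 := by
      intro e
      apply hnw
      have : w = v := by
        calc w = v * v * w := by rw [hsq, one_mul]
          _ = v := by rw [mul_assoc, e, mul_one]
      rw [this]; exact hn
    set x := v * w with hx
    have hnx : φ (n : G ⧸ C) x ≠ x := by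
      intro e
      apply hnw
      rw [hKmem]
      rw [hx, map_mul, (hKmem v n).1 hn] at e
      exact mul_left_cancel e
    set y := φ (n : G ⧸ C) x * x with hy
    have hy1 : y ≠ 1 := fun e => hnx (by
      calc φ (n : G ⧸ C) x = φ (n : G ⧸ C) x * (x * x) := by rw [hsq, mul_one]
        _ = x := by rw [← mul_assoc, ← hy, e, one_mul])
    have hyw : y = φ (n : G ⧸ C) w * w := by
      rw [hy, hx, map_mul, (hKmem v n).1 hn]
      calc v * φ (n : G ⧸ C) w * (v * w) = (v * v) * (φ (n : G ⧸ C) w * w) := by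
            rw [mul_assoc v, ← mul_assoc (φ (n : G ⧸ C) w), mul_comm' (φ (n : G ⧸ C) w) v,
              mul_assoc v (φ (n : G ⧸ C) w), ← mul_assoc v v]
        _ = _ := by rw [hsq, one_mul]
    have h1 : K x ≤ K y := fun m hm => hKmul _ _ ⟨hKinv n x hm, hm⟩
    have h2 : K w ≤ K y := fun m hm => by rw [hyw]; exact hKmul _ _ ⟨hKinv n w hm, hm⟩
    have hxw : K x ≤ K w := h1.trans (hKle y w hy1 hw h2)
    have hwv : K w ≤ K v := by
      refine (hKle w x hw hvw hxw).trans ?_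
      intro m hm
      have hm' : m ∈ K w := hxw hm
      have h3 := hKmul x w ⟨hm, hm'⟩
      rwa [hx, mul_assoc, hsq, mul_one] at h3
    exact hnw (hKle v w hv hw hwv hn)
  have hfpf : ∀ (v : ↥Z), v ≠ 1 → K v = ⊥ := by
    intro v hv
    rw [Subgroup.eq_bot_iff_forall]
    intro n hn
    refine Subtype.ext (hφinj _ (fun w => ?_))
    by_cases hw : w = 1
    · rw [hw, map_one]
    · exact hconst v w hv hw hn
  have hr2 : r ≠ 2 := by
    rintro rfl
    -- a `2`-group has a nontrivial fixed point on `Z`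
    haveI := Fintype.ofFinite ↥Z
    have h2 : 2 ∣ Nat.card ↥Z := by
      refine dvd_trans ?_ (orderOf_dvd_natCard (⟨u₀, hu₀⟩ : ↥Z))
      rw [orderOf_eq_prime (show (⟨u₀, hu₀⟩ : ↥Z) ^ 2 = 1 from Subtype.ext (hexp u₀ hu₀))
        (fun e => hu₁ (congrArg Subtype.val e))]
    have hfix1 : (1 : ↥Z) ∈ MulAction.fixedPoints ↥N ↥Z := fun n => by rw [hsmul, map_one]
    obtain ⟨b, hb, hb1⟩ := hNp.exists_fixed_point_of_prime_dvd_card_of_fixed_point (α := ↥Z) h2 hfix1
    have : K b = ⊤ := by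
      rw [Subgroup.eq_top_iff']
      exact fun n => hb n
    rw [hfpf b hb1.symm] at this
    exact hNne ((Subgroup.eq_bot_iff_forall N).2 fun n hn => by
      have h := (this ▸ Subgroup.mem_top (⟨n, hn⟩ : ↥N) : (⟨n, hn⟩ : ↥N) ∈ (⊥ : Subgroup ↥N))
      exact congrArg Subtype.val (Subgroup.mem_bot.1 h))
  obtain ⟨⟨n, hn⟩, hn1⟩ := Subgroup.ne_bot_iff_exists_ne_one.1 hNne
  obtain ⟨g, rfl⟩ := QuotientGroup.mk_surjective n
  -- the odd part of a lift
  obtain ⟨a, b, hb, hab⟩ := Nat.exists_eq_two_pow_mul_odd (orderOf_pos g).ne'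
  refine ⟨g ^ 2 ^ a, ?_, ?_, ?_⟩
  · rw [orderOf_pow_of_dvd (pow_ne_zero _ two_ne_zero) (hab ▸ dvd_mul_right _ _), hab,
      Nat.mul_div_cancel_left _ (pow_pos two_pos _)]
    exact hb
  all_goals
    have hne : (⟨(g : G ⧸ C), hn⟩ : ↥N) ^ 2 ^ a ≠ 1 := by
      intro e
      have hd : orderOf (⟨(g : G ⧸ C), hn⟩ : ↥N) ∣ 2 ^ a := orderOf_dvd_of_pow_eq_one e
      obtain ⟨k, hk⟩ := IsPGroup.iff_orderOf.1 hNp (⟨(g : G ⧸ C), hn⟩ : ↥N)
      have hcop : Nat.Coprime (r ^ k) (2 ^ a) :=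
        ((Nat.coprime_primes hr Nat.prime_two).2 hr2).pow k a
      rw [hk] at hd
      exact hn1 (orderOf_eq_one_iff.1 (hk.trans (Nat.Coprime.eq_one_of_dvd hcop hd)))
  · intro e
    apply hne
    refine Subtype.ext ?_
    show (g : G ⧸ C) ^ 2 ^ a = 1
    rw [← QuotientGroup.mk_pow, e, QuotientGroup.mk_one]
  · rw [Subgroup.eq_bot_iff_forall]
    rintro z ⟨hz, hzx⟩
    by_contra hz1
    refine hne ?_
    have h1 : (⟨(g : G ⧸ C), hn⟩ : ↥N) ^ 2 ^ a ∈ K ⟨z, hz⟩ := by
      rw [hKmem]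
      refine Subtype.ext ?_
      have hcm := Subgroup.mem_centralizer_singleton_iff.1 hzx
      show ((φ ((g : G ⧸ C) ^ 2 ^ a) ⟨z, hz⟩ : ↥Z) : G) = z
      rw [← QuotientGroup.mk_pow]
      show (g ^ 2 ^ a) * z * (g ^ 2 ^ a)⁻¹ = z
      rw [← hcm, mul_inv_cancel_right]
    rw [hfpf _ (fun e => hz1 (congrArg Subtype.val e)), Subgroup.mem_bot] at h1
    exact h1

/-- A solvable ambivalent group with trivial odd core and one class of involutions has a unique
involution. -/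
theorem unique_involution {G : Type*} [Group G] [Finite G] [Group.IsSolvable G]
    (hO : Cfsg.oddCore G = ⊥) (hamb : ∀ x : G, IsConj x x⁻¹)
    (hone : ∀ s t : G, orderOf s = 2 → orderOf t = 2 → IsConj s t)
    (s t : G) (hs : orderOf s = 2) (ht : orderOf t = 2) : s = t := by
  classical
  by_contra hst
  haveI : Nontrivial G := ⟨⟨s, t, hst⟩⟩
  obtain ⟨V, hV, hVne, hVmin⟩ := Solv.exists_minimal_normal (G := G)
  haveI := hV
  obtain ⟨hVab, r, hr, hVel, hVp⟩ := Solv.minimal_normal_elementaryAbelian V inferInstance hVne hVmin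
  haveI := Fact.mk hr
  have hr2 : r = 2 := by
    by_contra hr2
    obtain ⟨k, hk⟩ := IsPGroup.iff_card.1 hVp
    apply hVne
    rw [eq_bot_iff, ← hO]
    exact Solv.normal_le_pPrimeCore (hk ▸ ((Nat.coprime_primes hr Nat.prime_two).2 hr2).pow_left k)
  subst hr2
  haveI := hVab
  have hexp : ∀ z ∈ V, z ^ 2 = 1 := hVel
  have hord : ∀ z ∈ V, z ≠ 1 → orderOf z = 2 := fun z hz h1 => orderOf_eq_prime (hexp z hz) h1
  obtain ⟨⟨v, hv⟩, hv1⟩ := Subgroup.ne_bot_iff_exists_ne_one.1 hVne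
  have hv1' : v ≠ 1 := fun e => hv1 (Subtype.ext e)
  have hall : ∀ u : G, orderOf u = 2 → u ∈ V := by
    intro u hu
    obtain ⟨g, hg⟩ := isConj_iff.1 (hone v u (hord v hv hv1') hu)
    exact hg ▸ hV.conj_mem v hv g
  have hs1 : s ≠ 1 := fun e => by rw [e, orderOf_one] at hs; omega
  have ht1 : t ≠ 1 := fun e => by rw [e, orderOf_one] at ht; omega
  obtain ⟨x, hxodd, hx1, hxfix⟩ := exists_odd_fpf V hexp
    (fun u hu w hw hu1 hw1 => hone u w (hord u hu hu1) (hord w hw hw1)) s t (hall s hs) (hall t ht) hs1 ht1 hst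
  obtain ⟨g, hg⟩ := isConj_iff.1 (hamb x)
  -- replace `g` by its 2-part
  obtain ⟨a, b, hb, hab⟩ := Nat.exists_eq_two_pow_mul_odd (orderOf_pos g).ne'
  set h := g ^ b with hh
  have hpow : ∀ j : ℕ, g ^ j * x * (g ^ j)⁻¹ = if Even j then x else x⁻¹ := by
    intro j
    induction j with
    | zero => simp
    | succ j ih =>
      rw [pow_succ', show g * g ^ j * x * (g * g ^ j)⁻¹ = g * (g ^ j * x * (g ^ j)⁻¹) * g⁻¹ by group, ih]
      by_cases hj : Even j
      · rw [if_pos hj, if_neg (by simp [parity_simps, hj]), hg]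
      · rw [if_neg hj, if_pos (by simp [parity_simps, hj]), ← conj_inv, hg, inv_inv]
  have hhx : h * x * h⁻¹ = x⁻¹ := by rw [hh, hpow, if_neg (Nat.not_even_iff_odd.2 hb)]
  have hho : orderOf h = 2 ^ a := by
    rw [hh, orderOf_pow_of_dvd (Nat.pos_of_ne_zero (fun e => by rw [e] at hb; simp at hb)).ne'
      (hab ▸ dvd_mul_left _ _), hab, Nat.mul_div_cancel _ (Nat.pos_of_ne_zero (fun e => by rw [e] at hb; simp at hb))]
  have hxsq : x ^ 2 ≠ 1 := fun e => hx1 (orderOf_eq_one_iff.1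
    (Nat.Coprime.eq_one_of_dvd (Nat.coprime_two_right.2 hxodd) (orderOf_dvd_of_pow_eq_one e)))
  rcases Nat.lt_or_ge a 2 with ha | ha
  · -- an involution inverting `x` lies in `V`
    have hne : h ≠ 1 := fun e => hxsq (by
      rw [e, one_mul, inv_one, mul_one] at hhx
      rw [pow_two]; nth_rewrite 2 [hhx]; exact mul_inv_cancel x)
    have ha1 : a = 1 := by
      by_contra ha0
      rw [show a = 0 by omega, pow_zero, orderOf_eq_one_iff] at hho
      exact hne hho
    rw [ha1, pow_one] at hho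
    have hhV := hall h hho
    have h2 : x * h * x⁻¹ * h⁻¹ ∈ V := V.mul_mem (hV.conj_mem h hhV x) (V.inv_mem hhV)
    have h3 : x * h * x⁻¹ * h⁻¹ = x ^ 2 := by
      rw [show x * h * x⁻¹ * h⁻¹ = x * (h * x * h⁻¹)⁻¹ by group, hhx, inv_inv, pow_two]
    rw [h3] at h2
    have h4 : orderOf (x ^ 2) ∣ 2 := orderOf_dvd_of_pow_eq_one (hexp _ h2)
    exact hxsq (orderOf_eq_one_iff.1 (Nat.Coprime.eq_one_of_dvd (Nat.coprime_two_right.2
      (hxodd.of_dvd_nat (orderOf_pow_dvd 2))) h4))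
  · set z := h ^ 2 ^ (a - 1) with hz
    have hzo : orderOf z = 2 := by
      rw [hz, orderOf_pow_of_dvd (pow_ne_zero _ two_ne_zero) (hho ▸ pow_dvd_pow 2 (by omega)), hho,
        Nat.pow_div (by omega) two_pos, show a - (a - 1) = 1 by omega, pow_one]
    have hc : h ^ 2 * x = x * h ^ 2 := by
      rw [← mul_inv_eq_iff_eq_mul, pow_two]
      rw [show h * h * x * (h * h)⁻¹ = h * (h * x * h⁻¹) * h⁻¹ by group, hhx, ← conj_inv, hhx, inv_inv]
    have hzx : Commute z x := by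
      rw [hz, show 2 ^ (a - 1) = 2 * 2 ^ (a - 2) by rw [← pow_succ']; congr 1; omega, pow_mul]
      exact (show Commute (h ^ 2) x from hc).pow_left _
    have hmem : z ∈ V ⊓ Subgroup.centralizer {x} := ⟨hall z hzo, Subgroup.mem_centralizer_singleton_iff.2 hzx.eq⟩
    rw [hxfix, Subgroup.mem_bot] at hmem
    rw [hmem, orderOf_one] at hzo
    omega

/-- A cyclic Sylow `2`-subgroup of an ambivalent group of even order has order `2`. -/
theorem cyclic_case {G : Type*} [Group G] [Finite G] (hamb : ∀ x : G, IsConj x x⁻¹)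
    (heven : 2 ∣ Nat.card G) (S : Sylow 2 G) (hc : IsCyclic ↥(S : Subgroup G)) : Nat.card S = 2 := by
  have hmin : (Nat.card G).minFac = 2 := (Nat.minFac_eq_two_iff _).2 heven
  have hKS := IsCyclic.isComplement' hmin hc
  set K := (MonoidHom.transferSylow S (hc.normalizer_le_centralizer hmin)).ker
  haveI := hc
  haveI : IsCyclic (G ⧸ K) := isCyclic_of_surjective ((QuotientGroup.mk' K).comp (S : Subgroup G).subtype) (by
    intro q
    obtain ⟨g, rfl⟩ := QuotientGroup.mk_surjective q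
    obtain ⟨⟨k, s⟩, hks⟩ := (hKS : Subgroup.IsComplement _ _).surjective g
    refine ⟨s, ?_⟩
    have h1 := congrArg (QuotientGroup.mk' K) hks
    simp only [map_mul] at h1
    rw [show QuotientGroup.mk' K (k : G) = 1 from (QuotientGroup.eq_one_iff _).2 k.2, one_mul] at h1
    exact h1)
  letI := IsCyclic.commGroup (α := G ⧸ K)
  obtain ⟨q, hq⟩ := IsCyclic.exists_generator (α := G ⧸ K)
  obtain ⟨g, rfl⟩ := QuotientGroup.mk_surjective q
  have h1 : (g : G ⧸ K) = (g : G ⧸ K)⁻¹ := isConj_iff_eq.1 ((QuotientGroup.mk' K).map_isConj (hamb g))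
  have h2 : orderOf (g : G ⧸ K) ∣ 2 := orderOf_dvd_of_pow_eq_one (by
    rw [pow_two]; nth_rewrite 2 [h1]; exact mul_inv_cancel _)
  rw [orderOf_eq_card_of_forall_mem_zpowers hq, ← Subgroup.index_eq_card, hKS.symm.index_eq_card] at h2
  have h3 : 2 ∣ Nat.card ↥(S : Subgroup G) := S.dvd_card_of_dvd_card heven
  exact Nat.dvd_antisymm h2 h3

/-- Let G be a finite solvable group of even order in which every element is conjugate to its inverse and all involutions are conjugate. Then a Sylow 2-subgroup S of G has order 2 or is a generalized quaternion group (of order at least 8). Moreover, if S has order 2, then G is the semidirect product of its largest normal subgroup of odd order O(G) by S, O(G) equals the derived subgroup of G, and the involution of S inverts every element of O(G). -/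
theorem result {G : Type*} [Group G] [Finite G] [Group.IsSolvable G]
    (hamb : ∀ x : G, IsConj x x⁻¹) (heven : 2 ∣ Nat.card G) (hone : ∀ s t : G, orderOf s = 2 → orderOf t = 2 → IsConj s t) (S : Sylow 2 G) :
    (Nat.card S = 2 ∨ ∃ n : ℕ, Nonempty ((S : Subgroup G) ≃* QuaternionGroup (2 ^ (n + 1)))) ∧
    (Nat.card S = 2 → (S : Subgroup G).IsComplement' (Cfsg.oddCore G) ∧ Cfsg.oddCore G = commutator G ∧
        ∀ t : G, t ∈ S → t ≠ 1 → ∀ x : G, x ∈ Cfsg.oddCore G → t * x * t⁻¹ = x⁻¹) := by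
  classical
  set O := Cfsg.oddCore G with hOdef
  haveI : O.Normal := Solv.pPrimeCore_normal 2
  have hOodd : Odd (Nat.card ↥O) := Nat.coprime_two_right.mp (Solv.pPrimeCore_coprime 2)
  have hlift : ∀ q : G ⧸ O, orderOf q = 2 → ∃ g : G, orderOf g = 2 ∧ (g : G ⧸ O) = q := by
    intro q hq
    obtain ⟨g, rfl⟩ := QuotientGroup.mk_surjective q
    refine ⟨g ^ Nat.card ↥O, ?_, ?_⟩
    · have h2 : (g ^ 2 : G) ∈ O := by
        rw [← QuotientGroup.eq_one_iff, QuotientGroup.mk_pow, ← hq, pow_orderOf_eq_one]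
      refine orderOf_eq_prime ?_ ?_
      · have h3 : (⟨g ^ 2, h2⟩ : ↥O) ^ Nat.card ↥O = 1 := pow_card_eq_one'
        rw [← pow_mul, mul_comm, pow_mul]
        exact congrArg Subtype.val h3
      · intro e
        have h4 : orderOf (g : G ⧸ O) ∣ Nat.card ↥O := orderOf_dvd_of_pow_eq_one (by
          rw [← QuotientGroup.mk_pow, e, QuotientGroup.mk_one])
        rw [hq] at h4
        exact Nat.not_even_iff_odd.2 hOodd (even_iff_two_dvd.2 h4)
    · obtain ⟨k, hk⟩ := hOodd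
      rw [QuotientGroup.mk_pow, hk, pow_succ, pow_mul, ← hq, pow_orderOf_eq_one, one_pow, one_mul]
  have hambQ : ∀ x : G ⧸ O, IsConj x x⁻¹ := by
    intro x
    obtain ⟨g, rfl⟩ := QuotientGroup.mk_surjective x
    exact (QuotientGroup.mk' O).map_isConj (hamb g)
  have hQ : ∀ s t : G ⧸ O, orderOf s = 2 → orderOf t = 2 → s = t := by
    haveI : Group.IsSolvable (G ⧸ O) := Group.isSolvable_of_surjective (QuotientGroup.mk'_surjective O)
    refine unique_involution (Fusion.pPrimeCore_quotient_eq_bot (p := 2) (G := G)) hambQ ?_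
    intro s t hs ht
    obtain ⟨g, hg, rfl⟩ := hlift s hs
    obtain ⟨g', hg', rfl⟩ := hlift t ht
    exact (QuotientGroup.mk' O).map_isConj (hone g g' hg hg')
  have hSO : ∀ x ∈ (S : Subgroup G), x ∈ O → x = 1 := by
    intro x hx hxO
    obtain ⟨k, hk⟩ := IsPGroup.iff_orderOf.1 S.2 ⟨x, hx⟩
    rw [Subgroup.orderOf_mk] at hk
    refine orderOf_eq_one_iff.1 (Nat.Coprime.eq_one_of_dvd ?_ ((Subgroup.orderOf_mk x hxO) ▸ orderOf_dvd_natCard (⟨x, hxO⟩ : ↥O)))
    rw [hk]
    exact (Nat.coprime_two_left.2 hOodd).pow_left k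
  have hSu : Solv.UniqueOrderP 2 ↥(S : Subgroup G) := by
    intro x y hx hy hy1
    by_cases hx1 : x = 1
    · rw [hx1]; exact Subgroup.one_mem _
    have hx' : (x : G) ^ 2 = 1 := by simpa using congrArg Subtype.val hx
    have hy' : (y : G) ^ 2 = 1 := by simpa using congrArg Subtype.val hy
    have hne : ∀ z : ↥(S : Subgroup G), z ≠ 1 → ((z : G) : G ⧸ O) ≠ 1 := fun z hz e =>
      hz (Subtype.ext (hSO z z.2 ((QuotientGroup.eq_one_iff _).1 e)))
    have h2 : ((x : G) : G ⧸ O) = ((y : G) : G ⧸ O) :=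
      hQ _ _ (orderOf_eq_prime (by rw [← QuotientGroup.mk_pow, hx', QuotientGroup.mk_one]) (hne x hx1))
        (orderOf_eq_prime (by rw [← QuotientGroup.mk_pow, hy', QuotientGroup.mk_one]) (hne y hy1))
    have h3 : (x⁻¹ * y : ↥(S : Subgroup G)) = 1 := Subtype.ext (hSO _ (x⁻¹ * y).2 (by
      push_cast
      exact (QuotientGroup.eq).1 h2))
    rw [inv_mul_eq_one] at h3
    rw [h3]; exact Subgroup.mem_zpowers y
  have h2S : 2 ∣ Nat.card ↥(S : Subgroup G) := S.dvd_card_of_dvd_card heven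
  have hfirst : Nat.card S = 2 ∨ ∃ n : ℕ, Nonempty ((S : Subgroup G) ≃* QuaternionGroup (2 ^ (n + 1))) := by
    rcases Solv.cyclic_or_quaternion S.2 hSu with hcyc | ⟨-, n, ⟨e⟩⟩
    swap
    · rcases n with - | n
      swap
      · exact Or.inr ⟨n, ⟨e⟩⟩
      haveI : IsCyclic (QuaternionGroup (2 ^ 0)) := by
        rw [pow_zero]; exact QuaternionGroup.quaternionGroup_one_isCyclic
      exact Or.inl (cyclic_case hamb heven S (e.isCyclic.2 ‹_›))
    exact Or.inl (cyclic_case hamb heven S hcyc)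
  refine ⟨hfirst, fun hS2 => ?_⟩
  haveI hScyc : IsCyclic ↥(S : Subgroup G) := isCyclic_of_prime_card (p := 2) hS2
  have hmin : (Nat.card G).minFac = 2 := (Nat.minFac_eq_two_iff _).2 heven
  set K := (MonoidHom.transferSylow S (hScyc.normalizer_le_centralizer hmin)).ker with hK
  have hKS : Subgroup.IsComplement' K (S : Subgroup G) := IsCyclic.isComplement' hmin hScyc
  haveI hKn : K.Normal := by rw [hK]; infer_instance
  have hKcop : (Nat.card ↥K).Coprime 2 :=
    (Fusion.coprime_card_iff_not_dvd).2 (fun h => S.not_dvd_index (hKS.index_eq_card ▸ h))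
  have hKO : K = O := by
    refine le_antisymm (Solv.normal_le_pPrimeCore hKcop) ?_
    intro x hx
    have h1 : orderOf (x : G ⧸ K) ∣ Nat.gcd (Nat.card ↥O) 2 := by
      refine Nat.dvd_gcd ((orderOf_map_dvd (QuotientGroup.mk' K) x).trans ?_) ?_
      · rw [← Subgroup.orderOf_mk x hx]; exact orderOf_dvd_natCard _
      · refine (orderOf_dvd_natCard _).trans ?_
        rw [← Subgroup.index_eq_card, hKS.symm.index_eq_card, hS2]
    rw [Nat.coprime_two_right.2 hOodd] at h1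
    exact (QuotientGroup.eq_one_iff x).1 (orderOf_eq_one_iff.1 (Nat.dvd_one.1 h1))
  have hKodd : Odd (Nat.card ↥K) := Nat.coprime_two_right.1 hKcop
  have hfix : ∀ t ∈ (S : Subgroup G), t ≠ 1 → ∀ x ∈ K, t * x * t⁻¹ = x → x = 1 := by
    intro t htS ht1 x hx hxt
    obtain ⟨g, hg⟩ := isConj_iff.1 (hamb x)
    obtain ⟨⟨k, u⟩, hku⟩ := (hKS : Subgroup.IsComplement _ _).surjective g
    have hu : (u : G) * x * (u : G)⁻¹ = x := by
      by_cases hu1 : (u : G) = 1
      · rw [hu1]; group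
      have hcard : Nat.card ↥(Subgroup.zpowers (⟨t, htS⟩ : ↥(S : Subgroup G))) = 2 := by
        rw [Nat.card_zpowers]
        refine orderOf_eq_prime ?_ (fun e => ht1 (congrArg Subtype.val e))
        have h9 := pow_card_eq_one' (x := (⟨t, htS⟩ : ↥(S : Subgroup G)))
        rwa [hS2] at h9
      have htop : Subgroup.zpowers (⟨t, htS⟩ : ↥(S : Subgroup G)) = ⊤ :=
        Subgroup.eq_top_of_card_eq _ (hcard.trans hS2.symm)
      obtain ⟨j, hj⟩ := (htop ▸ Subgroup.mem_top (⟨(u : G), u.2⟩ : ↥(S : Subgroup G)))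
      have hj' : t ^ j = (u : G) := congrArg Subtype.val hj
      rw [← hj']
      have hc : Commute t x := mul_inv_eq_iff_eq_mul.1 hxt
      rw [(hc.zpow_left j).eq, mul_inv_cancel_right]
    have hkx : (k : G) * x * (k : G)⁻¹ = x⁻¹ := by
      rw [← hg, ← hku]
      show _ = (k : G) * (u : G) * x * ((k : G) * (u : G))⁻¹
      rw [show (k : G) * (u : G) * x * ((k : G) * (u : G))⁻¹ = (k : G) * ((u : G) * x * (u : G)⁻¹) * (k : G)⁻¹ by group, hu]
    have hpow : ∀ j : ℕ, (k : G) ^ j * x * ((k : G) ^ j)⁻¹ = if Even j then x else x⁻¹ := by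
      intro j
      induction j with
      | zero => simp
      | succ j ih =>
        rw [pow_succ', show (k : G) * (k : G) ^ j * x * ((k : G) * (k : G) ^ j)⁻¹ = (k : G) * ((k : G) ^ j * x * ((k : G) ^ j)⁻¹) * (k : G)⁻¹ by group, ih]
        by_cases hj : Even j
        · rw [if_pos hj, if_neg (by simp [parity_simps, hj]), hkx]
        · rw [if_neg hj, if_pos (by simp [parity_simps, hj]), ← conj_inv, hkx, inv_inv]
    have h1 := hpow (Nat.card ↥K)
    rw [if_neg (Nat.not_even_iff_odd.2 hKodd), show (k : G) ^ Nat.card ↥K = 1 by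
      exact congrArg Subtype.val (pow_card_eq_one' (x := k)), one_mul, inv_one, mul_one] at h1
    have h2 : x ^ 2 = 1 := by rw [pow_two]; nth_rewrite 2 [h1]; exact mul_inv_cancel x
    refine orderOf_eq_one_iff.1 (Nat.Coprime.eq_one_of_dvd
      (hKcop.coprime_dvd_left ((Subgroup.orderOf_mk x hx) ▸ orderOf_dvd_natCard (⟨x, hx⟩ : ↥K)))
      (orderOf_dvd_of_pow_eq_one h2))
  -- every element of `K` is `k t k⁻¹ t⁻¹`
  have hsurj : ∀ t ∈ (S : Subgroup G), t ≠ 1 → ∀ y ∈ K, ∃ k : G, k ∈ K ∧ k * t * k⁻¹ * t⁻¹ = y := by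
    intro t htS ht1
    let f : ↥K → ↥K := fun k => ⟨(k : G) * t * (k : G)⁻¹ * t⁻¹, by
      rw [show (k : G) * t * (k : G)⁻¹ * t⁻¹ = (k : G) * (t * (k : G)⁻¹ * t⁻¹) by group]
      exact K.mul_mem k.2 (hKn.conj_mem _ (K.inv_mem k.2) t)⟩
    have hf : Function.Injective f := by
      intro k k' he
      have he' : (k : G) * t * (k : G)⁻¹ * t⁻¹ = (k' : G) * t * (k' : G)⁻¹ * t⁻¹ := congrArg Subtype.val he
      rw [mul_left_inj] at he'
      refine Subtype.ext ?_
      have h5 : t * ((k' : G)⁻¹ * k) * t⁻¹ = (k' : G)⁻¹ * k := by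
        calc t * ((k' : G)⁻¹ * k) * t⁻¹ = (k' : G)⁻¹ * ((k' : G) * t * (k' : G)⁻¹) * k * t⁻¹ := by group
          _ = (k' : G)⁻¹ * ((k : G) * t * (k : G)⁻¹) * k * t⁻¹ := by rw [he']
          _ = _ := by group
      exact (inv_mul_eq_one.1 (hfix t htS ht1 _ (K.mul_mem (K.inv_mem k'.2) k.2) h5)).symm
    intro y hy
    obtain ⟨k, hk⟩ := (Finite.injective_iff_surjective.1 hf) ⟨y, hy⟩
    exact ⟨k, k.2, congrArg Subtype.val hk⟩
  rw [← hKO]
  refine ⟨hKS.symm, ?_, ?_⟩
  · obtain ⟨t, ht, ht1⟩ : ∃ t : G, t ∈ (S : Subgroup G) ∧ t ≠ 1 := by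
      haveI : Nontrivial ↥(S : Subgroup G) :=
        Finite.one_lt_card_iff_nontrivial.1 (by rw [hS2]; norm_num)
      obtain ⟨t, ht⟩ := exists_ne (1 : ↥(S : Subgroup G))
      exact ⟨t, t.2, fun e => ht (Subtype.ext e)⟩
    refine le_antisymm (fun y hy => ?_) ?_
    · obtain ⟨k, -, rfl⟩ := hsurj t ht ht1 y hy
      exact Subgroup.commutator_mem_commutator (Subgroup.mem_top k) (Subgroup.mem_top t)
    · haveI : IsCyclic (G ⧸ K) := isCyclic_of_prime_card (p := 2) (by
        rw [← Subgroup.index_eq_card, hKS.symm.index_eq_card, hS2])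
      letI := IsCyclic.commGroup (α := G ⧸ K)
      rw [commutator_def, Subgroup.commutator_le]
      intro a _ b _
      rw [← QuotientGroup.eq_one_iff]
      show QuotientGroup.mk' K ⁅a, b⁆ = 1
      rw [map_commutatorElement, commutatorElement_eq_one_iff_commute]
      exact Commute.all _ _
  · intro t ht ht1 x hx
    obtain ⟨k, -, rfl⟩ := hsurj t ht ht1 x hx
    have ht2 : t * t = 1 := by
      have := pow_card_eq_one' (x := (⟨t, ht⟩ : ↥(S : Subgroup G)))
      rw [hS2, pow_two] at this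
      exact congrArg Subtype.val this
    have hti : t⁻¹ = t := inv_eq_of_mul_eq_one_left ht2
    calc t * (k * t * k⁻¹ * t⁻¹) * t⁻¹ = t * k * t * k⁻¹ * (t * t)⁻¹ := by group
      _ = (k * t * k⁻¹ * t⁻¹)⁻¹ := by rw [ht2, mul_inv_rev, mul_inv_rev, mul_inv_rev, inv_inv, inv_inv, hti]; group

end Cfsg.Agent.S4061
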