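import Cfsg.Statements.S4062
import Cfsg.Agent.Lib.Perm.MinNormal
import Cfsg.Agent.Lib.Solv.Basic

set_option autoImplicit false
set_option linter.style.haveILetI false
open Cfsg

open scoped Pointwise commutatorElement

namespace Cfsg.Agent.S4062

theorem comm_of_central_two {G : Type*} [Group G] [Finite G] (h6 : Nat.card G = 6) {x : G}
    (hx : orderOf x = 2) (hcen : x ∈ Subgroup.center G) : ∀ a b : G, a * b = b * a := by
  have hq : Nat.card (G ⧸ Subgroup.center G) ∣ 3 := by
    have h2 : 2 ∣ Nat.card (Subgroup.center G) :=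
      hx ▸ (Subgroup.orderOf_mk x hcen ▸ orderOf_dvd_natCard _)
    obtain ⟨t, ht⟩ := h2
    have h := (Subgroup.center G).card_eq_card_quotient_mul_card_subgroup
    rw [h6, ht] at h
    exact ⟨t, by nlinarith⟩
  haveI : IsCyclic (G ⧸ Subgroup.center G) := by
    rcases (Nat.dvd_prime Nat.prime_three).1 hq with h | h
    · haveI := (Nat.card_eq_one_iff_unique.1 h).1
      exact isCyclic_of_subsingleton
    · haveI : Fact (Nat.card (G ⧸ Subgroup.center G)).Prime := ⟨h ▸ Nat.prime_three⟩
      exact isCyclic_of_prime_card (α := G ⧸ Subgroup.center G) rfl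
  exact ((QuotientGroup.mk' (Subgroup.center G)).isMulCommutative_of_isCyclic_of_ker_le_center
    (QuotientGroup.ker_mk' _).le).is_comm.comm

theorem eq_of_comm {G : Type*} [Group G] (h : ∀ x y : G, orderOf x = orderOf y → IsConj x y)
    (hc : ∀ a b : G, a * b = b * a) {x y : G} (hxy : orderOf x = orderOf y) : x = y := by
  obtain ⟨g, hg⟩ := isConj_iff.1 (h x y hxy)
  rw [← hg, hc g x, mul_inv_cancel_right]

theorem core.{u} (n : ℕ) : ∀ {G : Type u} [Group G] [Finite G], Nat.card G = n →
    Group.IsSolvable G → (∀ x y : G, orderOf x = orderOf y → IsConj x y) →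
    Nat.card G = 1 ∨ Nat.card G = 2 ∨ (Nat.card G = 6 ∧ ¬ ∀ a b : G, a * b = b * a) := by
  induction n using Nat.strong_induction_on with
  | _ n ih =>
  intro G _ _ hn hsol h
  rcases subsingleton_or_nontrivial G with hG | hG
  · exact Or.inl (Nat.card_of_subsingleton (1 : G))
  obtain ⟨V, hV⟩ := Perm.exists_isMinNormal (G := G)
  haveI := hV.1
  have hVc := hV.isMulCommutative inferInstance
  obtain ⟨p, hp, hVpow, hVp, k, hk0, hVk⟩ := hV.exists_prime hVc
  haveI := Fact.mk hp
  obtain ⟨⟨v, hvV⟩, hvo⟩ := exists_prime_orderOf_dvd_card' (G := V) p (hVk ▸ dvd_pow_self p hk0.ne')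
  rw [← Subgroup.orderOf_coe] at hvo
  change orderOf v = p at hvo
  have hv1 : v ≠ 1 := fun e => by rw [e, orderOf_one] at hvo; exact hp.one_lt.ne hvo
  have hall : ∀ w : G, orderOf w = p → w ∈ V := fun w hw => by
    obtain ⟨g, hg⟩ := isConj_iff.1 (h v w (hvo.trans hw.symm))
    exact hg ▸ hV.1.conj_mem v hvV g
  -- lifts
  have hlift : ∀ t : G ⧸ V, ∃ x : G, QuotientGroup.mk' V x = t ∧
      orderOf x = if p ∣ orderOf t then orderOf t * p else orderOf t := by
    intro t
    obtain ⟨x, rfl⟩ := QuotientGroup.mk'_surjective V t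
    obtain ⟨m, hm⟩ : ∃ m, m = orderOf (QuotientGroup.mk' V x) := ⟨_, rfl⟩
    rw [← hm]
    have hxm : x ^ m ∈ V := by
      rw [← QuotientGroup.eq_one_iff, ← QuotientGroup.mk'_apply, map_pow, hm, pow_orderOf_eq_one]
    have hm0 : 0 < m := hm ▸ orderOf_pos _
    split_ifs with hd
    · refine ⟨x, rfl, ?_⟩
      have h1 : orderOf x ∣ m * p := orderOf_dvd_of_pow_eq_one (by rw [pow_mul]; exact hVpow _ hxm)
      obtain ⟨d, hd'⟩ : m ∣ orderOf x := hm ▸ orderOf_map_dvd _ x
      rw [hd'] at h1
      rcases (Nat.dvd_prime hp).1 (Nat.dvd_of_mul_dvd_mul_left hm0 h1) with rfl | rfl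
      · exfalso
        obtain ⟨m', hm'⟩ := hd
        have hm'0 : 0 < m' := Nat.pos_of_ne_zero fun e => by rw [e, mul_zero] at hm'; omega
        have h2 : orderOf (x ^ m') = p := by
          rw [orderOf_pow' x hm'0.ne', hd', mul_one, hm', Nat.gcd_mul_left_left,
            Nat.mul_div_cancel _ hm'0]
        have h3 : m ∣ m' := hm ▸ orderOf_dvd_of_pow_eq_one (by
          rw [← map_pow, QuotientGroup.mk'_apply, QuotientGroup.eq_one_iff]; exact hall _ h2)
        have h4 := Nat.le_of_dvd hm'0 h3
        rw [hm'] at h4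
        have := hp.two_le
        nlinarith
      · exact hd'
    · obtain ⟨l, hl⟩ : ∃ l, p * l % m = 1 % m := by
        rcases Nat.lt_or_ge 1 m with h1 | h1
        · obtain ⟨l, hl⟩ := Nat.exists_mul_mod_eq_one_of_coprime ((hp.coprime_iff_not_dvd).2 hd) h1
          exact ⟨l, by rw [hl.2, Nat.mod_eq_of_lt h1]⟩
        · exact ⟨0, by rw [show m = 1 by omega, Nat.mod_one, Nat.mod_one]⟩
      have hmap : QuotientGroup.mk' V (x ^ (p * l)) = QuotientGroup.mk' V x := by
        rw [map_pow, ← pow_mod_orderOf, ← hm, hl, hm, pow_mod_orderOf, pow_one]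
      refine ⟨x ^ (p * l), hmap, Nat.dvd_antisymm (orderOf_dvd_of_pow_eq_one ?_) ?_⟩
      · rw [← pow_mul, mul_comm, pow_mul, pow_mul, hVpow _ hxm, one_pow]
      · calc m = orderOf (QuotientGroup.mk' V (x ^ (p * l))) := by rw [hmap, hm]
          _ ∣ _ := orderOf_map_dvd _ _
  have hq : ∀ s t : G ⧸ V, orderOf s = orderOf t → IsConj s t := fun s t hst => by
    obtain ⟨x, hx, hxo⟩ := hlift s
    obtain ⟨y, hy, hyo⟩ := hlift t
    rw [hst, ← hyo] at hxo
    rw [← hx, ← hy]
    exact (QuotientGroup.mk' V).map_isConj (h x y hxo)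
  have hVne : V ≠ ⊥ := hV.2.1
  have hlt : Nat.card (G ⧸ V) < n := hn ▸ Solv.card_quotient_lt V hVne
  haveI : Group.IsSolvable G := hsol
  have hsq : Group.IsSolvable (G ⧸ V) := Group.isSolvable_of_surjective (QuotientGroup.mk'_surjective V)
  have hcard : Nat.card G = Nat.card (G ⧸ V) * Nat.card V := V.card_eq_card_quotient_mul_card_subgroup
  -- the class of `v` is `V` without the identity
  obtain ⟨C, hC⟩ : ∃ C, C = Subgroup.centralizer ({v} : Set G) := ⟨_, rfl⟩
  have hVC : V ≤ C := hC ▸ fun w hw => Subgroup.mem_centralizer_singleton_iff.2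
    (congrArg Subtype.val (hVc.is_comm.comm ⟨w, hw⟩ ⟨v, hvV⟩))
  have hCidx : C.index = Nat.card V - 1 := by
    rw [Subgroup.index_eq_card, show Nat.card V = ((V : Set G)).ncard from Nat.card_coe_set_eq _,
      ← Set.ncard_sdiff_singleton_of_mem (one_mem V), ← Nat.card_coe_set_eq]
    have hmem : ∀ g : G, g * v * g⁻¹ ∈ ((V : Set G) \ {1}) := fun g =>
      ⟨hV.1.conj_mem v hvV g, fun e => hv1 (conj_eq_one_iff.1 e)⟩
    obtain ⟨f, hf⟩ : ∃ f : G ⧸ C → ((V : Set G) \ {1} : Set G), ∀ g : G, f g = ⟨_, hmem g⟩ :=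
      ⟨Quotient.lift (fun g : G => (⟨_, hmem g⟩ : ((V : Set G) \ {1} : Set G))) (fun a b hab => by
        have h1 : a⁻¹ * b ∈ C := QuotientGroup.leftRel_apply.1 hab
        rw [hC, Subgroup.mem_centralizer_singleton_iff] at h1
        refine Subtype.ext ?_
        show a * v * a⁻¹ = b * v * b⁻¹
        calc a * v * a⁻¹ = a * (v * (a⁻¹ * b)) * b⁻¹ := by group
          _ = b * v * b⁻¹ := by rw [← h1]; group), fun _ => rfl⟩
    refine Nat.card_eq_of_bijective f ⟨fun s t hst => ?_, fun w => ?_⟩
    · induction s using QuotientGroup.induction_on with | _ a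
      induction t using QuotientGroup.induction_on with | _ b
      rw [hf, hf] at hst
      have h1 : a * v * a⁻¹ = b * v * b⁻¹ := congrArg Subtype.val hst
      refine QuotientGroup.eq.2 ?_
      rw [hC, Subgroup.mem_centralizer_singleton_iff]
      calc a⁻¹ * b * v = a⁻¹ * (b * v * b⁻¹) * b := by group
        _ = v * (a⁻¹ * b) := by rw [← h1]; group
    · obtain ⟨w, hwV, hw1⟩ := w
      have hwo : orderOf w = p := orderOf_eq_prime (hVpow w hwV) hw1
      obtain ⟨g, hg⟩ := isConj_iff.1 (h v w (hvo.trans hwo.symm))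
      exact ⟨g, (hf g).trans (Subtype.ext hg)⟩
  have hCdvd : C.index ∣ Nat.card (G ⧸ V) := by
    rw [← Subgroup.index_eq_card]; exact Subgroup.index_dvd_of_le hVC
  have hV2 : 2 ≤ Nat.card V := by rw [hVk]; exact hp.two_le.trans (Nat.le_self_pow hk0.ne' p)
  rcases ih _ hlt rfl hsq hq with hQ | hQ | ⟨hQ, hQnc⟩
  · -- `G = V`
    right; left
    rw [hQ] at hCdvd hcard
    have := Nat.le_of_dvd one_pos hCdvd
    omega
  · -- index two
    rw [hQ] at hCdvd hcard
    have := Nat.le_of_dvd two_pos hCdvd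
    by_cases h2 : Nat.card V = 2
    · exfalso
      rw [h2] at hcard
      haveI := Fact.mk Nat.prime_two
      have hc := (IsPGroup.isMulCommutative_of_card_eq_prime_sq (p := 2) (G := G) (by rw [hcard]; rfl)).is_comm.comm
      by_cases hex : ∃ x : G, orderOf x = 4
      · obtain ⟨x, hx⟩ := hex
        have h1 : x = x⁻¹ := eq_of_comm h hc (orderOf_inv x).symm
        have h2' := orderOf_dvd_of_pow_eq_one (show x ^ 2 = 1 by
          rw [sq]; nth_rewrite 2 [h1]; exact mul_inv_cancel x)
        rw [hx] at h2'; omega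
      · have ho : ∀ x : G, x ≠ 1 → orderOf x = 2 := fun x hx => by
          have hd : orderOf x ∣ 2 ^ 2 := by
            have := orderOf_dvd_natCard x; rw [hcard] at this; exact this
          obtain ⟨j, hj, hj'⟩ := (Nat.dvd_prime_pow Nat.prime_two).1 hd
          interval_cases j
          · exact absurd (orderOf_eq_one_iff.1 hj') hx
          · exact hj'
          · exact absurd ⟨x, hj'⟩ hex
        obtain ⟨a, ha⟩ : ∃ a : G, a ∉ V := by
          by_contra hh
          simp only [not_exists, not_not] at hh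
          rw [(Subgroup.eq_top_iff' V).2 hh, Subgroup.card_top, hcard] at h2
          omega
        have := eq_of_comm h hc ((ho a fun e => ha (e ▸ one_mem V)).trans (ho v hv1).symm)
        exact ha (this ▸ hvV)
    · have h3 : Nat.card V = 3 := by omega
      refine Or.inr (Or.inr ⟨by omega, fun hc => ?_⟩)
      have hp3 : p = 3 :=
        ((Nat.prime_dvd_prime_iff_eq hp Nat.prime_three).1 (h3 ▸ hVk ▸ dvd_pow_self p hk0.ne'))
      have h1 : v = v⁻¹ := eq_of_comm h hc (orderOf_inv v).symm
      have h4 := orderOf_dvd_of_pow_eq_one (show v ^ 2 = 1 by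
        rw [sq]; nth_rewrite 2 [h1]; exact mul_inv_cancel v)
      rw [hvo, hp3] at h4; omega
  · -- quotient of order six
    exfalso
    rw [hQ] at hCdvd hcard
    have hle := Nat.le_of_dvd (by norm_num : 0 < 6) hCdvd
    haveI := Fact.mk Nat.prime_two
    haveI := Fact.mk Nat.prime_three
    have hp7 : p ≤ 7 := le_trans (Nat.le_self_pow hk0.ne' p) (by rw [← hVk]; omega)
    have hcases : Nat.card V = 2 ∧ p = 2 ∨ Nat.card V = 3 ∧ p = 3 ∨ Nat.card V = 4 ∧ p = 2 ∨
        Nat.card V = 7 ∧ p = 7 := by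
      rw [hCidx] at hCdvd
      have hpd : p ∣ Nat.card V := hVk ▸ dvd_pow_self p hk0.ne'
      have hV7 : Nat.card V ≤ 7 := by omega
      interval_cases hV' : Nat.card V
      · exact Or.inl ⟨rfl, (Nat.prime_dvd_prime_iff_eq hp Nat.prime_two).1 hpd⟩
      · exact Or.inr (Or.inl ⟨rfl, (Nat.prime_dvd_prime_iff_eq hp Nat.prime_three).1 hpd⟩)
      · exact Or.inr (Or.inr (Or.inl ⟨rfl, (Nat.prime_dvd_prime_iff_eq hp Nat.prime_two).1
          (hp.dvd_of_dvd_pow (show p ∣ 2 ^ 2 from hpd))⟩))
      all_goals first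
        | (exfalso; revert hCdvd; decide)
        | exact Or.inr (Or.inr (Or.inr ⟨rfl, (Nat.prime_dvd_prime_iff_eq hp (by norm_num : Nat.Prime 7)).1 hpd⟩))
    have hinvol : ∀ t : G ⧸ V, orderOf t = 2 → ∀ g : G ⧸ V, g * t = t * g → g = 1 ∨ g = t := by
      intro t ht g hg
      by_contra hcon
      obtain ⟨hg1, hgt⟩ := not_or.1 hcon
      obtain ⟨Z, hZ⟩ : ∃ Z, Z = Subgroup.centralizer ({t} : Set (G ⧸ V)) := ⟨_, rfl⟩
      have hle : Subgroup.zpowers t ≤ Z :=
        hZ ▸ Subgroup.zpowers_le.2 (Subgroup.mem_centralizer_singleton_iff.2 rfl)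
      obtain ⟨a, ha⟩ := Subgroup.card_dvd_of_le hle
      rw [Nat.card_zpowers, ht] at ha
      have hgZ : g ∈ Z := hZ ▸ Subgroup.mem_centralizer_singleton_iff.2 hg
      have hlt : Subgroup.zpowers t < Z := lt_of_le_of_ne hle fun e => by
        rw [← e] at hgZ
        obtain ⟨i, hi⟩ := hgZ
        replace hi : t ^ i = g := hi
        have h4 : t ^ (i % 2) = t ^ i := by
          rw [show (2 : ℤ) = (orderOf t : ℤ) by rw [ht]; rfl, zpow_mod_orderOf]
        rw [← h4] at hi
        rcases Int.emod_two_eq i with h5 | h5 <;> rw [h5] at hi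
        · exact hg1 (by rw [← hi, zpow_zero])
        · exact hgt (by rw [← hi, zpow_one])
      have hlt' := Solv.card_lt_of_lt hlt
      rw [Nat.card_zpowers, ht, ha] at hlt'
      obtain ⟨b, hb⟩ : 2 * a ∣ 6 := ha ▸ hQ ▸ Subgroup.card_subgroup_dvd_card Z
      have hb1 : b = 1 := by
        rcases Nat.lt_or_ge b 2 with hb' | hb'
        · rcases Nat.eq_zero_or_pos b with rfl | hb0
          · omega
          · omega
        · nlinarith [Nat.mul_le_mul (show 2 ≤ a by omega) hb']
      have hZt : Z = ⊤ := Subgroup.eq_top_of_card_eq _ (by rw [ha, hQ, hb, hb1, mul_one])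
      exact hQnc (comm_of_central_two hQ ht (Subgroup.mem_center_iff.2 fun u =>
        Subgroup.mem_centralizer_singleton_iff.1 (hZ ▸ hZt ▸ Subgroup.mem_top u)))
    obtain ⟨t₂, ht₂⟩ := exists_prime_orderOf_dvd_card' (G := G ⧸ V) 2 (by omega)
    obtain ⟨x, hxt, hxo⟩ := hlift t₂
    rw [ht₂] at hxo
    rcases hcases with ⟨hV', rfl⟩ | ⟨hV', rfl⟩ | ⟨hV', rfl⟩ | ⟨hV', rfl⟩
    · -- a central involution
      rw [if_pos dvd_rfl] at hxo
      obtain ⟨g, hg⟩ := isConj_iff.1 (h x x⁻¹ (orderOf_inv x).symm)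
      have hxx : x * x ∈ V := hall _ (orderOf_eq_prime (by
        rw [← sq, ← pow_mul, show 2 * 2 = orderOf x from hxo.symm, pow_orderOf_eq_one]) fun e => by
          have := orderOf_dvd_of_pow_eq_one (show x ^ 2 = 1 by rw [sq]; exact e)
          rw [hxo] at this; omega)
      have hVx : V ≤ Subgroup.zpowers x := by
        refine le_of_eq_of_le (Subgroup.eq_of_le_of_card_ge (Subgroup.zpowers_le.2 hxx) ?_).symm
          (Subgroup.zpowers_le.2 (mul_mem (Subgroup.mem_zpowers x) (Subgroup.mem_zpowers x)))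
        rw [hV', Nat.card_zpowers, show x * x = x ^ 2 by rw [sq], orderOf_pow' x two_ne_zero, hxo]
        decide
      have hcom : QuotientGroup.mk' V g * t₂ = t₂ * QuotientGroup.mk' V g := by
        have hi : t₂⁻¹ = t₂ := inv_eq_of_mul_eq_one_right (by rw [← sq, ← ht₂, pow_orderOf_eq_one])
        have h1 := congrArg (QuotientGroup.mk' V) hg
        rw [map_mul, map_mul, map_inv, map_inv, hxt, hi, mul_inv_eq_iff_eq_mul] at h1
        exact h1
      have hgx : g ∈ Subgroup.zpowers x := by
        rcases hinvol t₂ ht₂ _ hcom with h1 | h1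
        · exact hVx ((QuotientGroup.eq_one_iff g).1 h1)
        · have h2 : x⁻¹ * g ∈ V := QuotientGroup.eq.1 (hxt.trans h1.symm)
          simpa using mul_mem (Subgroup.mem_zpowers x) (hVx h2)
      obtain ⟨i, rfl⟩ := hgx
      have h3 : x = x⁻¹ := by
        rw [← hg, show x ^ i * x * (x ^ i)⁻¹ = x by group]
      have := orderOf_dvd_of_pow_eq_one (show x ^ 2 = 1 by
        rw [sq]; nth_rewrite 2 [h3]; exact mul_inv_cancel x)
      rw [hxo] at this; omega
    · -- an element of order nine
      obtain ⟨t₃, ht₃⟩ := exists_prime_orderOf_dvd_card' (G := G ⧸ V) 3 (by omega)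
      obtain ⟨y, -, hyo⟩ := hlift t₃
      rw [ht₃, if_pos dvd_rfl] at hyo
      obtain ⟨Y, hY⟩ : ∃ Y, Y = Subgroup.centralizer ({y} : Set G) := ⟨_, rfl⟩
      obtain ⟨g1, hg1⟩ := isConj_iff.1 (h y (y ^ 2) (by rw [orderOf_pow' y two_ne_zero, hyo]; rfl))
      obtain ⟨g2, hg2⟩ := isConj_iff.1 (h y (y ^ 4) (by rw [orderOf_pow' y (by norm_num), hyo]; rfl))
      have hidx : Y.index ∣ 2 := by
        have h1 : 9 ∣ Nat.card Y := by
          rw [← show Nat.card (Subgroup.zpowers y) = 9 by rw [Nat.card_zpowers, hyo]]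
          exact Subgroup.card_dvd_of_le
            (hY ▸ Subgroup.zpowers_le.2 (Subgroup.mem_centralizer_singleton_iff.2 rfl))
        obtain ⟨a, ha⟩ := h1
        have h2 := Y.card_mul_index
        rw [ha, hcard, hV'] at h2
        exact ⟨a, by nlinarith⟩
      have h2 := Nat.le_of_dvd two_pos hidx
      have hdiff : ∀ a b : G, (a : G ⧸ Y) = (b : G ⧸ Y) → a * y * a⁻¹ = b * y * b⁻¹ := by
        intro a b hab
        have h1 : a⁻¹ * b ∈ Y := QuotientGroup.eq.1 hab
        rw [hY, Subgroup.mem_centralizer_singleton_iff] at h1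
        calc a * y * a⁻¹ = a * (y * (a⁻¹ * b)) * b⁻¹ := by group
          _ = b * y * b⁻¹ := by rw [← h1]; group
      have hne : ∀ i j : ℕ, i < 9 → j < 9 → i ≠ j → y ^ i ≠ y ^ j := fun i j hi hj hij e => by
        have h4 := pow_inj_mod.1 e
        rw [hyo, Nat.mod_eq_of_lt hi, Nat.mod_eq_of_lt hj] at h4
        exact hij h4
      have h3 : 3 ≤ Nat.card (G ⧸ Y) := by
        obtain ⟨f, hf⟩ : ∃ f : Fin 3 → G ⧸ Y, f = ![((1 : G) : G ⧸ Y), g1, g2] := ⟨_, rfl⟩
        have hinj : Function.Injective f := by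
          intro i j hij
          rw [hf] at hij
          fin_cases i <;> fin_cases j <;> first
            | rfl
            | (exfalso
               have he := hdiff _ _ hij
               simp only [hg1, hg2, one_mul, mul_one, inv_one] at he
               first
                | exact hne 1 2 (by norm_num) (by norm_num) (by norm_num) ((pow_one y).trans he)
                | exact hne 1 4 (by norm_num) (by norm_num) (by norm_num) ((pow_one y).trans he)
                | exact hne 2 4 (by norm_num) (by norm_num) (by norm_num) he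
                | exact hne 2 1 (by norm_num) (by norm_num) (by norm_num) (he.trans (pow_one y).symm)
                | exact hne 4 1 (by norm_num) (by norm_num) (by norm_num) (he.trans (pow_one y).symm)
                | exact hne 4 2 (by norm_num) (by norm_num) (by norm_num) he)
        have := Nat.card_le_card_of_injective f hinj
        rwa [Nat.card_fin] at this
      rw [Subgroup.index_eq_card] at h2
      omega
    · -- a lift of an involution would be an involution
      rw [if_pos dvd_rfl] at hxo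
      have hVV : ∀ a ∈ V, ∀ b ∈ V, a * b = b * a := fun a ha b hb =>
        congrArg Subtype.val (hVc.is_comm.comm ⟨a, ha⟩ ⟨b, hb⟩)
      obtain ⟨K, hK⟩ : ∃ K, K = Subgroup.centralizer (V : Set G) := ⟨_, rfl⟩
      haveI : K.Normal := hK ▸ inferInstance
      have hxK : x ∉ K := fun hx => by
        obtain ⟨L, hL⟩ : ∃ L, L = K.map (QuotientGroup.mk' V) := ⟨_, rfl⟩
        haveI : L.Normal := hL ▸ (inferInstance : K.Normal).map _ (QuotientGroup.mk'_surjective V)
        have htL : t₂ ∈ L := hL ▸ ⟨x, hx, hxt⟩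
        have hnorm : ¬ L ≤ Subgroup.zpowers t₂ := by
          intro hle
          refine hQnc (comm_of_central_two hQ ht₂ (Subgroup.mem_center_iff.2 fun u => ?_))
          obtain ⟨i, hi⟩ := hle ((inferInstance : L.Normal).conj_mem _ htL u)
          replace hi : t₂ ^ i = u * t₂ * u⁻¹ := hi
          have h4 : t₂ ^ (i % 2) = t₂ ^ i := by
            rw [show (2 : ℤ) = (orderOf t₂ : ℤ) by rw [ht₂]; rfl, zpow_mod_orderOf]
          rw [← h4] at hi
          rcases Int.emod_two_eq i with h5 | h5 <;> rw [h5] at hi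
          · rw [zpow_zero, eq_comm, conj_eq_one_iff] at hi
            rw [hi, orderOf_one] at ht₂; omega
          · rw [zpow_one, eq_comm, mul_inv_eq_iff_eq_mul] at hi
            exact hi
        obtain ⟨a, ha⟩ := Subgroup.card_dvd_of_le (Subgroup.zpowers_le.2 htL)
        rw [Nat.card_zpowers, ht₂] at ha
        obtain ⟨b, hb⟩ : 2 * a ∣ 6 := ha ▸ hQ ▸ Subgroup.card_subgroup_dvd_card L
        have hb1 : b = 1 := by
          have ha1 : a ≠ 1 := fun e => hnorm (Subgroup.eq_of_le_of_card_ge (Subgroup.zpowers_le.2 htL)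
            (by rw [Nat.card_zpowers, ht₂, ha, e])).ge
          rcases Nat.lt_or_ge b 2 with hb' | hb'
          · rcases Nat.eq_zero_or_pos b with rfl | hb0
            · omega
            · omega
          · rcases Nat.eq_zero_or_pos a with rfl | ha0
            · omega
            · have : 2 ≤ a := by omega
              nlinarith
        have hLt : L = ⊤ := Subgroup.eq_top_of_card_eq _ (by rw [ha, hQ, hb, hb1, mul_one])
        have hVK : V ≤ K := hK ▸ fun a ha => Subgroup.mem_centralizer_iff.2 fun b hb => hVV b hb a ha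
        have hKt : ∀ g : G, g ∈ K := fun g => by
          obtain ⟨u, hu, hgu⟩ : QuotientGroup.mk' V g ∈ K.map (QuotientGroup.mk' V) :=
            hL ▸ hLt ▸ Subgroup.mem_top _
          have h2 : u⁻¹ * g ∈ V := QuotientGroup.eq.1 hgu
          simpa using mul_mem hu (hVK h2)
        have hCtop : C = ⊤ := (Subgroup.eq_top_iff' C).2 fun g => hC ▸
          Subgroup.mem_centralizer_singleton_iff.2 ((Subgroup.mem_centralizer_iff.1 (hK ▸ hKt g) v hvV).symm)
        rw [hCtop, Subgroup.index_top, hV'] at hCidx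
        omega
      obtain ⟨w, hwV, hwx⟩ : ∃ w ∈ V, x * w * x⁻¹ ≠ w := by
        by_contra hh
        simp only [not_exists, not_and, not_not] at hh
        exact hxK (hK ▸ Subgroup.mem_centralizer_iff.2 fun w hw =>
          (mul_inv_eq_iff_eq_mul.1 (hh w hw)).symm)
      obtain ⟨u, hu⟩ : ∃ u, u = x * x := ⟨_, rfl⟩
      have huo : orderOf u = 2 := orderOf_eq_prime (by
        rw [hu, ← sq, ← pow_mul, show 2 * 2 = orderOf x from hxo.symm, pow_orderOf_eq_one]) fun e => by
          have := orderOf_dvd_of_pow_eq_one (show x ^ 2 = 1 by rw [sq, ← hu]; exact e)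
          rw [hxo] at this; omega
      have huV : u ∈ V := hall u huo
      have hw' : x * w * x⁻¹ ∈ V := hV.1.conj_mem w hwV x
      have hkey : x * w * x⁻¹ = w * u := by
        have hu1 : u ≠ 1 := fun e => by rw [e, orderOf_one] at huo; omega
        have hw1 : w ≠ 1 := fun e => hwx (by rw [e]; group)
        have hwu : w ≠ u := fun e => hwx (by rw [e, hu]; group)
        by_contra hne
        have hc' : x * w * x⁻¹ ≠ u := fun e => hwu (by
          calc w = x⁻¹ * (x * w * x⁻¹) * x := by group
            _ = u := by rw [e, hu]; group)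
        have hc1 : x * w * x⁻¹ ≠ 1 := fun e => hw1 (conj_eq_one_iff.1 e)
        classical
        have hsub : (↑({1, u, w, w * u, x * w * x⁻¹} : Finset G) : Set G) ⊆ (V : Set G) := by
          intro a ha
          simp only [Finset.coe_insert, Finset.coe_singleton, Set.mem_insert_iff, Set.mem_singleton_iff] at ha
          rcases ha with rfl | rfl | rfl | rfl | rfl
          exacts [one_mem V, huV, hwV, mul_mem hwV huV, hw']
        have hwu1 : w * u ≠ 1 := fun e => hwu (by
          have hui : u⁻¹ = u := inv_eq_of_mul_eq_one_right (by rw [← sq, ← huo, pow_orderOf_eq_one])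
          rw [mul_eq_one_iff_eq_inv] at e; rwa [hui] at e)
        have hwuu : w * u ≠ u := fun e => hw1 (mul_eq_right.1 e)
        have hwuw : w * u ≠ w := fun e => hu1 (mul_eq_left.1 e)
        have hcd : ({1, u, w, w * u, x * w * x⁻¹} : Finset G).card = 5 := by
          simp [hu1.symm, hw1.symm, hwu.symm, hwu1.symm, hwuu.symm, hwuw.symm, hc1.symm, hc'.symm,
            Ne.symm hne, Ne.symm hwx]
        have := Set.ncard_le_ncard hsub (Set.toFinite _)
        rw [Set.ncard_coe_finset, hcd, ← Nat.card_coe_set_eq] at this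
        change 5 ≤ Nat.card V at this
        omega
      have hsq : (x * w) ^ 2 = 1 := by
        calc (x * w) ^ 2 = (x * w * x⁻¹) * (x * x) * w := by rw [sq]; group
          _ = w * (u * u) * w := by rw [hkey, ← hu]; group
          _ = w * w := by rw [← sq u, ← huo, pow_orderOf_eq_one, mul_one]
          _ = 1 := by rw [← sq]; exact hVpow w hwV
      have hxw : x * w ∈ V := by
        by_cases e : x * w = 1
        · rw [e]; exact one_mem V
        · exact hall _ (orderOf_eq_prime hsq e)
      have hx' : x ∈ V := by simpa using mul_mem hxw (inv_mem hwV)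
      rw [← hxt, QuotientGroup.mk'_apply, (QuotientGroup.eq_one_iff x).2 hx', orderOf_one] at ht₂
      omega
    · -- an abelian group of automorphisms
      have hVz : ∀ w ∈ V, w ∈ Subgroup.zpowers v := fun w hw => by
        have : Subgroup.zpowers v = V := Subgroup.eq_of_le_of_card_ge (Subgroup.zpowers_le.2 hvV)
          (by rw [hV', Nat.card_zpowers, hvo])
        exact this.symm ▸ hw
      refine hQnc fun s t => ?_
      obtain ⟨a, rfl⟩ := QuotientGroup.mk'_surjective V s
      obtain ⟨b, rfl⟩ := QuotientGroup.mk'_surjective V t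
      have hCV : C = V := by
        refine (Subgroup.eq_of_le_of_card_ge hVC ?_).symm
        have h1 := C.card_mul_index
        rw [hCidx, hcard, hV'] at h1
        omega
      have key : ∀ a b : G, (b * a)⁻¹ * (a * b) * v = v * ((b * a)⁻¹ * (a * b)) := by
        intro a b
        obtain ⟨i, hi⟩ := hVz _ (hV.1.conj_mem v hvV a)
        obtain ⟨j, hj⟩ := hVz _ (hV.1.conj_mem v hvV b)
        replace hi : v ^ i = a * v * a⁻¹ := hi
        replace hj : v ^ j = b * v * b⁻¹ := hj
        have hA : ∀ m : ℤ, a * v ^ m * a⁻¹ = v ^ (i * m) := fun m => by rw [← conj_zpow, ← hi, zpow_mul]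
        have hB : ∀ m : ℤ, b * v ^ m * b⁻¹ = v ^ (j * m) := fun m => by rw [← conj_zpow, ← hj, zpow_mul]
        have hab : (a * b) * v * (a * b)⁻¹ = (b * a) * v * (b * a)⁻¹ := by
          rw [show (a * b) * v * (a * b)⁻¹ = a * (b * v * b⁻¹) * a⁻¹ by group,
            show (b * a) * v * (b * a)⁻¹ = b * (a * v * a⁻¹) * b⁻¹ by group, ← hi, ← hj, hA, hB, mul_comm]
        calc (b * a)⁻¹ * (a * b) * v = (b * a)⁻¹ * ((a * b) * v * (a * b)⁻¹) * (a * b) := by group
          _ = v * ((b * a)⁻¹ * (a * b)) := by rw [hab]; group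
      rw [← commutatorElement_eq_one_iff_mul_comm, ← map_commutatorElement, QuotientGroup.mk'_apply,
        QuotientGroup.eq_one_iff, ← hCV, hC, Subgroup.mem_centralizer_singleton_iff,
        show ⁅a, b⁆ = (b⁻¹ * a⁻¹)⁻¹ * (a⁻¹ * b⁻¹) by rw [commutatorElement_def]; group]
      exact key a⁻¹ b⁻¹

/-- A finite solvable group in which any two elements of the same order are conjugate has order 1 or 2 or is isomorphic to the symmetric group of degree 3. -/
theorem result {G : Type*} [Group G] [Finite G] [Group.IsSolvable G]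
    (h : ∀ x y : G, orderOf x = orderOf y → IsConj x y) :
    Nat.card G = 1 ∨ Nat.card G = 2 ∨ Nonempty (G ≃* Equiv.Perm (Fin 3)) := by
  rcases core _ (G := G) rfl inferInstance h with h1 | h1 | ⟨h6, hnc⟩
  · exact Or.inl h1
  · exact Or.inr (Or.inl h1)
  refine Or.inr (Or.inr ?_)
  obtain ⟨x, hx⟩ := exists_prime_orderOf_dvd_card' (G := G) (hp := Fact.mk Nat.prime_two) 2 (by omega)
  obtain ⟨H, hH⟩ : ∃ H, H = Subgroup.zpowers x := ⟨_, rfl⟩
  have hH2 : Nat.card H = 2 := by rw [hH, Nat.card_zpowers, hx]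
  have hcore : H.normalCore = ⊥ := by
    haveI : Fact (Nat.card H).Prime := ⟨by rw [hH2]; exact Nat.prime_two⟩
    rcases (H.normalCore.subgroupOf H).eq_bot_or_eq_top_of_prime_card with h2 | h2
    · rw [Subgroup.subgroupOf_eq_bot, disjoint_iff, inf_eq_left.2 H.normalCore_le] at h2
      exact h2
    · exfalso
      have hxc : x ∈ H.normalCore := Subgroup.subgroupOf_eq_top.1 h2 (hH ▸ Subgroup.mem_zpowers x)
      have hcen : x ∈ Subgroup.center G := Subgroup.mem_center_iff.2 fun g => by
        have h3 : g * x * g⁻¹ ∈ Subgroup.zpowers x :=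
          hH ▸ H.normalCore_le (H.normalCore_normal.conj_mem x hxc g)
        obtain ⟨i, hi⟩ := h3
        replace hi : x ^ i = g * x * g⁻¹ := hi
        have h4 : x ^ (i % 2) = x ^ i := by
          rw [show (2 : ℤ) = (orderOf x : ℤ) by rw [hx]; rfl, zpow_mod_orderOf]
        rw [← h4] at hi
        rcases Int.emod_two_eq i with h5 | h5 <;> rw [h5] at hi
        · rw [zpow_zero, eq_comm, conj_eq_one_iff] at hi
          rw [hi, orderOf_one] at hx; omega
        · rw [zpow_one, eq_comm, mul_inv_eq_iff_eq_mul] at hi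
          exact hi
      exact hnc (comm_of_central_two h6 hx hcen)
  have hinj : Function.Injective (MulAction.toPermHom G (G ⧸ H)) := by
    rw [← MonoidHom.ker_eq_bot_iff, ← Subgroup.normalCore_eq_ker, hcore]
  have hidx : Nat.card (G ⧸ H) = 3 := by
    have := H.card_eq_card_quotient_mul_card_subgroup
    rw [hH2, h6] at this
    omega
  have hbij : Function.Bijective (MulAction.toPermHom G (G ⧸ H)) := by
    rw [Nat.bijective_iff_injective_and_card]
    refine ⟨hinj, ?_⟩
    rw [Nat.card_perm, hidx, h6]; rfl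
  exact ⟨(MulEquiv.ofBijective _ hbij).trans ((Finite.equivFinOfCardEq hidx).permCongrHom)⟩

end Cfsg.Agent.S4062
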