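import Cfsg.Statements.S4064
import Cfsg.Agent.Lib.Solv.TICent.Main
import Cfsg.Agent.Lib.Solv.TICent.Frob
import Cfsg.Agent.Lib.Classical.Dickson.Tools
import Cfsg.Agent.S1230

set_option autoImplicit false
open Cfsg

namespace Cfsg.Agent.S4064

/-- Let G be a finite group in which the centralizer of every element meets each of its conjugates by elements outside its normalizer trivially. Then G is nilpotent; or G is a Frobenius group with a complement that is cyclic or isomorphic to the direct product of a cyclic group of odd order and the quaternion group of order 8; or G is isomorphic to PSL₂(2ⁿ) for some n ≥ 2. -/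
theorem result {G : Type*} [Group G] [Finite G] (hTI : ∀ x : G, Cfsg.IsTISubset (Subgroup.centralizer ({x} : Set G) : Set G)) :
    Group.IsNilpotent G ∨
    (∃ H : Subgroup G, Cfsg.IsFrobeniusComplement H ∧
      (IsCyclic H ∨ ∃ m : ℕ, Odd m ∧ Nonempty (H ≃* Multiplicative (ZMod m) × QuaternionGroup 2))) ∨
    (∃ n : ℕ, 2 ≤ n ∧ Nonempty (G ≃* Matrix.ProjectiveSpecialLinearGroup (Fin 2) (GaloisField 2 n))) := by
  classical
  by_cases hnn : Group.IsNilpotent G
  · exact Or.inl hnn
  refine Or.inr ?_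
  by_cases hnil : ∃ N : Subgroup G, N.Normal ∧ Group.IsNilpotent N ∧ N ≠ ⊥
  · obtain ⟨N, hN, hNn, hN1⟩ := hnil
    obtain ⟨H, V, hH, hV, hV1, hVc, hfpf⟩ := Solv.TICent.frob hTI N hNn hN1 hnn
    haveI := hV; haveI := hVc
    exact Or.inl ⟨H, hH, Solv.TICent.complement_shape hTI hH
      (Solv.TICent.complement_nilpotent hTI hH hV1 hfpf)⟩
  push Not at hnil
  refine Or.inr ?_
  haveI : Fact (Nat.Prime 2) := ⟨Nat.prime_two⟩
  have heven : 2 ∣ Nat.card G := by
    rw [← even_iff_two_dvd, ← Nat.not_odd_iff_even]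
    intro ho
    have htop := Solv.TICent.odd_normal hTI hnil ⊤ inferInstance (by rwa [Subgroup.card_top])
    haveI : Subsingleton G := ⟨fun a b => by
      have ha := htop.le (Subgroup.mem_top a)
      have hb := htop.le (Subgroup.mem_top b)
      rw [Subgroup.mem_bot] at ha hb
      rw [ha, hb]⟩
    exact hnn inferInstance
  obtain ⟨t, hto⟩ := exists_prime_orderOf_dvd_card' 2 heven
  have ht : t * t = 1 := by rw [← sq, ← hto]; exact pow_orderOf_eq_one t
  have ht1 : t ≠ 1 := fun e => by rw [e, orderOf_one] at hto; omega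
  have hC := Solv.TICent.exists_ctx hTI hnil ht ht1
  have hel : ∀ s : G, orderOf s = 2 → ∀ c ∈ Subgroup.centralizer ({s} : Set G), c * c = 1 := fun s hs =>
    Solv.TICent.elementary hTI hnil (by rw [← sq, ← hs]; exact pow_orderOf_eq_one s)
      (fun e => by rw [e, orderOf_one] at hs; omega)
  have hp : IsPGroup 2 (Subgroup.centralizer ({t} : Set G)) := fun c => ⟨1, Subtype.ext (by
    rw [pow_one, Subgroup.coe_pow, sq]; exact hel t hto c c.2)⟩
  obtain ⟨T, hT⟩ := hp.exists_le_sylow
  have htT : t ∈ T := hT (Solv.TICent.mem_cent.2 rfl)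
  have hTc : (T : Subgroup G) ≤ Subgroup.centralizer ({t} : Set G) := fun y hy =>
    Solv.TICent.mem_cent.2 (Solv.TICent.central_invol hTI hnil T htT ht ht1 y hy)
  have hnT : ¬ (T : Subgroup G).Normal := fun hN =>
    ht1 (Subgroup.mem_bot.1 ((hnil _ hN T.isPGroup'.isNilpotent).le htT))
  have h3 : 3 ≤ Nat.card (T : Subgroup G) := by
    refine le_trans ?_ (Subgroup.card_le_of_le (fun a ha => hT ha.1 : Solv.TICent.invGroup hC ≤ (T : Subgroup G)))
    rw [Solv.TICent.card_invGroup]
    have := hC.two_le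
    omega
  have hnc : ¬ IsCyclic (T : Subgroup G) := fun hcy => by
    obtain ⟨⟨g, hg⟩, hgen⟩ := hcy.exists_ofOrder_eq_natCard
    have h2 : orderOf (⟨g, hg⟩ : (T : Subgroup G)) ≤ 2 := orderOf_le_of_pow_eq_one two_pos (Subtype.ext (by
      rw [Subgroup.coe_pow, sq]
      exact hel t hto g (hTc hg)))
    omega
  obtain ⟨F, instF, instFt, hF, ⟨e⟩⟩ := S1230.result T hnc hnT fun s hs => by
    refine ⟨⟨⟨fun a b => Subtype.ext ?_⟩⟩, fun c hc => by rw [sq]; exact hel s hs c hc⟩
    have ha := hel s hs a a.2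
    have hb := hel s hs b b.2
    have hab := hel s hs _ (mul_mem a.2 b.2)
    show (a : G) * b = b * a
    rw [← inv_eq_of_mul_eq_one_right hab, mul_inv_rev, inv_eq_of_mul_eq_one_right ha,
      inv_eq_of_mul_eq_one_right hb]
  obtain ⟨n, hn⟩ := IsPGroup.iff_card.1 T.isPGroup'
  have hn2 : 2 ≤ n := by
    by_contra h
    have : 2 ^ n ≤ 2 ^ 1 := Nat.pow_le_pow_right two_pos (by omega)
    omega
  haveI : Fintype (GaloisField 2 n) := Fintype.ofFinite _
  have e' : F ≃+* GaloisField 2 n := FiniteField.ringEquivOfCardEq (by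
    rw [hF, hn, ← Nat.card_eq_fintype_card, GaloisField.card 2 n (by omega)])
  exact ⟨n, hn2, ⟨e.trans (Classical.Dickson.pslCongr e')⟩⟩

end Cfsg.Agent.S4064
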