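import Cfsg.Statements.S4071
import Cfsg.Agent.Lib.Solv.Cores
import Cfsg.Agent.Lib.Solv.PGroupPhi

set_option autoImplicit false
set_option linter.style.haveILetI false
open Cfsg

open scoped Pointwise commutatorElement

namespace Cfsg.Agent.S4071

variable {G : Type*} [Group G] [Finite G]

omit [Finite G] in
theorem normal_comm (hS : ∀ H : Subgroup G, ¬ IsMulCommutative H → Subgroup.normalizer (H : Set G) = H)
    {N : Subgroup G} (hN : N.Normal) (hNt : N ≠ ⊤) : IsMulCommutative N := by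
  by_contra h
  exact hNt ((hS N h).symm.trans (Subgroup.normalizer_eq_top_iff.2 hN))

/-- An abelian `A` normal with `x` acting without fixed points is exhausted by the `⁅a, x⁆`. -/
theorem delta_bij {A : Subgroup G} (hAn : A.Normal) (hAc : IsMulCommutative A) {x : G}
    (hfix : ∀ a : G, a ∈ A → a ≠ 1 → x * a * x⁻¹ ≠ a) (B : Subgroup G) (hBA : B ≤ A)
    (hB : ∀ b ∈ B, x * b * x⁻¹ ∈ B) :
    ∀ b ∈ B, ∃ c ∈ B, ⁅c, x⁆ = b ∧ ∀ a ∈ A, ⁅a, x⁆ = b → a = c := by
  have hAA : ∀ a ∈ A, ∀ b ∈ A, a * b = b * a := fun a ha b hb =>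
    congrArg Subtype.val (hAc.is_comm.comm ⟨a, ha⟩ ⟨b, hb⟩)
  have hinj : ∀ a ∈ A, ∀ c ∈ A, ⁅a, x⁆ = ⁅c, x⁆ → a = c := by
    intro a ha c hc h
    by_contra hne
    refine hfix (c⁻¹ * a) (mul_mem (inv_mem hc) ha) (fun e => hne (inv_mul_eq_one.1 e).symm) ?_
    have h' : a * (x * a⁻¹ * x⁻¹) = c * (x * c⁻¹ * x⁻¹) := by
      rw [commutatorElement_def, commutatorElement_def] at h
      simpa [mul_assoc] using h
    have h2 : (c⁻¹ * a) * (x * (c⁻¹ * a)⁻¹ * x⁻¹) = 1 := by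
      rw [show (c⁻¹ * a) * (x * (c⁻¹ * a)⁻¹ * x⁻¹) =
        c⁻¹ * (a * (x * a⁻¹ * x⁻¹) * (x * c * x⁻¹)) by group, h']
      group
    rw [mul_eq_one_iff_eq_inv] at h2
    refine Eq.trans ?_ h2.symm
    group
  haveI := Fintype.ofFinite B
  have hmem : ∀ c : B, ⁅(c : G), x⁆ ∈ B := fun c => by
    rw [commutatorElement_def, show (c : G) * x * (c : G)⁻¹ * x⁻¹ = c * (x * (c : G)⁻¹ * x⁻¹) by group]
    exact mul_mem c.2 (hB _ (inv_mem c.2))
  intro b hb
  obtain ⟨c, hc⟩ := (Finite.injective_iff_surjective (f := fun c : B => (⟨⁅(c : G), x⁆, hmem c⟩ : B))).1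
    (fun u v h => Subtype.ext (hinj _ (hBA u.2) _ (hBA v.2) (congrArg Subtype.val h))) ⟨b, hb⟩
  have hcb : ⁅(c : G), x⁆ = b := congrArg Subtype.val hc
  exact ⟨c, c.2, hcb, fun a ha h => hinj a ha c (hBA c.2) (h.trans hcb.symm)⟩

theorem backward {x : G} {A : Subgroup G} {p k : ℕ} (hp : p.Prime) (hAn : A.Normal)
    (hAc : IsMulCommutative A) (hk : orderOf x = p ^ k)
    (hcomp : (Subgroup.zpowers x).IsComplement' A) (hxp : x ^ p ∈ Subgroup.center G)
    (hfix : ∀ a : G, a ∈ A → a ≠ 1 → x * a * x⁻¹ ≠ a) :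
    ∀ H : Subgroup G, ¬ IsMulCommutative H → Subgroup.normalizer (H : Set G) = H := by
  intro H hH
  have hAA : ∀ a ∈ A, ∀ b ∈ A, a * b = b * a := fun a ha b hb =>
    congrArg Subtype.val (hAc.is_comm.comm ⟨a, ha⟩ ⟨b, hb⟩)
  have hform : ∀ g : G, ∃ a ∈ A, ∃ i : ℕ, g = a * x ^ i := fun g => by
    have hg : g ∈ ((A : Set G) * (Subgroup.zpowers x : Set G)) := by
      rw [hcomp.symm.mul_eq]; trivial
    obtain ⟨a, ha, y, hy, rfl⟩ := hg
    obtain ⟨i, rfl⟩ := (IsOfFinOrder.mem_powers_iff_mem_zpowers (isOfFinOrder_of_finite x)).2 hy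
    exact ⟨a, ha, i, rfl⟩
  -- `H` contains an element of the coset `A x`
  obtain ⟨w, hw, a₀, ha₀, hw0⟩ : ∃ w ∈ H, ∃ a ∈ A, w = a * x := by
    by_contra hno
    simp only [not_exists, not_and] at hno
    refine hH ⟨⟨fun u v => Subtype.ext ?_⟩⟩
    have hdiv : ∀ h ∈ H, ∃ a ∈ A, ∃ j : ℕ, h = a * (x ^ p) ^ j := by
      intro h hh
      obtain ⟨a, ha, i, rfl⟩ := hform h
      by_cases hd : p ∣ i
      · obtain ⟨j, rfl⟩ := hd
        exact ⟨a, ha, j, by rw [pow_mul]⟩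
      exfalso
      obtain ⟨l, hl⟩ := Nat.exists_mul_mod_eq_one_of_coprime (k := p ^ (k + 1))
        (((hp.coprime_iff_not_dvd).2 hd).symm.pow_right (k + 1))
        (Nat.one_lt_pow (Nat.succ_ne_zero k) hp.one_lt)
      have hpow : (a * x ^ i) ^ l * x⁻¹ ∈ A := by
        rw [← QuotientGroup.eq_one_iff, QuotientGroup.mk_mul, QuotientGroup.mk_pow,
          QuotientGroup.mk_mul, (QuotientGroup.eq_one_iff a).2 ha, one_mul, ← QuotientGroup.mk_pow,
          ← pow_mul, ← QuotientGroup.mk_mul]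
        have he : x ^ (i * l) = x := by
          have h3 : i * l % p ^ k = 1 % p ^ k := by
            rw [← hl.2, Nat.mod_mod_of_dvd _ (pow_dvd_pow p (Nat.le_succ k))]
          rw [← pow_mod_orderOf, hk, h3, ← hk, pow_mod_orderOf, pow_one]
        rw [he, mul_inv_cancel, QuotientGroup.mk_one]
      exact hno _ (pow_mem hh l) _ hpow (by group)
    obtain ⟨a, ha, i, hu⟩ := hdiv _ u.2
    obtain ⟨b, hb, j, hv⟩ := hdiv _ v.2
    have hc : ∀ (m : ℕ) (g : G), g * (x ^ p) ^ m = (x ^ p) ^ m * g := fun m =>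
      Subgroup.mem_center_iff.1 (pow_mem hxp m)
    rw [Subgroup.coe_mul, Subgroup.coe_mul, hu, hv]
    calc a * (x ^ p) ^ i * (b * (x ^ p) ^ j) = a * ((x ^ p) ^ i * b) * (x ^ p) ^ j := by group
      _ = (a * b) * ((x ^ p) ^ i * (x ^ p) ^ j) := by rw [← hc]; group
      _ = (b * a) * ((x ^ p) ^ j * (x ^ p) ^ i) := by
          rw [hAA a ha b hb, ← pow_add, ← pow_add, add_comm]
      _ = b * ((x ^ p) ^ j * a) * (x ^ p) ^ i := by rw [← hc j a]; simp only [mul_assoc]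
      _ = _ := by group
  obtain ⟨c, hcA, hc, -⟩ := delta_bij hAn hAc hfix A le_rfl (fun b hb => hAn.conj_mem b hb x) a₀ ha₀
  have hcw : c * x * c⁻¹ = w := by rw [hw0, ← hc, commutatorElement_def]; group
  have hxpH : x ^ p ∈ H := by
    have h1 : w ^ p = x ^ p := by
      rw [← hcw, conj_pow, Subgroup.mem_center_iff.1 hxp c, mul_inv_cancel_right]
    exact h1 ▸ pow_mem hw p
  refine le_antisymm (fun g hg => ?_) Subgroup.le_normalizer
  obtain ⟨a, ha, j, rfl⟩ := hform g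
  -- reduce to an element of `A`
  obtain ⟨b, hb, hbw⟩ : ∃ b ∈ A, x ^ j = b * w ^ j := by
    refine ⟨x ^ j * (w ^ j)⁻¹, ?_, by group⟩
    rw [← QuotientGroup.eq_one_iff, QuotientGroup.mk_mul, QuotientGroup.mk_inv, QuotientGroup.mk_pow,
      QuotientGroup.mk_pow, hw0, QuotientGroup.mk_mul, (QuotientGroup.eq_one_iff a₀).2 ha₀, one_mul,
      mul_inv_cancel]
  rw [hbw, ← mul_assoc] at hg ⊢
  have hab : a * b ∈ Subgroup.normalizer (H : Set G) := by
    have := mul_mem hg (inv_mem (Subgroup.le_normalizer (pow_mem hw j) :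
      w ^ j ∈ Subgroup.normalizer (H : Set G)))
    simpa using this
  refine mul_mem ?_ (pow_mem hw j)
  obtain ⟨d, hd⟩ : ∃ d, d = a * b := ⟨_, rfl⟩
  rw [← hd] at hab ⊢
  have hdA : d ∈ A := hd ▸ mul_mem ha hb
  have hdx : ⁅d, x⁆ ∈ A := by
    rw [commutatorElement_def, show d * x * d⁻¹ * x⁻¹ = d * (x * d⁻¹ * x⁻¹) by group]
    exact mul_mem hdA (hAn.conj_mem _ (inv_mem hdA) x)
  have hdw : ⁅d, w⁆ = ⁅d, x⁆ := by
    rw [hw0, commutatorElement_def,
      show d * (a₀ * x) * d⁻¹ * (a₀ * x)⁻¹ = d * a₀ * (x * d⁻¹ * x⁻¹) * a₀⁻¹ by group,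
      hAA d hdA a₀ ha₀, mul_assoc a₀,
      hAA a₀ ha₀ _ (mul_mem hdA (hAn.conj_mem _ (inv_mem hdA) x)), mul_inv_cancel_right,
      commutatorElement_def]
    group
  have hdH : ⁅d, x⁆ ∈ H ⊓ A := Subgroup.mem_inf.2 ⟨by
    rw [← hdw, commutatorElement_def]
    exact mul_mem ((Subgroup.mem_normalizer_iff.1 hab w).1 hw) (inv_mem hw), hdx⟩
  have hB : ∀ e ∈ H ⊓ A, x * e * x⁻¹ ∈ H ⊓ A := by
    intro e he
    refine Subgroup.mem_inf.2 ⟨?_, hAn.conj_mem _ he.2 x⟩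
    have h1 : x * e * x⁻¹ = w * e * w⁻¹ := by
      rw [hw0, show a₀ * x * e * (a₀ * x)⁻¹ = a₀ * (x * e * x⁻¹) * a₀⁻¹ by group,
        hAA a₀ ha₀ _ (hAn.conj_mem _ he.2 x), mul_inv_cancel_right]
    rw [h1]
    exact mul_mem (mul_mem hw (Subgroup.mem_inf.1 he).1) (inv_mem hw)
  obtain ⟨e, he, -, hu⟩ := delta_bij hAn hAc hfix (H ⊓ A) inf_le_right hB _ hdH
  rw [hu d hdA rfl]
  exact he.1

theorem forward [Group.IsSolvable G] (hnn : ¬ Group.IsNilpotent G)
    (hS : ∀ H : Subgroup G, ¬ IsMulCommutative H → Subgroup.normalizer (H : Set G) = H) :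
    ∃ (x : G) (A : Subgroup G) (p : ℕ), p.Prime ∧ A.Normal ∧ IsMulCommutative A ∧
      (∃ k : ℕ, orderOf x = p ^ k) ∧
      ¬ p ∣ Nat.card A ∧ (Subgroup.zpowers x).IsComplement' A ∧ x ^ p ∈ Subgroup.center G ∧
      ∀ a : G, a ∈ A → a ≠ 1 → x * a * x⁻¹ ≠ a := by
  haveI : Nontrivial G := by
    by_contra h
    rw [not_nontrivial_iff_subsingleton] at h
    exact hnn inferInstance
  obtain ⟨M, hM⟩ : ∃ M, M.Normal ∧ M ≠ (⊤ : Subgroup G) ∧ M.index.Prime := by
    obtain ⟨M₀, hM₀⟩ : ∃ M₀, M₀ = commutator G := ⟨_, rfl⟩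
    have hlt : M₀ ≠ ⊤ := hM₀ ▸ (Group.IsSolvable.commutator_lt_top_of_nontrivial (G := G)).ne
    obtain ⟨p, hp, hpd⟩ := Nat.exists_prime_and_dvd (show M₀.index ≠ 1 from fun h =>
      hlt (Subgroup.index_eq_one.1 h))
    haveI := Fact.mk hp
    haveI : M₀.Normal := hM₀ ▸ inferInstance
    obtain ⟨K, ⟨hK0, hKp⟩, hKmax⟩ := (Set.toFinite {K : Subgroup G | M₀ ≤ K ∧ p ∣ K.index}).exists_maximal
      ⟨M₀, le_rfl, hpd⟩
    have hKn : K.Normal := ⟨fun a ha g => by
      have h1 : g * a * g⁻¹ = ⁅g, a⁆ * a := by rw [commutatorElement_def]; group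
      rw [h1]
      exact mul_mem (hK0 (hM₀ ▸ Subgroup.commutator_mem_commutator (Subgroup.mem_top g)
        (Subgroup.mem_top a))) ha⟩
    haveI := hKn
    refine ⟨K, hKn, fun h => by rw [h, Subgroup.index_top] at hKp; exact hp.not_dvd_one hKp, ?_⟩
    suffices hKi : K.index = p by rw [hKi]; exact hp
    by_contra hne
    haveI hcomm : IsMulCommutative (G ⧸ K) := ⟨⟨Solv.quotient_mul_comm K fun a b =>
      hK0 (hM₀ ▸ Subgroup.commutator_mem_commutator (Subgroup.mem_top a) (Subgroup.mem_top b))⟩⟩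
    obtain ⟨q, hq, hqd⟩ := Nat.exists_prime_and_dvd (show K.index / p ≠ 1 from fun h =>
      hne (by rw [← Nat.div_mul_cancel hKp, h, one_mul]))
    haveI := Fact.mk hq
    obtain ⟨y, hy⟩ := exists_prime_orderOf_dvd_card' (G := G ⧸ K) q
      (by rw [← Subgroup.index_eq_card]; exact hqd.trans (Nat.div_dvd_of_dvd hKp))
    refine absurd (hKmax (y := (Subgroup.zpowers y).comap (QuotientGroup.mk' K)) ⟨hK0.trans ?_, ?_⟩ ?_) ?_
    · intro a ha
      rw [Subgroup.mem_comap, QuotientGroup.mk'_apply, (QuotientGroup.eq_one_iff a).2 ha]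
      exact one_mem _
    · rw [Subgroup.index_comap_of_surjective _ (QuotientGroup.mk'_surjective K)]
      have h1 := (Subgroup.zpowers y).card_mul_index
      rw [Nat.card_zpowers, hy, ← Subgroup.index_eq_card] at h1
      obtain ⟨t, ht⟩ := hqd
      have h2 : q * (Subgroup.zpowers y).index = q * (t * p) := by
        rw [h1, ← mul_assoc, ← ht, Nat.div_mul_cancel hKp]
      rw [Nat.eq_of_mul_eq_mul_left hq.pos h2]
      exact dvd_mul_left p t
    · intro a ha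
      rw [Subgroup.mem_comap, QuotientGroup.mk'_apply, (QuotientGroup.eq_one_iff a).2 ha]
      exact one_mem _
    · intro hle
      obtain ⟨g, rfl⟩ := QuotientGroup.mk_surjective y
      rw [(QuotientGroup.eq_one_iff g).2 (hle (Subgroup.mem_zpowers _)), orderOf_one] at hy
      exact hq.one_lt.ne hy
  obtain ⟨hMn, hMt, hMp⟩ := hM
  obtain ⟨p, hpdef⟩ : ∃ p, p = M.index := ⟨_, rfl⟩
  rw [← hpdef] at hMp
  haveI := Fact.mk hMp
  haveI := hMn
  haveI hMc := normal_comm hS hMn hMt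
  -- the `p'`-part of `M`
  obtain ⟨A, hA⟩ : ∃ A : Subgroup G, ∀ a, a ∈ A ↔ a ∈ M ∧ (orderOf a).Coprime p :=
    ⟨{ carrier := {a | a ∈ M ∧ (orderOf a).Coprime p}
       one_mem' := ⟨one_mem M, by rw [orderOf_one]; exact Nat.coprime_one_left p⟩
       mul_mem' := fun {a b} ha hb => ⟨mul_mem ha.1 hb.1,
        Nat.Coprime.coprime_dvd_left (Commute.orderOf_mul_dvd_mul_orderOf
          (congrArg Subtype.val (hMc.is_comm.comm ⟨a, ha.1⟩ ⟨b, hb.1⟩))) (ha.2.mul_left hb.2)⟩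
       inv_mem' := fun {a} ha => ⟨inv_mem ha.1, by rw [orderOf_inv]; exact ha.2⟩ }, fun _ => Iff.rfl⟩
  haveI hAn : A.Normal := ⟨fun a ha g => (hA _).2 ⟨hMn.conj_mem a ((hA a).1 ha).1 g, by
    rw [show g * a * g⁻¹ = MulAut.conj g a from rfl, MulEquiv.orderOf_eq]
    exact ((hA a).1 ha).2⟩⟩
  have hAM : A ≤ M := fun a ha => ((hA a).1 ha).1
  have hAA : ∀ a ∈ A, ∀ b ∈ A, a * b = b * a := fun a ha b hb =>
    congrArg Subtype.val (hMc.is_comm.comm ⟨a, hAM ha⟩ ⟨b, hAM hb⟩)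
  haveI hAc : IsMulCommutative A := ⟨⟨fun a b => Subtype.ext (hAA a a.2 b b.2)⟩⟩
  have hpA : ¬ p ∣ Nat.card A := fun h => by
    obtain ⟨⟨a, ha⟩, hao⟩ := exists_prime_orderOf_dvd_card' p h
    have := ((hA a).1 ha).2
    rw [← Subgroup.orderOf_coe] at hao
    rw [show orderOf a = p from hao, Nat.coprime_self] at this
    exact hMp.ne_one this
  -- the quotient is a `p`-group
  have hQ : IsPGroup p (G ⧸ A) := by
    intro t
    induction t using QuotientGroup.induction_on with | _ g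
    have hgp : g ^ p ∈ M := hpdef ▸ M.pow_index_mem g
    obtain ⟨e, m, hm, he⟩ := Nat.exists_eq_pow_mul_and_not_dvd (orderOf_pos (g ^ p)).ne' p hMp.ne_one
    refine ⟨e + 1, ?_⟩
    rw [← QuotientGroup.mk_pow, QuotientGroup.eq_one_iff, hA, pow_succ', pow_mul]
    refine ⟨pow_mem hgp _, Nat.Coprime.coprime_dvd_left ?_ ((hMp.coprime_iff_not_dvd).2 hm).symm⟩
    refine orderOf_dvd_of_pow_eq_one ?_
    rw [← pow_mul, ← he, pow_orderOf_eq_one]
  -- a `p`-element outside `M`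
  obtain ⟨x, hxM, k, hk⟩ : ∃ x, x ∉ M ∧ ∃ k, orderOf x = p ^ k := by
    obtain ⟨P⟩ : Nonempty (Sylow p G) := inferInstance
    have hPM : ¬ (P : Subgroup G) ≤ M := fun h => by
      have h1 := Subgroup.index_dvd_of_le h
      exact P.not_dvd_index ((hpdef ▸ dvd_refl p : p ∣ M.index).trans h1)
    obtain ⟨x, hx, hxM⟩ := SetLike.not_le_iff_exists.1 hPM
    obtain ⟨k, hk⟩ := IsPGroup.iff_orderOf.1 P.isPGroup' ⟨x, hx⟩
    exact ⟨x, hxM, k, by rw [← Subgroup.orderOf_coe] at hk; exact hk⟩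
  have hMx : M ⊔ Subgroup.zpowers x = ⊤ := by
    rcases (Nat.dvd_prime hMp).1 (hpdef ▸ Subgroup.index_dvd_of_le
      (le_sup_left : M ≤ M ⊔ Subgroup.zpowers x)) with h | h
    · exact Subgroup.index_eq_one.1 h
    · refine absurd ?_ hxM
      have : M = M ⊔ Subgroup.zpowers x := by
        refine Subgroup.eq_of_le_of_card_ge le_sup_left (le_of_eq ?_)
        have h1 := M.card_mul_index
        rw [← hpdef, ← (M ⊔ Subgroup.zpowers x).card_mul_index, h] at h1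
        exact (Nat.eq_of_mul_eq_mul_right hMp.pos h1).symm
      exact this ▸ Subgroup.mem_sup_right (Subgroup.mem_zpowers x)
  have hgen : ∀ (T : Subgroup G), M ≤ T → x ∈ T → ∀ g, g ∈ T := fun T h1 h2 g =>
    (sup_le h1 (Subgroup.zpowers_le.2 h2) : M ⊔ Subgroup.zpowers x ≤ T) (hMx ▸ Subgroup.mem_top g)
  have hMcent : ∀ v, v ∈ M → x * v = v * x → v ∈ Subgroup.center G := fun v hv hxv =>
    Subgroup.mem_center_iff.2 fun g => Subgroup.mem_centralizer_singleton_iff.1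
      (hgen (Subgroup.centralizer {v}) (fun u hu => Subgroup.mem_centralizer_singleton_iff.2
        (congrArg Subtype.val (hMc.is_comm.comm ⟨u, hu⟩ ⟨v, hv⟩)))
        (Subgroup.mem_centralizer_singleton_iff.2 hxv) g)
  have hxp : x ^ p ∈ Subgroup.center G :=
    hMcent _ (hpdef ▸ M.pow_index_mem x) ((Commute.refl x).pow_right p).eq
  -- `x` does not centralize `A`
  obtain ⟨a₁, ha₁, ha₁x⟩ : ∃ a ∈ A, ⁅a, x⁆ ≠ 1 := by
    by_contra hall
    simp only [not_exists, not_and, not_not] at hall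
    have hAZ : A ≤ Subgroup.center G := fun a ha =>
      hMcent a (hAM ha) (commutatorElement_eq_one_iff_mul_comm.1 (hall a ha)).symm
    refine hnn ?_
    haveI := hQ.isNilpotent
    exact Subgroup.isNilpotent_of_ker_le_center (QuotientGroup.mk' A) (by rw [QuotientGroup.ker_mk']; exact hAZ)
  -- `G = A ⟨x⟩`
  obtain ⟨W, hW⟩ : ∃ W, W = A ⊔ Subgroup.zpowers x := ⟨_, rfl⟩
  have hWna : ¬ IsMulCommutative W := fun h => ha₁x (commutatorElement_eq_one_iff_mul_comm.2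
    (congrArg Subtype.val (h.is_comm.comm ⟨a₁, hW ▸ Subgroup.mem_sup_left ha₁⟩
      ⟨x, hW ▸ Subgroup.mem_sup_right (Subgroup.mem_zpowers x)⟩)))
  have hWtop : W = ⊤ := by
    by_contra hne
    haveI := hQ.isNilpotent
    have hAW : A ≤ W := hW ▸ le_sup_left
    have h1 : W.map (QuotientGroup.mk' A) ≠ ⊤ := fun h => hne (by
      have h2 := congrArg (Subgroup.comap (QuotientGroup.mk' A)) h
      rwa [Subgroup.comap_map_eq_self (by rw [QuotientGroup.ker_mk']; exact hAW), Subgroup.comap_top] at h2)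
    have h3 := Group.normalizerCondition_of_isNilpotent _ h1.lt_top
    refine h3.ne ?_
    have h4 := hS W hWna
    nth_rewrite 1 [← h4]
    have hcm : W = (W.map (QuotientGroup.mk' A)).comap (QuotientGroup.mk' A) :=
      (Subgroup.comap_map_eq_self (by rw [QuotientGroup.ker_mk']; exact hAW)).symm
    conv_lhs => rw [hcm, ← Subgroup.comap_normalizer_eq_of_surjective _ (QuotientGroup.mk'_surjective A),
      Subgroup.map_comap_eq_self_of_surjective (QuotientGroup.mk'_surjective A)]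
  have hAx : A ⊔ Subgroup.zpowers x = ⊤ := hW ▸ hWtop
  have hinf : A ⊓ Subgroup.zpowers x = ⊥ := Solv.coprime_inf (by
    rw [Nat.card_zpowers, hk]
    exact Nat.Coprime.pow_right k ((hMp.coprime_iff_not_dvd).2 hpA).symm)
  refine ⟨x, A, p, hMp, hAn, hAc, ⟨k, hk⟩, hpA, ?_, hxp, ?_⟩
  · exact (Subgroup.isComplement'_of_disjoint_and_mul_eq_univ (disjoint_iff.2 hinf)
      (by rw [← Subgroup.normal_mul, hAx, Subgroup.coe_top])).symm
  -- fixed-point-freeness
  obtain ⟨δ, hδ⟩ : ∃ δ : A →* A, ∀ a : A, ((δ a : A) : G) = ⁅(a : G), x⁆ := by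
    have hmem : ∀ a : A, ⁅(a : G), x⁆ ∈ A := fun a => by
      rw [commutatorElement_def, show (a : G) * x * (a : G)⁻¹ * x⁻¹ = a * (x * (a : G)⁻¹ * x⁻¹) by group]
      exact mul_mem a.2 (hAn.conj_mem _ (inv_mem a.2) x)
    refine ⟨MonoidHom.mk' (fun a => ⟨⁅(a : G), x⁆, hmem a⟩) fun a b => Subtype.ext ?_, fun _ => rfl⟩
    have h1 : ⁅(a : G) * b, x⁆ = a * ⁅(b : G), x⁆ * (a : G)⁻¹ * ⁅(a : G), x⁆ := by
      simp only [commutatorElement_def]; group
    show ⁅(a : G) * b, x⁆ = ⁅(a : G), x⁆ * ⁅(b : G), x⁆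
    rw [h1, hAA a a.2 _ (hmem b), mul_inv_cancel_right, hAA _ (hmem b) _ (hmem a)]
  obtain ⟨K, hK⟩ : ∃ K, K = δ.range.map A.subtype := ⟨_, rfl⟩
  have hKA : K ≤ A := hK ▸ Subgroup.map_subtype_le _
  have hKmem : ∀ a ∈ A, ⁅a, x⁆ ∈ K := fun a ha => hK ▸ ⟨δ ⟨a, ha⟩, ⟨_, rfl⟩, hδ _⟩
  obtain ⟨H, hH⟩ : ∃ H, H = K ⊔ Subgroup.zpowers x := ⟨_, rfl⟩
  have hxH : x ∈ H := hH ▸ Subgroup.mem_sup_right (Subgroup.mem_zpowers x)
  have hKH : K ≤ H := hH ▸ le_sup_left
  have hKsurj : ∀ u ∈ K, ∃ a ∈ A, ⁅a, x⁆ = u := by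
    intro u hu
    rw [hK] at hu
    obtain ⟨_, ⟨a, rfl⟩, hau⟩ := hu
    exact ⟨a, a.2, (hδ a).symm.trans hau⟩
  have hsurj : ∀ u ∈ A, ∃ a ∈ A, ⁅a, x⁆ = u := by
    have hHn : Subgroup.normalizer (H : Set G) = ⊤ := by
      rw [eq_top_iff, ← hAx]
      refine sup_le (fun a ha => Subgroup.mem_normalizer_fintype fun h hh => ?_)
        (Subgroup.zpowers_le.2 (Subgroup.le_normalizer hxH))
      rw [hH] at hh
      have hle : K ⊔ Subgroup.zpowers x ≤ H.comap (MulAut.conj a).toMonoidHom := sup_le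
        (fun u hu => by
          show a * u * a⁻¹ ∈ H
          rw [hAA a ha u (hKA hu), mul_inv_cancel_right]
          exact hKH hu)
        (Subgroup.zpowers_le.2 (by
          show a * x * a⁻¹ ∈ H
          rw [show a * x * a⁻¹ = ⁅a, x⁆ * x by rw [commutatorElement_def]; group]
          exact mul_mem (hKH (hKmem a ha)) hxH))
      exact hle hh
    have hHna : ¬ IsMulCommutative H := fun h => by
      have hcx : ⁅a₁, x⁆ * x = x * ⁅a₁, x⁆ := congrArg Subtype.val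
        (h.is_comm.comm ⟨_, hKH (hKmem a₁ ha₁)⟩ ⟨x, hxH⟩)
      have h1 : a₁ * x * a₁⁻¹ = ⁅a₁, x⁆ * x := by rw [commutatorElement_def]; group
      have h2 : ⁅a₁, x⁆ ^ orderOf x = 1 := by
        have h3 : (a₁ * x * a₁⁻¹) ^ orderOf x = 1 := by
          rw [conj_pow, pow_orderOf_eq_one, mul_one, mul_inv_cancel]
        rwa [h1, (show Commute ⁅a₁, x⁆ x from hcx).mul_pow, pow_orderOf_eq_one, mul_one] at h3
      refine ha₁x (orderOf_eq_one_iff.1 (Nat.eq_one_of_dvd_coprimes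
        (((hA _).1 (hKA (hKmem a₁ ha₁))).2.pow_right k) dvd_rfl ?_))
      exact hk ▸ orderOf_dvd_of_pow_eq_one h2
    have hHtop : H = ⊤ := (hS H hHna).symm.trans hHn
    intro u hu
    haveI : K.Normal := ⟨fun v hv g => by
      have hg : g ∈ Subgroup.normalizer (K : Set G) := by
        refine (sup_le ?_ (Subgroup.zpowers_le.2 ?_) : A ⊔ Subgroup.zpowers x ≤ _) (hAx ▸ Subgroup.mem_top g)
        · refine fun a ha => Subgroup.mem_normalizer_fintype fun w hw => ?_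
          show a * w * a⁻¹ ∈ K
          rw [hAA a ha w (hKA hw), mul_inv_cancel_right]
          exact hw
        · refine Subgroup.mem_normalizer_fintype fun w hw => ?_
          obtain ⟨a, ha, rfl⟩ := hKsurj w hw
          have h5 : x * ⁅a, x⁆ * x⁻¹ = ⁅x * a * x⁻¹, x⁆ := by
            simp only [commutatorElement_def]; group
          rw [h5]
          exact hKmem _ (hAn.conj_mem a ha x)
      exact (Subgroup.mem_normalizer_iff.1 hg v).1 hv⟩
    have hu' : u ∈ ((K ⊔ Subgroup.zpowers x : Subgroup G) : Set G) := by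
      rw [← hH, hHtop]; trivial
    rw [Subgroup.normal_mul] at hu'
    obtain ⟨v, hv, w, hw, rfl⟩ := hu'
    have : w ∈ A ⊓ Subgroup.zpowers x := ⟨by simpa using mul_mem (inv_mem (hKA hv)) hu, hw⟩
    rw [hinf, Subgroup.mem_bot] at this
    show ∃ a ∈ A, ⁅a, x⁆ = v * w
    rw [this, mul_one]
    exact hKsurj v hv
  have hinj : Function.Injective δ := Finite.injective_iff_surjective.2 fun u => by
    obtain ⟨a, ha, hau⟩ := hsurj u u.2
    exact ⟨⟨a, ha⟩, Subtype.ext ((hδ _).trans hau)⟩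
  intro a ha ha1 hfix
  refine ha1 (congrArg Subtype.val (hinj (a₁ := ⟨a, ha⟩) (a₂ := 1) ?_))
  refine Subtype.ext ?_
  rw [hδ, hδ, Subgroup.coe_one, commutatorElement_one_left]
  rw [commutatorElement_eq_one_iff_mul_comm]
  exact (mul_inv_eq_iff_eq_mul.1 hfix).symm

/-- Let G be a finite solvable non-nilpotent group. Every non-abelian subgroup of G is self-normalizing if and only if G is a semidirect product ⟨x⟩ ⋉ A in which ⟨x⟩ is a p-group for some prime p, A is a normal abelian subgroup of order prime to p, x^p is central in G, and x acts fixed-point-freely on A (no non-identity element of A commutes with x). -/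
theorem result {G : Type*} [Group G] [Finite G]
    [Group.IsSolvable G] (hnn : ¬ Group.IsNilpotent G) :
    (∀ H : Subgroup G, ¬ IsMulCommutative H → Subgroup.normalizer (H : Set G) = H) ↔
    ∃ (x : G) (A : Subgroup G) (p : ℕ), p.Prime ∧ A.Normal ∧ IsMulCommutative A ∧ (∃ k : ℕ, orderOf x = p ^ k) ∧
      ¬ p ∣ Nat.card A ∧ (Subgroup.zpowers x).IsComplement' A ∧ x ^ p ∈ Subgroup.center G ∧
      ∀ a : G, a ∈ A → a ≠ 1 → x * a * x⁻¹ ≠ a := by
  constructor
  · exact forward hnn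
  · rintro ⟨x, A, p, hp, hAn, hAc, ⟨k, hk⟩, hpA, hcomp, hxp, hfix⟩
    exact backward hp hAn hAc hk hcomp hxp hfix

end Cfsg.Agent.S4071
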