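import Cfsg.Statements.S4072
import Cfsg.Agent.Lib.Fusion.NPC
import Cfsg.Agent.Lib.Solv.Basic

set_option autoImplicit false
set_option linter.style.haveILetI false
open Cfsg

open scoped Pointwise commutatorElement

namespace Cfsg.Agent.S4072

variable {G : Type*} [Group G] [Finite G]

theorem perfect_of_selfNormalizing
    (hS : ∀ H : Subgroup G, ¬ IsMulCommutative H → Subgroup.normalizer (H : Set G) = H)
    (hsol : ¬ Group.IsSolvable G) : commutator G = ⊤ := by
  obtain ⟨_, ⟨n, rfl⟩, hn'⟩ := Set.exists_min_image (Set.range (derivedSeries G))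
    (fun H : Subgroup G => Nat.card H) (Set.toFinite _) ⟨_, ⟨0, rfl⟩⟩
  have hn : ∀ m, Nat.card (derivedSeries G n) ≤ Nat.card (derivedSeries G m) := fun m => hn' _ ⟨m, rfl⟩
  have hfix : derivedSeries G (n + 1) = derivedSeries G n :=
    Subgroup.eq_of_le_of_card_ge (derivedSeries_antitone G (Nat.le_succ n)) (hn _)
  rw [derivedSeries_succ] at hfix
  haveI := derivedSeries_normal G n
  have htop : derivedSeries G n = ⊤ := by
    by_cases hna : IsMulCommutative (derivedSeries G n)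
    · refine absurd ⟨⟨n + 1, ?_⟩⟩ hsol
      rw [derivedSeries_succ, Subgroup.commutator_eq_bot_iff_le_centralizer]
      exact Subgroup.le_centralizer_iff_isMulCommutative.2 hna
    · rw [← hS _ hna, Subgroup.normalizer_eq_top_iff.2 inferInstance]
  rwa [htop] at hfix

omit [Finite G] in
theorem normal_comm (hS : ∀ H : Subgroup G, ¬ IsMulCommutative H → Subgroup.normalizer (H : Set G) = H)
    {N : Subgroup G} (hN : N.Normal) (hNt : N ≠ ⊤) : IsMulCommutative N := by
  by_contra h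
  exact hNt ((hS N h).symm.trans (Subgroup.normalizer_eq_top_iff.2 hN))

theorem not_hnpc_of_perfect {p : ℕ} [Fact p.Prime] (hperf : commutator G = ⊤)
    (hpd : p ∣ Nat.card G) : ¬ Cfsg.HasNormalPComplement p G := by
  intro h
  have hR : Cfsg.pResidual p G ≠ ⊤ := fun e => by
    have h1 := Fusion.hnpc_iff.1 h
    rw [e, Subgroup.card_top, Nat.coprime_comm, (Fact.out : p.Prime).coprime_iff_not_dvd] at h1
    exact h1 hpd
  have hQ := Fusion.isPGroup_quotient_pResidual (p := p) (G := G)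
  haveI : Group.IsNilpotent (G ⧸ Cfsg.pResidual p G) := hQ.isNilpotent
  haveI : Nontrivial (G ⧸ Cfsg.pResidual p G) := QuotientGroup.nontrivial_iff.2 hR
  refine (Group.IsSolvable.commutator_lt_top_of_nontrivial (G := G ⧸ Cfsg.pResidual p G)).ne ?_
  rw [commutator_def, ← Subgroup.map_top_of_surjective _ (QuotientGroup.mk'_surjective _),
    ← Subgroup.map_commutator, ← commutator_def, hperf]

theorem center_eq_bot (hS : ∀ H : Subgroup G, ¬ IsMulCommutative H → Subgroup.normalizer (H : Set G) = H)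
    (hperf : commutator G = ⊤) : Subgroup.center G = ⊥ := by
  by_contra hZ
  obtain ⟨p, hp, hpd⟩ := Nat.exists_prime_and_dvd (show Nat.card (Subgroup.center G) ≠ 1 from
    fun h => hZ (Subgroup.eq_bot_of_card_eq _ h))
  haveI := Fact.mk hp
  obtain ⟨⟨z, hz⟩, hzo⟩ := exists_prime_orderOf_dvd_card' p hpd
  rw [← Subgroup.orderOf_coe] at hzo
  change orderOf z = p at hzo
  have hzc : ∀ g, g * z = z * g := Subgroup.mem_center_iff.1 hz
  refine not_hnpc_of_perfect hperf (hpd.trans (Subgroup.card_subgroup_dvd_card _)) ?_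
  obtain ⟨T, hT⟩ := Fusion.exists_sylIn (p := p) (⊤ : Subgroup G)
  refine Fusion.hnpc_of_centralize hT fun Q hQT g hg hgp => ?_
  have hQ : IsPGroup p Q := IsPGroup.to_le hT.isPGroup hQT
  by_cases hQc : IsMulCommutative Q
  swap
  · rw [hS Q hQc] at hg
    have hg1 : g = 1 := by
      obtain ⟨k, hk⟩ := (IsPGroup.iff_orderOf.1 hQ) ⟨g, hg⟩
      rw [← Subgroup.orderOf_coe] at hk
      change orderOf g = p ^ k at hk
      rw [hk] at hgp
      refine orderOf_eq_one_iff.1 ?_
      rw [hk]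
      rcases Nat.eq_zero_or_pos k with rfl | h
      · rw [pow_zero]
      · exact absurd ((Nat.coprime_pow_left_iff h _ _).1 hgp) (by
          rw [Nat.coprime_self]; exact hp.ne_one)
    rw [hg1]; exact one_mem _
  have hQQ : ∀ a ∈ Q, ∀ b ∈ Q, a * b = b * a := fun a ha b hb =>
    congrArg Subtype.val (hQc.is_comm.comm ⟨a, ha⟩ ⟨b, hb⟩)
  have hgi : g⁻¹ ∈ Subgroup.normalizer (Q : Set G) := inv_mem hg
  have hconj : ∀ q ∈ Q, g * q * g⁻¹ ∈ Q := fun q hq => (Subgroup.mem_normalizer_iff.1 hg q).1 hq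
  obtain ⟨δ, hδ⟩ : ∃ δ : Q →* G, ∀ q : Q, δ q = (q : G) * (g * q * g⁻¹)⁻¹ :=
    ⟨MonoidHom.mk' (fun q : Q => (q : G) * (g * q * g⁻¹)⁻¹) fun a b => by
      have e := hQQ b b.2 _ (mul_mem (inv_mem (hconj b b.2)) (inv_mem (hconj a a.2)))
      calc ((a : G) * b) * (g * ((a : G) * b) * g⁻¹)⁻¹
          = a * (b * ((g * b * g⁻¹)⁻¹ * (g * a * g⁻¹)⁻¹)) := by group
        _ = a * ((g * b * g⁻¹)⁻¹ * (g * a * g⁻¹)⁻¹ * b) := by rw [e]
        _ = a * ((g * a * g⁻¹)⁻¹ * (g * b * g⁻¹)⁻¹ * b) := by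
          rw [hQQ _ (inv_mem (hconj b b.2)) _ (inv_mem (hconj a a.2))]
        _ = (a * (g * a * g⁻¹)⁻¹) * ((g * b * g⁻¹)⁻¹ * b) := by group
        _ = _ := by rw [hQQ _ (inv_mem (hconj b b.2)) _ b.2],
      fun _ => rfl⟩
  -- a value of `δ` commuting with `g` is trivial
  have key : ∀ q : Q, g * δ q = δ q * g → δ q = 1 := by
    intro q hq
    have hk : δ q ∈ Q := hδ q ▸ mul_mem q.2 (inv_mem (hconj q q.2))
    have h1 : (q : G) * g * (q : G)⁻¹ = δ q * g := by rw [hδ]; group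
    have h2 : (δ q) ^ orderOf g = 1 := by
      have h3 : ((q : G) * g * (q : G)⁻¹) ^ orderOf g = 1 := by
        rw [conj_pow, pow_orderOf_eq_one, mul_one, mul_inv_cancel]
      rwa [h1, (show Commute (δ q) g from hq.symm).mul_pow, pow_orderOf_eq_one, mul_one] at h3
    obtain ⟨k, hk'⟩ := (IsPGroup.iff_orderOf.1 hQ) ⟨δ q, hk⟩
    rw [← Subgroup.orderOf_coe] at hk'
    refine orderOf_eq_one_iff.1 (Nat.eq_one_of_dvd_coprimes hgp (orderOf_dvd_of_pow_eq_one h2) ?_)
    rcases Nat.eq_zero_or_pos k with rfl | h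
    · rw [show orderOf (δ q) = 1 from hk'.trans (pow_zero p)]; exact one_dvd _
    · exfalso
      have h4 : orderOf (δ q) ∣ orderOf g := orderOf_dvd_of_pow_eq_one h2
      rw [show orderOf (δ q) = p ^ k from hk'] at h4
      exact hp.ne_one (Nat.eq_one_of_dvd_coprimes hgp ((dvd_pow_self p h.ne').trans h4) dvd_rfl)
  by_contra hgc
  obtain ⟨q₀, hq₀⟩ : ∃ q : Q, δ q ≠ 1 := by
    by_contra hall
    simp only [not_exists, not_not] at hall
    refine hgc (Subgroup.mem_centralizer_iff.2 fun x hx => ?_)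
    have h := (hδ ⟨x, hx⟩).symm.trans (hall _)
    rw [mul_inv_eq_one, eq_mul_inv_iff_mul_eq] at h
    exact h
  obtain ⟨H, hH⟩ : ∃ H, H = δ.range ⊔ Subgroup.zpowers g := ⟨_, rfl⟩
  have hgn : Subgroup.zpowers g ≤ Subgroup.normalizer (δ.range : Set G) := by
    rw [Subgroup.zpowers_le]
    refine Subgroup.mem_normalizer_fintype ?_
    rintro _ ⟨q, rfl⟩
    exact ⟨⟨g * q * g⁻¹, hconj q q.2⟩, by rw [hδ, hδ]; group⟩
  have hna : ¬ IsMulCommutative H := fun hc => hq₀ (key q₀ (congrArg Subtype.val (hc.is_comm.comm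
    ⟨g, hH ▸ Subgroup.mem_sup_right (Subgroup.mem_zpowers g)⟩
    ⟨δ q₀, hH ▸ Subgroup.mem_sup_left ⟨q₀, rfl⟩⟩)))
  have hzH : z ∈ H := by
    rw [← hS H hna]
    refine Subgroup.mem_normalizer_iff.2 fun w => ?_
    rw [← hzc w, mul_inv_cancel_right]
  have hzH' : z ∈ ((δ.range ⊔ Subgroup.zpowers g : Subgroup G) : Set G) := hH ▸ hzH
  rw [Subgroup.coe_mul_of_right_le_normalizer_left _ _ hgn] at hzH'
  obtain ⟨_, ⟨q, rfl⟩, y, ⟨i, rfl⟩, hqy⟩ := hzH'
  replace hqy : δ q * g ^ i = z := hqy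
  -- the power of `g` is a `p`-element
  have hgi1 : g ^ i = 1 := by
    have hk : δ q ∈ Q := hδ q ▸ mul_mem q.2 (inv_mem (hconj q q.2))
    obtain ⟨k, hk'⟩ := hQ ⟨δ q, hk⟩
    have hk2 : (δ q) ^ p ^ (k + 1) = 1 := by
      rw [pow_succ, pow_mul, show (δ q) ^ p ^ k = 1 from congrArg Subtype.val hk', one_pow]
    have hz2 : z ^ p ^ (k + 1) = 1 := by
      rw [pow_succ', pow_mul, ← hzo, pow_orderOf_eq_one, one_pow]
    have h5 : g ^ i = (δ q)⁻¹ * z := by rw [← hqy]; group
    have h6 : (g ^ i) ^ p ^ (k + 1) = 1 := by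
      rw [h5, (show Commute (δ q)⁻¹ z from hzc _).mul_pow, hz2, inv_pow, hk2, inv_one, one_mul]
    refine orderOf_eq_one_iff.1 (Nat.eq_one_of_dvd_coprimes (hgp.pow_right (k + 1)) ?_
      (orderOf_dvd_of_pow_eq_one h6))
    exact orderOf_dvd_of_pow_eq_one (by
      rw [← zpow_natCast, ← zpow_mul, mul_comm, zpow_mul, zpow_natCast, pow_orderOf_eq_one, one_zpow])
  rw [hgi1, mul_one] at hqy
  have := key q (by rw [hqy]; exact hzc g)
  rw [hqy] at this
  rw [this, orderOf_one] at hzo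
  exact hp.one_lt.ne hzo

/-- A finite group in which every non-abelian subgroup is self-normalizing is solvable or simple. -/
theorem result {G : Type*} [Group G] [Finite G] (hS : ∀ H : Subgroup G, ¬ IsMulCommutative H → Subgroup.normalizer (H : Set G) = H) :
    Group.IsSolvable G ∨ IsSimpleGroup G := by
  by_cases hsol : Group.IsSolvable G
  · exact Or.inl hsol
  right
  have hperf := perfect_of_selfNormalizing hS hsol
  haveI : Nontrivial G := by
    by_contra h
    rw [not_nontrivial_iff_subsingleton] at h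
    exact hsol (Group.isSolvable_of_top_eq_bot _ (Subsingleton.elim _ _))
  refine ⟨fun N hN => ?_⟩
  by_contra hcon
  obtain ⟨hN1, hN2⟩ := not_or.1 hcon
  obtain ⟨M, hM⟩ := (Set.toFinite {M : Subgroup G | M.Normal ∧ M ≠ ⊤ ∧ N ≤ M}).exists_maximal
    ⟨N, hN, hN2, le_rfl⟩
  obtain ⟨⟨hMn, hMt, hNM⟩, hMmax⟩ := hM
  have hMab := normal_comm hS hMn hMt
  have hMb : M ≠ ⊥ := fun h => hN1 (le_bot_iff.1 (h ▸ hNM))
  have hCM : M ≤ Subgroup.centralizer (M : Set G) := Subgroup.le_centralizer_iff_isMulCommutative.2 hMab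
  have hC : Subgroup.centralizer (M : Set G) = M := by
    by_cases hCt : Subgroup.centralizer (M : Set G) = ⊤
    · exfalso
      refine hMb (le_bot_iff.1 (le_trans ?_ (center_eq_bot hS hperf).le))
      rw [← top_le_iff, Subgroup.le_centralizer_iff, Subgroup.coe_top, Subgroup.centralizer_univ] at hCt
      exact hCt
    · exact le_antisymm (hMmax ⟨inferInstance, hCt, hNM.trans hCM⟩ hCM) hCM
  obtain ⟨p, hp, hpd⟩ := Nat.exists_prime_and_dvd (show Nat.card (G ⧸ M) ≠ 1 from fun h =>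
    hMt (Subgroup.index_eq_one.1 (by rw [Subgroup.index_eq_card]; exact h)))
  haveI := Fact.mk hp
  have hself : ∀ L : Subgroup (G ⧸ M), L ≠ ⊥ → Subgroup.normalizer (L : Set (G ⧸ M)) = L := by
    intro L hL
    have hna : ¬ IsMulCommutative (L.comap (QuotientGroup.mk' M)) := fun hc => by
      refine hL ?_
      have hle : L.comap (QuotientGroup.mk' M) ≤ M := by
        refine le_of_le_of_eq (le_trans (Subgroup.le_centralizer_iff_isMulCommutative.2 hc)
          (Subgroup.centralizer_le ?_)) hC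
        intro m hm
        show QuotientGroup.mk' M m ∈ L
        rw [QuotientGroup.mk'_apply, (QuotientGroup.eq_one_iff m).2 hm]
        exact one_mem L
      rw [← Subgroup.map_comap_eq_self_of_surjective (QuotientGroup.mk'_surjective M) L,
        Subgroup.map_eq_bot_iff, QuotientGroup.ker_mk']
      exact hle
    have h1 := hS _ hna
    rw [← Subgroup.comap_normalizer_eq_of_surjective _ (QuotientGroup.mk'_surjective M)] at h1
    exact Subgroup.comap_injective (QuotientGroup.mk'_surjective M) h1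
  obtain ⟨P⟩ : Nonempty (Sylow p (G ⧸ M)) := inferInstance
  have hPb : (P : Subgroup (G ⧸ M)) ≠ ⊥ := P.ne_bot_of_dvd_card hpd
  haveI : Nontrivial (P : Subgroup (G ⧸ M)) := (Subgroup.nontrivial_iff_ne_bot _).2 hPb
  haveI := P.isPGroup'.center_nontrivial
  have hPc : ∀ a ∈ (P : Subgroup (G ⧸ M)), ∀ b ∈ (P : Subgroup (G ⧸ M)), a * b = b * a := by
    obtain ⟨⟨z, hz⟩, hz1⟩ := exists_ne (1 : Subgroup.center (P : Subgroup (G ⧸ M)))
    have hP : ∀ a ∈ (P : Subgroup (G ⧸ M)), a ∈ Subgroup.zpowers (z : G ⧸ M) := by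
      intro a ha
      rw [← hself (Subgroup.zpowers (z : G ⧸ M)) fun h => hz1 (Subtype.ext (Subtype.ext
        (by exact Subgroup.zpowers_eq_bot.1 h)))]
      refine Subgroup.mem_normalizer_iff.2 fun w => ?_
      have hc : ∀ x ∈ Subgroup.zpowers (z : G ⧸ M), a * x = x * a := by
        rintro _ ⟨i, rfl⟩
        exact ((show Commute a (z : G ⧸ M) from
          congrArg Subtype.val (Subgroup.mem_center_iff.1 hz ⟨a, ha⟩)).zpow_right i).eq
      refine ⟨fun hw => ?_, fun hw => ?_⟩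
      · rw [hc w hw, mul_inv_cancel_right]; exact hw
      · have h2 : w = a⁻¹ * (a * w * a⁻¹) * a := by group
        rw [h2, mul_assoc, ← hc _ hw, inv_mul_cancel_left]; exact hw
    intro a ha b hb
    obtain ⟨i, rfl⟩ := hP a ha
    obtain ⟨j, rfl⟩ := hP b hb
    exact (Commute.zpow_zpow_self (z : G ⧸ M) i j).eq
  have hNPC : Cfsg.HasNormalPComplement p (G ⧸ M) :=
    Fusion.hnpc_of_normalizer_le_centralizer P fun a ha => by
      have ha' : a ∈ (P : Subgroup (G ⧸ M)) := hself _ hPb ▸ ha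
      exact Subgroup.mem_centralizer_iff.2 fun b hb => (hPc a ha' b hb).symm
  refine not_hnpc_of_perfect ?_ hpd hNPC
  rw [commutator_def, ← Subgroup.map_top_of_surjective _ (QuotientGroup.mk'_surjective M),
    ← Subgroup.map_commutator, ← commutator_def, hperf]

end Cfsg.Agent.S4072
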