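import Cfsg.Statements.S4073
import Cfsg.Agent.Lib.Solv.SelfNormalizingForward
import Cfsg.Agent.Lib.Solv.SelfNormalizingConverse
import Cfsg.Agent.Lib.Solv.SelfNormalizingOdd
-- import your own Cfsg.Agent.* helpers here

set_option autoImplicit false
open Cfsg

namespace Cfsg.Agent.S4073

/-- Let G be a finite non-abelian simple group. Every non-abelian subgroup of G is self-normalizing if and only if G is isomorphic to PSL₂(2ⁿ) for some n ≥ 2 with 2ⁿ − 1 prime (this includes the alternating group of degree 5 as PSL₂(4)). -/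
theorem result {G : Type*} [Group G] [Finite G] [IsSimpleGroup G]
    (hna : ¬ IsMulCommutative G) :
    (∀ H : Subgroup G, ¬ IsMulCommutative H → Subgroup.normalizer (H : Set G) = H) ↔
    ∃ n : ℕ, 2 ≤ n ∧ (2 ^ n - 1).Prime ∧ Nonempty (G ≃* Matrix.ProjectiveSpecialLinearGroup (Fin 2) (GaloisField 2 n)) := by
  classical
  open Cfsg.Agent.Solv.SelfNorm in
  constructor
  · intro h
    have hsn : SN G := fun H hH => h H fun hc => hH ((ab_iff H).2 hc)
    have hnab : ¬ Ab (⊤ : Subgroup G) := fun hab =>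
      hna ⟨⟨fun a b => hab a (Subgroup.mem_top a) b (Subgroup.mem_top b)⟩⟩
    have h2 : 2 ∣ Nat.card G := by
      by_contra hodd
      have hsol := isSolvable_of_sn (Nat.card G) G rfl
        (Nat.odd_iff.2 (by omega)) hsn
      exact hna ⟨⟨fun a b => IsSimpleGroup.comm_iff_isSolvable.2 hsol a b⟩⟩
    haveI : Fact (Nat.Prime 2) := ⟨Nat.prime_two⟩
    obtain ⟨t, ht⟩ := exists_prime_orderOf_dvd_card' (G := G) 2 h2
    exact forward_aux ⟨inferInstance, hsn, hnab, h2⟩ ht
  · rintro ⟨n, hn, hp, ⟨e⟩⟩ H hH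
    have hP := psl_sn hn hp
    have h1 : ¬ Ab (H.map e.toMonoidHom) := fun hab => hH ((ab_iff H).1 fun a ha b hb =>
      e.injective (by
        rw [map_mul, map_mul]
        exact hab _ (Subgroup.mem_map_of_mem _ ha) _ (Subgroup.mem_map_of_mem _ hb)))
    refine le_antisymm (fun x hx => ?_) Subgroup.le_normalizer
    have h2 := mem_normalizer_map e.toMonoidHom hx
    rw [hP _ h1] at h2
    obtain ⟨z, hz, hzx⟩ := h2
    rw [← e.injective hzx]
    exact hz

end Cfsg.Agent.S4073
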