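import Cfsg.Statements.S4074

set_option autoImplicit false
set_option linter.style.haveILetI false
open Cfsg

open scoped Pointwise commutatorElement

namespace Cfsg.Agent.S4074

open DihedralGroup

theorem r_pow' {n : ℕ} (i : ZMod n) (k : ℕ) : (r i : DihedralGroup n) ^ k = r (i * (k : ZMod n)) := by
  induction k with
  | zero => rw [pow_zero, Nat.cast_zero, mul_zero]; rfl
  | succ k ih => rw [pow_succ, ih, r_mul_r, Nat.cast_succ]; ring_nf

theorem conj_sr_r {n : ℕ} (i j : ZMod n) : sr i * r j * (sr i)⁻¹ = r (-j) := by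
  rw [inv_sr, sr_mul_r, sr_mul_sr]; ring_nf

/-- The kernel of reduction of indices modulo `d`. -/
def evenPart {n : ℕ} (d : ℕ) (hd : d ∣ n) : Subgroup (DihedralGroup n) where
  carrier := {x | match x with
    | .r i => ZMod.castHom hd (ZMod d) i = 0
    | .sr i => ZMod.castHom hd (ZMod d) i = 0}
  one_mem' := map_zero _
  mul_mem' := by
    rintro (i | i) (j | j) hi hj <;>
      simp only [Set.mem_ofPred_eq, r_mul_r, r_mul_sr, sr_mul_r, sr_mul_sr] at hi hj ⊢ <;>
      simp [map_add, map_sub, hi, hj]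
  inv_mem' := by
    rintro (i | i) hi <;> simp only [Set.mem_ofPred_eq, inv_r, inv_sr] at hi ⊢ <;>
      simp [map_neg, hi]

theorem mem_r {n d : ℕ} (hd : d ∣ n) (i : ZMod n) :
    r i ∈ evenPart d hd ↔ ZMod.castHom hd (ZMod d) i = 0 := Iff.rfl

theorem mem_sr {n d : ℕ} (hd : d ∣ n) (i : ZMod n) :
    sr i ∈ evenPart d hd ↔ ZMod.castHom hd (ZMod d) i = 0 := Iff.rfl

theorem exists_sr {n : ℕ} (H : Subgroup (DihedralGroup n)) (h : ¬ IsMulCommutative H) :
    ∃ i, sr i ∈ H := by
  by_contra hn
  refine h ⟨⟨fun a b => Subtype.ext ?_⟩⟩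
  obtain ⟨a, ha⟩ := a
  obtain ⟨b, hb⟩ := b
  rcases a with i | i
  · rcases b with j | j
    · show r i * r j = r j * r i
      rw [r_mul_r, r_mul_r, add_comm]
    · exact absurd ⟨j, hb⟩ hn
  · exact absurd ⟨i, ha⟩ hn

theorem n4_comm (H : Subgroup (DihedralGroup 4)) (hH : H ≠ ⊤) : IsMulCommutative H := by
  have h := Subgroup.card_mul_index H
  rw [DihedralGroup.nat_card] at h
  have h1 : H.index ≠ 1 := fun h' => hH (Subgroup.index_eq_one.1 h')
  have h2 : H.index ≠ 0 := Subgroup.index_ne_zero_of_finite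
  have hle : Nat.card H ≤ 4 := by
    have : 2 ≤ H.index := by omega
    nlinarith
  have hpos : 0 < Nat.card H := Nat.card_pos
  have hd : Nat.card H ∣ 2 * 4 := ⟨H.index, h.symm⟩
  by_cases h4 : Nat.card H = 4
  · haveI : Fact (Nat.Prime 2) := ⟨Nat.prime_two⟩
    exact ⟨⟨(IsPGroup.isMulCommutative_of_card_eq_prime_sq (p := 2) (G := H) (by rw [h4]; rfl)).is_comm.comm⟩⟩
  · have : IsCyclic H := by
      obtain hc | hc : Nat.card H = 1 ∨ Nat.card H = 2 := by
        interval_cases hc : Nat.card H <;> simp_all (config := { decide := true })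
      · haveI := (Nat.card_eq_one_iff_unique.1 hc).1
        exact isCyclic_of_subsingleton
      · haveI : Fact (Nat.Prime 2) := ⟨Nat.prime_two⟩
        exact isCyclic_of_prime_card hc
    infer_instance

/-- For n > 2, every non-abelian subgroup of the dihedral group of order 2n is self-normalizing if and only if n = 4 or n is odd. -/
theorem result (n : ℕ) (hn : 2 < n) :
    (∀ H : Subgroup (DihedralGroup n), ¬ IsMulCommutative H → Subgroup.normalizer (H : Set (DihedralGroup n)) = H) ↔
    (n = 4 ∨ Odd n) := by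
  haveI : NeZero n := ⟨by omega⟩
  constructor
  · intro h
    by_contra hc
    rw [not_or] at hc
    obtain ⟨k, hk⟩ : 2 ∣ n := (Nat.not_odd_iff_even.1 hc.2).two_dvd
    have hH : ¬ IsMulCommutative (evenPart 2 ⟨k, hk⟩ : Subgroup (DihedralGroup n)) := fun hcomm => by
      have h2 : (r 2 : DihedralGroup n) ∈ evenPart 2 ⟨k, hk⟩ := by
        rw [mem_r, map_ofNat]; rfl
      have h0 : (sr 0 : DihedralGroup n) ∈ evenPart 2 ⟨k, hk⟩ := map_zero _
      have := congrArg Subtype.val (hcomm.is_comm.comm ⟨_, h2⟩ ⟨_, h0⟩)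
      simp only [Subgroup.coe_mul, r_mul_sr, sr_mul_r] at this
      have h4 : ((4 : ℕ) : ZMod n) = 0 := by
        push_cast
        linear_combination -(DihedralGroup.sr.inj this)
      rw [ZMod.natCast_eq_zero_iff] at h4
      have := Nat.le_of_dvd (by norm_num) h4
      interval_cases n <;> simp_all (config := { decide := true })
    have hne : (r 1 : DihedralGroup n) ∉ evenPart 2 ⟨k, hk⟩ := fun h1 => by
      rw [mem_r, map_one] at h1
      exact one_ne_zero h1
    refine hne ?_
    rw [← h _ hH]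
    refine Subgroup.mem_normalizer_iff.2 ?_
    rintro (i | i)
    · rw [inv_r, r_mul_r, r_mul_r, mem_r, mem_r]
      simp
    · rw [inv_r, r_mul_sr, sr_mul_r, mem_sr, mem_sr, map_add, map_sub, map_neg, map_one]
      have h11 : (1 : ZMod 2) + 1 = 0 := rfl
      rw [show ∀ a : ZMod 2, a - 1 + -1 = a - (1 + 1) from fun a => by ring, h11, sub_zero]
  · rintro (rfl | hodd) H hH
    · rw [show H = ⊤ from by_contra fun hne => hH (n4_comm H hne),
        Subgroup.normalizer_eq_top_iff.2 inferInstance]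
    refine le_antisymm ?_ Subgroup.le_normalizer
    obtain ⟨i, hi⟩ := exists_sr H hH
    obtain ⟨m, hm⟩ := hodd
    have hrot : ∀ j, r j ∈ Subgroup.normalizer (H : Set (DihedralGroup n)) → r j ∈ H := by
      intro j hj
      have h1 := mul_mem ((Subgroup.mem_normalizer_iff.1 hj _).1 hi) (inv_mem hi)
      rw [inv_r, inv_sr, r_mul_sr, sr_mul_r, sr_mul_sr] at h1
      have h2 := pow_mem (inv_mem h1) (m + 1)
      rw [inv_r, r_pow'] at h2
      have hn0 : ((2 * m + 1 : ℕ) : ZMod n) = 0 := by rw [← hm]; exact ZMod.natCast_self n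
      push_cast at hn0 h2
      rwa [show -(i - (i - j + -j)) * ((m : ZMod n) + 1) = -(j + j * (2 * m + 1)) by ring, hn0,
        mul_zero, add_zero, ← inv_r, inv_mem_iff] at h2
    rintro (j | j) hj
    · exact hrot j hj
    · have h2 := hrot (j - i) (by
        rw [← sr_mul_sr]
        exact mul_mem (Subgroup.le_normalizer hi) hj)
      have h3 := mul_mem hi h2
      rwa [sr_mul_r, add_sub_cancel] at h3

end Cfsg.Agent.S4074
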