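import Cfsg.Statements.S4075
import Cfsg.Agent.Lib.Solv.Cores

set_option autoImplicit false
set_option linter.style.haveILetI false
open Cfsg

open scoped Pointwise commutatorElement

namespace Cfsg.Agent.S4075

/-- Let G be a finite nilpotent group. Every non-abelian subgroup of G is self-normalizing if and only if G is abelian or G is a minimal non-abelian p-group for some prime p (non-abelian of prime-power order with every proper subgroup abelian). -/
theorem result {G : Type*} [Group G] [Finite G]
    [Group.IsNilpotent G] :
    (∀ H : Subgroup G, ¬ IsMulCommutative H → Subgroup.normalizer (H : Set G) = H) ↔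
    (IsMulCommutative G ∨ (IsPrimePow (Nat.card G) ∧ ¬ IsMulCommutative G ∧ ∀ H : Subgroup G, H ≠ ⊤ → IsMulCommutative H)) := by
  constructor
  · intro h
    refine or_iff_not_imp_left.2 fun hna => ?_
    have hprop : ∀ H : Subgroup G, H ≠ ⊤ → IsMulCommutative H := fun H hH => by
      by_contra hn
      exact (Group.normalizerCondition_of_isNilpotent H hH.lt_top).ne (h H hn).symm
    refine ⟨?_, hna, hprop⟩
    have hc1 : Nat.card G ≠ 1 := fun hc => by
      haveI := (Nat.card_eq_one_iff_unique.1 hc).1
      exact hna ⟨⟨fun a b => Subsingleton.elim _ _⟩⟩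
    by_contra hpp
    have hZ : Subgroup.center G = ⊤ := by
      refine Solv.eq_top_of_forall_sylow_le _ fun p hp => ?_
      haveI := Fact.mk hp
      obtain ⟨P⟩ : Nonempty (Sylow p G) := inferInstance
      refine ⟨P, fun x hx => Subgroup.mem_center_iff.2 fun g => ?_⟩
      have hPt : (P : Subgroup G) ≠ ⊤ := fun e => hpp (by
        obtain ⟨k, hk⟩ := IsPGroup.iff_card.1 P.isPGroup'
        rw [e, Subgroup.card_top] at hk
        rw [hk]
        refine (Nat.prime_iff.1 (Fact.out : p.Prime)).isPrimePow.pow fun h0 => hc1 ?_
        rw [hk, h0, pow_zero])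
      have hPc := hprop _ hPt
      have hle : Subgroup.centralizer ((P : Subgroup G) : Set G) = ⊤ := by
        refine Solv.eq_top_of_forall_sylow_le _ fun q hq => ?_
        haveI := Fact.mk hq
        obtain ⟨Q⟩ : Nonempty (Sylow q G) := inferInstance
        refine ⟨Q, fun y hy => Subgroup.mem_centralizer_iff.2 fun z hz => ?_⟩
        by_cases e : p = q
        · subst e
          haveI := Sylow.normal_of_normalizerCondition Group.normalizerCondition_of_isNilpotent P
          haveI := Sylow.unique_of_normal P inferInstance
          have hPQ : P = Q := Subsingleton.elim _ _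
          exact congrArg Subtype.val (hPc.is_comm.comm ⟨z, hz⟩ ⟨y, hPQ ▸ hy⟩)
        · exact Subgroup.commute_of_normal_of_disjoint _ _
            (Sylow.normal_of_normalizerCondition Group.normalizerCondition_of_isNilpotent P)
            (Sylow.normal_of_normalizerCondition Group.normalizerCondition_of_isNilpotent Q)
            (IsPGroup.disjoint_of_ne p q e _ _ P.isPGroup' Q.isPGroup') z y hz hy
      exact (Subgroup.mem_centralizer_iff.1 (hle ▸ Subgroup.mem_top g) x hx).symm
    exact hna ⟨⟨fun a b => Subgroup.mem_center_iff.1 (hZ ▸ Subgroup.mem_top b) a⟩⟩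
  · rintro (h | ⟨-, -, h⟩) H hH
    · exact absurd ⟨⟨fun a b => Subtype.ext (h.is_comm.comm _ _)⟩⟩ hH
    · obtain rfl : H = ⊤ := by
        by_contra e; exact hH (h H e)
      exact top_le_iff.1 Subgroup.le_normalizer

end Cfsg.Agent.S4075
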