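import Cfsg.Statements.S4079
import Cfsg.Agent.Lib.Solv.Metacyclic
import Cfsg.Agent.Lib.Fusion.RankTwoOmega
import Cfsg.Agent.Lib.Fusion.PGroupAux
import Cfsg.Agent.S0112
import Cfsg.Agent.S0662

set_option autoImplicit false
set_option linter.style.haveILetI false
open Cfsg
open Finset Subgroup
open scoped commutatorElement

namespace Cfsg.Agent.S4079

theorem conj_pow {G : Type*} [Group G] {a g : G} {ρ : ℤ} (h : g * a * g⁻¹ = a ^ ρ) (s : ℕ) (i : ℤ) :
    g ^ s * a ^ i = a ^ (ρ ^ s * i) * g ^ s := by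
  induction s generalizing i with
  | zero => simp
  | succ s ih =>
    have h1 : g * a ^ i = a ^ (ρ * i) * g := by
      rw [zpow_mul, ← h, conj_zpow]; group
    rw [pow_succ g, mul_assoc, h1, ← mul_assoc, ih, mul_assoc, ← mul_assoc (ρ ^ s), ← pow_succ ρ]

theorem pow_form {G : Type*} [Group G] {a g : G} {ρ : ℤ} (h : g * a * g⁻¹ = a ^ ρ) (i : ℤ) (e : ℕ) :
    (a ^ i * g) ^ e = a ^ (i * ∑ s ∈ range e, ρ ^ s) * g ^ e := by
  induction e with
  | zero => simp
  | succ e ih =>
    rw [pow_succ, ih, sum_range_succ, mul_add, zpow_add, mul_comm i (ρ ^ e)]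
    calc a ^ (i * ∑ s ∈ range e, ρ ^ s) * g ^ e * (a ^ i * g)
        = a ^ (i * ∑ s ∈ range e, ρ ^ s) * (g ^ e * a ^ i) * g := by group
      _ = _ := by rw [conj_pow h e i, pow_succ g]; group

variable {p : ℕ} [hp' : Fact p.Prime]

theorem sq_sum (hp : p ≠ 2) (ρ : ℤ) (hρ : (p : ℤ) ∣ ρ - 1) :
    ∃ v : ℤ, ∑ s ∈ range (p ^ 2), ρ ^ s = (p : ℤ) ^ 2 * v ∧ ¬ (p : ℤ) ∣ v := by
  obtain ⟨v, hv⟩ := (Solv.Metacyc.pow_dvd_geom_iff hp ρ hρ (p ^ 2) 2).2 dvd_rfl
  refine ⟨v, hv, fun ⟨w, hw⟩ => ?_⟩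
  have h3 := (Solv.Metacyc.pow_dvd_geom_iff hp ρ hρ (p ^ 2) 3).1 ⟨w, by rw [hv, hw]; ring⟩
  have := (Nat.pow_dvd_pow_iff_le_right hp'.out.one_lt).1 h3
  omega

theorem omega_two {L : Type*} [Group L] [Finite L] (hp : p ≠ 2) (hL : IsPGroup p L)
    (hmc : Cfsg.IsMetacyclic L) {m : ℕ} (hm : Nat.card L = p ^ m)
    (hord : ∀ g : L, ∀ k, orderOf g = p ^ k → k + 2 ≤ m) :
    (∀ x y : L, x ^ p ^ 2 = 1 → y ^ p ^ 2 = 1 → (x * y) ^ p = x ^ p * y ^ p) ∧
      ∀ x : L, x ^ p = 1 → ∃ d, d ^ p = x := by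
  obtain ⟨P⟩ := Solv.Metacyc.exists_pres hp hL hmc
  have hpp : p.Prime := hp'.out
  have hP : Prime (p : ℤ) := Nat.prime_iff_prime_int.mp hpp
  have hm' : P.m + P.l = m := Nat.pow_right_injective hpp.two_le (P.hcard.symm.trans hm)
  have hl : 2 ≤ P.l := by have := hord P.a _ P.ha; omega
  obtain ⟨k, hk⟩ := IsPGroup.iff_orderOf.1 hL P.b
  have hk1 := hord _ _ hk
  have hlk : P.l ≤ k := (Nat.pow_dvd_pow_iff_le_right hpp.one_lt).1 ((P.hb _).1 (by
    rw [← hk, pow_orderOf_eq_one]; exact one_mem _))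
  have hM : 2 ≤ P.m := by omega
  obtain ⟨w, hw⟩ := (P.hb (p ^ P.l)).2 dvd_rfl
  have hw' : P.a ^ w = P.b ^ p ^ P.l := hw
  have hw2 : (p : ℤ) ^ 2 ∣ w := by
    have h1 : P.a ^ (w * (p : ℤ) ^ (P.m - 2)) = P.a ^ (0 : ℤ) := by
      rw [zpow_mul, hw', zpow_zero, ← Nat.cast_pow, zpow_natCast, ← pow_mul, ← pow_add]
      refine orderOf_dvd_iff_pow_eq_one.1 ?_
      rw [hk]
      exact pow_dvd_pow p (by omega)
    rw [P.zpow_a_eq_iff, zero_sub, dvd_neg] at h1
    have h2 : (p : ℤ) ^ 2 * (p : ℤ) ^ (P.m - 2) ∣ w * (p : ℤ) ^ (P.m - 2) := by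
      rw [← pow_add, show 2 + (P.m - 2) = P.m by omega]; exact h1
    exact (mul_dvd_mul_iff_right (pow_ne_zero _ hP.ne_zero)).1 h2
  obtain ⟨w', rfl⟩ := hw2
  obtain ⟨q, hq⟩ : ∃ q, q = p ^ (P.l - 2) := ⟨_, rfl⟩
  have hqp : q * p ^ 2 = p ^ P.l := by rw [hq, ← pow_add]; congr 1; omega
  obtain ⟨r, hr⟩ : ∃ r, r = P.r ^ q := ⟨_, rfl⟩
  have hr1 : (p : ℤ) ∣ r - 1 := hr ▸ P.dvd_r_sub_one.trans (sub_one_dvd_pow_sub_one _ _)
  obtain ⟨v, hv, hv'⟩ := sq_sum hp r hr1
  obtain ⟨x1, y1, hxy⟩ : IsCoprime v ((p : ℤ) ^ (P.m - 2)) :=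
    ((hP.coprime_iff_not_dvd.2 hv').pow_left).symm
  obtain ⟨κ, hκ⟩ : ∃ κ : ℤ, κ = -x1 * w' := ⟨_, rfl⟩
  have hbj : ∀ j : ℕ, P.b ^ j * P.a * (P.b ^ j)⁻¹ = P.a ^ (P.r ^ j) := fun j => by
    have := P.conj_pow_a j 1
    rw [zpow_one, mul_one] at this
    rw [this, mul_inv_cancel_right]
  obtain ⟨β, hβ⟩ : ∃ β, β = P.a ^ κ * P.b ^ q := ⟨_, rfl⟩
  have hβn : ∀ n : ℕ, β ^ n = P.a ^ (κ * ∑ s ∈ range n, r ^ s) * P.b ^ (q * n) := fun n => by
    rw [hβ, pow_form (hbj q), pow_mul, hr]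
  have hβp : β ^ p ^ 2 = 1 := by
    rw [hβn, hqp, ← hw', ← zpow_add, hv, ← zpow_zero P.a, P.zpow_a_eq_iff]
    refine ⟨-(w' * y1), ?_⟩
    calc (0 : ℤ) - (κ * ((p : ℤ) ^ 2 * v) + (p : ℤ) ^ 2 * w')
        = -((p : ℤ) ^ 2 * w' * (1 - x1 * v)) := by rw [hκ]; ring
      _ = -((p : ℤ) ^ 2 * w' * (y1 * (p : ℤ) ^ (P.m - 2))) := by rw [← hxy]; ring
      _ = (p : ℤ) ^ (2 + (P.m - 2)) * -(w' * y1) := by ring
      _ = _ := by rw [show 2 + (P.m - 2) = P.m by omega]
  have hβc : β * P.a * β⁻¹ = P.a ^ r := by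
    calc β * P.a * β⁻¹ = P.a ^ κ * (P.b ^ q * P.a * (P.b ^ q)⁻¹) * (P.a ^ κ)⁻¹ := by
          rw [hβ]; group
      _ = _ := by rw [hbj, hr]; group
  obtain ⟨A, hA⟩ : ∃ A, A = P.a ^ ((p : ℤ) ^ (P.m - 2)) := ⟨_, rfl⟩
  have hAz : ∀ x y : ℤ, (p : ℤ) ^ 2 ∣ y - x → A ^ x = A ^ y := by
    intro x y h
    rw [hA, ← zpow_mul, ← zpow_mul, P.zpow_a_eq_iff, ← mul_sub]
    have := mul_dvd_mul_left ((p : ℤ) ^ (P.m - 2)) h
    rwa [← pow_add, show P.m - 2 + 2 = P.m by omega] at this
  have hAβ : β * A * β⁻¹ = A ^ r := by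
    rw [hA, ← conj_zpow, hβc, ← zpow_mul, ← zpow_mul, mul_comm]
  have hAj : ∀ j : ℕ, β ^ j * A * (β ^ j)⁻¹ = A ^ (r ^ j) := fun j => by
    have := conj_pow hAβ j 1
    rw [zpow_one, mul_one] at this
    rw [this, mul_inv_cancel_right]
  have hcover : ∀ x : L, x ^ p ^ 2 = 1 → ∃ i : ℤ, ∃ j : ℕ, x = A ^ i * β ^ j := by
    intro x hx
    obtain ⟨i, j, rfl⟩ := P.hgen x
    have hx' := hx
    rw [pow_form (hbj j), ← pow_mul] at hx'
    have hmem : P.b ^ (j * p ^ 2) ∈ zpowers P.a := by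
      rw [show P.b ^ (j * p ^ 2) = (P.a ^ (i * ∑ s ∈ range (p ^ 2), (P.r ^ j) ^ s))⁻¹ from
        eq_inv_of_mul_eq_one_right hx']
      exact inv_mem (zpow_mem (mem_zpowers _) _)
    have hd := (P.hb _).1 hmem
    rw [← hqp] at hd
    obtain ⟨s, rfl⟩ := Nat.dvd_of_mul_dvd_mul_right (pow_pos hpp.pos 2) hd
    obtain ⟨i', hi'⟩ : ∃ i', i' = i - κ * ∑ e ∈ range s, r ^ e := ⟨_, rfl⟩
    have hxe : P.a ^ i * P.b ^ (q * s) = P.a ^ i' * β ^ s := by
      rw [hβn, hi', ← mul_assoc, ← zpow_add, sub_add_cancel]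
    rw [hxe] at hx ⊢
    have hs : β ^ s * P.a * (β ^ s)⁻¹ = P.a ^ (r ^ s) := by
      have := conj_pow hβc s 1
      rw [zpow_one, mul_one] at this
      rw [this, mul_inv_cancel_right]
    obtain ⟨v2, hv2, hv2'⟩ := sq_sum hp (r ^ s) (hr1.trans (sub_one_dvd_pow_sub_one _ _))
    rw [pow_form hs, ← pow_mul, mul_comm s, pow_mul, hβp, one_pow, mul_one, hv2, ← zpow_zero P.a,
      P.zpow_a_eq_iff, zero_sub, dvd_neg] at hx
    have h2 : (p : ℤ) ^ 2 * (p : ℤ) ^ (P.m - 2) ∣ (p : ℤ) ^ 2 * (i' * v2) := by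
      rw [← pow_add, show 2 + (P.m - 2) = P.m by omega]
      refine hx.trans (dvd_of_eq ?_)
      ring
    obtain ⟨c, hc⟩ := hP.pow_dvd_of_dvd_mul_right _ hv2'
      ((mul_dvd_mul_iff_left (pow_ne_zero _ hP.ne_zero)).1 h2)
    exact ⟨c, s, by rw [hc, zpow_mul, ← hA]⟩
  have hF : ∀ i : ℤ, ∀ j : ℕ, (A ^ i * β ^ j) ^ p = A ^ ((p : ℤ) * i) * β ^ (j * p) := by
    intro i j
    rw [pow_form (hAj j), ← pow_mul]
    congr 1
    apply hAz
    obtain ⟨t, ht⟩ := hr1.trans (sub_one_dvd_pow_sub_one r j)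
    have h := odd_sq_dvd_geom_sum₂_sub (p := p) (1 : ℤ) t (hpp.odd_of_ne_two hp)
    simp only [one_pow, mul_one] at h
    rw [show r ^ j = 1 + (p : ℤ) * t by rw [← ht]; ring]
    have h2 := (dvd_neg.2 h).mul_left i
    refine h2.trans (dvd_of_eq ?_)
    ring
  refine ⟨fun x y hx hy => ?_, fun x hx => ?_⟩
  · obtain ⟨i, j, rfl⟩ := hcover x hx
    obtain ⟨i2, j2, rfl⟩ := hcover y hy
    have hprod : ∀ i k : ℤ, ∀ j h : ℕ,
        A ^ i * β ^ j * (A ^ k * β ^ h) = A ^ (i + r ^ j * k) * β ^ (j + h) := fun i k j h => by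
      rw [zpow_add, pow_add]
      calc A ^ i * β ^ j * (A ^ k * β ^ h) = A ^ i * (β ^ j * A ^ k) * β ^ h := by group
        _ = _ := by rw [conj_pow hAβ]; group
    rw [hprod, hF, hF, hF, hprod, add_mul]
    congr 1
    apply hAz
    obtain ⟨t1, ht1⟩ := hr1.trans (sub_one_dvd_pow_sub_one r j)
    obtain ⟨t2, ht2⟩ := hr1.trans (sub_one_dvd_pow_sub_one r (j * p))
    refine ⟨i2 * (t2 - t1), ?_⟩
    rw [show r ^ j = 1 + (p : ℤ) * t1 by rw [← ht1]; ring,
      show r ^ (j * p) = 1 + (p : ℤ) * t2 by rw [← ht2]; ring]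
    ring
  · obtain ⟨i, j, rfl⟩ := hcover x (by rw [pow_two, pow_mul, hx, one_pow])
    rw [hF] at hx
    have hpj : p ∣ j := by
      have hmem : P.b ^ (q * (j * p)) ∈ zpowers P.a := by
        have h2 : β ^ (j * p) = (A ^ ((p : ℤ) * i))⁻¹ := eq_inv_of_mul_eq_one_right hx
        rw [hβn, hA] at h2
        rw [eq_inv_mul_iff_mul_eq.2 h2]
        exact mul_mem (inv_mem (zpow_mem (mem_zpowers _) _))
          (inv_mem (zpow_mem (zpow_mem (mem_zpowers _) _) _))
      have hd := (P.hb _).1 hmem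
      rw [← hqp] at hd
      have h3 := Nat.dvd_of_mul_dvd_mul_left (Nat.pos_of_ne_zero fun h0 => by
        rw [hq] at h0; exact pow_ne_zero _ hpp.ne_zero h0) hd
      rw [pow_two] at h3
      exact Nat.dvd_of_mul_dvd_mul_right hpp.pos h3
    obtain ⟨j', rfl⟩ := hpj
    rw [show p * j' * p = p ^ 2 * j' by ring, pow_mul, hβp, one_pow, mul_one, hA, ← zpow_mul,
      ← zpow_zero P.a, P.zpow_a_eq_iff, zero_sub, dvd_neg] at hx
    have h2 : ((p : ℤ) ^ (P.m - 2) * p) * p ∣ ((p : ℤ) ^ (P.m - 2) * p) * i := by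
      rw [mul_assoc _ _ i, mul_assoc, ← pow_two, ← pow_add, show P.m - 2 + 2 = P.m by omega]
      exact hx
    obtain ⟨i', rfl⟩ :=
      (mul_dvd_mul_iff_left (mul_ne_zero (pow_ne_zero _ hP.ne_zero) hP.ne_zero)).1 h2
    exact ⟨A ^ i' * β ^ j', by rw [hF, mul_comm p j']⟩

theorem normal_map_inl {L : Type*} [Group L] (S : Subgroup (MulAut L)) (K : Subgroup L)
    (h : ∀ φ : MulAut L, ∀ y ∈ K, φ y ∈ K) :
    (K.map (SemidirectProduct.inl : L →* SemidirectProduct L ↥S S.subtype)).Normal := by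
  constructor
  rintro _ ⟨k, hk, rfl⟩ y
  refine ⟨y.left * (y.right : MulAut L) k * y.left⁻¹, h (MulAut.conj y.left) _ (h _ k hk), ?_⟩
  conv_rhs => rw [← SemidirectProduct.inl_left_mul_inr_right y]
  rw [map_mul, map_mul, map_inv, show (y.right : MulAut L) k = S.subtype y.right k from rfl,
    SemidirectProduct.inl_aut, map_inv]
  group

theorem fix_sum {L : Type*} [Group L] {v d e z : L} {t s : ℤ} (a : MulAut L)
    (hv : ∀ g : L, Commute v g) (hav : a v = v) (hd : a d = d * e) (he : a e = e * z)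
    (hz : a z = z * v ^ t) (hc : z * e = e * z * v ^ s) (k : ℕ) :
    (a ^ k) d = d * (e ^ k * z ^ (k.choose 2) * v ^ ((t + s) * (k.choose 3 : ℤ))) := by
  have hvv : ∀ n : ℤ, ∀ g : L, v ^ n * g = g * v ^ n := fun n g => ((hv g).zpow_left n).eq
  have hakv : ∀ k : ℕ, (a ^ k) v = v := fun k => by
    induction k with
    | zero => rfl
    | succ k ih => rw [pow_succ, MulAut.mul_apply, hav, ih]
  have hkz : ∀ k : ℕ, (a ^ k) z = z * v ^ (t * (k : ℤ)) := fun k => by
    induction k with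
    | zero => simp
    | succ k ih =>
      rw [pow_succ, MulAut.mul_apply, hz, map_mul, ih, map_zpow, hakv, mul_assoc, ← zpow_add]
      congr 2; push_cast; ring
  have hke : ∀ k : ℕ, (a ^ k) e = e * z ^ k * v ^ (t * (k.choose 2 : ℤ)) := fun k => by
    induction k with
    | zero => simp
    | succ k ih =>
      rw [pow_succ, MulAut.mul_apply, he, map_mul, ih, hkz, pow_succ,
        show (k + 1).choose 2 = k + k.choose 2 by rw [Nat.choose_succ_succ', Nat.choose_one_right]]
      calc e * z ^ k * v ^ (t * (k.choose 2 : ℤ)) * (z * v ^ (t * (k : ℤ)))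
          = e * z ^ k * (v ^ (t * (k.choose 2 : ℤ)) * z) * v ^ (t * (k : ℤ)) := by group
        _ = e * (z ^ k * z) * (v ^ (t * (k.choose 2 : ℤ)) * v ^ (t * (k : ℤ))) := by
          rw [hvv]; group
        _ = _ := by rw [← zpow_add]; congr 2; push_cast; ring
  have hne : ∀ n : ℕ, z ^ n * e = e * z ^ n * v ^ ((n : ℤ) * s) := fun n => by
    induction n with
    | zero => simp
    | succ n ih =>
      calc z ^ (n + 1) * e = z ^ n * (z * e) := by rw [pow_succ, mul_assoc]
        _ = z ^ n * e * z * v ^ s := by rw [hc]; group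
        _ = e * z ^ n * (v ^ ((n : ℤ) * s) * z) * v ^ s := by rw [ih]; group
        _ = e * (z ^ n * z) * (v ^ ((n : ℤ) * s) * v ^ s) := by rw [hvv]; group
        _ = _ := by rw [← zpow_add, ← pow_succ]; congr 2; push_cast; ring
  induction k with
  | zero => simp
  | succ k ih =>
    rw [pow_succ a, MulAut.mul_apply, hd, map_mul, ih, hke, pow_succ e,
      show (k + 1).choose 2 = k + k.choose 2 by rw [Nat.choose_succ_succ', Nat.choose_one_right],
      show (k + 1).choose 3 = k.choose 2 + k.choose 3 from Nat.choose_succ_succ' k 2]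
    generalize hX : (t + s) * (k.choose 3 : ℤ) = X
    calc d * (e ^ k * z ^ k.choose 2 * v ^ X) * (e * z ^ k * v ^ (t * (k.choose 2 : ℤ)))
        = d * (e ^ k * z ^ k.choose 2 * (v ^ X * e) * z ^ k * v ^ (t * (k.choose 2 : ℤ))) := by
          group
      _ = d * (e ^ k * (z ^ k.choose 2 * e) * (v ^ X * z ^ k) * v ^ (t * (k.choose 2 : ℤ))) := by
          rw [hvv X e]; group
      _ = d * (e ^ k * e * z ^ k.choose 2 * (v ^ ((k.choose 2 : ℤ) * s) * z ^ k) *
            (v ^ X * v ^ (t * (k.choose 2 : ℤ)))) := by rw [hne, hvv X]; group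
      _ = d * (e ^ k * e * (z ^ k.choose 2 * z ^ k) *
            (v ^ ((k.choose 2 : ℤ) * s) * v ^ X * v ^ (t * (k.choose 2 : ℤ)))) := by
          rw [hvv]; group
      _ = _ := by
          rw [← zpow_add, ← zpow_add, ← pow_add, ← hX, add_comm (k.choose 2) k]
          congr 3; push_cast; ring

theorem mem_fix_centralizer {L : Type*} [Group L] (a : MulAut L)
    (y : SemidirectProduct L ↥(zpowers a) (zpowers a).subtype) :
    y ∈ centralizer ({SemidirectProduct.inr ⟨a, mem_zpowers a⟩} :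
      Set (SemidirectProduct L ↥(zpowers a) (zpowers a).subtype)) ↔ a y.left = y.left := by
  rw [mem_centralizer_singleton_iff, SemidirectProduct.ext_iff]
  constructor
  · rintro ⟨h, -⟩
    simpa [eq_comm] using h
  · intro h
    refine ⟨by simp [h], ?_⟩
    simp only [SemidirectProduct.mul_right]
    exact Subtype.ext (by
      obtain ⟨i, hi⟩ := y.right.2
      simp only [Subgroup.coe_mul, SemidirectProduct.right_inr, ← hi]
      exact ((Commute.refl a).zpow_left i).eq)

/-- Let p be an odd prime and L a finite metacyclic p-group with no cyclic subgroup of index p, and let a be an automorphism of L of order p. Then a moves some element of order p of L if and only if p = 3 and the semidirect product L ⋊ ⟨a⟩ (of order 3·#L) has maximal class, i.e. nilpotency class m where #L = 3^m. -/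
theorem result {L : Type*} [Group L] [Finite L] {p : ℕ} [Fact p.Prime]
    (hp : p ≠ 2) (hL : IsPGroup p L) (hmc : Cfsg.IsMetacyclic L) (hnc : ∀ C : Subgroup L, IsCyclic C → C.index ≠ p)
    (a : MulAut L) (ha : orderOf a = p) (m : ℕ) (hm : Nat.card L = p ^ m) :
    (∃ x : L, orderOf x = p ∧ a x ≠ x) ↔
    (p = 3 ∧ Group.nilpotencyClass (SemidirectProduct L ↥(Subgroup.zpowers a) (Subgroup.zpowers a).subtype) = m) := by
  classical
  have hpp : p.Prime := Fact.out
  have hP : Prime (p : ℤ) := Nat.prime_iff_prime_int.mp hpp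
  have hm1 : 1 ≤ m := by
    by_contra h0
    have hm0 : m = 0 := by omega
    rw [hm0, pow_zero] at hm
    haveI := (Nat.card_eq_one_iff_unique.1 hm).1
    have : a = 1 := MulEquiv.ext fun x => Subsingleton.elim _ _
    rw [this, orderOf_one] at ha
    exact hpp.one_lt.ne ha
  have hidx : ∀ C : Subgroup L, Nat.card C = p ^ (m - 1) → C.index = p := fun C hC => by
    have h := C.card_mul_index
    rw [hC, hm, show p ^ m = p ^ (m - 1) * p by rw [← pow_succ]; congr 1; omega] at h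
    exact Nat.eq_of_mul_eq_mul_left (pow_pos hpp.pos _) h
  have hord : ∀ g : L, ∀ k, orderOf g = p ^ k → k + 2 ≤ m := by
    intro g k hk
    have hkm : k ≤ m := by
      have := orderOf_dvd_natCard g
      rw [hk, hm] at this
      exact (Nat.pow_dvd_pow_iff_le_right hpp.one_lt).1 this
    by_contra hlt
    rcases eq_or_lt_of_le hkm with rfl | hlt'
    · refine hnc (zpowers (g ^ p)) (isCyclic_zpowers _) (hidx _ ?_)
      rw [Nat.card_zpowers, orderOf_pow, hk,
        Nat.gcd_eq_right (dvd_pow_self p (by omega)), ← Nat.pow_div hm1 hpp.pos, pow_one]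
    · refine hnc (zpowers g) (isCyclic_zpowers _) (hidx _ ?_)
      rw [Nat.card_zpowers, hk]; congr 1; omega
  have hncy : ¬ IsCyclic L := fun h => by
    obtain ⟨g, hg⟩ := h.exists_generator
    have := hord g m (by rw [orderOf_eq_card_of_forall_mem_zpowers hg, hm])
    omega
  obtain ⟨hmulp, hroot⟩ := omega_two hp hL hmc hm hord
  have hm4 : 4 ≤ m := by
    obtain ⟨P⟩ := Solv.Metacyc.exists_pres hp hL hmc
    have hm' : P.m + P.l = m := Nat.pow_right_injective hpp.two_le (P.hcard.symm.trans hm)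
    obtain ⟨k, hk⟩ := IsPGroup.iff_orderOf.1 hL P.b
    have hlk : P.l ≤ k := (Nat.pow_dvd_pow_iff_le_right hpp.one_lt).1 ((P.hb _).1 (by
      rw [← hk, pow_orderOf_eq_one]; exact one_mem _))
    have := hord _ _ hk; have := hord P.a _ P.ha; omega
  obtain ⟨E, hE⟩ : ∃ E, E = Subgroup.closure {x : L | x ^ p = 1} := ⟨_, rfl⟩
  obtain ⟨⟨hEc, hEp⟩, hEcard⟩ := Fusion.omega_metacyclic_noncyclic hp hL hmc hncy
  rw [← hE] at hEc hEp hEcard
  have hmemE : ∀ x, x ∈ E ↔ x ^ p = 1 := fun x =>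
    ⟨hEp x, fun h => hE ▸ Subgroup.subset_closure h⟩
  have hEcomm : ∀ x ∈ E, ∀ y ∈ E, Commute x y := fun x hx y hy =>
    congrArg Subtype.val (hEc.is_comm.comm ⟨x, hx⟩ ⟨y, hy⟩)
  have hap : a ^ p = 1 := ha ▸ pow_orderOf_eq_one a
  let G := SemidirectProduct L ↥(zpowers a) (zpowers a).subtype
  let inl : L →* G := SemidirectProduct.inl
  haveI : Finite G := Finite.of_equiv _ SemidirectProduct.equivProd.symm
  have hGcard : Nat.card G = p ^ (m + 1) := by
    rw [SemidirectProduct.card, hm, Nat.card_zpowers, ha, pow_succ]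
  have hG : IsPGroup p G := IsPGroup.of_card hGcard
  haveI hEn : (E.map inl).Normal := normal_map_inl _ E fun φ y hy => by
    rw [hmemE] at hy ⊢; rw [← map_pow, hy, map_one]
  have hinlc : ∀ K : Subgroup L, Nat.card (K.map inl) = Nat.card K := fun K =>
    Nat.card_congr (K.equivMapOfInjective inl SemidirectProduct.inl_injective).symm.toEquiv
  constructor
  · rintro ⟨u, hu, hau⟩
    have hup : u ^ p = 1 := hu ▸ pow_orderOf_eq_one u
    have huE : u ∈ E := (hmemE u).2 hup
    obtain ⟨_, ⟨v, hvE, rfl⟩, hv1, hvZ⟩ := Fusion.exists_central_of_normal hG (E.map inl) (fun h => by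
      have hc := hinlc E
      rw [h, Subgroup.card_bot, hEcard] at hc
      have := Nat.one_lt_pow two_ne_zero hpp.one_lt
      omega)
    rw [Subgroup.mem_center_iff] at hvZ
    have hvE : v ∈ E := hvE
    have hav : a v = v := by
      have h := congrArg SemidirectProduct.left (hvZ (SemidirectProduct.inr ⟨a, mem_zpowers a⟩))
      change (1 : L) * a v = v * (1 : MulAut L) 1 at h
      simpa using h
    have hvc : ∀ g : L, Commute v g := fun g => by
      have h := congrArg SemidirectProduct.left (hvZ (SemidirectProduct.inl g))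
      simp [inl] at h
      exact h.symm
    have hv1' : v ≠ 1 := fun h => hv1 (by rw [h, map_one])
    have hvo : orderOf v = p := orderOf_eq_prime ((hmemE v).1 hvE) hv1'
    have huv : u ∉ zpowers v := by
      rintro ⟨i, rfl⟩
      exact hau (by simp [map_zpow, hav])
    haveI : (zpowers v).Normal := ⟨fun x hx g => by
      obtain ⟨i, rfl⟩ := hx
      show g * v ^ i * g⁻¹ ∈ zpowers v
      rw [← ((hvc g).zpow_left i).eq, mul_inv_cancel_right]
      exact zpow_mem (mem_zpowers v) i⟩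
    have hgen : ∀ y ∈ E, ∃ i k : ℤ, y = u ^ i * v ^ k := by
      have hle : zpowers u ⊔ zpowers v ≤ E := sup_le (zpowers_le.2 huE) (zpowers_le.2 hvE)
      have heq : zpowers u ⊔ zpowers v = E := by
        refine eq_of_le_of_card_ge hle ?_
        obtain ⟨j, hj, hjc⟩ := (Nat.dvd_prime_pow hpp).1
          (hEcard ▸ card_dvd_of_le hle)
        rw [hEcard, hjc]
        refine Nat.pow_le_pow_right hpp.pos ?_
        by_contra hlt
        refine huv ?_
        have h1 : zpowers v = zpowers u ⊔ zpowers v := eq_of_le_of_card_ge le_sup_right (by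
          rw [hjc, Nat.card_zpowers, hvo]
          calc p ^ j ≤ p ^ 1 := Nat.pow_le_pow_right hpp.pos (by omega)
            _ = p := pow_one p)
        rw [h1]
        exact mem_sup_left (mem_zpowers u)
      intro y hy
      rw [← heq, mem_sup_of_normal_right] at hy
      obtain ⟨_, ⟨i, rfl⟩, _, ⟨k, rfl⟩, rfl⟩ := hy
      exact ⟨i, k, rfl⟩
    have hdvd : ∀ c : ℤ, u ^ c ∈ zpowers v → (p : ℤ) ∣ c := fun c hc => by
      by_contra hnd
      obtain ⟨x, y, hxy⟩ := hP.coprime_iff_not_dvd.2 hnd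
      refine huv ?_
      rw [← zpow_one u, ← hxy, zpow_add, mul_comm x, zpow_mul, zpow_natCast, hup, one_zpow,
        one_mul, mul_comm y, zpow_mul]
      exact zpow_mem hc y
    have hact : ∀ φ : MulAut L, φ v = v → φ ^ p ^ 2 = 1 → ∀ y ∈ E, ∃ j : ℤ, φ y = y * v ^ j := by
      intro φ hφv hφ
      obtain ⟨i, k, hik⟩ := hgen (φ u) ((hmemE _).2 (by rw [← map_pow, hup, map_one]))
      have hit : ∀ n : ℕ, ∃ j : ℤ, (φ ^ n) u = u ^ (i ^ n) * v ^ j := by
        intro n
        induction n with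
        | zero => exact ⟨0, by simp⟩
        | succ n ih =>
          obtain ⟨j, hj⟩ := ih
          refine ⟨k * i ^ n + j, ?_⟩
          rw [pow_succ', MulAut.mul_apply, hj, map_mul, map_zpow, map_zpow, hik, hφv,
            ((hvc u).symm.zpow_zpow i k).mul_zpow, ← zpow_mul, ← zpow_mul, mul_assoc, ← zpow_add,
            ← pow_succ']
      obtain ⟨j, hj⟩ := hit (p ^ 2)
      rw [hφ, MulAut.one_apply] at hj
      have h1 := hdvd (i ^ p ^ 2 - 1) (by
        rw [zpow_sub, zpow_one, show u ^ (i ^ p ^ 2) = u * (v ^ j)⁻¹ from eq_mul_inv_of_mul_eq hj.symm,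
          ((hvc u).zpow_left j).inv_left.symm.eq, mul_inv_cancel_right]
        exact inv_mem (zpow_mem (mem_zpowers v) j))
      have hi : φ u = u * v ^ k := by
        have h2 : (p : ℤ) ∣ i - 1 := by
          rw [← ZMod.intCast_zmod_eq_zero_iff_dvd] at h1 ⊢
          push_cast at h1 ⊢
          rwa [ZMod.pow_card_pow] at h1
        obtain ⟨c, hc⟩ := h2
        rw [hik, show i = 1 + (p : ℤ) * c by rw [← hc]; ring, zpow_add, zpow_one, zpow_mul,
          zpow_natCast, hup, one_zpow, mul_one]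
      intro y hy
      obtain ⟨i', k', rfl⟩ := hgen y hy
      refine ⟨k * i', ?_⟩
      rw [map_mul, map_zpow, map_zpow, hi, hφv, ((hvc u).symm.zpow_right k).mul_zpow, ← zpow_mul,
        mul_assoc, ← zpow_add, mul_assoc, ← zpow_add, add_comm]
    have hap2 : a ^ p ^ 2 = 1 := by rw [pow_two, pow_mul, hap, one_pow]
    obtain ⟨j0, hj0⟩ := hact a hav hap2 u huE
    obtain ⟨d, hd⟩ := hroot u hup
    have hd2 : d ^ p ^ 2 = 1 := by rw [pow_two, pow_mul, hd, hup]
    obtain ⟨e, he⟩ : ∃ e, e = d⁻¹ * a d := ⟨_, rfl⟩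
    have hinv2 : ∀ x : L, x ^ p ^ 2 = 1 → x⁻¹ ^ p ^ 2 = 1 := fun x hx => by
      rw [inv_pow, hx, inv_one]
    have hmap2 : ∀ (φ : MulAut L) (x : L), x ^ p ^ 2 = 1 → (φ x) ^ p ^ 2 = 1 := fun φ x hx => by
      rw [← map_pow, hx, map_one]
    have hep : e ^ p = v ^ j0 := by
      rw [he, hmulp _ _ (hinv2 d hd2) (hmap2 a d hd2), inv_pow, hd, ← map_pow, hd, hj0,
        inv_mul_cancel_left]
    have he2 : e ^ p ^ 2 = 1 := by
      rw [pow_two, pow_mul, hep, ← zpow_natCast, ← zpow_mul, mul_comm, zpow_mul, zpow_natCast,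
        (hmemE v).1 hvE, one_zpow]
    have hep1 : e ^ p ≠ 1 := fun h => hau (by rw [hj0, ← hep, h, mul_one])
    have had : a d = d * e := by rw [he, mul_inv_cancel_left]
    have hnofix : ∀ c : L, c ^ p ^ 2 = 1 → a c = c → c ^ p = 1 := by
      intro c hc2 hac
      by_contra hcp
      have hcE : c ^ p ∈ E := (hmemE _).2 (by rw [← pow_mul, ← pow_two, hc2])
      obtain ⟨i, k, hik⟩ := hgen _ hcE
      have h1 : a (c ^ p) = c ^ p := by rw [map_pow, hac]
      rw [hik, map_mul, map_zpow, map_zpow, hav, hj0, mul_left_inj,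
        ((hvc u).symm.zpow_right j0).mul_zpow, mul_eq_left, ← zpow_mul] at h1
      have hi : u ^ i = 1 := by
        have hd1 : (p : ℤ) ∣ j0 * i := by
          rw [← hvo]; exact orderOf_dvd_iff_zpow_eq_one.2 h1
        rcases hP.dvd_or_dvd hd1 with h | h
        · exact absurd (hep.trans (orderOf_dvd_iff_zpow_eq_one.1 (hvo.symm ▸ h))) hep1
        · exact orderOf_dvd_iff_zpow_eq_one.1 (hu.symm ▸ h)
      rw [hi, one_mul] at hik
      have hk : ¬ (p : ℤ) ∣ k := fun h => hcp (hik.trans (orderOf_dvd_iff_zpow_eq_one.1 (hvo.symm ▸ h)))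
      obtain ⟨x, y, hxy⟩ := hP.coprime_iff_not_dvd.2 hk
      have hvv : v = (c ^ p) ^ y := by
        rw [hik, ← zpow_mul]
        conv_lhs => rw [← zpow_one v, ← hxy, zpow_add, mul_comm x, zpow_mul, zpow_natCast,
          (hmemE v).1 hvE, one_zpow, one_mul, mul_comm y]
      obtain ⟨g, hg⟩ : ∃ g, g = c ^ (y * j0) := ⟨_, rfl⟩
      have hg2 : g ^ p ^ 2 = 1 := by
        rw [hg, ← zpow_natCast, ← zpow_mul, mul_comm, zpow_mul, zpow_natCast, hc2, one_zpow]
      have hgp : g ^ p = e ^ p := by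
        rw [hep, hvv, hg, ← zpow_natCast, ← zpow_mul, ← zpow_natCast c p, ← zpow_mul, ← zpow_mul]
        congr 1; ring
      have hfE : g⁻¹ * e ∈ E := (hmemE _).2 (by
        rw [hmulp _ _ (hinv2 g hg2) he2, inv_pow, hgp, inv_mul_cancel])
      obtain ⟨j, hj⟩ := hact a hav hap2 _ hfE
      have hage : a e = e * v ^ j := by
        rw [map_mul, map_inv, show a g = g by rw [hg, map_zpow, hac], mul_assoc, mul_right_inj] at hj
        exact hj
      have h := fix_sum (t := 0) (s := 0) a hvc hav had hage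
        (by rw [map_zpow, hav, zpow_zero, mul_one])
        (by rw [zpow_zero, mul_one, ((hvc e).zpow_left j).eq]) p
      rw [hap, MulAut.one_apply, add_zero, zero_mul, zpow_zero, mul_one, left_eq_mul] at h
      have hz : (v ^ j) ^ p.choose 2 = 1 := by
        obtain ⟨w, hw⟩ := hpp.dvd_choose_self two_ne_zero (by have := hpp.two_le; omega : 2 < p)
        rw [hw, pow_mul, ← zpow_natCast (v ^ j) p, ← zpow_mul, mul_comm, zpow_mul, zpow_natCast,
          (hmemE v).1 hvE, one_zpow, one_pow]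
      rw [hz, mul_one] at h
      exact hep1 h
    have hfix : ∀ x : L, a x = x → x ∈ zpowers v := by
      intro x hx
      have hxp : x ^ p = 1 := by
        obtain ⟨k, hk⟩ := IsPGroup.iff_orderOf.1 hL x
        rcases Nat.lt_or_ge k 2 with hlt | hge
        · rw [← orderOf_dvd_iff_pow_eq_one, hk]
          exact (pow_dvd_pow p (by omega : k ≤ 1)).trans (dvd_of_eq (pow_one p))
        · exfalso
          have h1 : (x ^ p ^ (k - 2)) ^ p = 1 := hnofix _ (by
              rw [← pow_mul, ← pow_add, show k - 2 + 2 = k by omega, ← hk, pow_orderOf_eq_one])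
            (by rw [map_pow, hx])
          rw [← pow_mul, ← pow_succ, ← orderOf_dvd_iff_pow_eq_one, hk,
            Nat.pow_dvd_pow_iff_le_right hpp.one_lt] at h1
          omega
      obtain ⟨i, k, rfl⟩ := hgen x ((hmemE x).2 hxp)
      rw [map_mul, map_zpow, map_zpow, hav, hj0, mul_left_inj,
        ((hvc u).symm.zpow_right j0).mul_zpow, mul_eq_left, ← zpow_mul,
        ← orderOf_dvd_iff_zpow_eq_one, hvo] at hx
      rcases hP.dvd_or_dvd hx with h | h
      · exact absurd (hep.trans (orderOf_dvd_iff_zpow_eq_one.1 (hvo.symm ▸ h))) hep1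
      · rw [orderOf_dvd_iff_zpow_eq_one.1 (hu.symm ▸ h), one_mul]
        exact zpow_mem (mem_zpowers v) k
    refine ⟨?_, ?_⟩
    · by_contra h3
      have hp5 : 3 < p := lt_of_le_of_ne (by have := hpp.two_le; omega) (Ne.symm h3)
      have hzE : e⁻¹ * a e ∈ E := (hmemE _).2 (by
        rw [hmulp _ _ (hinv2 e he2) (hmap2 a e he2), inv_pow, ← map_pow, hep, map_zpow, hav,
          inv_mul_cancel])
      obtain ⟨t, ht⟩ := hact a hav hap2 _ hzE
      obtain ⟨s, hs⟩ := hact (MulAut.conj e⁻¹)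
        (by simp [mul_assoc, (hvc e).eq])
        (by rw [← map_pow, hinv2 e he2, map_one]) _ hzE
      generalize hz : e⁻¹ * a e = z at hzE ht hs
      have hze : z * e = e * z * v ^ s := by
        rw [MulAut.conj_apply, inv_inv] at hs
        calc z * e = e * (e⁻¹ * z * e) := by group
          _ = _ := by rw [hs, mul_assoc]
      have h := fix_sum a hvc hav had (by rw [← hz, mul_inv_cancel_left]) ht hze p
      have hz2 : z ^ p.choose 2 = 1 := by
        obtain ⟨w, hw⟩ := hpp.dvd_choose_self two_ne_zero (by omega : 2 < p)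
        rw [hw, pow_mul, (hmemE z).1 hzE, one_pow]
      have hv3 : v ^ ((t + s) * (p.choose 3 : ℤ)) = 1 := by
        obtain ⟨w, hw⟩ := hpp.dvd_choose_self (by norm_num : 3 ≠ 0) hp5
        rw [hw, Nat.cast_mul, ← mul_assoc, mul_comm (t + s), mul_assoc, zpow_mul, zpow_natCast,
          (hmemE v).1 hvE, one_zpow]
      rw [hap, MulAut.one_apply, hz2, hv3, mul_one, mul_one, left_eq_mul] at h
      exact hep1 h
    · let A : Subgroup G := centralizer ({SemidirectProduct.inr ⟨a, mem_zpowers a⟩} : Set G)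
      have hAcard : Nat.card A = p ^ 2 := by
        have e1 : A ≃ ↥(zpowers v) × ↥(zpowers a) :=
          { toFun := fun y => (⟨y.1.left, hfix _ ((mem_fix_centralizer a _).1 y.2)⟩, y.1.right)
            invFun := fun y => ⟨⟨y.1.1, y.2⟩, (mem_fix_centralizer a _).2 (by
              obtain ⟨i, hi⟩ := y.1.2
              simp only [← hi, map_zpow, hav])⟩
            left_inv := fun y => rfl
            right_inv := fun y => rfl }
        rw [Nat.card_congr e1, Nat.card_prod, Nat.card_zpowers, Nat.card_zpowers, hvo, ha, pow_two]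
      have hC : centralizer (A : Set G) = A := by
        refine le_antisymm (centralizer_le ?_) ?_
        · rw [Set.singleton_subset_iff]
          exact mem_centralizer_singleton_iff.2 rfl
        · intro x hx
          rw [mem_centralizer_iff]
          intro y hy
          exact congrArg Subtype.val
            ((IsPGroup.isMulCommutative_of_card_eq_prime_sq hAcard).is_comm.comm ⟨y, hy⟩ ⟨x, hx⟩)
      rw [S0112.result (m + 1) hGcard A hAcard hC]
      omega
  · rintro ⟨-, hcl⟩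
    by_contra hno
    have hfixE : ∀ y ∈ E, a y = y := fun y hy => by
      by_contra hne
      exact hno ⟨y, orderOf_eq_prime ((hmemE y).1 hy) (fun h => hne (by rw [h, map_one])), hne⟩
    have huniq := (S0662.result (m + 1) hGcard (by simpa using hcl) (by omega)).1
    have hindex : ∀ K : Subgroup G, Nat.card K = p ^ 2 → K.index = p ^ (m - 1) := fun K hK => by
      have h := K.card_mul_index
      rw [hK, hGcard, show p ^ (m + 1) = p ^ 2 * p ^ (m - 1) by rw [← pow_add]; congr 1; omega] at h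
      exact Nat.eq_of_mul_eq_mul_left (pow_pos hpp.pos _) h
    have hEG := huniq (E.map inl) (m - 1) (by omega) (hindex _ (by rw [hinlc, hEcard]))
    obtain ⟨P⟩ := Solv.Metacyc.exists_pres hp hL hmc
    have hn : P.n ≤ 1 := by
      by_contra hn2
      have hn2 : 2 ≤ P.n := by omega
      obtain ⟨w, hw⟩ : ∃ w, w = P.a ^ ((p : ℤ) ^ P.c) := ⟨_, rfl⟩
      have hwo : orderOf w = p ^ P.n := by
        rw [← P.card_commutator, P.commutator_eq, Nat.card_zpowers, hw]
      obtain ⟨w', hw'⟩ : ∃ w', w' = w ^ p ^ (P.n - 2) := ⟨_, rfl⟩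
      have hwo' : orderOf w' = p ^ 2 := by
        rw [hw', orderOf_pow, hwo, Nat.gcd_eq_right (pow_dvd_pow p (by omega)),
          Nat.pow_div (by omega) hpp.pos]
        congr 1; omega
      haveI : ((zpowers w').map inl).Normal := normal_map_inl _ _ fun φ y hy => by
        obtain ⟨i, rfl⟩ := hy
        rw [map_zpow]
        refine zpow_mem ?_ i
        have h1 : φ w ∈ zpowers w := by
          have hmem : w ∈ commutator L := by rw [P.commutator_eq, hw]; exact mem_zpowers _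
          have h2 := (Subgroup.mem_map_of_mem φ.toMonoidHom hmem)
          rw [_root_.commutator_def, Subgroup.map_commutator, Subgroup.map_top_of_surjective _ φ.surjective,
            ← _root_.commutator_def, P.commutator_eq, ← hw] at h2
          exact h2
        obtain ⟨k, hk⟩ := h1
        refine ⟨k, ?_⟩
        show w' ^ k = φ w'
        rw [hw', map_pow, ← hk, ← zpow_natCast, ← zpow_natCast (w ^ k), ← zpow_mul, ← zpow_mul,
          mul_comm]
      have hwE := huniq ((zpowers w').map inl) (m - 1) (by omega)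
        (hindex _ (by rw [hinlc, Nat.card_zpowers, hwo']))
      rw [← hEG] at hwE
      have hw2 : inl w' ∈ E.map inl := hwE ▸ Subgroup.mem_map_of_mem inl (mem_zpowers w')
      obtain ⟨y, hy, hyw⟩ := hw2
      rw [SemidirectProduct.inl_injective hyw] at hy
      have h := (hmemE w').1 hy
      rw [← orderOf_dvd_iff_pow_eq_one, hwo'] at h
      have := (Nat.pow_dvd_pow_iff_le_right hpp.one_lt).1 (h.trans (dvd_of_eq (pow_one p).symm))
      omega
    have hpc : ∀ x : L, x ^ p ∈ center L := fun x => by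
      rw [P.mem_center_iff', P.phi_pow]
      have hp0 : (p : ZMod (p ^ P.n)) = 0 := by
        rw [ZMod.natCast_eq_zero_iff]
        exact (pow_dvd_pow p hn).trans (dvd_of_eq (pow_one p))
      have hlam : P.lam x = 1 := by
        rw [Solv.Metacyc.Pres.lam, hp0, zero_pow (by have := P.hc; omega), zero_mul, add_zero]
      simp [hlam, hp0]
    have hEZ : E.map inl ≤ center G := by
      rintro _ ⟨y, hy, rfl⟩
      obtain ⟨d, hd⟩ := hroot y ((hmemE y).1 hy)
      have hyc : ∀ g : L, g * y = y * g := Subgroup.mem_center_iff.1 (hd ▸ hpc d)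
      rw [Subgroup.mem_center_iff]
      intro g
      have hgy : (g.right : MulAut L) y = y := by
        obtain ⟨i, hi⟩ := g.right.2
        have hst : a ∈ MulAction.stabilizer (MulAut L) y := hfixE y hy
        exact hi ▸ (zpow_mem hst i : a ^ i ∈ MulAction.stabilizer (MulAut L) y)
      refine SemidirectProduct.ext ?_ ?_
      · show g.left * (g.right : MulAut L) y = y * (1 : MulAut L) g.left
        rw [hgy, MulAut.one_apply, hyc]
      · show g.right * 1 = 1 * g.right
        rw [mul_one, one_mul]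
    have hbot : (⊤ : Subgroup G).lowerCentralSeries (m - 1) = ⊥ := by
      rw [show m - 1 = m - 1 - 1 + 1 by omega, Subgroup.lowerCentralSeries_succ, eq_bot_iff,
        Subgroup.commutator_le]
      intro x hx y _
      rw [← hEG] at hx
      rw [Subgroup.mem_bot, commutatorElement_eq_one_iff_mul_comm]
      exact (Subgroup.mem_center_iff.1 (hEZ hx) y).symm
    haveI := hG.isNilpotent
    rw [Subgroup.lowerCentralSeries_eq_bot_iff_nilpotencyClass_le, hcl] at hbot
    omega

end Cfsg.Agent.S4079
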