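import Cfsg.Statements.S4080
import Mathlib

set_option autoImplicit false
open Cfsg

namespace Cfsg.Agent.S4080


theorem expand {R : Type*} [Ring R] {T : R} (h4 : T ^ 4 = 0) (m : ℕ) :
    (1 + T) ^ m = 1 + (m.choose 1) • T + (m.choose 2) • T ^ 2 + (m.choose 3) • T ^ 3 := by
  induction m with
  | zero => simp
  | succ m ih =>
    rw [pow_succ, ih, Nat.choose_succ_succ' m 0, Nat.choose_succ_succ' m 1,
      Nat.choose_succ_succ' m 2, Nat.choose_zero_right]
    simp only [add_mul, mul_add, mul_one, one_mul, smul_mul_assoc, add_smul, one_smul, ← pow_succ,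
      ← sq, h4, smul_zero, add_zero]
    abel

theorem dvd_of_castHom {p : ℕ} [Fact p.Prime] (t : ZMod (p ^ 2))
    (h : ZMod.castHom (dvd_pow_self p two_ne_zero) (ZMod p) t = 0) :
    ∃ k : ZMod (p ^ 2), t = (p : ZMod (p ^ 2)) * k := by
  haveI : NeZero (p ^ 2) := ⟨pow_ne_zero _ (Fact.out : p.Prime).ne_zero⟩
  rw [← ZMod.natCast_zmod_val t, map_natCast, ZMod.natCast_eq_zero_iff] at h
  obtain ⟨k, hk⟩ := h
  exact ⟨k, by rw [← ZMod.natCast_zmod_val t, hk, Nat.cast_mul]⟩

theorem p_mul_p {p : ℕ} : (p : ZMod (p ^ 2)) * p = 0 := by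
  rw [← sq, ← Nat.cast_pow, ZMod.natCast_self]

theorem smul_T_eq_zero {p : ℕ} [Fact p.Prime] (hp : 3 < p)
    (M : Matrix (Fin 2) (Fin 2) (ZMod (p ^ 2))) (hM : M ^ p = 1) :
    (p : ZMod (p ^ 2)) • (M - 1) = 0 := by
  set T : Matrix (Fin 2) (Fin 2) (ZMod (p ^ 2)) := M - 1 with hT
  let φ : ZMod (p ^ 2) →+* ZMod p := ZMod.castHom (dvd_pow_self p two_ne_zero) (ZMod p)
  have hnil : IsNilpotent (φ.mapMatrix T) := by
    refine ⟨p, ?_⟩
    rw [hT, map_sub, map_one]
    haveI : ExpChar (Matrix (Fin 2) (Fin 2) (ZMod p)) p := ExpChar.prime (Fact.out : p.Prime)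
    rw [sub_pow_expChar_of_commute p (Commute.one_right _), one_pow, ← map_pow, hM, map_one,
      sub_self]
  have hsq : φ.mapMatrix T ^ 2 = 0 := by
    obtain ⟨A, hA⟩ : ∃ A, φ.mapMatrix T = A := ⟨_, rfl⟩
    rw [hA] at hnil ⊢
    have h1 : A.charpoly = Polynomial.X ^ 2 := by
      simpa using sub_eq_zero.1 (Matrix.isNilpotent_charpoly_sub_pow_of_isNilpotent hnil).eq_zero
    have h2 := Matrix.aeval_self_charpoly A
    simpa [h1] using h2
  have hU : ∀ i j, ∃ k, (T ^ 2) i j = (p : ZMod (p ^ 2)) * k := fun i j =>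
    dvd_of_castHom _ (by
      have := congrFun (congrFun (by rw [map_pow]; exact hsq : φ.mapMatrix (T ^ 2) = 0) i) j
      simpa [RingHom.mapMatrix_apply, φ] using this)
  choose U hU using hU
  have hT2 : T ^ 2 = (p : ZMod (p ^ 2)) • Matrix.of U := by
    ext i j; simp [hU i j]
  have hp0 : (p : ZMod (p ^ 2)) * p = 0 := p_mul_p
  have hpT2 : (p : ZMod (p ^ 2)) • T ^ 2 = 0 := by
    rw [hT2, smul_smul, hp0, zero_smul]
  have h4 : T ^ 4 = 0 := by
    rw [show 4 = 2 + 2 from rfl, pow_add, hT2, smul_mul_assoc, mul_smul_comm, smul_smul, hp0,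
      zero_smul]
  have hpT3 : (p : ZMod (p ^ 2)) • T ^ 3 = 0 := by
    rw [show T ^ 3 = T ^ 2 * T from pow_succ T 2, ← smul_mul_assoc, hpT2, zero_mul]
  have hexp := expand h4 p
  have hdvd : ∀ k, k ≠ 0 → k < p → ∀ X : Matrix (Fin 2) (Fin 2) (ZMod (p ^ 2)),
      (p : ZMod (p ^ 2)) • X = 0 → p.choose k • X = 0 := by
    intro k hk0 hkp X hX
    obtain ⟨c, hc⟩ := (Fact.out : p.Prime).dvd_choose_self hk0 hkp
    rw [hc, mul_comm, mul_smul, ← Nat.cast_smul_eq_nsmul (ZMod (p ^ 2)) p X, hX, smul_zero]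
  rw [hdvd 2 two_ne_zero (by omega) _ hpT2, hdvd 3 three_ne_zero (by omega) _ hpT3,
    Nat.choose_one_right, show 1 + T = M by rw [hT]; abel, hM, add_zero, add_zero] at hexp
  rw [Nat.cast_smul_eq_nsmul]
  simpa using hexp


/-- Let p > 3 be a prime and L the direct product of two cyclic groups of order p². Every automorphism of L of order p fixes every element of order p of L. -/
theorem result {p : ℕ} [Fact p.Prime] (hp : 3 < p)
    (a : MulAut (Multiplicative (ZMod (p ^ 2) × ZMod (p ^ 2)))) (ha : orderOf a = p)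
    (x : Multiplicative (ZMod (p ^ 2) × ZMod (p ^ 2))) (hx : orderOf x = p) : a x = x := by
  haveI : NeZero (p ^ 2) := ⟨pow_ne_zero _ (Fact.out : p.Prime).ne_zero⟩
  let f : (ZMod (p ^ 2) × ZMod (p ^ 2)) →ₗ[ZMod (p ^ 2)] (ZMod (p ^ 2) × ZMod (p ^ 2)) :=
    AddMonoidHom.toZModLinearMap (p ^ 2)
      { toFun := fun v => (a (Multiplicative.ofAdd v)).toAdd
        map_zero' := by simp
        map_add' := fun v w => by simp }
  have hf : ∀ v, f v = (a (Multiplicative.ofAdd v)).toAdd := fun v => rfl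
  have hiter : ∀ (m : ℕ) v, (f ^ m) v = ((a ^ m) (Multiplicative.ofAdd v)).toAdd := by
    intro m
    induction m with
    | zero => intro v; simp
    | succ m ih =>
      intro v
      rw [pow_succ' f, pow_succ' a, Module.End.mul_apply, ih, hf, MulAut.mul_apply]
      simp
  have hfp : f ^ p = 1 := by
    refine LinearMap.ext fun v => ?_
    have := pow_orderOf_eq_one a
    rw [ha] at this
    rw [hiter, this]
    simp
  let e := LinearMap.toMatrixAlgEquiv (Module.Basis.finTwoProd (ZMod (p ^ 2)))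
  have h0 := smul_T_eq_zero hp (e f) (by rw [← map_pow, hfp, map_one])
  have h1 : (p : ZMod (p ^ 2)) • (f - 1) = 0 := by
    apply e.injective
    rw [map_smul, map_sub, map_one, map_zero, h0]
  obtain ⟨u, w, hv⟩ : ∃ u w, Multiplicative.toAdd x = (u, w) := ⟨_, _, rfl⟩
  have hx0 : p • Multiplicative.toAdd x = 0 := by
    have := pow_orderOf_eq_one x
    rw [hx] at this
    rw [← toAdd_pow, this, toAdd_one]
  have hcoord : ∀ t : ZMod (p ^ 2), p • t = 0 → ∃ k, t = (p : ZMod (p ^ 2)) * k := by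
    intro t ht
    rw [← ZMod.natCast_zmod_val t, nsmul_eq_mul, ← Nat.cast_mul, ZMod.natCast_eq_zero_iff] at ht
    have ht2 : p * p ∣ p * t.val := (dvd_of_eq (sq p).symm).trans ht
    obtain ⟨k, hk⟩ := Nat.dvd_of_mul_dvd_mul_left (Fact.out : p.Prime).pos ht2
    exact ⟨k, by rw [← ZMod.natCast_zmod_val t, hk, Nat.cast_mul]⟩
  rw [hv, Prod.smul_mk, Prod.mk_eq_zero] at hx0
  obtain ⟨k, hk⟩ := hcoord u hx0.1
  obtain ⟨l, hl⟩ := hcoord w hx0.2
  have hxy : Multiplicative.toAdd x = (p : ZMod (p ^ 2)) • (k, l) := by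
    rw [hv, hk, hl]; rfl
  have h2 := LinearMap.congr_fun h1 (k, l)
  rw [LinearMap.smul_apply, LinearMap.sub_apply, smul_sub, ← map_smul, Module.End.one_apply,
    ← hxy, LinearMap.zero_apply, sub_eq_zero, hf] at h2
  exact Multiplicative.toAdd.injective h2

end Cfsg.Agent.S4080
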