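import Cfsg.Statements.S4081
import Cfsg.Agent.Lib.Perm.CycModule
import Cfsg.Agent.Lib.Solv.Generation
import Cfsg.Agent.Lib.Char.Burnside

set_option autoImplicit false
open Cfsg

namespace Cfsg.Agent.S4081

open Polynomial
open scoped IsMulCommutative commutatorElement

theorem orbit_rel {G : Type*} [Group G] {a b : G} :
    MulAction.orbitRel (MulAut G) G a b ↔ ∃ θ : MulAut G, θ b = a :=
  Iff.rfl

theorem three_classes {G : Type*} [Group G] [Finite G] {p q : ℕ} (hp : p.Prime) (hq : q.Prime)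
    (hpq : p ≠ q) (h3 : Nat.card (MulAction.orbitRel.Quotient (MulAut G) G) = 3) {a b : G}
    (ha : orderOf a = p) (hb : orderOf b = q) (g : G) :
    (orderOf g = 1 ∨ orderOf g = p ∨ orderOf g = q) ∧
      (orderOf g = p → ∃ θ : MulAut G, θ a = g) ∧ (orderOf g = q → ∃ θ : MulAut G, θ b = g) := by
  classical
  let mk : G → MulAction.orbitRel.Quotient (MulAut G) G := fun x => Quotient.mk _ x
  have hmk : ∀ x y : G, mk x = mk y → ∃ θ : MulAut G, θ y = x := fun x y h =>
    orbit_rel.1 (Quotient.exact h)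
  have hord : ∀ x y : G, mk x = mk y → orderOf x = orderOf y := by
    intro x y h
    obtain ⟨θ, rfl⟩ := hmk x y h
    exact MulEquiv.orderOf_eq θ y
  haveI : Fintype (MulAction.orbitRel.Quotient (MulAut G) G) := Fintype.ofFinite _
  have hd : ∀ x y : G, orderOf x ≠ orderOf y → mk x ≠ mk y := fun x y h e => h (hord x y e)
  have h1a : mk 1 ≠ mk a := hd _ _ (by rw [orderOf_one, ha]; exact hp.one_lt.ne)
  have h1b : mk 1 ≠ mk b := hd _ _ (by rw [orderOf_one, hb]; exact hq.one_lt.ne)
  have hab : mk a ≠ mk b := hd _ _ (by rw [ha, hb]; exact hpq)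
  have huniv : ({mk 1, mk a, mk b} : Finset _) = Finset.univ := by
    apply Finset.eq_univ_of_card
    rw [← Nat.card_eq_fintype_card, h3]
    simp [h1a, h1b, hab]
  have hall : mk g = mk 1 ∨ mk g = mk a ∨ mk g = mk b := by
    have : mk g ∈ ({mk 1, mk a, mk b} : Finset _) := huniv ▸ Finset.mem_univ _
    simpa using this
  refine ⟨?_, fun h => ?_, fun h => ?_⟩
  · rcases hall with e | e | e
    · exact Or.inl ((hord _ _ e).trans orderOf_one)
    · exact Or.inr (Or.inl ((hord _ _ e).trans ha))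
    · exact Or.inr (Or.inr ((hord _ _ e).trans hb))
  · rcases hall with e | e | e
    · rw [hord _ _ e, orderOf_one] at h; exact absurd h hp.one_lt.ne
    · exact hmk _ _ e
    · rw [hord _ _ e, hb] at h; exact absurd h.symm hpq
  · rcases hall with e | e | e
    · rw [hord _ _ e, orderOf_one] at h; exact absurd h hq.one_lt.ne
    · rw [hord _ _ e, ha] at h; exact absurd h hpq
    · exact hmk _ _ e

theorem commute_order {G : Type*} [Group G] [Finite G] {p q : ℕ} (hp : p.Prime) (hq : q.Prime)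
    (hpq : p ≠ q) (hord : ∀ g : G, orderOf g = 1 ∨ orderOf g = p ∨ orderOf g = q) {x y : G}
    (hx : orderOf x = p) (hy : orderOf y = q) : ¬ Commute x y := by
  intro hc
  have h := hc.orderOf_mul_eq_mul_orderOf_of_coprime
    (by rw [hx, hy]; exact (Nat.coprime_primes hp hq).2 hpq)
  rw [hx, hy] at h
  have h1 := hp.two_le
  have h2 := hq.two_le
  rcases hord (x * y) with e | e | e <;> rw [e] at h <;> nlinarith

/-- A non-trivial solvable group has a non-trivial abelian characteristic subgroup. -/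
theorem exists_char_abelian {G : Type*} [Group G] [Nontrivial G] (h : Group.IsSolvable G) :
    ∃ N : Subgroup G, N ≠ ⊥ ∧ N.Characteristic ∧ IsMulCommutative N := by
  have hex : ∃ n, derivedSeries G n = ⊥ := (Group.isSolvable_def G).1 h
  classical
  set k := Nat.find hex with hk'
  have hk : derivedSeries G k = ⊥ := Nat.find_spec hex
  have hk0 : k ≠ 0 := by
    intro e
    rw [e, derivedSeries_zero] at hk
    exact top_ne_bot hk
  obtain ⟨j, hj⟩ := Nat.exists_eq_succ_of_ne_zero hk0
  refine ⟨derivedSeries G j, Nat.find_min hex (by omega), derivedSeries_characteristic G j, ?_⟩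
  rw [hj, derivedSeries_succ] at hk
  refine ⟨⟨fun a b => Subtype.ext ?_⟩⟩
  have : ⁅(a : G), (b : G)⁆ = 1 := by
    have := Subgroup.commutator_mem_commutator a.2 b.2
    rwa [hk, Subgroup.mem_bot] at this
  exact commutatorElement_eq_one_iff_mul_comm.1 this

/-- Conjugation by an element on an abelian normal subgroup of exponent `p`, as a linear map. -/
noncomputable def conjLin {G : Type*} [Group G] (p : ℕ) (N : Subgroup G) [N.Normal]
    [IsMulCommutative N] [Module (ZMod p) (Additive N)] (x : G) :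
    Additive N →ₗ[ZMod p] Additive N :=
  AddMonoidHom.toZModLinearMap p
    (MonoidHom.toAdditive (MulAut.conjNormal (H := N) x).toMonoidHom)

theorem conjLin_pow_apply {G : Type*} [Group G] (p : ℕ) (N : Subgroup G) [N.Normal]
    [IsMulCommutative N] [Module (ZMod p) (Additive N)] (x : G) (i : ℕ) :
    ∀ v : Additive N, (((conjLin p N x ^ i) v).toMul : G) = x ^ i * (v.toMul : G) * (x ^ i)⁻¹ := by
  induction i with
  | zero => intro v; simp
  | succ i ih =>
    intro v
    rw [pow_succ, Module.End.mul_apply, ih, pow_succ]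
    simp [conjLin, MulAut.conjNormal_apply, mul_assoc]

theorem conjLin_cyclotomic {G : Type*} [Group G] (p q : ℕ) [Fact p.Prime] [Fact q.Prime]
    (N : Subgroup G) [N.Normal] [IsMulCommutative N] [Module (ZMod p) (Additive N)] (x : G)
    (hx : x ^ q = 1) (hfpf : ∀ y ∈ N, x * y * x⁻¹ = y → y = 1) :
    aeval (conjLin p N x) (cyclotomic q (ZMod p)) = 0 := by
  set A := conjLin p N x with hA
  have hAq : A ^ q = 1 := by
    refine LinearMap.ext fun v => Additive.toMul.injective (Subtype.ext ?_)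
    rw [hA, conjLin_pow_apply]
    simp [hx]
  rw [cyclotomic_prime, map_sum]
  simp only [map_pow, aeval_X]
  refine LinearMap.ext fun v => ?_
  set w := (∑ i ∈ Finset.range q, A ^ i) v
  have hfix : A w = w := by
    have : A * (∑ i ∈ Finset.range q, A ^ i) = ∑ i ∈ Finset.range q, A ^ i := by
      have h := mul_geom_sum A q
      rw [hAq, sub_self, sub_mul, one_mul, sub_eq_zero] at h
      exact h
    exact congrArg (fun T => T v) this
  have h2 := conjLin_pow_apply p N x 1 w
  rw [pow_one, pow_one, ← hA, hfix] at h2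
  have h3 := hfpf _ w.toMul.2 h2.symm
  show w = 0
  exact Additive.toMul.injective (Subtype.ext h3)

theorem forward {G : Type*} [Group G] [Finite G] (p q : ℕ) [hp : Fact p.Prime] [hq : Fact q.Prime]
    (hpq : p ≠ q) (h3 : Nat.card (MulAction.orbitRel.Quotient (MulAut G) G) = 3) {a b : G}
    (ha : orderOf a = p) (hb : orderOf b = q) (N : Subgroup G) (hchar : N.Characteristic)
    (hcomm : IsMulCommutative N) (haN : a ∈ N) :
    ∃ n : ℕ, 1 ≤ n ∧ Nat.card G = p ^ n * q ∧
      (∀ P : Sylow p G, (P : Subgroup G).Normal ∧ Cfsg.IsElementaryAbelian p (P : Subgroup G)) ∧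
      orderOf (p : ZMod q) = q - 1 ∧
      ∀ x y : G, orderOf x = q → orderOf y = p → x * y * x⁻¹ ≠ y := by
  classical
  have hord : ∀ g : G, orderOf g = 1 ∨ orderOf g = p ∨ orderOf g = q := fun g =>
    (three_classes hp.out hq.out hpq h3 ha hb g).1
  have hncomm : ∀ x y : G, orderOf x = p → orderOf y = q → ¬ Commute x y :=
    fun x y => commute_order hp.out hq.out hpq hord
  have hfix : ∀ θ : MulAut G, ∀ z ∈ N, θ z ∈ N := by
    intro θ z hz
    have := (Subgroup.characteristic_iff_map_eq.1 hchar) θ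
    exact this.le (Subgroup.mem_map_of_mem _ hz)
  have hpN : ∀ g : G, orderOf g = p → g ∈ N := by
    intro g hg
    obtain ⟨θ, rfl⟩ := (three_classes hp.out hq.out hpq h3 ha hb g).2.1 hg
    exact hfix θ a haN
  have hNp : ∀ z ∈ N, z ^ p = 1 := by
    intro z hz
    rcases hord z with e | e | e
    · rw [orderOf_eq_one_iff.1 e, one_pow]
    · rw [← e, pow_orderOf_eq_one]
    · refine absurd ?_ (hncomm a z ha e)
      exact congrArg Subtype.val (hcomm.is_comm.comm ⟨a, haN⟩ ⟨z, hz⟩)
  have hNpg : IsPGroup p N := fun z => ⟨1, by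
    rw [pow_one]; exact Subtype.ext (hNp z z.2)⟩
  haveI hNn : N.Normal := inferInstance
  have hsub : ∀ P : Subgroup G, IsPGroup p P → P ≤ N := by
    intro P hP z hz
    rcases hord z with e | e | e
    · rw [orderOf_eq_one_iff.1 e]; exact one_mem _
    · exact hpN z e
    · obtain ⟨k, hk⟩ := hP ⟨z, hz⟩
      have h1 : orderOf z ∣ p ^ k := orderOf_dvd_of_pow_eq_one (congrArg Subtype.val hk)
      rw [e] at h1
      exact absurd ((Nat.prime_dvd_prime_iff_eq hq.out hp.out).1 (hq.out.dvd_of_dvd_pow h1)).symm hpq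
  have hsyl : ∀ P : Sylow p G, (P : Subgroup G) = N := fun P =>
    (P.is_maximal' hNpg (hsub _ P.isPGroup')).symm
  have hfpf : ∀ x y : G, orderOf x = q → orderOf y = p → x * y * x⁻¹ ≠ y := by
    intro x y hx hy e
    refine hncomm y x hy hx ?_
    rw [Commute, SemiconjBy]
    calc y * x = (x * y * x⁻¹) * x := by rw [e]
      _ = x * y := by group
  have hfpf' : ∀ x : G, orderOf x = q → ∀ y ∈ N, x * y * x⁻¹ = y → y = 1 := by
    intro x hx y hy e
    rcases hord y with h | h | h
    · exact orderOf_eq_one_iff.1 h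
    · exact absurd e (hfpf x y hx h)
    · have h1 := orderOf_dvd_of_pow_eq_one (hNp y hy)
      rw [h] at h1
      exact absurd ((Nat.prime_dvd_prime_iff_eq hq.out hp.out).1 h1).symm hpq
  obtain ⟨Q⟩ := (inferInstance : Nonempty (Sylow q G))
  have hQexp : ∀ z ∈ (Q : Subgroup G), z ≠ 1 → orderOf z = q := by
    intro z hz h1
    rcases hord z with e | e | e
    · exact absurd (orderOf_eq_one_iff.1 e) h1
    · exfalso
      obtain ⟨k, hk⟩ := Q.isPGroup' ⟨z, hz⟩
      have h2 : orderOf z ∣ q ^ k := orderOf_dvd_of_pow_eq_one (congrArg Subtype.val hk)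
      rw [e] at h2
      exact hpq ((Nat.prime_dvd_prime_iff_eq hp.out hq.out).1 (hp.out.dvd_of_dvd_pow h2))
    · exact e
  -- the order of `G`
  have hN1 : 1 < Nat.card N := by
    rw [Finite.one_lt_card_iff_nontrivial]
    exact ⟨⟨⟨a, haN⟩, 1, fun e => hp.out.one_lt.ne'
      (by rw [← ha, show a = 1 from congrArg Subtype.val e, orderOf_one])⟩⟩
  obtain ⟨n, hn⟩ := hNpg.exists_card_eq
  have hn1 : 1 ≤ n := by
    by_contra h
    rw [show n = 0 by omega, pow_zero] at hn
    omega
  obtain ⟨m, hm⟩ := Q.isPGroup'.exists_card_eq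
  have hm1 : m ≤ 1 := by
    by_contra hm2
    obtain ⟨E, hE⟩ := Sylow.exists_subgroup_card_pow_prime q (G := (Q : Subgroup G)) (n := 2)
      (by rw [hm]; exact pow_dvd_pow q (by omega))
    set E' := E.map (Q : Subgroup G).subtype with hE'
    have hEc : Nat.card E' = q ^ 2 := by rw [hE', Cfsg.Agent.Solv.card_map_subtype, hE]
    have hEcomm : IsMulCommutative E' := IsPGroup.isMulCommutative_of_card_eq_prime_sq hEc
    have hco : (Nat.card E').Coprime (Nat.card N) := by
      rw [hEc, hn]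
      exact Nat.Coprime.pow _ _ ((Nat.coprime_primes hq.out hp.out).2 hpq.symm)
    have hgen := Cfsg.Agent.Solv.gen_eq E' N hEcomm
      (by rw [Subgroup.normalizer_eq_top]; exact le_top) hco
    have hbot : N = ⊥ := by
      rw [eq_bot_iff, ← hgen]
      refine iSup₂_le fun B hB => ?_
      obtain ⟨hBE, c, hcE, hsup⟩ := hB
      obtain ⟨x, hxB, hx1⟩ : ∃ x ∈ B, x ≠ 1 := by
        by_contra hno
        push Not at hno
        have hB0 : B = ⊥ := (Subgroup.eq_bot_iff_forall B).2 hno
        rw [hB0, bot_sup_eq] at hsup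
        have hc1 : orderOf c = q ^ 2 := by rw [← Nat.card_zpowers, hsup, hEc]
        rcases hord c with e | e | e <;> rw [e] at hc1
        · exact absurd hc1 (Nat.one_lt_pow two_ne_zero hq.out.one_lt).ne
        · exact hpq ((Nat.prime_dvd_prime_iff_eq hp.out hq.out).1
            (hp.out.dvd_of_dvd_pow (Dvd.intro 1 (by rw [mul_one, ← hc1]))))
        · nlinarith [hq.out.two_le]
      have hxQ : x ∈ (Q : Subgroup G) := Subgroup.map_subtype_le E (hBE hxB)
      intro z hz
      obtain ⟨hzN, hzB⟩ := Subgroup.mem_inf.1 hz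
      refine hfpf' x (hQexp x hxQ hx1) z hzN ?_
      rw [Subgroup.mem_centralizer_iff.1 hzB x hxB, mul_inv_cancel_right]
    rw [hbot, Subgroup.card_bot] at hN1
    omega
  have hm0 : m ≠ 0 := by
    intro e
    have hbq : q ∣ Nat.card (Q : Subgroup G) :=
      Q.dvd_card_of_dvd_card (hb ▸ orderOf_dvd_natCard b)
    rw [hm, e, pow_zero] at hbq
    exact hq.out.one_lt.ne' (Nat.eq_one_of_dvd_one hbq)
  have hmeq : m = 1 := by omega
  obtain ⟨P⟩ := (inferInstance : Nonempty (Sylow p G))
  have hcardG : Nat.card G = p ^ n * q := by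
    refine Nat.eq_of_factorization_eq (Nat.card_pos).ne'
      (mul_ne_zero (pow_ne_zero _ hp.out.ne_zero) hq.out.ne_zero) fun r => ?_
    have hP := P.card_eq_multiplicity
    have hQ := Q.card_eq_multiplicity
    rw [hsyl P, hn] at hP
    rw [hm, hmeq] at hQ
    have hP' := Nat.pow_right_injective hp.out.two_le hP
    have hQ' := Nat.pow_right_injective hq.out.two_le hQ
    rw [Nat.factorization_mul (pow_ne_zero _ hp.out.ne_zero) hq.out.ne_zero,
      Nat.Prime.factorization_pow hp.out, Nat.Prime.factorization hq.out]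
    rcases eq_or_ne r p with rfl | hrp
    · simp [hpq, Ne.symm hpq, ← hP']
    rcases eq_or_ne r q with rfl | hrq
    · simp [hpq, Ne.symm hpq, ← hQ']
    · simp [hrp.symm, hrq.symm]
      by_contra hne
      have hr : r.Prime := Nat.prime_of_mem_primeFactors
        (Nat.support_factorization (Nat.card G) ▸ Finsupp.mem_support_iff.2 hne)
      haveI := Fact.mk hr
      obtain ⟨g, hg⟩ := exists_prime_orderOf_dvd_card' r
        (Nat.dvd_of_factorization_pos hne)
      rcases hord g with e | e | e <;> rw [hg] at e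
      · exact hr.ne_one e
      · exact hrp e
      · exact hrq e
  refine ⟨n, hn1, hcardG, fun P => ?_, ?_, hfpf⟩
  · rw [hsyl P]
    exact ⟨hNn, hcomm, hNp⟩
  -- primitive root
  have hsm : ∀ v : Additive N, p • v = 0 := fun v =>
    Additive.toMul.injective (Subtype.ext (hNp _ v.toMul.2))
  haveI : Module (ZMod p) (Additive N) := AddCommGroup.zmodModule hsm
  have hqA : aeval (conjLin p N b) (cyclotomic q (ZMod p)) = 0 :=
    conjLin_cyclotomic p q N b (by rw [← hb]; exact pow_orderOf_eq_one b) (hfpf' b hb)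
  have hcompl : Subgroup.IsComplement' N (Subgroup.zpowers b) := by
    refine Subgroup.isComplement'_of_coprime ?_ ?_
    · rw [hn, Nat.card_zpowers, hb, hcardG]
    · rw [hn, Nat.card_zpowers, hb]
      exact Nat.Coprime.pow_left _ ((Nat.coprime_primes hp.out hq.out).2 hpq)
  have hdec : ∀ g : G, ∃ z ∈ N, ∃ i : ℕ, g = z * b ^ i := by
    intro g
    obtain ⟨⟨⟨z, hz⟩, ⟨c, hc⟩⟩, hzc, -⟩ := Subgroup.IsComplement.existsUnique hcompl g
    obtain ⟨i, rfl⟩ := mem_powers_iff_mem_zpowers.2 hc
    exact ⟨z, hz, i, hzc.symm⟩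
  -- restriction of an automorphism
  let res : MulAut G → (Additive N ≃+ Additive N) := fun θ => MulEquiv.toAdditive
    { toFun := fun z => ⟨θ z, hfix θ z z.2⟩
      invFun := fun z => ⟨θ⁻¹ z, hfix θ⁻¹ z z.2⟩
      left_inv := fun z => Subtype.ext (θ.symm_apply_apply z)
      right_inv := fun z => Subtype.ext (θ.apply_symm_apply z)
      map_mul' := fun z w => Subtype.ext (map_mul θ (z : G) w) }
  have hres : ∀ (θ : MulAut G) (v : Additive N), (((res θ) v).toMul : G) = θ (v.toMul : G) :=
    fun θ v => rfl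
  have hsemi : ∀ (θ : MulAut G) (i : ℕ) (z : G), z ∈ N → θ b = z * b ^ i →
      ∀ v, res θ (conjLin p N b v) = (conjLin p N b ^ i) (res θ v) := by
    intro θ i z hz hθ v
    apply Additive.toMul.injective
    apply Subtype.ext
    have h1 := conjLin_pow_apply p N b 1 v
    rw [pow_one, pow_one] at h1
    rw [hres, h1, conjLin_pow_apply, hres, map_mul, map_mul, map_inv, hθ]
    set w : G := θ (v.toMul : G) with hw
    have hwN : b ^ i * w * (b ^ i)⁻¹ ∈ N := hNn.conj_mem _ (hfix θ _ v.toMul.2) _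
    have hzw : z * (b ^ i * w * (b ^ i)⁻¹) = (b ^ i * w * (b ^ i)⁻¹) * z :=
      congrArg Subtype.val (hcomm.is_comm.comm ⟨z, hz⟩ ⟨_, hwN⟩)
    calc z * b ^ i * w * (z * b ^ i)⁻¹ = z * (b ^ i * w * (b ^ i)⁻¹) * z⁻¹ := by group
      _ = b ^ i * w * (b ^ i)⁻¹ := by rw [hzw]; group
  have hpow : ∀ i j : ℕ, (i : ZMod q) = j → conjLin p N b ^ i = conjLin p N b ^ j := by
    intro i j hij
    rw [ZMod.natCast_eq_natCast_iff'] at hij
    refine LinearMap.ext fun v => Additive.toMul.injective (Subtype.ext ?_)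
    rw [conjLin_pow_apply, conjLin_pow_apply, ← Cfsg.Agent.Perm.pow_mod_of_pow
      (hb ▸ pow_orderOf_eq_one b) i, ← Cfsg.Agent.Perm.pow_mod_of_pow
      (hb ▸ pow_orderOf_eq_one b) j, hij]
  refine Cfsg.Agent.Perm.orderOf_eq_of_transitive hpq (conjLin p N b) hqA
    ⟨Additive.ofMul ⟨a, haN⟩, fun e => hp.out.one_lt.ne'
      (by rw [← ha, show a = 1 from congrArg (fun v : Additive N => (v.toMul : G)) e, orderOf_one])⟩
    ?_ ?_
  · intro v w hv hw
    have hop : ∀ v : Additive N, v ≠ 0 → orderOf (v.toMul : G) = p := by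
      intro v hv
      refine orderOf_eq_prime (hNp _ v.toMul.2) fun e => hv ?_
      exact Additive.toMul.injective (Subtype.ext e)
    obtain ⟨θ₁, h1⟩ := (three_classes hp.out hq.out hpq h3 ha hb _).2.1 (hop v hv)
    obtain ⟨θ₂, h2⟩ := (three_classes hp.out hq.out hpq h3 ha hb _).2.1 (hop w hw)
    set θ : MulAut G := θ₂ * θ₁⁻¹ with hθdef
    have hθ : θ (v.toMul : G) = w.toMul := by
      rw [hθdef, MulAut.mul_apply, ← h1, MulAut.inv_apply, MulEquiv.symm_apply_apply, h2]
    obtain ⟨z, hz, i, hi⟩ := hdec (θ b)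
    have hiq : ¬ q ∣ i := by
      rintro ⟨c, rfl⟩
      rw [pow_mul, ← hb, pow_orderOf_eq_one, one_pow, mul_one] at hi
      have := MulEquiv.orderOf_eq θ b
      rw [hi, hb] at this
      have h4 := orderOf_dvd_of_pow_eq_one (hNp z hz)
      rw [this] at h4
      exact hpq ((Nat.prime_dvd_prime_iff_eq hq.out hp.out).1 h4).symm
    have hu : (i : ZMod q) ≠ 0 := by
      rw [ne_eq, ZMod.natCast_eq_zero_iff]; exact hiq
    refine ⟨Units.mk0 _ hu, res θ, Additive.toMul.injective (Subtype.ext hθ), fun x => ?_⟩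
    rw [hsemi θ i z hz hi x, hpow i (ZMod.val (i : ZMod q)) (by simp)]
    rfl
  · intro u
    have hord' : orderOf (b ^ (u : ZMod q).val) = q := by
      rw [Nat.Coprime.orderOf_pow ?_, hb]
      rw [hb]
      refine Nat.coprime_of_lt_prime ?_ (ZMod.val_lt _) hq.out
      exact fun e => u.ne_zero ((ZMod.val_eq_zero _).1 e)
    obtain ⟨θ, hθ⟩ := (three_classes hp.out hq.out hpq h3 ha hb _).2.2 hord'
    exact ⟨res θ, hsemi θ _ 1 N.one_mem (by rw [hθ, one_mul])⟩

theorem backward {G : Type*} [Group G] [Finite G] (p q n : ℕ) [hp : Fact p.Prime]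
    [hq : Fact q.Prime] (hpq : p ≠ q) (hn : 1 ≤ n) (hcard : Nat.card G = p ^ n * q)
    (hP : ∀ P : Sylow p G, (P : Subgroup G).Normal ∧ Cfsg.IsElementaryAbelian p (P : Subgroup G))
    (hord : orderOf (p : ZMod q) = q - 1)
    (hfpf : ∀ x y : G, orderOf x = q → orderOf y = p → x * y * x⁻¹ ≠ y) :
    Nat.card (MulAction.orbitRel.Quotient (MulAut G) G) = 3 := by
  classical
  obtain ⟨P⟩ := (inferInstance : Nonempty (Sylow p G))
  obtain ⟨hPn, hPc, hPe⟩ := hP P
  set N : Subgroup G := P.toSubgroup with hN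
  haveI := hPn
  haveI := hPc
  have hcop : (p ^ n).Coprime q := Nat.Coprime.pow_left _ ((Nat.coprime_primes hp.out hq.out).2 hpq)
  have hNc : Nat.card N = p ^ n := by
    obtain ⟨k, hk⟩ := P.isPGroup'.exists_card_eq
    have h1 := P.card_eq_multiplicity
    rw [hk, hcard, Nat.factorization_mul (pow_ne_zero _ hp.out.ne_zero) hq.out.ne_zero,
      Nat.Prime.factorization_pow hp.out, Nat.Prime.factorization hq.out] at h1
    simp [Ne.symm hpq] at h1
    rw [hk, Nat.pow_right_injective hp.out.two_le h1]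
  obtain ⟨b, hb⟩ := exists_prime_orderOf_dvd_card' q (G := G) (hcard ▸ dvd_mul_left _ _)
  have hcompl : Subgroup.IsComplement' N (Subgroup.zpowers b) := by
    refine Subgroup.isComplement'_of_coprime ?_ ?_
    · rw [hNc, Nat.card_zpowers, hb, hcard]
    · rw [hNc, Nat.card_zpowers, hb]; exact hcop
  have hbq : b ^ q = 1 := hb ▸ pow_orderOf_eq_one b
  have hfpf' : ∀ x : G, orderOf x = q → ∀ y ∈ N, x * y * x⁻¹ = y → y = 1 := by
    intro x hx y hy e
    by_contra h1
    exact hfpf x y hx (orderOf_eq_prime (hPe y hy) h1) e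
  have hsm : ∀ v : Additive N, p • v = 0 := fun v =>
    Additive.toMul.injective (Subtype.ext (hPe _ v.toMul.2))
  haveI : Module (ZMod p) (Additive N) := AddCommGroup.zmodModule hsm
  set A := conjLin p N b with hA
  obtain ⟨hS1, hS2⟩ := Cfsg.Agent.Perm.symmetries_of_primitiveRoot hpq A
    (conjLin_cyclotomic p q N b hbq (hfpf' b hb)) hord
  -- automorphisms from symmetries
  have hext : ∀ (φ : Additive N ≃+ Additive N) (u : (ZMod q)ˣ),
      (∀ v, φ (A v) = (A ^ (u : ZMod q).val) (φ v)) →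
      ∃ θ : MulAut G, (∀ v : Additive N, θ (v.toMul : G) = (φ v).toMul) ∧
        θ b = b ^ (u : ZMod q).val := by
    intro φ u hφ
    set k := (u : ZMod q).val with hk
    let fn : N ≃* N := MulEquiv.toAdditive.symm φ
    have hfn : ∀ z : N, (fn z : G) = ((φ (Additive.ofMul z)).toMul : G) := fun z => rfl
    have hkq : (Nat.card (Subgroup.zpowers b)).Coprime k := by
      rw [Nat.card_zpowers, hb]
      exact Nat.coprime_of_lt_prime (fun e => u.ne_zero
        ((ZMod.val_eq_zero _).1 e)) (ZMod.val_lt _) hq.out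
    let fg : Subgroup.zpowers b ≃* Subgroup.zpowers b := MulEquiv.ofBijective
      (powMonoidHom k : Subgroup.zpowers b →* Subgroup.zpowers b) (powCoprime hkq).bijective
    have hfg : ∀ c : Subgroup.zpowers b, (fg c : G) = (c : G) ^ k := fun c => rfl
    let e := SemidirectProduct.mulEquivSubgroup hcompl
    have he : ∀ x, e x = (x.left : G) * (x.right : G) := fun x => rfl
    have hsemi : ∀ (i : ℕ) (z : N) (h : b ^ i * z * (b ^ i)⁻¹ ∈ N),
        (fn ⟨b ^ i * z * (b ^ i)⁻¹, h⟩ : G) = b ^ (i * k) * (fn z : G) * (b ^ (i * k))⁻¹ := by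
      intro i
      induction i with
      | zero =>
        intro z h
        simp
      | succ i ih =>
        intro z h
        have hm : b ^ i * z * (b ^ i)⁻¹ ∈ N := hPn.conj_mem _ z.2 _
        have e1 : (⟨b ^ (i + 1) * z * (b ^ (i + 1))⁻¹, h⟩ : N) =
            (A (Additive.ofMul ⟨b ^ i * z * (b ^ i)⁻¹, hm⟩)).toMul := by
          apply Subtype.ext
          have h2 := conjLin_pow_apply p N b 1 (Additive.ofMul ⟨b ^ i * z * (b ^ i)⁻¹, hm⟩)
          rw [pow_one, pow_one] at h2
          rw [hA, h2]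
          simp [pow_succ', mul_assoc]
        rw [e1, hfn, ofMul_toMul, hφ, hA, conjLin_pow_apply, ← hfn, ih z hm, Nat.succ_mul,
          Nat.add_comm, pow_add]
        group
    refine ⟨(e.symm.trans (SemidirectProduct.congr fn fg ?_)).trans e, ?_, ?_⟩
    · intro c
      refine MulEquiv.ext fun z => Subtype.ext ?_
      obtain ⟨c, hc⟩ := c
      obtain ⟨i, rfl⟩ := mem_powers_iff_mem_zpowers.2 hc
      show (fn ⟨b ^ i * z * (b ^ i)⁻¹, _⟩ : G) = (b ^ i) ^ k * (fn z : G) * ((b ^ i) ^ k)⁻¹
      rw [← pow_mul]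
      exact hsemi i z _
    · intro v
      have h1 : e.symm (v.toMul : G) = SemidirectProduct.inl v.toMul := by
        rw [MulEquiv.symm_apply_eq]
        simp [he]
      simp only [MulEquiv.trans_apply, h1]
      simp [he, SemidirectProduct.congr, hfn]
    · have h1 : e.symm b = SemidirectProduct.inr ⟨b, Subgroup.mem_zpowers b⟩ := by
        rw [MulEquiv.symm_apply_eq]
        simp [he]
      simp only [MulEquiv.trans_apply, h1]
      simp [he, SemidirectProduct.congr, hfg]
  -- orbits
  have hNord : ∀ g : G, g ∉ N → orderOf g = q := by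
    intro g hg
    have hd : orderOf g ∣ p ^ n * q := hcard ▸ orderOf_dvd_natCard g
    obtain ⟨z, hz⟩ : ∃ z, z = g ^ q := ⟨_, rfl⟩
    have hzN : z ∈ N := by
      have : IsPGroup p (Subgroup.zpowers z) := by
        refine IsPGroup.iff_card.2 ?_
        have h1 : orderOf z ∣ p ^ n := by
          refine orderOf_dvd_of_pow_eq_one ?_
          rw [hz, ← pow_mul, mul_comm, ← hcard, pow_card_eq_one']
        obtain ⟨j, -, hj⟩ := (Nat.dvd_prime_pow hp.out).1 h1
        exact ⟨j, by rw [Nat.card_zpowers, hj]⟩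
      obtain ⟨R, hR⟩ := this.exists_le_sylow
      haveI : Unique (Sylow p G) := P.unique_of_normal hPn
      rw [Subsingleton.elim R P] at hR
      exact hR (Subgroup.mem_zpowers z)
    have hgp : ¬ g ^ p ^ n = 1 := by
      intro h
      refine hg ?_
      have : IsPGroup p (Subgroup.zpowers g) := by
        refine IsPGroup.iff_card.2 ?_
        obtain ⟨j, -, hj⟩ := (Nat.dvd_prime_pow hp.out).1 (orderOf_dvd_of_pow_eq_one h)
        exact ⟨j, by rw [Nat.card_zpowers, hj]⟩
      obtain ⟨R, hR⟩ := this.exists_le_sylow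
      haveI : Unique (Sylow p G) := P.unique_of_normal hPn
      rw [Subsingleton.elim R P] at hR
      exact hR (Subgroup.mem_zpowers g)
    set x := g ^ p ^ n with hx
    have hxq : orderOf x = q := orderOf_eq_prime
      (by rw [hx, ← pow_mul, ← hcard, pow_card_eq_one']) hgp
    have hz1 : z = 1 := hfpf' x hxq z hzN (by
      rw [hz, hx, ← pow_add, add_comm, pow_add, mul_inv_cancel_right])
    exact orderOf_eq_prime (hz ▸ hz1) (fun e => hg (e ▸ one_mem N))
  have hrelp : ∀ v w : Additive N, v ≠ 0 → w ≠ 0 →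
      ∃ θ : MulAut G, θ (v.toMul : G) = w.toMul := by
    intro v w hv hw
    obtain ⟨φ, hφv, hφ⟩ := hS1 v w hv hw
    obtain ⟨θ, hθ, -⟩ := hext φ 1 (fun x => by simp [ZMod.val_one, hφ x])
    exact ⟨θ, by rw [hθ, hφv]⟩
  have hrelq : ∀ g : G, g ∉ N → ∃ θ : MulAut G, θ b = g := by
    intro g hg
    have hgq := hNord g hg
    let Q₁ : Sylow q G := Sylow.ofCard (Subgroup.zpowers b) (by
      rw [Nat.card_zpowers, hb, hcard, Nat.factorization_mul (pow_ne_zero _ hp.out.ne_zero)
        hq.out.ne_zero, Nat.Prime.factorization_pow hp.out, Nat.Prime.factorization hq.out]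
      simp [hpq])
    let Q₂ : Sylow q G := Sylow.ofCard (Subgroup.zpowers g) (by
      rw [Nat.card_zpowers, hgq, hcard, Nat.factorization_mul (pow_ne_zero _ hp.out.ne_zero)
        hq.out.ne_zero, Nat.Prime.factorization_pow hp.out, Nat.Prime.factorization hq.out]
      simp [hpq])
    obtain ⟨c, hc⟩ := MulAction.exists_smul_eq G Q₁ Q₂
    have h1 : g ∈ ((c • Q₁ : Sylow q G) : Subgroup G) := by
      rw [hc]; exact Subgroup.mem_zpowers g
    rw [Sylow.coe_subgroup_smul, Subgroup.mem_smul_pointwise_iff_exists] at h1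
    obtain ⟨s, hs, hsg⟩ := h1
    obtain ⟨i, rfl⟩ := mem_powers_iff_mem_zpowers.2 (show s ∈ Subgroup.zpowers b from hs)
    have hi : (i : ZMod q) ≠ 0 := by
      rw [ne_eq, ZMod.natCast_eq_zero_iff]
      rintro ⟨d, rfl⟩
      simp only [pow_mul, hbq, one_pow] at hsg
      simp at hsg
      exact hg (hsg ▸ one_mem N)
    obtain ⟨φ, hφ⟩ := hS2 (Units.mk0 _ hi)
    obtain ⟨θ, -, hθ⟩ := hext φ _ hφ
    refine ⟨MulAut.conj c * θ, ?_⟩
    rw [MulAut.mul_apply, hθ, Units.val_mk0, ZMod.val_natCast,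
      Cfsg.Agent.Perm.pow_mod_of_pow hbq]
    exact hsg
  obtain ⟨a, ha, ha1⟩ : ∃ a ∈ N, a ≠ 1 := by
    have : 1 < Nat.card N := by
      rw [hNc]; exact Nat.one_lt_pow (by omega) hp.out.one_lt
    exact (Subgroup.bot_or_exists_ne_one N).resolve_left
      ((Subgroup.one_lt_card_iff_ne_bot N).1 this)
  have hbN : b ∉ N := by
    intro h
    have := orderOf_dvd_of_pow_eq_one (hPe b h)
    rw [hb] at this
    exact hpq ((Nat.prime_dvd_prime_iff_eq hq.out hp.out).1 this).symm
  let mk : G → MulAction.orbitRel.Quotient (MulAut G) G := fun x => Quotient.mk _ x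
  have hd : ∀ x y : G, orderOf x ≠ orderOf y → mk x ≠ mk y := by
    intro x y h e
    obtain ⟨θ, rfl⟩ := orbit_rel.1 (Quotient.exact e)
    exact h (MulEquiv.orderOf_eq θ y)
  have haord : orderOf a = p := orderOf_eq_prime (hPe a ha) ha1
  haveI : Fintype (MulAction.orbitRel.Quotient (MulAut G) G) := Fintype.ofFinite _
  have huniv : (Finset.univ : Finset (MulAction.orbitRel.Quotient (MulAut G) G)) =
      {mk 1, mk a, mk b} := by
    ext z
    refine ⟨fun _ => ?_, fun _ => Finset.mem_univ _⟩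
    obtain ⟨g, rfl⟩ := Quotient.mk_surjective z
    simp only [Finset.mem_insert, Finset.mem_singleton]
    by_cases hg : g ∈ N
    · by_cases hg1 : g = 1
      · exact Or.inl (by rw [hg1])
      · refine Or.inr (Or.inl (Quotient.sound (orbit_rel.2 ?_)))
        exact hrelp (Additive.ofMul ⟨a, ha⟩) (Additive.ofMul ⟨g, hg⟩)
          (fun e => ha1 (congrArg (fun v : Additive N => (v.toMul : G)) e))
          (fun e => hg1 (congrArg (fun v : Additive N => (v.toMul : G)) e))
    · exact Or.inr (Or.inr (Quotient.sound (orbit_rel.2 (hrelq g hg))))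
  rw [Nat.card_eq_fintype_card, ← Finset.card_univ, huniv]
  have h1 : mk 1 ≠ mk a := hd _ _ (by rw [orderOf_one, haord]; exact hp.out.one_lt.ne)
  have h2 : mk 1 ≠ mk b := hd _ _ (by rw [orderOf_one, hb]; exact hq.out.one_lt.ne)
  have h3 : mk a ≠ mk b := hd _ _ (by rw [haord, hb]; exact hpq)
  simp [h1, h2, h3]

theorem exists_two_primes {n : ℕ} (hnpp : ¬ IsPrimePow n) (hnt : n ≠ 1) (hn : n ≠ 0) :
    ∃ p q : ℕ, p.Prime ∧ q.Prime ∧ p ≠ q ∧ p ∣ n ∧ q ∣ n := by
  obtain ⟨p, hp, hpn⟩ := Nat.exists_prime_and_dvd hnt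
  by_contra hno
  push Not at hno
  refine hnpp ((isPrimePow_iff_unique_prime_dvd).2 ⟨p, ⟨hp, hpn⟩, fun r hr => ?_⟩)
  by_contra hne
  exact hno p r hp hr.1 (Ne.symm hne) hpn hr.2

/-- Let G be a finite group whose order is not a prime power. Then the automorphism group of G has exactly three orbits on G if and only if there are distinct primes p, q with #G = pⁿ·q (n ≥ 1) such that G has a normal elementary abelian Sylow p-subgroup P, p is a primitive root modulo q (the multiplicative order of p mod q is q − 1), and every element of order q of G acts on P without non-identity fixed points. -/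
theorem result {G : Type*} [Group G] [Finite G] (hnpp : ¬ IsPrimePow (Nat.card G)) (hnt : Nat.card G ≠ 1) :
    Nat.card (MulAction.orbitRel.Quotient (MulAut G) G) = 3 ↔
    ∃ (p q n : ℕ) (_ : Fact p.Prime) (_ : Fact q.Prime), p ≠ q ∧ 1 ≤ n ∧ Nat.card G = p ^ n * q ∧
      (∀ P : Sylow p G, (P : Subgroup G).Normal ∧ Cfsg.IsElementaryAbelian p (P : Subgroup G)) ∧
      orderOf (p : ZMod q) = q - 1 ∧
      ∀ x y : G, orderOf x = q → orderOf y = p → x * y * x⁻¹ ≠ y := by
  constructor
  · intro h3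
    obtain ⟨p, q, hp, hq, hpq, hpd, hqd⟩ := exists_two_primes hnpp hnt Nat.card_pos.ne'
    haveI := Fact.mk hp
    haveI := Fact.mk hq
    obtain ⟨a, ha⟩ := exists_prime_orderOf_dvd_card' p hpd
    obtain ⟨b, hb⟩ := exists_prime_orderOf_dvd_card' q hqd
    haveI : Nontrivial G := ⟨⟨a, 1, fun e => hp.one_lt.ne' (by rw [← ha, e, orderOf_one])⟩⟩
    have hsol : Group.IsSolvable G := by
      refine Cfsg.Agent.Char.isSolvable_of_two_primes hp hq _ rfl fun r hr hrd => ?_
      haveI := Fact.mk hr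
      obtain ⟨g, hg⟩ := exists_prime_orderOf_dvd_card' r hrd
      rcases (three_classes hp hq hpq h3 ha hb g).1 with e | e | e <;> rw [hg] at e
      · exact absurd e hr.ne_one
      · exact Or.inl e
      · exact Or.inr e
    obtain ⟨N, hN, hchar, hcomm⟩ := exists_char_abelian hsol
    obtain ⟨z, hz, hz1⟩ := (Subgroup.bot_or_exists_ne_one N).resolve_left hN
    rcases (three_classes hp hq hpq h3 ha hb z).1 with e | e | e
    · exact absurd (orderOf_eq_one_iff.1 e) hz1
    · obtain ⟨n, h⟩ := forward p q hpq h3 e hb N hchar hcomm hz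
      exact ⟨p, q, n, ⟨hp⟩, ⟨hq⟩, hpq, h⟩
    · obtain ⟨n, h⟩ := forward q p hpq.symm h3 e ha N hchar hcomm hz
      exact ⟨q, p, n, ⟨hq⟩, ⟨hp⟩, hpq.symm, h⟩
  · rintro ⟨p, q, n, hp, hq, hpq, hn, hcard, hP, hord, hfpf⟩
    exact backward p q n hpq hn hcard hP hord hfpf

end Cfsg.Agent.S4081
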