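import Cfsg.Statements.S4082
import Cfsg.Agent.Lib.Perm.PByCyclic

set_option autoImplicit false
open Cfsg
open scoped Pointwise

namespace Cfsg.Agent.S4082

open Cfsg.Agent.Perm.PByCyclic

/-- In a dihedral group of order twice an odd number, an element not commuting with a rotation is a reflection. -/
theorem dihedral_invert {n k : ℕ} (hk : Odd k) (a y : DihedralGroup n) (ha : a ^ k = 1)
    (hne : y * a ≠ a * y) : y * y = 1 ∧ y * a * y⁻¹ = a⁻¹ := by
  obtain ⟨i⟩ | ⟨i⟩ := a
  · obtain ⟨l⟩ | ⟨l⟩ := y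
    · exact (hne (by simp [add_comm])).elim
    · exact ⟨by simp, by simp⟩
  · refine (hne ?_).elim
    obtain ⟨j, rfl⟩ := hk
    rw [pow_succ, pow_mul, sq, DihedralGroup.sr_mul_self, one_pow, one_mul] at ha
    rw [ha, mul_one, one_mul]

variable {G : Type*} [Group G] [Finite G] {p : ℕ} [Fact p.Prime]

theorem invert_of_hyp (hp : p ≠ 2) {H : Subgroup G}
    (hH : IsCyclic H ∨ ∃ n : ℕ, Nonempty (H ≃* DihedralGroup (p ^ n))) {a y : G} (ha : a ∈ H) (hy : y ∈ H)
    {j : ℕ} (hord : a ^ p ^ j = 1) (hne : ¬ Commute y a) : y * y = 1 ∧ y * a * y⁻¹ = a⁻¹ := by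
  rcases hH with hc | ⟨n, ⟨e⟩⟩
  · haveI := IsCyclic.isMulCommutative (α := H)
    exact (hne (congrArg Subtype.val (mul_comm' (⟨y, hy⟩ : H) ⟨a, ha⟩))).elim
  · have h1 := dihedral_invert (((Fact.out : p.Prime).odd_of_ne_two hp).pow (n := j))
      (e ⟨a, ha⟩) (e ⟨y, hy⟩) (by rw [← map_pow, ← map_one e]; congr 1; exact Subtype.ext hord)
      (fun h => hne (congrArg Subtype.val (e.injective (by rw [map_mul, map_mul]; exact h) :
        (⟨y, hy⟩ : H) * ⟨a, ha⟩ = ⟨a, ha⟩ * ⟨y, hy⟩)))
    constructor
    · have : (⟨y, hy⟩ : H) * ⟨y, hy⟩ = 1 := e.injective (by rw [map_mul, map_one]; exact h1.1)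
      exact congrArg Subtype.val this
    · have : (⟨y, hy⟩ : H) * ⟨a, ha⟩ * (⟨y, hy⟩ : H)⁻¹ = (⟨a, ha⟩ : H)⁻¹ := e.injective (by
        rw [map_mul, map_mul, map_inv, map_inv]; exact h1.2)
      exact congrArg Subtype.val this

/-- Let p be an odd prime and G a finite group with Sylow p-subgroup P. Say that G has restricted p-by-cyclic subgroups when every subgroup H of G whose Sylow p-subgroup is normal in H with cyclic quotient is itself cyclic or dihedral of order 2pⁿ for some n. Then G has restricted p-by-cyclic subgroups if and only if P is cyclic and one of the following holds: (1) N_G(P) = C_G(P); or (2) N_G(P)/C_G(P) has order 2 and, for the subgroup Q of order p of P, the centralizer C_G(Q) is abelian and every element of N_G(Q) outside C_G(Q) is an involution inverting every element of C_G(Q). -/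
theorem result {G : Type*} [Group G] [Finite G] {p : ℕ}
    [Fact p.Prime] (hp : p ≠ 2) (P : Sylow p G) :
    (∀ H : Subgroup G, (∀ S : Sylow p ↥H, (S : Subgroup ↥H).Normal) →
        (∀ (S : Sylow p ↥H) [(S : Subgroup ↥H).Normal], IsCyclic (↥H ⧸ (S : Subgroup ↥H))) →
        IsCyclic H ∨ (∃ n : ℕ, Nonempty (H ≃* DihedralGroup (p ^ n)))) ↔
    (IsCyclic P ∧
      (Subgroup.normalizer ((P : Subgroup G) : Set G) = Subgroup.centralizer ((P : Subgroup G) : Set G) ∨
       ((Subgroup.centralizer ((P : Subgroup G) : Set G)).relIndex (Subgroup.normalizer ((P : Subgroup G) : Set G)) = 2 ∧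
        ∀ Q : Subgroup G, Q ≤ P → Nat.card Q = p →
          IsMulCommutative ↥(Subgroup.centralizer (Q : Set G)) ∧
          ∀ x : G, x ∈ Subgroup.normalizer (Q : Set G) → x ∉ Subgroup.centralizer (Q : Set G) →
            orderOf x = 2 ∧ ∀ c : G, c ∈ Subgroup.centralizer (Q : Set G) → x * c * x⁻¹ = c⁻¹))) := by
  have hpp := (Fact.out : p.Prime)
  constructor
  · intro hall
    have happly : ∀ (S : Subgroup G), IsPGroup p S → ∀ x ∈ Subgroup.normalizer (S : Set G),
        IsCyclic ↥(S ⊔ Subgroup.zpowers x) ∨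
          ∃ n : ℕ, Nonempty (↥(S ⊔ Subgroup.zpowers x) ≃* DihedralGroup (p ^ n)) := fun S hS x hx => by
      have h := hyp_sup S hS hx
      exact hall _ h.1 (fun T hT => @h.2 T hT)
    have hcyc : IsCyclic (P : Subgroup G) := by
      have h := happly P P.2 1 (one_mem _)
      have e1 : (P : Subgroup G) ⊔ Subgroup.zpowers 1 = P := by simp
      rw [e1] at h
      rcases h with h | ⟨n, ⟨e⟩⟩
      · exact h
      · exfalso
        obtain ⟨k, hk⟩ := IsPGroup.iff_card.1 P.2
        have := Nat.card_congr e.toEquiv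
        rw [DihedralGroup.nat_card, hk] at this
        have h2 : (2 : ℕ) ∣ p ^ k := ⟨p ^ n, this⟩
        exact hp ((Nat.prime_dvd_prime_iff_eq Nat.prime_two hpp).1 (Nat.prime_two.dvd_of_dvd_pow h2)).symm
    refine ⟨hcyc, ?_⟩
    obtain ⟨⟨g, hg⟩, hgen⟩ := hcyc
    have hle : Subgroup.centralizer ((P : Subgroup G) : Set G) ≤
        Subgroup.normalizer ((P : Subgroup G) : Set G) :=
      Subgroup.centralizer_le_normalizer _
    have hgord : ∃ k : ℕ, g ^ p ^ k = 1 := by
      obtain ⟨k, hk⟩ := P.2 ⟨g, hg⟩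
      exact ⟨k, congrArg Subtype.val hk⟩
    have hgP : ∀ a ∈ (P : Subgroup G), ∃ k : ℤ, g ^ k = a := fun a ha => by
      obtain ⟨k, hk⟩ := hgen ⟨a, ha⟩
      exact ⟨k, congrArg Subtype.val hk⟩
    -- elements outside the centralizer invert P
    have hout : ∀ x ∈ Subgroup.normalizer ((P : Subgroup G) : Set G),
        x ∉ Subgroup.centralizer ((P : Subgroup G) : Set G) →
        ∀ a ∈ (P : Subgroup G), x * a * x⁻¹ = a⁻¹ := by
      intro x hx hxc a ha
      obtain ⟨k, hk⟩ := hgord
      have h := invert_of_hyp hp (happly P P.2 x hx) (le_sup_left (b := Subgroup.zpowers x) hg)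
        (le_sup_right (a := (P : Subgroup G)) (Subgroup.mem_zpowers x)) hk (fun hc => hxc
          (Subgroup.mem_centralizer_iff.2 fun b hb => by
            obtain ⟨m, rfl⟩ := hgP b hb
            exact ((hc.zpow_right m).eq).symm))
      obtain ⟨m, rfl⟩ := hgP a ha
      rw [← conj_zpow, h.2, inv_zpow]
    by_cases hN : Subgroup.normalizer ((P : Subgroup G) : Set G) ≤
        Subgroup.centralizer ((P : Subgroup G) : Set G)
    · exact Or.inl (le_antisymm hN hle)
    right
    obtain ⟨x0, hx0, hx0c⟩ := SetLike.not_le_iff_exists.1 hN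
    refine ⟨?_, fun Q hQP hQ => ?_⟩
    · refine Subgroup.relIndex_eq_two_iff.2 ⟨x0, hx0, fun b hb => ?_⟩
      by_cases hbc : b ∈ Subgroup.centralizer ((P : Subgroup G) : Set G)
      · exact Or.inr ⟨hbc, fun h => hx0c (by simpa using mul_mem (inv_mem hbc) h)⟩
      · refine Or.inl ⟨Subgroup.mem_centralizer_iff.2 fun a ha => ?_, hbc⟩
        have h1 := hout x0 hx0 hx0c a ha
        have h2 := hout b hb hbc a⁻¹ (inv_mem ha)
        rw [inv_inv, ← h1] at h2
        exact (mul_inv_eq_iff_eq_mul.1
          ((show b * x0 * a * (b * x0)⁻¹ = b * (x0 * a * x0⁻¹) * b⁻¹ by group).trans h2)).symm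
    have hcq : IsCyclic Q := isCyclic_of_prime_card hQ
    obtain ⟨⟨q, hq⟩, hqgen⟩ := hcq
    have hqQ : ∀ a ∈ Q, ∃ k : ℤ, q ^ k = a := fun a ha => by
      obtain ⟨k, hk⟩ := hqgen ⟨a, ha⟩
      exact ⟨k, congrArg Subtype.val hk⟩
    have hqp : q ^ p = 1 := by
      have := pow_card_eq_one' (x := (⟨q, hq⟩ : Q))
      rw [hQ] at this
      exact congrArg Subtype.val this
    have houtQ : ∀ x ∈ Subgroup.normalizer (Q : Set G), x ∉ Subgroup.centralizer (Q : Set G) →
        x * x = 1 := by
      intro x hx hxc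
      exact (invert_of_hyp hp (happly Q (P.2.to_le hQP) x hx) (le_sup_left (b := Subgroup.zpowers x) hq)
        (le_sup_right (a := Q) (Subgroup.mem_zpowers x)) (j := 1) (by rwa [pow_one]) (fun hc => hxc
          (Subgroup.mem_centralizer_iff.2 fun b hb => by
            obtain ⟨m, rfl⟩ := hqQ b hb
            exact ((hc.zpow_right m).eq).symm))).1
    have hx0Q : x0 ∈ Subgroup.normalizer (Q : Set G) := by
      refine Subgroup.mem_normalizer_iff.2 fun b => ⟨fun hb => ?_, fun hb => ?_⟩
      · rw [hout x0 hx0 hx0c b (hQP hb)]; exact inv_mem hb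
      · have h1 : b ∈ (P : Subgroup G) := (Subgroup.mem_normalizer_iff.1 hx0 b).2 (hQP hb)
        rw [hout x0 hx0 hx0c b h1] at hb
        simpa using inv_mem hb
    have hx0Qc : x0 ∉ Subgroup.centralizer (Q : Set G) := by
      intro hc
      have h1 := (Subgroup.mem_centralizer_iff.1 hc q hq).symm
      have h2 := hout x0 hx0 hx0c q (hQP hq)
      rw [h1, mul_inv_cancel_right] at h2
      have h3 : q ^ 2 = 1 := by rw [sq]; nth_rewrite 1 [h2]; exact inv_mul_cancel q
      have hcop : Nat.Coprime 2 p := (Nat.coprime_primes Nat.prime_two hpp).2 hp.symm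
      have h4 : q = 1 := by
        have := pow_gcd_eq_one.2 ⟨h3, hqp⟩
        rwa [hcop.gcd_eq_one, pow_one] at this
      have h5 : Q ≤ ⊥ := fun b hb => by
        obtain ⟨m, rfl⟩ := hqQ b hb
        simp [h4]
      rw [le_bot_iff] at h5
      rw [h5, Subgroup.card_bot] at hQ
      exact hpp.one_lt.ne hQ
    have key : ∀ x ∈ Subgroup.normalizer (Q : Set G), x ∉ Subgroup.centralizer (Q : Set G) →
        ∀ c ∈ Subgroup.centralizer (Q : Set G), x * c * x⁻¹ = c⁻¹ := by
      intro x hx hxc c hc
      have h1 : x * c * (x * c) = 1 := houtQ _ (mul_mem hx (Subgroup.centralizer_le_normalizer _ hc))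
        (fun h => hxc (by simpa using mul_mem h (inv_mem hc)))
      have h2 : x⁻¹ = x := inv_eq_of_mul_eq_one_right (houtQ x hx hxc)
      rw [h2]
      exact eq_inv_of_mul_eq_one_left (by rw [← h1]; group)
    refine ⟨⟨⟨fun c d => Subtype.ext ?_⟩⟩, fun x hx hxc => ⟨?_, fun c hc => key x hx hxc c hc⟩⟩
    · have e := key x0 hx0Q hx0Qc _ (mul_mem c.2 d.2)
      rw [show x0 * ((c : G) * d) * x0⁻¹ = (x0 * c * x0⁻¹) * (x0 * d * x0⁻¹) by group,
        key x0 hx0Q hx0Qc c c.2, key x0 hx0Q hx0Qc d d.2, mul_inv_rev] at e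
      have e2 := congrArg (fun z => z⁻¹) e
      simp only [mul_inv_rev, inv_inv] at e2
      exact e2.symm
    · refine orderOf_eq_prime (by rw [sq]; exact houtQ x hx hxc) ?_
      rintro rfl
      exact hxc (one_mem _)
  · rintro ⟨hcyc, hcase⟩ H hn hcycq
    -- the central step inside P
    have key : ∀ s ∈ (P : Subgroup G), ∀ y : G, ¬ p ∣ orderOf y → y * s * y⁻¹ ∈ Subgroup.zpowers s →
        Commute y s ∨ (y * y = 1 ∧ y * s * y⁻¹ = s⁻¹) := by
      intro s hs y hy hn
      obtain ⟨k, hk⟩ := (IsPGroup.iff_orderOf.1 P.2) ⟨s, hs⟩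
      rw [Subgroup.orderOf_mk] at hk
      rcases k with _ | j
      · left
        rw [pow_zero, orderOf_eq_one_iff] at hk
        rw [hk]; exact Commute.one_right y
      set Q := Subgroup.zpowers (s ^ p ^ j) with hQ
      have hsp : orderOf (s ^ p ^ j) = p := by
        rw [orderOf_pow_of_dvd (pow_ne_zero _ hpp.ne_zero) ⟨p, by rw [hk, pow_succ]⟩, hk, pow_succ,
          Nat.mul_div_cancel_left _ (pow_pos hpp.pos _)]
      have hQP : Q ≤ (P : Subgroup G) := Subgroup.zpowers_le.2 (pow_mem hs _)
      have hQc : Nat.card Q = p := by rw [hQ, Nat.card_zpowers, hsp]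
      have hyQ : y ∈ Subgroup.normalizer (Q : Set G) := by
        obtain ⟨m, hm⟩ := Subgroup.mem_zpowers_iff.1 hn
        have h1 : Q.map (MulAut.conj y).toMonoidHom ≤ Q := by
          rintro _ ⟨b, hb, rfl⟩
          obtain ⟨l, rfl⟩ := Subgroup.mem_zpowers_iff.1 hb
          refine Subgroup.mem_zpowers_iff.2 ⟨m * l, ?_⟩
          show _ = y * (s ^ p ^ j) ^ l * y⁻¹
          rw [← conj_zpow, ← conj_pow, ← hm, ← zpow_natCast (s ^ m), ← zpow_natCast s, ← zpow_mul,
            ← zpow_mul, ← zpow_mul]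
          congr 1
          ring
        have h2 : Q.map (MulAut.conj y).toMonoidHom = Q := Subgroup.eq_of_le_of_card_ge h1
          (le_of_eq (Subgroup.card_map_of_injective (MulAut.conj y).injective).symm)
        refine Subgroup.mem_normalizer_iff.2 fun b => ⟨fun hb => h1 ⟨b, hb, rfl⟩, fun hb => ?_⟩
        rw [← h2] at hb
        obtain ⟨c, hc, e⟩ := hb
        have : c = b := (MulAut.conj y).injective e
        exact this ▸ hc
      by_cases hyC : y ∈ Subgroup.centralizer (Q : Set G)
      · exact Or.inl (commute_of_fix hk hy hn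
          (Subgroup.mem_centralizer_iff.1 hyC _ (Subgroup.mem_zpowers _)).symm)
      · right
        haveI := IsCyclic.isMulCommutative (α := (P : Subgroup G))
        have hPC : (P : Subgroup G) ≤ Subgroup.centralizer (Q : Set G) := fun b hb =>
          Subgroup.mem_centralizer_iff.2 fun c hc =>
            congrArg Subtype.val (mul_comm' (⟨c, hQP hc⟩ : (P : Subgroup G)) ⟨b, hb⟩)
        rcases hcase with heq | ⟨-, h2⟩
        · -- Frattini argument
          exfalso
          set C := Subgroup.centralizer (Q : Set G)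
          have hyP : ((y • P : Sylow p G) : Subgroup G) ≤ C := by
            intro b hb
            obtain ⟨a, ha, rfl⟩ := hb
            refine Subgroup.mem_centralizer_iff.2 fun c hc => ?_
            have h3 := Subgroup.mem_centralizer_iff.1 (hPC ha) (y⁻¹ * c * y)
              (by
                have := (Subgroup.mem_normalizer_iff.1 (inv_mem hyQ) c).1 hc
                simpa using this)
            show c * (y * a * y⁻¹) = y * a * y⁻¹ * c
            calc c * (y * a * y⁻¹) = y * ((y⁻¹ * c * y) * a) * y⁻¹ := by group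
              _ = y * (a * (y⁻¹ * c * y)) * y⁻¹ := by rw [h3]
              _ = y * a * y⁻¹ * c := by group
          obtain ⟨c, hc⟩ := MulAction.exists_smul_eq C (P.subtype hPC) ((y • P).subtype hyP)
          have hc' : (c : G) • P = y • P := by
            rw [Sylow.smul_subtype] at hc
            exact Sylow.subtype_injective hc
          have h4 : (c : G)⁻¹ * y ∈ Subgroup.normalizer ((P : Subgroup G) : Set G) := by
            exact Sylow.smul_eq_iff_mem_normalizer.1 (by rw [mul_smul, ← hc', inv_smul_smul])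
          rw [heq] at h4
          have h5 : (c : G)⁻¹ * y ∈ C := Subgroup.centralizer_le (SetLike.coe_subset_coe.2 hQP) h4
          exact hyC (by simpa using mul_mem c.2 h5)
        · obtain ⟨-, h3⟩ := h2 Q hQP hQc
          obtain ⟨h4, h5⟩ := h3 y hyQ hyC
          refine ⟨by rw [← sq, ← h4]; exact pow_orderOf_eq_one y, h5 s (hPC hs)⟩
    obtain ⟨S⟩ : Nonempty (Sylow p H) := inferInstance
    haveI := hn S
    haveI := hcycq S
    obtain ⟨y, hy, htop, hcard⟩ := exists_lift (p := p) (S : Subgroup H) S.not_dvd_index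
    obtain ⟨T, hT⟩ := (S.2.map H.subtype).exists_le_sylow
    obtain ⟨g, hg⟩ := MulAction.exists_smul_eq G P T
    have hsub : ∀ a : H, a ∈ (S : Subgroup H) → g⁻¹ * (a : G) * g ∈ (P : Subgroup G) := fun a ha => by
      have h1 : (a : G) ∈ (T : Subgroup G) := hT ⟨a, ha, rfl⟩
      rw [← hg] at h1
      obtain ⟨b, hb, e⟩ := h1
      rw [← e]
      convert hb using 1
      simp [MulAut.conj_apply, mul_assoc]
      rfl
    haveI : IsCyclic (S : Subgroup H) := by
      let f : ↥(S : Subgroup H) →* ↥(P : Subgroup G) :=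
        ((MulAut.conj g⁻¹).toMonoidHom.comp (H.subtype.comp (S : Subgroup H).subtype)).codRestrict _
          (fun a => by simpa using hsub a a.2)
      exact isCyclic_of_injective f (fun a b h => Subtype.ext (Subtype.ext
        ((MulAut.conj g⁻¹).injective (congrArg Subtype.val h))))
    obtain ⟨⟨s, hs⟩, hsgen⟩ := IsCyclic.exists_generator (α := (S : Subgroup H))
    have hScard : Nat.card (S : Subgroup H) = orderOf s := by
      rw [← Subgroup.orderOf_mk s hs]
      exact (orderOf_eq_card_of_forall_mem_zpowers hsgen).symm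
    have hSz : ∀ a ∈ (S : Subgroup H), a ∈ Subgroup.zpowers s := fun a ha => by
      obtain ⟨k, hk⟩ := hsgen ⟨a, ha⟩
      exact ⟨k, congrArg Subtype.val hk⟩
    have hcases : Commute y s ∨ (y * y = 1 ∧ y * s * y⁻¹ = s⁻¹) := by
      have hconj : ∀ a : H, g⁻¹ * (a : G) * g = (MulAut.conj g⁻¹) (a : G) := fun a => by simp
      let φ : H →* G := (MulAut.conj g⁻¹).toMonoidHom.comp H.subtype
      have hφ : Function.Injective φ := fun a b h => Subtype.ext ((MulAut.conj g⁻¹).injective h)
      have h1 := key (φ s) (by simpa [φ] using hsub s hs) (φ y) (by rwa [orderOf_injective φ hφ y]) (by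
        obtain ⟨k, hk⟩ := Subgroup.mem_zpowers_iff.1 (hSz _ ((hn S).conj_mem s hs y))
        exact ⟨k, by show φ s ^ k = _; rw [← map_zpow, hk, map_mul, map_mul, map_inv]⟩)
      rcases h1 with h1 | ⟨h1, h2⟩
      · exact Or.inl (hφ (by rw [map_mul, map_mul]; exact h1.eq))
      · exact Or.inr ⟨hφ (by rw [map_mul, map_one]; exact h1),
          hφ (by rw [map_mul, map_mul, map_inv, map_inv]; exact h2)⟩
    have hco : (orderOf s).Coprime (orderOf y) := by
      obtain ⟨k, hk⟩ := IsPGroup.iff_card.1 S.2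
      rw [← hScard, hk]
      exact Nat.Coprime.pow_left k (hpp.coprime_iff_not_dvd.2 hy)
    by_cases hc : Commute y s
    · exact Or.inl (cyclic_of_commute hc.symm hco (by rwa [← hScard]))
    obtain ⟨hy2, hinv⟩ := hcases.resolve_left hc
    right
    have hyne : y ≠ 1 := fun h => hc (h ▸ Commute.one_left s)
    have hyo : orderOf y = 2 := orderOf_eq_prime (by rw [sq]; exact hy2) hyne
    have hsyo : orderOf (s * y) = 2 := by
      refine orderOf_eq_prime ?_ ?_
      · have hyi : y⁻¹ = y := inv_eq_of_mul_eq_one_right hy2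
        rw [hyi] at hinv
        calc (s * y) ^ 2 = s * (y * s * y) := by simp only [sq, mul_assoc]
          _ = 1 := by rw [hinv, mul_inv_cancel]
      · intro h
        exact hc (by rw [eq_inv_of_mul_eq_one_left h]; exact (Commute.refl y).inv_right)
    have hne : s * y ≠ y := fun h => hc (by rw [mul_eq_right.1 h]; exact Commute.one_right y)
    obtain ⟨e⟩ := Cfsg.Agent.Fusion.closure_pair_equiv_dihedral hsyo hyo hne
    have hcl : Subgroup.closure ({s * y, y} : Set H) = ⊤ := by
      rw [eq_top_iff, ← htop]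
      refine sup_le (fun a ha => ?_) (Subgroup.zpowers_le.2 (Subgroup.subset_closure (by simp)))
      have hsmem : s ∈ Subgroup.closure ({s * y, y} : Set H) := by
        have := mul_mem (Subgroup.subset_closure (show s * y ∈ ({s * y, y} : Set H) by simp))
          (Subgroup.subset_closure (show y ∈ ({s * y, y} : Set H) by simp))
        rwa [mul_assoc, hy2, mul_one] at this
      exact (Subgroup.zpowers_le.2 hsmem) (hSz a ha)
    obtain ⟨k, hk⟩ := IsPGroup.iff_card.1 S.2
    rw [show s * y * y = s by rw [mul_assoc, hy2, mul_one], ← hScard, hk] at e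
    exact ⟨k, ⟨(Subgroup.topEquiv.symm.trans (MulEquiv.subgroupCongr hcl.symm)).trans e⟩⟩

end Cfsg.Agent.S4082
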