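import Cfsg.Statements.S4083
import Cfsg.Agent.Lib.Perm.PByCyclic
import Cfsg.Agent.Lib.Classical.KleinNormalizer

set_option autoImplicit false
open Cfsg
open scoped Pointwise

namespace Cfsg.Agent.S4083

open Cfsg.Agent.Perm.PByCyclic

/-- Subgroups of dihedral groups. -/
theorem subgroup_dihedral {m : ℕ} [NeZero m] (T : Subgroup (DihedralGroup m)) :
    IsCyclic T ∨ ∃ x ∈ T, ∃ y ∈ T, orderOf x = 2 ∧ orderOf y = 2 ∧ x ≠ y ∧
      T ≤ Subgroup.closure {x, y} := by
  let D : AddSubgroup (ZMod m) :=
    { carrier := {i | DihedralGroup.r i ∈ T}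
      zero_mem' := by show DihedralGroup.r 0 ∈ T; rw [← DihedralGroup.one_def]; exact one_mem T
      add_mem' := fun {i j} hi hj => by
        show DihedralGroup.r (i + j) ∈ T
        rw [← DihedralGroup.r_mul_r]; exact mul_mem hi hj
      neg_mem' := fun {i} hi => by
        show DihedralGroup.r (-i) ∈ T
        rw [← DihedralGroup.inv_r]; exact inv_mem hi }
  have hrot : ∀ i : ZMod m, DihedralGroup.r i ∈ Subgroup.zpowers (DihedralGroup.r (1 : ZMod m)) := fun i =>
    ⟨(i.val : ℤ), by simp⟩
  by_cases hs : ∃ i : ZMod m, DihedralGroup.sr i ∈ T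
  · obtain ⟨i, hi⟩ := hs
    obtain ⟨⟨d, hd⟩, hgen⟩ := IsAddCyclic.exists_generator (α := D)
    have hD : ∀ j : ZMod m, DihedralGroup.r j ∈ T → ∃ k : ℤ, k • d = j := fun j hj => by
      obtain ⟨k, hk⟩ := hgen ⟨j, hj⟩
      exact ⟨k, congrArg Subtype.val hk⟩
    by_cases hd0 : d = 0
    · left
      have : T ≤ Subgroup.zpowers (DihedralGroup.sr i) := by
        rintro (j | j) hj
        · obtain ⟨k, hk⟩ := hD j hj
          rw [← hk, hd0, smul_zero, ← DihedralGroup.one_def]; exact one_mem _
        · have h2 : DihedralGroup.r (j - i) ∈ T := by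
            rw [← DihedralGroup.sr_mul_sr]; exact mul_mem hi hj
          obtain ⟨k, hk⟩ := hD _ h2
          rw [hd0, smul_zero] at hk
          rw [sub_eq_zero.1 hk.symm]; exact Subgroup.mem_zpowers _
      exact isCyclic_of_injective (Subgroup.inclusion this) (Subgroup.inclusion_injective _)
    · right
      refine ⟨_, hi, DihedralGroup.sr (i + d), ?_, DihedralGroup.orderOf_sr _, DihedralGroup.orderOf_sr _,
        fun h => hd0 (left_eq_add.1 (DihedralGroup.sr.inj h)), ?_⟩
      · have : DihedralGroup.sr i * DihedralGroup.r d = DihedralGroup.sr (i + d) := DihedralGroup.sr_mul_r _ _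
        rw [← this]; exact mul_mem hi hd
      · set x := DihedralGroup.sr i
        set y := DihedralGroup.sr (i + d)
        have hx : x ∈ Subgroup.closure ({x, y} : Set (DihedralGroup m)) := Subgroup.subset_closure (by simp)
        have hy : y ∈ Subgroup.closure ({x, y} : Set (DihedralGroup m)) := Subgroup.subset_closure (by simp)
        have hr : DihedralGroup.r d ∈ Subgroup.closure ({x, y} : Set (DihedralGroup m)) := by
          have : x * y = DihedralGroup.r d := by
            simp only [x, y, DihedralGroup.sr_mul_sr, add_sub_cancel_left]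
          rw [← this]; exact mul_mem hx hy
        have hR : ∀ k : ℤ, DihedralGroup.r (k • d) ∈ Subgroup.closure ({x, y} : Set (DihedralGroup m)) :=
          fun k => by
            have : DihedralGroup.r d ^ k = DihedralGroup.r (k • d) := by simp [mul_comm]
            rw [← this]; exact zpow_mem hr k
        rintro (j | j) hj
        · obtain ⟨k, hk⟩ := hD j hj
          rw [← hk]; exact hR k
        · have h2 : DihedralGroup.r (j - i) ∈ T := by
            rw [← DihedralGroup.sr_mul_sr]; exact mul_mem hi hj
          obtain ⟨k, hk⟩ := hD _ h2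
          have : x * DihedralGroup.r (k • d) = DihedralGroup.sr j := by
            simp only [x, DihedralGroup.sr_mul_r, hk, add_sub_cancel]
          rw [← this]; exact mul_mem hx (hR k)
  · left
    push Not at hs
    have : T ≤ Subgroup.zpowers (DihedralGroup.r (1 : ZMod m)) := by
      rintro (j | j) hj
      · exact hrot j
      · exact (hs j hj).elim
    exact isCyclic_of_injective (Subgroup.inclusion this) (Subgroup.inclusion_injective _)

variable {G : Type*} [Group G] [Finite G]

/-- An element conjugating s into its powers fixes the involution among them. -/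
theorem fix_socle {s y : G} {j : ℕ} (hs : orderOf s = 2 ^ (j + 1))
    (hn : y * s * y⁻¹ ∈ Subgroup.zpowers s) : Commute y (s ^ 2 ^ j) := by
  obtain ⟨k, hk⟩ := Subgroup.mem_zpowers_iff.1 hn
  set t := s ^ 2 ^ j with ht
  have ht2 : t * t = 1 := by
    rw [ht, ← pow_add, ← two_mul, ← pow_succ', ← hs, pow_orderOf_eq_one]
  have hne : t ≠ 1 := fun h => by
    have := Nat.le_of_dvd (pow_pos two_pos _) (orderOf_dvd_of_pow_eq_one h)
    rw [hs, pow_succ] at this
    have := pow_pos (two_pos (α := ℕ)) j
    omega
  have h1 : y * t * y⁻¹ = t ^ k := by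
    rw [ht, ← conj_pow, ← hk, ← zpow_natCast (s ^ k), ← zpow_natCast s, ← zpow_mul, ← zpow_mul, mul_comm]
  rcases Int.even_or_odd' k with ⟨l, rfl | rfl⟩
  · rw [zpow_mul, zpow_two, ht2, one_zpow] at h1
    exact (hne (conj_eq_one_iff.1 h1)).elim
  · rw [zpow_add, zpow_mul, zpow_two, ht2, one_zpow, one_mul, zpow_one] at h1
    exact mul_inv_eq_iff_eq_mul.1 h1

/-- An element of odd order normalising a cyclic 2-subgroup centralises it. -/
theorem commute_cyclic {s y : G} {j : ℕ} (hs : orderOf s = 2 ^ j) (hy : ¬ 2 ∣ orderOf y)
    (hn : y * s * y⁻¹ ∈ Subgroup.zpowers s) : Commute y s := by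
  rcases j with _ | j
  · rw [pow_zero, orderOf_eq_one_iff] at hs
    rw [hs]; exact Commute.one_right y
  · haveI : Fact (Nat.Prime 2) := ⟨Nat.prime_two⟩
    exact commute_of_fix hs hy hn (fix_socle hs hn)

/-- Let G be a finite group with Sylow 2-subgroup P. Every subgroup H of G whose Sylow 2-subgroup is normal in H with cyclic quotient is cyclic, dihedral of 2-power order, or isomorphic to the alternating group of degree 4, if and only if either P is cyclic, or P is dihedral (of order at least 4) and every elementary abelian subgroup K of order 4 of P satisfies C_G(K) = K. -/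
theorem result {G : Type*} [Group G] [Finite G] (P : Sylow 2 G) :
    (∀ H : Subgroup G, (∀ S : Sylow 2 ↥H, (S : Subgroup ↥H).Normal) →
        (∀ (S : Sylow 2 ↥H) [(S : Subgroup ↥H).Normal], IsCyclic (↥H ⧸ (S : Subgroup ↥H))) →
        IsCyclic H ∨ (∃ n : ℕ, Nonempty (H ≃* DihedralGroup (2 ^ n))) ∨ Nonempty (H ≃* alternatingGroup (Fin 4))) ↔
    (IsCyclic P ∨
      ((∃ n : ℕ, 1 ≤ n ∧ Nonempty ((P : Subgroup G) ≃* DihedralGroup (2 ^ n))) ∧
        ∀ K : Subgroup G, K ≤ P → Nat.card K = 4 → (∀ k ∈ K, k ^ 2 = 1) → Subgroup.centralizer (K : Set G) = K)) := by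
  haveI : Fact (Nat.Prime 2) := ⟨Nat.prime_two⟩
  constructor
  · intro hall
    have happly : ∀ (S : Subgroup G), IsPGroup 2 S → ∀ x ∈ Subgroup.normalizer (S : Set G),
        IsCyclic ↥(S ⊔ Subgroup.zpowers x) ∨
          (∃ n : ℕ, Nonempty (↥(S ⊔ Subgroup.zpowers x) ≃* DihedralGroup (2 ^ n))) ∨
          Nonempty (↥(S ⊔ Subgroup.zpowers x) ≃* alternatingGroup (Fin 4)) := fun S hS x hx => by
      have h := hyp_sup S hS hx
      exact hall _ h.1 (fun T hT => @h.2 T hT)
    have h := happly P P.2 1 (one_mem _)
    have e1 : (P : Subgroup G) ⊔ Subgroup.zpowers 1 = P := by simp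
    rw [e1] at h
    obtain ⟨k, hk⟩ := IsPGroup.iff_card.1 P.2
    rcases h with h | ⟨n, ⟨e⟩⟩ | ⟨⟨e⟩⟩
    · exact Or.inl h
    · rcases Nat.eq_zero_or_pos n with rfl | hn
      · left
        refine isCyclic_of_prime_card (p := 2) ?_
        rw [Nat.card_congr e.toEquiv, DihedralGroup.nat_card, pow_zero, mul_one]
      right
      refine ⟨⟨n, hn, ⟨e⟩⟩, fun K hKP hK hK2 => le_antisymm (fun x hx => ?_) ?_⟩
      · have hKp : IsPGroup 2 K := P.2.to_le hKP
        have hxn : x ∈ Subgroup.normalizer (K : Set G) := Subgroup.centralizer_le_normalizer _ hx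
        have hKC : K ≤ Subgroup.centralizer (K : Set G) := fun a ha =>
          Subgroup.mem_centralizer_iff.2 fun b hb => by
            have h1 : a⁻¹ = a := inv_eq_of_mul_eq_one_right (by rw [← sq]; exact hK2 a ha)
            have h2 : b⁻¹ = b := inv_eq_of_mul_eq_one_right (by rw [← sq]; exact hK2 b hb)
            have h3 : (b * a)⁻¹ = b * a := inv_eq_of_mul_eq_one_right (by
              rw [← sq]; exact hK2 _ (mul_mem hb ha))
            rw [mul_inv_rev, h1, h2] at h3
            exact h3.symm
        have hcomm : ∀ a b : ↥(K ⊔ Subgroup.zpowers x), a * b = b * a := by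
          have h1 : ∀ a ∈ K ⊔ Subgroup.zpowers x, a ∈ Subgroup.centralizer ((K ⊔ Subgroup.zpowers x : Subgroup G) : Set G) := by
            have hxx : ∀ b ∈ K ⊔ Subgroup.zpowers x, Commute x b := by
              intro b hb
              have : K ⊔ Subgroup.zpowers x ≤ Subgroup.centralizer ({x} : Set G) := sup_le
                (fun c hc => Subgroup.mem_centralizer_singleton_iff.2
                  (Subgroup.mem_centralizer_iff.1 hx c hc))
                (Subgroup.zpowers_le.2 (Subgroup.mem_centralizer_singleton_iff.2 rfl))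
              exact (Subgroup.mem_centralizer_singleton_iff.1 (this hb)).symm
            refine fun a ha => (sup_le ?_ ?_ : K ⊔ Subgroup.zpowers x ≤ _) ha
            · intro c hc
              refine Subgroup.mem_centralizer_iff.2 fun b hb => ?_
              have : K ⊔ Subgroup.zpowers x ≤ Subgroup.centralizer ({c} : Set G) := sup_le
                (fun d hd => Subgroup.mem_centralizer_singleton_iff.2
                  ((Subgroup.mem_centralizer_iff.1 (hKC hc)) d hd))
                (Subgroup.zpowers_le.2 (Subgroup.mem_centralizer_singleton_iff.2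
                  ((Subgroup.mem_centralizer_iff.1 hx c hc).symm)))
              exact Subgroup.mem_centralizer_singleton_iff.1 (this hb)
            · exact Subgroup.zpowers_le.2 (Subgroup.mem_centralizer_iff.2 fun b hb => ((hxx b hb).eq).symm)
          exact fun a b => Subtype.ext (Subgroup.mem_centralizer_iff.1 (h1 b b.2) a a.2)
        rcases happly K hKp x hxn with hc | ⟨j, ⟨e'⟩⟩ | ⟨⟨e'⟩⟩
        · exfalso
          haveI : IsCyclic K := isCyclic_of_injective (Subgroup.inclusion (le_sup_left (b := Subgroup.zpowers x)))
            (Subgroup.inclusion_injective _)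
          obtain ⟨g, hg⟩ := IsCyclic.exists_ofOrder_eq_natCard (α := K)
          have h4 : orderOf g ∣ 2 := orderOf_dvd_of_pow_eq_one (Subtype.ext (hK2 g g.2))
          rw [hg, hK] at h4
          norm_num at h4
        · have hj : 2 ^ j ∣ 2 := by
            have h1 := hcomm (e'.symm (DihedralGroup.r 1)) (e'.symm (DihedralGroup.sr 0))
            rw [← map_mul, ← map_mul] at h1
            have h2 := e'.symm.injective h1
            simp at h2
            have h3 : ((2 : ℕ) : ZMod (2 ^ j)) = 0 := by
              push_cast
              linear_combination -h2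
            exact (ZMod.natCast_eq_zero_iff 2 (2 ^ j)).1 h3
          have hle : K ⊔ Subgroup.zpowers x = K := by
            refine (Subgroup.eq_of_le_of_card_ge le_sup_left ?_).symm
            rw [Nat.card_congr e'.toEquiv, DihedralGroup.nat_card, hK]
            have := Nat.le_of_dvd two_pos hj
            omega
          rw [← hle]; exact le_sup_right (a := K) (Subgroup.mem_zpowers x)
        · exfalso
          have : ∃ a b : alternatingGroup (Fin 4), a * b ≠ b * a := by decide +kernel
          obtain ⟨a, b, hab⟩ := this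
          have h1 := hcomm (e'.symm a) (e'.symm b)
          rw [← map_mul, ← map_mul] at h1
          exact hab (e'.symm.injective h1)
      · intro a ha
        refine Subgroup.mem_centralizer_iff.2 fun b hb => ?_
        have h1 : a⁻¹ = a := inv_eq_of_mul_eq_one_right (by rw [← sq]; exact hK2 a ha)
        have h2 : b⁻¹ = b := inv_eq_of_mul_eq_one_right (by rw [← sq]; exact hK2 b hb)
        have h3 : (b * a)⁻¹ = b * a := inv_eq_of_mul_eq_one_right (by
          rw [← sq]; exact hK2 _ (mul_mem hb ha))
        rw [mul_inv_rev, h1, h2] at h3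
        exact h3.symm
    · exfalso
      have h12 := Nat.card_congr e.toEquiv
      rw [hk, Nat.card_eq_fintype_card] at h12
      have h3 : (3 : ℕ) ∣ 2 ^ k := by rw [h12]; decide +kernel
      have := Nat.prime_three.dvd_of_dvd_pow h3
      omega
  · intro hP H hn hcycq
    obtain ⟨S⟩ : Nonempty (Sylow 2 H) := inferInstance
    haveI := hn S
    haveI := hcycq S
    obtain ⟨y, hy, htop, hcard⟩ := exists_lift (p := 2) (S : Subgroup H) S.not_dvd_index
    obtain ⟨T, hT⟩ := (S.2.map H.subtype).exists_le_sylow
    obtain ⟨g, hg⟩ := MulAction.exists_smul_eq G P T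
    let φ : H →* G := (MulAut.conj g⁻¹).toMonoidHom.comp H.subtype
    have hφ : Function.Injective φ := fun a b h => Subtype.ext ((MulAut.conj g⁻¹).injective h)
    have hsub : ∀ a ∈ (S : Subgroup H), φ a ∈ (P : Subgroup G) := fun a ha => by
      have h1 : (a : G) ∈ (T : Subgroup G) := hT ⟨a, ha, rfl⟩
      rw [← hg] at h1
      obtain ⟨b, hb, e⟩ := h1
      show (MulAut.conj g⁻¹) (a : G) ∈ (P : Subgroup G)
      rw [← e]
      convert hb using 1
      simp [MulAut.conj_apply, mul_assoc]
      rfl
    obtain ⟨k, hk⟩ := IsPGroup.iff_card.1 S.2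
    have hcyclic : IsCyclic (S : Subgroup H) → IsCyclic H := fun hc => by
      obtain ⟨⟨s, hs⟩, hsgen⟩ := hc.exists_generator
      have hScard : Nat.card (S : Subgroup H) = orderOf s := by
        rw [← Subgroup.orderOf_mk s hs]
        exact (orderOf_eq_card_of_forall_mem_zpowers hsgen).symm
      have hsy : y * s * y⁻¹ ∈ Subgroup.zpowers s := by
        obtain ⟨l, hl⟩ := hsgen ⟨_, (hn S).conj_mem s hs y⟩
        exact ⟨l, congrArg Subtype.val hl⟩
      refine cyclic_of_commute (commute_cyclic (j := k) (by rw [← hScard, hk]) hy hsy).symm ?_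
        (by rwa [← hScard])
      rw [← hScard, hk]
      exact Nat.Coprime.pow_left k (Nat.prime_two.coprime_iff_not_dvd.2 hy)
    rcases hP with hPc | ⟨⟨n, hn1, ⟨eP⟩⟩, hK⟩
    · left
      refine hcyclic ?_
      let f : ↥(S : Subgroup H) →* ↥(P : Subgroup G) :=
        (φ.comp (S : Subgroup H).subtype).codRestrict _ (fun a => hsub a a.2)
      exact isCyclic_of_injective f (fun a b h => Subtype.ext (hφ (congrArg Subtype.val h)))
    · haveI : NeZero (2 ^ n) := ⟨pow_ne_zero _ two_ne_zero⟩
      let f : ↥(S : Subgroup H) →* DihedralGroup (2 ^ n) :=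
        eP.toMonoidHom.comp ((φ.comp (S : Subgroup H).subtype).codRestrict _ (fun a => hsub a a.2))
      have hf : Function.Injective f := fun a b h =>
        Subtype.ext (hφ (congrArg Subtype.val (eP.injective h)))
      rcases subgroup_dihedral f.range with hc | ⟨x', hx', y', hy', hxo, hyo, hne, hgen⟩
      · exact Or.inl (hcyclic (isCyclic_of_injective f.rangeRestrict
          (fun a b h => hf (congrArg Subtype.val h))))
      obtain ⟨a0, rfl⟩ := hx'
      obtain ⟨b0, rfl⟩ := hy'
      rw [orderOf_injective f hf] at hxo hyo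
      have hab : a0 ≠ b0 := fun h => hne (congrArg f h)
      have hSgen : Subgroup.closure ({a0, b0} : Set ↥(S : Subgroup H)) = ⊤ := by
        refine eq_top_iff.2 fun c _ => ?_
        have h1 := hgen ⟨c, rfl⟩
        rw [← Set.image_pair, ← MonoidHom.map_closure] at h1
        obtain ⟨d, hd, e⟩ := h1
        exact hf e ▸ hd
      obtain ⟨eS⟩ := Cfsg.Agent.Fusion.closure_pair_equiv_dihedral hxo hyo hab
      obtain ⟨j, hj⟩ := (IsPGroup.iff_orderOf.1 S.2) (a0 * b0)
      let eS' : ↥(S : Subgroup H) ≃* DihedralGroup (2 ^ j) := hj ▸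
        ((Subgroup.topEquiv.symm.trans (MulEquiv.subgroupCongr hSgen.symm)).trans eS)
      have hScard : Nat.card (S : Subgroup H) = 2 * 2 ^ j := by
        rw [Nat.card_congr eS'.toEquiv, DihedralGroup.nat_card]
      have hj1 : 1 ≤ j := by
        by_contra h
        have : j = 0 := by omega
        rw [this, pow_zero, orderOf_eq_one_iff] at hj
        exact hab (by rw [eq_inv_of_mul_eq_one_left hj]; exact Cfsg.Agent.Fusion.invol_inv hyo)
      -- centralizers of four-groups inside S
      have hfour : ∀ K : Subgroup H, K ≤ (S : Subgroup H) → Nat.card K = 4 → (∀ c ∈ K, c ^ 2 = 1) →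
          ∀ c : H, (∀ d ∈ K, d * c = c * d) → c ∈ K := by
        intro K hKS hK4 hK2 c hc
        have h1 := hK (K.map φ) (by rintro _ ⟨d, hd, rfl⟩; exact hsub d (hKS hd))
          (by rw [Subgroup.card_map_of_injective hφ, hK4])
          (by rintro _ ⟨d, hd, rfl⟩; rw [← map_pow, hK2 d hd, map_one])
        have h2 : φ c ∈ Subgroup.centralizer ((K.map φ : Subgroup G) : Set G) := by
          refine Subgroup.mem_centralizer_iff.2 ?_
          rintro _ ⟨d, hd, rfl⟩
          rw [← map_mul, ← map_mul, hc d hd]
        rw [h1] at h2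
        obtain ⟨d, hd, e⟩ := h2
        exact hφ e ▸ hd
      rcases Nat.lt_or_ge j 2 with hj2 | hj2
      · -- S is a four-group
        have hj' : j = 1 := by omega
        subst hj'
        have hS4 : Nat.card (S : Subgroup H) = 4 := by rw [hScard]; norm_num
        haveI hkl : IsKleinFour (S : Subgroup H) := ⟨hS4, by
          rw [Monoid.exponent_eq_of_mulEquiv eS', DihedralGroup.exponent]; norm_num⟩
        have hsq : ∀ c ∈ (S : Subgroup H), c ^ 2 = 1 := fun c hc => by
          rw [sq]; exact congrArg Subtype.val (IsKleinFour.mul_self (⟨c, hc⟩ : (S : Subgroup H)))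
        have hC : Subgroup.centralizer ((S : Subgroup H) : Set H) ≤ (S : Subgroup H) := fun c hc =>
          hfour _ le_rfl hS4 hsq c (fun d hd => Subgroup.mem_centralizer_iff.1 hc d hd)
        have h24 := Cfsg.Agent.Classical.card_dvd_of_klein_normal (S : Subgroup H) hC
        have hodd := S.not_dvd_index
        have hmul := Subgroup.card_mul_index (S : Subgroup H)
        rw [hS4] at hmul
        have hidx : (S : Subgroup H).index ∣ 6 := by
          rw [← hmul] at h24
          exact Nat.dvd_of_mul_dvd_mul_left (show 0 < 4 by norm_num) h24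
        have hle6 := Nat.le_of_dvd (by norm_num) hidx
        have hcase : (S : Subgroup H).index = 1 ∨ (S : Subgroup H).index = 3 := by
          interval_cases (S : Subgroup H).index <;> omega
        rcases hcase with h1 | h3
        · right; left
          exact ⟨1, ⟨(Subgroup.topEquiv.symm.trans (MulEquiv.subgroupCongr
            (Subgroup.index_eq_one.1 h1).symm)).trans eS'⟩⟩
        · right; right
          exact Cfsg.Agent.Classical.equiv_alt_four (S : Subgroup H) hC (by rw [← hmul, h3])
      · -- S is dihedral of order at least eight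
        obtain ⟨i, rfl⟩ : ∃ i, j = i + 1 := ⟨j - 1, by omega⟩
        set s := a0 * b0 with hs
        have hsH : orderOf (s : H) = 2 ^ (i + 1) := by rw [Subgroup.orderOf_coe]; exact hj
        have hpres : y * (s : H) * y⁻¹ ∈ Subgroup.zpowers (s : H) := by
          set c : ↥(S : Subgroup H) := ⟨_, (hn S).conj_mem (s : H) s.2 y⟩ with hc
          have hmem : c ∈ Subgroup.zpowers s := by
            by_contra h
            have h2 := Cfsg.Agent.Fusion.orderOf_reflection hxo hyo hab (hSgen ▸ Subgroup.mem_top c) h
            rw [← Subgroup.orderOf_coe] at h2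
            have e : orderOf (y * (s : H) * y⁻¹) = orderOf (s : H) :=
              orderOf_injective (MulAut.conj y).toMonoidHom (MulAut.conj y).injective (s : H)
            rw [show (c : H) = y * (s : H) * y⁻¹ from rfl, e, hsH, pow_succ] at h2
            have : 2 ≤ 2 ^ i := Nat.le_self_pow (by omega) 2
            omega
          obtain ⟨l, hl⟩ := Subgroup.mem_zpowers_iff.1 hmem
          exact ⟨l, by simpa using congrArg Subtype.val hl⟩
        have hys : Commute y (s : H) := commute_cyclic hsH hy hpres
        -- the reflection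
        have hya : Commute y (a0 : H) := by
          set c : ↥(S : Subgroup H) := ⟨_, (hn S).conj_mem (a0 : H) a0.2 y⟩ with hc
          have hout : a0 * c ∈ Subgroup.zpowers s := by
            refine ((Cfsg.Agent.Fusion.mem_closure_pair_iff hxo hyo c).1
              (hSgen ▸ Subgroup.mem_top c)).resolve_left fun h => ?_
            obtain ⟨l, hl⟩ := Subgroup.mem_zpowers_iff.1 h
            have h2 : y * (a0 : H) * y⁻¹ = (s : H) ^ l := by
              have := congrArg Subtype.val hl
              rw [Subgroup.coe_zpow] at this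
              exact this.symm
            have h3 : (a0 : H) = (s : H) ^ l := by
              calc (a0 : H) = y⁻¹ * (y * (a0 : H) * y⁻¹) * y := by group
                _ = y⁻¹ * (s : H) ^ l * y := by rw [h2]
                _ = (s : H) ^ l := by
                  rw [mul_assoc, ← (hys.zpow_right l).eq, ← mul_assoc, inv_mul_cancel, one_mul]
            exact Cfsg.Agent.Fusion.invol_not_mem_zpowers hxo hyo hab ⟨l, Subtype.ext ((Subgroup.coe_zpow _ _ _).trans h3.symm)⟩
          obtain ⟨l, hl⟩ := Subgroup.mem_zpowers_iff.1 hout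
          have h2 : y * (a0 : H) * y⁻¹ = (a0 : H) * (s : H) ^ l := by
            have : c = a0 * s ^ l := by
              rw [hl, ← mul_assoc, Cfsg.Agent.Fusion.invol_mul_self hxo, one_mul]
            simpa using congrArg Subtype.val this
          have hit : ∀ m : ℕ, y ^ m * (a0 : H) * (y ^ m)⁻¹ = (a0 : H) * ((s : H) ^ l) ^ m := by
            intro m
            induction m with
            | zero => simp
            | succ m ih =>
              rw [pow_succ y m, mul_inv_rev, show y ^ m * y * (a0 : H) * (y⁻¹ * (y ^ m)⁻¹) =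
                y ^ m * (y * (a0 : H) * y⁻¹) * (y ^ m)⁻¹ by group, h2,
                show y ^ m * ((a0 : H) * (s : H) ^ l) * (y ^ m)⁻¹ =
                  (y ^ m * (a0 : H) * (y ^ m)⁻¹) * (y ^ m * (s : H) ^ l * (y ^ m)⁻¹) by group, ih,
                ((hys.zpow_right l).pow_left m).eq, mul_inv_cancel_right, pow_succ, mul_assoc]
          have h3 := hit (orderOf y)
          rw [pow_orderOf_eq_one, one_mul, inv_one, mul_one, left_eq_mul] at h3
          have h4 : orderOf ((s : H) ^ l) ∣ 2 ^ (i + 1) := by
            refine orderOf_dvd_of_pow_eq_one ?_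
            rw [← zpow_natCast, ← zpow_mul, mul_comm, zpow_mul, zpow_natCast, ← hsH, pow_orderOf_eq_one,
              one_zpow]
          have h5 : orderOf ((s : H) ^ l) ∣ 1 := by
            have hco : Nat.Coprime (2 ^ (i + 1)) (orderOf y) :=
              Nat.Coprime.pow_left _ (Nat.prime_two.coprime_iff_not_dvd.2 hy)
            rw [← hco.gcd_eq_one]
            exact Nat.dvd_gcd h4 (orderOf_dvd_of_pow_eq_one h3)
          rw [Nat.dvd_one, orderOf_eq_one_iff] at h5
          rw [h5, mul_one] at h2
          exact mul_inv_eq_iff_eq_mul.1 h2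
        -- a four-group in S centralised by y
        set t : ↥(S : Subgroup H) := s ^ 2 ^ i with ht
        have ht2 : t * t = 1 := by rw [ht, ← pow_add, ← two_mul, ← pow_succ', ← hj, pow_orderOf_eq_one]
        have htne : t ≠ 1 := fun h => by
          have := Nat.le_of_dvd (pow_pos two_pos _) (orderOf_dvd_of_pow_eq_one h)
          rw [hj, pow_succ] at this
          have := pow_pos (two_pos (α := ℕ)) i
          omega
        have hta : Commute t a0 := by
          have h1 := Cfsg.Agent.Fusion.invol_conj_zpow hxo hyo ((2 ^ i : ℕ) : ℤ)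
          rw [zpow_neg, zpow_natCast, ← ht, inv_eq_of_mul_eq_one_right ht2] at h1
          exact (mul_inv_eq_iff_eq_mul.1 h1).symm
        have htane : a0 ≠ t := fun h => by
          have hm : t ∈ Subgroup.zpowers s := pow_mem (Subgroup.mem_zpowers s) _
          rw [← h] at hm
          exact Cfsg.Agent.Fusion.invol_not_mem_zpowers hxo hyo hab hm
        have hto : orderOf t = 2 := orderOf_eq_prime (by rw [sq]; exact ht2) htne
        obtain ⟨eK⟩ := Cfsg.Agent.Fusion.closure_pair_equiv_dihedral hxo hto htane
        set K0 := Subgroup.closure ({a0, t} : Set ↥(S : Subgroup H))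
        have hato : orderOf (a0 * t) = 2 := orderOf_eq_prime (by
          rw [sq, show a0 * t * (a0 * t) = a0 * (t * a0) * t by simp only [mul_assoc], hta.eq,
            ← mul_assoc, Cfsg.Agent.Fusion.invol_mul_self hxo, one_mul, ht2]) (fun h => htane (by
              rw [eq_inv_of_mul_eq_one_left h]; exact inv_eq_of_mul_eq_one_right ht2))
        rw [hato] at eK
        set K := K0.map (S : Subgroup H).subtype with hKdef
        have hK4 : Nat.card K = 4 := by
          rw [hKdef, Subgroup.card_map_of_injective Subtype.val_injective, Nat.card_congr eK.toEquiv,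
            DihedralGroup.nat_card]
        have hK2 : ∀ c ∈ K, c ^ 2 = 1 := by
          rintro _ ⟨d, hd, rfl⟩
          have h1 : Monoid.exponent K0 ∣ 2 := by
            rw [Monoid.exponent_eq_of_mulEquiv eK, DihedralGroup.exponent]; norm_num
          have h2 := Monoid.exponent_dvd_iff_forall_pow_eq_one.1 h1 ⟨d, hd⟩
          rw [← map_pow, show d ^ 2 = 1 from congrArg Subtype.val h2, map_one]
        have hyK : y ∈ K := by
          refine hfour K (Subgroup.map_subtype_le _) hK4 hK2 y ?_
          have : K ≤ Subgroup.centralizer ({y} : Set H) := by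
            rw [hKdef, MonoidHom.map_closure, Subgroup.closure_le, Set.image_pair]
            rintro c (rfl | rfl)
            · exact Subgroup.mem_centralizer_singleton_iff.2 hya.eq.symm
            · refine Subgroup.mem_centralizer_singleton_iff.2 ?_
              rw [ht]
              simpa using ((hys.pow_right (2 ^ i)).eq).symm
          exact fun d hd => Subgroup.mem_centralizer_singleton_iff.1 (this hd)
        have hy1 : y = 1 := by
          have h1 := orderOf_dvd_of_pow_eq_one (hK2 y hyK)
          rcases (Nat.dvd_prime Nat.prime_two).1 h1 with h2 | h2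
          · exact orderOf_eq_one_iff.1 h2
          · exact (hy (by rw [h2])).elim
        rw [hy1, Subgroup.zpowers_one_eq_bot, sup_bot_eq] at htop
        right; left
        exact ⟨i + 1, ⟨(Subgroup.topEquiv.symm.trans (MulEquiv.subgroupCongr htop.symm)).trans eS'⟩⟩

end Cfsg.Agent.S4083
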