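import Cfsg.Statements.S4084
import Mathlib


set_option autoImplicit false
open Cfsg

namespace Cfsg.Agent.S4084

universe u

theorem exists_iff {G : Type u} [Group G] [Finite G] {p q : ℕ} (hp : p.Prime) (hq : q.Prime)
    (hpq : p ≠ q) : (∃ g : G, orderOf g = p * q) ↔
      ∃ S : Set G, (∀ a ∈ S, ∀ b ∈ S, Commute a b) ∧
        (∀ g, (∀ a ∈ S, Commute g a) → g ∈ S) ∧ p * q ∣ Nat.card S := by
  constructor
  · rintro ⟨g, hg⟩
    obtain ⟨S, hS, hmax⟩ := (Set.finite_univ.subset fun S _ => Set.mem_univ S :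
      {S : Set G | g ∈ S ∧ ∀ a ∈ S, ∀ b ∈ S, Commute a b}.Finite).exists_maximalFor id _
        ⟨{g}, rfl, by rintro a rfl b rfl; exact Commute.refl _⟩
    have hclosed : ∀ h, (∀ a ∈ S, Commute h a) → h ∈ S := fun h hh => by
      refine hmax (j := insert h S) ⟨Set.mem_insert_of_mem _ hS.1, ?_⟩ (Set.subset_insert _ _)
        (Set.mem_insert h S)
      rintro a (rfl | ha) b (rfl | hb)
      exacts [Commute.refl _, hh b hb, (hh a ha).symm, hS.2 a ha b hb]
    refine ⟨S, hS.2, hclosed, ?_⟩
    let A : Subgroup G :=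
      { carrier := S
        one_mem' := hclosed 1 fun a _ => Commute.one_left a
        mul_mem' := fun {a b} ha hb => hclosed _ fun c hc => (hS.2 a ha c hc).mul_left (hS.2 b hb c hc)
        inv_mem' := fun {a} ha => hclosed _ fun c hc => (hS.2 a ha c hc).inv_left }
    rw [← hg]
    exact Subgroup.orderOf_dvd_natCard A hS.1
  · rintro ⟨S, hS, hclosed, hdvd⟩
    let A : Subgroup G :=
      { carrier := S
        one_mem' := hclosed 1 fun a _ => Commute.one_left a
        mul_mem' := fun {a b} ha hb => hclosed _ fun c hc => (hS a ha c hc).mul_left (hS b hb c hc)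
        inv_mem' := fun {a} ha => hclosed _ fun c hc => (hS a ha c hc).inv_left }
    haveI := Fact.mk hp
    haveI := Fact.mk hq
    obtain ⟨a, ha⟩ := exists_prime_orderOf_dvd_card' (G := A) p ((Dvd.intro q rfl).trans hdvd)
    obtain ⟨b, hb⟩ := exists_prime_orderOf_dvd_card' (G := A) q ((Dvd.intro_left p rfl).trans hdvd)
    refine ⟨((a * b : A) : G), ?_⟩
    have hab : Commute a b := Subtype.ext (hS a a.2 b b.2).eq
    rw [Subgroup.orderOf_coe, hab.orderOf_mul_eq_mul_orderOf_of_coprime
      (by rw [ha, hb]; exact (Nat.coprime_primes hp hq).2 hpq), ha, hb]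

theorem transfer {G H : Type*} [Group G] [Group H] (e : G ≃ H)
    (he : ∀ x y : G, Commute x y ↔ Commute (e x) (e y)) {m : ℕ} :
    (∃ S : Set G, (∀ a ∈ S, ∀ b ∈ S, Commute a b) ∧ (∀ g, (∀ a ∈ S, Commute g a) → g ∈ S) ∧
      m ∣ Nat.card S) →
    ∃ S : Set H, (∀ a ∈ S, ∀ b ∈ S, Commute a b) ∧ (∀ g, (∀ a ∈ S, Commute g a) → g ∈ S) ∧
      m ∣ Nat.card S := by
  rintro ⟨S, h1, h2, h3⟩
  refine ⟨e '' S, ?_, fun g hg => ⟨e.symm g, h2 _ fun a ha => ?_, e.apply_symm_apply g⟩, ?_⟩
  · rintro _ ⟨a, ha, rfl⟩ _ ⟨b, hb, rfl⟩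
    exact (he a b).1 (h1 a ha b hb)
  · rw [he, e.apply_symm_apply]; exact hg _ ⟨a, ha, rfl⟩
  · rw [Nat.card_image_of_injective e.injective]; exact h3


/-- Let G and H be finite groups whose commuting graphs are isomorphic: there is a bijection e : G → H with x, y commuting exactly when e(x), e(y) commute. Then G and H have the same prime graph: for distinct primes p, q, G has an element of order pq if and only if H does (and #G = #H, so the prime divisors agree). -/
theorem result {G H : Type*} [Group G] [Finite G] [Group H] [Finite H] (e : G ≃ H)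
    (he : ∀ x y : G, Commute x y ↔ Commute (e x) (e y))
    {p q : ℕ} (hp : p.Prime) (hq : q.Prime) (hpq : p ≠ q) :
    (∃ g : G, orderOf g = p * q) ↔ (∃ h : H, orderOf h = p * q) := by
  rw [exists_iff hp hq hpq, exists_iff hp hq hpq]
  exact ⟨transfer e he, transfer e.symm fun x y => by
    rw [he (e.symm x) (e.symm y), e.apply_symm_apply, e.apply_symm_apply]⟩

end Cfsg.Agent.S4084
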