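import Cfsg.Statements.S4085
import Mathlib

set_option autoImplicit false
open Cfsg

namespace Cfsg.Agent.S4085

section Aux

universe u v
variable {G : Type u} [Group G] [Finite G]

/-- Adjacency in the power graph. -/
def Adj {G : Type u} [Group G] (x y : G) : Prop := x ∈ Subgroup.zpowers y ∨ y ∈ Subgroup.zpowers x

omit [Finite G] in
theorem Adj.symm {x y : G} (h : Adj x y) : Adj y x := Or.symm h

omit [Finite G] in
theorem adj_congr {y y' : G} (h : Subgroup.zpowers y' = Subgroup.zpowers y) (w : G) :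
    Adj y' w ↔ Adj y w := by
  have key : ∀ {a b : G}, Subgroup.zpowers a = Subgroup.zpowers b → Adj a w → Adj b w := by
    intro a b hab hw
    rcases hw with h1 | h1
    · refine Or.inl ?_
      have : Subgroup.zpowers a ≤ Subgroup.zpowers w := Subgroup.zpowers_le.2 h1
      exact this (hab ▸ Subgroup.mem_zpowers b)
    · exact Or.inr (hab ▸ h1)
  exact ⟨key h, key h.symm⟩

theorem mem_of_dvd {x z w : G} (hz : z ∈ Subgroup.zpowers x) (hw : w ∈ Subgroup.zpowers x)
    (hd : orderOf z ∣ orderOf w) : z ∈ Subgroup.zpowers w := by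
  classical
  obtain ⟨C, hC⟩ : ∃ C, C = Subgroup.zpowers x := ⟨_, rfl⟩
  haveI : IsCyclic C := hC ▸ inferInstance
  rw [← hC] at hz hw
  haveI := Fintype.ofFinite C
  have hsub : (Subgroup.zpowers (⟨w, hw⟩ : C) : Set C).toFinset ⊆
      Finset.univ.filter fun u : C => u ^ orderOf w = 1 := by
    intro u hu
    rw [Set.mem_toFinset] at hu
    simp only [Finset.mem_filter, Finset.mem_univ, true_and]
    rw [← orderOf_dvd_iff_pow_eq_one, ← Subgroup.orderOf_mk w hw]
    exact orderOf_dvd_of_mem_zpowers hu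
  have heq := Finset.eq_of_subset_of_card_le hsub (by
    rw [Set.toFinset_card, ← Nat.card_eq_fintype_card]
    show _ ≤ Nat.card ↥(Subgroup.zpowers (⟨w, hw⟩ : C))
    rw [Nat.card_zpowers, Subgroup.orderOf_mk]
    exact IsCyclic.card_pow_eq_one_le (orderOf_pos w))
  have hzm : (⟨z, hz⟩ : C) ∈ Finset.univ.filter fun u : C => u ^ orderOf w = 1 := by
    simp only [Finset.mem_filter, Finset.mem_univ, true_and]
    exact Subtype.ext (orderOf_dvd_iff_pow_eq_one.1 hd)
  rw [← heq, Set.mem_toFinset] at hzm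
  obtain ⟨i, hi⟩ := Subgroup.mem_zpowers_iff.1 hzm
  exact ⟨i, by simpa using congrArg Subtype.val hi⟩

theorem eq_of_order_eq {x y : G} (h : x ∈ Subgroup.zpowers y) (he : orderOf x = orderOf y) :
    Subgroup.zpowers x = Subgroup.zpowers y :=
  Subgroup.eq_of_le_of_card_ge (Subgroup.zpowers_le.2 h)
    (by rw [Nat.card_zpowers, Nat.card_zpowers, he])

theorem adj_iff_dvd {x z w : G} (hz : z ∈ Subgroup.zpowers x) (hw : w ∈ Subgroup.zpowers x) :
    Adj z w ↔ (orderOf z ∣ orderOf w ∨ orderOf w ∣ orderOf z) := by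
  constructor
  · rintro (h | h)
    · exact Or.inl (orderOf_dvd_of_mem_zpowers h)
    · exact Or.inr (orderOf_dvd_of_mem_zpowers h)
  · rintro (h | h)
    · exact Or.inl (mem_of_dvd hz hw h)
    · exact Or.inr (mem_of_dvd hw hz h)

theorem exists_of_dvd {x : G} {d : ℕ} (hd : d ∣ orderOf x) :
    ∃ z ∈ Subgroup.zpowers x, orderOf z = d :=
  ⟨x ^ (orderOf x / d), pow_mem (Subgroup.mem_zpowers x) _,
    orderOf_pow_orderOf_div (orderOf_pos x).ne' hd⟩

open Classical in
theorem card_order_in [Fintype G] (x : G) {d : ℕ} (hd : d ∣ orderOf x) :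
    (Finset.univ.filter fun z : G => z ∈ Subgroup.zpowers x ∧ orderOf z = d).card = d.totient := by
  haveI := Fintype.ofFinite (Subgroup.zpowers x)
  have h := IsCyclic.card_orderOf_eq_totient (α := Subgroup.zpowers x) (d := d)
    (by rwa [← Nat.card_eq_fintype_card, Nat.card_zpowers])
  rw [← h]
  refine Finset.card_bij' (fun z hz => ⟨z, (Finset.mem_filter.1 hz).2.1⟩) (fun z _ => (z : G))
    ?_ ?_ ?_ ?_
  · intro z hz; simp only [Finset.mem_filter, Finset.mem_univ, true_and] at hz ⊢
    rw [Subgroup.orderOf_mk]; exact hz.2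
  · intro z hz; simp only [Finset.mem_filter, Finset.mem_univ, true_and] at hz ⊢
    exact ⟨z.2, by rw [Subgroup.orderOf_coe]; exact hz⟩
  · intro z hz; rfl
  · intro z hz; rfl

open Classical in
theorem card_gens [Fintype G] (y : G) :
    (Finset.univ.filter fun z : G => Subgroup.zpowers z = Subgroup.zpowers y).card =
      (orderOf y).totient := by
  rw [← card_order_in y dvd_rfl]
  congr 1
  refine Finset.filter_congr fun z _ => ⟨fun h => ?_, fun h => eq_of_order_eq h.1 h.2⟩
  exact ⟨h ▸ Subgroup.mem_zpowers z, by rw [← Nat.card_zpowers, h, Nat.card_zpowers]⟩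

variable {H : Type v} [Group H] [Finite H]

theorem exists_same_order (e : G ≃ H) (he : ∀ x y : G, Adj x y ↔ Adj (e x) (e y)) (h1 : e 1 = 1)
    {x : G} (hmax : ∀ z, x ∈ Subgroup.zpowers z → z ∈ Subgroup.zpowers x) {s t : ℕ}
    (hs : s.Prime) (ht : t.Prime) (hst : s < t) (hd : s * t ∣ orderOf x) :
    ∃ h : H, orderOf h = orderOf x := by
  classical
  haveI := Fintype.ofFinite G
  haveI := Fintype.ofFinite H
  set n := orderOf x with hn
  set C := Subgroup.zpowers x with hC
  obtain ⟨x₀, hx₀, hx₀max⟩ := Set.exists_max_image {z : G | Subgroup.zpowers z = C}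
    (fun z => orderOf (e z)) (Set.toFinite _) ⟨x, rfl⟩
  have hx₀o : orderOf x₀ = n := by rw [← Nat.card_zpowers, hx₀, hC, Nat.card_zpowers]
  set h := e x₀ with hh
  set m := orderOf h with hm
  have hNG : ∀ z, Adj x₀ z ↔ z ∈ C := fun z => by
    refine ⟨fun hz => ?_, fun hz => Or.inr (hx₀ ▸ hz)⟩
    rcases hz with hz | hz
    · exact hmax z ((Subgroup.zpowers_le.2 hz) (hx₀ ▸ Subgroup.mem_zpowers x))
    · exact hx₀ ▸ hz
  have hNH : ∀ w, Adj h w ↔ e.symm w ∈ C := fun w => by
    rw [← hNG, he, e.apply_symm_apply]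
  by_cases hA : ∀ y, h ∈ Subgroup.zpowers y → y ∈ Subgroup.zpowers h
  · refine ⟨h, ?_⟩
    rw [← Nat.card_zpowers h, hn, ← Nat.card_zpowers x]
    refine Nat.card_congr (Equiv.subtypeEquiv e.symm fun w => ?_)
    rw [← hC, ← hNH]
    exact ⟨Or.inr, fun hw => hw.elim (hA w) id⟩
  push Not at hA
  obtain ⟨y₀, hy₀, hy₀'⟩ := hA
  exfalso
  -- no generator is mapped properly above `h`
  have habove : ∀ z, h ∈ Subgroup.zpowers (e z) → e z ∉ Subgroup.zpowers h →
      z ∈ C ∧ z ≠ 1 ∧ orderOf z ≠ n := by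
    intro z hz hz'
    have hzC : z ∈ C := by simpa using (hNH (e z)).1 (Or.inl hz)
    refine ⟨hzC, fun e1 => hz' (by rw [e1, h1]; exact one_mem _), fun hzn => hz' ?_⟩
    have h2 : orderOf (e z) ≤ m :=
      hx₀max z (eq_of_order_eq hzC (by rw [hzn]))
    have h3 := eq_of_order_eq hz (le_antisymm (Nat.le_of_dvd (orderOf_pos _)
      (orderOf_dvd_of_mem_zpowers hz)) h2)
    rw [h3]
    exact Subgroup.mem_zpowers _
  have hn0 : n ≠ 0 := (orderOf_pos x).ne'
  have hsn : s ∣ n := (dvd_mul_right s t).trans hd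
  have htn : t ∣ n := (dvd_mul_left t s).trans hd
  obtain ⟨hz0C, hz01, hz0n⟩ := habove (e.symm y₀) (by simpa using hy₀) (by simpa using hy₀')
  set z₀ := e.symm y₀
  -- every non-trivial non-generator goes above `h`
  have hside : ∀ z ∈ C, z ≠ 1 → orderOf z ≠ n → e z ∉ Subgroup.zpowers h := by
    set P : G → Prop := fun z => e z ∈ Subgroup.zpowers h with hP
    have hadj : ∀ a ∈ C, ∀ b ∈ C, P a → ¬ P b → (orderOf a ∣ orderOf b ∨ orderOf b ∣ orderOf a) := by
      intro a ha b hb hPa hPb
      refine (adj_iff_dvd ha hb).1 ((he a b).2 (Or.inl ?_))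
      have h4 : Adj h (e b) := by rw [hNH, e.symm_apply_apply]; exact hb
      rcases h4 with h4 | h4
      · exact (Subgroup.zpowers_le.2 h4) hPa
      · exact absurd h4 hPb
    have hprime : ∀ r r' : ℕ, r.Prime → r'.Prime → ∀ a ∈ C, ∀ b ∈ C, orderOf a = r →
        orderOf b = r' → r ≠ r' → (P a ↔ P b) := by
      intro r r' hr hr' a ha b hb hao hbo hne
      by_contra hcon
      have hc : (orderOf a ∣ orderOf b ∨ orderOf b ∣ orderOf a) := by
        by_cases hPa : P a
        · exact hadj a ha b hb hPa fun hPb => hcon (iff_of_true hPa hPb)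
        · exact (hadj b hb a ha (by_contra fun hPb => hcon (iff_of_false hPa hPb)) hPa).symm
      rw [hao, hbo, Nat.prime_dvd_prime_iff_eq hr hr', Nat.prime_dvd_prime_iff_eq hr' hr] at hc
      exact hne (hc.elim id Eq.symm)
    have hcmp : ∀ a ∈ C, ∀ b ∈ C, ¬ (P a ↔ P b) →
        (orderOf a ∣ orderOf b ∨ orderOf b ∣ orderOf a) := by
      intro a ha b hb hne
      by_cases hPa : P a
      · exact hadj a ha b hb hPa fun hPb => hne (iff_of_true hPa hPb)
      · exact (hadj b hb a ha (by_contra fun hPb => hne (iff_of_false hPa hPb)) hPa).symm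
    obtain ⟨us, hus, huso⟩ := exists_of_dvd (x := x) hsn
    obtain ⟨ut, hut, huto⟩ := exists_of_dvd (x := x) htn
    have hst' := hprime s t hs ht us hus ut hut huso huto hst.ne
    have hall : ∀ r : ℕ, r.Prime → ∀ a ∈ C, orderOf a = r → (P a ↔ P us) := by
      intro r hr a ha hao
      by_cases hrs : r = s
      · exact (hprime r t hr ht a ha ut hut hao huto (hrs ▸ hst.ne)).trans hst'.symm
      · exact hprime r s hr hs a ha us hus hao huso hrs
    have hconn : ∀ z ∈ C, z ≠ 1 → orderOf z ≠ n → (P z ↔ P us) := by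
      intro z hz hz1 hzn
      by_contra hne
      -- all primes divide the order of `z`
      have hprimes : ∀ r : ℕ, r.Prime → r ∣ n → r ∣ orderOf z := by
        intro r hr hrn
        obtain ⟨a, ha, hao⟩ := exists_of_dvd (x := x) hrn
        rcases hcmp z hz a ha (fun h5 => hne (h5.trans (hall r hr a ha hao))) with h5 | h5
        · rw [hao] at h5
          rcases (Nat.dvd_prime hr).1 h5 with h6 | h6
          · exact absurd (orderOf_eq_one_iff.1 h6) hz1
          · rw [h6]
        · rwa [hao] at h5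
      apply hzn
      refine Nat.dvd_antisymm (orderOf_dvd_of_mem_zpowers hz) ?_
      rw [Nat.dvd_iff_prime_pow_dvd_dvd]
      intro r k hr hk
      rcases Nat.eq_zero_or_pos k with rfl | hk0
      · simp
      have hrn : r ∣ n := (dvd_pow_self r hk0.ne').trans hk
      obtain ⟨a, ha, hao⟩ := exists_of_dvd (x := x) hk
      obtain ⟨b, hb, hbo⟩ := exists_of_dvd (x := x) hrn
      -- `a` is on the side of `us`
      have haside : P a ↔ P us := by
        obtain ⟨c, hc, hco, hcne⟩ : ∃ c ∈ C, (P c ↔ P us) ∧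
            ¬ (orderOf a ∣ orderOf c ∨ orderOf c ∣ orderOf a) := by
          obtain ⟨r', hr', hr'n, hne'⟩ : ∃ r' : ℕ, r'.Prime ∧ r' ∣ n ∧ r' ≠ r := by
            by_cases hrs : r = s
            · exact ⟨t, ht, htn, hrs ▸ hst.ne'⟩
            · exact ⟨s, hs, hsn, Ne.symm hrs⟩
          obtain ⟨c, hc, hco⟩ := exists_of_dvd (x := x) hr'n
          refine ⟨c, hc, hall r' hr' c hc hco, ?_⟩
          rw [hao, hco]
          rintro (h6 | h6)
          · exact hne' ((Nat.prime_dvd_prime_iff_eq hr hr').1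
              ((dvd_pow_self r hk0.ne').trans h6)).symm
          · exact hne' ((Nat.prime_dvd_prime_iff_eq hr' hr).1 (hr'.dvd_of_dvd_pow h6))
        by_contra hcon
        exact hcne (hcmp a ha c hc fun h6 => hcon (h6.trans hco))
      rcases hcmp z hz a ha (fun h5 => hne (h5.trans haside)) with h5 | h5
      · exfalso
        rw [hao] at h5
        have h6 := (hprimes s hs hsn).trans h5
        have h7 := (hprimes t ht htn).trans h5
        exact hst.ne (((Nat.prime_dvd_prime_iff_eq hs hr).1 (hs.dvd_of_dvd_pow h6)).trans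
          ((Nat.prime_dvd_prime_iff_eq ht hr).1 (ht.dvd_of_dvd_pow h7)).symm)
      · rwa [hao] at h5
    have hP0 : ¬ P z₀ := by simpa [P, z₀] using hy₀'
    exact fun z hz hz1 hzn hPz => hP0
      ((hconn z₀ hz0C hz01 hz0n).2 ((hconn z hz hz1 hzn).1 hPz))
  -- the powers of `h` are the identity and the images of the generators
  have hgen : ∀ z ∈ C, orderOf z = n → e z ∈ Subgroup.zpowers h := by
    intro z hz hzn
    by_contra hcon
    have h4 : Adj h (e z) := by rw [hNH, e.symm_apply_apply]; exact hz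
    exact (habove z (h4.resolve_right hcon) hcon).2.2 hzn
  have hmcard : m = n.totient + 1 := by
    have hset : (Finset.univ.filter fun w : H => w ∈ Subgroup.zpowers h) =
        insert (1 : H) ((Finset.univ.filter fun z : G =>
          z ∈ Subgroup.zpowers x ∧ orderOf z = n).image e) := by
      ext w
      simp only [Finset.mem_filter, Finset.mem_univ, true_and, Finset.mem_insert, Finset.mem_image]
      constructor
      · intro hw
        by_cases hw1 : w = 1
        · exact Or.inl hw1
        have hwC : e.symm w ∈ C := (hNH w).1 (Or.inr hw)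
        refine Or.inr ⟨e.symm w, ⟨hwC, ?_⟩, e.apply_symm_apply w⟩
        by_contra hne
        refine hside _ hwC (fun e1 => hw1 ?_) hne (by rwa [e.apply_symm_apply])
        rw [← e.apply_symm_apply w, e1, h1]
      · rintro (rfl | ⟨z, ⟨hz, hzn⟩, rfl⟩)
        · exact one_mem _
        · exact hgen z hz hzn
    have := congrArg Finset.card hset
    rw [Finset.card_insert_of_notMem, Finset.card_image_of_injective _ e.injective,
      card_order_in x dvd_rfl, ← Fintype.card_subtype, ← Nat.card_eq_fintype_card] at this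
    · rw [hm, ← Nat.card_zpowers, ← this]
    · simp only [Finset.mem_image, Finset.mem_filter, Finset.mem_univ, true_and]
      rintro ⟨z, ⟨-, hzn⟩, hz1⟩
      have : z = 1 := e.injective (hz1.trans h1.symm)
      rw [this, orderOf_one] at hzn
      rw [← hzn] at hsn
      exact hs.ne_one (Nat.dvd_one.1 hsn)
  -- hence the order of `h` is a prime power
  have hm1 : m ≠ 1 := by
    have := Nat.totient_pos.2 (Nat.pos_of_ne_zero hn0)
    omega
  have huniq : ∀ r r' : ℕ, r.Prime → r'.Prime → r ∣ m → r' ∣ m → r = r' := by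
    intro r r' hr hr' hrm hr'm
    obtain ⟨a, ha, hao⟩ := exists_of_dvd (x := h) hrm
    obtain ⟨b, hb, hbo⟩ := exists_of_dvd (x := h) hr'm
    have key : ∀ w ∈ Subgroup.zpowers h, w ≠ 1 → e.symm w ∈ C ∧ orderOf (e.symm w) = n := by
      intro w hw hw1
      have hwC : e.symm w ∈ C := (hNH w).1 (Or.inr hw)
      refine ⟨hwC, ?_⟩
      by_contra hne
      refine hside _ hwC (fun e1 => hw1 ?_) hne (by rwa [e.apply_symm_apply])
      rw [← e.apply_symm_apply w, e1, h1]
    obtain ⟨ha', hao'⟩ := key a ha (fun e1 => hr.ne_one (by rw [← hao, e1, orderOf_one]))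
    obtain ⟨hb', hbo'⟩ := key b hb (fun e1 => hr'.ne_one (by rw [← hbo, e1, orderOf_one]))
    have h5 := (he _ _).1 ((adj_iff_dvd ha' hb').2 (Or.inl (by rw [hao', hbo'])))
    rw [e.apply_symm_apply, e.apply_symm_apply, adj_iff_dvd ha hb, hao, hbo,
      Nat.prime_dvd_prime_iff_eq hr hr', Nat.prime_dvd_prime_iff_eq hr' hr] at h5
    exact h5.elim id Eq.symm
  obtain ⟨r, hr, hrm⟩ := Nat.exists_prime_and_dvd hm1
  have hmpow : m = r ^ m.primeFactorsList.length :=
    Nat.eq_prime_pow_of_unique_prime_dvd (orderOf_pos h).ne' fun {d} hd hdm => huniq d r hd hr hdm hrm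
  -- the class of the elements of order `s`
  set T := (Finset.univ.filter fun z : G => z ∈ Subgroup.zpowers x ∧ orderOf z = s).image e with hT
  have hTcard : T.card = s.totient := by
    rw [hT, Finset.card_image_of_injective _ e.injective, card_order_in x hsn]
  have hstn : s ≠ n := fun e1 => by
    have h5 : s * t ∣ s := by rw [← e1] at hd; exact hd
    have h6 : s * t ≤ s := Nat.le_of_dvd hs.pos h5
    nlinarith [hs.two_le, ht.two_le]
  have hfib : ∀ y ∈ T, m ∣ orderOf y ∧
      ∀ y', Subgroup.zpowers y' = Subgroup.zpowers y → y' ∈ T := by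
    intro y hy
    simp only [hT, Finset.mem_image, Finset.mem_filter, Finset.mem_univ, true_and] at hy
    obtain ⟨z, ⟨hz, hzo⟩, rfl⟩ := hy
    have hz1 : z ≠ 1 := fun e1 => hs.ne_one (by rw [← hzo, e1, orderOf_one])
    have hnot := hside z hz hz1 (by rw [hzo]; exact hstn)
    have hhy : h ∈ Subgroup.zpowers (e z) := by
      have h4 : Adj h (e z) := by rw [hNH, e.symm_apply_apply]; exact hz
      exact h4.resolve_right hnot
    refine ⟨orderOf_dvd_of_mem_zpowers hhy, fun y' hy' => ?_⟩
    simp only [hT, Finset.mem_image, Finset.mem_filter, Finset.mem_univ, true_and]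
    refine ⟨e.symm y', ⟨(hNH y').1 (Or.inl (by rw [hy']; exact hhy)), ?_⟩, e.apply_symm_apply y'⟩
    set z' := e.symm y' with hz'
    have hz'C : z' ∈ C := (hNH y').1 (Or.inl (by rw [hy']; exact hhy))
    have htw : ∀ w : G, Adj z' w ↔ Adj z w := fun w => by
      rw [he, he z w, hz', e.apply_symm_apply]
      exact adj_congr hy' _
    obtain ⟨ut, hut, huto⟩ := exists_of_dvd (x := x) htn
    obtain ⟨u, hu, huo⟩ := exists_of_dvd (x := x) hd
    have h5 := (adj_iff_dvd hz'C hz).1 ((htw z).2 (Or.inl (Subgroup.mem_zpowers z)))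
    have h6 : ¬ (orderOf z' ∣ t ∨ t ∣ orderOf z') := fun h7 => by
      have h8 := (adj_iff_dvd hz hut).1 ((htw ut).1 ((adj_iff_dvd hz'C hut).2 (by rwa [huto])))
      rw [hzo, huto, Nat.prime_dvd_prime_iff_eq hs ht, Nat.prime_dvd_prime_iff_eq ht hs] at h8
      exact hst.ne (h8.elim id Eq.symm)
    have h7 := (adj_iff_dvd hz'C hu).1 ((htw u).2
      ((adj_iff_dvd hz hu).2 (Or.inl (by rw [hzo, huo]; exact dvd_mul_right s t))))
    rw [huo] at h7
    rw [hzo] at h5
    rcases h7 with h7 | h7
    · have hco : (orderOf z').Coprime t :=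
        ((Nat.Prime.coprime_iff_not_dvd ht).2 fun h9 => h6 (Or.inr h9)).symm
      have h8 : orderOf z' ∣ s := hco.dvd_of_dvd_mul_right h7
      rcases (Nat.dvd_prime hs).1 h8 with h9 | h9
      · exact absurd (Or.inl (h9 ▸ one_dvd t)) h6
      · exact h9
    · exact absurd (Or.inr ((dvd_mul_left t s).trans h7)) h6
  have hdvd : m.totient ∣ s.totient := by
    rw [← hTcard, Finset.card_eq_sum_card_image (fun y : H => Subgroup.zpowers y) T]
    refine Finset.dvd_sum fun Z hZ => ?_
    obtain ⟨y, hy, rfl⟩ := Finset.mem_image.1 hZ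
    obtain ⟨h5, h6⟩ := hfib y hy
    have e2 : T.filter (fun a => Subgroup.zpowers a = Subgroup.zpowers y) =
        Finset.univ.filter fun a : H => Subgroup.zpowers a = Subgroup.zpowers y := by
      ext a
      simp only [Finset.mem_filter, Finset.mem_univ, true_and, and_iff_right_iff_imp]
      exact h6 a
    rw [e2, card_gens]
    exact Nat.totient_dvd_of_dvd h5
  have hsn' : s.totient ∣ n.totient := Nat.totient_dvd_of_dvd hsn
  have hlt : s.totient < n.totient := by
    have h5 : (s * t).totient ∣ n.totient := Nat.totient_dvd_of_dvd hd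
    rw [Nat.totient_mul ((Nat.coprime_primes hs ht).2 hst.ne), Nat.totient_prime hs,
      Nat.totient_prime ht] at h5
    have h6 := Nat.le_of_dvd (Nat.totient_pos.2 (Nat.pos_of_ne_zero hn0)) h5
    have h7 := hs.two_le
    rw [Nat.totient_prime hs]
    have h8 : (s - 1) * 2 ≤ (s - 1) * (t - 1) := Nat.mul_le_mul_left _ (by omega)
    omega
  -- so `m` is prime, which is absurd
  obtain ⟨a, ha⟩ : ∃ a, m = r ^ a := ⟨_, hmpow⟩
  obtain ⟨b, rfl⟩ : ∃ b, a = b + 1 := Nat.exists_eq_succ_of_ne_zero fun e1 => hm1 (by rw [ha, e1, pow_zero])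
  rw [ha, Nat.totient_prime_pow_succ hr] at hdvd
  have hb : b = 0 := by
    by_contra hb
    have h5 : r ∣ n.totient := ((dvd_pow_self r hb).trans (dvd_mul_right _ _)).trans (hdvd.trans hsn')
    have h6 : r ∣ m := hrm
    rw [hmcard, ← Nat.dvd_add_iff_right h5] at h6
    exact hr.ne_one (Nat.dvd_one.1 h6)
  subst hb
  rw [pow_zero, one_mul] at hdvd
  have h5 := Nat.le_of_dvd (Nat.totient_pos.2 hs.pos) hdvd
  rw [zero_add, pow_one] at ha
  omega

theorem normalize (e : G ≃ H) (he : ∀ x y : G, Adj x y ↔ Adj (e x) (e y)) :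
    ∃ e' : G ≃ H, (∀ x y : G, Adj x y ↔ Adj (e' x) (e' y)) ∧ e' 1 = 1 := by
  classical
  have huniv : ∀ w : H, Adj (e 1) w := fun w => by
    rw [← e.apply_symm_apply w, ← he]
    exact Or.inl (one_mem _)
  have hone : ∀ w : H, Adj (1 : H) w := fun w => Or.inl (one_mem _)
  refine ⟨e.trans (Equiv.swap (e 1) 1), fun x y => ?_, by simp⟩
  rw [he x y]
  simp only [Equiv.trans_apply]
  have hself : ∀ a : H, Adj a a := fun a => Or.inl (Subgroup.mem_zpowers a)
  have hsw : ∀ a b : H, Adj a b → Adj (Equiv.swap (e 1) 1 a) (Equiv.swap (e 1) 1 b) := by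
    intro a b hab
    rcases eq_or_ne a (e 1) with rfl | ha1
    · rw [Equiv.swap_apply_left]; exact hone _
    rcases eq_or_ne a 1 with rfl | ha2
    · rw [Equiv.swap_apply_right]; exact huniv _
    rw [Equiv.swap_apply_of_ne_of_ne ha1 ha2]
    rcases eq_or_ne b (e 1) with rfl | hb1
    · rw [Equiv.swap_apply_left]; exact (hone _).symm
    rcases eq_or_ne b 1 with rfl | hb2
    · rw [Equiv.swap_apply_right]; exact (huniv _).symm
    rwa [Equiv.swap_apply_of_ne_of_ne hb1 hb2]
  refine ⟨hsw _ _, fun h => ?_⟩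
  have := hsw _ _ h
  simpa only [Equiv.swap_apply_self] using this

theorem one_direction (e : G ≃ H) (he : ∀ x y : G, Adj x y ↔ Adj (e x) (e y)) {p q : ℕ}
    (hp : p.Prime) (hq : q.Prime) (hpq : p ≠ q) (h : ∃ g : G, orderOf g = p * q) :
    ∃ g : H, orderOf g = p * q := by
  obtain ⟨g, hg⟩ := h
  obtain ⟨e', he', h1⟩ := normalize e he
  obtain ⟨x, hx, hxmax⟩ := Set.exists_max_image {z : G | g ∈ Subgroup.zpowers z} orderOf
    (Set.toFinite _) ⟨g, Subgroup.mem_zpowers g⟩
  have hd : p * q ∣ orderOf x := hg ▸ orderOf_dvd_of_mem_zpowers hx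
  have hmax : ∀ z, x ∈ Subgroup.zpowers z → z ∈ Subgroup.zpowers x := by
    intro z hz
    have h2 := eq_of_order_eq hz (le_antisymm (Nat.le_of_dvd (orderOf_pos z)
      (orderOf_dvd_of_mem_zpowers hz)) (hxmax z ((Subgroup.zpowers_le.2 hz) hx)))
    rw [h2]
    exact Subgroup.mem_zpowers z
  obtain ⟨y, hy⟩ : ∃ y : H, orderOf y = orderOf x := by
    rcases lt_or_gt_of_ne hpq with h2 | h2
    · exact exists_same_order e' he' h1 hmax hp hq h2 hd
    · exact exists_same_order e' he' h1 hmax hq hp h2 (mul_comm p q ▸ hd)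
  obtain ⟨z, -, hz⟩ := exists_of_dvd (x := y) (hy ▸ hd)
  exact ⟨z, hz⟩

end Aux

/-- Let G and H be finite groups whose power graphs are isomorphic: there is a bijection e : G → H such that, for all x, y, one of x, y is a power of the other exactly when one of e(x), e(y) is a power of the other. Then G and H have the same prime graph: for distinct primes p, q, G has an element of order pq if and only if H does. -/
theorem result {G H : Type*} [Group G] [Finite G] [Group H] [Finite H] (e : G ≃ H)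
    (he : ∀ x y : G, (x ∈ Subgroup.zpowers y ∨ y ∈ Subgroup.zpowers x) ↔
      (e x ∈ Subgroup.zpowers (e y) ∨ e y ∈ Subgroup.zpowers (e x)))
    {p q : ℕ} (hp : p.Prime) (hq : q.Prime) (hpq : p ≠ q) :
    (∃ g : G, orderOf g = p * q) ↔ (∃ h : H, orderOf h = p * q) := by
  refine ⟨one_direction e he hp hq hpq, one_direction e.symm (fun x y => ?_) hp hq hpq⟩
  have := he (e.symm x) (e.symm y)
  rw [e.apply_symm_apply, e.apply_symm_apply] at this
  exact this.symm

end Cfsg.Agent.S4085
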