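import Cfsg.Statements.S4086
-- import your own Cfsg.Agent.* helpers here

set_option autoImplicit false
open Cfsg

namespace Cfsg.Agent.S4086

/-- For a finite group G the following are equivalent: every non-identity element has prime-power order; whenever two elements generate a cyclic subgroup, one of them is a power of the other (the enhanced power graph of G coincides with its power graph). -/
theorem result {G : Type*} [Group G] [Finite G] :
    (∀ g : G, g ≠ 1 → IsPrimePow (orderOf g)) ↔
    (∀ x y : G, IsCyclic ↥(Subgroup.closure ({x, y} : Set G)) → (x ∈ Subgroup.zpowers y ∨ y ∈ Subgroup.zpowers x)) := by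
  constructor
  · intro h x y hxy
    obtain ⟨⟨g, hg⟩, hgen⟩ := hxy.exists_generator
    have hx : x ∈ Subgroup.zpowers g := by
      obtain ⟨n, hn⟩ := Subgroup.mem_zpowers_iff.1 (hgen ⟨x, Subgroup.subset_closure (by simp)⟩)
      exact Subgroup.mem_zpowers_iff.2 ⟨n, by simpa using congrArg Subtype.val hn⟩
    have hy : y ∈ Subgroup.zpowers g := by
      obtain ⟨n, hn⟩ := Subgroup.mem_zpowers_iff.1 (hgen ⟨y, Subgroup.subset_closure (by simp)⟩)
      exact Subgroup.mem_zpowers_iff.2 ⟨n, by simpa using congrArg Subtype.val hn⟩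
    have key : ∀ u v : G, u ∈ Subgroup.zpowers g → v ∈ Subgroup.zpowers g →
        orderOf u ∣ orderOf v → u ∈ Subgroup.zpowers v := by
      intro u v hu hv hdvd
      obtain ⟨i, rfl⟩ := (Submonoid.mem_powers_iff _ _).1
        ((isOfFinOrder_of_finite g).mem_powers_iff_mem_zpowers.2 hu)
      obtain ⟨j, rfl⟩ := (Submonoid.mem_powers_iff _ _).1
        ((isOfFinOrder_of_finite g).mem_powers_iff_mem_zpowers.2 hv)
      rw [orderOf_pow g, orderOf_pow g] at hdvd
      set N := orderOf g
      have hN : 0 < N := orderOf_pos g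
      have ha : N.gcd i ∣ N := Nat.gcd_dvd_left _ _
      have hb : N.gcd j ∣ N := Nat.gcd_dvd_left _ _
      have h1 : (N.gcd j) ∣ (N.gcd i) := by
        obtain ⟨c, hc⟩ := hdvd
        refine ⟨c, Nat.eq_of_mul_eq_mul_left (Nat.div_pos (Nat.le_of_dvd hN ha) (Nat.gcd_pos_of_pos_left _ hN)) ?_⟩
        calc N / N.gcd i * N.gcd i = N := Nat.div_mul_cancel ha
          _ = N / N.gcd j * N.gcd j := (Nat.div_mul_cancel hb).symm
          _ = N / N.gcd i * c * N.gcd j := by rw [hc]
          _ = N / N.gcd i * (N.gcd j * c) := by ring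
      have h2 : Subgroup.zpowers (g ^ (N.gcd j)) ≤ Subgroup.zpowers (g ^ j) := by
        rw [Subgroup.zpowers_le, Subgroup.mem_zpowers_iff]
        refine ⟨N.gcdB j, ?_⟩
        rw [← zpow_natCast g j, ← zpow_mul, ← zpow_natCast g (N.gcd j), Nat.gcd_eq_gcd_ab, zpow_add,
          zpow_mul g (N : ℤ), zpow_natCast g N, pow_orderOf_eq_one, one_zpow, one_mul]
      apply h2
      obtain ⟨c, hc⟩ := h1.trans (Nat.gcd_dvd_right N i)
      rw [hc, pow_mul]
      exact Subgroup.npow_mem_zpowers _ _
    rcases eq_or_ne g 1 with rfl | hg1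
    · left; simp only [Subgroup.zpowers_one_eq_bot, Subgroup.mem_bot] at hx; simp [hx]
    · obtain ⟨p, k, hp, -, hk⟩ := h g hg1
      obtain ⟨a, -, ha⟩ := (Nat.dvd_prime_pow hp.nat_prime).1 (hk ▸ orderOf_dvd_of_mem_zpowers hx)
      obtain ⟨b, -, hb⟩ := (Nat.dvd_prime_pow hp.nat_prime).1 (hk ▸ orderOf_dvd_of_mem_zpowers hy)
      rcases le_total a b with hab | hab
      · exact Or.inl (key x y hx hy (ha ▸ hb ▸ pow_dvd_pow p hab))
      · exact Or.inr (key y x hy hx (ha ▸ hb ▸ pow_dvd_pow p hab))
  · intro h g hg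
    by_contra hpp
    have hn1 : orderOf g ≠ 1 := fun e => hg (orderOf_eq_one_iff.1 e)
    have hn0 : orderOf g ≠ 0 := (orderOf_pos g).ne'
    obtain ⟨p, hp, hpd⟩ := Nat.exists_prime_and_dvd hn1
    have hab := Nat.ordProj_mul_ordCompl_eq_self (orderOf g) p
    set a := p ^ (orderOf g).factorization p
    set b := orderOf g / a
    have hfp : 0 < (orderOf g).factorization p := hp.factorization_pos_of_dvd hn0 hpd
    have ha1 : 1 < a := Nat.one_lt_pow hfp.ne' hp.one_lt
    have hcop : a.Coprime b := (Nat.coprime_ordCompl hp hn0).pow_left _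
    have hb1 : b ≠ 1 := by
      intro hb1
      rw [hb1, mul_one] at hab
      exact hpp ⟨p, _, hp.prime, hfp, hab⟩
    have hb0 : b ≠ 0 := by
      intro hb0; rw [hb0, mul_zero] at hab; exact hn0 hab.symm
    have oa : orderOf (g ^ a) = b := by
      rw [orderOf_pow' g (by omega), ← hab, Nat.gcd_mul_right_left]
      exact Nat.mul_div_cancel_left b (by omega)
    have ob : orderOf (g ^ b) = a := by
      rw [orderOf_pow' g hb0, ← hab, Nat.gcd_mul_left_left]
      exact Nat.mul_div_cancel a (by omega)
    have hle : Subgroup.closure ({g ^ a, g ^ b} : Set G) ≤ Subgroup.zpowers g := by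
      rw [Subgroup.closure_le]
      intro z hz
      rcases hz with rfl | rfl <;> exact Subgroup.npow_mem_zpowers _ _
    have hc : IsCyclic ↥(Subgroup.closure ({g ^ a, g ^ b} : Set G)) :=
      isCyclic_of_injective _ (Subgroup.inclusion_injective hle)
    rcases h _ _ hc with h' | h'
    · have := orderOf_dvd_of_mem_zpowers h'
      rw [oa, ob] at this
      exact hb1 (Nat.Coprime.eq_one_of_dvd hcop.symm this)
    · have := orderOf_dvd_of_mem_zpowers h'
      rw [oa, ob] at this
      exact absurd (Nat.Coprime.eq_one_of_dvd hcop this) (by omega)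

end Cfsg.Agent.S4086
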