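import Cfsg.Statements.S4088
import Mathlib
import Cfsg.Agent.Lib.Perm.Subnormalizer

set_option autoImplicit false
open Cfsg

namespace Cfsg.Agent.S4088


open Cfsg.Agent.Perm Cfsg.Agent.Fusion

universe u

section Aux
variable {G : Type u} [Group G] [Finite G] (p : ℕ)

/-- the subnormalizer -/
def sn (R : Subgroup G) (g : G) : Prop :=
  ∃ S : Subgroup G, R ≤ S ∧ IsPGroup p S ∧ g ∈ Subgroup.normalizer (S : Set G)

open scoped Classical in
/-- Moebius function of the interval above `H` -/
noncomputable def mu (H R : Subgroup G) : ℤ :=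
  if R = H then 1
  else - ∑ S ∈ ((Set.toFinite {S : Subgroup G | H ≤ S ∧ S < R}).toFinset).attach, mu H S.1
termination_by Nat.card R
decreasing_by
  have h : H ≤ S.1 ∧ S.1 < R := (Set.Finite.mem_toFinset (hs := Set.toFinite {S : Subgroup G | H ≤ S ∧ S < R})).1 S.2
  exact lt_of_le_of_ne (Subgroup.card_le_of_le h.2.le) fun e => h.2.ne (Subgroup.eq_of_le_of_card_ge h.2.le e.ge)

theorem mu_self (H : Subgroup G) : mu H H = 1 := by rw [mu, if_pos rfl]

open scoped Classical in
theorem mu_sum [Fintype (Subgroup G)] {H Q : Subgroup G} (hle : H ≤ Q) :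
    ∑ R ∈ Finset.univ.filter (fun R => H ≤ R ∧ R ≤ Q), mu H R = if Q = H then 1 else 0 := by
  by_cases hQ : Q = H
  · subst hQ
    rw [if_pos rfl, show (Finset.univ.filter fun R => Q ≤ R ∧ R ≤ Q) = {Q} by
      ext R; simp only [Finset.mem_filter, Finset.mem_univ, true_and, Finset.mem_singleton]
      exact ⟨fun h => le_antisymm h.2 h.1, fun h => h ▸ ⟨le_rfl, le_rfl⟩⟩, Finset.sum_singleton, mu_self]
  · rw [if_neg hQ, ← Finset.add_sum_erase _ _ (Finset.mem_filter.2 ⟨Finset.mem_univ Q, hle, le_rfl⟩)]
    conv_lhs => arg 1; rw [mu, if_neg hQ, Finset.sum_attach _ (fun S => mu H S)]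
    rw [neg_add_eq_zero]
    refine Finset.sum_congr ?_ fun _ _ => rfl
    ext R
    simp only [Set.Finite.mem_toFinset, Set.mem_setOf_eq, Finset.mem_erase, Finset.mem_filter, Finset.mem_univ,
      true_and, lt_iff_le_and_ne]
    tauto

variable [Fact p.Prime]

theorem mu_eq_zero {H : Subgroup G} : ∀ n : ℕ, ∀ R : Subgroup G, Nat.card R = n → H ≤ R → IsPGroup p R →
    ¬ R ≤ Subgroup.normalizer (H : Set G) → mu H R = 0 := by
  classical
  letI : Fintype (Subgroup G) := Fintype.ofFinite _
  intro n
  induction n using Nat.strong_induction_on with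
  | _ n IH =>
  intro R hn hHR hRp hRN
  set N := Subgroup.normalizer (H : Set G) with hN
  have hHne : H ≠ R := fun h => hRN (h ▸ Subgroup.le_normalizer)
  have hgrow := SylIn.normalizer_growth (p := p) hHR hHne hRp
  have h1 := mu_sum (H := H) hHR
  rw [if_neg hHne.symm, ← Finset.sum_filter_add_sum_filter_not _ (fun S => S ≤ R ⊓ N)] at h1
  have h2 : ∑ S ∈ (Finset.univ.filter (fun S => H ≤ S ∧ S ≤ R)).filter (fun S => S ≤ R ⊓ N), mu H S = 0 := by
    rw [show (Finset.univ.filter (fun S => H ≤ S ∧ S ≤ R)).filter (fun S => S ≤ R ⊓ N) =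
      Finset.univ.filter (fun S => H ≤ S ∧ S ≤ R ⊓ N) by
        ext S; simp only [Finset.mem_filter, Finset.mem_univ, true_and, le_inf_iff]; tauto,
      mu_sum (H := H) (le_inf hHR Subgroup.le_normalizer)]
    exact if_neg hgrow.ne'
  rw [h2, zero_add, ← Finset.add_sum_erase _ _ (show R ∈ (Finset.univ.filter (fun S => H ≤ S ∧ S ≤ R)).filter
    (fun S => ¬ S ≤ R ⊓ N) by simp [hHR, hRN]), Finset.sum_eq_zero, add_zero] at h1
  · exact h1
  intro S hS
  simp only [Finset.mem_erase, Finset.mem_filter, Finset.mem_univ, true_and, le_inf_iff, not_and] at hS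
  have hlt : S < R := lt_of_le_of_ne hS.2.1.2 hS.1
  exact IH _ (hn ▸ lt_of_le_of_ne (Subgroup.card_le_of_le hlt.le) fun e => hlt.ne
    (Subgroup.eq_of_le_of_card_ge hlt.le e.ge)) S rfl hS.2.1.1 (hRp.to_le hlt.le) (hS.2.2 hlt.le)

theorem sum_mu_sn_eq_zero [Fintype (Subgroup G)] {H : Subgroup G} {g : G}
    (hg : g ∉ Subgroup.normalizer (H : Set G)) (U : Finset (Subgroup G))
    (hU : ∀ R, R ∈ U ↔ H ≤ R ∧ sn p R g) : ∑ R ∈ U, mu H R = 0 := by
  classical
  let cl : Subgroup G → Subgroup G := fun R =>
    sInf {S : Subgroup G | R ≤ S ∧ IsPGroup p S ∧ g ∈ Subgroup.normalizer (S : Set G)}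
  have hcl : ∀ R, sn p R g → R ≤ cl R ∧ IsPGroup p (cl R) ∧ g ∈ Subgroup.normalizer (cl R : Set G) := by
    rintro R ⟨S, hS⟩
    refine ⟨le_sInf fun T hT => hT.1, hS.2.1.to_le (sInf_le hS), ?_⟩
    rw [Subgroup.mem_normalizer_iff]
    intro x
    simp only [cl, Subgroup.mem_sInf]
    exact ⟨fun hx T hT => (Subgroup.mem_normalizer_iff.1 hT.2.2 x).1 (hx T hT),
      fun hx T hT => (Subgroup.mem_normalizer_iff.1 hT.2.2 x).2 (hx T hT)⟩
  have hmin : ∀ R S : Subgroup G, R ≤ S → IsPGroup p S → g ∈ Subgroup.normalizer (S : Set G) → cl R ≤ S :=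
    fun R S h1 h2 h3 => sInf_le ⟨h1, h2, h3⟩
  rw [← Finset.sum_fiberwise_of_maps_to (t := U.image cl) (g := cl) (fun R hR => Finset.mem_image_of_mem cl hR)]
  refine Finset.sum_eq_zero fun K hK => ?_
  induction hn : Nat.card K using Nat.strong_induction_on generalizing K with
  | _ n IH =>
    obtain ⟨R0, hR0, rfl⟩ := Finset.mem_image.1 hK
    obtain ⟨h1, h2, h3⟩ := hcl R0 ((hU R0).1 hR0).2
    set K := cl R0
    have hHK : H ≤ K := ((hU R0).1 hR0).1.trans h1
    have hint : (Finset.univ.filter fun R => H ≤ R ∧ R ≤ K) = U.filter fun R => cl R ≤ K := by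
      ext R
      simp only [Finset.mem_filter, Finset.mem_univ, true_and]
      constructor
      · exact fun h => ⟨(hU R).2 ⟨h.1, K, h.2, h2, h3⟩, hmin R K h.2 h2 h3⟩
      · exact fun h => ⟨((hU R).1 h.1).1, (hcl R ((hU R).1 h.1).2).1.trans h.2⟩
    have hsum := mu_sum (H := H) hHK
    rw [if_neg (fun e : K = H => hg (e ▸ h3)), hint,
      ← Finset.sum_filter_add_sum_filter_not _ (fun R => cl R = K)] at hsum
    have e1 : (U.filter fun R => cl R ≤ K).filter (fun R => cl R = K) = U.filter fun R => cl R = K := by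
      ext R; simp only [Finset.mem_filter]
      exact ⟨fun h => ⟨h.1.1, h.2⟩, fun h => ⟨⟨h.1, h.2.le⟩, h.2⟩⟩
    have e2 : ∑ R ∈ (U.filter fun R => cl R ≤ K).filter (fun R => ¬ cl R = K), mu H R = 0 := by
      rw [← Finset.sum_fiberwise_of_maps_to
        (t := ((U.filter fun R => cl R ≤ K).filter (fun R => ¬ cl R = K)).image cl) (g := cl)
        (fun R hR => Finset.mem_image_of_mem cl hR)]
      refine Finset.sum_eq_zero fun K' hK' => ?_
      obtain ⟨R', hR', rfl⟩ := Finset.mem_image.1 hK'
      simp only [Finset.mem_filter] at hR'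
      have hlt : cl R' < K := lt_of_le_of_ne hR'.1.2 hR'.2
      have := IH _ (hn ▸ lt_of_le_of_ne (Subgroup.card_le_of_le hlt.le) fun e => hlt.ne
        (Subgroup.eq_of_le_of_card_ge hlt.le e.ge)) (cl R') (Finset.mem_image_of_mem cl hR'.1.1) rfl
      rw [← this]
      refine Finset.sum_congr ?_ fun _ _ => rfl
      ext R
      simp only [Finset.mem_filter]
      exact ⟨fun h => ⟨h.1.1.1, h.2⟩, fun h => ⟨⟨⟨h.1, h.2 ▸ hlt.le⟩, h.2 ▸ hlt.ne⟩, h.2⟩⟩
    rw [e1, e2, add_zero] at hsum
    exact hsum

theorem sylow_card_normalizer (P : Sylow p G) :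
    Nat.card (Sylow p G) * Nat.card (Subgroup.normalizer ((P : Subgroup G) : Set G)) = Nat.card G := by
  rw [P.card_eq_index_normalizer]
  exact Subgroup.index_mul_card _

open scoped Classical in
theorem sum_mu_lambda [Fintype (Subgroup G)] [Fintype (Sylow p G)] (H : Subgroup G) (A : Finset (Subgroup G))
    (hA : ∀ R, R ∈ A → H ≤ R) (hA' : ∀ R, H ≤ R → IsPGroup p R → R ∉ A → mu H R = 0) :
    ∑ R ∈ A, mu H R * ((Finset.univ.filter fun Q : Sylow p G => R ≤ (Q : Subgroup G)).card : ℤ) =
      ((Finset.univ.filter fun Q : Sylow p G => (Q : Subgroup G) = H).card : ℤ) := by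
  simp only [Finset.card_filter, Nat.cast_sum, Finset.mul_sum]
  rw [Finset.sum_comm]
  refine Finset.sum_congr rfl fun Q _ => ?_
  by_cases hQ : H ≤ (Q : Subgroup G)
  · have h1 : ∑ R ∈ A.filter (fun R => R ≤ (Q : Subgroup G)), mu H R = if (Q : Subgroup G) = H then 1 else 0 := by
      rw [← mu_sum hQ]
      refine Finset.sum_subset (fun R hR => ?_) (fun R hR hR' => ?_)
      · rw [Finset.mem_filter] at hR ⊢; exact ⟨Finset.mem_univ _, hA R hR.1, hR.2⟩
      · rw [Finset.mem_filter] at hR hR'
        exact hA' R hR.2.1 (Q.2.to_le hR.2.2) fun h => hR' ⟨h, hR.2.2⟩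
    rw [Finset.sum_filter] at h1
    convert h1 using 1
    · exact Finset.sum_congr rfl fun R _ => by split_ifs <;> simp
    · split_ifs <;> simp
  · rw [if_neg (fun e : (Q : Subgroup G) = H => hQ (le_of_eq e.symm)), Nat.cast_zero]
    exact Finset.sum_eq_zero fun R hR => by rw [if_neg (fun e => hQ ((hA R hR).trans e))]; simp

open scoped Classical in
theorem count_aux : ∀ (n : ℕ) (G : Type u) [Group G] [Finite G] [Fintype G] [Fintype (Sylow p G)] (H : Subgroup G),
    IsPGroup p H → H.index = n → ∀ P : Sylow p G,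
      ((Finset.univ.filter fun g => sn p H g).card : ℤ) =
        ((Finset.univ.filter fun Q : Sylow p G => H ≤ (Q : Subgroup G)).card : ℤ) *
          (Nat.card (Subgroup.normalizer ((P : Subgroup G) : Set G)) : ℤ) := by
  intro n
  induction n using Nat.strong_induction_on with
  | _ n IH =>
  intro G _ _ _ _ H hH hn P
  letI : Fintype (Subgroup G) := Fintype.ofFinite _
  set N := Subgroup.normalizer (H : Set G) with hN
  letI : Fintype N := Fintype.ofFinite _
  letI : Fintype (Sylow p N) := Fintype.ofFinite _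
  letI : Fintype (Subgroup N) := Fintype.ofFinite _
  set A := Finset.univ.filter (fun R : Subgroup G => H ≤ R ∧ IsPGroup p R ∧ R ≤ N) with hAdef
  have hmemA : ∀ R, R ∈ A ↔ H ≤ R ∧ IsPGroup p R ∧ R ≤ N := fun R => by simp [hAdef]
  have hA0 : ∀ R, H ≤ R → IsPGroup p R → R ∉ A → mu H R = 0 := fun R h1 h2 h3 =>
    mu_eq_zero p _ R rfl h1 h2 fun h4 => h3 ((hmemA R).2 ⟨h1, h2, h4⟩)
  have hG := sum_mu_lambda p H A (fun R hR => ((hmemA R).1 hR).1) hA0
  -- elements outside the normalizer do not contribute
  have hred : ∑ R ∈ A, mu H R * ((Finset.univ.filter fun g => sn p R g).card : ℤ) =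
      ∑ R ∈ A, mu H R * ((Finset.univ.filter fun g : N => sn p R (g : G)).card : ℤ) := by
    simp only [Finset.card_filter, Nat.cast_sum, Finset.mul_sum]
    rw [Finset.sum_comm, Finset.sum_comm (t := (Finset.univ : Finset N))]
    rw [← Finset.sum_filter_add_sum_filter_not Finset.univ (fun g => g ∈ N)]
    rw [show ∑ g ∈ Finset.univ.filter (fun g => ¬ g ∈ N), ∑ R ∈ A, mu H R * ((if sn p R g then 1 else 0 : ℕ) : ℤ) = 0 from
      Finset.sum_eq_zero fun g hg => by
        rw [Finset.mem_filter] at hg
        have h1 := sum_mu_sn_eq_zero p hg.2 (Finset.univ.filter fun R => H ≤ R ∧ sn p R g) (fun R => by simp)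
        rw [← Finset.sum_subset (s₁ := (A.filter fun R => sn p R g)) (fun R hR => by
            rw [Finset.mem_filter, hmemA] at hR; simp [hR.1.1, hR.2])
          (fun R hR hR' => by
            rw [Finset.mem_filter] at hR hR'
            obtain ⟨S, hRS, hS, hgS⟩ := hR.2.2
            exact hA0 R hR.2.1 (hS.to_le hRS) fun h => hR' ⟨h, hR.2.2⟩), Finset.sum_filter] at h1
        rw [← h1]
        exact Finset.sum_congr rfl fun R _ => by split_ifs <;> simp,
      add_zero]
    exact Finset.sum_subtype _ (fun g => by simp) _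
  -- inside the normalizer
  have hlocal : ∀ R ∈ A, ∀ g : N, sn p R (g : G) ↔ sn p (R.subgroupOf N) g := by
    intro R hR g
    obtain ⟨-, hRp, hRN⟩ := (hmemA R).1 hR
    constructor
    · rintro ⟨S, hRS, hS, hgS⟩
      refine ⟨S.subgroupOf N, Subgroup.comap_mono hRS, hS.comap_of_injective N.subtype N.subtype_injective, ?_⟩
      rw [Subgroup.mem_normalizer_iff]
      intro x
      exact Subgroup.mem_normalizer_iff.1 hgS (x : G)
    · rintro ⟨S, hRS, hS, hgS⟩
      refine ⟨S.map N.subtype, fun a ha => ⟨⟨a, hRN ha⟩, hRS ha, rfl⟩, hS.map _, ?_⟩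
      exact Subgroup.le_normalizer_map N.subtype (Subgroup.mem_map_of_mem N.subtype hgS)
  obtain ⟨T⟩ : Nonempty (Sylow p N) := inferInstance
  set c : ℤ := (Nat.card (Subgroup.normalizer ((T : Subgroup N) : Set N)) : ℤ) with hc
  haveI hHn : (H.subgroupOf N).Normal := Subgroup.normal_subgroupOf_of_le_normalizer le_rfl
  have hin : ∀ R ∈ A, ((Finset.univ.filter fun g : N => sn p R (g : G)).card : ℤ) =
      ((Finset.univ.filter fun Q : Sylow p N => R.subgroupOf N ≤ (Q : Subgroup N)).card : ℤ) * c := by
    intro R hR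
    obtain ⟨hHR, hRp, hRN⟩ := (hmemA R).1 hR
    rw [Finset.filter_congr fun g _ => hlocal R hR g]
    by_cases hRH : R = H
    · subst hRH
      have h1 : ∀ g : N, sn p (R.subgroupOf N) g := fun g =>
        ⟨_, le_rfl, hRp.comap_of_injective N.subtype N.subtype_injective, by
          rw [Subgroup.normalizer_eq_top_iff.2 hHn]; trivial⟩
      have h2 : ∀ Q : Sylow p N, R.subgroupOf N ≤ (Q : Subgroup N) := fun Q =>
        (Cfsg.Agent.Fusion.le_pCore (hn := hHn) (hRp.comap_of_injective N.subtype N.subtype_injective)).trans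
          (pCore_le_sylow Q)
      rw [Finset.filter_true_of_mem (fun g _ => h1 g), Finset.filter_true_of_mem (fun Q _ => h2 Q),
        Finset.card_univ, Finset.card_univ, hc, ← Nat.cast_mul, ← Nat.card_eq_fintype_card, ← Nat.card_eq_fintype_card,
        sylow_card_normalizer]
    · refine IH _ ?_ N _ (hRp.comap_of_injective N.subtype N.subtype_injective) rfl T
      rw [← hn]
      show R.relIndex N < H.index
      have hlt : H < R := lt_of_le_of_ne hHR (Ne.symm hRH)
      have h1 := Subgroup.relIndex_mul_index hHR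
      have h2 := Subgroup.relIndex_mul_index hRN
      have h3 : 1 < H.relIndex R := by
        refine Nat.one_lt_iff_ne_zero_and_ne_one.2 ⟨fun h0 => ?_, fun h1 => hlt.not_ge (Subgroup.relIndex_eq_one.1 h1)⟩
        rw [h0, zero_mul] at h1
        exact Subgroup.index_ne_zero_of_finite h1.symm
      have h4 : R.relIndex N ≤ R.index := by
        rw [← h2]; exact Nat.le_mul_of_pos_right _ (Nat.pos_of_ne_zero Subgroup.index_ne_zero_of_finite)
      calc R.relIndex N ≤ R.index := h4
        _ < H.relIndex R * R.index := lt_mul_of_one_lt_left (Nat.pos_of_ne_zero Subgroup.index_ne_zero_of_finite) h3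
        _ = H.index := h1
  -- the alternating count of Sylow subgroups of N
  have hNsum : ∑ R ∈ A, mu H R * ((Finset.univ.filter fun Q : Sylow p N => R.subgroupOf N ≤ (Q : Subgroup N)).card : ℤ) =
      ((Finset.univ.filter fun Q : Sylow p N => (Q : Subgroup N).map N.subtype = H).card : ℤ) := by
    have hle_iff : ∀ R ∈ A, ∀ Q : Sylow p N, R.subgroupOf N ≤ (Q : Subgroup N) ↔ R ≤ (Q : Subgroup N).map N.subtype := by
      intro R hR Q
      constructor
      · exact fun h a ha => ⟨⟨a, ((hmemA R).1 hR).2.2 ha⟩, h ha, rfl⟩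
      · intro h a ha
        obtain ⟨b, hb, hba⟩ := h ha
        exact N.subtype_injective hba ▸ hb
    simp only [Finset.card_filter, Nat.cast_sum, Finset.mul_sum]
    rw [Finset.sum_comm]
    refine Finset.sum_congr rfl fun Q _ => ?_
    have hQp : IsPGroup p ((Q : Subgroup N).map N.subtype) := Q.2.map _
    have hHQ : H ≤ (Q : Subgroup N).map N.subtype := fun a ha => ⟨⟨a, Subgroup.le_normalizer ha⟩,
      pCore_le_sylow Q (Cfsg.Agent.Fusion.le_pCore (hn := hHn) (hH.comap_of_injective N.subtype N.subtype_injective)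
        (show (⟨a, Subgroup.le_normalizer ha⟩ : N) ∈ H.subgroupOf N from ha)), rfl⟩
    have h1 : ∑ R ∈ A.filter (fun R => R ≤ (Q : Subgroup N).map N.subtype), mu H R =
        if (Q : Subgroup N).map N.subtype = H then 1 else 0 := by
      rw [← mu_sum hHQ]
      refine Finset.sum_subset (fun R hR => ?_) (fun R hR hR' => ?_)
      · rw [Finset.mem_filter] at hR ⊢; exact ⟨Finset.mem_univ _, ((hmemA R).1 hR.1).1, hR.2⟩
      · rw [Finset.mem_filter] at hR hR'
        exact hA0 R hR.2.1 (hQp.to_le hR.2.2) fun h => hR' ⟨h, hR.2.2⟩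
    rw [Finset.sum_filter] at h1
    convert h1 using 1
    · exact Finset.sum_congr rfl fun R hR => by
        rw [if_congr (hle_iff R hR Q) rfl rfl]; split_ifs <;> simp
    · split_ifs <;> simp
  -- compare
  set d : ℤ := (Nat.card (Subgroup.normalizer ((P : Subgroup G) : Set G)) : ℤ) with hd
  have hend : ((Finset.univ.filter fun Q : Sylow p N => (Q : Subgroup N).map N.subtype = H).card : ℤ) * c =
      ((Finset.univ.filter fun Q : Sylow p G => (Q : Subgroup G) = H).card : ℤ) * d := by
    by_cases hsyl : ∃ Q : Sylow p G, (Q : Subgroup G) = H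
    · obtain ⟨Q, hQ⟩ := hsyl
      let QN : Sylow p N := (hH.comap_of_injective N.subtype N.subtype_injective).toSylow (by
        intro hdvd
        apply Q.not_dvd_index
        rw [hQ, ← Subgroup.relIndex_mul_index (Subgroup.le_normalizer : H ≤ N)]
        exact hdvd.mul_right _)
      haveI : Subsingleton (Sylow p N) := (Sylow.unique_of_normal QN (show ((QN : Subgroup N)).Normal from hHn)).instSubsingleton
      have hQNmap : (QN : Subgroup N).map N.subtype = H := Subgroup.map_subgroupOf_eq_of_le Subgroup.le_normalizer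
      have hu1 : (Finset.univ.filter fun Q : Sylow p N => (Q : Subgroup N).map N.subtype = H) = {QN} := by
        ext X; simp [Subsingleton.elim X QN, hQNmap]
      have hu2 : (Finset.univ.filter fun X : Sylow p G => (X : Subgroup G) = H) = {Q} := by
        ext X
        simp only [Finset.mem_filter, Finset.mem_univ, true_and, Finset.mem_singleton]
        exact ⟨fun h => Sylow.ext (h.trans hQ.symm), fun h => h ▸ hQ⟩
      rw [hu1, hu2, Finset.card_singleton, Finset.card_singleton, hc, hd, Subsingleton.elim T QN]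
      have h5 : Subgroup.normalizer ((QN : Subgroup N) : Set N) = ⊤ := Subgroup.normalizer_eq_top_iff.2 hHn
      rw [h5, Subgroup.card_top]
      congr 2
      have h6 := sylow_card_normalizer p P
      rw [← sylow_card_normalizer p Q] at h6
      rw [Nat.eq_of_mul_eq_mul_left Nat.card_pos h6, hQ]
    · push Not at hsyl
      rw [show (Finset.univ.filter fun X : Sylow p G => (X : Subgroup G) = H) = ∅ from
          Finset.filter_false_of_mem fun X _ => hsyl X,
        show (Finset.univ.filter fun X : Sylow p N => (X : Subgroup N).map N.subtype = H) = ∅ from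
          Finset.filter_false_of_mem fun X _ hX => ?_]
      · simp
      obtain ⟨Q, hQ⟩ := hH.exists_le_sylow
      have hgrow := SylIn.normalizer_growth (p := p) hQ (fun e => hsyl Q e.symm) Q.2
      refine hgrow.ne ?_
      have h7 : ((Q : Subgroup G) ⊓ N).subgroupOf N = (X : Subgroup N) := X.3
        (Q.2.to_inf_left.comap_of_injective N.subtype N.subtype_injective) (fun a ha => by
          have h8 : (a : G) ∈ H := hX ▸ ⟨a, ha, rfl⟩
          exact ⟨hQ h8, a.2⟩)
      conv_lhs => rw [← hX, ← h7]
      exact Subgroup.map_subgroupOf_eq_of_le inf_le_right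
  have hHA : H ∈ A := (hmemA H).2 ⟨le_rfl, hH, Subgroup.le_normalizer⟩
  have hfinal : ∑ R ∈ A, mu H R * ((Finset.univ.filter fun g => sn p R g).card : ℤ) =
      ∑ R ∈ A, mu H R * (((Finset.univ.filter fun Q : Sylow p G => R ≤ (Q : Subgroup G)).card : ℤ) * d) := by
    rw [hred, Finset.sum_congr rfl fun R hR => by rw [hin R hR]]
    simp only [← mul_assoc, ← Finset.sum_mul]
    rw [hNsum, hG, hend]
  rw [← Finset.add_sum_erase _ _ hHA, ← Finset.add_sum_erase _ _ hHA] at hfinal
  have hrest : ∑ R ∈ A.erase H, mu H R * ((Finset.univ.filter fun g => sn p R g).card : ℤ) =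
      ∑ R ∈ A.erase H, mu H R * (((Finset.univ.filter fun Q : Sylow p G => R ≤ (Q : Subgroup G)).card : ℤ) * d) := by
    refine Finset.sum_congr rfl fun R hR => ?_
    rw [Finset.mem_erase] at hR
    obtain ⟨hHR, hRp, hRN⟩ := (hmemA R).1 hR.2
    rw [IH R.index (by
      rw [← hn]
      exact Subgroup.index_strictAnti (lt_of_le_of_ne hHR (Ne.symm hR.1))) G R hRp rfl P]
  rw [hrest, mu_self, one_mul, one_mul] at hfinal
  exact add_right_cancel hfinal

end Aux


/-- Let G be a finite group, p a prime dividing the order of G, H a p-subgroup of G and P a Sylow p-subgroup of G. Call the subnormalizer of H the set of elements g of G such that H is subnormal in the subgroup generated by H and g. Then the number of elements of the subnormalizer of H equals the number of Sylow p-subgroups of G containing H times the order of N_G(P), and also equals the number of conjugates of H contained in P times the order of N_G(H). -/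
theorem result {G : Type*} [Group G] [Finite G] (p : ℕ) [Fact p.Prime]
    (hp : p ∣ Nat.card G) (H : Subgroup G) (hH : IsPGroup p H) (P : Sylow p G) :
    Nat.card {g : G // ((H).subgroupOf (H ⊔ Subgroup.zpowers g)).IsSubnormal} =
        Nat.card {Q : Sylow p G // H ≤ (Q : Subgroup G)} * Nat.card (Subgroup.normalizer ((P : Subgroup G) : Set G)) ∧
    Nat.card {g : G // ((H).subgroupOf (H ⊔ Subgroup.zpowers g)).IsSubnormal} =
        Nat.card {K : Subgroup G // K ≤ (P : Subgroup G) ∧ ∃ g : G, K = H.map (MulAut.conj g).toMonoidHom} *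
          Nat.card (Subgroup.normalizer (H : Set G)) := by
  classical
  letI : Fintype G := Fintype.ofFinite G
  letI : Fintype (Sylow p G) := Fintype.ofFinite _
  have h1 := count_aux p _ G H hH rfl P
  have hfirst : Nat.card {g : G // ((H).subgroupOf (H ⊔ Subgroup.zpowers g)).IsSubnormal} =
      Nat.card {Q : Sylow p G // H ≤ (Q : Subgroup G)} * Nat.card (Subgroup.normalizer ((P : Subgroup G) : Set G)) := by
    rw [Nat.card_congr (Equiv.subtypeEquivRight fun g => subnormalizer_iff hH g), Nat.card_eq_fintype_card,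
      Nat.card_eq_fintype_card (α := {Q : Sylow p G // H ≤ (Q : Subgroup G)}),
      Fintype.card_subtype, Fintype.card_subtype]
    have h2 : (Finset.univ.filter fun g => sn p H g).card = (Finset.univ.filter fun Q : Sylow p G => H ≤ (Q : Subgroup G)).card *
        Nat.card (Subgroup.normalizer ((P : Subgroup G) : Set G)) := by exact_mod_cast h1
    convert h2 using 4 <;> exact Iff.rfl
  refine ⟨hfirst, hfirst.trans ?_⟩
  -- double counting incidences of Sylow subgroups and conjugates of H
  set Cj := {K : Subgroup G // ∃ g : G, K = H.map (MulAut.conj g).toMonoidHom} with hCj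
  letI : Fintype Cj := Fintype.ofFinite _
  set lam := (Finset.univ.filter fun Q : Sylow p G => H ≤ (Q : Subgroup G)).card with hlam
  set kap := (Finset.univ.filter fun K : Cj => K.1 ≤ (P : Subgroup G)).card with hkap
  have hA : ∀ K : Cj, (Finset.univ.filter fun Q : Sylow p G => K.1 ≤ (Q : Subgroup G)).card = lam := by
    rintro ⟨K, g, rfl⟩
    refine Finset.card_equiv (MulAction.toPerm (g⁻¹ : G)) fun Q => ?_
    simp only [Finset.mem_filter, Finset.mem_univ, true_and, MulAction.toPerm_apply, Sylow.coe_subgroup_smul]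
    rw [Subgroup.subset_pointwise_smul_iff]
    constructor
    · intro h x hx
      rw [Subgroup.mem_pointwise_smul_iff_inv_smul_mem] at hx
      simp only [← map_inv, inv_inv, MulAut.smul_def, MulAut.conj_apply] at hx
      have := h ⟨_, hx, rfl⟩
      simpa [mul_assoc] using this
    · rintro h _ ⟨x, hx, rfl⟩
      refine h ?_
      rw [Subgroup.mem_pointwise_smul_iff_inv_smul_mem]
      simpa [mul_assoc] using hx
  have hB : ∀ Q : Sylow p G, (Finset.univ.filter fun K : Cj => K.1 ≤ (Q : Subgroup G)).card = kap := by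
    intro Q
    obtain ⟨g, hg⟩ := MulAction.exists_smul_eq G P Q
    symm
    have hconj : ∀ (a : G) (K : Cj), ∃ b : G, cj K.1 a = H.map (MulAut.conj b).toMonoidHom := fun a K => by
      obtain ⟨K, b, rfl⟩ := K
      exact ⟨a * b, cj_cj H b a⟩
    refine Finset.card_equiv
      { toFun := fun K => ⟨cj K.1 g, hconj g K⟩
        invFun := fun K => ⟨cj K.1 g⁻¹, hconj g⁻¹ K⟩
        left_inv := fun K => Subtype.ext (cj_cj_inv _ g)
        right_inv := fun K => Subtype.ext (cj_inv_cj _ g) } fun K => ?_
    simp only [Finset.mem_filter, Finset.mem_univ, true_and]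
    rw [← hg, Sylow.coe_subgroup_smul]
    exact (cj_le_cj (g := g)).symm
  have hdc : Fintype.card Cj * lam = Fintype.card (Sylow p G) * kap := by
    rw [← Finset.card_univ, ← Finset.card_univ, ← smul_eq_mul, ← smul_eq_mul, ← Finset.sum_const, ← Finset.sum_const]
    rw [← Finset.sum_congr rfl (fun K _ => hA K), ← Finset.sum_congr rfl (fun Q _ => hB Q)]
    simp only [Finset.card_filter]
    exact Finset.sum_comm
  have hCjN : Fintype.card Cj * Nat.card (Subgroup.normalizer (H : Set G)) = Nat.card G := by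
    rw [← Subgroup.index_mul_card (Subgroup.normalizer (H : Set G)), ← Nat.card_eq_fintype_card]
    congr 1
    rw [Subgroup.index_eq_card]
    refine (Nat.card_eq_of_bijective
      (Quotient.lift (fun g => (⟨cj H g, g, rfl⟩ : Cj)) (fun a b hab => Subtype.ext (by
        have h2 := mem_normalizer_iff_cj.1 (QuotientGroup.leftRel_apply.1 hab)
        show cj H a = cj H b
        calc cj H a = cj (cj H (a⁻¹ * b)) a := by rw [h2]
          _ = cj H b := by rw [cj_cj, mul_inv_cancel_left]))) ⟨?_, ?_⟩).symm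
    · rintro ⟨a⟩ ⟨b⟩ hab
      have h2 : cj H a = cj H b := congrArg Subtype.val hab
      refine QuotientGroup.eq.2 (mem_normalizer_iff_cj.2 ?_)
      rw [← cj_cj, ← h2, cj_cj_inv]
    · rintro ⟨K, g, rfl⟩
      exact ⟨QuotientGroup.mk g, rfl⟩
  have hkeq : Nat.card {K : Subgroup G // K ≤ (P : Subgroup G) ∧ ∃ g : G, K = H.map (MulAut.conj g).toMonoidHom} = kap := by
    rw [hkap, ← Fintype.card_subtype, ← Nat.card_eq_fintype_card]
    exact Nat.card_congr
      { toFun := fun K => ⟨⟨K.1, K.2.2⟩, K.2.1⟩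
        invFun := fun K => ⟨K.1.1, K.2, K.1.2⟩
        left_inv := fun K => rfl
        right_inv := fun K => rfl }
  rw [hkeq, Nat.card_eq_fintype_card, Fintype.card_subtype, ← hlam]
  have hN := sylow_card_normalizer p P
  rw [Nat.card_eq_fintype_card (α := Sylow p G), ← hCjN] at hN
  refine Nat.eq_of_mul_eq_mul_left (show 0 < Fintype.card (Sylow p G) from Fintype.card_pos) ?_
  calc Fintype.card (Sylow p G) * (lam * Nat.card (Subgroup.normalizer ((P : Subgroup G) : Set G)))
      = lam * (Fintype.card (Sylow p G) * Nat.card (Subgroup.normalizer ((P : Subgroup G) : Set G))) := by ring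
    _ = (Fintype.card Cj * lam) * Nat.card (Subgroup.normalizer (H : Set G)) := by rw [hN]; ring
    _ = _ := by rw [hdc]; ring

end Cfsg.Agent.S4088
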