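import Cfsg.Statements.S4089
import Mathlib
import Cfsg.Agent.Lib.Perm.Subnormalizer

set_option autoImplicit false
open Cfsg

namespace Cfsg.Agent.S4089


open Cfsg.Agent.Perm


/-- Let G be a finite group, p a prime and H a p-subgroup of G. Then the set of elements g of G such that H is subnormal in the subgroup generated by H and g is the union of the normalizers N_G(R) over the subgroups R of G containing H with R = O_p(N_G(R)); and this set does not change when H is replaced by the intersection of all Sylow p-subgroups of G containing H. -/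
theorem result {G : Type*} [Group G] [Finite G] (p : ℕ) [Fact p.Prime]
    (H : Subgroup G) (hH : IsPGroup p H) :
    {g : G | ((H).subgroupOf (H ⊔ Subgroup.zpowers g)).IsSubnormal} =
      {g : G | ∃ R : Subgroup G, H ≤ R ∧ (Cfsg.pCore p (Subgroup.normalizer (R : Set G))).map (Subgroup.normalizer (R : Set G)).subtype = R ∧ g ∈ Subgroup.normalizer (R : Set G)} ∧
    ∀ g : G, (((H).subgroupOf (H ⊔ Subgroup.zpowers g)).IsSubnormal ↔
      (((sInf {K : Subgroup G | ∃ Q : Sylow p G, H ≤ (Q : Subgroup G) ∧ K = (Q : Subgroup G)})).subgroupOf ((sInf {K : Subgroup G | ∃ Q : Sylow p G, H ≤ (Q : Subgroup G) ∧ K = (Q : Subgroup G)}) ⊔ Subgroup.zpowers g)).IsSubnormal) := by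
  classical
  refine ⟨Set.ext fun g => ?_, fun g => ?_⟩
  · rw [Set.mem_setOf_eq, subnormalizer_iff hH, Set.mem_setOf_eq]
    constructor
    · rintro ⟨R, hHR, hR, hg⟩
      obtain ⟨R', hle, hg', hrad⟩ := exists_radical_ge hR hg
      exact ⟨R', hHR.trans hle, hrad, hg'⟩
    · rintro ⟨R, hHR, hrad, hg⟩
      exact ⟨R, hHR, isPGroup_of_radical hrad, hg⟩
  · set D := sInf {K : Subgroup G | ∃ Q : Sylow p G, H ≤ (Q : Subgroup G) ∧ K = (Q : Subgroup G)} with hD
    obtain ⟨Q0, hQ0⟩ := hH.exists_le_sylow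
    have hDp : IsPGroup p D := Q0.2.to_le (sInf_le ⟨Q0, hQ0, rfl⟩)
    have hHD : H ≤ D := le_sInf (by rintro _ ⟨Q, hQ, rfl⟩; exact hQ)
    rw [subnormalizer_iff hH, subnormalizer_iff hDp]
    constructor
    · rintro ⟨R, hHR, hR, hg⟩
      obtain ⟨R', hle, hg', hrad⟩ := exists_radical_ge hR hg
      refine ⟨R', ?_, isPGroup_of_radical hrad, hg'⟩
      calc D ≤ sInf {K : Subgroup G | ∃ Q : Sylow p G, R' ≤ (Q : Subgroup G) ∧ K = (Q : Subgroup G)} :=
            sInf_le_sInf (by rintro _ ⟨Q, hQ, rfl⟩; exact ⟨Q, (hHR.trans hle).trans hQ, rfl⟩)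
        _ = R' := sInf_sylow_eq_of_radical hrad
    · rintro ⟨R, hDR, hR, hg⟩
      exact ⟨R, hHD.trans hDR, hR, hg⟩

end Cfsg.Agent.S4089
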