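import Cfsg.Statements.S4091
import Cfsg.Agent.S4088
import Cfsg.Agent.S4090
import Cfsg.Agent.Lib.Perm.CoprimeFixedProduct

set_option autoImplicit false
set_option linter.style.haveILetI false
open Cfsg

namespace Cfsg.Agent.S4091

open Cfsg.Agent.Perm.CoprimeFixedProduct Cfsg.Agent.Perm.SubnormalizerChain

universe u

variable {G : Type u} [Group G] [Finite G] {p : ℕ} [Fact p.Prime]

/-- Number of Sylow subgroups containing `x`. -/
noncomputable def nSyl (p : ℕ) (x : G) : ℕ := Nat.card {Q : Sylow p G // x ∈ (Q : Subgroup G)}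

theorem cnt_coe_zpowers {G' : Type u} [Group G'] {A : Type u} [Group A] (ι : A →* G') (V : Subgroup G') (a : A) :
    cnt V ((Subgroup.zpowers a).map ι : Set G') = cnt V {ι a} := by
  rw [Subgroup.coe_map]; exact cnt_zpowers ι V a

/-- The bound for one factor of order prime to p. -/
theorem factor_bound (P : Sylow p G) (A B : Subgroup G) [A.Normal] [B.Normal] (hAB : A ≤ B)
    (hco : (A.relIndex B).Coprime p) [Fintype (P : Subgroup G)] :
    (∏ x : (P : Subgroup G), centFactor (Subgroup.zpowers (x : G)) A B) ^ p ≤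
      centFactor (⊥ : Subgroup G) A B ^ Fintype.card (P : Subgroup G) *
        centFactor (P : Subgroup G) A B ^ ((p - 1) * Fintype.card (P : Subgroup G)) := by
  set π := QuotientGroup.mk' A with hπ
  set V := B.map π with hV
  let ι : (P : Subgroup G) →* G ⧸ A := π.comp (P : Subgroup G).subtype
  have hAbot : A.map π = ⊥ := by rw [Subgroup.map_eq_bot_iff, hπ, QuotientGroup.ker_mk']
  have hcardV : Nat.card V = A.relIndex B := by
    have h1 := Subgroup.relIndex_ker B π
    rw [hπ, QuotientGroup.ker_mk'] at h1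
    exact h1.symm
  have hcf : ∀ H : Subgroup G, centFactor H A B = cnt V (H.map π : Set (G ⧸ A)) := by
    intro H
    rw [← centFactor_map A H A B le_rfl hAB, hAbot, ← hV, centFactor, Subgroup.card_bot, Nat.div_one]
    refine Nat.card_congr (Equiv.subtypeEquivRight fun v => and_congr_right fun _ => ?_)
    refine forall_congr' fun h => imp_congr_right fun _ => ?_
    rw [Subgroup.mem_bot, mul_inv_eq_one, mul_inv_eq_iff_eq_mul]
  have hone : centFactor (⊥ : Subgroup G) A B = Nat.card V := by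
    rw [hcf, cnt_eq_inf, Subgroup.map_bot]
    rw [inf_eq_left.2]
    intro v _
    refine Subgroup.mem_centralizer_iff.2 fun b hb => ?_
    rw [SetLike.mem_coe, Subgroup.mem_bot] at hb
    rw [hb, one_mul, mul_one]
  have htop : centFactor (P : Subgroup G) A B = cnt V (Set.range ι) := by
    rw [hcf, MonoidHom.coe_comp, Set.range_comp, Subgroup.coe_subtype, Subtype.range_coe_subtype,
      Subgroup.coe_map]
    rfl
  have hx : ∀ x : (P : Subgroup G), centFactor (Subgroup.zpowers (x : G)) A B = cnt V {ι x} := by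
    intro x
    rw [hcf, ← cnt_coe_zpowers ι V x, MonoidHom.map_zpowers, MonoidHom.map_zpowers]
    rfl
  rw [hone, htop, Finset.prod_congr rfl (fun x _ => hx x)]
  refine bound P.2 ι V (hcardV ▸ hco) fun a => ?_
  haveI : V.Normal := Subgroup.Normal.map inferInstance π (QuotientGroup.mk'_surjective A)
  rw [Subgroup.normalizer_eq_top_iff.2 inferInstance]
  trivial

theorem prod_nSyl_bound (hp : p ∣ Nat.card G) (hG : Cfsg.IsPSolvable p G) (P : Sylow p G)
    [Fintype (P : Subgroup G)] :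
    (∏ x : (P : Subgroup G), nSyl p (x : G)) ^ p ≤ Nat.card (Sylow p G) ^ Fintype.card (P : Subgroup G) := by
  classical
  obtain ⟨m, M, h0, hn, hmono, hnormal, hfac⟩ := hG
  set N := Nat.card (Subgroup.normalizer ((P : Subgroup G) : Set G))
  set d := Nat.card (P : Subgroup G)
  let f : Subgroup G → Fin m → ℕ := fun H i =>
    if ((M i.castSucc).relIndex (M i.succ)).Coprime p then centFactor H (M i.castSucc) (M i.succ) else 1
  have key : ∀ H : Subgroup G, IsPGroup p H →
      Nat.card {Q : Sylow p G // H ≤ (Q : Subgroup G)} * N = d * ∏ i, f H i := fun H hH =>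
    ((Cfsg.Agent.S4088.result p hp H hH P).1).symm.trans
      (Cfsg.Agent.S4090.result p ⟨m, M, h0, hn, hmono, hnormal, hfac⟩ H hH P m M h0 hn hmono hnormal hfac)
  have hP : N = d * ∏ i, f (P : Subgroup G) i := by
    rw [← key _ P.2]
    haveI : Unique {Q : Sylow p G // (P : Subgroup G) ≤ (Q : Subgroup G)} :=
      ⟨⟨⟨P, le_rfl⟩⟩, fun Q => Subtype.ext (Sylow.ext (P.is_maximal' Q.1.2 Q.2))⟩
    rw [Nat.card_unique, one_mul]
  have hB : Nat.card (Sylow p G) * N = d * ∏ i, f ⊥ i := by
    rw [← key _ IsPGroup.of_bot, Nat.card_congr (Equiv.subtypeUnivEquiv fun _ => bot_le)]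
  have hx : ∀ x : (P : Subgroup G), nSyl p (x : G) * N = d * ∏ i, f (Subgroup.zpowers (x : G)) i := fun x => by
    rw [← key _ (P.2.to_le (Subgroup.zpowers_le.2 x.2))]
    exact congrArg (· * N) (Nat.card_congr (Equiv.subtypeEquivRight fun Q => Subgroup.zpowers_le.symm))
  have hi : ∀ i, (∏ x : (P : Subgroup G), f (Subgroup.zpowers (x : G)) i) ^ p ≤
      f ⊥ i ^ Fintype.card (P : Subgroup G) * f (P : Subgroup G) i ^ ((p - 1) * Fintype.card (P : Subgroup G)) := by
    intro i
    simp only [f]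
    split_ifs with h
    · haveI := hnormal i.castSucc
      haveI := hnormal i.succ
      exact factor_bound P _ _ (hmono (Fin.castSucc_le_succ i)) h
    · simp
  set k := Fintype.card (P : Subgroup G)
  have hN : 0 < N := Nat.card_pos
  refine Nat.le_of_mul_le_mul_right (c := N ^ (p * k)) ?_ (pow_pos hN _)
  obtain ⟨r, hr⟩ : ∃ r, p = r + 1 := ⟨p - 1, by have := (Fact.out : p.Prime).pos; omega⟩
  have hr' : p - 1 = r := by omega
  calc (∏ x : (P : Subgroup G), nSyl p (x : G)) ^ p * N ^ (p * k)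
      = (∏ x : (P : Subgroup G), nSyl p (x : G) * N) ^ p := by
        rw [Finset.prod_mul_distrib, Finset.prod_const, Finset.card_univ, mul_pow, ← pow_mul, mul_comm p k]
    _ = d ^ (p * k) * ∏ i, (∏ x : (P : Subgroup G), f (Subgroup.zpowers (x : G)) i) ^ p := by
        rw [Finset.prod_congr rfl (fun x _ => hx x), Finset.prod_mul_distrib, Finset.prod_const, Finset.card_univ,
          Finset.prod_comm, mul_pow, ← pow_mul, Finset.prod_pow, mul_comm p k]
    _ ≤ d ^ (p * k) * ∏ i, f ⊥ i ^ k * f (P : Subgroup G) i ^ ((p - 1) * k) :=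
        Nat.mul_le_mul_left _ (Finset.prod_le_prod' fun i _ => hi i)
    _ = (d * ∏ i, f ⊥ i) ^ k * (d * ∏ i, f (P : Subgroup G) i) ^ (r * k) := by
        rw [Finset.prod_mul_distrib, Finset.prod_pow, Finset.prod_pow, hr', mul_pow, mul_pow,
          show p * k = k + r * k by rw [hr]; ring]
        ring
    _ = Nat.card (Sylow p G) ^ k * N ^ (p * k) := by
        rw [← hB, ← hP, show p * k = k + r * k by rw [hr]; ring]
        ring

open scoped Classical in
theorem sum_over_sylow (P : Sylow p G) [Fintype G] [Fintype (Sylow p G)] :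
    (Nat.card {g : G // ∃ k : ℕ, orderOf g = p ^ k} : ℝ) =
      Nat.card (Sylow p G) * ∑ x : (P : Subgroup G), (nSyl p (x : G) : ℝ)⁻¹ := by
  let w : G → ℝ := fun x => (nSyl p x : ℝ)⁻¹
  have hs : ∀ g x : G, nSyl p (g * x * g⁻¹) = nSyl p x := by
    intro g x
    refine (Nat.card_congr (Equiv.subtypeEquiv (MulAction.toPerm g) fun Q => ?_)).symm
    show x ∈ (Q : Subgroup G) ↔ g * x * g⁻¹ ∈ ((g • Q : Sylow p G) : Subgroup G)
    rw [Sylow.coe_subgroup_smul]
    exact (Subgroup.smul_mem_pointwise_smul_iff (a := MulAut.conj g) (x := x)).symm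
  have hQ : ∀ Q : Sylow p G, ∑ x : G, (if x ∈ (Q : Subgroup G) then w x else 0) =
      ∑ x : (P : Subgroup G), w x := by
    intro Q
    obtain ⟨g, rfl⟩ := MulAction.exists_smul_eq G P Q
    rw [← Equiv.sum_comp (MulAut.conj g).toEquiv]
    have : ∀ x : G, (if (MulAut.conj g).toEquiv x ∈ ((g • P : Sylow p G) : Subgroup G) then w ((MulAut.conj g).toEquiv x) else 0) =
        if x ∈ (P : Subgroup G) then w x else 0 := fun x => by
      have h1 : (MulAut.conj g).toEquiv x ∈ ((g • P : Sylow p G) : Subgroup G) ↔ x ∈ (P : Subgroup G) := by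
        rw [Sylow.coe_subgroup_smul]
        exact Subgroup.smul_mem_pointwise_smul_iff (a := MulAut.conj g) (x := x)
      simp only [h1]
      refine ite_congr rfl (fun _ => ?_) (fun _ => rfl)
      show ((nSyl p (g * x * g⁻¹) : ℕ) : ℝ)⁻¹ = _
      rw [hs]
    rw [Finset.sum_congr rfl (fun x _ => this x), ← Finset.sum_filter]
    exact Finset.sum_subtype _ (fun x => by simp) w
  have hx : ∀ x : G, ∑ Q : Sylow p G, (if x ∈ (Q : Subgroup G) then w x else 0) =
      if (∃ k : ℕ, orderOf x = p ^ k) then 1 else 0 := by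
    intro x
    rw [← Finset.sum_filter, Finset.sum_const, nsmul_eq_mul]
    have hc : (Finset.univ.filter fun Q : Sylow p G => x ∈ (Q : Subgroup G)).card = nSyl p x := by
      rw [nSyl, Nat.card_eq_fintype_card, Fintype.card_subtype]
    rw [hc]
    split_ifs with h
    · obtain ⟨k, hk⟩ := h
      obtain ⟨Q, hQ⟩ := (IsPGroup.of_card (G := Subgroup.zpowers x) (by rw [Nat.card_zpowers, hk])).exists_le_sylow
      haveI : Nonempty {Q : Sylow p G // x ∈ (Q : Subgroup G)} := ⟨⟨Q, hQ (Subgroup.mem_zpowers x)⟩⟩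
      exact mul_inv_cancel₀ (Nat.cast_ne_zero.2 Nat.card_pos.ne')
    · have : nSyl p x = 0 := by
        rw [nSyl, Nat.card_eq_zero]
        left
        refine ⟨fun Q => h ?_⟩
        obtain ⟨k, hk⟩ := (IsPGroup.iff_orderOf.1 Q.1.2) ⟨x, Q.2⟩
        exact ⟨k, by rw [← hk, Subgroup.orderOf_mk]⟩
      rw [this, Nat.cast_zero, zero_mul]
  calc (Nat.card {g : G // ∃ k : ℕ, orderOf g = p ^ k} : ℝ)
      = ∑ x : G, if (∃ k : ℕ, orderOf x = p ^ k) then 1 else 0 := by
        rw [Finset.sum_boole, Nat.card_eq_fintype_card, Fintype.card_subtype]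
    _ = ∑ x : G, ∑ Q : Sylow p G, (if x ∈ (Q : Subgroup G) then w x else 0) :=
        (Finset.sum_congr rfl fun x _ => hx x).symm
    _ = ∑ Q : Sylow p G, ∑ x : G, (if x ∈ (Q : Subgroup G) then w x else 0) := Finset.sum_comm
    _ = _ := by
        rw [Finset.sum_congr rfl (fun Q _ => hQ Q), Finset.sum_const, Finset.card_univ, nsmul_eq_mul,
          Nat.card_eq_fintype_card]

theorem amgm {ι : Type*} [Fintype ι] [Nonempty ι] (a : ι → ℝ) (ha : ∀ i, 0 ≤ a i) :
    ∏ i, a i ≤ ((∑ i, a i) / Fintype.card ι) ^ Fintype.card ι := by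
  have h := Real.geom_mean_le_arith_mean Finset.univ (fun _ => (1 : ℝ)) a (fun _ _ => zero_le_one)
    (by simp [Fintype.card_pos]) (fun i _ => ha i)
  simp only [Real.rpow_one, one_mul, Finset.sum_const, Finset.card_univ, nsmul_eq_mul, mul_one] at h
  calc ∏ i, a i = ((∏ i, a i) ^ (Fintype.card ι : ℝ)⁻¹) ^ Fintype.card ι :=
        (Real.rpow_inv_natCast_pow (Finset.prod_nonneg fun i _ => ha i) Fintype.card_ne_zero).symm
    _ ≤ _ := pow_le_pow_left₀ (Real.rpow_nonneg (Finset.prod_nonneg fun i _ => ha i) _) h _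

/-- Let G be a finite p-solvable group, P a Sylow p-subgroup of G, u the number of p-elements of G (elements of p-power order, the identity included) and n the number of Sylow p-subgroups of G. Then u/#P ≥ n^((p−1)/p), stated as u^p ≥ #P^p · n^(p−1). -/
theorem result {G : Type*} [Group G] [Finite G] (p : ℕ) [Fact p.Prime]
    (hG : Cfsg.IsPSolvable p G) (P : Sylow p G) :
    Nat.card (P : Subgroup G) ^ p * Nat.card (Sylow p G) ^ (p - 1) ≤ Nat.card {g : G // ∃ k : ℕ, orderOf g = p ^ k} ^ p := by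
  classical
  letI : Fintype G := Fintype.ofFinite G
  letI : Fintype (Sylow p G) := Fintype.ofFinite _
  obtain ⟨r, hr⟩ : ∃ r, p = r + 1 := ⟨p - 1, by have := (Fact.out : p.Prime).pos; omega⟩
  by_cases hp : p ∣ Nat.card G
  swap
  · have hP : (P : Subgroup G) = ⊥ := by
      obtain ⟨k, hk⟩ := IsPGroup.iff_card.1 P.2
      rcases Nat.eq_zero_or_pos k with rfl | hk0
      · exact Subgroup.eq_bot_of_card_eq _ (by rw [hk, pow_zero])
      · exact absurd ((dvd_pow_self p hk0.ne').trans (hk ▸ Subgroup.card_subgroup_dvd_card _)) hp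
    haveI : Subsingleton (Sylow p G) := ⟨fun Q R => by
      obtain ⟨a, ha⟩ := MulAction.exists_smul_eq G P Q
      obtain ⟨b, hb⟩ := MulAction.exists_smul_eq G P R
      apply Sylow.ext
      rw [← ha, ← hb, Sylow.coe_subgroup_smul, Sylow.coe_subgroup_smul, hP, Subgroup.smul_bot, Subgroup.smul_bot]⟩
    haveI : Nonempty {g : G // ∃ k : ℕ, orderOf g = p ^ k} := ⟨⟨1, 0, by simp⟩⟩
    rw [hP, Subgroup.card_bot, Nat.card_unique, one_pow, one_pow, mul_one]
    exact Nat.one_le_pow _ _ Nat.card_pos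
  have h1 := prod_nSyl_bound hp hG P
  have h2 := sum_over_sylow P
  set k := Fintype.card (P : Subgroup G) with hk
  have hk0 : 0 < k := Fintype.card_pos
  have hd : Nat.card (P : Subgroup G) = k := Nat.card_eq_fintype_card
  set n := Nat.card (Sylow p G) with hn
  have hn0 : (0 : ℝ) < n := Nat.cast_pos.2 Nat.card_pos
  set S := ∑ x : (P : Subgroup G), (nSyl p (x : G) : ℝ)⁻¹ with hS
  have hspos : ∀ x : (P : Subgroup G), (0 : ℝ) < nSyl p (x : G) := fun x => by
    haveI : Nonempty {Q : Sylow p G // (x : G) ∈ (Q : Subgroup G)} := ⟨⟨P, x.2⟩⟩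
    exact Nat.cast_pos.2 Nat.card_pos
  have h3 : ((∏ x : (P : Subgroup G), (nSyl p (x : G) : ℝ)⁻¹)) ^ p ≤ ((S / k) ^ p) ^ k := by
    rw [← pow_mul, mul_comm p k, pow_mul]
    exact pow_le_pow_left₀ (Finset.prod_nonneg fun x _ => (inv_pos.2 (hspos x)).le)
      (amgm _ (fun x => (inv_pos.2 (hspos x)).le)) p
  rw [Finset.prod_inv_distrib, inv_pow] at h3
  have h4 : ((n : ℝ) ^ k)⁻¹ ≤ ((S / k) ^ p) ^ k := by
    refine le_trans ?_ h3
    refine inv_anti₀ (pow_pos (Finset.prod_pos fun x _ => hspos x) _) ?_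
    exact_mod_cast h1
  rw [← inv_pow] at h4
  have h5 : (n : ℝ)⁻¹ ≤ (S / k) ^ p :=
    le_of_pow_le_pow_left₀ hk0.ne' (pow_nonneg (div_nonneg (Finset.sum_nonneg fun x _ => (inv_pos.2 (hspos x)).le)
      (Nat.cast_nonneg _)) _) h4
  have h6 : ((k : ℝ) ^ p * (n : ℝ) ^ (p - 1)) ≤ (n * S) ^ p := by
    have hk' : (0 : ℝ) < k := Nat.cast_pos.2 hk0
    calc (k : ℝ) ^ p * (n : ℝ) ^ (p - 1) = (k : ℝ) ^ p * (n : ℝ) ^ p * (n : ℝ)⁻¹ := by
          rw [hr, Nat.add_sub_cancel, pow_succ (n : ℝ)]
          field_simp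
      _ ≤ (k : ℝ) ^ p * (n : ℝ) ^ p * (S / k) ^ p :=
          mul_le_mul_of_nonneg_left h5 (by positivity)
      _ = (n * S) ^ p := by
          rw [div_pow, mul_pow]
          field_simp
  rw [← h2] at h6
  rw [hd]
  exact_mod_cast h6

end Cfsg.Agent.S4091
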