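import Cfsg.Statements.S4092
import Mathlib

set_option autoImplicit false
open Cfsg

namespace Cfsg.Agent.S4092


theorem isPGroup_elem {G : Type*} [Group G] {p : ℕ} [Fact p.Prime] {R : Subgroup G}
    (hR : IsPGroup p R) {g : G} (hg : g ∈ R) : ∃ k : ℕ, orderOf g = p ^ k := by
  obtain ⟨k, hk⟩ := IsPGroup.iff_orderOf.1 hR ⟨g, hg⟩
  exact ⟨k, by rw [← hk, Subgroup.orderOf_mk]⟩

theorem normalizer_grows {G : Type*} [Group G] [Finite G] {p : ℕ} [Fact p.Prime] {P D : Subgroup G}
    (hP : IsPGroup p P) (hDP : D < P) :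
    ∃ g ∈ P, g ∉ D ∧ g ∈ Subgroup.normalizer (D : Set G) := by
  haveI := hP.isNilpotent
  have hlt : D.subgroupOf P < ⊤ := by
    refine lt_top_iff_ne_top.2 fun h => ?_
    rw [Subgroup.subgroupOf_eq_top] at h
    exact not_le_of_gt hDP h
  obtain ⟨⟨g, hgP⟩, hgN, hgD⟩ := SetLike.exists_of_lt
    (Group.normalizerCondition_of_isNilpotent (D.subgroupOf P) hlt)
  refine ⟨g, hgP, fun h => hgD h, ?_⟩
  rw [Subgroup.mem_normalizer_iff] at hgN ⊢
  intro d
  constructor
  · intro hd
    exact (hgN ⟨d, hDP.le hd⟩).1 hd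
  · intro hd
    have hdP : d ∈ P := by
      have := P.mul_mem (P.mul_mem (P.inv_mem hgP) (hDP.le hd)) hgP
      simpa [mul_assoc] using this
    exact (hgN ⟨d, hdP⟩).2 hd


/-- Let G be a finite group, p a prime and P a Sylow p-subgroup of G that is not normal in G. Then G has at least p·#P elements of p-power order (the identity included). -/
theorem result {G : Type*} [Group G] [Finite G] (p : ℕ) [Fact p.Prime]
    (P : Sylow p G) (hP : ¬ (P : Subgroup G).Normal) :
    p * Nat.card (P : Subgroup G) ≤ Nat.card {g : G // ∃ k : ℕ, orderOf g = p ^ k} := by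
  classical
  set n := Nat.card (P : Subgroup G) with hn
  have hPne : ∃ Q : Sylow p G, Q ≠ P := by
    by_contra h
    push Not at h
    haveI : Subsingleton (Sylow p G) := ⟨fun a b => (h a).trans (h b).symm⟩
    exact hP (Sylow.normal_of_subsingleton P)
  obtain ⟨Q0, hQ0⟩ := hPne
  haveI : Nonempty {x : Sylow p G × Sylow p G // x.1 ≠ x.2} := ⟨⟨(Q0, P), hQ0⟩⟩
  obtain ⟨⟨⟨A, B⟩, hAB⟩, hmax⟩ := Finite.exists_max
    (fun x : {x : Sylow p G × Sylow p G // x.1 ≠ x.2} => Nat.card ↥((x.1.1 : Subgroup G) ⊓ x.1.2))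
  set D : Subgroup G := (A : Subgroup G) ⊓ B with hD
  have hmax' : ∀ R S : Sylow p G, R ≠ S → Nat.card ↥((R : Subgroup G) ⊓ S) ≤ Nat.card D :=
    fun R S h => hmax ⟨(R, S), h⟩
  have hsame : ∀ R : Sylow p G, Nat.card (R : Subgroup G) = n := fun R =>
    R.card_eq_multiplicity.trans P.card_eq_multiplicity.symm
  have hDA : D < (A : Subgroup G) := by
    refine lt_of_le_of_ne inf_le_left fun h => hAB ?_
    have h1 : (A : Subgroup G) ≤ B := h ▸ inf_le_right
    exact Sylow.ext (Subgroup.eq_of_le_of_card_ge h1 (by rw [hsame, hsame]))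
  have hDB : D < (B : Subgroup G) := by
    refine lt_of_le_of_ne inf_le_right fun h => hAB ?_
    have h1 : (B : Subgroup G) ≤ A := h ▸ inf_le_left
    exact (Sylow.ext (Subgroup.eq_of_le_of_card_ge h1 (by rw [hsame, hsame]))).symm
  set N : Subgroup G := Subgroup.normalizer (D : Set G) with hN
  have hDN : D ≤ N := Subgroup.le_normalizer
  haveI : (D.subgroupOf N).Normal := Subgroup.normal_in_normalizer
  have hDp : IsPGroup p (D.subgroupOf N) :=
    (A.2.to_le inf_le_left).of_equiv (Subgroup.subgroupOfEquivOfLe hDN).symm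
  -- lifts
  have hlift : ∀ S : Sylow p N, ∃ R : Sylow p G, (S : Subgroup N).map N.subtype ≤ R := fun S =>
    (S.2.map N.subtype).exists_le_sylow
  choose R hR using hlift
  have hsub : ∀ (T : Subgroup G), IsPGroup p T → T ≤ N → ∃ S : Sylow p N, T ≤ (S : Subgroup N).map N.subtype := by
    intro T hT hTN
    obtain ⟨S, hS⟩ := (hT.of_equiv (Subgroup.subgroupOfEquivOfLe hTN).symm).exists_le_sylow
    refine ⟨S, ?_⟩
    have := Subgroup.map_mono (f := N.subtype) hS
    rwa [Subgroup.map_subgroupOf_eq_of_le hTN] at this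
  have hinj : Function.Injective R := by
    intro S S' h
    have hle : (S : Subgroup N) ⊔ S' ≤ ((R S : Subgroup G)).comap N.subtype :=
      sup_le (Subgroup.map_le_iff_le_comap.1 (hR S)) (h ▸ Subgroup.map_le_iff_le_comap.1 (hR S'))
    have hp2 : IsPGroup p ↥((S : Subgroup N) ⊔ S') :=
      ((R S).2.comap_of_injective N.subtype N.subtype_injective).to_le hle
    exact Sylow.ext ((S.3 hp2 le_sup_left).symm.trans (S'.3 hp2 le_sup_right))
  have hDle : ∀ S : Sylow p N, D ≤ R S := by
    intro S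
    have h1 : D.subgroupOf N ≤ S := hDp.le_sylow_of_normal S
    refine le_trans ?_ ((Subgroup.map_mono (f := N.subtype) h1).trans (hR S))
    rw [Subgroup.map_subgroupOf_eq_of_le hDN]
  have hcard : p + 1 ≤ Nat.card (Sylow p N) := by
    have hmod := card_sylow_modEq_one p N
    have hne : Nat.card (Sylow p N) ≠ 1 := by
      intro h1
      haveI := (Nat.card_eq_one_iff_unique.1 h1).1
      obtain ⟨a, haA, haD, haN⟩ := normalizer_grows A.2 hDA
      obtain ⟨b, hbB, hbD, hbN⟩ := normalizer_grows B.2 hDB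
      obtain ⟨S, hS⟩ := hsub ((A : Subgroup G) ⊓ N) (A.2.to_le inf_le_left) inf_le_right
      obtain ⟨S', hS'⟩ := hsub ((B : Subgroup G) ⊓ N) (B.2.to_le inf_le_left) inf_le_right
      rw [Subsingleton.elim S' S] at hS'
      have key : ∀ (C : Sylow p G) (c : G), c ∈ (C : Subgroup G) → c ∈ N → c ∉ D →
          D ≤ (C : Subgroup G) → (C : Subgroup G) ⊓ N ≤ (S : Subgroup N).map N.subtype →
          C = R S := by
        intro C c hcC hcN hcD hDC hCS
        by_contra hne
        have hle : D ≤ (C : Subgroup G) ⊓ (R S : Subgroup G) := le_inf hDC (hDle S)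
        have := Subgroup.eq_of_le_of_card_ge hle (hmax' C (R S) hne)
        exact hcD (this ▸ ⟨hcC, hR S (hCS ⟨hcC, hcN⟩)⟩)
      exact hAB ((key A a haA haN haD inf_le_left hS).trans (key B b hbB hbN hbD inf_le_right hS').symm)
    obtain ⟨q, hq⟩ : p ∣ Nat.card (Sylow p N) - 1 :=
      (Nat.modEq_iff_dvd' Nat.card_pos).1 hmod.symm
    have hpos : 0 < Nat.card (Sylow p N) := Nat.card_pos
    have hq0 : q ≠ 0 := by intro h; subst h; omega
    have : p ≤ p * q := Nat.le_mul_of_pos_right p (Nat.pos_of_ne_zero hq0)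
    omega
  haveI : Fintype (Sylow p N) := Fintype.ofFinite _
  haveI : Fintype G := Fintype.ofFinite G
  let F : Sylow p N → Finset G := fun S => Finset.univ.filter (fun g => g ∈ (R S : Subgroup G) ∧ g ∉ D)
  let FD : Finset G := Finset.univ.filter (fun g => g ∈ D)
  let FP : Finset G := Finset.univ.filter (fun g => ∃ k : ℕ, orderOf g = p ^ k)
  have hFD : FD.card = Nat.card D := by
    rw [Nat.card_eq_fintype_card]
    exact (Fintype.card_subtype _).symm
  have hF : ∀ S, (F S).card + Nat.card D = n := by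
    intro S
    rw [← hsame (R S), ← hFD, Nat.card_eq_fintype_card,
      ← Finset.card_union_of_disjoint (Finset.disjoint_left.2 fun g hg hg' =>
        (Finset.mem_filter.1 hg).2.2 (Finset.mem_filter.1 hg').2)]
    refine Eq.trans ?_ (Fintype.card_subtype _).symm
    congr 1
    ext g
    simp only [F, FD, Finset.mem_union, Finset.mem_filter, Finset.mem_univ, true_and]
    exact ⟨fun h => h.elim And.left (fun hg => hDle S hg), fun h => (em (g ∈ D)).symm.imp_left (fun h' => ⟨h, h'⟩)⟩
  have hdisj : ((Finset.univ : Finset (Sylow p N)) : Set (Sylow p N)).PairwiseDisjoint F := by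
    intro S _ S' _ hne
    refine Finset.disjoint_left.2 fun g hg hg' => ?_
    have hle : D ≤ (R S : Subgroup G) ⊓ (R S' : Subgroup G) := le_inf (hDle S) (hDle S')
    have := Subgroup.eq_of_le_of_card_ge hle (hmax' _ _ (fun h => hne (hinj h)))
    exact (Finset.mem_filter.1 hg).2.2 (this ▸ ⟨(Finset.mem_filter.1 hg).2.1, (Finset.mem_filter.1 hg').2.1⟩)
  have hsubset : FD ∪ Finset.univ.biUnion F ⊆ FP := by
    intro g hg
    refine Finset.mem_filter.2 ⟨Finset.mem_univ _, ?_⟩
    rcases Finset.mem_union.1 hg with h | h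
    · exact isPGroup_elem A.2 ((inf_le_left : D ≤ A) (Finset.mem_filter.1 h).2)
    · obtain ⟨S, -, hS⟩ := Finset.mem_biUnion.1 h
      exact isPGroup_elem (R S).2 (Finset.mem_filter.1 hS).2.1
  have hle := Finset.card_le_card hsubset
  rw [Finset.card_union_of_disjoint, Finset.card_biUnion hdisj, hFD] at hle
  · have hsum : ∑ S : Sylow p N, (F S).card = Nat.card (Sylow p N) * (n - Nat.card D) := by
      rw [Finset.sum_congr rfl (fun S _ => (show (F S).card = n - Nat.card D by have := hF S; omega)),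
        Finset.sum_const, Finset.card_univ, smul_eq_mul, ← Nat.card_eq_fintype_card]
    rw [hsum] at hle
    have hFP : FP.card = Nat.card {g : G // ∃ k : ℕ, orderOf g = p ^ k} := by
      rw [Nat.card_eq_fintype_card]; exact (Fintype.card_subtype _).symm
    rw [← hFP]
    refine le_trans ?_ hle
    have hpd : p * Nat.card D ≤ n := by
      obtain ⟨a, ha⟩ := A.2.exists_card_eq
      obtain ⟨d, hd⟩ := (A.2.to_le (inf_le_left : D ≤ A)).exists_card_eq
      have hp1 := (Fact.out : p.Prime).one_lt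
      have hlt : Nat.card D < Nat.card (A : Subgroup G) := by
        by_contra h
        exact hDA.ne (Subgroup.eq_of_le_of_card_ge hDA.le (not_lt.1 h))
      rw [← hsame A, ha, hd, ← pow_succ']
      rw [ha, hd] at hlt
      exact Nat.pow_le_pow_right hp1.le (Nat.succ_le_of_lt ((Nat.pow_lt_pow_iff_right hp1).1 hlt))
    have h2 : (p + 1) * (n - Nat.card D) ≤ Nat.card (Sylow p N) * (n - Nat.card D) :=
      Nat.mul_le_mul_right _ hcard
    have hDn : Nat.card D ≤ n := le_trans (Nat.le_mul_of_pos_left _ (Fact.out : p.Prime).pos) hpd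
    obtain ⟨e, he⟩ := Nat.exists_eq_add_of_le hDn
    rw [he, Nat.add_sub_cancel_left] at h2 ⊢
    rw [he] at hpd
    nlinarith
  · refine Finset.disjoint_left.2 fun g hg hg' => ?_
    obtain ⟨S, -, hS⟩ := Finset.mem_biUnion.1 hg'
    exact (Finset.mem_filter.1 hS).2.2 (Finset.mem_filter.1 hg).2

end Cfsg.Agent.S4092
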