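import Cfsg.Statements.S4093
import Mathlib

set_option autoImplicit false
open scoped BigOperators
open Cfsg

namespace Cfsg.Agent.S4093


theorem exists_conj {G : Type*} [Group G] [Finite G] {p : ℕ} [Fact p.Prime] (P : Sylow p G)
    (N : Subgroup G) [N.Normal] (hNP : N.IsComplement' (P : Subgroup G)) {g : G}
    (hg : ∃ k : ℕ, orderOf g = p ^ k) : ∃ n ∈ N, ∃ x ∈ (P : Subgroup G), n * x * n⁻¹ = g := by
  obtain ⟨k, hk⟩ := hg
  have hz : IsPGroup p (Subgroup.zpowers g) :=
    IsPGroup.of_card (by rw [Nat.card_zpowers, hk])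
  obtain ⟨Q, hQ⟩ := hz.exists_le_sylow
  obtain ⟨c, hc⟩ := MulAction.exists_smul_eq G P Q
  obtain ⟨⟨⟨m, hm⟩, ⟨y, hy⟩⟩, hmy⟩ := hNP.2 c
  have hgQ : g ∈ (Q : Subgroup G) := hQ (Subgroup.mem_zpowers g)
  rw [← hc, Sylow.coe_subgroup_smul, Subgroup.mem_pointwise_smul_iff_inv_smul_mem] at hgQ
  simp only [MulAut.smul_def, MulAut.conj_inv_apply, ← hmy] at hgQ
  refine ⟨m, hm, m⁻¹ * g * m, ?_, by group⟩
  have := (P : Subgroup G).mul_mem ((P : Subgroup G).mul_mem hy hgQ) ((P : Subgroup G).inv_mem hy)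
  simpa [mul_assoc] using this


/-- Let G be a finite group with a normal subgroup N complementing a Sylow p-subgroup P (a normal p-complement). Then the number of elements of G of p-power order equals the sum over x ∈ P of the index of C_N(x) in N. -/
theorem result {G : Type*} [Group G] [Finite G] (p : ℕ) [Fact p.Prime]
    (P : Sylow p G) (N : Subgroup G) [N.Normal] (hNP : N.IsComplement' (P : Subgroup G)) :
    Nat.card {g : G // ∃ k : ℕ, orderOf g = p ^ k} =
      ∑ᶠ x : (P : Subgroup G), Nat.card N / Nat.card ↥(N ⊓ Subgroup.centralizer ({(x : G)} : Set G)) := by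
  classical
  haveI : Fintype G := Fintype.ofFinite G
  let A : MulAction N G := MulAction.compHom G ((ConjAct.toConjAct (G := G)).toMonoidHom.comp N.subtype)
  have hsmul : ∀ (n : N) (x : G), n • x = (n : G) * x * (n : G)⁻¹ := fun n x => rfl
  let φ : (Σ x : (P : Subgroup G), MulAction.orbit N (x : G)) → {g : G // ∃ k : ℕ, orderOf g = p ^ k} :=
    fun z => ⟨(z.2 : G), by
      obtain ⟨n, hn⟩ := z.2.2
      obtain ⟨k, hk⟩ := IsPGroup.iff_orderOf.1 P.2 z.1
      refine ⟨k, ?_⟩
      rw [← hn]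
      show orderOf (n • ((z.1 : (P : Subgroup G)) : G)) = p ^ k
      rw [hsmul, ← hk, ← Subgroup.orderOf_coe]
      exact (MulEquiv.orderOf_eq (MulAut.conj (n : G)) (z.1 : G))⟩
  have hbij : Function.Bijective φ := by
    constructor
    · rintro ⟨x, g, hxg⟩ ⟨y, g', hyg⟩ h
      obtain rfl : g = g' := congrArg Subtype.val h
      obtain ⟨n, hn⟩ := hxg
      obtain ⟨m, hm⟩ := hyg
      simp only [hsmul] at hn hm
      have h1 : (x : G) * (y : G)⁻¹ ∈ N := by
        have e : (x : G) = (n : G)⁻¹ * (m : G) * (y : G) * ((n : G)⁻¹ * (m : G))⁻¹ := by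
          rw [eq_comm, ← hn] at hm
          calc (x : G) = (n : G)⁻¹ * ((n : G) * (x : G) * (n : G)⁻¹) * n := by group
            _ = _ := by rw [hm]; group
        rw [e, show (n : G)⁻¹ * m * y * ((n : G)⁻¹ * m)⁻¹ * (y : G)⁻¹ =
          ((n : G)⁻¹ * m) * ((y : G) * ((n : G)⁻¹ * m)⁻¹ * (y : G)⁻¹) by group]
        exact N.mul_mem (N.mul_mem (N.inv_mem n.2) m.2)
          (Subgroup.Normal.conj_mem inferInstance _ (N.inv_mem (N.mul_mem (N.inv_mem n.2) m.2)) _)
      have h2 : (x : G) * (y : G)⁻¹ ∈ (P : Subgroup G) :=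
        (P : Subgroup G).mul_mem x.2 ((P : Subgroup G).inv_mem y.2)
      obtain rfl : x = y := Subtype.ext (mul_inv_eq_one.1
        (Subgroup.disjoint_def.1 hNP.disjoint h1 h2))
      rfl
    · rintro ⟨g, hg⟩
      obtain ⟨n, hn, x, hx, h⟩ := exists_conj P N hNP hg
      exact ⟨⟨⟨x, hx⟩, g, ⟨⟨n, hn⟩, h⟩⟩, rfl⟩
  haveI : Fintype (P : Subgroup G) := Fintype.ofFinite _
  rw [← Nat.card_congr (Equiv.ofBijective φ hbij), Nat.card_sigma, finsum_eq_sum_of_fintype]
  refine Finset.sum_congr rfl fun x _ => ?_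
  have hstab : MulAction.stabilizer N (x : G) =
      (N ⊓ Subgroup.centralizer ({(x : G)} : Set G)).subgroupOf N := by
    ext n
    rw [MulAction.mem_stabilizer_iff, Subgroup.mem_subgroupOf, Subgroup.mem_inf, hsmul,
      Subgroup.mem_centralizer_singleton_iff, mul_inv_eq_iff_eq_mul]
    exact ⟨fun h => ⟨n.2, h⟩, fun h => h.2⟩
  have hcardst : Nat.card (MulAction.stabilizer N (x : G)) =
      Nat.card ↥(N ⊓ Subgroup.centralizer ({(x : G)} : Set G)) := by
    rw [hstab]
    exact Nat.card_congr (Subgroup.subgroupOfEquivOfLe inf_le_left).toEquiv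
  rw [← hcardst]
  refine (Nat.div_eq_of_eq_mul_left Nat.card_pos ?_).symm
  rw [mul_comm]
  have := MulAction.card_orbit_mul_card_stabilizer_eq_card_group N (x : G)
  simp only [Nat.card_eq_fintype_card] at this ⊢
  rw [mul_comm]; exact this.symm

end Cfsg.Agent.S4093
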