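import Cfsg.Statements.S4100
import Cfsg.Agent.Lib.Solv.AltSec.Red
import Cfsg.Agent.Lib.Solv.AltSec.Two.Main
import Cfsg.Agent.Lib.Solv.AltSec.Five.Main
import Cfsg.Agent.Lib.Solv.AltSec.Seven.Main

set_option autoImplicit false
open Cfsg

namespace Cfsg.Agent.S4100

open Cfsg.Agent.Solv.AltSec

/-- Let G be a finite group and p a prime other than 3 such that the centralizer of every non-central element of p-power order is solvable. Then every alternating group of degree at least 5 involved in G (as a section) has degree at most p + 4, or at most p + 6 = 8 when p = 2. -/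
theorem result {G : Type*} [Group G] [Finite G] (p : ℕ) [Fact p.Prime] (hp3 : p ≠ 3)
    (h : ∀ x : G, x ∉ Subgroup.center G → (∃ k : ℕ, orderOf x = p ^ k) → Group.IsSolvable (Subgroup.centralizer ({x} : Set G)))
    (d : ℕ) (hd : 5 ≤ d) (hinv : Cfsg.Involves (alternatingGroup (Fin d)) G) :
    d ≤ p + 4 + (if p = 2 then 2 else 0) := by
  have hp := (Fact.out : p.Prime)
  by_contra hlt
  rcases eq_or_ne p 2 with rfl | h2
  · rw [if_pos rfl] at hlt
    exact no_section (d₀ := 9) (by omega) (by omega) (by omega) h
      (fun V _ _ _ hV H => Two.key_two (fun u => by rw [← two_zsmul]; exact hV u) H) hinv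
  rw [if_neg h2] at hlt
  rcases eq_or_ne p 5 with rfl | h5
  · exact no_section (d₀ := 10) (by omega) (by omega) (by omega) h
      (fun V _ _ _ hV H => Five.key_five H (fun u => by simpa using hV u)) hinv
  have h7 : 7 ≤ p := by
    by_contra hlt7
    have := hp.two_le
    interval_cases p <;> simp_all (config := { decide := true })
  refine no_section (d₀ := 12) (by omega) (by omega) (by omega) h (fun V _ _ _ hV H => ?_) hinv
  refine Seven.key_seven H fun u hu => ?_
  have hcop : IsCoprime (60 : ℤ) (p : ℤ) := by
    rw [show (60 : ℤ) = ((60 : ℕ) : ℤ) by norm_num, Int.isCoprime_iff_gcd_eq_one]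
    exact (hp.coprime_iff_not_dvd.2 fun hdvd => by
      have : p ≤ 60 := Nat.le_of_dvd (by norm_num) hdvd
      interval_cases p <;> first | omega | (exact absurd hp (by norm_num))).symm
  obtain ⟨s, t, hst⟩ := hcop
  calc u = (1 : ℤ) • u := (one_smul _ _).symm
    _ = 0 := by rw [← hst, add_smul, mul_smul, mul_smul, hu, hV u, smul_zero, smul_zero, add_zero]

end Cfsg.Agent.S4100
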