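import Cfsg.Statements.S4106
import Mathlib

set_option autoImplicit false
open Cfsg

namespace Cfsg.Agent.S4106


universe u

/-- number of classes of `π`-elements -/
abbrev PiClasses (π : Set ℕ) (G : Type u) [Group G] : Type u :=
  {C : ConjClasses G // ∀ q : ℕ, q.Prime → (∃ g : G, ConjClasses.mk g = C ∧ q ∣ orderOf g) → q ∈ π}

theorem count : ∀ (m : ℕ) (π : Set ℕ) {G : Type u} [Group G] [Finite G], 0 < m →
    (∀ q : ℕ, q.Prime → q ∈ π → q ∣ Nat.card G → q ∣ m) →
    (∀ q : ℕ, q.Prime → q ∈ π → (Nat.card G).factorization q ≤ m.factorization q) →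
    Nat.card (PiClasses π G) ≤ m := by
  intro m
  induction m using Nat.strong_induction_on with
  | _ m ih =>
    intro π G _ _ hm0 hsub hfac
    by_cases htriv : ∀ q : ℕ, q.Prime → q ∈ π → ¬ q ∣ Nat.card G
    · have hsing : ∀ C : PiClasses π G, C.1 = ConjClasses.mk 1 := by
        intro C
        obtain ⟨g, hg⟩ := C.1.exists_rep
        have hg : ConjClasses.mk g = C.1 := hg
        rw [← hg]
        congr 1
        by_contra hne
        obtain ⟨q, hq, hqd⟩ := Nat.exists_prime_and_dvd (fun e => hne (orderOf_eq_one_iff.1 e))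
        exact htriv q hq (C.2 q hq ⟨g, hg, hqd⟩) (hqd.trans (orderOf_dvd_natCard g))
      haveI : Subsingleton (PiClasses π G) := ⟨fun a b => Subtype.ext ((hsing a).trans (hsing b).symm)⟩
      exact (Finite.card_le_one_iff_subsingleton.2 inferInstance).trans hm0
    push Not at htriv
    obtain ⟨p, hp, hpπ, hpG⟩ := htriv
    haveI : Fact p.Prime := ⟨hp⟩
    obtain ⟨P⟩ := (inferInstance : Nonempty (Sylow p G))
    set m' := m / p ^ m.factorization p with hm'
    have hpm : p ∣ m := hsub p hp hpπ hpG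
    have hm'lt : m' < m := Nat.div_lt_self hm0
      (Nat.one_lt_pow (hp.factorization_pos_of_dvd hm0.ne' hpm).ne' hp.one_lt)
    have hm'0 : 0 < m' := Nat.ordCompl_pos p hm0.ne'
    let π' : Set ℕ := π \ {p}
    have hih : ∀ x : G, Nat.card (PiClasses π' (Subgroup.centralizer ({x} : Set G))) ≤ m' := by
      intro x
      refine ih m' hm'lt π' hm'0 (fun q hq hqπ hqd => ?_) (fun q hq hqπ => ?_)
      · refine Nat.dvd_ordCompl_of_dvd_not_dvd ?_ (fun e => hqπ.2 ((Nat.prime_dvd_prime_iff_eq hp hq).1 e).symm)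
        exact hsub q hq hqπ.1 (hqd.trans (Subgroup.card_subgroup_dvd_card _))
      · rw [Nat.factorization_ordCompl, Finsupp.erase_ne hqπ.2]
        refine le_trans ?_ (hfac q hq hqπ.1)
        exact (Nat.factorization_le_iff_dvd Nat.card_pos.ne' Nat.card_pos.ne').2
          (Subgroup.card_subgroup_dvd_card _) q
    let f : (Σ x : (P : Subgroup G), PiClasses π' (Subgroup.centralizer ({(x : G)} : Set G))) → ConjClasses G :=
      fun z => ConjClasses.mk ((z.1 : G) * ((Classical.choose z.2.1.exists_rep : Subgroup.centralizer ({(z.1 : G)} : Set G)) : G))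
    have hsurj : ∀ C : PiClasses π G, ∃ z, f z = C.1 := by
      intro C
      obtain ⟨g, hg⟩ := C.1.exists_rep
      have hg : ConjClasses.mk g = C.1 := hg
      set a := p ^ (orderOf g).factorization p with ha
      set b := orderOf g / a with hb
      have hab : a * b = orderOf g := Nat.ordProj_mul_ordCompl_eq_self (orderOf g) p
      have hcop : a.Coprime b := (Nat.coprime_ordCompl hp (orderOf_pos g).ne').pow_left _
      have hgcd := Int.gcd_eq_gcd_ab (a : ℤ) (b : ℤ)
      rw [Int.gcd_natCast_natCast, hcop.gcd_eq_one] at hgcd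
      set x := g ^ ((b : ℤ) * Int.gcdB a b) with hx
      set y := g ^ ((a : ℤ) * Int.gcdA a b) with hy
      have hxy : x * y = g := by
        rw [hx, hy, ← zpow_add, add_comm, ← hgcd]; simp
      have hxa : x ^ a = 1 := by
        rw [hx, ← zpow_natCast (g ^ _) a, ← zpow_mul,
          show (b : ℤ) * Int.gcdB a b * a = ((a * b : ℕ) : ℤ) * Int.gcdB a b by push_cast; ring,
          hab, zpow_mul, zpow_natCast, pow_orderOf_eq_one, one_zpow]
      have hyb : y ^ b = 1 := by
        rw [hy, ← zpow_natCast (g ^ _) b, ← zpow_mul,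
          show (a : ℤ) * Int.gcdA a b * b = ((a * b : ℕ) : ℤ) * Int.gcdA a b by push_cast; ring,
          hab, zpow_mul, zpow_natCast, pow_orderOf_eq_one, one_zpow]
      have hpz : IsPGroup p (Subgroup.zpowers x) := by
        obtain ⟨k, -, hk⟩ := (Nat.dvd_prime_pow hp).1 (orderOf_dvd_of_pow_eq_one hxa)
        exact IsPGroup.of_card (by rw [Nat.card_zpowers, hk])
      obtain ⟨Q, hQ⟩ := hpz.exists_le_sylow
      obtain ⟨c, hc⟩ := MulAction.exists_smul_eq G P Q
      have hxQ : x ∈ (Q : Subgroup G) := hQ (Subgroup.mem_zpowers x)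
      rw [← hc, Sylow.coe_subgroup_smul, Subgroup.mem_pointwise_smul_iff_inv_smul_mem] at hxQ
      simp only [MulAut.smul_def, MulAut.conj_inv_apply] at hxQ
      have hcomm : Commute x y := (Commute.refl g).zpow_zpow _ _
      have hy' : c⁻¹ * y * c ∈ Subgroup.centralizer ({c⁻¹ * x * c} : Set G) := by
        rw [Subgroup.mem_centralizer_singleton_iff]
        calc c⁻¹ * y * c * (c⁻¹ * x * c) = c⁻¹ * (y * x) * c := by group
          _ = c⁻¹ * (x * y) * c := by rw [hcomm.eq]
          _ = c⁻¹ * x * c * (c⁻¹ * y * c) := by group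
      have hord : orderOf (⟨c⁻¹ * y * c, hy'⟩ : Subgroup.centralizer ({c⁻¹ * x * c} : Set G)) ∣ b := by
        rw [Subgroup.orderOf_mk]
        have : orderOf (MulAut.conj c⁻¹ y) = orderOf y := MulEquiv.orderOf_eq _ _
        rw [MulAut.conj_apply, inv_inv] at this
        rw [this]
        exact orderOf_dvd_of_pow_eq_one hyb
      let D : PiClasses π' (Subgroup.centralizer ({c⁻¹ * x * c} : Set G)) :=
        ⟨ConjClasses.mk ⟨c⁻¹ * y * c, hy'⟩, by
          rintro q hq ⟨w, hw, hqw⟩
          obtain ⟨u, hu⟩ := isConj_iff.1 (ConjClasses.mk_eq_mk_iff_isConj.1 hw)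
          have hweq : orderOf w = orderOf (⟨c⁻¹ * y * c, hy'⟩ : Subgroup.centralizer ({c⁻¹ * x * c} : Set G)) := by
            rw [← hu]; exact (MulEquiv.orderOf_eq (MulAut.conj u) w).symm
          have hqb : q ∣ b := hqw.trans (hweq ▸ hord)
          have hqg : q ∣ orderOf g := hqb.trans ⟨a, by rw [← hab, mul_comm]⟩
          refine ⟨C.2 q hq ⟨g, hg, hqg⟩, fun e => ?_⟩
          exact Nat.not_dvd_ordCompl hp (orderOf_pos g).ne' ((show q = p from e).symm.dvd.trans hqb)⟩
      refine ⟨⟨⟨c⁻¹ * x * c, hxQ⟩, D⟩, ?_⟩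
      rw [← hg, ConjClasses.mk_eq_mk_iff_isConj, isConj_iff]
      have hrep : IsConj (Classical.choose D.1.exists_rep) ⟨c⁻¹ * y * c, hy'⟩ :=
        ConjClasses.mk_eq_mk_iff_isConj.1 (Classical.choose_spec D.1.exists_rep)
      obtain ⟨u, hu⟩ := isConj_iff.1 hrep
      refine ⟨c * (u : G), ?_⟩
      have hu' : (u : G) * ((Classical.choose D.1.exists_rep : Subgroup.centralizer ({c⁻¹ * x * c} : Set G)) : G) * (u : G)⁻¹ = c⁻¹ * y * c :=
        congrArg Subtype.val hu
      have hux : (u : G) * (c⁻¹ * x * c) = (c⁻¹ * x * c) * (u : G) :=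
        Subgroup.mem_centralizer_singleton_iff.1 u.2
      rw [← hxy]
      show c * (u : G) * (c⁻¹ * x * c * ((Classical.choose D.1.exists_rep : Subgroup.centralizer ({c⁻¹ * x * c} : Set G)) : G)) * (c * (u : G))⁻¹ = x * y
      generalize hwd : ((Classical.choose D.1.exists_rep : Subgroup.centralizer ({c⁻¹ * x * c} : Set G)) : G) = w at hu' ⊢
      calc c * (u : G) * (c⁻¹ * x * c * w) * (c * (u : G))⁻¹
          = c * ((u : G) * (c⁻¹ * x * c)) * w * (u : G)⁻¹ * c⁻¹ := by group
        _ = c * (c⁻¹ * x * c * (u : G)) * w * (u : G)⁻¹ * c⁻¹ := by rw [hux]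
        _ = x * c * ((u : G) * w * (u : G)⁻¹) * c⁻¹ := by group
        _ = x * y := by rw [hu']; group
    choose z hz using hsurj
    have hzinj : Function.Injective z := fun C C' e => Subtype.ext (by rw [← hz, ← hz, e])
    refine le_trans (Nat.card_le_card_of_injective z hzinj) ?_
    haveI : Fintype (P : Subgroup G) := Fintype.ofFinite _
    rw [Nat.card_sigma]
    refine le_trans (Finset.sum_le_card_nsmul _ _ m' fun x _ => hih x) ?_
    rw [Finset.card_univ, ← Nat.card_eq_fintype_card, smul_eq_mul, P.card_eq_multiplicity]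
    calc p ^ (Nat.card G).factorization p * m' ≤ p ^ m.factorization p * m' :=
          Nat.mul_le_mul_right _ (Nat.pow_le_pow_right hp.pos (hfac p hp hpπ))
      _ = m := Nat.ordProj_mul_ordCompl_eq_self m p


/-- Let G be a finite group, π a set of primes and m the π-part of the order of G. Then the number of conjugacy classes of G consisting of π-elements (elements whose order is divisible only by primes in π) is at most m. -/
theorem result {G : Type*} [Group G] [Finite G]
    (π : Set ℕ) (hπ : ∀ q ∈ π, q.Prime)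
    (m : ℕ) (hm : m ∣ Nat.card G) (hmπ : ∀ q : ℕ, q.Prime → q ∣ m → q ∈ π)
    (hm' : ∀ q ∈ π, ¬ q ∣ Nat.card G / m) :
    Nat.card {C : ConjClasses G // ∀ q : ℕ, q.Prime → (∃ g : G, ConjClasses.mk g = C ∧ q ∣ orderOf g) → q ∈ π} ≤ m := by
  obtain ⟨k, hk⟩ := hm
  have hm0 : 0 < m := Nat.pos_of_ne_zero fun e => Nat.card_pos.ne' (by rw [hk, e, zero_mul])
  have hk0 : 0 < k := Nat.pos_of_ne_zero fun e => Nat.card_pos.ne' (by rw [hk, e, mul_zero])
  have hdiv : Nat.card G / m = k := by rw [hk, Nat.mul_div_cancel_left _ hm0]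
  rw [hdiv] at hm'
  refine count m π hm0 (fun q hq hqπ hqd => ?_) (fun q hq hqπ => ?_)
  · rw [hk] at hqd
    exact (hq.dvd_mul.1 hqd).resolve_right (hm' q hqπ)
  · rw [hk, Nat.factorization_mul hm0.ne' hk0.ne', Finsupp.add_apply,
      Nat.factorization_eq_zero_of_not_dvd (hm' q hqπ), add_zero]

end Cfsg.Agent.S4106
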