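import Cfsg.Statements.S4107
import Mathlib
import Cfsg.Agent.Lib.Solv.Cores
import Cfsg.Agent.Lib.Fusion.Cores

set_option autoImplicit false
open Cfsg

namespace Cfsg.Agent.S4107


open Cfsg.Agent.Fusion


/-- Let G be a finite group and N a proper non-trivial normal subgroup such that for every x outside N all elements of the coset xN have the same order as x. Then N ≤ F(G) or F(G) ≤ N, where F(G) is the Fitting subgroup; and if N is properly contained in F(G) then F(G) has prime-power order. -/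
theorem result {G : Type*} [Group G] [Finite G] (N : Subgroup G) [N.Normal] (hN1 : N ≠ ⊥) (hN2 : N ≠ ⊤)
    (heq : ∀ x : G, x ∉ N → ∀ n ∈ N, orderOf (x * n) = orderOf x) :
    (N ≤ Cfsg.fittingSubgroup G ∨ Cfsg.fittingSubgroup G ≤ N) ∧
    (N < Cfsg.fittingSubgroup G → IsPrimePow (Nat.card (Cfsg.fittingSubgroup G))) := by
  classical
  have key : ∀ q : ℕ, q.Prime → ¬ Cfsg.pCore q G ≤ N → N ≤ Cfsg.pCore q G := by
    intro q hq hnle
    haveI : Fact q.Prime := ⟨hq⟩
    obtain ⟨x, hx, hxN⟩ := SetLike.not_le_iff_exists.1 hnle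
    set R := Cfsg.pCore q G with hR
    haveI : R.Normal := by rw [hR]; unfold Cfsg.pCore; exact Subgroup.sSup_normal _ fun M hM => hM.1
    have hp : IsPGroup q (N.map (QuotientGroup.mk' R)) := by
      rw [IsPGroup.iff_orderOf]
      rintro ⟨_, n, hn, rfl⟩
      obtain ⟨k, hk⟩ := IsPGroup.iff_orderOf.1 (isPGroup_pCore q G) ⟨x, hx⟩
      rw [Subgroup.orderOf_mk] at hk
      have h1 := heq x hxN n hn
      have h2 : QuotientGroup.mk' R (x * n) = QuotientGroup.mk' R n := by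
        rw [map_mul, show QuotientGroup.mk' R x = 1 from (QuotientGroup.eq_one_iff x).2 hx, one_mul]
      have h3 : orderOf (QuotientGroup.mk' R n) ∣ q ^ k := by
        rw [← h2, ← hk, ← h1]; exact orderOf_map_dvd _ _
      obtain ⟨j, -, hj⟩ := (Nat.dvd_prime_pow hq).1 h3
      exact ⟨j, (Subgroup.orderOf_coe _).symm.trans hj⟩
    haveI : (N.map (QuotientGroup.mk' R)).Normal :=
      Subgroup.Normal.map inferInstance _ (QuotientGroup.mk'_surjective R)
    have h4 : N.map (QuotientGroup.mk' R) ≤ Cfsg.pCore q (G ⧸ R) := le_pCore hp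
    rw [pCore_quotient_eq_bot] at h4
    rw [← QuotientGroup.ker_mk' R, ← Subgroup.map_eq_bot_iff, eq_bot_iff]
    exact h4
  have hF : ∀ q : ℕ, q.Prime → Cfsg.pCore q G ≤ Cfsg.fittingSubgroup G := by
    intro q hq
    rw [Cfsg.Agent.Solv.fitting_eq_iSup_pCore]
    exact le_iSup (fun q : Nat.Primes => Cfsg.pCore (q : ℕ) G) ⟨q, hq⟩
  by_cases hFN : Cfsg.fittingSubgroup G ≤ N
  · exact ⟨Or.inr hFN, fun h => absurd hFN h.not_ge⟩
  obtain ⟨p, hp, hpN⟩ : ∃ p : ℕ, p.Prime ∧ ¬ Cfsg.pCore p G ≤ N := by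
    by_contra hcon
    push Not at hcon
    apply hFN
    rw [Cfsg.Agent.Solv.fitting_eq_iSup_pCore]
    exact iSup_le fun q => hcon q q.2
  have hNp := key p hp hpN
  refine ⟨Or.inl (hNp.trans (hF p hp)), fun _ => ?_⟩
  haveI : Fact p.Prime := ⟨hp⟩
  have hFp : Cfsg.fittingSubgroup G = Cfsg.pCore p G := by
    refine le_antisymm ?_ (hF p hp)
    rw [Cfsg.Agent.Solv.fitting_eq_iSup_pCore]
    refine iSup_le fun q => ?_
    by_cases hqp : (q : ℕ) = p
    · rw [hqp]
    haveI : Fact (q : ℕ).Prime := ⟨q.2⟩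
    have hd := IsPGroup.disjoint_of_ne (q : ℕ) p hqp _ _ (isPGroup_pCore (q : ℕ) G) (isPGroup_pCore p G)
    by_cases hqN : Cfsg.pCore (q : ℕ) G ≤ N
    · exact hqN.trans hNp
    · exact absurd (eq_bot_iff.2 (hd (key q q.2 hqN) hNp)) hN1
  rw [hFp]
  obtain ⟨k, hk⟩ := IsPGroup.iff_card.1 (isPGroup_pCore p G)
  rw [hk]
  refine hp.isPrimePow.pow ?_
  rintro rfl
  rw [pow_zero] at hk
  exact hpN ((Subgroup.card_eq_one.1 hk) ▸ bot_le)

end Cfsg.Agent.S4107
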