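import Cfsg.Statements.S4108
import Mathlib
import Cfsg.Agent.Lib.Solv.FrobeniusGK

set_option autoImplicit false
open Cfsg

namespace Cfsg.Agent.S4108

/-- Let G be a finite group, p a prime and N a proper non-trivial normal p-subgroup such that for every x outside N all elements of the coset xN have the same order as x. Then every non-trivial subgroup H of G of order prime to p acts fixed-point-freely on N: NH is a Frobenius group with complement H and kernel N. -/
theorem result {G : Type*} [Group G] [Finite G] (N : Subgroup G) [N.Normal] (hN1 : N ≠ ⊥) (hN2 : N ≠ ⊤)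
    (heq : ∀ x : G, x ∉ N → ∀ n ∈ N, orderOf (x * n) = orderOf x)
    (p : ℕ) [Fact p.Prime] (hNp : IsPGroup p N) :
    ∀ H : Subgroup G, H ≠ ⊥ → (Nat.card H).Coprime p →
      Cfsg.IsFrobeniusComplement (H.subgroupOf (N ⊔ H)) ∧ Cfsg.frobeniusKernel (H.subgroupOf (N ⊔ H)) = (N.subgroupOf (N ⊔ H) : Set ↥(N ⊔ H)) := by
  intro H hH hcop
  have hdis : N ⊓ H = ⊥ := by
    obtain ⟨k, hk⟩ := hNp.exists_card_eq
    refine Subgroup.inf_eq_bot_of_coprime ?_
    rw [hk]
    exact hcop.symm.pow_left k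
  have hfix : ∀ h ∈ H, h ≠ 1 → ∀ n ∈ N, n * h = h * n → n = 1 := by
    intro h hh h1 n hn hcomm
    have hhN : h ∉ N := fun hc => h1 (Subgroup.mem_bot.1 (hdis ▸ ⟨hc, hh⟩))
    have hco : (orderOf h).Coprime (orderOf n) := by
      have a1 : orderOf h ∣ Nat.card H := by
        have := orderOf_dvd_natCard (⟨h, hh⟩ : H); rwa [Subgroup.orderOf_mk] at this
      obtain ⟨k, hk⟩ := IsPGroup.iff_orderOf.1 hNp ⟨n, hn⟩
      rw [Subgroup.orderOf_mk] at hk
      rw [hk]
      exact (hcop.coprime_dvd_left a1).pow_right k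
    have := heq h hhN n hn
    rw [(show Commute h n from hcomm.symm).orderOf_mul_eq_mul_orderOf_of_coprime hco] at this
    rw [← orderOf_eq_one_iff]
    exact (mul_eq_left₀ (orderOf_pos h).ne').1 this
  set M : Subgroup G := N ⊔ H with hM
  haveI : (N.subgroupOf M).Normal := inferInstance
  have hb1 : N.subgroupOf M ≠ ⊥ := by
    rw [Ne, Subgroup.subgroupOf_eq_bot, disjoint_iff, inf_eq_left.2 le_sup_left]
    exact hN1
  have hb2 : H.subgroupOf M ≠ ⊥ := by
    rw [Ne, Subgroup.subgroupOf_eq_bot, disjoint_iff, inf_eq_left.2 le_sup_right]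
    exact hH
  have hc : Subgroup.IsComplement' (N.subgroupOf M) (H.subgroupOf M) := by
    refine Subgroup.isComplement'_of_disjoint_and_mul_eq_univ ?_ ?_
    · rw [disjoint_iff]
      refine le_bot_iff.1 fun g hg => ?_
      exact Subgroup.mem_bot.2 (Subtype.ext (Subgroup.mem_bot.1 (hdis ▸ (⟨hg.1, hg.2⟩ : (g : G) ∈ N ⊓ H))))
    · rw [← Subgroup.normal_mul, ← Subgroup.subgroupOf_sup le_sup_left le_sup_right,
        Subgroup.subgroupOf_self, Subgroup.coe_top]
  refine Cfsg.Agent.Solv.frob_of_fpf_complement hc hb1 hb2 fun h hh h1 => ?_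
  refine le_bot_iff.1 fun n hn => Subgroup.mem_bot.2 (Subtype.ext ?_)
  exact hfix (h : G) hh (fun e => h1 (Subtype.ext e)) (n : G) hn.1
    (congrArg Subtype.val (Subgroup.mem_centralizer_singleton_iff.1 hn.2))

end Cfsg.Agent.S4108
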