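import Cfsg.Statements.S4112
import Mathlib
import Cfsg.Agent.Lib.Fusion.PGroupAux

set_option autoImplicit false
open Cfsg

namespace Cfsg.Agent.S4112


theorem exists_min_supplement {G : Type*} [Group G] [Finite G] (N : Subgroup G) :
    ∃ H : Subgroup G, H ⊔ N = ⊤ ∧ ∀ K : Subgroup G, K ⊔ N = ⊤ → K ≤ H → K = H := by
  obtain ⟨H, -, hH⟩ := exists_minimal_le_of_wellFoundedLT (fun K : Subgroup G => K ⊔ N = ⊤) ⊤ (by simp)
  exact ⟨H, hH.1, fun K hK hKH => le_antisymm hKH (hH.2 hK hKH)⟩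

theorem le_of_not_dvd_index {G : Type*} [Group G] [Finite G] {r : ℕ} [Fact r.Prime] (N : Subgroup G)
    [N.Normal] (h : ¬ r ∣ N.index) {g : G} (hg : ∃ k : ℕ, orderOf g = r ^ k) : g ∈ N := by
  obtain ⟨k, hk⟩ := hg
  rw [← QuotientGroup.eq_one_iff, ← orderOf_eq_one_iff]
  have h1 : orderOf (QuotientGroup.mk' N g) ∣ r ^ k := hk ▸ orderOf_map_dvd _ g
  have h2 : orderOf (QuotientGroup.mk' N g) ∣ N.index := by
    rw [Subgroup.index_eq_card]; exact orderOf_dvd_natCard _
  obtain ⟨j, -, hj⟩ := (Nat.dvd_prime_pow (Fact.out : r.Prime)).1 h1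
  change orderOf (QuotientGroup.mk' N g) = 1
  rw [hj] at h2 ⊢
  cases j with
  | zero => rfl
  | succ j => exact absurd (dvd_trans (dvd_pow_self r (Nat.succ_ne_zero j)) h2) h

theorem fpf_imp_coprime {G : Type*} [Group G] [Finite G] (N M : Subgroup G) [N.Normal] [M.Normal]
    (h : ∀ x ∈ M, x ≠ 1 → Subgroup.centralizer ({x} : Set G) ≤ N) :
    N.index.Coprime (Nat.card M) := by
  refine Nat.coprime_of_dvd fun r hr hri hrM => ?_
  haveI : Fact r.Prime := ⟨hr⟩
  obtain ⟨R⟩ := (inferInstance : Nonempty (Sylow r G))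
  haveI : (M.subgroupOf R).Normal := inferInstance
  have hne : M.subgroupOf (R : Subgroup G) ≠ ⊥ := by
    obtain ⟨g, hg⟩ := exists_prime_orderOf_dvd_card' (G := M) r hrM
    obtain ⟨S, hS⟩ := (IsPGroup.of_card (p := r) (n := 1) (G := Subgroup.zpowers (g : G))
      (by rw [Nat.card_zpowers, Subgroup.orderOf_coe, hg, pow_one])).exists_le_sylow
    obtain ⟨c, hc⟩ := MulAction.exists_smul_eq G R S
    have hgS : (g : G) ∈ (S : Subgroup G) := hS (Subgroup.mem_zpowers _)
    rw [← hc, Sylow.coe_subgroup_smul, Subgroup.mem_pointwise_smul_iff_inv_smul_mem] at hgS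
    simp only [MulAut.smul_def, MulAut.conj_inv_apply] at hgS
    intro hbot
    have hm : (⟨c⁻¹ * g * c, hgS⟩ : (R : Subgroup G)) ∈ M.subgroupOf R := by
      have := Subgroup.Normal.conj_mem (inferInstance : M.Normal) g g.2 c⁻¹
      simpa [Subgroup.mem_subgroupOf] using this
    rw [hbot, Subgroup.mem_bot, Subtype.ext_iff] at hm
    have hm' : c⁻¹ * (g : G) * c = 1 := hm
    have hg1 : (g : G) = 1 := by
      have := congrArg (fun t => c * t * c⁻¹) hm'
      simpa [mul_assoc] using this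
    rw [show g = 1 from Subtype.ext hg1, orderOf_one] at hg
    exact hr.ne_one hg.symm
  obtain ⟨⟨x, hxR⟩, hxM, hx1, hxZ⟩ :=
    Cfsg.Agent.Fusion.exists_central_of_normal R.2 (M.subgroupOf (R : Subgroup G)) hne
  have hRN : (R : Subgroup G) ≤ N := fun y hy => h x hxM (fun e => hx1 (Subtype.ext e))
    (Subgroup.mem_centralizer_singleton_iff.2 (congrArg Subtype.val (Subgroup.mem_center_iff.1 hxZ ⟨y, hy⟩)))
  exact R.not_dvd_index (hri.trans (Subgroup.index_dvd_of_le hRN))


/-- Let G be a finite group and M ≤ N non-trivial proper normal subgroups such that for every g outside N the conjugacy class of g is a union of cosets of M (equivalently gm is conjugate to g for every m ∈ M). Then (1) and (2) below are equivalent, and they imply (3): (1) every g outside N acts fixed-point-freely on M, that is C_G(x) ≤ N for every x ∈ M, x ≠ 1; (2) the index of N in G is coprime to the order of M; (3) there is a subgroup H of G with HN = G and H ∩ M = 1. -/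
theorem result {G : Type*} [Group G] [Finite G] (N M : Subgroup G) [N.Normal] [M.Normal] (hMN : M ≤ N) (hM1 : M ≠ ⊥) (hN2 : N ≠ ⊤)
    (hcam : ∀ g : G, g ∉ N → ∀ m ∈ M, ∃ x : G, x * g * x⁻¹ = g * m) :
    ((∀ x ∈ M, x ≠ 1 → Subgroup.centralizer ({x} : Set G) ≤ N) ↔ N.index.Coprime (Nat.card M)) ∧
    ((∀ x ∈ M, x ≠ 1 → Subgroup.centralizer ({x} : Set G) ≤ N) → ∃ H : Subgroup G, H ⊔ N = ⊤ ∧ H ⊓ M = ⊥) := by
  have h12 : (∀ x ∈ M, x ≠ 1 → Subgroup.centralizer ({x} : Set G) ≤ N) ↔ N.index.Coprime (Nat.card M) := by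
    refine ⟨fpf_imp_coprime N M, fun hco x hx hx1 g hg => ?_⟩
    by_contra hgN
    have hq1 : orderOf (QuotientGroup.mk' N g) ≠ 1 := fun e =>
      hgN ((QuotientGroup.eq_one_iff g).1 (orderOf_eq_one_iff.1 e))
    obtain ⟨r, hr, hrd⟩ := Nat.exists_prime_and_dvd hq1
    haveI : Fact r.Prime := ⟨hr⟩
    obtain ⟨v, m, hrm, hvm⟩ := Nat.exists_eq_pow_mul_and_not_dvd (orderOf_pos g).ne' r hr.ne_one
    have hm0 : m ≠ 0 := fun e => hrm (e ▸ dvd_zero r)
    have hord : orderOf (g ^ m) = r ^ v := by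
      rw [orderOf_pow_of_dvd hm0 ⟨r ^ v, by rw [hvm, mul_comm]⟩, hvm,
        Nat.mul_div_cancel _ (Nat.pos_of_ne_zero hm0)]
    have hgmN : g ^ m ∉ N := by
      intro hin
      have : orderOf (QuotientGroup.mk' N g) ∣ m := by
        rw [orderOf_dvd_iff_pow_eq_one, ← map_pow]
        exact (QuotientGroup.eq_one_iff _).2 hin
      exact hrm (hrd.trans this)
    have hcomm : Commute (g ^ m) x :=
      (show Commute g x from Subgroup.mem_centralizer_singleton_iff.1 hg).pow_left m
    have hrM : ¬ r ∣ Nat.card M := by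
      intro hc
      have : r ∣ N.index := hrd.trans (by rw [Subgroup.index_eq_card]; exact orderOf_dvd_natCard _)
      exact hr.ne_one (Nat.eq_one_of_dvd_coprimes hco this hc)
    have hox : orderOf x ∣ Nat.card M := by
      have := orderOf_dvd_natCard (⟨x, hx⟩ : M); rwa [Subgroup.orderOf_mk] at this
    have hco2 : (orderOf (g ^ m)).Coprime (orderOf x) := by
      rw [hord]
      exact (((Nat.Prime.coprime_iff_not_dvd hr).2 hrM).coprime_dvd_right hox).pow_left v
    obtain ⟨c, hc⟩ := hcam _ hgmN x hx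
    have he : orderOf (MulAut.conj c (g ^ m)) = orderOf (g ^ m) := MulEquiv.orderOf_eq _ _
    rw [MulAut.conj_apply, hc, hcomm.orderOf_mul_eq_mul_orderOf_of_coprime hco2] at he
    exact hx1 (orderOf_eq_one_iff.1 ((mul_eq_left₀ (orderOf_pos _).ne').1 he))
  refine ⟨h12, fun h1 => ?_⟩
  have hco := h12.1 h1
  obtain ⟨H, hH, hmin⟩ := exists_min_supplement N
  refine ⟨H, hH, ?_⟩
  by_contra hne
  obtain ⟨r, hr, hrd⟩ := Nat.exists_prime_and_dvd
    (fun e => hne (Subgroup.card_eq_one.1 e) : Nat.card ↥(H ⊓ M) ≠ 1)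
  haveI : Fact r.Prime := ⟨hr⟩
  have hrN : ¬ r ∣ N.index := fun e =>
    hr.ne_one (Nat.eq_one_of_dvd_coprimes hco e (hrd.trans (Subgroup.card_dvd_of_le inf_le_right)))
  obtain ⟨R⟩ := (inferInstance : Nonempty (Sylow r H))
  have hRN : (R : Subgroup H) ≤ N.subgroupOf H := by
    intro g hg
    obtain ⟨k, hk⟩ := IsPGroup.iff_orderOf.1 R.2 ⟨g, hg⟩
    rw [Subgroup.orderOf_mk] at hk
    exact le_of_not_dvd_index N hrN ⟨k, (Subgroup.orderOf_coe g).trans hk⟩
  have hsup : ∀ K : Subgroup H, K ⊔ N.subgroupOf H = ⊤ → K = ⊤ := by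
    intro K hK
    have h1 : H ≤ K.map H.subtype ⊔ N := by
      have := congrArg (Subgroup.map H.subtype) hK
      rw [Subgroup.map_sup, ← MonoidHom.range_eq_map, Subgroup.range_subtype,
        Subgroup.subgroupOf_map_subtype] at this
      exact this.ge.trans (sup_le_sup_left inf_le_left _)
    have h2 : K.map H.subtype ⊔ N = ⊤ := top_le_iff.1 (hH ▸ sup_le h1 le_sup_right)
    refine Subgroup.map_injective H.subtype_injective ?_
    rw [hmin _ h2 (Subgroup.map_subtype_le K), ← MonoidHom.range_eq_map, Subgroup.range_subtype]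
  have hnorm : Subgroup.normalizer ((R : Subgroup H) : Set H) = ⊤ := by
    refine hsup _ ?_
    have := Sylow.normalizer_sup_eq_top' R hRN
    exact this
  haveI : (R : Subgroup H).Normal := Subgroup.normalizer_eq_top_iff.1 hnorm
  obtain ⟨K, hK⟩ := Subgroup.exists_right_complement'_of_coprime (N := (R : Subgroup H))
    (R.card_coprime_index)
  have hKtop : K = ⊤ := hsup K (top_le_iff.1 (hK.sup_eq_top ▸ sup_le (hRN.trans le_sup_right) le_sup_left))
  have hRbot : (R : Subgroup H) = ⊥ := by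
    have := hK.disjoint
    rw [hKtop] at this
    simpa using this
  have hrH : r ∣ Nat.card H := hrd.trans (Subgroup.card_dvd_of_le inf_le_left)
  exact R.ne_bot_of_dvd_card hrH hRbot

end Cfsg.Agent.S4112
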