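import Cfsg.Statements.S4113
import Mathlib

set_option autoImplicit false
open Cfsg

namespace Cfsg.Agent.S4113

/-- Let G be a finite group, M ≤ N non-trivial proper normal subgroups, and H a subgroup with HM = G and H ∩ M = 1. Then every element of G outside N acts fixed-point-freely on M (C_G(x) ≤ N for every x ∈ M, x ≠ 1) if and only if H ∩ gHg⁻¹ ≤ H ∩ N for every g outside H, with H proper and non-trivial and H ∩ N proper in H. -/
theorem result {G : Type*} [Group G] [Finite G] (N M : Subgroup G) [N.Normal] [M.Normal] (hMN : M ≤ N) (hM1 : M ≠ ⊥) (hN2 : N ≠ ⊤)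
    (H : Subgroup G) (hHM : H ⊔ M = ⊤) (hHM' : H ⊓ M = ⊥) :
    (∀ x ∈ M, x ≠ 1 → Subgroup.centralizer ({x} : Set G) ≤ N) ↔
      (H ≠ ⊥ ∧ H ≠ ⊤ ∧ H ⊓ N < H ∧ ∀ g : G, g ∉ H → H ⊓ H.map (MulAut.conj g).toMonoidHom ≤ N) := by
  classical
  have hHM2 : ∀ g : G, ∃ h ∈ H, ∃ m ∈ M, h * m = g := by
    intro g
    have : g ∈ ((H ⊔ M : Subgroup G) : Set G) := by rw [hHM]; trivial
    rw [Subgroup.mul_normal] at this
    obtain ⟨h, hh, m, hm, e⟩ := Set.mem_mul.1 this
    exact ⟨h, hh, m, hm, e⟩
  constructor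
  · intro hfpf
    refine ⟨?_, ?_, ?_, fun g hg => ?_⟩
    · rintro rfl
      rw [bot_sup_eq] at hHM
      exact hN2 (top_le_iff.1 (hHM ▸ hMN))
    · rintro rfl
      rw [top_inf_eq] at hHM'
      exact hM1 hHM'
    · refine lt_of_le_of_ne inf_le_left fun e => hN2 ?_
      rw [eq_top_iff, ← hHM]
      exact sup_le (e ▸ inf_le_right) hMN
    · rintro a ⟨haH, hag⟩
      obtain ⟨b, hb, hba⟩ := Subgroup.mem_map.1 hag
      obtain ⟨h, hh, m, hm, rfl⟩ := hHM2 g
      by_contra haN
      have hm1 : m ≠ 1 := fun e => hg (by rw [e, mul_one]; exact hh)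
      have hba' : h * m * b * (h * m)⁻¹ = a := by simpa [MulAut.conj_apply, mul_assoc] using hba
      have h1 : m * b * m⁻¹ * b⁻¹ ∈ H ⊓ M := by
        refine ⟨?_, ?_⟩
        · have : m * b * m⁻¹ = h⁻¹ * a * h := by rw [← hba']; group
          rw [this]
          exact H.mul_mem (H.mul_mem (H.mul_mem (H.inv_mem hh) haH) hh) (H.inv_mem hb)
        · rw [show m * b * m⁻¹ * b⁻¹ = m * (b * m⁻¹ * b⁻¹) by group]
          exact M.mul_mem hm (Subgroup.Normal.conj_mem inferInstance _ (M.inv_mem hm) b)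
      rw [hHM', Subgroup.mem_bot, mul_inv_eq_one, mul_inv_eq_iff_eq_mul] at h1
      have hbN : b ∈ N := hfpf m hm hm1 (Subgroup.mem_centralizer_singleton_iff.2 h1.symm)
      apply haN
      rw [← hba']
      exact Subgroup.Normal.conj_mem inferInstance b hbN _
  · rintro ⟨-, -, -, hTI⟩
    -- elements of H outside N act fixed point freely
    have hH : ∀ b ∈ H, b ∉ N → ∀ x ∈ M, x ≠ 1 → b * x ≠ x * b := by
      intro b hb hbN x hx hx1 hc
      refine hbN (hTI x (fun hxH => hx1 (Subgroup.mem_bot.1 (hHM' ▸ ⟨hxH, hx⟩))) ⟨hb, ?_⟩)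
      refine Subgroup.mem_map.2 ⟨b, hb, ?_⟩
      show x * b * x⁻¹ = b
      rw [← hc, mul_inv_cancel_right]
    intro x hx hx1 g hg
    by_contra hgN
    have hq1 : orderOf (QuotientGroup.mk' N g) ≠ 1 := fun e =>
      hgN ((QuotientGroup.eq_one_iff g).1 (orderOf_eq_one_iff.1 e))
    obtain ⟨r, hr, hrd⟩ := Nat.exists_prime_and_dvd hq1
    haveI : Fact r.Prime := ⟨hr⟩
    obtain ⟨v, k, hrk, hvk⟩ := Nat.exists_eq_pow_mul_and_not_dvd (orderOf_pos g).ne' r hr.ne_one
    have hk0 : k ≠ 0 := fun e => hrk (e ▸ dvd_zero r)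
    have hord : orderOf (g ^ k) = r ^ v := by
      rw [orderOf_pow_of_dvd hk0 ⟨r ^ v, by rw [hvk, mul_comm]⟩, hvk,
        Nat.mul_div_cancel _ (Nat.pos_of_ne_zero hk0)]
    have hgkN : g ^ k ∉ N := by
      intro hin
      have : orderOf (QuotientGroup.mk' N g) ∣ k := by
        rw [orderOf_dvd_iff_pow_eq_one, ← map_pow]
        exact (QuotientGroup.eq_one_iff _).2 hin
      exact hrk (hrd.trans this)
    have hcomm : Commute (g ^ k) x :=
      (show Commute g x from Subgroup.mem_centralizer_singleton_iff.1 hg).pow_left k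
    have hpz : IsPGroup r (Subgroup.zpowers (g ^ k)) := IsPGroup.of_card (by rw [Nat.card_zpowers, hord])
    by_cases hrM : r ∣ Nat.card M
    · -- an element of H outside N of r-power order fixes a non-trivial element of M
      obtain ⟨h, hh, m, hm, hhm⟩ := hHM2 (g ^ k)
      have hhN : h ∉ N := fun e => hgkN (hhm ▸ N.mul_mem e (hMN hm))
      have hhr : h ^ r ^ v = 1 := by
        refine Subgroup.mem_bot.1 (hHM' ▸ ⟨H.pow_mem hh _, (?_ : h ^ r ^ v ∈ M)⟩)
        rw [← QuotientGroup.eq_one_iff (N := M), QuotientGroup.mk_pow,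
          show (QuotientGroup.mk h : G ⧸ M) = QuotientGroup.mk (g ^ k) from
            QuotientGroup.eq.2 (by rw [← hhm]; simpa using hm), ← QuotientGroup.mk_pow, ← hord,
          pow_orderOf_eq_one]
        rfl
      have hph : IsPGroup r (Subgroup.zpowers h) := by
        obtain ⟨j, -, hj⟩ := (Nat.dvd_prime_pow hr).1 (orderOf_dvd_of_pow_eq_one hhr)
        exact IsPGroup.of_card (by rw [Nat.card_zpowers, hj])
      letI : MulAction (Subgroup.zpowers h) M :=
        MulAction.compHom M ((MulAut.conjNormal (H := M)).comp (Subgroup.zpowers h).subtype)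
      have h1fix : (1 : M) ∈ MulAction.fixedPoints (Subgroup.zpowers h) M := fun c =>
        map_one (((MulAut.conjNormal (H := M)).comp (Subgroup.zpowers h).subtype) c)
      obtain ⟨⟨y, hy⟩, hyfix, hy1⟩ := hph.exists_fixed_point_of_prime_dvd_card_of_fixed_point M hrM h1fix
      have hfix' : h * y * h⁻¹ = y := congrArg Subtype.val (hyfix ⟨h, Subgroup.mem_zpowers h⟩)
      exact hH h hh hhN y hy (fun e => hy1 (Subtype.ext e.symm)) (mul_inv_eq_iff_eq_mul.1 hfix')
    · -- conjugate into H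
      obtain ⟨Q, hQ⟩ := hpz.exists_le_sylow
      obtain ⟨R⟩ := (inferInstance : Nonempty (Sylow r H))
      have hc : Subgroup.IsComplement' H M := by
        refine Subgroup.isComplement'_of_disjoint_and_mul_eq_univ (disjoint_iff.2 hHM') ?_
        rw [← Subgroup.mul_normal, hHM, Subgroup.coe_top]
      have hcard : Nat.card ((R : Subgroup H).map H.subtype) = r ^ (Nat.card G).factorization r := by
        rw [Subgroup.card_map_of_injective H.subtype_injective, R.card_eq_multiplicity, ← hc.card_mul_card,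
          Nat.factorization_mul Nat.card_pos.ne' Nat.card_pos.ne', Finsupp.add_apply,
          Nat.factorization_eq_zero_of_not_dvd hrM, add_zero]
      obtain ⟨c, hc'⟩ := MulAction.exists_smul_eq G (Sylow.ofCard _ hcard) Q
      have hgQ : g ^ k ∈ (Q : Subgroup G) := hQ (Subgroup.mem_zpowers _)
      rw [← hc', Sylow.coe_subgroup_smul, Subgroup.mem_pointwise_smul_iff_inv_smul_mem] at hgQ
      simp only [MulAut.smul_def, MulAut.conj_inv_apply] at hgQ
      have hbH : c⁻¹ * g ^ k * c ∈ H := Subgroup.map_subtype_le _ hgQ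
      refine hH _ hbH ?_ (c⁻¹ * x * c) ?_ ?_ ?_
      · intro e
        exact hgkN (by simpa [mul_assoc] using Subgroup.Normal.conj_mem (inferInstance : N.Normal) _ e c)
      · simpa [mul_assoc] using Subgroup.Normal.conj_mem (inferInstance : M.Normal) _ hx c⁻¹
      · intro e
        apply hx1
        have := congrArg (fun t => c * t * c⁻¹) e
        simpa [mul_assoc] using this
      · calc c⁻¹ * g ^ k * c * (c⁻¹ * x * c) = c⁻¹ * (g ^ k * x) * c := by group
          _ = c⁻¹ * (x * g ^ k) * c := by rw [hcomm.eq]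
          _ = c⁻¹ * x * c * (c⁻¹ * g ^ k * c) := by group

end Cfsg.Agent.S4113
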