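import Cfsg.Statements.S4115
import Cfsg.Agent.Lib.Perm.TINormalComplement
import Cfsg.Agent.Lib.Solv.Coprime
import Cfsg.Agent.Lib.Solv.FrobeniusGK
import Cfsg.Agent.Lib.Solv.UniqueSub
import Cfsg.Agent.Lib.Fusion.KInf
import Mathlib.GroupTheory.SpecificGroups.ZGroup

set_option autoImplicit false
set_option linter.style.haveILetI false
open Cfsg
open scoped Pointwise commutatorElement

namespace Cfsg.Agent.S4115

universe u

section Aux

variable {G : Type u} [Group G] [Finite G] {H : Subgroup G}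

theorem hall (hTI : Cfsg.IsTISubset (H : Set G))
    (hHall : (Nat.card H).Coprime (H.subgroupOf (Subgroup.normalizer (H : Set G))).index) :
    (Nat.card H).Coprime H.index := by
  refine Nat.coprime_of_dvd fun p hp hpH hpi => ?_
  haveI := Fact.mk hp
  obtain ⟨P⟩ := (inferInstance : Nonempty (Sylow p ↥H))
  set P' := (P : Subgroup ↥H).map H.subtype with hP'
  have hP'H : P' ≤ H := Subgroup.map_subtype_le _
  have hPp : IsPGroup p P' := P.isPGroup'.map _
  obtain ⟨S, hS⟩ := hPp.exists_le_sylow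
  have hlt : P' < S := by
    refine lt_of_le_of_ne hS fun e => S.not_dvd_index ?_
    rw [← e]
    exact hpi.trans (Subgroup.index_dvd_of_le hP'H)
  haveI : Group.IsNilpotent ↥(S : Subgroup G) := S.isPGroup'.isNilpotent
  obtain ⟨⟨x, hxS⟩, hxN, hxP⟩ := SetLike.exists_of_lt
    (Group.normalizerCondition_of_isNilpotent (P'.subgroupOf (S : Subgroup G))
      (lt_top_iff_ne_top.2 fun h => hlt.not_ge (Subgroup.subgroupOf_eq_top.1 h)))
  obtain ⟨y, hy1⟩ : ∃ y : ↥(P : Subgroup ↥H), y ≠ 1 := by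
    haveI : Nontrivial ↥(P : Subgroup ↥H) :=
      (Subgroup.nontrivial_iff_ne_bot _).2 (P.ne_bot_of_dvd_card hpH)
    exact exists_ne 1
  have hy : ((y : H) : G) ∈ P' := ⟨y, y.2, rfl⟩
  have hconj : x * (y : H) * x⁻¹ ∈ P' :=
    (Subgroup.mem_normalizer_iff.1 hxN ⟨((y : H) : G), hS hy⟩).1 hy
  have hxNH : x ∈ Subgroup.normalizer (H : Set G) := by
    by_contra hc
    exact hy1 (Subtype.ext (Subtype.ext (hTI x hc _ (hP'H hy) (hP'H hconj))))
  set R := P' ⊔ Subgroup.zpowers x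
  have hRp : IsPGroup p R := S.isPGroup'.to_le (sup_le hS (Subgroup.zpowers_le.2 hxS))
  have hRN : R ≤ Subgroup.normalizer (H : Set G) :=
    sup_le (hP'H.trans Subgroup.le_normalizer) (Subgroup.zpowers_le.2 hxNH)
  obtain ⟨r, hr⟩ := hRp.exists_card_eq
  have hN : Nat.card (Subgroup.normalizer (H : Set G)) =
      Nat.card H * (H.subgroupOf (Subgroup.normalizer (H : Set G))).index := by
    rw [← (H.subgroupOf (Subgroup.normalizer (H : Set G))).card_mul_index,
      Nat.card_congr (Subgroup.subgroupOfEquivOfLe (Subgroup.le_normalizer (H := H))).toEquiv]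
  have hpr : (p ^ r).Coprime (H.subgroupOf (Subgroup.normalizer (H : Set G))).index :=
    Nat.Coprime.pow_left r (hHall.coprime_dvd_left hpH)
  have h1 : p ^ r ∣ Nat.card H := hpr.dvd_of_dvd_mul_right (hN ▸ hr ▸ Subgroup.card_dvd_of_le hRN)
  have h2 : p ^ r ∣ Nat.card P' := by
    rw [Subgroup.card_map_of_injective H.subtype_injective, P.card_eq_multiplicity]
    exact pow_dvd_pow p ((hp.pow_dvd_iff_le_factorization Nat.card_pos.ne').1 h1)
  have h3 : R = P' := (Subgroup.eq_of_le_of_card_ge le_sup_left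
    (hr ▸ Nat.le_of_dvd Nat.card_pos h2)).symm
  exact hxP (h3 ▸ Subgroup.mem_sup_right (Subgroup.mem_zpowers x) : x ∈ P')

variable {M : Subgroup G} [M.Normal]

theorem cent_mem (hTI : Cfsg.IsTISubset (H : Set G)) {h m : G} (hh : h ∈ H) (h1 : h ≠ 1)
    (hc : Commute h m) : m ∈ Subgroup.normalizer (H : Set G) := by
  by_contra hm
  refine h1 (hTI m hm h hh ?_)
  rwa [← hc.eq, mul_inv_cancel_right]

omit [Finite G] in
theorem commute_C (hinf : M ⊓ H = ⊥) {c h : G} (hc : c ∈ M ⊓ Subgroup.normalizer (H : Set G))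
    (hh : h ∈ H) : Commute h c := by
  have h1 : h * c * h⁻¹ * c⁻¹ ∈ M ⊓ H := by
    refine Subgroup.mem_inf.2 ⟨mul_mem ((inferInstance : M.Normal).conj_mem c hc.1 h)
      (inv_mem hc.1), ?_⟩
    rw [show h * c * h⁻¹ * c⁻¹ = h * (c * h⁻¹ * c⁻¹) by group]
    exact mul_mem hh ((Subgroup.mem_normalizer_iff.1 hc.2 _).1 (inv_mem hh))
  rw [hinf, Subgroup.mem_bot, mul_inv_eq_one, mul_inv_eq_iff_eq_mul] at h1
  exact h1

/-- From an invariant Sylow subgroup not centralized, a fixed-point-free abelian module. -/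
theorem exists_module (hTI : Cfsg.IsTISubset (H : Set G)) (hinf : M ⊓ H = ⊥)
    (hcop : (Nat.card H).Coprime (Nat.card M)) {q : ℕ} [Fact q.Prime] {A Q : Subgroup G}
    (hAH : A ≤ H) (hQp : IsPGroup q Q) (hQM : Q ≤ M)
    (hQA : A ≤ Subgroup.normalizer (Q : Set G))
    (hQC : ¬ Q ≤ Subgroup.normalizer (H : Set G)) :
    ∃ (F : Type u) (_ : Group F) (_ : Finite F) (V : Subgroup F) (_ : V.Normal)
      (ι : A →* F), Function.Injective ι ∧ V ≠ ⊥ ∧ IsMulCommutative V ∧ V ⊓ ι.range = ⊥ ∧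
      V ⊔ ι.range = ⊤ ∧ ∀ a : A, a ≠ 1 → ∀ v ∈ V, Commute (ι a) v → v = 1 := by
  set N := Subgroup.normalizer (H : Set G) with hNdef
  set D := Q ⊓ N with hD
  have hAN : ∀ a ∈ A, ∀ y : G, y ∈ N ↔ a * y * a⁻¹ ∈ N := fun a ha y => by
    have ha' : a ∈ N := Subgroup.le_normalizer (hAH ha)
    constructor
    · intro hy; exact mul_mem (mul_mem ha' hy) (inv_mem ha')
    · intro hy
      have := mul_mem (mul_mem (inv_mem ha') hy) ha'
      simpa [mul_assoc] using this
  have hAD : A ≤ Subgroup.normalizer (D : Set G) := fun a ha =>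
    Subgroup.mem_normalizer_fintype fun y hy =>
      ⟨(Subgroup.mem_normalizer_iff.1 (hQA ha) y).1 hy.1, (hAN a ha y).1 hy.2⟩
  set T := Q ⊓ Subgroup.normalizer (D : Set G) with hT
  have hDT : D ≤ T := le_inf inf_le_left Subgroup.le_normalizer
  haveI : Group.IsNilpotent ↥T := (hQp.to_le inf_le_left).isNilpotent
  have hnle : ¬ (⊤ : Subgroup ↥T) ≤ D.subgroupOf T := by
    intro hle
    haveI : Group.IsNilpotent ↥Q := hQp.isNilpotent
    obtain ⟨⟨x, hxQ⟩, hxN, hxD⟩ := SetLike.exists_of_lt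
      (Group.normalizerCondition_of_isNilpotent (D.subgroupOf Q)
        (lt_top_iff_ne_top.2 fun h => hQC ((Subgroup.subgroupOf_eq_top.1 h).trans inf_le_right)))
    refine hxD (hle (x := ⟨x, hxQ, ?_⟩) trivial)
    refine Subgroup.mem_normalizer_fintype fun y hy => ?_
    exact (Subgroup.mem_normalizer_iff.1 hxN ⟨y, hy.1⟩).1 hy
  obtain ⟨x0, -, hx0D, hx0⟩ := Fusion.exists_fixed_mod (N := D.subgroupOf T) (C := ⊤)
    (Q := (⊤ : Subgroup ↥T)) (le_top.trans Subgroup.le_normalizer) hnle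
  have hTD : ∀ y ∈ T, ∀ d ∈ D, y * d * y⁻¹ ∈ D := fun y hy d hd =>
    (Subgroup.mem_normalizer_iff.1 hy.2 d).1 hd
  let R : Subgroup G :=
    { carrier := {x | x ∈ T ∧ ∀ y ∈ T, ⁅x, y⁆ ∈ D}
      one_mem' := ⟨one_mem _, fun y _ => by simp⟩
      mul_mem' := fun {a b} ha hb => ⟨mul_mem ha.1 hb.1, fun y hy => by
        have h1 := mul_mem (hTD a ha.1 _ (hb.2 y hy)) (ha.2 y hy)
        simpa [commutatorElement_def, mul_assoc] using h1⟩
      inv_mem' := fun {a} ha => ⟨inv_mem ha.1, fun y hy => by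
        have h1 := hTD a⁻¹ (inv_mem ha.1) _ (inv_mem (ha.2 y hy))
        simpa [commutatorElement_def, mul_assoc] using h1⟩ }
  have hRT : R ≤ T := fun x hx => hx.1
  have hDR : D ≤ R := fun d hd => ⟨hDT hd, fun y hy => by
    rw [commutatorElement_def, mul_assoc, mul_assoc]
    refine mul_mem hd ?_
    rw [← mul_assoc]
    exact hTD y hy _ (inv_mem hd)⟩
  have hAT : ∀ a ∈ A, ∀ y ∈ T, a * y * a⁻¹ ∈ T := fun a ha y hy =>
    Subgroup.mem_inf.2 ⟨(Subgroup.mem_normalizer_iff.1 (hQA ha) y).1 hy.1,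
      mul_mem (mul_mem (hAD ha) (Subgroup.mem_inf.1 hy).2) (inv_mem (hAD ha))⟩
  have hAR : A ≤ Subgroup.normalizer (R : Set G) := fun a ha =>
    Subgroup.mem_normalizer_fintype fun r hr => ⟨hAT a ha r hr.1, fun y hy => by
      have h1 := hr.2 (a⁻¹ * y * a) (by simpa using hAT a⁻¹ (inv_mem ha) y hy)
      have h2 := (Subgroup.mem_normalizer_iff.1 (hAD ha) _).1 h1
      simpa [commutatorElement_def, mul_assoc] using h2⟩
  set S := R ⊔ A with hS
  have hSD : S ≤ Subgroup.normalizer (D : Set G) := sup_le (fun r hr => hr.1.2) hAD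
  haveI hDn : (D.subgroupOf S).Normal := Subgroup.normal_subgroupOf_of_le_normalizer hSD
  haveI hRn : (R.subgroupOf S).Normal :=
    Subgroup.normal_subgroupOf_of_le_normalizer (sup_le Subgroup.le_normalizer hAR)
  set π := QuotientGroup.mk' (D.subgroupOf S)
  set ι := π.comp (Subgroup.inclusion (le_sup_right : A ≤ S)) with hι
  set V := (R.subgroupOf S).map π with hV
  haveI hVn : V.Normal := Subgroup.Normal.map hRn π (QuotientGroup.mk'_surjective _)
  have hπ1 : ∀ z : S, π z = 1 ↔ (z : G) ∈ D := fun z => by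
    rw [QuotientGroup.mk'_apply, QuotientGroup.eq_one_iff]; rfl
  have hmeet : ∀ a : A, ι a ∈ V → a = 1 := by
    rintro a ⟨r, hr, he⟩
    have he' : π r = π (Subgroup.inclusion (le_sup_right : A ≤ S) a) := he
    have h0 : r⁻¹ * Subgroup.inclusion (le_sup_right : A ≤ S) a ∈ D.subgroupOf S :=
      QuotientGroup.eq.1 he'
    have h1 : (r : G)⁻¹ * (a : G) ∈ D := h0
    have hrR : (r : G) ∈ R := hr
    have haM : (a : G) ∈ M := by
      rw [show (a : G) = (r : G) * ((r : G)⁻¹ * a) by group]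
      exact mul_mem (hQM (hRT hrR).1) (hQM h1.1)
    have := Subgroup.mem_inf.2 ⟨haM, hAH a.2⟩
    rw [hinf, Subgroup.mem_bot] at this
    exact Subtype.ext this
  refine ⟨↥S ⧸ D.subgroupOf S, inferInstance, inferInstance, V, hVn, ι, ?_, ?_, ?_, ?_, ?_, ?_⟩
  · rw [injective_iff_map_eq_one]
    exact fun a ha => hmeet a (ha ▸ one_mem V)
  · intro h0
    have hxR : (x0 : G) ∈ R := ⟨x0.2, fun y hy => hx0 ⟨y, hy⟩ trivial⟩
    have h1 : π ⟨(x0 : G), Subgroup.mem_sup_left hxR⟩ ∈ V := ⟨_, hxR, rfl⟩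
    rw [h0, Subgroup.mem_bot, hπ1] at h1
    exact hx0D h1
  · refine ⟨⟨fun ⟨a, ha⟩ ⟨b, hb⟩ => Subtype.ext ?_⟩⟩
    obtain ⟨r, hr, rfl⟩ := ha
    obtain ⟨t, ht, rfl⟩ := hb
    show π r * π t = π t * π r
    rw [← commutatorElement_eq_one_iff_mul_comm, ← map_commutatorElement, hπ1]
    show ⁅(r : G), (t : G)⁆ ∈ D
    exact (show (r : G) ∈ R from hr).2 _ (hRT ht)
  · rw [Subgroup.eq_bot_iff_forall]
    intro v hv
    obtain ⟨hv1, a, rfl⟩ := Subgroup.mem_inf.1 hv
    rw [hmeet a hv1, map_one]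
  · rw [eq_top_iff]
    intro v _
    obtain ⟨⟨z, hz⟩, rfl⟩ := QuotientGroup.mk'_surjective _ v
    have hz' : z ∈ ((R ⊔ A : Subgroup G) : Set G) := hz
    rw [Subgroup.coe_mul_of_right_le_normalizer_left _ _ hAR] at hz'
    obtain ⟨r, hr, a, ha, rfl⟩ := Set.mem_mul.1 hz'
    have e : π ⟨r * a, hz⟩ = π ⟨r, Subgroup.mem_sup_left hr⟩ * ι ⟨a, ha⟩ := rfl
    rw [e]
    exact mul_mem (Subgroup.mem_sup_left ⟨_, hr, rfl⟩) (Subgroup.mem_sup_right ⟨_, rfl⟩)
  · rintro a ha1 _ ⟨r, hr, rfl⟩ hc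
    rw [hπ1]
    have hr' : (r : G) ∈ R := hr
    set d := (r : G)⁻¹ * ((a : G) * r * (a : G)⁻¹) with hd
    have hdD : d ∈ D := by
      have h1 : π (r⁻¹ * (Subgroup.inclusion le_sup_right a * r *
          (Subgroup.inclusion le_sup_right a)⁻¹)) = 1 := by
        rw [map_mul, map_mul, map_mul, map_inv, map_inv]
        show (π r)⁻¹ * (ι a * π r * (ι a)⁻¹) = 1
        rw [hc.eq]; group
      exact (hπ1 _).1 h1
    have hcd : Commute (a : G) d :=
      commute_C hinf (Subgroup.mem_inf.2 ⟨hQM hdD.1, hdD.2⟩) (hAH a.2)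
    have hpow : ∀ j : ℕ, (a : G) ^ j * r * ((a : G) ^ j)⁻¹ = r * d ^ j := by
      intro j
      induction j with
      | zero => simp
      | succ j ih =>
        calc (a : G) ^ (j + 1) * r * ((a : G) ^ (j + 1))⁻¹
            = a * ((a : G) ^ j * r * ((a : G) ^ j)⁻¹) * (a : G)⁻¹ := by rw [pow_succ']; group
          _ = (a * r * (a : G)⁻¹) * ((a : G) * d ^ j * (a : G)⁻¹) := by rw [ih]; group
          _ = r * d * d ^ j := by
              rw [(hcd.pow_right j).eq, mul_inv_cancel_right, hd]; group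
          _ = _ := by rw [pow_succ', mul_assoc]
    have h1 := hpow (orderOf (a : G))
    rw [pow_orderOf_eq_one, one_mul, inv_one, mul_one] at h1
    have h2 : d ^ orderOf (a : G) = 1 := mul_left_cancel (h1.symm.trans (mul_one (r : G)).symm)
    have hd1 : d = 1 := orderOf_eq_one_iff.1 (Nat.eq_one_of_dvd_coprimes hcop
      ((orderOf_dvd_of_pow_eq_one h2).trans (Subgroup.orderOf_dvd_natCard H (hAH a.2)))
      (Subgroup.orderOf_dvd_natCard M (hQM hdD.1)))
    have hcomm : Commute (a : G) r := by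
      rw [hd, inv_mul_eq_one, eq_comm, mul_inv_eq_iff_eq_mul] at hd1
      exact hd1
    exact ⟨(hRT hr').1, cent_mem hTI (hAH a.2) (fun e => ha1 (Subtype.ext e)) hcomm⟩

/-- The data needed in the second part. -/
structure Setup (H M : Subgroup G) (q : ℕ) : Prop where
  ti : Cfsg.IsTISubset (H : Set G)
  inf : M ⊓ H = ⊥
  cop : (Nat.card H).Coprime (Nat.card M)
  out : ∀ Q : Subgroup G, Solv.IsSylIn q Q M → ¬ Q ≤ Subgroup.normalizer (H : Set G)

theorem Setup.module_of_solvable {q : ℕ} [Fact q.Prime] (hs : Setup H M q) {A : Subgroup G}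
    (hAH : A ≤ H) (hA : Group.IsSolvable A) :
    ∃ (F : Type u) (_ : Group F) (_ : Finite F) (V : Subgroup F) (_ : V.Normal)
      (ι : A →* F), Function.Injective ι ∧ V ≠ ⊥ ∧ IsMulCommutative V ∧ V ⊓ ι.range = ⊥ ∧
      V ⊔ ι.range = ⊤ ∧ ∀ a : A, a ≠ 1 → ∀ v ∈ V, Commute (ι a) v → v = 1 := by
  obtain ⟨Q, hQ, hQA⟩ := Solv.exists_invariant_sylow (A := A) (K := M)
    (by rw [Subgroup.normalizer_eq_top]; exact le_top)
    (hs.cop.coprime_dvd_left (Subgroup.card_dvd_of_le hAH)) (Or.inl hA) q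
  exact exists_module hs.ti hs.inf hs.cop hAH hQ.isPGroup hQ.1 hQA (hs.out Q hQ)

theorem Setup.invol_eq {q : ℕ} [Fact q.Prime] (hs : Setup H M q) {z z' : G} (hz : z ∈ H)
    (hz' : z' ∈ H) (ho : orderOf z = 2) (ho' : orderOf z' = 2) : z = z' := by
  set A := Subgroup.zpowers z ⊔ Subgroup.zpowers z' with hAdef
  have hAH : A ≤ H := sup_le (Subgroup.zpowers_le.2 hz) (Subgroup.zpowers_le.2 hz')
  have h2 : z * z = 1 := by rw [← pow_two, ← ho]; exact pow_orderOf_eq_one z
  have h2' : z' * z' = 1 := by rw [← pow_two, ← ho']; exact pow_orderOf_eq_one z'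
  have hzA : z ∈ A := Subgroup.mem_sup_left (Subgroup.mem_zpowers z)
  have hzA' : z' ∈ A := Subgroup.mem_sup_right (Subgroup.mem_zpowers z')
  have hA : Group.IsSolvable A := by
    set W := Subgroup.zpowers (z * z') with hW
    have hzi : z⁻¹ = z := inv_eq_of_mul_eq_one_right h2
    have hzi' : z'⁻¹ = z' := inv_eq_of_mul_eq_one_right h2'
    have hzW : z ∈ Subgroup.normalizer (W : Set G) := by
      refine Subgroup.mem_normalizer_fintype fun y hy => ?_
      obtain ⟨i, rfl⟩ := Subgroup.mem_zpowers_iff.1 hy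
      rw [← conj_zpow]
      refine zpow_mem ?_ i
      rw [show z * (z * z') * z⁻¹ = (z * z')⁻¹ by
        rw [mul_inv_rev, hzi, hzi', ← mul_assoc, h2, one_mul]]
      exact inv_mem (Subgroup.mem_zpowers _)
    have hWA : W ≤ A := Subgroup.zpowers_le.2 (mul_mem hzA hzA')
    have hA' : A ≤ W ⊔ Subgroup.zpowers z := by
      refine sup_le le_sup_right (Subgroup.zpowers_le.2 ?_)
      rw [show z' = z * (z * z') by rw [← mul_assoc, h2, one_mul]]
      exact mul_mem (Subgroup.mem_sup_right (Subgroup.mem_zpowers z))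
        (Subgroup.mem_sup_left (Subgroup.mem_zpowers _))
    haveI : (W.subgroupOf A).Normal := Subgroup.normal_subgroupOf_of_le_normalizer
      (hA'.trans (sup_le Subgroup.le_normalizer (Subgroup.zpowers_le.2 hzW)))
    haveI : IsCyclic (↥A ⧸ W.subgroupOf A) := by
      refine ⟨QuotientGroup.mk ⟨z, hzA⟩, fun v => ?_⟩
      induction v using QuotientGroup.induction_on with
      | _ x =>
        have hx : (x : G) ∈ ((W ⊔ Subgroup.zpowers z : Subgroup G) : Set G) := hA' x.2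
        rw [Subgroup.coe_mul_of_right_le_normalizer_left _ _ (Subgroup.zpowers_le.2 hzW)] at hx
        obtain ⟨w, hw, t, ⟨i, rfl⟩, he⟩ := Set.mem_mul.1 hx
        refine ⟨i, ?_⟩
        show (QuotientGroup.mk (⟨z, hzA⟩ : A) : ↥A ⧸ W.subgroupOf A) ^ i = _
        rw [← QuotientGroup.mk_zpow, QuotientGroup.eq, Subgroup.mem_subgroupOf]
        push_cast
        rw [← he]
        have hn := (Subgroup.mem_normalizer_iff.1 (zpow_mem hzW i) _).2 (show
          z ^ i * ((z ^ i)⁻¹ * (w * z ^ i)) * (z ^ i)⁻¹ ∈ W by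
            simpa [mul_assoc] using hw)
        exact hn
    haveI : IsCyclic ↥(W.subgroupOf A) :=
      isCyclic_of_injective (Subgroup.subgroupOfEquivOfLe hWA).toMonoidHom
        (Subgroup.subgroupOfEquivOfLe hWA).injective
    letI := IsCyclic.commGroup (α := ↥A ⧸ W.subgroupOf A)
    letI := IsCyclic.commGroup (α := ↥(W.subgroupOf A))
    exact Group.isSolvable_of_ker_le_range (W.subgroupOf A).subtype
      (QuotientGroup.mk' (W.subgroupOf A))
      (by rw [QuotientGroup.ker_mk', Subgroup.range_subtype])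
  obtain ⟨F, _, _, V, hVn, ι, hinj, hV, hVc, -, -, hfpf⟩ := hs.module_of_solvable hAH hA
  have hinv : ∀ t : A, t ≠ 1 → t * t = 1 → ∀ v ∈ V, ι t * v * (ι t)⁻¹ = v⁻¹ := by
    intro t ht1 htt v hv
    have hti : (ι t)⁻¹ = ι t := inv_eq_of_mul_eq_one_right (by rw [← map_mul, htt, map_one])
    have hcv : ∀ a ∈ V, ∀ b ∈ V, a * b = b * a := fun a ha b hb =>
      congrArg Subtype.val (hVc.is_comm.comm ⟨a, ha⟩ ⟨b, hb⟩)
    set w := ι t * v * (ι t)⁻¹ with hw
    have hwV : w ∈ V := hVn.conj_mem v hv _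
    have h1 : ι t * w * (ι t)⁻¹ = v := by
      rw [hw]
      calc ι t * (ι t * v * (ι t)⁻¹) * (ι t)⁻¹ = (ι t * ι t) * v * (ι t * ι t)⁻¹ := by group
        _ = v := by rw [← map_mul, htt, map_one]; group
    have h2 : Commute (ι t) (v * w) := by
      rw [Commute, SemiconjBy, ← mul_inv_eq_iff_eq_mul]
      calc ι t * (v * w) * (ι t)⁻¹ = (ι t * v * (ι t)⁻¹) * (ι t * w * (ι t)⁻¹) := by group
        _ = w * v := by rw [← hw, h1]
        _ = v * w := hcv w hwV v hv
    exact eq_inv_of_mul_eq_one_right (hfpf t ht1 _ (mul_mem hv hwV) h2)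
  obtain ⟨v, hv, hv1⟩ : ∃ v ∈ V, v ≠ 1 := (Subgroup.ne_bot_iff_exists_ne_one.1 hV).elim
    fun w hw => ⟨w, w.2, fun e => hw (Subtype.ext e)⟩
  have hne : ∀ {t : G}, orderOf t = 2 → t ≠ 1 := fun {t} h e => by simp [e] at h
  by_contra hzz
  have key : Commute (ι (⟨z, hzA⟩ * ⟨z', hzA'⟩)) v := by
    rw [Commute, SemiconjBy, ← mul_inv_eq_iff_eq_mul, map_mul]
    calc ι ⟨z, hzA⟩ * ι ⟨z', hzA'⟩ * v * (ι ⟨z, hzA⟩ * ι ⟨z', hzA'⟩)⁻¹
        = ι ⟨z, hzA⟩ * (ι ⟨z', hzA'⟩ * v * (ι ⟨z', hzA'⟩)⁻¹) * (ι ⟨z, hzA⟩)⁻¹ := by group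
      _ = ι ⟨z, hzA⟩ * v⁻¹ * (ι ⟨z, hzA⟩)⁻¹ := by
          rw [hinv ⟨z', hzA'⟩ (fun e => hne ho' (congrArg Subtype.val e)) (Subtype.ext h2') v hv]
      _ = v := by
          rw [hinv ⟨z, hzA⟩ (fun e => hne ho (congrArg Subtype.val e)) (Subtype.ext h2) _
            (inv_mem hv), inv_inv]
  refine hv1 (hfpf _ (fun e => hzz ?_) v hv key)
  have e' : z * z' = 1 := congrArg Subtype.val e
  exact (mul_left_cancel (h2.trans e'.symm))

theorem Setup.unique_order {q : ℕ} [Fact q.Prime] (hs : Setup H M q) {p : ℕ} [hp : Fact p.Prime]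
    (P : Sylow p ↥H) : Solv.UniqueOrderP p ↥(P : Subgroup ↥H) := by
  intro x y hx hy hy1
  haveI : Nontrivial ↥(P : Subgroup ↥H) := ⟨⟨y, 1, hy1⟩⟩
  haveI := P.isPGroup'.center_nontrivial
  obtain ⟨c, hc⟩ := exists_prime_orderOf_dvd_card' p (G := Subgroup.center ↥(P : Subgroup ↥H))
    (((P.isPGroup'.to_subgroup _).card_eq_or_dvd).resolve_left Finite.one_lt_card.ne')
  set z : ↥(P : Subgroup ↥H) := (c : ↥(P : Subgroup ↥H)) with hzdef
  have hzo : orderOf z = p := by rw [hzdef, Subgroup.orderOf_coe, hc]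
  have hz1 : z ≠ 1 := fun e => hp.out.ne_one (by rw [← hzo, e, orderOf_one])
  have hzp : z ^ p = 1 := orderOf_dvd_iff_pow_eq_one.1 (dvd_of_eq hzo)
  have main : ∀ a b : ↥(P : Subgroup ↥H), Commute a b → a ^ p = 1 → b ^ p = 1 → b ≠ 1 →
      a ∈ Subgroup.zpowers b := by
    intro a b hab ha hb hb1
    set g := (((a : ↥H) : G))
    set k := (((b : ↥H) : G))
    have hgk : Commute g k := congrArg (fun t : ↥(P : Subgroup ↥H) => ((t : ↥H) : G)) hab.eq
    set A := Subgroup.closure ({g, k} : Set G) with hAdef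
    have hAH : A ≤ H := by
      rw [hAdef, Subgroup.closure_le, Set.insert_subset_iff, Set.singleton_subset_iff]
      exact ⟨(a : ↥H).2, (b : ↥H).2⟩
    have hAc : ∀ s ∈ ({g, k} : Set G), ∀ t ∈ ({g, k} : Set G), s * t = t * s := by
      rintro s (rfl | rfl) t (rfl | rfl)
      exacts [rfl, hgk.eq, hgk.eq.symm, rfl]
    letI : CommGroup A := Subgroup.closureCommGroupOfComm hAc
    obtain ⟨F, _, _, V, hVn, ι, hinj, hV, hVc, -, -, hfpf⟩ :=
      hs.module_of_solvable hAH inferInstance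
    haveI := hVc
    set g' : A := ⟨g, Subgroup.subset_closure (Set.mem_insert _ _)⟩
    set k' : A := ⟨k, Subgroup.subset_closure (Set.mem_insert_of_mem _ rfl)⟩
    have h := Solv.fpf_unique_order (A := ι.range) (V := V) hV
      (by rw [Subgroup.normalizer_eq_top]; exact le_top) (by
        rintro _ ⟨s, rfl⟩ hs1
        rw [Subgroup.eq_bot_iff_forall]
        intro v hv
        obtain ⟨h1, h2⟩ := Subgroup.mem_inf.1 hv
        exact hfpf s (fun e => hs1 (e ▸ map_one ι)) v h1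
          (Subgroup.mem_centralizer_singleton_iff.1 h2).symm)
      (p := p) (x := ι g') (y := ι k') ⟨g', rfl⟩ ⟨k', rfl⟩
      ((show Commute g' k' from Subtype.ext hgk.eq).map ι)
      (by rw [← map_pow, show g' ^ p = 1 from Subtype.ext (by
        simpa [g', g] using congrArg (fun t : ↥(P : Subgroup ↥H) => ((t : ↥H) : G)) ha), map_one])
      (by rw [← map_pow, show k' ^ p = 1 from Subtype.ext (by
        simpa [k', k] using congrArg (fun t : ↥(P : Subgroup ↥H) => ((t : ↥H) : G)) hb), map_one])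
      (fun e => hb1 (Subtype.ext (Subtype.ext (by
        have h' := congrArg Subtype.val (hinj (e.trans (map_one ι).symm))
        simpa [k', k] using h'))))
    obtain ⟨i, hi⟩ := Subgroup.mem_zpowers_iff.1 h
    refine ⟨i, Subtype.ext (Subtype.ext ?_)⟩
    have := congrArg Subtype.val (hinj ((map_zpow ι k' i).trans hi))
    simpa [g', k', g, k] using this
  have hzc : ∀ t, Commute t z := fun t => (Subgroup.mem_center_iff.1 c.2 t)
  obtain ⟨i, hi⟩ := Subgroup.mem_zpowers_iff.1 (main x z (hzc x) hx hzp hz1)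
  have h2 := main z y (hzc y).symm hzp hy hy1
  rw [← hi]
  exact zpow_mem h2 i

/-- A Sylow subgroup of the complement invariant under all of `H`. -/
theorem Setup.exists_invariant {q : ℕ} [Fact q.Prime] (hs : Setup H M q) :
    ∃ Q : Subgroup G, Solv.IsSylIn q Q M ∧ H ≤ Subgroup.normalizer (Q : Set G) := by
  have hnorm : ∀ A : Subgroup G, A ≤ Subgroup.normalizer (M : Set G) := fun A => by
    rw [Subgroup.normalizer_eq_top]; exact le_top
  by_cases hZ : IsZGroup ↥H
  · exact Solv.exists_invariant_sylow (hnorm H) hs.cop (Or.inl inferInstance) q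
  rw [isZGroup_iff] at hZ
  push Not at hZ
  obtain ⟨p, hp, P, hP⟩ := hZ
  haveI := Fact.mk hp
  obtain ⟨rfl, n, ⟨e⟩⟩ :=
    (Solv.cyclic_or_quaternion P.isPGroup' (hs.unique_order P)).resolve_left hP
  obtain ⟨z0, hz0⟩ := exists_prime_orderOf_dvd_card' 2 (G := ↥H) (by
    refine dvd_trans ?_ (Subgroup.card_subgroup_dvd_card (P : Subgroup ↥H))
    rw [Nat.card_congr e.toEquiv]
    exact Dvd.intro (2 * 2 ^ n) (by
      rw [Nat.card_eq_fintype_card, QuaternionGroup.card]; ring))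
  set z := (z0 : G) with hzdef
  have hzo : orderOf z = 2 := by rw [hzdef, Subgroup.orderOf_coe, hz0]
  have hzH : z ∈ H := z0.2
  have hz1 : z ≠ 1 := fun e1 => by simp [e1] at hzo
  have hcen : ∀ h ∈ H, Commute h z := fun h hh => by
    have h1 : z = h * z * h⁻¹ := hs.invol_eq hzH (mul_mem (mul_mem hh hzH) (inv_mem hh)) hzo (by
      rw [← MulAut.conj_apply, ← MulEquiv.coe_toMonoidHom,
        orderOf_injective _ (MulAut.conj h).injective, hzo])
    exact (mul_inv_eq_iff_eq_mul.1 h1.symm)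
  set A := Subgroup.zpowers z
  have hAcop : (Nat.card A).Coprime (Nat.card M) :=
    hs.cop.coprime_dvd_left (Subgroup.card_dvd_of_le (Subgroup.zpowers_le.2 hzH))
  have hAsol : Group.IsSolvable A := by
    letI := IsCyclic.commGroup (α := A)
    infer_instance
  obtain ⟨Q, hQ, hQz⟩ := Solv.exists_invariant_sylow (hnorm A) hAcop (Or.inl hAsol) q
  refine ⟨Q, hQ, fun h hh => ?_⟩
  have hQ' : Solv.IsSylIn q (MulAut.conj h • Q) M := by
    have := hQ.conj (g := h) (hnorm ⊤ trivial)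
    exact this
  have hQ'z : A ≤ Subgroup.normalizer ((MulAut.conj h • Q : Subgroup G) : Set G) := by
    rw [Subgroup.zpowers_le]
    refine Solv.mem_normalizer_of_conj_smul ?_
    rw [Solv.conj_smul_conj, ← (hcen h hh).eq, ← Solv.conj_smul_conj,
      Solv.conj_smul_of_mem_normalizer (hQz (Subgroup.mem_zpowers z))]
  obtain ⟨c, hc, hce⟩ := Solv.invariant_sylow_conj (hnorm A) hAcop (Or.inl hAsol) hQ hQ' hQz hQ'z
  obtain ⟨hcM, hcA⟩ := Subgroup.mem_inf.1 hc
  have hcC : c ∈ M ⊓ Subgroup.normalizer (H : Set G) :=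
    Subgroup.mem_inf.2 ⟨hcM, cent_mem hs.ti hzH hz1
      (Subgroup.mem_centralizer_iff.1 hcA z (Subgroup.mem_zpowers z))⟩
  have hg : c⁻¹ * h ∈ Subgroup.normalizer (Q : Set G) := by
    refine Solv.mem_normalizer_of_conj_smul ?_
    rw [← Solv.conj_smul_conj, ← hce, Solv.conj_smul_conj, inv_mul_cancel, Solv.conj_one_smul]
  have hcom : Commute c⁻¹ h := (commute_C hs.inf hcC hh).symm.inv_left
  have hpow := pow_mem hg (Nat.card H)
  rw [hcom.mul_pow, show h ^ Nat.card H = 1 from orderOf_dvd_iff_pow_eq_one.1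
    (Subgroup.orderOf_dvd_natCard H hh), mul_one, inv_pow, inv_mem_iff] at hpow
  have hcQ : c ∈ Subgroup.normalizer (Q : Set G) := by
    obtain ⟨a, b, hab⟩ := Nat.Coprime.isCoprime hs.cop
    have hcM1 : c ^ Nat.card M = 1 := orderOf_dvd_iff_pow_eq_one.1
      (Subgroup.orderOf_dvd_natCard M hcM)
    have h1 : c = (c ^ Nat.card H) ^ a := by
      conv_lhs => rw [← zpow_one c, ← hab, zpow_add, mul_comm b, zpow_mul c (Nat.card M : ℤ),
        zpow_natCast, hcM1, one_zpow, mul_one, mul_comm a, zpow_mul, zpow_natCast]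
    rw [h1]
    exact zpow_mem hpow a
  have := mul_mem hcQ hg
  rwa [mul_inv_cancel_left] at this

end Aux

/-- Let G be a finite group and H a subgroup that meets each of its conjugates by elements outside N_G(H) trivially and whose order is coprime to its index in N_G(H). Then H has a normal complement in N_G(H) if and only if H has a normal complement in G. Moreover, if H is not normal in G and has a normal complement in N_G(H), then H is isomorphic to a Frobenius complement of some finite Frobenius group. -/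
theorem result {G : Type u} [Group G] [Finite G] (H : Subgroup G)
    (hTI : Cfsg.IsTISubset (H : Set G)) (hHall : (Nat.card H).Coprime (H.subgroupOf (Subgroup.normalizer (H : Set G))).index) :
    ((∃ K : Subgroup (Subgroup.normalizer (H : Set G)), K.Normal ∧ K.IsComplement' (H.subgroupOf (Subgroup.normalizer (H : Set G)))) ↔
      (∃ N : Subgroup G, N.Normal ∧ N.IsComplement' H)) ∧
    (¬ H.Normal → (∃ K : Subgroup (Subgroup.normalizer (H : Set G)), K.Normal ∧ K.IsComplement' (H.subgroupOf (Subgroup.normalizer (H : Set G)))) →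
      ∃ (F : Type u) (_ : Group F) (_ : Finite F) (C : Subgroup F), Cfsg.IsFrobeniusComplement C ∧ Nonempty (H ≃* C)) := by
  refine ⟨⟨fun ⟨K, hK, hKc⟩ => ?_, fun ⟨M, hM, hMc⟩ => ?_⟩, fun hnn ⟨K, hK, hKc⟩ => ?_⟩
  · exact Perm.TIComplement.exists_normal_complement hTI hHall K hKc
  · refine ⟨M.subgroupOf (Subgroup.normalizer (H : Set G)), inferInstance,
      Subgroup.isComplement'_of_disjoint_and_mul_eq_univ ?_ ?_⟩
    · rw [Subgroup.disjoint_def]
      intro x hx1 hx2
      exact Subtype.ext (Subgroup.disjoint_def.1 hMc.disjoint hx1 hx2)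
    · rw [Set.eq_univ_iff_forall]
      intro x
      obtain ⟨m, hm, h, hh, hmh⟩ := Set.mem_mul.1
        (show (x : G) ∈ (M : Set G) * (H : Set G) by rw [hMc.mul_eq]; trivial)
      have hhN : h ∈ Subgroup.normalizer (H : Set G) := Subgroup.le_normalizer hh
      have hmN : m ∈ Subgroup.normalizer (H : Set G) := by
        have h1 : (x : G) * h⁻¹ ∈ Subgroup.normalizer (H : Set G) := mul_mem x.2 (inv_mem hhN)
        rwa [← hmh, mul_inv_cancel_right] at h1
      exact ⟨⟨m, hmN⟩, hm, ⟨h, hhN⟩, hh, Subtype.ext hmh⟩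
  · obtain ⟨M, hM, hMc⟩ := Perm.TIComplement.exists_normal_complement hTI hHall K hKc
    have hinf : M ⊓ H = ⊥ := hMc.disjoint.eq_bot
    have hcop : (Nat.card H).Coprime (Nat.card M) := by
      rw [← hMc.index_eq_card]
      exact hall hTI hHall
    set C := M ⊓ Subgroup.normalizer (H : Set G)
    have hCM : C.relIndex M ≠ 1 := by
      intro h1
      refine hnn (Subgroup.normalizer_eq_top_iff.1 (top_le_iff.1 (hMc.sup_eq_top ▸ sup_le ?_
        Subgroup.le_normalizer)))
      exact (Subgroup.relIndex_eq_one.1 h1).trans inf_le_right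
    obtain ⟨q, hq, hqd⟩ := Nat.exists_prime_and_dvd hCM
    haveI := Fact.mk hq
    have hs : Setup H M q := ⟨hTI, hinf, hcop, fun Q hQ hQN => by
      have hQC : Q ≤ C := le_inf hQ.1 hQN
      have h1 := Subgroup.relIndex_mul_relIndex ⊥ C M bot_le inf_le_left
      rw [Subgroup.relIndex_bot_left, Subgroup.relIndex_bot_left] at h1
      have h2 : q ^ (Nat.card M).factorization q * q ∣ Nat.card M := by
        have h3 := Nat.mul_dvd_mul (Subgroup.card_dvd_of_le hQC) hqd
        rwa [h1, hQ.2] at h3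
      rw [← pow_succ, hq.pow_dvd_iff_le_factorization Nat.card_pos.ne'] at h2
      omega⟩
    obtain ⟨Q, hQ, hQA⟩ := hs.exists_invariant
    obtain ⟨F, _, _, V, hVn, ι, hinj, hV, -, hVi, hVs, hfpf⟩ :=
      exists_module hTI hinf hcop le_rfl hQ.isPGroup hQ.1 hQA (hs.out Q hQ)
    have hH1 : H ≠ ⊥ := fun e => hnn (e ▸ inferInstance)
    have hR : ι.range ≠ ⊥ := fun e => hH1 ((Subgroup.eq_bot_iff_forall _).2 fun h hh => by
      have : ι ⟨h, hh⟩ ∈ ι.range := ⟨_, rfl⟩
      rw [e, Subgroup.mem_bot] at this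
      exact congrArg Subtype.val (hinj (this.trans (map_one ι).symm)))
    have hcompl : V.IsComplement' ι.range := Subgroup.isComplement'_of_disjoint_and_mul_eq_univ
      (disjoint_iff.2 hVi) (by rw [← Subgroup.normal_mul, hVs, Subgroup.coe_top])
    refine ⟨F, inferInstance, inferInstance, ι.range,
      (Solv.frob_of_fpf_complement hcompl hV hR ?_).1, ⟨MonoidHom.ofInjective hinj⟩⟩
    rintro _ ⟨s, rfl⟩ hs1
    rw [Subgroup.eq_bot_iff_forall]
    intro v hv
    obtain ⟨h1, h2⟩ := Subgroup.mem_inf.1 hv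
    exact hfpf s (fun e => hs1 (e ▸ map_one ι)) v h1
      (Subgroup.mem_centralizer_singleton_iff.1 h2).symm

end Cfsg.Agent.S4115
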