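import Cfsg.Statements.S4116
import Mathlib
import Cfsg.Agent.Lib.Solv.Frobenius

set_option autoImplicit false
open Cfsg

namespace Cfsg.Agent.S4116


open scoped Pointwise

theorem order_coprime_mem {G : Type*} [Group G] [Finite G] (H : Subgroup G)
    (hHall : (Nat.card H).Coprime H.index) {u : G} (hu : u ∈ Subgroup.normalizer (H : Set G))
    (hπ : ∀ q : ℕ, q.Prime → q ∣ orderOf u → q ∣ Nat.card H) : u ∈ H := by
  set N := Subgroup.normalizer (H : Set G) with hN
  haveI : (H.subgroupOf N).Normal := Subgroup.normal_in_normalizer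
  have h1 : orderOf (QuotientGroup.mk' (H.subgroupOf N) ⟨u, hu⟩) ∣ orderOf u :=
    (orderOf_map_dvd _ _).trans (Subgroup.orderOf_mk u hu).dvd
  have h2 : orderOf (QuotientGroup.mk' (H.subgroupOf N) ⟨u, hu⟩) ∣ H.index := by
    refine (orderOf_dvd_natCard _).trans ?_
    rw [← Subgroup.index_eq_card]
    exact Subgroup.relIndex_dvd_index_of_le Subgroup.le_normalizer
  have h3 : orderOf (QuotientGroup.mk' (H.subgroupOf N) ⟨u, hu⟩) = 1 := by
    by_contra hne
    obtain ⟨q, hq, hqd⟩ := Nat.exists_prime_and_dvd hne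
    exact hq.ne_one (Nat.eq_one_of_dvd_coprimes hHall (hπ q hq (hqd.trans h1)) (hqd.trans h2))
  exact (QuotientGroup.eq_one_iff (N := H.subgroupOf N) (⟨u, hu⟩ : N)).1 (orderOf_eq_one_iff.1 h3)

theorem outside_card {K : Type*} [Group K] [Finite K] {A : Subgroup K} (hA : IsFrobeniusComplement A) :
    Nat.card K ≤ 2 * Nat.card {x : K // x ∉ frobeniusKernel A} := by
  classical
  have h1 := Cfsg.Agent.Solv.frob_kernel_card hA
  have h2 : 2 ≤ Nat.card A := (Subgroup.one_lt_card_iff_ne_bot _).2 hA.1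
  have h3 : Nat.card A * A.index = Nat.card K := A.card_mul_index
  have h4 : Nat.card {x : K // x ∈ frobeniusKernel A} + Nat.card {x : K // x ∉ frobeniusKernel A} = Nat.card K := by
    rw [← Nat.card_sum]
    exact Nat.card_congr (Equiv.sumCompl _)
  have h5 : Nat.card {x : K // x ∈ frobeniusKernel A} = A.index := h1
  have h6 : 2 * A.index ≤ Nat.card K := h3 ▸ Nat.mul_le_mul_right _ h2
  omega


/-- Let G be a finite group with a subgroup H whose order is coprime to its index (a Hall subgroup) and which meets each of its conjugates by elements outside N_G(H) trivially. Then every subgroup of G whose order is divisible only by primes dividing the order of H lies in a conjugate of H. -/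
theorem result {G : Type*} [Group G] [Finite G] (H : Subgroup G)
    (hHall : (Nat.card H).Coprime H.index) (hTI : Cfsg.IsTISubset (H : Set G))
    (K : Subgroup G) (hK : ∀ q : ℕ, q.Prime → q ∣ Nat.card K → q ∣ Nat.card H) :
    ∃ g : G, K ≤ H.map (MulAut.conj g).toMonoidHom := by
  classical
  have hmemc : ∀ g x : G, x ∈ MulAut.conj g • H ↔ g⁻¹ * x * g ∈ H := by
    intro g x
    rw [Subgroup.mem_pointwise_smul_iff_inv_smul_mem]
    simp [MulAut.smul_def]
  suffices hex : ∃ g : G, K ≤ MulAut.conj g • H by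
    obtain ⟨g, hg⟩ := hex
    exact ⟨g, fun x hx => hg hx⟩
  by_cases hK1 : K = ⊥
  · exact ⟨1, hK1 ▸ bot_le⟩
  have hord : ∀ x ∈ K, ∀ q : ℕ, q.Prime → q ∣ orderOf x → q ∣ Nat.card H := by
    intro x hx q hq hqd
    have := orderOf_dvd_natCard (⟨x, hx⟩ : K)
    rw [Subgroup.orderOf_mk] at this
    exact hK q hq (hqd.trans this)
  -- TI
  have hti : ∀ g g' x : G, x ≠ 1 → x ∈ MulAut.conj g • H → x ∈ MulAut.conj g' • H →
      g⁻¹ * g' ∈ Subgroup.normalizer (H : Set G) := by
    intro g g' x hx hxg hxg'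
    by_contra hn
    rw [hmemc] at hxg hxg'
    have := hTI (g⁻¹ * g') hn (g'⁻¹ * x * g') hxg' (by
      rw [show g⁻¹ * g' * (g'⁻¹ * x * g') * (g⁻¹ * g')⁻¹ = g⁻¹ * x * g by group]; exact hxg)
    exact hx (by simpa [mul_assoc] using congrArg (fun t => g' * t * g'⁻¹) this)
  let A : G → Subgroup K := fun g => (MulAut.conj g • H).subgroupOf K
  have hmemA : ∀ (g : G) (x : K), x ∈ A g ↔ g⁻¹ * (x : G) * g ∈ H := fun g x => hmemc g x
  -- self-normalising TI
  have hfrob : ∀ g, A g ≠ ⊥ → A g ≠ ⊤ → IsFrobeniusComplement (A g) := by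
    intro g h1 h2
    refine ⟨h1, h2, fun k hk => le_bot_iff.1 fun x hx => Subgroup.mem_bot.2 ?_⟩
    by_contra hx1
    refine hk ((hmemA g k).2 ?_)
    obtain ⟨hxA, hxk⟩ := hx
    have hxk' : (x : G) ∈ MulAut.conj ((k : G) * g) • H := by
      change x ∈ MulAut.conj k • A g at hxk
      rw [Subgroup.mem_pointwise_smul_iff_inv_smul_mem] at hxk
      have hxk2 := (hmemA g _).1 hxk
      rw [hmemc]
      simpa [MulAut.smul_def, mul_assoc] using hxk2
    have hn := hti g ((k : G) * g) x (fun e => hx1 (Subtype.ext e)) hxA hxk'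
    rw [← mul_assoc] at hn
    refine order_coprime_mem H hHall hn fun q hq hqd => hord k k.2 q hq ?_
    have : orderOf (MulAut.conj g⁻¹ (k : G)) = orderOf (k : G) := MulEquiv.orderOf_eq _ _
    rw [MulAut.conj_apply, inv_inv] at this
    exact this ▸ hqd
  -- every p-subgroup is in a conjugate
  have hsyl : ∀ (p : ℕ) [Fact p.Prime], p ∣ Nat.card H → ∀ P : Subgroup G, IsPGroup p P →
      ∃ g : G, P ≤ MulAut.conj g • H := by
    intro p _ hpH P hP
    obtain ⟨Q, hQ⟩ := hP.exists_le_sylow
    obtain ⟨R⟩ := (inferInstance : Nonempty (Sylow p H))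
    have hndvd : ¬ p ∣ H.index := fun h =>
      (Fact.out : p.Prime).ne_one (Nat.eq_one_of_dvd_coprimes hHall hpH h)
    have hcard : Nat.card ((R : Subgroup H).map H.subtype) = p ^ (Nat.card G).factorization p := by
      rw [Subgroup.card_map_of_injective H.subtype_injective, R.card_eq_multiplicity, ← H.card_mul_index,
        Nat.factorization_mul Nat.card_pos.ne' Subgroup.index_ne_zero_of_finite, Finsupp.add_apply,
        Nat.factorization_eq_zero_of_not_dvd hndvd, add_zero]
    obtain ⟨c, hc⟩ := MulAction.exists_smul_eq G (Sylow.ofCard _ hcard) Q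
    refine ⟨c, hQ.trans ?_⟩
    rw [← hc, Sylow.coe_subgroup_smul, Subgroup.pointwise_smul_le_pointwise_smul_iff]
    exact Subgroup.map_subtype_le _
  have hpart : ∀ (p : ℕ) [Fact p.Prime], p ∣ Nat.card K → ∀ P : Sylow p K,
      ∃ g : G, A g ≠ ⊥ ∧ (P : Subgroup K) ≤ A g := by
    intro p _ hp P
    obtain ⟨g, hg⟩ := hsyl p (hK p Fact.out hp) ((P : Subgroup K).map K.subtype) (P.2.map _)
    have hle : (P : Subgroup K) ≤ A g := Subgroup.map_le_iff_le_comap.1 hg
    refine ⟨g, fun e => P.ne_bot_of_dvd_card hp (le_bot_iff.1 (e ▸ hle)), hle⟩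
  obtain ⟨p0, hp0, hpd0⟩ := Nat.exists_prime_and_dvd (fun e => hK1 (Subgroup.card_eq_one.1 e) : Nat.card K ≠ 1)
  haveI : Fact p0.Prime := ⟨hp0⟩
  obtain ⟨P0⟩ := (inferInstance : Nonempty (Sylow p0 K))
  obtain ⟨g0, hg0, -⟩ := hpart p0 hpd0 P0
  by_cases htop : A g0 = ⊤
  · exact ⟨g0, Subgroup.subgroupOf_eq_top.1 htop⟩
  -- all non-trivial intersections have the same order
  have hsame : ∀ g, A g ≠ ⊥ → Nat.card (A g) = Nat.card (A g0) := by
    intro g hg
    by_cases hgt : A g = ⊤
    · exfalso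
      obtain ⟨x, hx, hx1⟩ := (Subgroup.bot_or_exists_ne_one (A g0)).resolve_left hg0
      have hxg : x ∈ A g := hgt ▸ Subgroup.mem_top x
      have hn := hti g g0 x (fun e => hx1 (Subtype.ext e)) hxg hx
      refine htop (eq_top_iff.2 fun y _ => (hmemA g0 y).2 ?_)
      have hy : g⁻¹ * (y : G) * g ∈ H := (hmemA g y).1 (hgt ▸ Subgroup.mem_top y)
      have := (Subgroup.mem_normalizer_iff.1 (Subgroup.inv_mem _ hn) _).1 hy
      simpa [mul_assoc] using this
    by_contra hne
    -- disjointness of the covered sets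
    have hdis : ∀ x : K, x ∉ frobeniusKernel (A g) → x ∈ frobeniusKernel (A g0) := by
      intro x hx
      by_contra hx0
      simp only [frobeniusKernel, Set.mem_setOf_eq, not_or, not_forall, not_not] at hx hx0
      obtain ⟨hx1, c, hc⟩ := hx
      obtain ⟨-, d, hd⟩ := hx0
      apply hne
      rw [Subgroup.mem_pointwise_smul_iff_inv_smul_mem] at hc hd
      simp only [MulAut.smul_def, MulAut.conj_inv_apply] at hc hd
      have hcG : (x : G) ∈ MulAut.conj ((c : G) * g) • H := by
        rw [hmemc]; simpa [mul_assoc] using (hmemA g _).1 hc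
      have hdG : (x : G) ∈ MulAut.conj ((d : G) * g0) • H := by
        rw [hmemc]; simpa [mul_assoc] using (hmemA g0 _).1 hd
      have hn := hti _ _ (x : G) (fun e => hx1 (Subtype.ext e)) hcG hdG
      -- A g0 is the conjugate of A g
      have hmap : (A g).map (MulAut.conj (d⁻¹ * c)).toMonoidHom = A g0 := by
        ext y
        rw [Subgroup.mem_map_equiv, hmemA, hmemA, MulAut.conj_symm_apply]
        push_cast
        have key := Subgroup.mem_normalizer_iff.1 hn (g0⁻¹ * (y : G) * g0)
        constructor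
        · intro h
          refine key.2 ?_
          convert h using 1; group
        · intro h
          have := key.1 h
          convert this using 1; group
      rw [← hmap]
      exact (Subgroup.card_map_of_injective (MulAut.conj (d⁻¹ * c)).injective).symm
    have hinj : Nat.card ({x : K // x ∉ frobeniusKernel (A g)} ⊕ {x : K // x ∉ frobeniusKernel (A g0)})
        ≤ Nat.card {x : K // x ≠ 1} := by
      refine Nat.card_le_card_of_injective
        (Sum.elim (fun x => ⟨x.1, fun e => x.2 (Or.inl e)⟩) (fun x => ⟨x.1, fun e => x.2 (Or.inl e)⟩)) ?_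
      refine Function.Injective.sumElim (fun u v e => Subtype.ext (congrArg (fun w : {x : K // x ≠ 1} => w.1) e))
        (fun u v e => Subtype.ext (congrArg (fun w : {x : K // x ≠ 1} => w.1) e)) fun u v e => ?_
      have e' : u.1 = v.1 := congrArg (fun w : {x : K // x ≠ 1} => w.1) e
      exact v.2 (e' ▸ hdis u.1 u.2)
    rw [Nat.card_sum] at hinj
    have h1 := outside_card (hfrob g hg hgt)
    have h2 := outside_card (hfrob g0 hg0 htop)
    have h3 : Nat.card {x : K // x ≠ 1} < Nat.card K := Finite.card_subtype_lt (x := (1 : K)) (by simp)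
    omega
  refine absurd (Subgroup.eq_top_of_le_card _ (Nat.le_of_dvd Nat.card_pos ?_)) htop
  refine (Nat.dvd_iff_prime_pow_dvd_dvd _ _).2 fun q k hq hk => ?_
  rcases Nat.eq_zero_or_pos k with rfl | hk0
  · simp
  haveI : Fact q.Prime := ⟨hq⟩
  obtain ⟨P⟩ := (inferInstance : Nonempty (Sylow q K))
  obtain ⟨g, hg, hle⟩ := hpart q ((dvd_pow_self q hk0.ne').trans hk) P
  rw [← hsame g hg]
  refine ((pow_dvd_pow q ((hq.pow_dvd_iff_le_factorization Nat.card_pos.ne').1 hk)).trans ?_).trans
    (Subgroup.card_dvd_of_le hle)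
  rw [P.card_eq_multiplicity]

end Cfsg.Agent.S4116
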