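import Cfsg.Statements.S4117
import Mathlib
import Cfsg.Agent.Lib.Solv.Coprime

set_option autoImplicit false
set_option linter.style.haveILetI false
open Cfsg
open scoped Pointwise commutatorElement

namespace Cfsg.Agent.S4117

open Cfsg.Agent.Solv

universe u

/-- A coprime automorphism group of a cyclic `p`-group with a nontrivial fixed point is trivial. -/
theorem cyclic_trivial {Γ : Type u} [Group Γ] [Finite Γ] {p : ℕ} [Fact p.Prime] {P A : Subgroup Γ} (hP : IsPGroup p P)
    [IsCyclic P] (hA : A ≤ Subgroup.normalizer (P : Set Γ)) (hco : (Nat.card P).Coprime (Nat.card A))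
    {u : Γ} (hu : u ∈ P) (hu1 : u ≠ 1) (huA : u ∈ Subgroup.centralizer (A : Set Γ)) :
    P ≤ Subgroup.centralizer (A : Set Γ) := by
  rcases hP.commutator_eq_bot_or_commutator_eq_self hA hco with h | h
  · rw [Subgroup.commutator_comm] at h
    exact Subgroup.commutator_eq_bot_iff_le_centralizer.1 h
  exfalso
  set m := Nat.card P / p with hm
  have hpdvd : p ∣ Nat.card P := by
    obtain ⟨k, hk⟩ := IsPGroup.iff_card.1 hP
    rw [hk]
    refine dvd_pow_self p fun h0 => hu1 ?_
    rw [h0, pow_zero] at hk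
    exact Subgroup.mem_bot.1 (Subgroup.card_eq_one.1 hk ▸ hu)
  letI : CommGroup P := IsCyclic.commGroup
  let S : Subgroup P := (powMonoidHom m : P →* P).ker
  have hle : ⁅A, P⁆ ≤ S.map P.subtype := by
    refine Subgroup.commutator_le.2 fun a ha x hx => ?_
    let ψ : P →* P := MonoidHom.mk' (fun y => ⟨a * y * a⁻¹, (Subgroup.mem_normalizer_iff.1 (hA ha) _).1 y.2⟩ * y⁻¹)
      (fun y z => by
        rw [show (⟨a * ((y * z : P) : Γ) * a⁻¹, (Subgroup.mem_normalizer_iff.1 (hA ha) _).1 (y * z).2⟩ : P) =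
          ⟨a * y * a⁻¹, (Subgroup.mem_normalizer_iff.1 (hA ha) _).1 y.2⟩ *
            ⟨a * z * a⁻¹, (Subgroup.mem_normalizer_iff.1 (hA ha) _).1 z.2⟩ from Subtype.ext (by simp [mul_assoc]),
          mul_inv, mul_mul_mul_comm])
    have hker : (⟨u, hu⟩ : P) ∈ ψ.ker := by
      rw [MonoidHom.mem_ker]
      refine mul_inv_eq_one.2 (Subtype.ext ?_)
      show a * u * a⁻¹ = u
      rw [Subgroup.mem_centralizer_iff.1 huA a ha, mul_inv_cancel_right]
    have hpker : p ∣ Nat.card ψ.ker := by
      obtain ⟨k, hk⟩ := IsPGroup.iff_card.1 (hP.to_subgroup ψ.ker)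
      rw [hk]
      refine dvd_pow_self p fun h0 => hu1 ?_
      rw [h0, pow_zero] at hk
      have hb : (⟨u, hu⟩ : P) = 1 := Subgroup.mem_bot.1 (Subgroup.card_eq_one.1 hk ▸ hker)
      exact congrArg Subtype.val hb
    have hrange : Nat.card ψ.range ∣ m := by
      have h1 := Subgroup.card_mul_index ψ.ker
      rw [Subgroup.index_ker] at h1
      rw [hm]
      exact Nat.dvd_div_of_mul_dvd (h1 ▸ mul_dvd_mul_right hpker _)
    refine ⟨ψ ⟨x, hx⟩, ?_, by simp [ψ, commutatorElement_def]⟩
    show (ψ ⟨x, hx⟩) ^ m = 1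
    exact orderOf_dvd_iff_pow_eq_one.1 ((Subgroup.orderOf_dvd_natCard ψ.range (MonoidHom.mem_range.2 ⟨⟨x, hx⟩, rfl⟩)).trans hrange)
  rw [h] at hle
  obtain ⟨g, hg⟩ := IsCyclic.exists_ofOrder_eq_natCard (α := P)
  obtain ⟨g', hg', hgg⟩ := hle g.2
  have hgm : g ^ m = 1 := by rw [← Subtype.ext hgg]; exact hg'
  have h2 := orderOf_dvd_of_pow_eq_one hgm
  rw [hg, hm] at h2
  have hpos : 0 < Nat.card P / p := Nat.div_pos (Nat.le_of_dvd Nat.card_pos hpdvd) (Fact.out : p.Prime).pos
  exact absurd (Nat.le_of_dvd hpos h2) (not_le.2 (Nat.div_lt_self Nat.card_pos (Fact.out : p.Prime).one_lt))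

theorem main {Γ : Type u} [Group Γ] [Finite Γ] (A K : Subgroup Γ) (hAK : A ≤ Subgroup.normalizer (K : Set Γ))
    (hco : (Nat.card A).Coprime (Nat.card K)) [IsZGroup K] :
    (Nat.card (K ⊓ Subgroup.centralizer (A : Set Γ) : Subgroup Γ)).Coprime
      ((K ⊓ Subgroup.centralizer (A : Set Γ)).relIndex K) ∧
    IsCyclic (⁅K, A⁆ : Subgroup Γ) ∧ K ≤ Subgroup.normalizer ((⁅K, A⁆ : Subgroup Γ) : Set Γ) ∧
    ⁅K, A⁆ ⊓ Subgroup.centralizer (A : Set Γ) = ⊥ ∧ ⁅K, A⁆ ⊔ (K ⊓ Subgroup.centralizer (A : Set Γ)) = K := by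
  classical
  haveI : Group.IsSolvable K := by
    haveI := IsZGroup.isCyclic_commutator (G := K)
    letI : CommGroup (commutator K) := IsCyclic.commGroup
    haveI : Group.IsSolvable (commutator K) := Group.isSolvable_of_comm fun a b => mul_comm a b
    exact Group.isSolvable_of_ker_le_range (commutator K).subtype (Abelianization.of : K →* Abelianization K)
      (by rw [Abelianization.ker_of, Subgroup.range_subtype])
  have hsol : Group.IsSolvable A ∨ Group.IsSolvable K := Or.inr inferInstance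
  obtain ⟨hXK, hKX, hAX⟩ := commutator_normal_in hAK
  set X := ⁅K, A⁆ with hX
  haveI : IsZGroup X := IsZGroup.of_injective (Subgroup.inclusion_injective hXK)
  have hXX : ⁅X, A⁆ = X := commutator_commutator_eq hAK hco hsol
  refine ⟨?_, ?_⟩
  · refine Nat.coprime_of_dvd fun p hp hpC hpi => ?_
    haveI := Fact.mk hp
    set C := K ⊓ Subgroup.centralizer (A : Set Γ) with hC
    obtain ⟨U, hU⟩ := exists_isSylIn p C
    obtain ⟨P, hP, hUP, hAP⟩ := exists_invariant_sylow_ge hAK hco hsol U (hU.1.trans inf_le_left) hU.isPGroup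
      (fun a ha => Subgroup.centralizer_le_normalizer _ (Subgroup.mem_centralizer_iff.2 fun y hy =>
        ((Subgroup.mem_centralizer_iff.1 (Subgroup.mem_inf.1 (hU.1 hy)).2) a ha).symm))
    obtain ⟨S, hS⟩ := hP.exists_sylow
    haveI : IsCyclic P := by
      haveI := IsZGroup.isZGroup (G := K) p hp S
      rw [← hS]
      exact isCyclic_of_surjective _ ((S : Subgroup K).equivMapOfInjective _ K.subtype_injective).surjective
    obtain ⟨u, hu, hu1⟩ : ∃ u ∈ U, u ≠ 1 := by
      by_contra h
      push Not at h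
      have h1 : Nat.card U = 1 := Subgroup.card_eq_one.2 ((Subgroup.eq_bot_iff_forall _).2 h)
      rw [hU.2] at h1
      have h2 := hp.factorization_pos_of_dvd Nat.card_pos.ne' hpC
      rcases Nat.pow_eq_one.1 h1 with e | e
      · exact hp.ne_one e
      · omega
    have hPC := cyclic_trivial hP.isPGroup hAP (hco.symm.coprime_dvd_left (Subgroup.card_dvd_of_le hP.1))
      (hUP hu) hu1 (Subgroup.mem_inf.1 (hU.1 hu)).2
    have hd : Nat.card P ∣ Nat.card C := Subgroup.card_dvd_of_le (le_inf hP.1 hPC)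
    have hmul : Nat.card C * C.relIndex K = Nat.card K := by
      rw [← card_subgroupOf (inf_le_left : C ≤ K), Subgroup.relIndex, Subgroup.card_mul_index]
    rw [hP.2] at hd
    have : p ^ ((Nat.card K).factorization p + 1) ∣ Nat.card K := by
      rw [pow_succ]
      conv_rhs => rw [← hmul]
      exact mul_dvd_mul hd hpi
    have := (hp.pow_dvd_iff_le_factorization Nat.card_pos.ne').1 this
    omega
  -- X is cyclic
  set D := ⁅X, X⁆ with hD
  have hDX : D ≤ X := Subgroup.commutator_le_self X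
  haveI hDc : IsCyclic D := by
    haveI := IsZGroup.isCyclic_commutator (G := X)
    rw [hD, ← X.map_subtype_commutator]
    exact isCyclic_of_surjective _ ((commutator X).equivMapOfInjective _ X.subtype_injective).surjective
  have hND : ∀ g ∈ Subgroup.normalizer (X : Set Γ), g ∈ Subgroup.normalizer (D : Set Γ) := fun g hg =>
    mem_normalizer_of_conj_smul (by
      rw [hD, conj_smul_eq_map, Subgroup.map_commutator, ← conj_smul_eq_map, conj_smul_of_mem_normalizer hg])
  have hker : ∀ x ∈ X, ∀ a ∈ A, ⁅x, a⁆ ∈ Subgroup.centralizer (D : Set Γ) := by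
    intro x hx a ha
    obtain ⟨g, hg⟩ := IsCyclic.exists_generator (α := D)
    have hx' := hND x (Subgroup.le_normalizer hx)
    have ha' := hND a (hAX ha)
    letI : CommGroup (MulAut D) := { (inferInstance : Group (MulAut D)) with
      mul_comm := fun φ ψ => MulEquiv.ext fun d => by
        obtain ⟨i, hi⟩ := hg (φ g)
        obtain ⟨j, hj⟩ := hg (ψ g)
        obtain ⟨k, rfl⟩ := hg d
        simp only at hi hj ⊢
        rw [MulAut.mul_apply, MulAut.mul_apply, map_zpow, map_zpow, map_zpow, map_zpow, ← hi, ← hj, map_zpow, map_zpow,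
          ← hi, ← hj]
        simp only [← zpow_mul]
        congr 1
        ring }
    let φ := D.normalizerMonoidHom
    have h1 : φ ⁅(⟨x, hx'⟩ : Subgroup.normalizer (D : Set Γ)), ⟨a, ha'⟩⁆ = 1 := by
      rw [map_commutatorElement]
      exact commutatorElement_eq_one_iff_mul_comm.2 (mul_comm _ _)
    rw [← MonoidHom.mem_ker, Subgroup.normalizerMonoidHom_ker, Subgroup.mem_subgroupOf] at h1
    exact h1
  have hXD : X ≤ Subgroup.centralizer (D : Set Γ) := by
    rw [← hXX]
    exact Subgroup.commutator_le.2 hker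
  haveI : Group.IsNilpotent X := by
    refine Subgroup.isNilpotent_of_ker_le_center (Abelianization.of : X →* Abelianization X) ?_
    rw [Abelianization.ker_of]
    intro y hy
    refine Subgroup.mem_center_iff.2 fun z => Subtype.ext ?_
    have hy' : (y : Γ) ∈ D := by
      rw [hD, ← X.map_subtype_commutator]; exact ⟨y, hy, rfl⟩
    exact (Subgroup.mem_centralizer_iff.1 (hXD z.2) (y : Γ) hy').symm
  haveI hXc : IsCyclic X := inferInstance
  refine ⟨hXc, hKX, ?_, ?_⟩
  · letI : CommGroup X := IsCyclic.commGroup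
    haveI := Fintype.ofFinite A
    let φ : A →* MulAut X := X.normalizerMonoidHom.comp (Subgroup.inclusion hAX)
    let f : X →* X := MonoidHom.mk' (fun x => ∏ a : A, φ a x) fun x y => by
      rw [← Finset.prod_mul_distrib]; simp only [map_mul]
    have hf1 : ∀ (x : X) (b : A), f (φ b x) = f x := fun x b => by
      show ∏ a : A, φ a (φ b x) = ∏ a : A, φ a x
      rw [← Fintype.prod_equiv (Equiv.mulRight b) (fun a => φ (a * b) x) (fun a => φ a x) (fun a => rfl)]
      simp only [map_mul, MulAut.mul_apply]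
    have hf : X ≤ f.ker.map X.subtype := by
      conv_lhs => rw [← hXX]
      refine Subgroup.commutator_le.2 fun x hx a ha => ?_
      refine ⟨⟨x, hx⟩ * (φ ⟨a, ha⟩ ⟨x, hx⟩)⁻¹, ?_, ?_⟩
      · rw [SetLike.mem_coe, MonoidHom.mem_ker, map_mul, map_inv, hf1, mul_inv_cancel]
      · show x * (a * x * a⁻¹)⁻¹ = ⁅x, a⁆
        rw [commutatorElement_def]; group
    refine (Subgroup.eq_bot_iff_forall _).2 fun x hx => ?_
    obtain ⟨hxX, hxA⟩ := Subgroup.mem_inf.1 hx
    obtain ⟨y, hy, hyx⟩ := hf hxX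
    have e : ∀ a : A, φ a y = y := fun a => Subtype.ext (by
      show (a : Γ) * (y : Γ) * (a : Γ)⁻¹ = y
      rw [show (y : Γ) = x from hyx, Subgroup.mem_centralizer_iff.1 hxA a a.2, mul_inv_cancel_right])
    have h1 : ∏ a : A, φ a y = 1 := hy
    rw [Finset.prod_congr rfl (fun a _ => e a), Finset.prod_const, Finset.card_univ, ← Nat.card_eq_fintype_card] at h1
    have h2 : orderOf y ∣ Nat.card A := orderOf_dvd_of_pow_eq_one h1
    have h3 : orderOf y ∣ Nat.card K := (orderOf_dvd_natCard y).trans (Subgroup.card_dvd_of_le hXK)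
    rw [← hyx, show y = 1 from orderOf_eq_one_iff.1 (Nat.eq_one_of_dvd_coprimes hco h2 h3), map_one]
  · exact commutator_sup_fixed hAK hco hsol

/-- Let A be a finite group acting on the finite group G by automorphisms with the orders of A and G coprime, and suppose every Sylow subgroup of G is cyclic. Then the fixed-point subgroup C_G(A) is a Hall subgroup of G (its order is coprime to its index), the subgroup [G, A] generated by the elements g⁻¹·a(g) is cyclic and normal with [G, A] ∩ C_G(A) = 1 and [G, A]·C_G(A) = G. -/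
theorem result {G A : Type*} [Group G] [Finite G] [Group A] [Finite A]
    [MulDistribMulAction A G] (hcop : (Nat.card A).Coprime (Nat.card G))
    (hcyc : ∀ (p : ℕ) [Fact p.Prime] (P : Sylow p G), IsCyclic (P : Subgroup G)) :
    (Nat.card (MulAction.fixedPoints A G : Set G)).Coprime (Nat.card G / Nat.card (MulAction.fixedPoints A G : Set G)) ∧
    IsCyclic (Subgroup.closure {y : G | ∃ (a : A) (g : G), y = g⁻¹ * a • g}) ∧
    (Subgroup.closure {y : G | ∃ (a : A) (g : G), y = g⁻¹ * a • g}).Normal ∧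
    (Subgroup.closure {y : G | ∃ (a : A) (g : G), y = g⁻¹ * a • g} : Set G) ∩ MulAction.fixedPoints A G = {1} ∧
    Subgroup.closure {y : G | ∃ (a : A) (g : G), y = g⁻¹ * a • g} ⊔ Subgroup.closure (MulAction.fixedPoints A G) = ⊤ := by
  classical
  let φ : A →* MulAut G := MulDistribMulAction.toMulAut A G
  haveI : Finite (SemidirectProduct G A φ) := Finite.of_equiv _ SemidirectProduct.equivProd.symm
  let ι : G →* SemidirectProduct G A φ := SemidirectProduct.inl
  have hι : Function.Injective ι := SemidirectProduct.inl_injective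
  set K := ι.range with hK
  set A' := (SemidirectProduct.inr (φ := φ)).range with hA'
  have hn : ∀ (a : A) (x : G), (SemidirectProduct.inr a : SemidirectProduct G A φ) *
      ι x * (SemidirectProduct.inr a)⁻¹ = ι (a • x) := by
    intro a x
    rw [← map_inv, ← SemidirectProduct.inl_aut]
    rfl
  have hAK : A' ≤ Subgroup.normalizer (K : Set (SemidirectProduct G A φ)) := by
    rintro _ ⟨a, rfl⟩
    refine Subgroup.mem_normalizer_fintype ?_
    rintro _ ⟨x, rfl⟩
    exact ⟨a • x, (hn a x).symm⟩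
  have hcA : Nat.card A' = Nat.card A :=
    (Nat.card_congr (MonoidHom.ofInjective SemidirectProduct.inr_injective).toEquiv).symm
  have hcK : Nat.card K = Nat.card G :=
    (Nat.card_congr (MonoidHom.ofInjective hι).toEquiv).symm
  haveI : IsZGroup G := ⟨fun p hp P => by haveI := Fact.mk hp; exact hcyc p P⟩
  haveI : IsZGroup K := IsZGroup.of_surjective (f := ι.rangeRestrict) ι.rangeRestrict_surjective
  obtain ⟨h1, h2, h3, h4, h5⟩ := main A' K hAK (by rwa [hcA, hcK])
  let C : Subgroup G :=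
    { carrier := MulAction.fixedPoints A G
      one_mem' := fun a => smul_one a
      mul_mem' := fun hx hy a => by rw [smul_mul', hx a, hy a]
      inv_mem' := fun {x} hx a => by rw [smul_inv', hx a] }
  set X := Subgroup.closure {y : G | ∃ (a : A) (g : G), y = g⁻¹ * a • g} with hX
  have hC : C.map ι = K ⊓ Subgroup.centralizer (A' : Set (SemidirectProduct G A φ)) := by
    ext z
    constructor
    · rintro ⟨x, hx, rfl⟩
      refine ⟨⟨x, rfl⟩, Subgroup.mem_centralizer_iff.2 ?_⟩
      rintro _ ⟨a, rfl⟩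
      exact mul_inv_eq_iff_eq_mul.1 ((hn a x).trans (congrArg ι (hx a)))
    · rintro ⟨⟨x, rfl⟩, hx⟩
      refine ⟨x, fun a => hι ?_, rfl⟩
      rw [← hn, Subgroup.mem_centralizer_iff.1 hx _ ⟨a, rfl⟩, mul_inv_cancel_right]
  have hgen : ∀ (a : A) (g : G), ι (g⁻¹ * a • g) = ⁅ι g⁻¹, (SemidirectProduct.inr a : SemidirectProduct G A φ)⁆ := by
    intro a g
    rw [commutatorElement_def, map_mul, ← hn, map_inv, inv_inv]
    group
  have hXm : X.map ι = ⁅K, A'⁆ := by
    rw [hX, MonoidHom.map_closure, Subgroup.commutator_def]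
    congr 1
    ext z
    constructor
    · rintro ⟨_, ⟨a, g, rfl⟩, rfl⟩
      exact ⟨ι g⁻¹, ⟨g⁻¹, rfl⟩, _, ⟨a, rfl⟩, (hgen a g).symm⟩
    · rintro ⟨_, ⟨x, rfl⟩, _, ⟨a, rfl⟩, rfl⟩
      exact ⟨_, ⟨a, x⁻¹, rfl⟩, by rw [hgen, inv_inv]⟩
  haveI := h2
  refine ⟨?_, ?_, ?_, ?_, ?_⟩
  · have hC' : Nat.card (MulAction.fixedPoints A G : Set G) = Nat.card C := rfl
    rw [hC']
    rw [← hC, hK, MonoidHom.range_eq_map, Subgroup.relIndex_map_map_of_injective _ _ hι,
      Subgroup.relIndex_top_right, Subgroup.card_map_of_injective hι] at h1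
    rwa [show Nat.card G / Nat.card C = C.index from
      Nat.div_eq_of_eq_mul_left Nat.card_pos (Subgroup.index_mul_card C).symm]
  · haveI : IsCyclic (X.map ι) := hXm ▸ h2
    exact isCyclic_of_surjective _ (X.equivMapOfInjective ι hι).symm.surjective
  · refine ⟨fun x hx g => ?_⟩
    have := (Subgroup.mem_normalizer_iff.1 (h3 ⟨g, rfl⟩) (ι x)).1 (hXm ▸ Subgroup.mem_map_of_mem ι hx)
    rw [← map_inv, ← map_mul, ← map_mul, ← hXm] at this
    exact (Subgroup.mem_map_iff_mem hι).1 this
  · refine Set.Subset.antisymm ?_ (Set.singleton_subset_iff.2 ⟨one_mem X, fun a => smul_one a⟩)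
    rintro x ⟨hx, hxC⟩
    have hz : ι x ∈ ⁅K, A'⁆ ⊓ Subgroup.centralizer (A' : Set (SemidirectProduct G A φ)) := by
      refine ⟨hXm ▸ Subgroup.mem_map_of_mem ι hx, ?_⟩
      have : ι x ∈ C.map ι := ⟨x, hxC, rfl⟩
      rw [hC] at this
      exact this.2
    rw [h4, Subgroup.mem_bot] at hz
    exact hι (hz.trans (map_one ι).symm)
  · rw [show (MulAction.fixedPoints A G : Set G) = (C : Set G) from rfl, Subgroup.closure_eq]
    apply Subgroup.map_injective hι
    rw [Subgroup.map_sup, hXm, hC, h5, hK, MonoidHom.range_eq_map]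

end Cfsg.Agent.S4117
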