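import Cfsg.Statements.S4118
import Cfsg.Agent.Lib.Perm.TIHall
import Cfsg.Agent.Lib.Perm.Fpf.Solvable

set_option autoImplicit false
set_option linter.style.haveILetI false
open Cfsg

namespace Cfsg.Agent.S4118

open Cfsg.Agent.Perm.TIHall Cfsg.Agent.Perm.Fpf Cfsg.Agent.Solv
open scoped Pointwise commutatorElement

variable {G : Type*} [Group G] [Finite G] {H : Subgroup G}

theorem solvable_sup_of (N K : Subgroup G) [N.Normal] [Group.IsSolvable N] [Group.IsSolvable K] :
    Group.IsSolvable (N ⊔ K : Subgroup G) := by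
  let L : Subgroup G := N ⊔ K
  haveI : Group.IsSolvable (N.subgroupOf L) :=
    Group.isSolvable_of_surjective
      (f := (Subgroup.subgroupOfEquivOfLe (le_sup_left : N ≤ L)).symm.toMonoidHom)
      (Subgroup.subgroupOfEquivOfLe (le_sup_left : N ≤ L)).symm.surjective
  let f : K →* L ⧸ N.subgroupOf L :=
    (QuotientGroup.mk' (N.subgroupOf L)).comp (Subgroup.inclusion (le_sup_right : K ≤ L))
  have hf : Function.Surjective f := by
    intro q
    obtain ⟨⟨x, hx⟩, rfl⟩ := QuotientGroup.mk'_surjective _ q
    rw [← SetLike.mem_coe, Subgroup.normal_mul] at hx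
    obtain ⟨n, hn, k, hk, rfl⟩ := Set.mem_mul.1 hx
    refine ⟨⟨k, hk⟩, ?_⟩
    refine (QuotientGroup.eq (s := N.subgroupOf L)).2 ?_
    show k⁻¹ * (n * k) ∈ N
    rw [← mul_assoc]
    simpa using ‹N.Normal›.conj_mem n hn k⁻¹
  haveI := Group.isSolvable_of_surjective hf
  exact (Group.isSolvable_iff_subgroup_quotient (N.subgroupOf L)).2 ⟨inferInstance, inferInstance⟩

theorem core_inf (H : Subgroup G) : core H ⊓ H = ⊥ :=
  Subgroup.inf_eq_bot_of_coprime (core_coprime H)

theorem mem_centralizer_of_core (hH : Hyp H) {x : G} (hx : x ∈ core H)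
    (hxN : x ∈ Subgroup.normalizer (H : Set G)) : x ∈ Subgroup.centralizer (H : Set G) :=
  centralizer_of_normalizes
    (fun a _ => by rw [Subgroup.normalizer_eq_top]; exact Subgroup.mem_top a)
    (core_inf H) hx hxN

theorem mem_normalizer_of_commute (hH : Hyp H) {x h : G} (hh : h ∈ H) (h1 : h ≠ 1)
    (hc : x * h = h * x) : x ∈ Subgroup.normalizer (H : Set G) :=
  hH.ti_mem hh (by rw [mul_inv_eq_iff_eq_mul.2 hc]; exact hh) h1

theorem comm_quotient {A : Type*} [Group A] (M : Subgroup A) [M.Normal] (hM : commutator A ≤ M)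
    (a b : A ⧸ M) : a * b = b * a := by
  obtain ⟨a, rfl⟩ := QuotientGroup.mk'_surjective M a
  obtain ⟨b, rfl⟩ := QuotientGroup.mk'_surjective M b
  rw [← map_mul, ← map_mul]
  refine (QuotientGroup.eq).2 (hM ?_)
  rw [show (a * b)⁻¹ * (b * a) = ⁅b⁻¹, a⁻¹⁆ by rw [commutatorElement_def]; group]
  exact Subgroup.commutator_mem_commutator (Subgroup.mem_top _) (Subgroup.mem_top _)

theorem hasFpf (hH : Hyp H) [hO : Group.IsSolvable (core H)] : HasFpf H := by
  classical
  set O := core H with hOdef
  set N := Subgroup.normalizer (H : Set G) with hN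
  have hON : ¬ O ≤ N := fun hle => hH.nn (Subgroup.normalizer_eq_top_iff.1 (by
    rw [← hN, eq_top_iff, ← hH.core_sup_normalizer]; exact sup_le hle le_rfl))
  obtain ⟨n, hn⟩ := id hO
  let A : ℕ → Subgroup G := fun k => (derivedSeries O k).map O.subtype
  have hA0 : ¬ A 0 ≤ N := by
    show ¬ (derivedSeries O 0).map O.subtype ≤ N
    rw [derivedSeries_zero, ← MonoidHom.range_eq_map, Subgroup.range_subtype]; exact hON
  have hAn : A n ≤ N := by
    show (derivedSeries O n).map O.subtype ≤ N
    rw [hn, Subgroup.map_bot]; exact bot_le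
  obtain ⟨k, hk1, hk2⟩ : ∃ k, ¬ A k ≤ N ∧ A (k + 1) ≤ N := by
    by_contra hno
    push Not at hno
    have hall : ∀ j, ¬ A j ≤ N := fun j => by
      induction j with
      | zero => exact hA0
      | succ j ih => exact hno j ih
    exact hall n hAn
  have hsucc : A (k + 1) = ⁅A k, A k⁆ := by
    show (derivedSeries O (k + 1)).map O.subtype = _
    rw [derivedSeries_succ, Subgroup.map_commutator]
  haveI : (derivedSeries O k).Characteristic := derivedSeries_characteristic O k
  haveI : (A k).Normal := inferInstanceAs (((derivedSeries O k).map O.subtype).Normal)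
  have hAO : A k ≤ O := Subgroup.map_subtype_le _
  set M : Subgroup (A k) := (A k ⊓ N).subgroupOf (A k) with hM
  have hcomm : commutator (A k) ≤ M := by
    rw [commutator_def, Subgroup.commutator_le]
    intro a _ b _
    refine ⟨(⁅a, b⁆ : A k).2, hk2 ?_⟩
    rw [hsucc]
    exact Subgroup.commutator_mem_commutator a.2 b.2
  haveI hMn : M.Normal := by
    refine ⟨fun m hm g => ?_⟩
    have : ⁅g, m⁆ * m ∈ M :=
      mul_mem (hcomm (Subgroup.commutator_mem_commutator (Subgroup.mem_top _)
        (Subgroup.mem_top _))) hm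
    rwa [commutatorElement_def, inv_mul_cancel_right] at this
  letI : CommGroup (A k ⧸ M) :=
    { (inferInstance : Group (A k ⧸ M)) with mul_comm := comm_quotient M hcomm }
  haveI : Nontrivial (A k ⧸ M) := by
    rw [← Finite.one_lt_card_iff_nontrivial, ← Subgroup.index_eq_card]
    have : M.index ≠ 1 := by
      rw [Ne, Subgroup.index_eq_one, hM, Subgroup.subgroupOf_eq_top]
      exact fun hle => hk1 (hle.trans inf_le_right)
    have := Subgroup.index_ne_zero_of_finite (H := M)
    omega
  have hMinv : ∀ h : H, M ≤ M.comap (MulAut.conjNormal (H := A k) (h : G)).toMonoidHom := by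
    intro h a ha
    refine ⟨(MulAut.conjNormal (H := A k) (h : G) a).2, ?_⟩
    show ((MulAut.conjNormal (h : G) a : A k) : G) ∈ N
    rw [MulAut.conjNormal_apply]
    have hhN : (h : G) ∈ N := Subgroup.le_normalizer h.2
    exact mul_mem (mul_mem hhN (Subgroup.mem_subgroupOf.1 ha).2) (inv_mem hhN)
  let ψ : H → (A k ⧸ M →* A k ⧸ M) := fun h =>
    QuotientGroup.map M M (MulAut.conjNormal (H := A k) (h : G)).toMonoidHom (hMinv h)
  have hψ : ∀ h a, ψ h (QuotientGroup.mk a) = QuotientGroup.mk (MulAut.conjNormal (h : G) a) :=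
    fun h a => rfl
  have hψmul : ∀ g h x, ψ (g * h) x = ψ g (ψ h x) := by
    intro g h x
    induction x using QuotientGroup.induction_on with
    | H a => rw [hψ, hψ, hψ, Subgroup.coe_mul, map_mul]; rfl
  have hψone : ∀ x, ψ 1 x = x := by
    intro x
    induction x using QuotientGroup.induction_on with
    | H a => rw [hψ, OneMemClass.coe_one, map_one]; rfl
  let φ : H →* MulAut (A k ⧸ M) :=
    { toFun := fun h =>
        { toFun := ψ h
          invFun := ψ h⁻¹
          left_inv := fun x => by rw [← hψmul, inv_mul_cancel, hψone]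
          right_inv := fun x => by rw [← hψmul, mul_inv_cancel, hψone]
          map_mul' := map_mul (ψ h) }
      map_one' := MulEquiv.ext hψone
      map_mul' := fun g h => MulEquiv.ext (hψmul g h) }
  refine hasFpf_of_commGroup φ fun h hh x hx => ?_
  obtain ⟨a, rfl⟩ := QuotientGroup.mk_surjective x
  have hh1 : (h : G) ≠ 1 := fun e => hh (Subtype.ext e)
  have hcond : ∀ t ∈ Subgroup.zpowers (h : G),
      (a : G)⁻¹ * (t * a * t⁻¹) ∈ A k ⊓ N := by
    rintro _ ⟨j, rfl⟩
    have e : φ (h ^ j) (QuotientGroup.mk a) = QuotientGroup.mk a := by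
      induction j using Int.induction_on with
      | zero => rw [zpow_zero, map_one]; rfl
      | succ i ih => rw [zpow_add_one, map_mul, MulAut.mul_apply, hx, ih]
      | pred i ih =>
        rw [zpow_sub_one, map_mul, MulAut.mul_apply, map_inv, MulAut.inv_def]
        conv_lhs => arg 2; rw [show (φ h).symm (QuotientGroup.mk a) = QuotientGroup.mk a from
          (φ h).symm_apply_eq.2 hx.symm]
        exact ih
    have e2 := (QuotientGroup.eq (s := M)).1 e.symm
    rw [hM, Subgroup.mem_subgroupOf] at e2
    rw [Subgroup.coe_mul, Subgroup.coe_inv, MulEquiv.coe_toMonoidHom, MulAut.conjNormal_apply,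
      SubgroupClass.coe_zpow] at e2
    exact e2
  have hco : (Nat.card (Subgroup.zpowers (h : G))).Coprime (Nat.card (A k ⊓ N : Subgroup G)) :=
    ((core_coprime H).coprime_dvd_left
      (Subgroup.card_dvd_of_le (inf_le_left.trans hAO))).symm.coprime_dvd_left
        (Subgroup.card_dvd_of_le (Subgroup.zpowers_le.2 h.2))
  have hzN : Subgroup.zpowers (h : G) ≤ Subgroup.normalizer ((A k ⊓ N : Subgroup G) : Set G) := by
    rw [Subgroup.zpowers_le, Subgroup.mem_normalizer_iff]
    intro t
    have hhN : (h : G) ∈ N := Subgroup.le_normalizer h.2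
    have hiff : ∀ s : G, s ∈ A k ⊓ N → (h : G) * s * (h : G)⁻¹ ∈ A k ⊓ N := fun s hs =>
      ⟨‹(A k).Normal›.conj_mem s hs.1 h, N.mul_mem (N.mul_mem hhN hs.2) (N.inv_mem hhN)⟩
    refine ⟨hiff t, fun ht => ⟨?_, ?_⟩⟩
    · have := ‹(A k).Normal›.conj_mem _ ht.1 (h : G)⁻¹
      simpa [mul_assoc] using this
    · have := mul_mem (mul_mem (inv_mem hhN) ht.2) hhN
      simpa [mul_assoc] using this
  obtain ⟨d, hd, hxd⟩ := exists_fixed_in_coset _ (A k ⊓ N) hzN hco
    (Or.inl (Group.isSolvable_of_comm fun u v => mul_comm' u v)) hcond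
  have hmem : (a : G) * d ∈ A k := mul_mem a.2 hd.1
  have hzH : Subgroup.zpowers (h : G) ≤ H := Subgroup.zpowers_le.2 h.2
  have hinf : O ⊓ Subgroup.zpowers (h : G) = ⊥ :=
    eq_bot_iff.2 ((inf_le_inf_left O hzH).trans (core_inf H).le)
  have hcz := centralizer_of_normalizes
    (fun t _ => by rw [Subgroup.normalizer_eq_top]; exact Subgroup.mem_top t)
    hinf (hAO hmem) hxd
  have hcom : (a : G) * d * h = h * ((a : G) * d) :=
    (Subgroup.mem_centralizer_iff.1 hcz _ (Subgroup.mem_zpowers (h : G))).symm
  have haN := mem_normalizer_of_commute hH h.2 hh1 hcom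
  rw [QuotientGroup.eq_one_iff, hM, Subgroup.mem_subgroupOf]
  exact ⟨a.2, (Subgroup.mul_mem_cancel_right _ hd.2).1 haN⟩

theorem centralizer_le (hH : Hyp H) :
    Subgroup.centralizer (H : Set G) ≤ core H ⊔ H := by
  set C := Subgroup.centralizer (H : Set G) with hC
  set N := Subgroup.normalizer (H : Set G) with hN
  set Z := (C ⊓ H).subgroupOf C with hZ
  have hCN : C ≤ N := fun x hx => Subgroup.mem_normalizer_iff.2 fun y => by
    constructor
    · intro hy
      rw [← Subgroup.mem_centralizer_iff.1 hx y hy, mul_inv_cancel_right]; exact hy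
    · intro hy
      have := Subgroup.mem_centralizer_iff.1 (inv_mem hx) _ hy
      rw [show x⁻¹ * (x * y * x⁻¹) = y * x⁻¹ by group] at this
      rwa [← mul_right_cancel this]
  have hZcent : ∀ z ∈ Z, ∀ c : C, c * z = z * c := fun z hz c =>
    Subtype.ext (Subgroup.mem_centralizer_iff.1 c.2 _ (Subgroup.mem_subgroupOf.1 hz).2).symm
  haveI : Z.Normal := ⟨fun z hz c => by rwa [hZcent z hz c, mul_inv_cancel_right]⟩
  have hZidx : (Nat.card Z).Coprime Z.index := by
    have hcard : Nat.card Z = Nat.card (C ⊓ H : Subgroup G) :=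
      Nat.card_congr (Subgroup.subgroupOfEquivOfLe inf_le_left).toEquiv
    rw [hcard]
    refine (hH.hall.coprime_dvd_left (Subgroup.card_dvd_of_le inf_le_right)).coprime_dvd_right ?_
    show (C ⊓ H).relIndex C ∣ H.relIndex N
    rw [Subgroup.inf_relIndex_left]
    haveI : (H.subgroupOf N).Normal := Subgroup.normal_in_normalizer
    rw [← Subgroup.relIndex_subgroupOf hCN]
    exact Subgroup.relIndex_dvd_index_of_normal _ _
  obtain ⟨L, hL⟩ := Subgroup.exists_right_complement'_of_coprime hZidx
  haveI hLn : L.Normal := by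
    refine ⟨fun l hl c => ?_⟩
    obtain ⟨⟨z, l'⟩, hzl, -⟩ := hL.existsUnique c
    have hzl' : (z : C) * (l' : C) = c := hzl
    have hm : (l' : C) * l * (l' : C)⁻¹ ∈ L := mul_mem (mul_mem l'.2 hl) (inv_mem l'.2)
    rw [← hzl', show (z : C) * l' * l * ((z : C) * l')⁻¹ =
      (z : C) * ((l' : C) * l * (l' : C)⁻¹) * (z : C)⁻¹ by group, ← hZcent z z.2,
      mul_inv_cancel_right]
    exact hm
  have hLcard : Nat.card L = Z.index := hL.symm.index_eq_card.symm
  have hLidx : L.index = Nat.card Z := hL.index_eq_card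
  have hZH : Nat.card Z ∣ Nat.card H := by
    rw [Nat.card_congr (Subgroup.subgroupOfEquivOfLe inf_le_left).toEquiv]
    exact Subgroup.card_dvd_of_le inf_le_right
  have hLco : (Nat.card L).Coprime (Nat.card H) := by
    rw [hLcard]
    show ((C ⊓ H).relIndex C).Coprime (Nat.card H)
    refine (Nat.Coprime.coprime_dvd_right ?_ hH.hall).symm
    show (C ⊓ H).relIndex C ∣ H.relIndex N
    rw [Subgroup.inf_relIndex_left]
    haveI : (H.subgroupOf N).Normal := Subgroup.normal_in_normalizer
    rw [← Subgroup.relIndex_subgroupOf hCN]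
    exact Subgroup.relIndex_dvd_index_of_normal _ _
  set L' := L.map C.subtype with hL'
  have hNL : ∀ n ∈ N, ∀ l ∈ L', n * l * n⁻¹ ∈ L' := by
    rintro n hn _ ⟨l, hl, rfl⟩
    have hc : n * (l : G) * n⁻¹ ∈ C := by
      show n * (l : G) * n⁻¹ ∈ Subgroup.centralizer (H : Set G)
      rw [Subgroup.mem_centralizer_iff]
      intro y hy
      have hy' : n⁻¹ * y * n ∈ H := by
        have := (Subgroup.mem_normalizer_iff.1 (inv_mem hn) y).1 hy
        simpa using this
      have e := Subgroup.mem_centralizer_iff.1 l.2 _ hy'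
      calc y * (n * l * n⁻¹) = n * (n⁻¹ * y * n * l) * n⁻¹ := by group
        _ = n * ((l : G) * (n⁻¹ * y * n)) * n⁻¹ := by rw [e]
        _ = _ := by group
    refine ⟨⟨_, hc⟩, ?_, rfl⟩
    have ho : orderOf (⟨_, hc⟩ : C) ∣ Nat.card L := by
      rw [Subgroup.orderOf_mk, show n * (l : G) * n⁻¹ = MulAut.conj n (l : G) from rfl,
        MulEquiv.orderOf_eq, Subgroup.orderOf_coe, ← Subgroup.orderOf_mk l hl]
      exact orderOf_dvd_natCard _
    show (⟨_, hc⟩ : C) ∈ L
    rw [← QuotientGroup.eq_one_iff, ← orderOf_eq_one_iff]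
    refine Nat.eq_one_of_dvd_coprimes hLco ((orderOf_map_dvd (QuotientGroup.mk' L) _).trans ho)
      ((orderOf_dvd_natCard _).trans ?_)
    rw [← Subgroup.index_eq_card, hLidx]; exact hZH
  haveI : (core H ⊔ L').Normal := by
    rw [← Subgroup.normalizer_eq_top_iff, eq_top_iff, ← hH.core_sup_normalizer]
    refine sup_le (le_sup_left.trans Subgroup.le_normalizer) fun n hn => ?_
    refine mem_normalizer_of_conj_smul ?_
    rw [Subgroup.smul_sup]
    congr 1
    · exact conj_smul_of_mem_normalizer (by
        rw [Subgroup.normalizer_eq_top]; exact Subgroup.mem_top n)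
    · refine conj_smul_of_mem_normalizer (Subgroup.mem_normalizer_iff.2 fun l => ⟨hNL n hn l, ?_⟩)
      intro hl
      have := hNL n⁻¹ (inv_mem hn) _ hl
      simpa [mul_assoc] using this
  have hle : L' ≤ core H := by
    refine le_sup_right.trans (le_core (K := core H ⊔ L') ?_)
    refine ((core_coprime H).mul_left ?_).coprime_dvd_left
      (Cfsg.Agent.Solv.card_sup_dvd (core H) L')
    rw [hL', Subgroup.card_map_of_injective C.subtype_injective]; exact hLco
  intro c hc
  obtain ⟨⟨z, l⟩, hzl, -⟩ := hL.existsUnique ⟨c, hc⟩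
  rw [← show ((z : C) : G) * ((l : C) : G) = c from congrArg Subtype.val hzl]
  exact mul_mem (Subgroup.mem_sup_right (Subgroup.mem_subgroupOf.1 z.2).2)
    (Subgroup.mem_sup_left (hle ⟨l, l.2, rfl⟩))

theorem solvable_of (hH : Hyp H) [Group.IsSolvable (core H)]
    (hno : ∀ K : Subgroup G, K ≤ H → ¬ Nonempty (K ≃* Matrix.SpecialLinearGroup (Fin 2) (ZMod 5))) :
    Group.IsSolvable G := by
  classical
  have hF := hasFpf hH
  haveI : Group.IsSolvable H := by
    by_contra hns
    refine hF.elim fun ρ hρ => ?_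
    obtain ⟨e⟩ := hρ.triSub_iso hns
    exact hno ((triSub H).map H.subtype) (Subgroup.map_subtype_le _)
      ⟨((triSub H).equivMapOfInjective H.subtype H.subtype_injective).symm.trans e⟩
  haveI : Group.IsSolvable (MulAut H) := hF.elim fun ρ hρ => hρ.solvable_mulAut
  set N := Subgroup.normalizer (H : Set G) with hN
  haveI := solvable_sup_of (core H) H
  haveI : Group.IsSolvable ((Subgroup.centralizer (H : Set G)).subgroupOf N) := by
    have hle : ∀ x : (Subgroup.centralizer (H : Set G)).subgroupOf N, ((x : N) : G) ∈ core H ⊔ H :=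
      fun x => centralizer_le hH x.2
    exact Group.isSolvable_of_isSolvable_injective
      (f := (N.subtype.comp ((Subgroup.centralizer (H : Set G)).subgroupOf N).subtype).codRestrict
        _ hle) fun x y e => by
        have e' : ((x : N) : G) = ((y : N) : G) :=
          congrArg (fun t : ↥(core H ⊔ H) => (t : G)) e
        exact Subtype.ext (Subtype.ext e')
  haveI : Group.IsSolvable N := Group.isSolvable_of_ker_le_range
    ((Subgroup.centralizer (H : Set G)).subgroupOf N).subtype H.normalizerMonoidHom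
    (by rw [Subgroup.normalizerMonoidHom_ker, Subgroup.range_subtype])
  let f : N →* G ⧸ core H := (QuotientGroup.mk' (core H)).comp N.subtype
  have hf : Function.Surjective f := by
    rw [← MonoidHom.range_eq_top, MonoidHom.range_comp, Subgroup.range_subtype]
    have := congrArg (Subgroup.map (QuotientGroup.mk' (core H))) hH.core_sup_normalizer
    rw [Subgroup.map_sup, QuotientGroup.map_mk'_self, bot_sup_eq,
      Subgroup.map_top_of_surjective _ (QuotientGroup.mk'_surjective _)] at this
    exact this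
  haveI := Group.isSolvable_of_surjective hf
  exact (Group.isSolvable_iff_subgroup_quotient (core H)).2 ⟨inferInstance, inferInstance⟩


/-- Let G be a finite group and H a non-normal subgroup meeting each of its conjugates by elements outside N_G(H) trivially, with the order of H coprime to its index in N_G(H); let π be the set of primes dividing the order of H and suppose G is π-separable (it has a chain of normal subgroups from 1 to G each of whose factors has order divisible only by primes in π or coprime to the order of H). Let O be the largest normal subgroup of G of order coprime to the order of H. Then G = O·N_G(H), O·H is normal in G, and G is solvable if and only if O is solvable and H has no subgroup isomorphic to SL₂(5). -/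
theorem result {G : Type*} [Group G] [Finite G] (H : Subgroup G)
    (hTI : Cfsg.IsTISubset (H : Set G)) (hnn : ¬ H.Normal)
    (hHall : (Nat.card H).Coprime (H.subgroupOf (Subgroup.normalizer (H : Set G))).index)
    (hsep : ∃ (n : ℕ) (M : Fin (n + 1) → Subgroup G), M 0 = ⊥ ∧ M (Fin.last n) = ⊤ ∧ Monotone M ∧ (∀ i, (M i).Normal) ∧
      ∀ i : Fin n, (∀ q : ℕ, q.Prime → q ∣ (M i.castSucc).relIndex (M i.succ) → q ∣ Nat.card H) ∨
        ((M i.castSucc).relIndex (M i.succ)).Coprime (Nat.card H))
    (O : Subgroup G) (hO : O = sSup {K : Subgroup G | K.Normal ∧ (Nat.card K).Coprime (Nat.card H)}) :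
    O ⊔ Subgroup.normalizer (H : Set G) = ⊤ ∧ (O ⊔ H).Normal ∧
    (Group.IsSolvable G ↔ Group.IsSolvable O ∧
      ∀ K : Subgroup G, K ≤ H → ¬ Nonempty (K ≃* Matrix.SpecialLinearGroup (Fin 2) (ZMod 5))) := by
  have hH : Hyp H := ⟨hTI, hnn, hHall, hsep⟩
  have hOc : O = core H := hO
  subst hOc
  refine ⟨hH.core_sup_normalizer, hH.core_sup_normal, fun hG => ⟨inferInstance, ?_⟩, ?_⟩
  · intro K _ hK
    haveI := hG
    exact not_solvable_of_iso hK inferInstance
  · rintro ⟨hsO, hno⟩
    haveI := hsO
    exact solvable_of hH hno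

end Cfsg.Agent.S4118
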