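import Cfsg.Statements.S4126
import Cfsg.Agent.Lib.Fusion.OmegaSeries
import Cfsg.Agent.Lib.Fusion.KInf
import Cfsg.Agent.Lib.Fusion.Cores

set_option autoImplicit false
open Cfsg
open Cfsg.Agent.Local.FS (IsOmega)
open scoped commutatorElement

namespace Cfsg.Agent.S4126

section Aux

universe u
variable {G : Type u} [Group G] [Finite G] {p : ℕ} [hp : Fact p.Prime]

theorem exists_sylow_conj {x : G} {a : ℕ}
    (hx : (Subgroup.centralizer ({x} : Set G)).index = p ^ a) (S : Sylow p G) (g : G) :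
    ∃ s ∈ (S : Subgroup G), g * x * g⁻¹ = s * x * s⁻¹ := by
  set C := Subgroup.centralizer ({x} : Set G) with hC
  have hd : C.index ∣ C.relIndex (S : Subgroup G) := by
    have h1 := Subgroup.relIndex_mul_index (inf_le_right : C ⊓ (S : Subgroup G) ≤ S)
    have h2 := Subgroup.relIndex_mul_index (inf_le_left : C ⊓ (S : Subgroup G) ≤ C)
    rw [Subgroup.inf_relIndex_right] at h1
    rw [← h1] at h2
    refine Nat.Coprime.dvd_of_dvd_mul_right ?_ ⟨_, h2.symm.trans (mul_comm _ _)⟩
    rw [hx]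
    exact Nat.Coprime.pow_left a ((Nat.Prime.coprime_iff_not_dvd hp.out).2 S.not_dvd_index)
  let f : ↥(S : Subgroup G) ⧸ C.subgroupOf (S : Subgroup G) → G ⧸ C :=
    Quotient.map' Subtype.val fun a b hab => by
      rw [QuotientGroup.leftRel_apply] at hab ⊢
      exact hab
  have hf : Function.Injective f := by
    intro a b hab
    induction a using QuotientGroup.induction_on with
    | _ a =>
      induction b using QuotientGroup.induction_on with
      | _ b =>
        have hab' : ((a : G) : G ⧸ C) = ((b : G) : G ⧸ C) := hab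
        rw [QuotientGroup.eq] at hab' ⊢
        exact hab'
  have hle : Nat.card (G ⧸ C) ≤ Nat.card (↥(S : Subgroup G) ⧸ C.subgroupOf (S : Subgroup G)) :=
    Nat.le_of_dvd Nat.card_pos hd
  obtain ⟨q, hq⟩ := (hf.bijective_of_nat_card_le hle).2 (g : G ⧸ C)
  induction q using QuotientGroup.induction_on with
  | _ s =>
    refine ⟨s, s.2, ?_⟩
    have hq' : ((s : G) : G ⧸ C) = (g : G ⧸ C) := hq
    rw [QuotientGroup.eq, hC, Subgroup.mem_centralizer_iff] at hq'
    have := hq' x rfl
    calc g * x * g⁻¹ = (s : G) * (((s : G)⁻¹ * g) * x) * g⁻¹ := by group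
      _ = _ := by rw [← this]; group

theorem mem_pCore (h : ∀ x : G, IsOmega p x →
    ∃ a : ℕ, (Subgroup.centralizer ({x} : Set G)).index = p ^ a) {x : G} (hx : IsOmega p x) :
    x ∈ Cfsg.pCore p G := by
  have hpow : ∃ k : ℕ, x ^ p ^ k = 1 := by
    rcases hx with h1 | ⟨rfl, h1⟩
    · exact ⟨1, by rwa [pow_one]⟩
    · exact ⟨2, h1⟩
  have hP : IsPGroup p (Subgroup.zpowers x) := by
    obtain ⟨k, hk⟩ := hpow
    intro ⟨y, hy⟩
    obtain ⟨i, rfl⟩ := Subgroup.mem_zpowers_iff.1 hy
    refine ⟨k, Subtype.ext ?_⟩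
    show (x ^ i) ^ (p ^ k) = 1
    rw [← zpow_natCast, ← zpow_mul, mul_comm, zpow_mul, zpow_natCast, hk, one_zpow]
  obtain ⟨S, hS⟩ := hP.exists_le_sylow
  obtain ⟨a, ha⟩ := h x hx
  have hle : Subgroup.normalClosure ({x} : Set G) ≤ (S : Subgroup G) := by
    rw [Subgroup.normalClosure, Subgroup.closure_le]
    intro y hy
    obtain ⟨z, rfl, hz⟩ := Group.mem_conjugatesOfSet_iff.1 hy
    obtain ⟨g, rfl⟩ := isConj_iff.1 hz
    obtain ⟨s, hs, he⟩ := exists_sylow_conj ha S g
    rw [SetLike.mem_coe, he]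
    exact mul_mem (mul_mem hs (hS (Subgroup.mem_zpowers z))) (inv_mem hs)
  exact Fusion.le_pCore (S.isPGroup'.to_le hle)
    (Subgroup.subset_normalClosure (Set.mem_singleton x))

theorem normal_omega_central (h : ∀ x : G, IsOmega p x →
    ∃ a : ℕ, (Subgroup.centralizer ({x} : Set G)).index = p ^ a)
    (D : Subgroup G) [D.Normal] (hD : IsPGroup p D) (hom : ∀ d ∈ D, IsOmega p d) :
    D ≤ Subgroup.centralizer (Cfsg.pResidual p G : Set G) := by
  set R := Cfsg.pResidual p G
  obtain ⟨S⟩ := (inferInstance : Nonempty (Sylow p G))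
  have hDS : D ≤ (S : Subgroup G) := (Fusion.le_pCore hD).trans (Fusion.pCore_le_sylow S)
  by_contra hne
  set K := D ⊓ Subgroup.centralizer (R : Set G) with hK
  haveI : Group.IsNilpotent ↥(S : Subgroup G) := S.isPGroup'.isNilpotent
  obtain ⟨⟨d, hdS⟩, hdD, hdK, hd⟩ := Fusion.exists_fixed_mod (N := K.subgroupOf (S : Subgroup G))
    (C := D.subgroupOf (S : Subgroup G)) (Q := (⊤ : Subgroup ↥(S : Subgroup G)))
    (by rw [Subgroup.normalizer_eq_top]) (fun hle => hne fun y hy =>
      (hle (show (⟨y, hDS hy⟩ : ↥(S : Subgroup G)) ∈ D.subgroupOf (S : Subgroup G) from hy) :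
        y ∈ K).2)
  change d ∈ D at hdD
  change ¬ d ∈ K at hdK
  refine hdK ⟨hdD, ?_⟩
  change d ∈ Subgroup.centralizer (R : Set G)
  rw [Subgroup.mem_centralizer_iff]
  suffices hR : R ≤ Subgroup.centralizer ({d} : Set G) from fun r hr => by
    have := Subgroup.mem_centralizer_iff.1 (hR hr) d rfl
    exact this.symm
  refine (Subgroup.closure_le _).2 fun g hg => ?_
  have hgR : g ∈ R := Subgroup.subset_closure hg
  obtain ⟨a, ha⟩ := h d (hom d hdD)
  obtain ⟨s, hs, he⟩ := exists_sylow_conj ha S g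
  set k := d⁻¹ * (g * d * g⁻¹) with hk
  have hkK : k ∈ K := by
    have h1 : d * s * d⁻¹ * s⁻¹ ∈ K := hd ⟨s, hs⟩ trivial
    have h2 := (inferInstance : K.Normal).conj_mem _ (inv_mem h1) d⁻¹
    rw [hk, he]
    convert h2 using 1
    group
  have hgk : g * k * g⁻¹ = k := by
    rw [Subgroup.mem_centralizer_iff.1 hkK.2 g hgR, mul_inv_cancel_right]
  have hpowk : ∀ j : ℕ, g ^ j * d * (g ^ j)⁻¹ = d * k ^ j := by
    intro j
    induction j with
    | zero => simp
    | succ j ih =>
      calc g ^ (j + 1) * d * (g ^ (j + 1))⁻¹ = g * (g ^ j * d * (g ^ j)⁻¹) * g⁻¹ := by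
            rw [pow_succ']; group
        _ = (g * d * g⁻¹) * (g * k ^ j * g⁻¹) := by rw [ih]; group
        _ = d * k * k ^ j := by rw [← conj_pow, hgk, hk]; group
        _ = _ := by rw [pow_succ', mul_assoc]
  have h1 := hpowk (orderOf g)
  rw [pow_orderOf_eq_one, one_mul, inv_one, mul_one] at h1
  have h2 : k ^ orderOf g = 1 := mul_left_cancel (h1.symm.trans (mul_one d).symm)
  obtain ⟨i, hi⟩ := hD ⟨k, hkK.1⟩
  have hi' : k ^ p ^ i = 1 := by simpa using congrArg Subtype.val hi
  have h3 := pow_gcd_eq_one.2 ⟨h2, hi'⟩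
  rw [Nat.Coprime.pow_right i (show (orderOf g).Coprime p from hg), pow_one] at h3
  rw [SetLike.mem_coe, Subgroup.mem_centralizer_iff]
  intro z hz
  rw [Set.mem_singleton_iff] at hz
  subst hz
  have h4 : g * z * g⁻¹ = z := by
    calc g * z * g⁻¹ = z * k := by rw [hk]; group
      _ = z := by rw [h3, mul_one]
  exact (mul_inv_eq_iff_eq_mul.1 h4).symm

theorem omega_central (h : ∀ x : G, IsOmega p x →
    ∃ a : ℕ, (Subgroup.centralizer ({x} : Set G)).index = p ^ a)
    {g : G} (hg : (orderOf g).Coprime p) {x : G} (hx : IsOmega p x) : g * x * g⁻¹ = x := by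
  set Q := Cfsg.pCore p G
  have hQ : IsPGroup p Q := Fusion.isPGroup_pCore p G
  have hn : ∀ y : G, y ∈ Subgroup.normalizer (Q : Set G) := fun y => by
    rw [Subgroup.normalizer_eq_top]; trivial
  obtain ⟨D, hinv, -, hom, hdet⟩ := Local.FS.exists_detect hQ (⊤ : Subgroup (MulAut Q))
  haveI : (D.map Q.subtype).Normal := ⟨by
    rintro _ ⟨d, hd, rfl⟩ y
    obtain ⟨α, hα, -⟩ := Fusion.exists_conj_aut (hn y)
    exact ⟨α d, hinv α (Subgroup.mem_top _) d hd, hα d⟩⟩
  have hc := normal_omega_central h (D.map Q.subtype) (hQ.to_le (Subgroup.map_subtype_le D)) (by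
    rintro _ ⟨d, hd, rfl⟩
    exact (hom d hd).imp (fun h' => congrArg Subtype.val h')
      fun h' => ⟨h'.1, congrArg Subtype.val h'.2⟩)
  obtain ⟨α, hα, hαo⟩ := Fusion.exists_conj_aut (hn g)
  have h1 : α = 1 := hdet α (Subgroup.mem_top _) (hg.coprime_dvd_left hαo) fun d hd => by
    refine Subtype.ext ?_
    rw [hα, mul_inv_eq_iff_eq_mul]
    exact Subgroup.mem_centralizer_iff.1 (hc ⟨d, hd, rfl⟩) g (Subgroup.subset_closure hg)
  have := hα ⟨x, mem_pCore h hx⟩
  rw [h1] at this
  exact this.symm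

end Aux

/-- Let G be a finite group and p a prime. Suppose every element of order p, and when p = 2 also every element of order 4, has a conjugacy class of p-power size. Then G has a normal p-complement. -/
theorem result {G : Type*} [Group G] [Finite G] (p : ℕ) [Fact p.Prime]
    (h : ∀ x : G, (orderOf x = p ∨ (p = 2 ∧ orderOf x = 4)) → ∃ a : ℕ, (Subgroup.centralizer ({x} : Set G)).index = p ^ a) :
    Cfsg.HasNormalPComplement p G := by
  have h' : ∀ x : G, IsOmega p x →
      ∃ a : ℕ, (Subgroup.centralizer ({x} : Set G)).index = p ^ a := by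
    intro x hx
    by_cases hx1 : x = 1
    · subst hx1
      refine ⟨0, ?_⟩
      rw [pow_zero, Subgroup.index_eq_one]
      exact eq_top_iff.2 fun y _ => Subgroup.mem_centralizer_iff.2 fun z hz => by
        rw [Set.mem_singleton_iff] at hz; subst hz; simp
    refine h x ?_
    rcases hx with h1 | ⟨h2, h4⟩
    · exact Or.inl (orderOf_eq_prime h1 hx1)
    · subst h2
      by_cases hx2 : x ^ 2 = 1
      · exact Or.inl (orderOf_eq_prime hx2 hx1)
      · exact Or.inr ⟨rfl, orderOf_eq_prime_pow (p := 2) (n := 1) (by simpa using hx2)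
          (by simpa using h4)⟩
  obtain ⟨S⟩ := (inferInstance : Nonempty (Sylow p G))
  refine Fusion.hnpc_of_omega_series (Fusion.sylIn_top S)
    (fun i => if i = 0 then ⊥ else ⊤) 1 rfl fun Q _ g _ hg a _ ha => ?_
  refine ⟨by simp, fun i _ => ?_⟩
  rw [omega_central h' hg ha, inv_mul_cancel]
  exact one_mem _

end Cfsg.Agent.S4126
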