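import Cfsg.Statements.S4127
import Mathlib
import Cfsg.Agent.Lib.Fusion.NPC
import Cfsg.Agent.Lib.Fusion.AB
import Cfsg.Agent.Lib.Perm.MeetsClasses

set_option autoImplicit false
open Cfsg

namespace Cfsg.Agent.S4127


open Cfsg.Agent.Fusion
open scoped Pointwise


/-- Let G be a finite group, p a prime and p^a the largest power of p dividing the size of any conjugacy class of G. If some element of p-power order has a conjugacy class of size exactly p^a, then G has a normal p-complement. -/
theorem result {G : Type*} [Group G] [Finite G] (p : ℕ) [Fact p.Prime]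
    (a : ℕ) (hmax : ∀ y : G, ¬ p ^ (a + 1) ∣ (Subgroup.centralizer ({y} : Set G)).index)
    (hx : ∃ x : G, (∃ k : ℕ, orderOf x = p ^ k) ∧ (Subgroup.centralizer ({x} : Set G)).index = p ^ a) :
    Cfsg.HasNormalPComplement p G := by
  classical
  have hp := (Fact.out : p.Prime)
  obtain ⟨x, hxp, hxa⟩ := hx
  set C := Subgroup.centralizer ({x} : Set G) with hC
  have hCi : C.index = p ^ a := hxa
  have hxC : x ∈ C := Subgroup.mem_centralizer_singleton_iff.2 rfl
  -- p'-elements of C centralise a Sylow subgroup of C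
  have hA : ∀ y : C, (orderOf y).Coprime p → ∃ S : Sylow p C, ∀ s ∈ (S : Subgroup C), Commute y s := by
    intro y hy
    have hxy : Commute x (y : G) := (Subgroup.mem_centralizer_singleton_iff.1 y.2).symm
    have hcop : (orderOf x).Coprime (orderOf (y : G)) := by
      obtain ⟨k, hk⟩ := hxp
      rw [hk, Subgroup.orderOf_coe]
      exact (hy.symm).pow_left k
    have hg := Int.gcd_eq_gcd_ab (orderOf x : ℤ) (orderOf (y : G) : ℤ)
    rw [Int.gcd_natCast_natCast, hcop.gcd_eq_one] at hg
    have hcent : Subgroup.centralizer ({x * (y : G)} : Set G) ≤ C ⊓ Subgroup.centralizer ({(y : G)} : Set G) := by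
      intro u hu
      have hu' : Commute u (x * (y : G)) := Subgroup.mem_centralizer_singleton_iff.1 hu
      have ex : x = (x * (y : G)) ^ ((orderOf (y : G) : ℤ) * Int.gcdB (orderOf x) (orderOf (y : G))) := by
        rw [hxy.mul_zpow, zpow_mul (y : G), zpow_natCast, pow_orderOf_eq_one, one_zpow, mul_one]
        conv_lhs => rw [← zpow_one x, ← Nat.cast_one, hg, zpow_add, zpow_mul x, zpow_natCast, pow_orderOf_eq_one, one_zpow, one_mul]
      have hux : Commute u x := by rw [ex]; exact hu'.zpow_right _
      refine ⟨Subgroup.mem_centralizer_singleton_iff.2 hux, Subgroup.mem_centralizer_singleton_iff.2 ?_⟩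
      have := (hux.inv_right).mul_right hu'
      rwa [inv_mul_cancel_left] at this
    -- the index of the centraliser of y in C is prime to p
    set Cy : Subgroup C := Subgroup.centralizer ({y} : Set C) with hCy
    have hnd : ¬ p ∣ Cy.index := by
      intro hd
      refine hmax (x * (y : G)) ?_
      refine dvd_trans ?_ (Subgroup.index_dvd_of_le hcent)
      have hle : C ⊓ Subgroup.centralizer ({(y : G)} : Set G) ≤ C := inf_le_left
      rw [← Subgroup.relIndex_mul_index hle, hCi, pow_succ']
      refine Nat.mul_dvd_mul ?_ dvd_rfl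
      have e : (C ⊓ Subgroup.centralizer ({(y : G)} : Set G)).relIndex C = Cy.index := by
        rw [Subgroup.inf_relIndex_left, Subgroup.relIndex]
        congr 1
        ext u
        simp only [hCy, Subgroup.mem_subgroupOf, Subgroup.mem_centralizer_singleton_iff]
        exact ⟨fun h => Subtype.ext h, fun h => congrArg Subtype.val h⟩
      rw [e]; exact hd
    obtain ⟨R⟩ := (inferInstance : Nonempty (Sylow p Cy))
    have hRcard : Nat.card ((R : Subgroup Cy).map Cy.subtype) = p ^ (Nat.card C).factorization p := by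
      rw [Subgroup.card_map_of_injective Cy.subtype_injective, R.card_eq_multiplicity, ← Cy.card_mul_index,
        Nat.factorization_mul Nat.card_pos.ne' Subgroup.index_ne_zero_of_finite, Finsupp.add_apply,
        Nat.factorization_eq_zero_of_not_dvd hnd, add_zero]
    refine ⟨Sylow.ofCard _ hRcard, fun s hs => ?_⟩
    exact (Subgroup.mem_centralizer_singleton_iff.1 (Subgroup.map_subtype_le _ hs) : s * y = y * s).symm
  -- the Sylow subgroup of C inside a Sylow subgroup of G
  obtain ⟨S⟩ := (inferInstance : Nonempty (Sylow p C))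
  -- all p'-elements centralise S
  have hB : ∀ y : C, (orderOf y).Coprime p → ∀ s ∈ (S : Subgroup C), Commute y s := by
    set W : Subgroup C := (S : Subgroup C) ⊔ Subgroup.centralizer ((S : Subgroup C) : Set C) with hW
    have htop : W = ⊤ := by
      refine Cfsg.Agent.Perm.eq_top_of_meets_classes W fun g => ?_
      obtain ⟨v, m, hm, hvm⟩ := Nat.exists_eq_pow_mul_and_not_dvd (orderOf_pos g).ne' p hp.ne_one
      have hm0 : m ≠ 0 := fun e => hm (e ▸ dvd_zero p)
      have hcop : (p ^ v).Coprime m := (hp.coprime_iff_not_dvd.2 hm).pow_left v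
      have hg := Int.gcd_eq_gcd_ab ((p ^ v : ℕ) : ℤ) (m : ℤ)
      rw [Int.gcd_natCast_natCast, hcop.gcd_eq_one] at hg
      set g2 := (g ^ p ^ v) ^ Int.gcdA ((p ^ v : ℕ) : ℤ) (m : ℤ) with hg2
      set g1 := (g ^ m) ^ Int.gcdB ((p ^ v : ℕ) : ℤ) (m : ℤ) with hg1
      have hprod : g2 * g1 = g := by
        rw [hg2, hg1, ← zpow_natCast g (p ^ v), ← zpow_natCast g m, ← zpow_mul, ← zpow_mul, ← zpow_add, ← hg]
        simp
      have hord2 : (orderOf g2).Coprime p := by
        refine (hp.coprime_iff_not_dvd.2 hm).symm.coprime_dvd_left (orderOf_dvd_of_pow_eq_one ?_)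
        rw [hg2, ← zpow_natCast _ m, ← zpow_mul, mul_comm, zpow_mul, zpow_natCast, ← pow_mul, ← hvm,
          pow_orderOf_eq_one, one_zpow]
      have hord1 : g1 ^ p ^ v = 1 := by
        rw [hg1, ← zpow_natCast _ (p ^ v), ← zpow_mul, mul_comm, zpow_mul, zpow_natCast, ← pow_mul, mul_comm,
          ← hvm, pow_orderOf_eq_one, one_zpow]
      have hcomm : Commute g1 g2 := ((Commute.refl g).pow_pow _ _).zpow_zpow _ _
      obtain ⟨S', hS'⟩ := hA g2 hord2
      set D : Subgroup C := Subgroup.centralizer ({g2} : Set C) with hD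
      have hS'D : (S' : Subgroup C) ≤ D := fun s hs =>
        Subgroup.mem_centralizer_singleton_iff.2 (hS' s hs).symm.eq
      have hz : IsPGroup p (Subgroup.zpowers (⟨g1, Subgroup.mem_centralizer_singleton_iff.2 hcomm.eq⟩ : D)) := by
        obtain ⟨j, -, hj⟩ := (Nat.dvd_prime_pow hp).1 (orderOf_dvd_of_pow_eq_one hord1)
        exact IsPGroup.of_card (n := j) (by rw [Nat.card_zpowers, Subgroup.orderOf_mk, hj])
      obtain ⟨Q, hQ⟩ := hz.exists_le_sylow
      obtain ⟨d, hd⟩ := MulAction.exists_smul_eq D (S'.subtype hS'D) Q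
      obtain ⟨c, hc⟩ := MulAction.exists_smul_eq C S' S
      refine ⟨(d : C) * c⁻¹, ?_⟩
      rw [← hprod]
      have h1 : (d : C)⁻¹ * g1 * d ∈ (S' : Subgroup C) := by
        have := hQ (Subgroup.mem_zpowers _)
        rw [← hd, Sylow.coe_subgroup_smul, Subgroup.mem_pointwise_smul_iff_inv_smul_mem] at this
        simp only [MulAut.smul_def, MulAut.conj_inv_apply] at this
        exact this
      have h2 : (d : C)⁻¹ * g2 * d = g2 := by
        have : (d : C) * g2 = g2 * d := Subgroup.mem_centralizer_singleton_iff.1 d.2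
        rw [mul_assoc, ← this, inv_mul_cancel_left]
      have hS1 : c * ((d : C)⁻¹ * g1 * d) * c⁻¹ ∈ (S : Subgroup C) := by
        rw [← hc, Sylow.coe_subgroup_smul]
        exact ⟨_, h1, rfl⟩
      have hS2 : c * g2 * c⁻¹ ∈ Subgroup.centralizer ((S : Subgroup C) : Set C) := by
        intro s hs
        rw [← hc, Sylow.coe_subgroup_smul] at hs
        obtain ⟨t, ht, rfl⟩ := hs
        show c * t * c⁻¹ * (c * g2 * c⁻¹) = c * g2 * c⁻¹ * (c * t * c⁻¹)
        calc c * t * c⁻¹ * (c * g2 * c⁻¹) = c * (t * g2) * c⁻¹ := by group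
          _ = c * (g2 * t) * c⁻¹ := by rw [(hS' t ht).eq]
          _ = _ := by group
      have e : ((d : C) * c⁻¹)⁻¹ * (g2 * g1) * ((d : C) * c⁻¹) = c * g2 * c⁻¹ * (c * ((d : C)⁻¹ * g1 * d) * c⁻¹) := by
        calc ((d : C) * c⁻¹)⁻¹ * (g2 * g1) * ((d : C) * c⁻¹)
            = c * ((d : C)⁻¹ * g2 * d) * ((d : C)⁻¹ * g1 * d) * c⁻¹ := by group
          _ = _ := by rw [h2]; group
      rw [e, hW]
      exact Subgroup.mul_mem _ (Subgroup.mem_sup_right hS2) (Subgroup.mem_sup_left hS1)
    have hSn : (S : Subgroup C).Normal := by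
      rw [← Subgroup.normalizer_eq_top_iff, eq_top_iff, ← htop, hW]
      refine sup_le Subgroup.le_normalizer fun u hu => Subgroup.mem_normalizer_iff.2 fun z => ?_
      constructor
      · intro hz; rw [← (hu z hz), mul_inv_cancel_right]; exact hz
      · intro hz
        have h := hu _ hz
        have : z = u * z * u⁻¹ := by
          calc z = u⁻¹ * ((u * z * u⁻¹) * u) := by group
            _ = u⁻¹ * (u * (u * z * u⁻¹)) := by rw [h]
            _ = u * z * u⁻¹ := by group
        exact this ▸ hz
    haveI := hSn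
    intro y hy s hs
    obtain ⟨S', hS'⟩ := hA y hy
    haveI := Sylow.unique_of_normal S hSn
    exact hS' s (Subsingleton.elim S' S ▸ hs)
  -- the normal p-subgroup generated by the class of x
  obtain ⟨R, hR⟩ := (S.2.map C.subtype).exists_le_sylow
  have hxS : (⟨x, hxC⟩ : C) ∈ (S : Subgroup C) := by
    obtain ⟨k, hk⟩ := hxp
    obtain ⟨Q, hQ⟩ := (IsPGroup.of_card (n := k) (G := Subgroup.zpowers (⟨x, hxC⟩ : C))
      (by rw [Nat.card_zpowers, Subgroup.orderOf_mk, hk])).exists_le_sylow
    obtain ⟨c, hc⟩ := MulAction.exists_smul_eq C S Q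
    have h := hQ (Subgroup.mem_zpowers _)
    rw [← hc, Sylow.coe_subgroup_smul, Subgroup.mem_pointwise_smul_iff_inv_smul_mem] at h
    simp only [MulAut.smul_def, MulAut.conj_inv_apply] at h
    have hcc : (⟨x, hxC⟩ : C) * c = c * ⟨x, hxC⟩ := Subtype.ext (Subgroup.mem_centralizer_singleton_iff.1 c.2).symm
    rwa [mul_assoc, hcc, inv_mul_cancel_left] at h
  have hGR : ∀ g : G, ∃ r ∈ (R : Subgroup G), ∃ c ∈ C, r * c = g := by
    intro g
    -- orbit of x under R is the whole class
    have hdis : ((R : Subgroup G) ⊓ C).relIndex (R : Subgroup G) = C.index := by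
      have hRC : (R : Subgroup G) ⊓ C = (S : Subgroup C).map C.subtype := by
        refine le_antisymm ?_ (le_inf hR (Subgroup.map_subtype_le _))
        rintro u ⟨huR, huC⟩
        have hp' : IsPGroup p ↥((R : Subgroup G).comap C.subtype) := R.2.comap_of_injective C.subtype C.subtype_injective
        have e := S.3 hp' (Subgroup.map_le_iff_le_comap.1 hR)
        exact ⟨⟨u, huC⟩, e ▸ (show (⟨u, huC⟩ : C) ∈ (R : Subgroup G).comap C.subtype from huR), rfl⟩
      have h1 := Subgroup.relIndex_mul_relIndex (⊥ : Subgroup G) ((R : Subgroup G) ⊓ C) (R : Subgroup G) bot_le inf_le_left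
      rw [Subgroup.relIndex_bot_left, Subgroup.relIndex_bot_left, hRC, Subgroup.card_map_of_injective C.subtype_injective,
        S.card_eq_multiplicity, R.card_eq_multiplicity, ← C.card_mul_index,
        Nat.factorization_mul Nat.card_pos.ne' Subgroup.index_ne_zero_of_finite, Finsupp.add_apply, hCi,
        Nat.Prime.factorization_pow hp, Finsupp.single_eq_same, pow_add] at h1
      rw [hRC, hCi]
      exact Nat.eq_of_mul_eq_mul_left (pow_pos hp.pos _) h1
    let φ : (R : Subgroup G) ⧸ C.subgroupOf (R : Subgroup G) → G ⧸ C :=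
      Quotient.map' (fun r => (r : G)) fun a b h => by
        rw [QuotientGroup.leftRel_apply] at h ⊢; exact h
    have hinj : Function.Injective φ := by
      intro u v
      induction u using Quotient.inductionOn' with | _ a
      induction v using Quotient.inductionOn' with | _ b
      intro h
      exact QuotientGroup.eq.2 (QuotientGroup.eq.1 h : _)
    have hcardeq : Nat.card ((R : Subgroup G) ⧸ C.subgroupOf (R : Subgroup G)) = Nat.card (G ⧸ C) := by
      rw [← Subgroup.index_eq_card, ← Subgroup.index_eq_card, ← hdis, Subgroup.inf_relIndex_left, Subgroup.relIndex]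
    obtain ⟨u, hu⟩ := (hinj.bijective_of_nat_card_le hcardeq.ge).2 (QuotientGroup.mk g)
    induction u using Quotient.inductionOn' with | _ r
    exact ⟨r, r.2, (r : G)⁻¹ * g, QuotientGroup.eq.1 hu, mul_inv_cancel_left _ _⟩
  set Q := Subgroup.normalClosure ({x} : Set G) with hQdef
  have hQR : Q ≤ (R : Subgroup G) := by
    rw [hQdef, Subgroup.normalClosure, Subgroup.closure_le]
    intro z hz
    obtain ⟨w, hw, hconj⟩ := Group.mem_conjugatesOfSet_iff.1 hz
    rw [Set.mem_singleton_iff] at hw
    subst hw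
    obtain ⟨g, rfl⟩ := isConj_iff.1 hconj
    obtain ⟨r, hr, c, hc, rfl⟩ := hGR g
    have : r * c * w * (r * c)⁻¹ = r * w * r⁻¹ := by
      rw [mul_assoc r c w, Subgroup.mem_centralizer_singleton_iff.1 hc]; group
    rw [this]
    exact (R : Subgroup G).mul_mem ((R : Subgroup G).mul_mem hr (hR ⟨⟨w, hxC⟩, hxS, rfl⟩)) ((R : Subgroup G).inv_mem hr)
  haveI : Q.Normal := Subgroup.normalClosure_normal
  have hQp : IsPGroup p Q := R.2.to_le hQR
  set K := Subgroup.centralizer (Q : Set G) with hK
  haveI : K.Normal := inferInstance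
  have hKC : K ≤ C := fun u hu => Subgroup.mem_centralizer_singleton_iff.2 (hu x (Subgroup.subset_normalClosure rfl)).symm
  have hyK : ∀ y : C, (orderOf y).Coprime p → (y : G) ∈ K := by
    intro y hy
    refine mem_centralizer_of_AB (T := Subgroup.zpowers x) hQp ?_ ?_ ?_ ?_ (by rwa [Subgroup.orderOf_coe]) ?_
    · obtain ⟨k, hk⟩ := hxp
      exact IsPGroup.of_card (n := k) (by rw [Nat.card_zpowers, hk])
    · rw [Subgroup.normalizer_eq_top]; exact le_top
    · rw [Subgroup.normalizer_eq_top]; trivial
    · intro t ht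
      obtain ⟨i, rfl⟩ := Subgroup.mem_zpowers_iff.1 ht
      exact (show Commute (y : G) x from Subgroup.mem_centralizer_singleton_iff.1 y.2).zpow_right i
    · intro q hq hqT
      have hqC : q ∈ C := Subgroup.mem_centralizer_singleton_iff.2 (hqT x (Subgroup.mem_zpowers x))
      have hqS : (⟨q, hqC⟩ : C) ∈ (S : Subgroup C) := by
        have hp' : IsPGroup p ↥((R : Subgroup G).comap C.subtype) := R.2.comap_of_injective C.subtype C.subtype_injective
        exact (S.3 hp' (Subgroup.map_le_iff_le_comap.1 hR)) ▸ (show (⟨q, hqC⟩ : C) ∈ (R : Subgroup G).comap C.subtype from hQR hq)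
      exact congrArg Subtype.val (hB y hy _ hqS).eq
  -- K is p-nilpotent
  have hKnpc : HasNormalPComplement p C := by
    refine hnpc_of_centralize (S := (S : Subgroup C)) (sylIn_top S) fun Q' hQ' g hg hgp => ?_
    exact fun s hs => (hB g hgp s (hQ' hs)).symm
  have hKn : HasNormalPComplement p K := hnpc_of_injective (Subgroup.inclusion hKC) (Subgroup.inclusion_injective hKC) hKnpc
  set N0 := (pResidual p K).map K.subtype with hN0
  haveI : N0.Normal := inferInstance
  refine hnpc_of_coprime_normal_pgroup_quotient (N := N0) ?_ ?_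
  · rw [hN0, Subgroup.card_map_of_injective K.subtype_injective]; exact hnpc_iff.1 hKn
  · have hpow : ∀ r : ℕ, r.Prime → r ∣ N0.index → r = p := by
      intro r hr hrd
      by_contra hne
      haveI : Fact r.Prime := ⟨hr⟩
      obtain ⟨Sr⟩ := (inferInstance : Nonempty (Sylow r C))
      have hle : (Sr : Subgroup C).map C.subtype ≤ N0 := by
        rintro _ ⟨u, hu, rfl⟩
        obtain ⟨k, hk⟩ := IsPGroup.iff_orderOf.1 Sr.2 ⟨u, hu⟩
        rw [Subgroup.orderOf_mk] at hk
        have hcop : (orderOf u).Coprime p := hk ▸ ((Nat.coprime_primes hr hp).2 hne).pow_left k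
        refine ⟨⟨u, hyK u hcop⟩, Subgroup.subset_closure ?_, rfl⟩
        show (orderOf (⟨(u : G), _⟩ : K)).Coprime p
        rwa [Subgroup.orderOf_mk, Subgroup.orderOf_coe]
      have h1 : r ^ (Nat.card G).factorization r ∣ Nat.card N0 := by
        refine (dvd_of_eq ?_).trans (Subgroup.card_dvd_of_le hle)
        rw [Subgroup.card_map_of_injective C.subtype_injective, Sr.card_eq_multiplicity, ← C.card_mul_index,
          Nat.factorization_mul Nat.card_pos.ne' Subgroup.index_ne_zero_of_finite, Finsupp.add_apply, hCi,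
          Nat.Prime.factorization_pow hp, Finsupp.single_eq_of_ne hne, add_zero]
      have h2 : r ^ ((Nat.card G).factorization r + 1) ∣ Nat.card G := by
        rw [pow_succ]
        conv_rhs => rw [← N0.card_mul_index]
        exact Nat.mul_dvd_mul h1 hrd
      exact Nat.pow_succ_factorization_not_dvd Nat.card_pos.ne' hr h2
    refine IsPGroup.of_card (n := N0.index.primeFactorsList.length) ?_
    rw [← Subgroup.index_eq_card]
    exact Nat.eq_prime_pow_of_unique_prime_dvd Subgroup.index_ne_zero_of_finite (fun {d} h1 h2 => hpow d h1 h2)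

end Cfsg.Agent.S4127
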