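import Cfsg.Statements.S4133
import Cfsg.Agent.Lib.Solv.AbelianOddProduct
import Cfsg.Agent.Lib.Solv.Parts
import Cfsg.Agent.Lib.Solv.BaerQ.Classes
import Cfsg.Agent.Lib.Perm.Fpf.Structure
import Cfsg.Agent.Lib.Perm.Kazarin
import Cfsg.Agent.S0088
import Cfsg.Agent.S0205

set_option autoImplicit false
open Cfsg

namespace Cfsg.Agent.S4133

universe u

variable {G : Type u} [Group G]

theorem comm_restrict [Finite G] {p : ℕ} [Fact p.Prime]
    (hA : ∀ P : Sylow p G, IsMulCommutative (P : Subgroup G)) (K : Subgroup G) (S : Sylow p K) :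
    IsMulCommutative (S : Subgroup K) := by
  obtain ⟨P, hP⟩ := (S.isPGroup'.map K.subtype).exists_le_sylow
  refine ⟨⟨fun a b => Subtype.ext (Subtype.ext ?_)⟩⟩
  exact congrArg (fun z : (P : Subgroup G) => (z : G))
    ((hA P).is_comm.comm ⟨((a : K) : G), hP ⟨a, a.2, rfl⟩⟩ ⟨((b : K) : G), hP ⟨b, b.2, rfl⟩⟩)

theorem center_eq_bot [Finite G] [Group.IsPerfect G]
    (hA : ∀ (p : ℕ) [Fact p.Prime] (P : Sylow p G), IsMulCommutative (P : Subgroup G)) :
    Subgroup.center G = ⊥ := by
  by_contra hne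
  set p := (Nat.card (Subgroup.center G)).minFac
  have hp : p.Prime := Nat.minFac_prime fun e => hne (Subgroup.card_eq_one.1 e)
  haveI := Fact.mk hp
  obtain ⟨z, hz⟩ := exists_prime_orderOf_dvd_card' (G := Subgroup.center G) p (Nat.minFac_dvd _)
  obtain ⟨P, hP⟩ := (IsPGroup.of_card (p := p) (n := 1) (G := Subgroup.zpowers (z : G))
    (by rw [Nat.card_zpowers, Subgroup.orderOf_coe, hz, pow_one])).exists_le_sylow
  have h := Agent.S0088.result (P : Subgroup G) (hA p P) P.card_coprime_index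
  have hmem : (z : G) ∈ (P : Subgroup G) ⊓ commutator G ⊓ Subgroup.center G :=
    Subgroup.mem_inf.2 ⟨Subgroup.mem_inf.2 ⟨hP (Subgroup.mem_zpowers _), by
      rw [Group.IsPerfect.commutator_eq_top]; trivial⟩, z.2⟩
  rw [h, Subgroup.mem_bot] at hmem
  rw [← Subgroup.orderOf_coe, hmem, orderOf_one] at hz
  exact hp.one_lt.ne hz

/-- Let G be a finite group all of whose Sylow subgroups are abelian, and let 2^a be the largest power of 2 dividing the size of any conjugacy class of G. If some element has a conjugacy class of size exactly 2^a, then G is solvable. -/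
theorem result {G : Type*} [Group G] [Finite G]
    (hA : ∀ (p : ℕ) [Fact p.Prime] (P : Sylow p G), IsMulCommutative (P : Subgroup G))
    (a : ℕ) (hmax : ∀ y : G, ¬ 2 ^ (a + 1) ∣ (Subgroup.centralizer ({y} : Set G)).index) (hx : ∃ x : G, (Subgroup.centralizer ({x} : Set G)).index = 2 ^ a) :
    Group.IsSolvable G := by
  haveI := Fact.mk Nat.prime_two
  by_contra hns
  obtain ⟨K, hK, hperf, hne, -⟩ := Agent.Perm.Fpf.exists_perfect_residual (G := G)
  haveI := hperf
  have hAK : ∀ (p : ℕ) [Fact p.Prime] (P : Sylow p K), IsMulCommutative (P : Subgroup K) :=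
    fun p _ P => comm_restrict (hA p) K P
  obtain ⟨x, hx⟩ := hx
  set C := Subgroup.centralizer ({x} : Set G) with hC
  -- `K` centralizes `x`
  have hKC : K ≤ C := by
    obtain ⟨c, -, hc⟩ := (Nat.dvd_prime_pow Nat.prime_two).1
      (hx ▸ Agent.Perm.Kazarin.relIndex_centralizer_dvd K x)
    obtain ⟨P⟩ : Nonempty (Sylow 2 K) := inferInstance
    exact Subgroup.subgroupOf_eq_top.1
      (Agent.Solv.AbelianOdd.eq_top_of_index_two_pow P (hAK 2 P)
        (H := C.subgroupOf K) (c := c) hc)
  have hxK : ∀ k ∈ K, k * x = x * k := fun k hk =>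
    Subgroup.mem_centralizer_singleton_iff.1 (hKC hk)
  have hcen := center_eq_bot (G := K) hAK
  -- all class sizes in `K` are odd
  have hodd : ∀ y ∈ K, ¬ 2 ∣ (Subgroup.centralizer ({y} : Set G)).relIndex K := by
    intro y hy h2
    set Cy := Subgroup.centralizer ({y} : Set G) with hCy
    have hle : Subgroup.centralizer ({x * y} : Set G) ≤ C ⊓ Cy := by
      intro g hg
      rw [Subgroup.mem_centralizer_singleton_iff] at hg
      have key : x⁻¹ * (g * x * g⁻¹) = y * (g * y * g⁻¹)⁻¹ := by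
        have : g * x * g⁻¹ * (g * y * g⁻¹) = x * y := by
          rw [show g * x * g⁻¹ * (g * y * g⁻¹) = g * (x * y) * g⁻¹ by group, hg, mul_inv_cancel_right]
        calc x⁻¹ * (g * x * g⁻¹)
            = x⁻¹ * (g * x * g⁻¹ * (g * y * g⁻¹)) * (g * y * g⁻¹)⁻¹ := by group
          _ = _ := by rw [this]; group
      have hmem : x⁻¹ * (g * x * g⁻¹) ∈ K := by
        rw [key]; exact mul_mem hy (inv_mem (hK.conj_mem y hy g))
      have hw : (⟨_, hmem⟩ : K) ∈ Subgroup.center K := by
        refine Subgroup.mem_center_iff.2 fun k => Subtype.ext ?_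
        show (k : G) * (x⁻¹ * (g * x * g⁻¹)) = x⁻¹ * (g * x * g⁻¹) * k
        have h1 : Commute (k : G) x := hxK k k.2
        have h2 : Commute (k : G) (g * x * g⁻¹) := by
          have h3 : Commute (g⁻¹ * (k : G) * g⁻¹⁻¹) x := hxK _ (hK.conj_mem _ k.2 g⁻¹)
          have h4 := h3.map (MulAut.conj g).toMonoidHom
          simpa [mul_assoc] using h4
        exact (h1.inv_right.mul_right h2).eq
      rw [hcen, Subgroup.mem_bot] at hw
      have hw' : x⁻¹ * (g * x * g⁻¹) = 1 := congrArg Subtype.val hw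
      have hgx : g * x * g⁻¹ = x := (inv_mul_eq_one.1 hw').symm
      have hgy : g * y * g⁻¹ = y := by
        rw [key] at hw'; exact (mul_inv_eq_one.1 hw').symm
      exact Subgroup.mem_inf.2 ⟨Subgroup.mem_centralizer_singleton_iff.2 (mul_inv_eq_iff_eq_mul.1 hgx),
        Subgroup.mem_centralizer_singleton_iff.2 (mul_inv_eq_iff_eq_mul.1 hgy)⟩
    refine hmax (x * y) (dvd_trans ?_ (Subgroup.index_dvd_of_le hle))
    rw [pow_succ]
    haveI : (K.subgroupOf C).Normal := Subgroup.Normal.subgroupOf hK C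
    have e := Agent.Perm.Kazarin.relIndex_centralizer_dvd (K.subgroupOf C) (⟨y, hKC hy⟩ : C)
    have e2 : Subgroup.centralizer ({(⟨y, hKC hy⟩ : C)} : Set C) = Cy.subgroupOf C := by
      ext g
      simp [hCy, Subgroup.mem_subgroupOf, Subgroup.mem_centralizer_singleton_iff, Subtype.ext_iff]
    rw [e2, Subgroup.relIndex_subgroupOf hKC] at e
    have e3 : (C ⊓ Cy).index = C.index * Cy.relIndex C := by
      rw [← Subgroup.relIndex_mul_index (inf_le_left : C ⊓ Cy ≤ C), Subgroup.inf_relIndex_left]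
      ring
    rw [e3, hx]
    exact mul_dvd_mul_left _ (h2.trans e)
  -- hence a Sylow 2-subgroup of `K` is central
  obtain ⟨S⟩ : Nonempty (Sylow 2 K) := inferInstance
  have hL : Subgroup.centralizer ((S : Subgroup K) : Set K) = ⊤ := by
    refine Agent.Solv.eq_top_of_forall_conj_mem _ fun y => ?_
    have h := hodd y y.2
    have e : (Subgroup.centralizer ({y} : Set K)) =
        (Subgroup.centralizer ({(y : G)} : Set G)).subgroupOf K := by
      ext g
      simp [Subgroup.mem_subgroupOf, Subgroup.mem_centralizer_singleton_iff, Subtype.ext_iff]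
    obtain ⟨T, hT⟩ := Agent.Solv.BaerQ.exists_sylow_le (p := 2) (Subgroup.centralizer ({y} : Set K))
      (by rw [e]; exact h)
    obtain ⟨g, hg⟩ := MulAction.exists_smul_eq K T S
    refine ⟨g, Subgroup.mem_centralizer_iff.2 fun s hs => ?_⟩
    rw [← hg] at hs
    obtain ⟨t, ht, rfl⟩ := hs
    have h1 : t * y = y * t := Subgroup.mem_centralizer_singleton_iff.1 (hT ht)
    show g * t * g⁻¹ * (g * y * g⁻¹) = g * y * g⁻¹ * (g * t * g⁻¹)
    calc g * t * g⁻¹ * (g * y * g⁻¹) = g * (t * y) * g⁻¹ := by group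
      _ = g * (y * t) * g⁻¹ := by rw [h1]
      _ = _ := by group
  have hS : (S : Subgroup K) = ⊥ := le_bot_iff.1 (hcen ▸ fun s hs =>
    Subgroup.mem_center_iff.2 fun k =>
      (Subgroup.mem_centralizer_iff.1 (hL ▸ Subgroup.mem_top k) s hs).symm)
  have hKodd : Odd (Nat.card K) := by
    refine Nat.not_even_iff_odd.1 fun he => S.not_dvd_index ?_
    rw [hS, Subgroup.index_bot]
    exact even_iff_two_dvd.1 he
  obtain ⟨⟨n, hn⟩⟩ := Agent.S0205.result hKodd
  rw [hperf.derivedSeries_eq_top] at hn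
  refine hne hns ((Subgroup.eq_bot_iff_forall K).2 fun k hk => ?_)
  have h1 : (⟨k, hk⟩ : K) ∈ (⊥ : Subgroup K) := by rw [← hn]; exact Subgroup.mem_top _
  rw [Subgroup.mem_bot] at h1
  simpa using congrArg (fun z : K => (z : G)) h1

end Cfsg.Agent.S4133
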