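import Cfsg.Statements.S4135
import Cfsg.Agent.Lib.Perm.CoprimeClassSizes
import Cfsg.Agent.Lib.Solv.UniqueSub

set_option autoImplicit false
open Cfsg
open scoped Pointwise

namespace Cfsg.Agent.S4135

open Cfsg.Agent.Perm.CoprimeSizes

/-! ### Semiregular actions modulo a fixed subgroup -/

section Semireg

variable {W A : Type*} [Group W] [Finite W] [CommGroup A] [Finite A]
  (κ : W →* MulAut A) (ZA : Subgroup A)

/-- Only elements of `ZA` are fixed by nontrivial elements. -/
def Fpf : Prop := (∀ (w : W), ∀ z ∈ ZA, κ w z = z) ∧ ∀ w : W, w ≠ 1 → ∀ a : A, κ w a = a → a ∈ ZA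

variable {κ ZA}

theorem map_pow_apply (w : W) (n : ℕ) (a : A) : κ (w ^ (n + 1)) a = κ w (κ (w ^ n) a) := by
  rw [pow_succ', map_mul, MulAut.mul_apply]

theorem Fpf.mul_mem_of_sq (h : Fpf κ ZA) {i : W} (hi : i * i = 1) (hi1 : i ≠ 1) (a : A) :
    a * κ i a ∈ ZA := by
  refine h.2 i hi1 _ ?_
  rw [map_mul, ← MulAut.mul_apply, ← map_mul, hi, map_one, MulAut.one_apply, mul_comm]

theorem Fpf.no_elementary (h : Fpf κ ZA) {p : ℕ} [hp : Fact p.Prime] {t k : ℕ}
    (ht : t.Prime) (htp : t ≠ p) {a : A} (ha : orderOf a = t ^ k) (haZ : a ∉ ZA) {x y : W}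
    (hxy : x * y = y * x) (hx : x ^ p = 1) (hy : y ^ p = 1) (hy1 : y ≠ 1) :
    x ∈ Subgroup.zpowers y := by
  by_contra hxy'
  haveI : NeZero p := ⟨hp.out.ne_zero⟩
  have κmod : ∀ e : W, e ^ p = 1 → ∀ i j : ℕ, (i : ZMod p) = j → e ^ i = e ^ j := by
    intro e he i j hij
    rw [← Nat.mod_add_div i p, ← Nat.mod_add_div j p, (ZMod.natCast_eq_natCast_iff' i j p).1 hij,
      pow_add, pow_add, pow_mul, pow_mul, he, one_pow, one_pow]
  have hnorm : ∀ e : W, e ≠ 1 → e ^ p = 1 → ∀ b : A, ∏ i : ZMod p, κ (e ^ i.val) b ∈ ZA := by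
    intro e he1 hep b
    refine h.2 e he1 _ ?_
    rw [map_prod]
    refine Fintype.prod_equiv (Equiv.addRight 1) _ _ fun i => ?_
    rw [← map_pow_apply, κmod e hep _ _ (by simp : ((i.val + 1 : ℕ) : ZMod p) = ((i + 1 : ZMod p).val : ℕ))]
    rfl
  have hc : Commute x y := hxy
  have htot : ∏ j : ZMod p, ∏ i : ZMod p, κ ((x * y ^ j.val) ^ i.val) a ∈ ZA := by
    refine prod_mem fun j _ => hnorm _ (fun e => hxy' ?_) ?_ a
    · rw [mul_eq_one_iff_eq_inv] at e
      rw [e]
      exact inv_mem (Subgroup.npow_mem_zpowers y _)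
    · rw [(hc.pow_right _).mul_pow, hx, ← pow_mul, mul_comm j.val, pow_mul, hy, one_pow, one_mul]
  rw [Finset.prod_comm, ← Finset.mul_prod_erase Finset.univ _ (Finset.mem_univ (0 : ZMod p))] at htot
  have hrest : ∀ i ∈ Finset.univ.erase (0 : ZMod p),
      ∏ j : ZMod p, κ ((x * y ^ j.val) ^ i.val) a ∈ ZA := by
    intro i hi
    have hi0 : i ≠ 0 := (Finset.mem_erase.1 hi).1
    have h1 : ∀ j : ZMod p, κ ((x * y ^ j.val) ^ i.val) a =
        κ (x ^ i.val) (κ (y ^ (j * i).val) a) := fun j => by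
      rw [(hc.pow_right _).mul_pow, map_mul, MulAut.mul_apply, ← pow_mul,
        κmod y hy (j.val * i.val) (j * i).val (by simp)]
    rw [Finset.prod_congr rfl fun j _ => h1 j, ← map_prod,
      Fintype.prod_equiv (Equiv.mulRight₀ i hi0) (fun j => κ (y ^ (j * i).val) a)
        (fun k => κ (y ^ k.val) a) fun j => rfl, h.1 _ _ (hnorm y hy1 hy a)]
    exact hnorm y hy1 hy a
  have h2 := (ZA.mul_mem_cancel_right (prod_mem hrest)).1 htot
  simp only [ZMod.val_zero, pow_zero, map_one, MulAut.one_apply, Finset.prod_const, Finset.card_univ,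
    ZMod.card] at h2
  obtain ⟨l, hl⟩ := exists_pow_eq_self_of_coprime (x := a) (n := p)
    (by rw [ha]; exact ((Nat.coprime_primes hp.out ht).2 (Ne.symm htp)).pow_right k)
  exact haZ (hl ▸ pow_mem h2 l)

theorem Fpf.no_normalize (h : Fpf κ ZA) {r : ℕ} [hr : Fact r.Prime] {a : A} {k : ℕ}
    (ha : orderOf a = r ^ k) (haZ : a ∉ ZA) {l y : W} (hl : (orderOf l).Coprime r) (hl1 : l ≠ 1)
    (hy : ∃ j, orderOf y = r ^ j) (hy1 : y ≠ 1) {c : ℕ} (hyl : y * l * y⁻¹ = l ^ c) : False := by
  let φ : A →* A := MonoidHom.mk' (fun b => κ l b * b⁻¹) fun b b' => by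
    rw [map_mul, mul_inv, mul_mul_mul_comm]
  have hφ : ∀ b, φ b = κ l b * b⁻¹ := fun _ => rfl
  let V : Subgroup A := (powMonoidHom (r ^ k) : A →* A).ker
  have hV : ∀ b, b ∈ V ↔ b ^ r ^ k = 1 := fun b => by
    rw [MonoidHom.mem_ker, powMonoidHom_apply]
  have hVinv : ∀ (w : W) (b : A), b ∈ V → κ w b ∈ V := fun w b hb => by
    rw [hV] at hb ⊢; rw [← map_pow, hb, map_one]
  set V1 := V.map φ
  have hV1V : V1 ≤ V := by
    rintro _ ⟨b, hb, rfl⟩
    exact mul_mem (hVinv l b hb) (inv_mem hb)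
  have hV1Z : ∀ b ∈ V1, b ∈ ZA → b = 1 := by
    rintro _ ⟨b, hb, rfl⟩ hz
    have e1 : κ l b = φ b * b := by rw [hφ, inv_mul_cancel_right]
    have hp : ∀ i : ℕ, κ (l ^ i) b = φ b ^ i * b := fun i => by
      induction i with
      | zero => simp
      | succ i ih =>
        rw [map_pow_apply, ih, map_mul, map_pow, h.1 l _ hz, e1, pow_succ, mul_assoc]
    have h1 := hp (orderOf l)
    rw [pow_orderOf_eq_one, map_one, MulAut.one_apply, eq_comm, mul_eq_right] at h1
    have h2 : φ b ^ r ^ k = 1 := (hV _).1 (hV1V ⟨b, hb, rfl⟩)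
    exact orderOf_eq_one_iff.1 (Nat.eq_one_of_dvd_coprimes (hl.pow_right k)
      (orderOf_dvd_of_pow_eq_one h1) (orderOf_dvd_of_pow_eq_one h2))
  have hV1inv : ∀ b ∈ V1, κ y b ∈ V1 := by
    rintro _ ⟨b, hb, rfl⟩
    have e : κ y (φ b) = κ (l ^ c) (κ y b) * (κ y b)⁻¹ := by
      rw [hφ, map_mul, map_inv, ← hyl, map_mul, map_mul, MulAut.mul_apply, MulAut.mul_apply,
        map_inv κ y, MulAut.inv_apply_self]
    rw [e]
    have htel : ∀ i : ℕ, ∀ d ∈ V, κ (l ^ i) d * d⁻¹ ∈ V1 := fun i => by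
      induction i with
      | zero => intro d _; simp
      | succ i ih =>
        intro d hd
        have h3 := mul_mem (Subgroup.mem_map_of_mem φ (hVinv (l ^ i) d hd)) (ih d hd)
        rw [hφ, mul_assoc, inv_mul_cancel_left, ← map_pow_apply] at h3
        exact h3
    exact htel c _ (hVinv y b hb)
  have hne : φ a ≠ 1 := fun e => haZ (h.2 l hl1 a (mul_inv_eq_one.1 e))
  have haV : a ∈ V := by rw [hV, ← ha, pow_orderOf_eq_one]
  -- `y` has a nontrivial fixed point on `V1`
  have hpow : ∀ (i : ℕ), ∀ b ∈ V1, κ (y ^ i) b ∈ V1 := fun i => by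
    induction i with
    | zero => intro b hb; simpa using hb
    | succ i ih => intro b hb; rw [map_pow_apply]; exact hV1inv _ (ih b hb)
  have hmem : ∀ w : Subgroup.zpowers y, ∀ b ∈ V1, κ w b ∈ V1 := by
    intro w b hb
    obtain ⟨i, hi⟩ := (isOfFinOrder_of_finite y).mem_powers_iff_mem_zpowers.2 w.2
    simp only at hi
    rw [← hi]
    exact hpow i b hb
  letI : MulAction (Subgroup.zpowers y) V1 :=
    { smul := fun w b => ⟨κ w b, hmem w b b.2⟩
      one_smul := fun b => Subtype.ext (by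
        show κ ((1 : Subgroup.zpowers y) : W) b = b
        rw [Subgroup.coe_one, map_one, MulAut.one_apply])
      mul_smul := fun w w' b => Subtype.ext (by
        show κ ((w * w' : Subgroup.zpowers y) : W) b = κ w (κ w' b)
        rw [Subgroup.coe_mul, map_mul, MulAut.mul_apply]) }
  obtain ⟨j, hj⟩ := hy
  have hyp : IsPGroup r (Subgroup.zpowers y) := Solv.isPGroup_zpowers hj
  have hdvd : r ∣ Nat.card V1 := by
    have h1 : orderOf (φ a) ∣ Nat.card V1 := Subgroup.orderOf_dvd_natCard _ (Subgroup.mem_map_of_mem φ haV)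
    have h2 : orderOf (φ a) ∣ r ^ k :=
      orderOf_dvd_of_pow_eq_one ((hV _).1 (hV1V (Subgroup.mem_map_of_mem φ haV)))
    obtain ⟨i, -, hi⟩ := (Nat.dvd_prime_pow hr.out).1 h2
    have : i ≠ 0 := fun e => hne (orderOf_eq_one_iff.1 (by rw [hi, e, pow_zero]))
    exact (dvd_pow_self r this).trans (hi ▸ h1)
  obtain ⟨b, hb, hb1⟩ := hyp.exists_fixed_point_of_prime_dvd_card_of_fixed_point V1 hdvd
    (a := (1 : V1)) (fun w => Subtype.ext (map_one _))
  have h1 : κ y b = b := congrArg Subtype.val (hb ⟨y, Subgroup.mem_zpowers y⟩)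
  exact hb1 (Subtype.ext (hV1Z _ b.2 (h.2 y hy1 _ h1)).symm)

theorem Fpf.involution_commute (h : Fpf κ ZA) {r s : ℕ} (hr : r.Prime) (hs : s.Prime) (hrs : r ≠ s)
    {a a' : A} {k k' : ℕ} (ha : orderOf a = r ^ k) (haZ : a ∉ ZA) (ha' : orderOf a' = s ^ k')
    (ha'Z : a' ∉ ZA) {i : W} (hi : i * i = 1) (hi1 : i ≠ 1) (y : W) : y * i * y⁻¹ = i := by
  set i' := y * i * y⁻¹
  have hi' : i' * i' = 1 := by
    calc i' * i' = y * (i * i) * y⁻¹ := by simp only [i']; group
      _ = 1 := by rw [hi]; group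
  have hi'1 : i' ≠ 1 := fun e => hi1 (conj_eq_one_iff.1 e)
  set d := i' * i
  have key : ∀ b : A, ∀ t : ℕ, b ^ t = 1 → κ (d ^ t) b = b := by
    intro b t hbt
    set z := b * κ i b
    set z' := b * κ i' b
    have hz : z ∈ ZA := h.mul_mem_of_sq hi hi1 b
    have hz' : z' ∈ ZA := h.mul_mem_of_sq hi' hi'1 b
    have e1 : κ d b = z * z'⁻¹ * b := by
      rw [map_mul, MulAut.mul_apply, show κ i b = b⁻¹ * z by simp [z], map_mul, map_inv, h.1 _ z hz,
        show κ i' b = b⁻¹ * z' by simp [z'], mul_inv, inv_inv]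
      simp only [mul_comm, mul_left_comm, mul_assoc]
    set τ := z * z'⁻¹
    have hτ : τ ∈ ZA := mul_mem hz (inv_mem hz')
    have hp : ∀ n : ℕ, κ (d ^ n) b = τ ^ n * b := fun n => by
      induction n with
      | zero => simp
      | succ n ih => rw [map_pow_apply, ih, map_mul, map_pow, h.1 d _ hτ, e1, ← mul_assoc, ← pow_succ]
    have hτt : τ ^ t = 1 := by
      have h4 : κ d (b ^ t) = τ ^ t * b ^ t := by rw [map_pow, e1, mul_pow]
      rw [hbt, map_one, mul_one] at h4
      exact h4.symm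
    rw [hp, hτt, one_mul]
  have h1 : d ^ r ^ k = 1 := by
    by_contra hne
    exact haZ (h.2 _ hne a (key a _ (by rw [← ha, pow_orderOf_eq_one])))
  have h2 : d ^ s ^ k' = 1 := by
    by_contra hne
    exact ha'Z (h.2 _ hne a' (key a' _ (by rw [← ha', pow_orderOf_eq_one])))
  have hd : d = 1 := orderOf_eq_one_iff.1 (Nat.eq_one_of_dvd_coprimes
    (((Nat.coprime_primes hr hs).2 hrs).pow k k') (orderOf_dvd_of_pow_eq_one h1)
    (orderOf_dvd_of_pow_eq_one h2))
  exact (mul_eq_one_iff_eq_inv.1 hd).trans (inv_eq_of_mul_eq_one_right hi)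

theorem isCyclic_of_unique {P : Type*} [Group P] [Finite P] {p : ℕ} [hp : Fact p.Prime] (hp2 : p ≠ 2)
    (hP : IsPGroup p P) (hu : Solv.UniqueOrderP p P) : IsCyclic P := by
  obtain ⟨A, hAn, hAab, hAc⟩ := Solv.exists_maximal_abelian_normal hP
  obtain ⟨a, ha, hAa⟩ := Solv.abelian_cyclic_of_unique hP hu A hAab
  suffices hA : A = ⊤ from isCyclic_iff_exists_zpowers_eq_top.2 ⟨a, hAa ▸ hA⟩
  by_contra hne
  obtain ⟨x, hx⟩ : ∃ x, x ∉ A := by
    by_contra! hall
    exact hne (eq_top_iff.2 fun x _ => hall x)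
  obtain ⟨k, hk⟩ := hP x
  obtain ⟨d, -, hd, hdp⟩ := exists_power (q := p) hx ⟨k, hk ▸ one_mem A⟩
  obtain ⟨n, hn⟩ := IsPGroup.iff_orderOf.1 hP a
  have hn0 : n ≠ 0 := by
    intro e
    rw [e, pow_zero, orderOf_eq_one_iff] at hn
    have hbot : A = ⊥ := by rw [hAa, hn, Subgroup.zpowers_one_eq_bot]
    rw [hbot] at hAc hx
    have : x ∈ Subgroup.centralizer (((⊥ : Subgroup P)) : Set P) :=
      Subgroup.mem_centralizer_iff.2 fun z hz => by rw [Subgroup.mem_bot.1 hz, one_mul, mul_one]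
    exact hx (hAc ▸ this)
  refine hp2 (Solv.unique_step (x := d) hu hn hn0 (fun e => hd ?_) ?_ ?_).1
  · rw [← hAc, Subgroup.mem_centralizer_iff, hAa]
    intro z hz
    obtain ⟨i, rfl⟩ := Subgroup.mem_zpowers_iff.1 hz
    exact ((show Commute d a from e).zpow_right i).symm.eq
  · rw [← hAa]; exact hAn.conj_mem a ha d
  · rw [← hAa]; exact hdp

theorem Fpf.false_of_two_primes (h : Fpf κ ZA) {r s : ℕ} (hr : r.Prime) (hs : s.Prime) (hrs : r ≠ s)
    {a a' : A} {k k' : ℕ} (ha : orderOf a = r ^ k) (haZ : a ∉ ZA) (ha' : orderOf a' = s ^ k')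
    (ha'Z : a' ∉ ZA) {y g : W} (hy : ∃ j, orderOf y = r ^ j) (hy1 : y ≠ 1)
    (hg : ∃ j, orderOf g = s ^ j) (hg1 : g ≠ 1) : False := by
  haveI := Fact.mk hr
  haveI := Fact.mk hs
  have hnt : ∀ p : ℕ, p.Prime → ∀ {x z : W}, x * z = z * x → x ^ p = 1 → z ^ p = 1 → z ≠ 1 →
      x ∈ Subgroup.zpowers z := by
    intro p hp x z hc hx hz hz1
    haveI := Fact.mk hp
    by_cases hpr : r = p
    · exact h.no_elementary hs (fun e => hrs (hpr.trans e.symm)) ha' ha'Z hc hx hz hz1
    · exact h.no_elementary hr hpr ha haZ hc hx hz hz1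
  have hodd : ∀ i : W, i * i = 1 → i = 1 := by
    intro i hi
    by_contra hi1
    have ho : orderOf i = 2 := orderOf_eq_prime (by rw [pow_two, hi]) hi1
    by_cases hr2 : r = 2
    · exact h.no_normalize ha' ha'Z (l := i)
        (by rw [ho]; exact (Nat.coprime_primes Nat.prime_two hs).2 (hr2 ▸ hrs)) hi1 hg hg1 (c := 1)
        (by rw [pow_one, h.involution_commute hr hs hrs ha haZ ha' ha'Z hi hi1])
    · exact h.no_normalize ha haZ (l := i)
        (by rw [ho]; exact (Nat.coprime_primes Nat.prime_two hr).2 (Ne.symm hr2)) hi1 hy hy1 (c := 1)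
        (by rw [pow_one, h.involution_commute hr hs hrs ha haZ ha' ha'Z hi hi1])
  haveI : IsZGroup W := by
    rw [isZGroup_iff]
    intro p hp P
    haveI := Fact.mk hp
    by_cases hP1 : (P : Subgroup W) = ⊥
    · rw [hP1]; infer_instance
    have hp2 : p ≠ 2 := by
      rintro rfl
      obtain ⟨⟨x, hxP⟩, hx1'⟩ := (Subgroup.ne_bot_iff_exists_ne_one.1 hP1)
      have hx1 : x ≠ 1 := fun e => hx1' (Subtype.ext e)
      obtain ⟨j, hj⟩ := P.isPGroup' ⟨x, hxP⟩
      have hxj : x ^ 2 ^ j = 1 := congrArg Subtype.val hj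
      obtain ⟨d, -, hd, hd2⟩ := exists_power (q := 2) (Z := (⊥ : Subgroup W)) (c := x)
        (by rwa [Subgroup.mem_bot]) ⟨j, by rw [Subgroup.mem_bot, hxj]⟩
      rw [Subgroup.mem_bot, pow_two] at hd2
      exact hd (Subgroup.mem_bot.2 (hodd d hd2))
    haveI : Nontrivial (P : Subgroup W) := (Subgroup.nontrivial_iff_ne_bot _).2 hP1
    haveI := P.isPGroup'.center_nontrivial
    obtain ⟨c, hc⟩ := exists_ne (1 : Subgroup.center (P : Subgroup W))
    obtain ⟨j, hj⟩ := P.isPGroup' (c : (P : Subgroup W))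
    obtain ⟨z, hz0, hz1, hzp⟩ := exists_power (q := p) (Z := (⊥ : Subgroup (P : Subgroup W)))
      (c := (c : (P : Subgroup W))) (fun e => hc (Subtype.ext (Subgroup.mem_bot.1 e)))
      ⟨j, Subgroup.mem_bot.2 hj⟩
    rw [Subgroup.mem_bot] at hz1 hzp
    have hzc : z ∈ Subgroup.center (P : Subgroup W) := mem_of_zpowers_mem c.2 hz0
    have hin : ∀ u : (P : Subgroup W), u ^ p = 1 → u ∈ Subgroup.zpowers z := by
      intro u hu
      obtain ⟨i, hi⟩ := Subgroup.mem_zpowers_iff.1 (hnt p hp (x := (u : W)) (z := (z : W))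
        (congrArg Subtype.val (Subgroup.mem_center_iff.1 hzc u))
        (congrArg Subtype.val hu) (congrArg Subtype.val hzp) (fun e => hz1 (Subtype.ext e)))
      exact Subgroup.mem_zpowers_iff.2 ⟨i, Subtype.ext (by simpa using hi)⟩
    refine isCyclic_of_unique hp2 P.isPGroup' fun u v hu hv hv1 => ?_
    have hzo : orderOf z = p := orderOf_eq_prime hzp hz1
    have hvo : orderOf v = p := orderOf_eq_prime hv hv1
    have : Subgroup.zpowers v = Subgroup.zpowers z :=
      Subgroup.eq_of_le_of_card_ge (Subgroup.zpowers_le.2 (hin v hv))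
        (by rw [Nat.card_zpowers, Nat.card_zpowers, hzo, hvo])
    rw [this]
    exact hin u hu
  obtain ⟨D, hDn, hD1, hDc⟩ : ∃ D : Subgroup W, D.Normal ∧ D ≠ ⊥ ∧ IsMulCommutative D := by
    by_cases hW : commutator W = ⊥
    · refine ⟨⊤, inferInstance, fun e => hy1 (Subgroup.mem_bot.1 (e ▸ Subgroup.mem_top y)),
        ⟨⟨fun u v => Subtype.ext ?_⟩⟩⟩
      show (u : W) * v = v * u
      rw [← commutatorElement_eq_one_iff_mul_comm, ← Subgroup.mem_bot, ← hW, commutator_def]
      exact Subgroup.commutator_mem_commutator (Subgroup.mem_top _) (Subgroup.mem_top _)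
    · refine ⟨commutator W, inferInstance, hW, ?_⟩
      haveI : IsCyclic (commutator W) := IsZGroup.isCyclic_commutator W
      letI := IsCyclic.commGroup (α := commutator W)
      exact ⟨⟨mul_comm⟩⟩
  obtain ⟨p, hp, hpd⟩ := Nat.exists_prime_and_dvd
    (fun e => hD1 (Subgroup.card_eq_one.1 e) : Nat.card D ≠ 1)
  haveI := Fact.mk hp
  obtain ⟨⟨l, hlD⟩, hl⟩ := exists_prime_orderOf_dvd_card' p hpd
  rw [Subgroup.orderOf_mk] at hl
  have hl1 : l ≠ 1 := fun e => by rw [e, orderOf_one] at hl; exact hp.ne_one hl.symm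
  have hnorm : ∀ w : W, ∃ c : ℕ, w * l * w⁻¹ = l ^ c := by
    intro w
    have hm := hnt p hp (x := w * l * w⁻¹) (z := l)
      (congrArg Subtype.val (hDc.is_comm.comm ⟨_, hDn.conj_mem l hlD w⟩ ⟨l, hlD⟩))
      (by rw [conj_pow, ← hl, pow_orderOf_eq_one]; group) (by rw [← hl, pow_orderOf_eq_one]) hl1
    obtain ⟨c, hc⟩ := (isOfFinOrder_of_finite l).mem_powers_iff_mem_zpowers.2 hm
    exact ⟨c, hc.symm⟩
  by_cases hpr : p = r
  · obtain ⟨c, hc⟩ := hnorm g
    exact h.no_normalize ha' ha'Z (by rw [hl]; exact (Nat.coprime_primes hp hs).2 (hpr ▸ hrs)) hl1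
      hg hg1 hc
  · obtain ⟨c, hc⟩ := hnorm y
    exact h.no_normalize ha haZ (by rw [hl]; exact (Nat.coprime_primes hp hr).2 hpr) hl1 hy hy1 hc

end Semireg

/-! ### The group -/

variable {G : Type*} [Group G] [Finite G] {m : ℕ} {N : Subgroup G}

theorem cent_eq {a b : G} (h : ∀ x ∈ N, cls x = 1 ∨ cls x = m) (ha : a ∈ N) (hb : b ∈ N)
    (haZ : a ∉ Subgroup.center G) (hbZ : b ∉ Subgroup.center G) (hle : cent a ≤ cent b) :
    cent b = cent a := by
  refine cent_eq_of_le hle ?_
  rw [(h a ha).resolve_left fun e => haZ (cls_eq_one_iff.1 e),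
    (h b hb).resolve_left fun e => hbZ (cls_eq_one_iff.1 e)]

theorem cent_eq_coprime {a b : G} (h : ∀ x ∈ N, cls x = 1 ∨ cls x = m) (ha : a ∈ N) (hb : b ∈ N)
    (haZ : a ∉ Subgroup.center G) (hbZ : b ∉ Subgroup.center G) (hab : a * b = b * a)
    (hco : (orderOf a).Coprime (orderOf b)) : cent a = cent b := by
  have hc := cent_mul_of_coprime hab hco
  have hne : a * b ∉ Subgroup.center G := fun hz => haZ (cls_eq_one_iff.1 (Nat.eq_one_of_dvd_one (by
    rw [← cls_eq_one_iff.2 hz]; exact Subgroup.index_dvd_of_le (hc.le.trans inf_le_left))))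
  rw [cent_eq h (mul_mem ha hb) ha hne haZ (hc.le.trans inf_le_left),
    cent_eq h (mul_mem ha hb) hb hne hbZ (hc.le.trans inf_le_right)]

/-- If every element of `N` centralizes a Sylow subgroup of `G`, the Sylow subgroups of `N` are
central in `N`. -/
theorem sylow_central [N.Normal] {p : ℕ} [Fact p.Prime] (hx : ∀ x ∈ N, ¬ p ∣ cls x)
    (T : Sylow p N) {t : N} (ht : t ∈ (T : Subgroup N)) (u : N) : t * u = u * t := by
  have hC : Subgroup.centralizer ((T : Subgroup N) : Set N) = ⊤ := by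
    refine Solv.eq_top_of_forall_conj_mem _ fun v => ?_
    obtain ⟨S, hS⟩ := (T.isPGroup'.map N.subtype).exists_le_sylow
    obtain ⟨c0, hc0⟩ := S.isPGroup'.nonempty_fixed_point_of_prime_not_dvd_card (α := G ⧸ cent (v : G))
      (by rw [← Subgroup.index_eq_card]; exact hx v v.2)
    induction c0 using QuotientGroup.induction_on with
    | H d =>
    -- `d⁻¹ T d` centralizes `v`
    have hd : ∀ e : N, e ∈ (T : Subgroup N) → Commute (d⁻¹ * (e : G) * d) (v : G) := fun e he => by
      have e1 : (((e : G) * d : G) : G ⧸ cent (v : G)) = (d : G) := hc0 ⟨e, hS ⟨e, he, rfl⟩⟩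
      have h1 := QuotientGroup.eq.1 e1.symm
      rw [← mul_assoc] at h1
      exact mem_cent.1 h1
    let β : N →* N := (MulAut.conjNormal d⁻¹).toMonoidHom
    have hβ : Function.Bijective β := (MulAut.conjNormal (H := N) d⁻¹).bijective
    let T1 : Sylow p N := (T : Sylow p N).mapSurjective hβ.2
    obtain ⟨w, hw⟩ := MulAction.exists_smul_eq N T1 T
    refine ⟨w, Subgroup.mem_centralizer_iff.2 fun e he => ?_⟩
    rw [SetLike.mem_coe, ← hw, Sylow.coe_subgroup_smul, Solv.mem_conj_smul] at he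
    obtain ⟨e', he', hee⟩ := he
    have h2 : Commute (w⁻¹ * e * w) v := by
      refine Subtype.ext ?_
      rw [← hee]
      simp only [β, MulEquiv.coe_toMonoidHom, Subgroup.coe_mul, MulAut.conjNormal_apply, inv_inv]
      exact hd e' he'
    calc e * (w * v * w⁻¹) = w * ((w⁻¹ * e * w) * v) * w⁻¹ := by group
      _ = w * v * w⁻¹ * e := by rw [h2.eq]; group
  exact Subgroup.mem_centralizer_iff.1 (hC ▸ Subgroup.mem_top u) t ht

theorem grow {p : ℕ} [Fact p.Prime] (P : Sylow p G) (H : Subgroup G)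
    (hH : H ≤ (P : Subgroup G)) (hne : H ≠ (P : Subgroup G)) :
    ∃ y ∈ (P : Subgroup G), y ∉ H ∧ ∀ a ∈ H, y * a * y⁻¹ ∈ H := by
  haveI := P.isPGroup'.isNilpotent
  have h1 : H.subgroupOf (P : Subgroup G) < ⊤ := by
    rw [lt_top_iff_ne_top, Ne, Subgroup.subgroupOf_eq_top]
    exact fun h2 => hne (le_antisymm hH h2)
  obtain ⟨y, hy, hyH⟩ := SetLike.exists_of_lt (Group.normalizerCondition_of_isNilpotent _ h1)
  refine ⟨y, y.2, fun hh => hyH hh, fun a ha => ?_⟩
  exact (Subgroup.mem_normalizer_iff.1 hy ⟨a, hH ha⟩).1 ha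

/-- Let G be a finite group, r a prime and R a Sylow r-subgroup of G that is not central, N a normal subgroup of G containing R, and m a natural number such that every element of N has a conjugacy class in G of size 1 or m. Then N is nilpotent. -/
theorem result {G : Type*} [Group G] [Finite G] (r : ℕ) [Fact r.Prime]
    (R : Sylow r G) (hR : ¬ (R : Subgroup G) ≤ Subgroup.center G) (N : Subgroup G) [N.Normal] (hRN : (R : Subgroup G) ≤ N)
    (m : ℕ) (h : ∀ x ∈ N, (Subgroup.centralizer ({x} : Set G)).index = 1 ∨ (Subgroup.centralizer ({x} : Set G)).index = m) : Group.IsNilpotent N := by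
  classical
  change ∀ x ∈ N, cls x = 1 ∨ cls x = m at h
  set Z := Subgroup.center G
  obtain ⟨a0, ha0, ha0Z⟩ : ∃ a ∈ (R : Subgroup G), a ∉ Z := by
    by_contra! hle; exact hR hle
  have ha0N : a0 ∈ N := hRN ha0
  obtain ⟨k0, hk0⟩ := IsPGroup.iff_orderOf.1 R.isPGroup' ⟨a0, ha0⟩
  rw [Subgroup.orderOf_mk] at hk0
  have hm : cls a0 = m := (h a0 ha0N).resolve_left fun e => ha0Z (cls_eq_one_iff.1 e)
  have hrp : r.Prime := Fact.out
  have hcls : ∀ p : ℕ, p.Prime → ¬ p ∣ m → ∀ x ∈ N, ¬ p ∣ cls x := fun p hp hpm x hx => by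
    rcases h x hx with e | e <;> rw [e]
    exacts [hp.not_dvd_one, hpm]
  let T : Sylow r N := R.subtype hRN
  by_cases hrm : r ∣ m
  swap
  · -- `R` is central in `N`, so `N` is abelian
    have hcen : ∀ {t : N}, t ∈ (T : Subgroup N) → ∀ u : N, t * u = u * t :=
      fun {t} ht u => sylow_central (hcls r hrp hrm) T ht u
    have hT : ∀ u : N, (∃ j, orderOf (u : G) = r ^ j) → ∀ w : N, u * w = w * u := by
      rintro u ⟨j, hj⟩ w
      have hp : IsPGroup r (Subgroup.zpowers u) :=
        Solv.isPGroup_zpowers (k := j) (by rw [← Subgroup.orderOf_coe]; exact hj)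
      obtain ⟨T', hT'⟩ := hp.exists_le_sylow
      obtain ⟨v, hv⟩ := MulAction.exists_smul_eq N T T'
      have hu : v⁻¹ * u * v ∈ (T : Subgroup N) := by
        have := hT' (Subgroup.mem_zpowers u)
        rwa [← hv, Sylow.coe_subgroup_smul, Solv.mem_conj_smul] at this
      have e1 := hcen hu
      have e2 : v⁻¹ * u * v = u := by
        calc v⁻¹ * u * v = v * (v⁻¹ * u * v) * v⁻¹ := by rw [← e1 v, mul_inv_cancel_right]
          _ = u := by group
      rw [e2] at e1
      exact e1 w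
    have hr' : ∀ b : N, (orderOf (b : G)).Coprime r → ∀ c : N, (orderOf (c : G)).Coprime r →
        b * c = c * b := by
      intro b hb c hc
      by_cases hbZ : (b : G) ∈ Z
      · exact Subtype.ext (Subgroup.mem_center_iff.1 hbZ c).symm
      by_cases hcZ : (c : G) ∈ Z
      · exact Subtype.ext (Subgroup.mem_center_iff.1 hcZ b)
      have key : ∀ d : N, (orderOf (d : G)).Coprime r → (d : G) ∉ Z → cent (d : G) = cent a0 :=
        fun d hd hdZ => (cent_eq_coprime h ha0N d.2 ha0Z hdZ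
          (congrArg Subtype.val (hT ⟨a0, ha0N⟩ ⟨k0, hk0⟩ d)) (by rw [hk0]; exact (hd.pow_right k0).symm)).symm
      refine Subtype.ext (mem_cent.1 (?_ : (b : G) ∈ cent (c : G)))
      rw [key c hc hcZ, ← key b hb hbZ]
      exact self_mem_cent _
    have hcomm : ∀ b c : N, b * c = c * b := by
      intro b c
      obtain ⟨b1, b2, hb1, hb2, hb12, hk1, hk2⟩ := Solv.exists_ppart r (b : G)
      obtain ⟨c1, c2, hc1, hc2, hc12, hl1, hl2⟩ := Solv.exists_ppart r (c : G)
      set B1 : N := ⟨b1, mem_of_zpowers_mem b.2 hb1⟩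
      set B2 : N := ⟨b2, mem_of_zpowers_mem b.2 hb2⟩
      set C1 : N := ⟨c1, mem_of_zpowers_mem c.2 hc1⟩
      set C2 : N := ⟨c2, mem_of_zpowers_mem c.2 hc2⟩
      rw [show b = B1 * B2 from Subtype.ext hb12.symm, show c = C1 * C2 from Subtype.ext hc12.symm]
      have e1 : Commute B2 C1 := (hT C1 hl1 B2).symm
      have e2 : Commute B2 C2 := hr' B2 hk2 C2 hl2
      exact (Commute.mul_left (show Commute B1 (C1 * C2) from hT B1 hk1 _) (e1.mul_right e2)).eq
    letI : CommGroup N := { (inferInstance : Group N) with mul_comm := hcomm }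
    exact CommGroup.isNilpotent
  by_cases hsex : ∃ s : ℕ, s.Prime ∧ s ≠ r ∧ ∃ b ∈ N, b ∉ Z ∧ ∃ j, orderOf b = s ^ j
  swap
  · -- `N` is nilpotent modulo the centre
    push_neg at hsex
    set ZN := Z.subgroupOf N
    haveI : ZN.Normal := inferInstance
    have hidx : ∀ s : ℕ, s.Prime → s ∣ ZN.index → s = r := by
      intro s hs hd
      by_contra hne
      haveI := Fact.mk hs
      obtain ⟨S⟩ := (inferInstance : Nonempty (Sylow s N))
      refine S.not_dvd_index (hd.trans (Subgroup.index_dvd_of_le fun u hu => ?_))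
      rw [Subgroup.mem_subgroupOf]
      obtain ⟨j, hj⟩ := IsPGroup.iff_orderOf.1 S.isPGroup' ⟨u, hu⟩
      rw [Subgroup.orderOf_mk] at hj
      by_contra huZ
      exact hsex s hs hne u u.2 huZ j (by rw [Subgroup.orderOf_coe, hj])
    haveI : Group.IsNilpotent (N ⧸ ZN) :=
      (IsPGroup.of_card (p := r) (G := N ⧸ ZN) (n := _) (by
        rw [← Subgroup.index_eq_card]
        exact Nat.eq_prime_pow_of_unique_prime_dvd Subgroup.index_ne_zero_of_finite
          fun {d} hd => hidx d hd)).isNilpotent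
    refine Subgroup.isNilpotent_of_ker_le_center (QuotientGroup.mk' ZN) ?_
    rw [QuotientGroup.ker_mk']
    intro u hu
    rw [Subgroup.mem_center_iff]
    exact fun w => Subtype.ext (Subgroup.mem_center_iff.1 hu (w : G))
  exfalso
  obtain ⟨s, hs, hsr, b, hbN, hbZ, jb, hjb⟩ := hsex
  haveI := Fact.mk hs
  have hmb : cls b = m := (h b hbN).resolve_left fun e => hbZ (cls_eq_one_iff.1 e)
  have hsm : ¬ s ∣ m := by
    intro hsm
    set C := cent b with hCdef
    -- every `r`-element of `G` lies in `N`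
    have hrN : ∀ P : Subgroup G, IsPGroup r P → P ≤ N := by
      intro P hP
      obtain ⟨R', hR'⟩ := hP.exists_le_sylow
      obtain ⟨g, hg⟩ := MulAction.exists_smul_eq G R R'
      refine hR'.trans fun x hx => ?_
      rw [← hg, Sylow.coe_subgroup_smul, Solv.mem_conj_smul] at hx
      have := (inferInstance : N.Normal).conj_mem _ (hRN hx) g
      rwa [show g * (g⁻¹ * x * g) * g⁻¹ = x by group] at this
    obtain ⟨R0s⟩ := (inferInstance : Nonempty (Sylow r C))
    set R0 := (R0s : Subgroup C).map C.subtype with hR0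
    have hR0p : IsPGroup r R0 := R0s.isPGroup'.map _
    have hR0C : R0 ≤ C := Subgroup.map_subtype_le _
    have hR0card : Nat.card R0 = r ^ (Nat.card C).factorization r := by
      rw [hR0, Subgroup.card_map_of_injective (Subgroup.subtype_injective _), Sylow.card_eq_multiplicity]
    have hCcard : Nat.card (cent a0) = Nat.card C := by
      have e1 := (cent a0).card_mul_index
      have e2 := C.card_mul_index
      rw [show (cent a0).index = m from hm] at e1
      rw [show C.index = m from hmb, ← e1] at e2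
      exact (Nat.eq_of_mul_eq_mul_right (hm ▸ cls_pos a0) e2).symm
    obtain ⟨a, haR0, haZ⟩ : ∃ a ∈ R0, a ∉ Z := by
      by_contra! hle
      have hle' : R0 ≤ Z := hle
      set U := R0 ⊔ Subgroup.zpowers a0
      have hUp : IsPGroup r U := hR0p.to_sup_of_normal_left' (Solv.isPGroup_zpowers hk0)
        (fun g _ => by
          rw [Subgroup.mem_normalizer_iff]
          intro x
          have hgx : ∀ z ∈ R0, g * z * g⁻¹ = z := fun z hz => by
            rw [Subgroup.mem_center_iff.1 (hle' hz) g, mul_inv_cancel_right]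
          constructor
          · intro hx
            rw [hgx x hx]; exact hx
          · intro hx
            have h5 : g * x * g⁻¹ = x := by
              have h6 := hgx _ hx
              calc g * x * g⁻¹ = g * x * g⁻¹ := rfl
                _ = g⁻¹ * (g * (g * x * g⁻¹) * g⁻¹) * g := by group
                _ = g⁻¹ * (g * x * g⁻¹) * g := by rw [h6]
                _ = x := by group
            rwa [h5] at hx)
      have hUC : U ≤ cent a0 := sup_le (hle'.trans (center_le_cent a0))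
        (Subgroup.zpowers_le.2 (self_mem_cent a0))
      have hUd : Nat.card U ∣ r ^ (Nat.card C).factorization r := by
        obtain ⟨i, hi⟩ := IsPGroup.iff_card.1 hUp
        have h7 : r ^ i ∣ Nat.card C := hCcard ▸ hi ▸ Subgroup.card_dvd_of_le hUC
        rw [hi]
        exact pow_dvd_pow r ((hrp.pow_dvd_iff_le_factorization Nat.card_pos.ne').1 h7)
      have hUR : U = R0 := (Subgroup.eq_of_le_of_card_ge le_sup_left
        (by rw [hR0card]; exact Nat.le_of_dvd (pow_pos hrp.pos _) hUd)).symm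
      exact ha0Z (hle' (hUR ▸ Subgroup.mem_sup_right (Subgroup.mem_zpowers a0)))
    obtain ⟨ka, hka⟩ := IsPGroup.iff_orderOf.1 hR0p ⟨a, haR0⟩
    rw [Subgroup.orderOf_mk] at hka
    have haN : a ∈ N := hrN R0 hR0p haR0
    have hab : cent a = C := cent_eq_coprime h haN hbN haZ hbZ (mem_cent.1 (hR0C haR0))
      (by rw [hka, hjb]; exact ((Nat.coprime_primes hrp hs).2 hsr.symm).pow ka jb)
    -- `C ⊓ N` is abelian and its noncentral elements have centralizer `C`
    set A := C ⊓ N
    have hA : ∀ e ∈ A, C ≤ cent e := by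
      intro e he
      obtain ⟨e1, e2, he1, he2, he12, ⟨i, hi⟩, hco⟩ := Solv.exists_ppart r e
      have h1 : C ≤ cent e1 := by
        by_cases hz : e1 ∈ Z
        · exact fun g _ => mem_cent.2 (Subgroup.mem_center_iff.1 hz g)
        exact (cent_eq_coprime h hbN (mem_of_zpowers_mem he.2 he1) hbZ hz
          (mem_cent.1 (mem_of_zpowers_mem he.1 he1)).symm
          (by rw [hjb, hi]; exact ((Nat.coprime_primes hs hrp).2 hsr).pow jb i)).le
      have h2 : C ≤ cent e2 := by
        by_cases hz : e2 ∈ Z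
        · exact fun g _ => mem_cent.2 (Subgroup.mem_center_iff.1 hz g)
        rw [← hab]
        exact (cent_eq_coprime h haN (mem_of_zpowers_mem he.2 he2) haZ hz
          (mem_cent.1 (hab ▸ mem_of_zpowers_mem he.1 he2 : e2 ∈ cent a)).symm
          (by rw [hka]; exact (hco.pow_right ka).symm)).le
      intro g hg
      rw [← he12]
      exact mem_cent.2 ((show Commute g e1 from mem_cent.1 (h1 hg)).mul_right (mem_cent.1 (h2 hg))).eq
    have hAeq : ∀ e ∈ A, e ∉ Z → cent e = C := fun e he heZ => cent_eq h hbN he.2 hbZ heZ (hA e he)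
    have hnormC : ∀ y c : G, c ∈ A → c ∉ Z → y * c * y⁻¹ ∈ A → y ∈ Subgroup.normalizer (C : Set G) := by
      intro y c hc hcZ hyc
      have hycZ : y * c * y⁻¹ ∉ Z := fun hh => hcZ (by
        have := (inferInstance : Z.Normal).conj_mem _ hh y⁻¹
        simpa [mul_assoc] using this)
      rw [Subgroup.mem_normalizer_iff]
      intro x
      have e1 := hAeq c hc hcZ
      have e2 := hAeq _ hyc hycZ
      constructor
      · intro hx
        show y * x * y⁻¹ ∈ C
        rw [← e2, cent_conj_mem]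
        rw [show y⁻¹ * (y * x * y⁻¹) * y = x by group, e1]
        exact hx
      · intro hx
        show x ∈ C
        have hx' : y * x * y⁻¹ ∈ C := hx
        rw [← e2, cent_conj_mem, show y⁻¹ * (y * x * y⁻¹) * y = x by group, e1] at hx'
        exact hx'
    -- an `r`-element and an `s`-element acting on `A`
    obtain ⟨R', hR'⟩ := hR0p.exists_le_sylow
    have hR0ne : R0 ≠ (R' : Subgroup G) := fun e => R'.not_dvd_index (hrm.trans
      (dvd_trans (dvd_of_eq hmb.symm) (Subgroup.index_dvd_of_le (e ▸ hR0C))))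
    obtain ⟨y, hy, hyR0, hyn⟩ := grow R' R0 hR' hR0ne
    have hR0A : R0 ≤ A := le_inf hR0C (hrN R0 hR0p)
    have hyM := hnormC y a (hR0A haR0) haZ (hR0A (hyn a haR0))
    have hyC : y ∉ C := by
      intro hyC
      set U := R0 ⊔ Subgroup.zpowers y
      have hU : U ≤ C := sup_le hR0C (Subgroup.zpowers_le.2 hyC)
      have hUR' : U ≤ (R' : Subgroup G) := sup_le hR' (Subgroup.zpowers_le.2 hy)
      obtain ⟨i, hi⟩ := IsPGroup.iff_card.1 (R'.isPGroup'.to_le hUR')
      have hUR : U = R0 := (Subgroup.eq_of_le_of_card_ge le_sup_left (by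
        rw [hR0card, hi]
        exact Nat.pow_le_pow_right hrp.pos ((hrp.pow_dvd_iff_le_factorization Nat.card_pos.ne').1
          (hi ▸ Subgroup.card_dvd_of_le hU)))).symm
      exact hyR0 (hUR ▸ Subgroup.mem_sup_right (Subgroup.mem_zpowers y))
    obtain ⟨S0s⟩ := (inferInstance : Nonempty (Sylow s C))
    set S0 := (S0s : Subgroup C).map C.subtype with hS0
    have hS0p : IsPGroup s S0 := S0s.isPGroup'.map _
    have hS0C : S0 ≤ C := Subgroup.map_subtype_le _
    have hS0card : Nat.card S0 = s ^ (Nat.card C).factorization s := by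
      rw [hS0, Subgroup.card_map_of_injective (Subgroup.subtype_injective _), Sylow.card_eq_multiplicity]
    obtain ⟨S', hS'⟩ := hS0p.exists_le_sylow
    have hS0ne : S0 ≠ (S' : Subgroup G) := fun e => S'.not_dvd_index (hsm.trans
      (dvd_trans (dvd_of_eq hmb.symm) (Subgroup.index_dvd_of_le (e ▸ hS0C))))
    have hmax : ∀ U : Subgroup G, IsPGroup s U → U ≤ C → S0 ≤ U → U = S0 := fun U hUp hU hle => by
      obtain ⟨i, hi⟩ := IsPGroup.iff_card.1 hUp
      exact (Subgroup.eq_of_le_of_card_ge hle (by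
        rw [hS0card, hi]
        exact Nat.pow_le_pow_right hs.pos ((hs.pow_dvd_iff_le_factorization Nat.card_pos.ne').1
          (hi ▸ Subgroup.card_dvd_of_le hU)))).symm
    have hbS0 : b ∈ S0 := by
      have hUp : IsPGroup s (S0 ⊔ Subgroup.zpowers b : Subgroup G) :=
        hS0p.to_sup_of_normal_right' (Solv.isPGroup_zpowers hjb) (fun g hg => by
          have hgb : Commute g b := mem_cent.1 (hS0C hg)
          rw [Subgroup.mem_normalizer_iff]
          intro x
          constructor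
          · intro hx
            obtain ⟨i, rfl⟩ := Subgroup.mem_zpowers_iff.1 hx
            rw [(hgb.zpow_right i).eq, mul_inv_cancel_right]
            exact hx
          · intro hx
            obtain ⟨i, hi⟩ := Subgroup.mem_zpowers_iff.1 hx
            refine Subgroup.mem_zpowers_iff.2 ⟨i, ?_⟩
            calc b ^ i = g⁻¹ * (g * b ^ i) := by group
              _ = g⁻¹ * (b ^ i * g) := by rw [(hgb.zpow_right i).eq]
              _ = x := by rw [hi]; group)
      rw [← hmax _ hUp (sup_le hS0C (Subgroup.zpowers_le.2 (self_mem_cent b))) le_sup_left]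
      exact Subgroup.mem_sup_right (Subgroup.mem_zpowers b)
    obtain ⟨g, hg, hgS0, hgn⟩ := grow S' S0 hS' hS0ne
    have hbA : b ∈ A := ⟨self_mem_cent b, hbN⟩
    have hgM := hnormC g b hbA hbZ ⟨hS0C (hgn b hbS0), (inferInstance : N.Normal).conj_mem b hbN g⟩
    have hgC : g ∉ C := fun hgC => hgS0 (by
      rw [← hmax (S0 ⊔ Subgroup.zpowers g) (S'.isPGroup'.to_le (sup_le hS' (Subgroup.zpowers_le.2 hg)))
        (sup_le hS0C (Subgroup.zpowers_le.2 hgC)) le_sup_left]
      exact Subgroup.mem_sup_right (Subgroup.mem_zpowers g))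
    -- the action of `normalizer C / C` on `A`
    set M := Subgroup.normalizer (C : Set G)
    have hAM : ∀ (g : M) (e : G), e ∈ A → (g : G) * e * (g : G)⁻¹ ∈ A := fun g e he =>
      ⟨(Subgroup.mem_normalizer_iff.1 g.2 e).1 he.1, (inferInstance : N.Normal).conj_mem e he.2 g⟩
    have hAcomm : ∀ u v : A, u * v = v * u := fun u v => Subtype.ext (mem_cent.1 (hA v v.2 u.2.1))
    letI : CommGroup A := { (inferInstance : Group A) with mul_comm := hAcomm }
    let κ0 : M →* MulAut A := MonoidHom.mk'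
      (fun g => { toFun := fun e => ⟨(g : G) * e * (g : G)⁻¹, hAM g e e.2⟩
                  invFun := fun e => ⟨(g : G)⁻¹ * e * g, by simpa using hAM g⁻¹ e e.2⟩
                  left_inv := fun e => Subtype.ext (by simp [mul_assoc])
                  right_inv := fun e => Subtype.ext (by simp [mul_assoc])
                  map_mul' := fun e f => Subtype.ext (by simp only [Subgroup.coe_mul]; group) })
      (fun g g' => MulEquiv.ext fun e => Subtype.ext (by
        simp only [MulAut.mul_apply, MulEquiv.coe_mk, Equiv.coe_fn_mk, Subgroup.coe_mul]; group))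
    haveI : (C.subgroupOf M).Normal := Subgroup.normal_in_normalizer
    have hker : C.subgroupOf M ≤ κ0.ker := fun g hg => by
      rw [MonoidHom.mem_ker]
      refine MulEquiv.ext fun e => Subtype.ext ?_
      show (g : G) * e * (g : G)⁻¹ = e
      have h9 : (g : G) * (e : G) = e * g := mem_cent.1 (hA e e.2 hg)
      rw [h9, mul_inv_cancel_right]
    let κ : M ⧸ C.subgroupOf M →* MulAut A := QuotientGroup.lift _ κ0 hker
    have hF : Fpf κ (Z.subgroupOf A) := by
      refine ⟨fun w z hz => ?_, fun w hw e he => ?_⟩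
      · obtain ⟨g, rfl⟩ := QuotientGroup.mk'_surjective _ w
        refine Subtype.ext ?_
        show (g : G) * z * (g : G)⁻¹ = z
        have h9 : (g : G) * (z : G) = z * g := Subgroup.mem_center_iff.1 hz (g : G)
        rw [h9, mul_inv_cancel_right]
      · obtain ⟨g, rfl⟩ := QuotientGroup.mk'_surjective _ w
        by_contra heZ
        refine hw ((QuotientGroup.eq_one_iff g).2 (Subgroup.mem_subgroupOf.2 ?_))
        have he' : (g : G) * e * (g : G)⁻¹ = e := congrArg Subtype.val he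
        rw [← hAeq e e.2 heZ]
        exact mem_cent.2 (mul_inv_eq_iff_eq_mul.1 he')
    have hord : ∀ {p : ℕ}, p.Prime → ∀ (u : M), (∃ j, orderOf (u : G) = p ^ j) →
        ∃ j, orderOf (QuotientGroup.mk' (C.subgroupOf M) u) = p ^ j := by
      rintro p hp u ⟨j, hj⟩
      obtain ⟨i, -, hi⟩ := (Nat.dvd_prime_pow hp).1
        (hj ▸ Subgroup.orderOf_coe u ▸ orderOf_map_dvd (QuotientGroup.mk' (C.subgroupOf M)) u)
      exact ⟨i, hi⟩
    obtain ⟨jy, hjy⟩ := IsPGroup.iff_orderOf.1 R'.isPGroup' ⟨y, hy⟩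
    rw [Subgroup.orderOf_mk] at hjy
    obtain ⟨jg, hjg⟩ := IsPGroup.iff_orderOf.1 S'.isPGroup' ⟨g, hg⟩
    rw [Subgroup.orderOf_mk] at hjg
    exact hF.false_of_two_primes hrp hs hsr.symm (a := ⟨a, hR0A haR0⟩) (a' := ⟨b, hbA⟩)
      (k := ka) (k' := jb) (by rw [Subgroup.orderOf_mk, hka]) haZ (by rw [Subgroup.orderOf_mk, hjb]) hbZ
      (hord hrp ⟨y, hyM⟩ ⟨jy, hjy⟩) (fun e => hyC ((QuotientGroup.eq_one_iff (N := C.subgroupOf M) _).1 e))
      (hord hs ⟨g, hgM⟩ ⟨jg, hjg⟩) (fun e => hgC ((QuotientGroup.eq_one_iff (N := C.subgroupOf M) _).1 e))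
  -- now `b` is central in `N`
  have hbp : IsPGroup s (Subgroup.zpowers (⟨b, hbN⟩ : N)) :=
    Solv.isPGroup_zpowers (k := jb) (by rw [Subgroup.orderOf_mk, hjb])
  obtain ⟨S, hS⟩ := hbp.exists_le_sylow
  have hbc := sylow_central (hcls s hs hsm) S (hS (Subgroup.mem_zpowers _))
  refine R.not_dvd_index (hrm.trans (dvd_trans (dvd_of_eq hmb.symm) (Subgroup.index_dvd_of_le ?_)))
  intro x hx
  exact mem_cent.2 (congrArg Subtype.val (hbc ⟨x, hRN hx⟩)).symm

end Cfsg.Agent.S4135
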