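import Cfsg.Statements.S4142


set_option autoImplicit false
open Cfsg

namespace Cfsg.Agent.S4142

/-- Let G be a finite group and N a normal subgroup. Then the conjugacy class of every element g outside N is a union of cosets of N (gn is conjugate to g for all n ∈ N) if and only if for every g outside N the centralizer of g in G has the same order as the centralizer of gN in G/N. -/
theorem result {G : Type*} [Group G] [Finite G] (N : Subgroup G) [N.Normal] :
    (∀ g : G, g ∉ N → ∀ n ∈ N, ∃ x : G, x * g * x⁻¹ = g * n) ↔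
      ∀ g : G, g ∉ N → Nat.card (Subgroup.centralizer ({g} : Set G)) =
        Nat.card (Subgroup.centralizer ({(QuotientGroup.mk g : G ⧸ N)} : Set (G ⧸ N))) := by
  refine forall_congr' fun g => forall_congr' fun hg => ?_
  set q : G →* G ⧸ N := QuotientGroup.mk' N
  set T := (Subgroup.centralizer ({q g} : Set (G ⧸ N))).comap q with hT
  have hCT : Subgroup.centralizer ({g} : Set G) ≤ T := fun x hx =>
    Subgroup.mem_centralizer_singleton_iff.2 (by
      rw [← map_mul, ← map_mul, Subgroup.mem_centralizer_singleton_iff.1 hx])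
  have hTcard : Nat.card T = Nat.card (Subgroup.centralizer ({q g} : Set (G ⧸ N))) * Nat.card N := by
    have h1 := T.card_mul_index
    have h2 := (Subgroup.centralizer ({q g} : Set (G ⧸ N))).card_mul_index
    rw [hT, Subgroup.index_comap_of_surjective _ (QuotientGroup.mk'_surjective N), ← hT,
      ← N.card_mul_index, N.index_eq_card] at h1
    rw [← h2] at h1
    have hp : 0 < (Subgroup.centralizer ({q g} : Set (G ⧸ N))).index :=
      Nat.pos_of_ne_zero Subgroup.index_ne_zero_of_finite
    refine Nat.eq_of_mul_eq_mul_right hp (h1.trans ?_)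
    ring
  let f : T ⧸ (Subgroup.centralizer ({g} : Set G)).subgroupOf T → N := fun c =>
    ⟨g⁻¹ * ((c.out : G) * g * (c.out : G)⁻¹), (QuotientGroup.eq_one_iff _).1 (by
      have h1 := Subgroup.mem_centralizer_singleton_iff.1 (c.out).2
      show q (g⁻¹ * ((c.out : G) * g * (c.out : G)⁻¹)) = 1
      rw [map_mul, map_mul, map_mul, map_inv, map_inv, h1, mul_inv_cancel_right, inv_mul_cancel])⟩
  have hf : Function.Injective f := by
    intro c d e
    have e' : (c.out : G) * g * (c.out : G)⁻¹ = (d.out : G) * g * (d.out : G)⁻¹ :=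
      mul_left_cancel (congrArg Subtype.val e)
    rw [← c.out_eq, ← d.out_eq]
    refine QuotientGroup.eq.2 (Subgroup.mem_subgroupOf.2 (Subgroup.mem_centralizer_singleton_iff.2 ?_))
    show ((c.out : G)⁻¹ * (d.out : G)) * g = g * ((c.out : G)⁻¹ * (d.out : G))
    calc ((c.out : G)⁻¹ * (d.out : G)) * g
        = (c.out : G)⁻¹ * ((d.out : G) * g * (d.out : G)⁻¹) * (d.out : G) := by group
      _ = g * ((c.out : G)⁻¹ * (d.out : G)) := by rw [← e']; group
  have hTi : Nat.card (T ⧸ (Subgroup.centralizer ({g} : Set G)).subgroupOf T) *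
      Nat.card (Subgroup.centralizer ({g} : Set G)) = Nat.card T := by
    rw [← Nat.card_congr (Subgroup.subgroupOfEquivOfLe hCT).toEquiv,
      ← Subgroup.card_eq_card_quotient_mul_card_subgroup]
  constructor
  · intro h
    have hsur : Function.Surjective f := by
      intro n
      obtain ⟨x, hx⟩ := h n n.2
      have hxT : x ∈ T := Subgroup.mem_centralizer_singleton_iff.2 (by
        have hn : q (n : G) = 1 := (QuotientGroup.eq_one_iff _).2 n.2
        have := congrArg q hx
        rw [map_mul, map_mul, map_mul, map_inv, hn, mul_one, mul_inv_eq_iff_eq_mul] at this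
        exact this)
      refine ⟨QuotientGroup.mk (⟨x, hxT⟩ : T), Subtype.ext ?_⟩
      obtain ⟨c, hc⟩ := QuotientGroup.mk_out_eq_mul
        ((Subgroup.centralizer ({g} : Set G)).subgroupOf T) (⟨x, hxT⟩ : T)
      show g⁻¹ * (((QuotientGroup.mk (⟨x, hxT⟩ : T) : T ⧸ _).out : T) * g * _⁻¹) = (n : G)
      rw [hc, Subgroup.coe_mul]
      have hcg := Subgroup.mem_centralizer_singleton_iff.1 (Subgroup.mem_subgroupOf.1 c.2)
      rw [show x * ((c : T) : G) * g * (x * ((c : T) : G))⁻¹ =
        x * (((c : T) : G) * g) * ((c : T) : G)⁻¹ * x⁻¹ by group, hcg]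
      rw [show x * (g * ((c : T) : G)) * ((c : T) : G)⁻¹ * x⁻¹ = x * g * x⁻¹ by group, hx,
        inv_mul_cancel_left]
    rw [Nat.card_eq_of_bijective f ⟨hf, hsur⟩, hTcard, mul_comm] at hTi
    exact Nat.eq_of_mul_eq_mul_right Nat.card_pos hTi
  · intro h n hn
    have hcard : Nat.card (T ⧸ (Subgroup.centralizer ({g} : Set G)).subgroupOf T) = Nat.card N := by
      rw [hTcard, show Nat.card (Subgroup.centralizer ({g} : Set G)) =
        Nat.card (Subgroup.centralizer ({q g} : Set (G ⧸ N))) from h, mul_comm _ (Nat.card N)] at hTi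
      exact Nat.eq_of_mul_eq_mul_right Nat.card_pos hTi
    obtain ⟨c, hc⟩ := ((Nat.bijective_iff_injective_and_card f).2 ⟨hf, hcard⟩).2 ⟨n, hn⟩
    refine ⟨(c.out : G), ?_⟩
    have e : g⁻¹ * ((c.out : G) * g * (c.out : G)⁻¹) = n := congrArg Subtype.val hc
    rw [← e, mul_inv_cancel_left]

end Cfsg.Agent.S4142
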