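import Cfsg.Statements.S4143
import Mathlib
import Cfsg.Agent.Lib.Solv.MaxClass

set_option autoImplicit false
open Cfsg

namespace Cfsg.Agent.S4143


open scoped commutatorElement


/-- Let X be a finite p-group of order p^n containing a non-abelian subgroup B of order p³ with C_X(B) ≤ B. Then X has nilpotency class n − 1 (maximal class). -/
theorem result {X : Type*} [Group X] [Finite X] {p : ℕ} [Fact p.Prime] (n : ℕ) (hX : Nat.card X = p ^ n)
    (B : Subgroup X) (hB : Nat.card B = p ^ 3) (hBna : ¬ IsMulCommutative B) (hC : Subgroup.centralizer (B : Set X) ≤ B) :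
    Group.nilpotencyClass X = n - 1 := by
  classical
  have hp := (Fact.out : p.Prime)
  have hXp : IsPGroup p X := IsPGroup.of_card hX
  have hBp : IsPGroup p B := hXp.to_subgroup B
  obtain ⟨a, b, hab⟩ : ∃ a b : B, a * b ≠ b * a := by
    by_contra h; push Not at h; exact hBna ⟨⟨h⟩⟩
  set Z := Subgroup.center X with hZ
  have hZB : Z ≤ B := (Subgroup.center_le_centralizer _).trans hC
  haveI : Nontrivial X := ⟨⟨(a * b : B), (b * a : B), fun e => hab (Subtype.ext e)⟩⟩
  -- the subgroup generated by a and b is B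
  set T : Subgroup X := Subgroup.closure {(a : X), (b : X)} with hT
  have hTB : T = B := by
    have hle : T ≤ B := (Subgroup.closure_le B).2 (Set.insert_subset a.2 (Set.singleton_subset_iff.2 b.2))
    refine Subgroup.eq_of_le_of_card_ge hle ?_
    have hnab : ¬ IsMulCommutative T := fun hc => by
      have h := hc.is_comm.comm (⟨(a : X), Subgroup.subset_closure (Or.inl rfl)⟩ : T)
        ⟨(b : X), Subgroup.subset_closure (Or.inr rfl)⟩
      exact hab (Subtype.ext (congrArg (fun z : T => (z : X)) h))
    obtain ⟨k, hk, hTk⟩ := (Nat.dvd_prime_pow hp).1 (hB ▸ Subgroup.card_dvd_of_le hle)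
    rw [hB, hTk]
    refine Nat.pow_le_pow_right hp.pos ?_
    by_contra h3
    apply hnab
    match k, hTk with
    | 0, e =>
      rw [pow_zero] at e
      haveI := (Nat.card_eq_one_iff_unique.1 e).1
      exact ⟨⟨fun u v => Subsingleton.elim _ _⟩⟩
    | 1, e =>
      haveI : IsCyclic T := isCyclic_of_prime_card (p := p) (by simpa using e)
      exact ⟨⟨fun u v => IsCyclic.commGroup.mul_comm u v⟩⟩
    | 2, e => exact IsPGroup.isMulCommutative_of_card_eq_prime_sq (p := p) e
    | k + 3, _ => omega
  have hCB : Subgroup.centralizer (B : Set X) = Z := by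
    refine le_antisymm ?_ (Subgroup.center_le_centralizer _)
    intro c hc
    have hcB := hC hc
    -- the centre of B is of order p, so equals the centre of X
    have hZc : (Subgroup.center B).map B.subtype = Z := by
      have hle : Z ≤ (Subgroup.center B).map B.subtype := fun z hz =>
        ⟨⟨z, hZB hz⟩, Subgroup.mem_center_iff.2 fun w => Subtype.ext (Subgroup.mem_center_iff.1 hz w), rfl⟩
      refine (Subgroup.eq_of_le_of_card_ge hle ?_).symm
      rw [Subgroup.card_map_of_injective B.subtype_injective]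
      have h1 : Nat.card (Subgroup.center B) ≤ p := by
        obtain ⟨k, hk, hk'⟩ := (Nat.dvd_prime_pow hp).1 (hB ▸ Subgroup.card_subgroup_dvd_card (Subgroup.center B))
        rw [hk']
        refine (Nat.pow_le_pow_right hp.pos (?_ : k ≤ 1)).trans (pow_one p).le
        by_contra h2
        have hq : Nat.card (B ⧸ Subgroup.center B) ∣ p := by
          have h := Subgroup.card_eq_card_quotient_mul_card_subgroup (Subgroup.center B)
          rw [hB, hk'] at h
          refine ⟨p ^ (k - 2), Nat.eq_of_mul_eq_mul_right (show 0 < p ^ 2 from pow_pos hp.pos 2) ?_⟩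
          calc p * p ^ 2 = p ^ 3 := by ring
            _ = _ := by rw [h, show p ^ k = p ^ (k - 2) * p ^ 2 by rw [← pow_add, show k - 2 + 2 = k by omega]]; ring
        haveI : IsCyclic (B ⧸ Subgroup.center B) := by
          rcases (Nat.dvd_prime hp).1 hq with e | e
          · haveI := (Nat.card_eq_one_iff_unique.1 e).1; infer_instance
          · exact isCyclic_of_prime_card (p := p) e
        exact hab (((QuotientGroup.mk' (Subgroup.center B)).isMulCommutative_of_isCyclic_of_ker_le_center
          (QuotientGroup.ker_mk' _).le).is_comm.comm a b)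
      refine h1.trans ?_
      obtain ⟨k, hk⟩ := (hXp.to_subgroup Z).exists_card_eq
      rw [hk]
      haveI := hXp.center_nontrivial
      have : 1 < Nat.card Z := Finite.one_lt_card
      rw [hk] at this
      rcases k with _ | k
      · simp at this
      · exact Nat.le_self_pow (Nat.succ_ne_zero k) p
    rw [← hZc]
    exact ⟨⟨c, hcB⟩, Subgroup.mem_center_iff.2 fun w => Subtype.ext (hc w w.2), rfl⟩
  have hZcard : Nat.card Z = p := by
    have h1 : 1 < Nat.card Z := by
      haveI := hXp.center_nontrivial; exact Finite.one_lt_card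
    obtain ⟨k, hk, hk'⟩ := (Nat.dvd_prime_pow hp).1 (hB ▸ Subgroup.card_dvd_of_le hZB)
    rcases k with _ | _ | k
    · simp [hk'] at h1
    · simpa using hk'
    · exfalso
      have hq : Nat.card (B ⧸ Z.subgroupOf B) ∣ p := by
        have h := Subgroup.card_eq_card_quotient_mul_card_subgroup (Z.subgroupOf B)
        rw [Nat.card_congr (Subgroup.subgroupOfEquivOfLe hZB).toEquiv, hB, hk'] at h
        exact ⟨p ^ k, Nat.eq_of_mul_eq_mul_right (show 0 < p ^ 2 from pow_pos hp.pos 2) (by
          calc p * p ^ 2 = p ^ 3 := by ring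
            _ = _ := by rw [h]; ring)⟩
      haveI : IsCyclic (B ⧸ Z.subgroupOf B) := by
        rcases (Nat.dvd_prime hp).1 hq with e | e
        · haveI := (Nat.card_eq_one_iff_unique.1 e).1; infer_instance
        · exact isCyclic_of_prime_card (p := p) e
      exact hab (((QuotientGroup.mk' (Z.subgroupOf B)).isMulCommutative_of_isCyclic_of_ker_le_center
        (by rw [QuotientGroup.ker_mk']; exact fun z hz => Subgroup.mem_center_iff.2 fun w =>
          Subtype.ext (Subgroup.mem_center_iff.1 hz w))).is_comm.comm a b)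
  -- elements centralising B modulo Z lie in B
  have hS : ∀ x : X, (∀ w ∈ B, ⁅x, w⁆ ∈ Z) → x ∈ B := by
    intro x hx
    let S : Subgroup X := Subgroup.comap (QuotientGroup.mk' Z) (Subgroup.centralizer ((B.map (QuotientGroup.mk' Z) : Subgroup _) : Set (X ⧸ Z)))
    have hmem : ∀ x : X, x ∈ S ↔ ∀ w ∈ B, ⁅x, w⁆ ∈ Z := by
      intro x
      constructor
      · intro h w hw
        rw [← QuotientGroup.eq_one_iff]
        show QuotientGroup.mk' Z ⁅x, w⁆ = 1
        rw [map_commutatorElement, commutatorElement_eq_one_iff_mul_comm]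
        exact (h _ (Subgroup.mem_map_of_mem _ hw)).symm
      · rintro h _ ⟨w, hw, rfl⟩
        have := (QuotientGroup.eq_one_iff (N := Z) ⁅x, w⁆).2 (h w hw)
        have h' : QuotientGroup.mk' Z ⁅x, w⁆ = 1 := this
        rw [map_commutatorElement, commutatorElement_eq_one_iff_mul_comm] at h'
        exact h'.symm
    have hBS : B ≤ S := by
      intro u hu
      refine (hmem u).2 fun w hw => ?_
      have hq : IsMulCommutative (B ⧸ Z.subgroupOf B) := by
        refine IsPGroup.isMulCommutative_of_card_eq_prime_sq (p := p) ?_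
        have h := Subgroup.card_eq_card_quotient_mul_card_subgroup (Z.subgroupOf B)
        rw [Nat.card_congr (Subgroup.subgroupOfEquivOfLe hZB).toEquiv, hB, hZcard] at h
        exact Nat.eq_of_mul_eq_mul_right hp.pos (by rw [← h]; ring)
      have h1 := (QuotientGroup.eq_one_iff (N := Z.subgroupOf B) ⁅(⟨u, hu⟩ : B), (⟨w, hw⟩ : B)⁆).1 (by
        show QuotientGroup.mk' _ ⁅(⟨u, hu⟩ : B), (⟨w, hw⟩ : B)⁆ = 1
        rw [map_commutatorElement, commutatorElement_eq_one_iff_mul_comm]
        exact hq.is_comm.comm _ _)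
      exact h1
    have hcard : Nat.card S ≤ Nat.card B := by
      let φ : S → (Z × Z) × Z := fun s =>
        ((⟨⁅(s : X), (a : X)⁆, (hmem s).1 s.2 a a.2⟩, ⟨⁅(s : X), (b : X)⁆, (hmem s).1 s.2 b b.2⟩), 1)
      -- fibres of `φ` are inside cosets of the centre
      have hfib : ∀ s t : S, φ s = φ t → (t : X)⁻¹ * s ∈ Z := by
        intro s t e
        simp only [φ, Prod.mk.injEq, Subtype.mk.injEq, and_true] at e
        have key : ∀ w : X, ⁅(s : X), w⁆ = ⁅(t : X), w⁆ → ((t : X)⁻¹ * s) * w = w * ((t : X)⁻¹ * s) := by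
          intro w e
          simp only [commutatorElement_def] at e
          have e' : (s : X) * w * (s : X)⁻¹ = t * w * (t : X)⁻¹ := mul_right_cancel e
          calc (t : X)⁻¹ * s * w = (t : X)⁻¹ * (s * w * (s : X)⁻¹) * s := by group
            _ = w * ((t : X)⁻¹ * s) := by rw [e']; group
        rw [← hCB, ← hTB, hT]
        rw [Subgroup.centralizer_closure]
        intro w hw
        rcases hw with rfl | rfl
        · exact (key _ e.1).symm
        · exact (key _ e.2).symm
      haveI : Nonempty S := ⟨1⟩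
      have hsec : ∀ s : S, φ (Function.invFun φ (φ s)) = φ s := fun s => Function.invFun_eq ⟨s, rfl⟩
      let ψ : S → (Z × Z) × Z := fun s =>
        ((φ s).1, ⟨(((Function.invFun φ (φ s)) : S) : X)⁻¹ * (s : X), hfib s _ (hsec s).symm⟩)
      have hψ : Function.Injective ψ := by
        intro s t e
        simp only [ψ, Prod.mk.injEq, Subtype.mk.injEq] at e
        have e1 : φ s = φ t := Prod.ext e.1 rfl
        have e2 := e.2
        rw [e1] at e2
        exact Subtype.ext (mul_left_cancel e2)
      refine le_trans (Nat.card_le_card_of_injective ψ hψ) ?_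
      rw [Nat.card_prod, Nat.card_prod, hZcard, hB]
      exact le_of_eq (by ring)
    have := Subgroup.eq_of_le_of_card_ge hBS hcard
    rw [this]; exact (hmem x).2 hx
  -- the quotient
  set Bb := B.map (QuotientGroup.mk' Z) with hBb
  have hBbc : Subgroup.centralizer ((Bb : Subgroup (X ⧸ Z)) : Set (X ⧸ Z)) ≤ Bb := by
    intro q hq
    obtain ⟨x, rfl⟩ := QuotientGroup.mk'_surjective Z q
    refine Subgroup.mem_map_of_mem _ (hS x fun w hw => ?_)
    rw [← QuotientGroup.eq_one_iff]
    show QuotientGroup.mk' Z ⁅x, w⁆ = 1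
    rw [map_commutatorElement, commutatorElement_eq_one_iff_mul_comm]
    exact (hq _ (Subgroup.mem_map_of_mem _ hw)).symm
  have hBbcard : Nat.card Bb = p ^ 2 := by
    have h : Nat.card Bb * Nat.card Z = Nat.card B := by
      rw [Subgroup.card_eq_card_quotient_mul_card_subgroup (((QuotientGroup.mk' Z).comp B.subtype).ker),
        Nat.card_congr (QuotientGroup.quotientKerEquivRange ((QuotientGroup.mk' Z).comp B.subtype)).toEquiv,
        MonoidHom.range_comp, Subgroup.range_subtype, ← MonoidHom.comap_ker, QuotientGroup.ker_mk']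
      congr 1
      exact (Nat.card_congr (Subgroup.subgroupOfEquivOfLe hZB).toEquiv).symm
    rw [hZcard, hB] at h
    exact Nat.eq_of_mul_eq_mul_right hp.pos (h.trans (by ring))
  haveI hBbab : IsMulCommutative Bb := IsPGroup.isMulCommutative_of_card_eq_prime_sq (p := p) hBbcard
  have hn3 : 3 ≤ n := by
    have := Subgroup.card_subgroup_dvd_card B
    rw [hB, hX] at this
    exact (Nat.pow_dvd_pow_iff_le_right hp.one_lt).1 this
  have hQcard : Nat.card (X ⧸ Z) = p ^ ((n - 3) + 2) := by
    have h := Subgroup.card_eq_card_quotient_mul_card_subgroup Z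
    rw [hX, hZcard] at h
    refine Nat.eq_of_mul_eq_mul_right hp.pos (h.symm.trans ?_)
    rw [← pow_succ, show n - 3 + 2 + 1 = n by omega]
  have ht : ∃ t : X ⧸ Z, Nat.card (Subgroup.centralizer ({t} : Set (X ⧸ Z))) ≤ p ^ 2 := by
    have hzle : Subgroup.center (X ⧸ Z) ≤ Bb := (Subgroup.center_le_centralizer _).trans hBbc
    by_cases hzeq : Subgroup.center (X ⧸ Z) = Bb
    · refine ⟨1, le_of_eq ?_⟩
      have htop : Bb = ⊤ := by
        refine top_le_iff.1 (le_trans ?_ hBbc)
        rw [← hzeq]
        intro q _ w hw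
        exact (Subgroup.mem_center_iff.1 hw q).symm
      rw [show Subgroup.centralizer ({(1 : X ⧸ Z)} : Set (X ⧸ Z)) = Bb by
        rw [htop, eq_top_iff]; exact fun q _ => Subgroup.mem_centralizer_singleton_iff.2 (by simp), hBbcard]
    · obtain ⟨t, htB, htz⟩ := SetLike.exists_of_lt (lt_of_le_of_ne hzle hzeq)
      refine ⟨t, ?_⟩
      have hgen : Bb ≤ Subgroup.zpowers t ⊔ Subgroup.center (X ⧸ Z) := by
        have hle : Subgroup.zpowers t ⊔ Subgroup.center (X ⧸ Z) ≤ Bb :=
          sup_le (Subgroup.zpowers_le.2 htB) hzle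
        refine (Subgroup.eq_of_le_of_card_ge hle ?_).ge
        obtain ⟨k, hk, hk'⟩ := (Nat.dvd_prime_pow hp).1 (hBbcard ▸ Subgroup.card_dvd_of_le hle)
        rw [hBbcard, hk']
        refine Nat.pow_le_pow_right hp.pos ?_
        by_contra h2
        haveI : Nontrivial (X ⧸ Z) := by
          refine Finite.one_lt_card_iff_nontrivial.1 ?_
          rw [hQcard]; exact Nat.one_lt_pow (by omega) hp.one_lt
        haveI := (IsPGroup.of_card hQcard).center_nontrivial
        have hlt : Subgroup.center (X ⧸ Z) < Subgroup.zpowers t ⊔ Subgroup.center (X ⧸ Z) :=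
          lt_of_le_of_ne le_sup_right fun e => htz (e.ge (le_sup_left (a := Subgroup.zpowers t) (Subgroup.mem_zpowers t)))
        have hcl : Nat.card (Subgroup.center (X ⧸ Z)) < Nat.card ↥(Subgroup.zpowers t ⊔ Subgroup.center (X ⧸ Z)) := by
          by_contra hge
          exact hlt.ne (Subgroup.eq_of_le_of_card_ge hlt.le (not_lt.1 hge))
        obtain ⟨j, hj, hj'⟩ := (Nat.dvd_prime_pow hp).1 (hk' ▸ Subgroup.card_dvd_of_le hlt.le)
        have h1 : 1 < Nat.card (Subgroup.center (X ⧸ Z)) := Finite.one_lt_card
        rw [hk', hj'] at hcl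
        rw [hj'] at h1
        have := (Nat.pow_lt_pow_iff_right hp.one_lt).1 hcl
        have : j ≠ 0 := fun e => by simp [e] at h1
        omega
      refine hBbcard ▸ Nat.le_of_dvd Nat.card_pos (Subgroup.card_dvd_of_le (le_trans ?_ hBbc))
      intro c hc w hw
      have hwc : w ∈ Subgroup.centralizer ({c} : Set (X ⧸ Z)) := by
        refine (hgen.trans (sup_le ?_ (Subgroup.center_le_centralizer _))) hw
        rw [Subgroup.zpowers_le, Subgroup.mem_centralizer_singleton_iff]
        exact (Subgroup.mem_centralizer_singleton_iff.1 hc).symm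
      exact Subgroup.mem_centralizer_singleton_iff.1 hwc
  have hne := Cfsg.Agent.Solv.lcs_ne_bot_of_small_centralizer (p := p) (n - 3) hQcard ht
  have hne2 := Cfsg.Agent.Solv.lcs_pred_ne_bot_of_quotient Z hne le_rfl
  have hbot := Cfsg.Agent.Solv.lcs_eq_bot hXp hX (by omega)
  haveI : Group.IsNilpotent X := hXp.isNilpotent
  refine le_antisymm ((Subgroup.lowerCentralSeries_eq_bot_iff_nilpotencyClass_le).1 hbot) ?_
  by_contra hlt
  exact hne2 ((Subgroup.lowerCentralSeries_eq_bot_iff_nilpotencyClass_le).2 (by omega))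

end Cfsg.Agent.S4143
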