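import Cfsg.Statements.S4145
import Mathlib
import Cfsg.Agent.Lib.Fusion.NPC
import Cfsg.Agent.Lib.Fusion.Cores

set_option autoImplicit false
open Cfsg

namespace Cfsg.Agent.S4145


open Cfsg.Agent.Fusion
open scoped Pointwise

theorem comm_of_pow {G : Type*} [Group G] {p : ℕ} [Fact p.Prime] {n y : G} {s : ℤ} {k d : ℕ}
    (hconj : n * y * n⁻¹ = y ^ s) (hs : (p : ℤ) ∣ s - 1) (hy : y ^ p ^ k = 1)
    (hd : d.Coprime p) (hn : Commute (n ^ d) y) : Commute n y := by
  have hiter : ∀ j : ℕ, n ^ j * y * (n ^ j)⁻¹ = y ^ (s ^ j) := by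
    intro j
    induction j with
    | zero => simp
    | succ j ih =>
      calc n ^ (j + 1) * y * (n ^ (j + 1))⁻¹ = n ^ j * (n * y * n⁻¹) * (n ^ j)⁻¹ := by rw [pow_succ]; group
        _ = (n ^ j * y * (n ^ j)⁻¹) ^ s := by rw [hconj, conj_zpow]
        _ = y ^ (s ^ (j + 1)) := by rw [ih, ← zpow_mul, pow_succ]
  have hpk : Commute (n ^ p ^ k) y := by
    obtain ⟨c, hc⟩ : (p : ℤ) ^ k ∣ s ^ p ^ k - 1 := by
      have h := dvd_sub_pow_of_dvd_sub (p := p) hs k
      rw [one_pow] at h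
      exact (pow_dvd_pow _ (Nat.le_succ k)).trans h
    have h := hiter (p ^ k)
    rw [show s ^ p ^ k = (p : ℤ) ^ k * c + 1 by linarith, zpow_add, zpow_mul, ← Nat.cast_pow,
      zpow_natCast, hy, one_zpow, one_mul, zpow_one, mul_inv_eq_iff_eq_mul] at h
    exact h
  have hcop : ((p ^ k : ℕ)).Coprime d := (hd.symm).pow_left k
  have hg := Int.gcd_eq_gcd_ab ((p ^ k : ℕ) : ℤ) (d : ℤ)
  rw [Int.gcd_natCast_natCast, hcop.gcd_eq_one] at hg
  have : n = (n ^ p ^ k) ^ Int.gcdA ((p ^ k : ℕ) : ℤ) (d : ℤ) * (n ^ d) ^ Int.gcdB ((p ^ k : ℕ) : ℤ) (d : ℤ) := by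
    rw [← zpow_natCast n (p ^ k), ← zpow_natCast n d, ← zpow_mul, ← zpow_mul, ← zpow_add, ← hg]
    simp
  rw [this]
  exact (hpk.zpow_left _).mul_left (hn.zpow_left _)

theorem comm_on_fixed {G : Type*} [Group G] {p : ℕ} [Fact p.Prime] {n g : G} {s : ℤ} {k : ℕ}
    (hconj : n * g * n⁻¹ = g ^ s) (hg : orderOf g = p ^ k) {j : ℤ} (hj : g ^ j ≠ 1)
    (hfix : n * g ^ j * n⁻¹ = g ^ j) : (p : ℤ) ∣ s - 1 := by
  by_contra hnd
  rw [← conj_zpow, hconj, ← zpow_mul, ← mul_inv_eq_one, ← zpow_sub, ← orderOf_dvd_iff_zpow_eq_one,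
    hg, show s * j - j = (s - 1) * j by ring] at hfix
  apply hj
  rw [← orderOf_dvd_iff_zpow_eq_one, hg, Nat.cast_pow]
  refine (IsCoprime.pow_left ?_ : IsCoprime ((p : ℤ) ^ k) (s - 1)).dvd_of_dvd_mul_left (by simpa using hfix)
  exact (Nat.prime_iff_prime_int.1 (Fact.out : p.Prime)).coprime_iff_not_dvd.2 hnd

/-- Burnside: commuting normalisers of an abelian Sylow subgroup. -/
theorem burnside {G : Type*} [Group G] [Finite G] {p : ℕ} [Fact p.Prime] (P : Sylow p G)
    [IsMulCommutative (P : Subgroup G)]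
    (h : ∀ n ∈ Subgroup.normalizer ((P : Subgroup G) : Set G), (orderOf n).Coprime p →
      ∀ x ∈ (P : Subgroup G), Commute n x) : HasNormalPComplement p G := by
  refine ⟨P, _, MonoidHom.normal_ker _, MonoidHom.ker_transferSylow_isComplement' P (fun n hn => ?_)⟩
  have hn0 := orderOf_pos n
  obtain ⟨v, m, hm, hvm⟩ := Nat.exists_eq_pow_mul_and_not_dvd hn0.ne' p (Fact.out : p.Prime).ne_one
  have hm0 : m ≠ 0 := fun e => hm (e ▸ dvd_zero p)
  have hcop : (p ^ v).Coprime m := ((Nat.Prime.coprime_iff_not_dvd Fact.out).2 hm).pow_left v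
  intro x hx
  have hA : Commute (n ^ p ^ v) x := by
    refine h _ (Subgroup.pow_mem _ hn _) ?_ x hx
    rw [orderOf_pow_of_dvd (pow_ne_zero _ (Fact.out : p.Prime).ne_zero) ⟨m, hvm⟩, hvm,
      Nat.mul_div_cancel_left _ (pow_pos (Fact.out : p.Prime).pos _)]
    exact ((Nat.Prime.coprime_iff_not_dvd Fact.out).2 hm).symm
  have hB : Commute (n ^ m) x := by
    have hz : IsPGroup p (Subgroup.zpowers (n ^ m)) := by
      refine IsPGroup.of_card (n := v) ?_
      rw [Nat.card_zpowers, orderOf_pow_of_dvd hm0 ⟨p ^ v, by rw [hvm, mul_comm]⟩, hvm,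
        Nat.mul_div_cancel _ (Nat.pos_of_ne_zero hm0)]
    have hmem : n ^ m ∈ (P : Subgroup G) := by
      have h2 : n ^ m ∈ Subgroup.zpowers (n ^ m) ⊓ Subgroup.normalizer ((P : Subgroup G) : Set G) :=
        ⟨Subgroup.mem_zpowers _, Subgroup.pow_mem _ hn _⟩
      exact ((SetLike.ext_iff.1 (hz.inf_normalizer_sylow P) _).1 h2).2
    exact congrArg Subtype.val (mul_comm' (⟨n ^ m, hmem⟩ : (P : Subgroup G)) ⟨x, hx⟩)
  have hg := Int.gcd_eq_gcd_ab ((p ^ v : ℕ) : ℤ) (m : ℤ)
  rw [Int.gcd_natCast_natCast, hcop.gcd_eq_one] at hg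
  have e : n = (n ^ p ^ v) ^ Int.gcdA ((p ^ v : ℕ) : ℤ) (m : ℤ) * (n ^ m) ^ Int.gcdB ((p ^ v : ℕ) : ℤ) (m : ℤ) := by
    rw [← zpow_natCast n (p ^ v), ← zpow_natCast n m, ← zpow_mul, ← zpow_mul, ← zpow_add, ← hg]
    simp
  rw [e]
  exact ((hA.zpow_left _).mul_left (hB.zpow_left _)).symm

theorem hnpc_part {G : Type*} [Group G] [Finite G] {p : ℕ} [Fact p.Prime]
    (P : Sylow p G) (hP : IsCyclic (P : Subgroup G)) (H : Subgroup G) [H.Normal] (h2 : p ∣ H.index) :
    HasNormalPComplement p H := by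
  obtain ⟨Q0⟩ := (inferInstance : Nonempty (Sylow p H))
  set Q : Subgroup G := (Q0 : Subgroup H).map H.subtype with hQ
  have hQp : IsPGroup p Q := Q0.2.map _
  obtain ⟨P1, hP1⟩ := hQp.exists_le_sylow
  haveI hcyc : IsCyclic (P1 : Subgroup G) := isCyclic_of_surjective _ (P.equiv P1).surjective
  have hinf : (P1 : Subgroup G) ⊓ H = Q := by
    refine le_antisymm ?_ (le_inf hP1 (Subgroup.map_subtype_le _))
    have hp' : IsPGroup p ↥((P1 : Subgroup G).comap H.subtype) :=
      P1.2.comap_of_injective H.subtype H.subtype_injective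
    have e := Q0.3 hp' (Subgroup.map_le_iff_le_comap.1 hP1)
    rintro x ⟨hx, hxH⟩
    exact ⟨⟨x, hxH⟩, e ▸ (show (⟨x, hxH⟩ : H) ∈ (P1 : Subgroup G).comap H.subtype from hx), rfl⟩
  haveI : IsMulCommutative (Q0 : Subgroup H) := ⟨⟨fun u v => by
    letI := IsCyclic.commGroup (α := (P1 : Subgroup G))
    have := congrArg (fun z : (P1 : Subgroup G) => (z : G)) (mul_comm
      (⟨((u : H) : G), hP1 ⟨u, u.2, rfl⟩⟩ : (P1 : Subgroup G)) ⟨((v : H) : G), hP1 ⟨v, v.2, rfl⟩⟩)
    exact Subtype.ext (Subtype.ext this)⟩⟩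
  refine burnside Q0 fun n hn hnp x hx => ?_
  -- Frattini argument
  set D : Subgroup G := (H ⊓ Subgroup.centralizer (Q : Set G)) ⊔ (P1 : Subgroup G) with hD
  have hnQ : ∀ y ∈ Q, (n : G) * y * (n : G)⁻¹ ∈ Q := by
    rintro _ ⟨y, hy, rfl⟩
    exact ⟨n * y * n⁻¹, (Subgroup.mem_normalizer_iff.1 hn y).1 hy, by simp⟩
  have hnQ' : ∀ y ∈ Q, (n : G)⁻¹ * y * n ∈ Q := by
    rintro _ ⟨y, hy, rfl⟩
    exact ⟨n⁻¹ * y * n, (Subgroup.mem_normalizer_iff.1 hn _).2 (by rw [show n * (n⁻¹ * y * n) * n⁻¹ = y by group]; exact hy), by simp⟩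
  have hPC : (P1 : Subgroup G) ≤ Subgroup.centralizer (Q : Set G) := fun u hu q hq => by
    letI := IsCyclic.commGroup (α := (P1 : Subgroup G))
    exact congrArg (fun z : (P1 : Subgroup G) => (z : G)) (mul_comm (⟨q, hP1 hq⟩ : (P1 : Subgroup G)) ⟨u, hu⟩)
  have hconjle : ∀ u ∈ (P1 : Subgroup G), (n : G) * u * (n : G)⁻¹ ∈ D := by
    intro u hu
    have e : (n : G) * u * (n : G)⁻¹ = ((n : G) * u * (n : G)⁻¹ * u⁻¹) * u := by group
    rw [e]
    refine D.mul_mem (Subgroup.mem_sup_left ⟨?_, ?_⟩) (Subgroup.mem_sup_right hu)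
    · rw [show (n : G) * u * (n : G)⁻¹ * u⁻¹ = n * (u * (n : G)⁻¹ * u⁻¹) by group]
      exact H.mul_mem n.2 (Subgroup.Normal.conj_mem inferInstance _ (H.inv_mem n.2) u)
    · refine (Subgroup.centralizer (Q : Set G)).mul_mem ?_ ((Subgroup.centralizer (Q : Set G)).inv_mem (hPC hu))
      intro q hq
      have h := hPC hu _ (hnQ' q hq)
      calc q * ((n : G) * u * (n : G)⁻¹) = n * ((n : G)⁻¹ * q * n * u) * (n : G)⁻¹ := by group
        _ = n * (u * ((n : G)⁻¹ * q * n)) * (n : G)⁻¹ := by rw [h]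
        _ = n * u * (n : G)⁻¹ * q := by group
  obtain ⟨P2, hP2⟩ : ∃ P2 : Sylow p G, (P2 : Subgroup G) = ((n : G) • P1 : Sylow p G) := ⟨_, rfl⟩
  have hP2D : (P2 : Subgroup G) ≤ D := by
    rw [hP2, Sylow.coe_subgroup_smul]
    intro u hu
    rw [Subgroup.mem_pointwise_smul_iff_inv_smul_mem] at hu
    simp only [MulAut.smul_def, MulAut.conj_inv_apply] at hu
    have := hconjle _ hu
    simpa [mul_assoc] using this
  obtain ⟨d, hd⟩ := MulAction.exists_smul_eq D (P1.subtype (le_sup_right : (P1 : Subgroup G) ≤ D)) (P2.subtype hP2D)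
  have hdP : (d : G) • P1 = P2 := by
    apply Sylow.subtype_injective (N := D) (hP := ?_) (hQ := hP2D)
    · rw [← hd]
      exact (Sylow.smul_subtype _ _ ).symm
  have hdm : ((d : G)) ∈ (↑(H ⊓ Subgroup.centralizer (Q : Set G)) : Set G) * (P1 : Set G) := by
    haveI : ((H ⊓ Subgroup.centralizer (Q : Set G)).subgroupOf D).Normal := by
      refine Subgroup.normal_subgroupOf_of_le_normalizer (sup_le Subgroup.le_normalizer fun u hu => ?_)
      rw [Subgroup.mem_normalizer_iff]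
      intro z
      have key : ∀ u ∈ (P1 : Subgroup G), ∀ z ∈ H ⊓ Subgroup.centralizer (Q : Set G),
          u * z * u⁻¹ ∈ H ⊓ Subgroup.centralizer (Q : Set G) := fun u hu z hz =>
        ⟨Subgroup.Normal.conj_mem inferInstance _ hz.1 u, (Subgroup.centralizer (Q : Set G)).mul_mem
          ((Subgroup.centralizer (Q : Set G)).mul_mem (hPC hu) hz.2) ((Subgroup.centralizer (Q : Set G)).inv_mem (hPC hu))⟩
      exact ⟨key u hu z, fun hz => by simpa [mul_assoc] using key u⁻¹ ((P1 : Subgroup G).inv_mem hu) _ hz⟩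
    have h' : d ∈ (H ⊓ Subgroup.centralizer (Q : Set G)).subgroupOf D ⊔ (P1 : Subgroup G).subgroupOf D := by
      rw [← Subgroup.subgroupOf_sup le_sup_left le_sup_right, Subgroup.subgroupOf_self]; trivial
    rw [← SetLike.mem_coe, Subgroup.normal_mul] at h'
    obtain ⟨a, ha, b, hb, hab⟩ := Set.mem_mul.1 h'
    exact Set.mem_mul.2 ⟨(a : G), ha, (b : G), hb, congrArg Subtype.val hab⟩
  obtain ⟨c, hc, u, hu, hcu⟩ := Set.mem_mul.1 hdm
  -- n' = c⁻¹ n normalises P1
  have hnorm : c⁻¹ * (n : G) ∈ Subgroup.normalizer ((P1 : Subgroup G) : Set G) := by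
    refine Sylow.smul_eq_iff_mem_normalizer.1 ?_
    rw [mul_smul, show (n : G) • P1 = P2 from (Sylow.ext hP2).symm, ← hdP,
      ← hcu, mul_smul, inv_smul_smul]
    exact Sylow.smul_eq_iff_mem_normalizer.2 (Subgroup.le_normalizer hu)
  obtain ⟨g, hg⟩ := hcyc.exists_generator
  obtain ⟨kk, hkk⟩ := IsPGroup.iff_orderOf.1 P1.2 g
  rw [← Subgroup.orderOf_coe] at hkk
  have hgc := (Subgroup.mem_normalizer_iff.1 hnorm (g : G)).1 g.2
  obtain ⟨s, hs⟩ := Subgroup.mem_zpowers_iff.1 (hg ⟨_, hgc⟩)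
  have hs' : c⁻¹ * (n : G) * (g : G) * (c⁻¹ * (n : G))⁻¹ = (g : G) ^ s := by
    have := congrArg (fun z : (P1 : Subgroup G) => (z : G)) hs
    simpa using this.symm
  have hnH : c⁻¹ * (n : G) ∈ H := H.mul_mem (H.inv_mem hc.1) n.2
  have hp1 : (p : ℤ) ∣ s - 1 := by
    by_contra hnd
    have hgs : (g : G) ^ (s - 1) ∈ Q := by
      rw [← hinf]
      refine ⟨Subgroup.zpow_mem _ g.2 _, ?_⟩
      rw [zpow_sub, zpow_one, ← hs', show c⁻¹ * (n : G) * (g : G) * (c⁻¹ * (n : G))⁻¹ * (g : G)⁻¹ =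
        c⁻¹ * (n : G) * ((g : G) * (c⁻¹ * (n : G))⁻¹ * (g : G)⁻¹) by group]
      exact H.mul_mem hnH (Subgroup.Normal.conj_mem inferInstance _ (H.inv_mem hnH) _)
    have hgQ : (g : G) ∈ Q := by
      have hcop : IsCoprime (s - 1) ((p : ℤ) ^ kk) :=
        (((Nat.prime_iff_prime_int.1 (Fact.out : p.Prime)).coprime_iff_not_dvd.2 hnd).symm).pow_right
      obtain ⟨a, b, hab⟩ := hcop
      have e : (g : G) = ((g : G) ^ (s - 1)) ^ a * ((g : G) ^ ((p : ℤ) ^ kk)) ^ b := by
        rw [← zpow_mul, ← zpow_mul, ← zpow_add, mul_comm (s - 1), mul_comm ((p : ℤ) ^ kk), hab, zpow_one]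
      have e1 : (g : G) ^ ((p : ℤ) ^ kk) = 1 := by
        rw [← Nat.cast_pow, zpow_natCast, ← hkk, pow_orderOf_eq_one]
      rw [e, e1, one_zpow, mul_one]
      exact Q.zpow_mem hgs a
    have hle : (P1 : Subgroup G) ≤ H := by
      intro z hz
      obtain ⟨m, hm⟩ := Subgroup.mem_zpowers_iff.1 (hg ⟨z, hz⟩)
      have := congrArg (fun w : (P1 : Subgroup G) => (w : G)) hm
      rw [← (show ((g ^ m : (P1 : Subgroup G)) : G) = z from this)]
      push_cast
      exact H.zpow_mem (Subgroup.map_subtype_le _ hgQ) m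
    exact P1.not_dvd_index (h2.trans (Subgroup.index_dvd_of_le hle))
  -- transfer the action to x
  have hxQ : (x : G) ∈ Q := ⟨x, hx, rfl⟩
  obtain ⟨j, hj⟩ := Subgroup.mem_zpowers_iff.1 (hg ⟨_, hP1 hxQ⟩)
  have hj' : (g : G) ^ j = (x : G) := by
    have := congrArg (fun w : (P1 : Subgroup G) => (w : G)) hj
    simpa using this
  have hcomm : Commute c⁻¹ ((n : G) * x * (n : G)⁻¹) :=
    (Commute.inv_right (hc.2 _ (hnQ _ hxQ))).symm
  have hconj : (n : G) * x * (n : G)⁻¹ = (x : G) ^ s := by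
    calc (n : G) * x * (n : G)⁻¹ = c⁻¹ * ((n : G) * x * (n : G)⁻¹) * c := by rw [hcomm.eq]; group
      _ = c⁻¹ * (n : G) * (g : G) ^ j * (c⁻¹ * (n : G))⁻¹ := by rw [hj']; group
      _ = (x : G) ^ s := by rw [← conj_zpow, hs', ← zpow_mul, mul_comm, zpow_mul, hj']
  refine Subtype.ext ?_
  refine (comm_of_pow (p := p) (k := kk) hconj hp1 ?_ hnp ?_ : Commute (n : G) (x : G))
  · rw [← hj', ← zpow_natCast, ← zpow_mul, mul_comm, zpow_mul, zpow_natCast, ← hkk, pow_orderOf_eq_one, one_zpow]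
  · rw [← Subgroup.orderOf_coe, pow_orderOf_eq_one]; exact Commute.one_left _


/-- Let G be a finite group with a cyclic Sylow p-subgroup and H a normal subgroup such that p divides both the order of H and the index of H. Then H has a normal p-complement and G is p-solvable. -/
theorem result {G : Type*} [Group G] [Finite G] (p : ℕ) [Fact p.Prime]
    (P : Sylow p G) (hP : IsCyclic (P : Subgroup G)) (H : Subgroup G) [H.Normal] (h1 : p ∣ Nat.card H) (h2 : p ∣ H.index) :
    Cfsg.HasNormalPComplement p H ∧ Cfsg.IsPSolvable p G := by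
  have hA := hnpc_part P hP H h2
  refine ⟨hA, ?_⟩
  -- p-solvability
  set K : Subgroup G := (pResidual p H).map H.subtype with hK
  haveI : K.Normal := inferInstance
  have hKH : K ≤ H := Subgroup.map_subtype_le _
  have hKcop : (Nat.card K).Coprime p := by
    rw [hK, Subgroup.card_map_of_injective H.subtype_injective]; exact hnpc_iff.1 hA
  set π := QuotientGroup.mk' K with hπ
  have hπs : Function.Surjective π := QuotientGroup.mk'_surjective K
  haveI hHb : (H.map π).Normal := Subgroup.Normal.map inferInstance π hπs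
  set C : Subgroup (G ⧸ K) := Subgroup.centralizer ((H.map π : Subgroup (G ⧸ K)) : Set (G ⧸ K)) with hC
  haveI : C.Normal := inferInstance
  -- H.map π is a non-trivial p-group
  have hHbp : IsPGroup p (H.map π) := by
    have hq : IsPGroup p (H ⧸ pResidual p H) := isPGroup_quotient_pResidual
    refine hq.of_surjective (QuotientGroup.lift (pResidual p H) ((π.comp H.subtype).codRestrict (H.map π)
      (fun z => Subgroup.mem_map_of_mem π z.2)) ?_) ?_
    · intro z hz
      rw [MonoidHom.mem_ker]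
      exact Subtype.ext ((QuotientGroup.eq_one_iff _).2 ⟨z, hz, rfl⟩)
    · rintro ⟨_, z, hz, rfl⟩
      exact ⟨QuotientGroup.mk ⟨z, hz⟩, rfl⟩
  obtain ⟨Pb, hPb⟩ := hHbp.exists_le_sylow
  haveI hcycb : IsCyclic (Pb : Subgroup (G ⧸ K)) := by
    obtain ⟨R, hR⟩ := Sylow.mapSurjective_surjective hπs p Pb
    haveI : IsCyclic (R : Subgroup G) := isCyclic_of_surjective _ (P.equiv R).surjective
    rw [← hR, Sylow.coe_mapSurjective]
    exact isCyclic_of_surjective (π.subgroupMap (R : Subgroup G)) (MonoidHom.subgroupMap_surjective π _)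
  have hPC : (Pb : Subgroup (G ⧸ K)) ≤ C := fun u hu q hq => by
    letI := IsCyclic.commGroup (α := (Pb : Subgroup (G ⧸ K)))
    exact congrArg (fun z : (Pb : Subgroup (G ⧸ K)) => (z : G ⧸ K))
      (mul_comm (⟨q, hPb hq⟩ : (Pb : Subgroup (G ⧸ K))) ⟨u, hu⟩)
  obtain ⟨y, hy, hy1⟩ : ∃ y ∈ H.map π, y ≠ 1 := by
    by_contra hall
    push Not at hall
    obtain ⟨g, hg⟩ := exists_prime_orderOf_dvd_card' (G := H) p h1
    have h := hall _ (Subgroup.mem_map_of_mem π g.2)
    have hgK : (g : G) ∈ K := (QuotientGroup.eq_one_iff _).1 h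
    have hd : orderOf (g : G) ∣ Nat.card K := by
      have := orderOf_dvd_natCard (⟨_, hgK⟩ : K); rwa [Subgroup.orderOf_mk] at this
    rw [Subgroup.orderOf_coe, hg] at hd
    exact (Fact.out : p.Prime).ne_one (Nat.eq_one_of_dvd_coprimes hKcop hd dvd_rfl)
  have hB : HasNormalPComplement p C := by
    let PC : Sylow p C := Pb.subtype hPC
    haveI : IsMulCommutative (PC : Subgroup C) := ⟨⟨fun u v => Subtype.ext (Subtype.ext (by
      letI := IsCyclic.commGroup (α := (Pb : Subgroup (G ⧸ K)))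
      exact congrArg (fun z : (Pb : Subgroup (G ⧸ K)) => (z : G ⧸ K))
        (mul_comm (⟨_, u.2⟩ : (Pb : Subgroup (G ⧸ K))) ⟨_, v.2⟩)))⟩⟩
    refine burnside PC fun n hn hnp x hx => ?_
    obtain ⟨g, hg⟩ := hcycb.exists_generator
    obtain ⟨kk, hkk⟩ := IsPGroup.iff_orderOf.1 Pb.2 g
    rw [← Subgroup.orderOf_coe] at hkk
    have hgc : (n : G ⧸ K) * g * (n : G ⧸ K)⁻¹ ∈ (Pb : Subgroup (G ⧸ K)) := by
      have := (Subgroup.mem_normalizer_iff.1 hn (⟨g, hPC g.2⟩ : C)).1 g.2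
      exact this
    obtain ⟨s, hs⟩ := Subgroup.mem_zpowers_iff.1 (hg ⟨_, hgc⟩)
    have hs' : (n : G ⧸ K) * g * (n : G ⧸ K)⁻¹ = (g : G ⧸ K) ^ s := by
      have := congrArg (fun z : (Pb : Subgroup (G ⧸ K)) => (z : G ⧸ K)) hs
      simpa using this.symm
    obtain ⟨j, hj⟩ := Subgroup.mem_zpowers_iff.1 (hg ⟨y, hPb hy⟩)
    have hj' : (g : G ⧸ K) ^ j = y := by
      have := congrArg (fun z : (Pb : Subgroup (G ⧸ K)) => (z : G ⧸ K)) hj
      simpa using this
    have hp1 := comm_on_fixed (p := p) hs' hkk (j := j) (hj' ▸ hy1) (by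
      rw [hj', ← n.2 y hy]; group)
    obtain ⟨i, hi⟩ := Subgroup.mem_zpowers_iff.1 (hg ⟨(x : G ⧸ K), hx⟩)
    have hi' : (g : G ⧸ K) ^ i = (x : G ⧸ K) := by
      have := congrArg (fun z : (Pb : Subgroup (G ⧸ K)) => (z : G ⧸ K)) hi
      simpa using this
    refine Subtype.ext ?_
    show (n : G ⧸ K) * (x : G ⧸ K) = x * n
    rw [← hi']
    refine ((comm_of_pow (p := p) (k := kk) hs' hp1 (by rw [← hkk, pow_orderOf_eq_one]) hnp ?_).zpow_right i)
    rw [← Subgroup.orderOf_coe, pow_orderOf_eq_one]; exact Commute.one_left _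
  -- the chain
  set K2 : Subgroup (G ⧸ K) := (pResidual p C).map C.subtype with hK2
  haveI : K2.Normal := inferInstance
  have hK2C : K2 ≤ C := Subgroup.map_subtype_le _
  refine ⟨3, ![⊥, K2.comap π, C.comap π, ⊤], rfl, rfl, ?_, ?_, ?_⟩
  · refine Fin.monotone_iff_le_succ.2 fun i => ?_
    fin_cases i
    · exact bot_le
    · exact Subgroup.comap_mono hK2C
    · exact le_top
  · intro i
    fin_cases i
    · exact (inferInstance : (⊥ : Subgroup G).Normal)
    · exact Subgroup.Normal.comap inferInstance _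
    · exact Subgroup.Normal.comap inferInstance _
    · exact (inferInstance : (⊤ : Subgroup G).Normal)
  · intro i
    fin_cases i
    · right
      show ((⊥ : Subgroup G).relIndex (K2.comap π)).Coprime p
      rw [Subgroup.relIndex_bot_left]
      have e : Nat.card (K2.comap π) = Nat.card K * Nat.card K2 := by
        rw [Subgroup.card_eq_card_quotient_mul_card_subgroup (π.comp (K2.comap π).subtype).ker,
          Nat.card_congr (QuotientGroup.quotientKerEquivRange (π.comp (K2.comap π).subtype)).toEquiv,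
          MonoidHom.range_comp, Subgroup.range_subtype, Subgroup.map_comap_eq_self_of_surjective hπs,
          ← MonoidHom.comap_ker, QuotientGroup.ker_mk', mul_comm]
        congr 1
        refine Nat.card_congr (Subgroup.subgroupOfEquivOfLe ?_).toEquiv
        intro z hz
        show π z ∈ K2
        rw [show π z = 1 from (QuotientGroup.eq_one_iff z).2 hz]
        exact K2.one_mem
      rw [e]
      refine Nat.Coprime.mul_left hKcop ?_
      rw [hK2, Subgroup.card_map_of_injective C.subtype_injective]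
      exact hnpc_iff.1 hB
    · left
      show ∃ m, (K2.comap π).relIndex (C.comap π) = p ^ m
      rw [Subgroup.relIndex_comap, Subgroup.map_comap_eq_self_of_surjective hπs, hK2]
      show ∃ m, (((pResidual p C).map C.subtype).subgroupOf C).index = p ^ m
      rw [Subgroup.subgroupOf, Subgroup.comap_map_eq_self_of_injective C.subtype_injective, Subgroup.index_eq_card]
      exact IsPGroup.iff_card.1 isPGroup_quotient_pResidual
    · right
      show ((C.comap π).relIndex ⊤).Coprime p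
      rw [Subgroup.relIndex_top_right, Subgroup.index_comap_of_surjective _ hπs]
      refine ((Nat.Prime.coprime_iff_not_dvd Fact.out).2 fun hd => ?_).symm
      exact Pb.not_dvd_index (hd.trans (Subgroup.index_dvd_of_le hPC))

end Cfsg.Agent.S4145
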