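import Cfsg.Statements.S4149
import Mathlib.GroupTheory.Transfer

set_option autoImplicit false
open Cfsg

namespace Cfsg.Agent.S4149

/-- A prime with no normal complement divides the class sizes of at least half of the elements. -/
theorem half_le {G : Type*} [Group G] [Finite G] (p : ℕ) [Fact p.Prime]
    (hnc : ¬ Cfsg.HasNormalPComplement p G) (s : Finset G)
    (hs : ∀ x : G, p ∣ (Subgroup.centralizer ({x} : Set G)).index → x ∈ s) :
    Nat.card G ≤ 2 * s.card := by
  classical
  have : Fintype G := Fintype.ofFinite G
  let P : Sylow p G := default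
  set N : Subgroup G := Subgroup.normalizer ((P : Subgroup G) : Set G) with hN
  set C : Subgroup G := Subgroup.centralizer ((P : Subgroup G) : Set G) with hC
  have hCN : C ≤ N := Subgroup.centralizer_le_normalizer _
  have hne : ¬ N ≤ C := fun hle =>
    hnc ⟨P, _, (MonoidHom.transferSylow P hle).normal_ker,
      MonoidHom.ker_transferSylow_isComplement' P hle⟩
  have htwo : 2 * Nat.card C ≤ Nat.card N := by
    have h1 : Nat.card C * C.relIndex N = Nat.card N := by
      rw [Subgroup.relIndex, ← Subgroup.card_mul_index (C.subgroupOf N),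
        Nat.card_congr (Subgroup.subgroupOfEquivOfLe hCN).toEquiv]
    have h2 : C.relIndex N ≠ 0 := Subgroup.index_ne_zero_of_finite
    have h3 : C.relIndex N ≠ 1 := fun h => hne (Subgroup.relIndex_eq_one.1 h)
    rw [← h1, mul_comm 2]
    exact Nat.mul_le_mul le_rfl (by omega)
  -- elements outside `s` centralise a conjugate of `P`
  let f : (G ⧸ N) × C → G := fun qc => qc.1.out * (qc.2 : G) * qc.1.out⁻¹
  have hcover : ∀ x : G, x ∉ s → ∃ qc, f qc = x := by
    intro x hx
    have hnd : ¬ p ∣ (Subgroup.centralizer ({x} : Set G)).index := fun h => hx (hs x h)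
    obtain ⟨Q⟩ : Nonempty (Sylow p (Subgroup.centralizer ({x} : Set G))) := inferInstance
    set D : Subgroup G := Subgroup.centralizer ({x} : Set G) with hD
    -- a Sylow subgroup of the centraliser is one of the whole group
    set Q' : Subgroup G := (Q : Subgroup D).map D.subtype with hQ'
    have hQp : IsPGroup p Q' := Q.isPGroup'.map _
    have hQi : ¬ p ∣ Q'.index := by
      rw [hQ', Subgroup.index_map_subtype]
      exact (Fact.out : p.Prime).not_dvd_mul Q.not_dvd_index hnd
    let R : Sylow p G := hQp.toSylow hQi
    obtain ⟨g, hg⟩ := MulAction.exists_smul_eq G P R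
    set q : G ⧸ N := QuotientGroup.mk g with hq
    have hout : (q.out)⁻¹ * g ∈ N := by
      rw [← QuotientGroup.eq, QuotientGroup.out_eq']
    have hmem : q.out⁻¹ * x * q.out ∈ C := by
      rw [hC, Subgroup.mem_centralizer_iff]
      intro y hy
      obtain ⟨z, hz, hzy⟩ : ∃ z ∈ (R : Subgroup G), q.out⁻¹ * z * q.out = y := by
        have hy' : q.out * y * q.out⁻¹ ∈ (R : Subgroup G) := by
          rw [← hg, Sylow.coe_subgroup_smul, Subgroup.mem_pointwise_smul_iff_inv_smul_mem]
          simp only [MulAut.inv_def, MulAut.smul_def, map_inv, MulAut.conj_symm_apply]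
          have h7 := (Subgroup.mem_normalizer_iff.1 ((inv_mem hout) : (q.out⁻¹ * g)⁻¹ ∈ N) y).1 hy
          simpa [mul_assoc] using h7
        exact ⟨_, hy', by group⟩
      have hxz : x * z = z * x := by
        have hzD : z ∈ D := by
          have hz' : z ∈ Q' := hz
          rw [hQ'] at hz'
          obtain ⟨w, -, hw⟩ := hz'
          rw [← hw]; exact w.2
        exact Subgroup.mem_centralizer_iff.1 hzD x rfl
      rw [← hzy]
      calc q.out⁻¹ * z * q.out * (q.out⁻¹ * x * q.out) = q.out⁻¹ * (z * x) * q.out := by group
        _ = q.out⁻¹ * (x * z) * q.out := by rw [hxz]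
        _ = q.out⁻¹ * x * q.out * (q.out⁻¹ * z * q.out) := by group
    exact ⟨(q, ⟨_, hmem⟩), by simp only [f]; group⟩
  have hsub : Finset.univ \ s ⊆ (Finset.univ : Finset ((G ⧸ N) × C)).image f := by
    intro x hx
    simp only [Finset.mem_sdiff, Finset.mem_univ, true_and] at hx
    obtain ⟨qc, h⟩ := hcover x hx
    exact Finset.mem_image.2 ⟨qc, Finset.mem_univ _, h⟩
  have h8 : Nat.card G - s.card ≤ N.index * Nat.card C := by
    have h := (Finset.card_le_card hsub).trans Finset.card_image_le
    rw [Finset.card_univ_diff, Finset.card_univ, ← Nat.card_eq_fintype_card,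
      ← Nat.card_eq_fintype_card, Nat.card_prod] at h
    exact h
  have h9 : 2 * (N.index * Nat.card C) ≤ Nat.card G := by
    calc 2 * (N.index * Nat.card C) = N.index * (2 * Nat.card C) := by ring
      _ ≤ N.index * Nat.card N := Nat.mul_le_mul le_rfl htwo
      _ = Nat.card G := N.index_mul_card
  omega

/-- Let G be a finite group that has a normal p-complement for at most one prime p dividing its order, and let σ be a natural number such that every conjugacy class size of G has at most σ distinct prime divisors. Then the number of primes dividing at least one conjugacy class size of G is at most 2σ. -/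
theorem result {G : Type*} [Group G] [Finite G] (σ : ℕ)
    (hσ : ∀ x : G, ((Subgroup.centralizer ({x} : Set G)).index).primeFactors.card ≤ σ)
    (hnil : ∀ p q : ℕ, p.Prime → q.Prime → p ∣ Nat.card G → q ∣ Nat.card G →
      Cfsg.HasNormalPComplement p G → Cfsg.HasNormalPComplement q G → p = q) :
    Nat.card {p : ℕ | p.Prime ∧ ∃ x : G, p ∣ (Subgroup.centralizer ({x} : Set G)).index} ≤ 2 * σ := by
  classical
  have : Fintype G := Fintype.ofFinite G
  set R : Finset ℕ := (Nat.card G).primeFactors.filter
    (fun p => ∃ x : G, p ∣ (Subgroup.centralizer ({x} : Set G)).index) with hR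
  have hidx : ∀ x : G, (Subgroup.centralizer ({x} : Set G)).index ∣ Nat.card G :=
    fun x => Subgroup.index_dvd_card _
  have hset : {p : ℕ | p.Prime ∧ ∃ x : G, p ∣ (Subgroup.centralizer ({x} : Set G)).index} = (R : Set ℕ) := by
    ext p
    simp only [hR, Finset.coe_filter, Set.mem_ofPred_eq, Nat.mem_primeFactors]
    constructor
    · rintro ⟨hp, x, hx⟩
      exact ⟨⟨hp, hx.trans (hidx x), Nat.card_pos.ne'⟩, x, hx⟩
    · rintro ⟨⟨hp, -, -⟩, h⟩
      exact ⟨hp, h⟩
  rw [hset, Nat.card_coe_set_eq, Set.ncard_coe_finset]
  set good : ℕ → Finset G := fun p => Finset.univ.filter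
    (fun x : G => p ∣ (Subgroup.centralizer ({x} : Set G)).index) with hgood
  -- the double count
  have hsum : ∑ p ∈ R, (good p).card ≤ σ * (Nat.card G - 1) := by
    have h1 : ∑ p ∈ R, (good p).card =
        ∑ x : G, (R.filter (fun p => p ∣ (Subgroup.centralizer ({x} : Set G)).index)).card := by
      simp only [hgood, Finset.card_filter]
      exact Finset.sum_comm
    rw [h1, ← Finset.sum_erase_add _ _ (Finset.mem_univ (1 : G))]
    have hone : (R.filter (fun p => p ∣ (Subgroup.centralizer ({(1 : G)} : Set G)).index)).card = 0 := by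
      rw [Finset.card_eq_zero, Finset.filter_eq_empty_iff]
      intro p hp
      have htop : Subgroup.centralizer ({(1 : G)} : Set G) = ⊤ := by
        ext y; simp [Subgroup.mem_centralizer_iff]
      rw [htop, Subgroup.index_top, Nat.dvd_one]
      exact (Nat.prime_of_mem_primeFactors (Finset.filter_subset _ _ hp)).one_lt.ne'
    rw [hone, add_zero]
    calc _ ≤ ∑ _x ∈ (Finset.univ : Finset G).erase 1, σ := by
          refine Finset.sum_le_sum fun x _ => ?_
          refine le_trans (Finset.card_le_card ?_) (hσ x)
          intro p hp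
          rw [Finset.mem_filter] at hp
          rw [Nat.mem_primeFactors]
          exact ⟨Nat.prime_of_mem_primeFactors (Finset.filter_subset _ _ hp.1), hp.2,
            Subgroup.index_ne_zero_of_finite⟩
      _ = σ * (Nat.card G - 1) := by
          rw [Finset.sum_const, smul_eq_mul, Finset.card_erase_of_mem (Finset.mem_univ _),
            Finset.card_univ, Nat.card_eq_fintype_card, mul_comm]
  -- at most one prime is small
  set S : Finset ℕ := R.filter (fun p => ¬ Cfsg.HasNormalPComplement p G) with hS
  have hrest : R.card ≤ S.card + 1 := by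
    have h2 : (R.filter (fun p => Cfsg.HasNormalPComplement p G)).card ≤ 1 := by
      rw [Finset.card_le_one]
      intro p hp q hq
      rw [Finset.mem_filter] at hp hq
      have hp' := Nat.mem_primeFactors.1 (Finset.filter_subset _ _ hp.1)
      have hq' := Nat.mem_primeFactors.1 (Finset.filter_subset _ _ hq.1)
      exact hnil p q hp'.1 hq'.1 hp'.2.1 hq'.2.1 hp.2 hq.2
    have h3 := Finset.card_filter_add_card_filter_not (s := R) (fun p => Cfsg.HasNormalPComplement p G)
    rw [hS]; omega
  have hbig : ∀ p ∈ S, Nat.card G ≤ 2 * (good p).card := by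
    intro p hp
    rw [hS, Finset.mem_filter] at hp
    have hp' := Nat.mem_primeFactors.1 (Finset.filter_subset _ _ hp.1)
    have : Fact p.Prime := ⟨hp'.1⟩
    exact half_le p hp.2 (good p) (fun x hx => by simpa [hgood] using hx)
  have h4 : S.card * Nat.card G ≤ 2 * (σ * (Nat.card G - 1)) := by
    calc S.card * Nat.card G = ∑ _p ∈ S, Nat.card G := by rw [Finset.sum_const, smul_eq_mul]
      _ ≤ ∑ p ∈ S, 2 * (good p).card := Finset.sum_le_sum hbig
      _ ≤ ∑ p ∈ R, 2 * (good p).card :=
          Finset.sum_le_sum_of_subset (Finset.filter_subset _ _)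
      _ ≤ 2 * (σ * (Nat.card G - 1)) := by rw [← Finset.mul_sum]; omega
  rcases Nat.eq_zero_or_pos σ with h0 | h0
  · subst h0
    rw [Nat.le_zero, Finset.card_eq_zero]
    refine Finset.eq_empty_of_forall_notMem fun p hp => ?_
    rw [hR, Finset.mem_filter] at hp
    obtain ⟨x, hx⟩ := hp.2
    have := hσ x
    rw [Nat.le_zero, Finset.card_eq_zero, Nat.primeFactors_eq_empty] at this
    rcases this with h | h
    · exact Subgroup.index_ne_zero_of_finite h
    · rw [h, Nat.dvd_one] at hx
      exact (Nat.prime_of_mem_primeFactors hp.1).one_lt.ne' hx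
  · have hG : 0 < Nat.card G := Nat.card_pos
    have h5 : S.card * Nat.card G < 2 * σ * Nat.card G := by
      refine lt_of_le_of_lt h4 ?_
      rw [mul_assoc]
      exact Nat.mul_lt_mul_of_pos_left (Nat.mul_lt_mul_of_pos_left (by omega) h0) (by omega)
    have h6 := Nat.lt_of_mul_lt_mul_right h5
    omega

end Cfsg.Agent.S4149
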