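import Cfsg.Statements.S4150
import Cfsg.Agent.Lib.Perm.ThreePrimes
import Cfsg.Agent.Lib.Perm.TwoPrimeGen

set_option autoImplicit false
open Cfsg

namespace Cfsg.Agent.S4150

open Equiv Equiv.Perm Cfsg.Agent.Perm.TwoPrime

theorem restrict {m p q : ℕ} (hp : p.Prime) (hq : q.Prime) (hd : m ≤ 2 * p)
    (hgood : ∀ d, d ≤ m → Good d p q) (x y : alternatingGroup (Fin m))
    (hx : orderOf x = p) (hy : orderOf y = q) :
    ∃ d : ℕ, 5 ≤ d ∧
      Nonempty (Subgroup.closure ({x, y} : Set (alternatingGroup (Fin m))) ≃*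
        alternatingGroup (Fin d)) := by
  classical
  set X : Perm (Fin m) := (x : Perm (Fin m)) with hXdef
  set Y : Perm (Fin m) := (y : Perm (Fin m)) with hYdef
  set S : Finset (Fin m) := X.support ∪ Y.support with hS
  have hinv : ∀ (T : Perm (Fin m)), T.support ⊆ S → ∀ z, T z ∈ S ↔ z ∈ S := by
    intro T hT z
    by_cases hz : T z = z
    · rw [hz]
    · exact iff_of_true (hT (apply_mem_support.2 (mem_support.2 hz))) (hT (mem_support.2 hz))
  have hXS : X.support ⊆ S := Finset.subset_union_left
  have hYS : Y.support ⊆ S := Finset.subset_union_right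
  set x' : Perm {z // z ∈ S} := X.subtypePerm (hinv X hXS) with hx'
  set y' : Perm {z // z ∈ S} := Y.subtypePerm (hinv Y hYS) with hy'
  have hofX : ofSubtype x' = X := ofSubtype_subtypePerm (hinv X hXS) fun z hz => hXS (mem_support.2 hz)
  have hofY : ofSubtype y' = Y := ofSubtype_subtypePerm (hinv Y hYS) fun z hz => hYS (mem_support.2 hz)
  have hcard : Fintype.card {z // z ∈ S} ≤ m := by
    rw [Fintype.card_coe]
    exact (Finset.card_le_univ S).trans_eq (Fintype.card_fin m)
  have hox : orderOf x' = p := by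
    rw [← hx, ← Subgroup.orderOf_coe x, ← hXdef, ← hofX,
      orderOf_injective _ ofSubtype_injective]
  have hoy : orderOf y' = q := by
    rw [← hy, ← Subgroup.orderOf_coe y, ← hYdef, ← hofY,
      orderOf_injective _ ofSubtype_injective]
  obtain ⟨d, hd5, ⟨e⟩⟩ := closure_alternating x' y' hp hq (hcard.trans hd) (hgood _ hcard) hox hoy
    (by rw [← sign_ofSubtype, hofX]; exact x.2) (by rw [← sign_ofSubtype, hofY]; exact y.2)
    (fun z hz => by
      intro hz2
      have h1 : X z = z := congrArg Subtype.val hz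
      have h2 : Y z = z := congrArg Subtype.val hz2
      rcases Finset.mem_union.1 z.2 with h | h
      · exact mem_support.1 h h1
      · exact mem_support.1 h h2)
  have h1 : (Subgroup.closure ({x', y'} : Set (Perm {z // z ∈ S}))).map
      (ofSubtype : Perm {z // z ∈ S} →* Perm (Fin m)) =
      (Subgroup.closure ({x, y} : Set (alternatingGroup (Fin m)))).map
        (alternatingGroup (Fin m)).subtype := by
    rw [MonoidHom.map_closure, MonoidHom.map_closure, Set.image_pair, Set.image_pair, hofX, hofY]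
    rfl
  refine ⟨d, hd5, ⟨?_⟩⟩
  exact (Subgroup.equivMapOfInjective _ _ Subtype.val_injective).trans
    ((MulEquiv.subgroupCongr h1.symm).trans
      ((Subgroup.equivMapOfInjective _ _ ofSubtype_injective).symm.trans e))

/-- Let m ≥ 5. Then there are primes p < q with m/2 ≤ p and q ≤ m such that any two elements x, y of the alternating group of degree m with x of order p and y of order q generate a subgroup isomorphic to an alternating group of some degree d ≥ 5. -/
theorem result (m : ℕ) (hm : 5 ≤ m) :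
    ∃ p q : ℕ, p.Prime ∧ q.Prime ∧ m ≤ 2 * p ∧ p < q ∧ q ≤ m ∧
      ∀ x y : alternatingGroup (Fin m), orderOf x = p → orderOf y = q →
        ∃ d : ℕ, 5 ≤ d ∧ Nonempty (Subgroup.closure ({x, y} : Set (alternatingGroup (Fin m))) ≃* alternatingGroup (Fin d)) := by
  open Cfsg.Agent.Perm.TwoPrime in
  have key : ∀ p q : ℕ, p.Prime → q.Prime → m ≤ 2 * p → p < q → q ≤ m →
      (∀ d, d ≤ m → Good d p q) →
      ∃ p q : ℕ, p.Prime ∧ q.Prime ∧ m ≤ 2 * p ∧ p < q ∧ q ≤ m ∧
        ∀ x y : alternatingGroup (Fin m), orderOf x = p → orderOf y = q →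
          ∃ d : ℕ, 5 ≤ d ∧ Nonempty (Subgroup.closure ({x, y} : Set (alternatingGroup (Fin m))) ≃*
            alternatingGroup (Fin d)) :=
    fun p q hp hq h1 h2 h3 hg => ⟨p, q, hp, hq, h1, h2, h3, restrict hp hq h1 hg⟩
  by_cases h1 : m ≤ 6
  · exact key 3 5 (by decide) (by decide) (by omega) (by omega) hm
      (fun d _ => Or.inr (Or.inl ⟨rfl, rfl⟩))
  by_cases h2 : m ≤ 10
  · exact key 5 7 (by decide) (by decide) (by omega) (by omega) (by omega)
      (fun d _ => Or.inr (Or.inr (Or.inl ⟨rfl, rfl⟩)))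
  by_cases h3 : m ≤ 14
  · exact key 7 11 (by decide) (by decide) (by omega) (by omega) (by omega)
      (fun d _ => Or.inr (Or.inr (Or.inr (Or.inl ⟨rfl, rfl⟩))))
  by_cases h4 : m ≤ 16
  · exact key 11 13 (by decide) (by decide) (by omega) (by omega) (by omega)
      (fun d hd => Or.inr (Or.inr (Or.inr (Or.inr ⟨rfl, rfl, by omega⟩))))
  by_cases h5 : m ≤ 17
  · exact key 11 17 (by decide) (by decide) (by omega) (by omega) (by omega)
      (fun d hd => Or.inl ⟨by omega, by omega⟩)
  obtain ⟨a, b, c, ha, hb, hc, h6, h7, h8, h9⟩ :=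
    Cfsg.Agent.Perm.exists_three_primes (n := m / 2) (by omega)
  have := (ha.eq_two_or_odd).resolve_left (by omega)
  have := (hb.eq_two_or_odd).resolve_left (by omega)
  exact key a c ha hc (by omega) (by omega) (by omega) (fun d hd => Or.inl ⟨by omega, by omega⟩)

end Cfsg.Agent.S4150
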