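import Cfsg.Statements.S4151
import Cfsg.Agent.Lib.Perm.TIHall
import Cfsg.Agent.Lib.Solv.PConj

set_option autoImplicit false
set_option linter.style.haveILetI false
open Cfsg

namespace Cfsg.Agent.S4151

open scoped Pointwise commutatorElement IsMulCommutative
open Cfsg.Agent.Solv Cfsg.Agent.Perm.TIHall

/-- On an abelian group, a coprime group acting with `⁅M, Q⁆ = M` has no fixed points. -/
theorem fixed_trivial {G : Type*} [Group G] [Finite G] (M Q : Subgroup G) [IsMulCommutative M]
    (hQM : Q ≤ Subgroup.normalizer (M : Set G)) (hco : (Nat.card Q).Coprime (Nat.card M))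
    (hfull : M ≤ ⁅M, Q⁆) : M ⊓ Subgroup.centralizer (Q : Set G) = ⊥ := by
  classical
  letI : Fintype Q := Fintype.ofFinite _
  let N : M →* M :=
    { toFun := fun m => ∏ q : Q, (⟨q.1 * m.1 * q.1⁻¹,
          (Subgroup.mem_normalizer_iff.1 (hQM q.2) m.1).1 m.2⟩ : M)
      map_one' := Finset.prod_eq_one fun q _ => Subtype.ext (by simp)
      map_mul' := fun a b => by
        rw [← Finset.prod_mul_distrib]
        exact Finset.prod_congr rfl fun q _ => Subtype.ext (by simp [mul_assoc]) }
  have hN : ∀ m, ∀ hm : m ∈ M, N ⟨m, hm⟩ = 1 := by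
    have hle : ⁅M, Q⁆ ≤ (N.ker).map M.subtype := by
      rw [Subgroup.commutator_le]
      intro m hm q hq
      have hmem : q * m⁻¹ * q⁻¹ ∈ M := (Subgroup.mem_normalizer_iff.1 (hQM hq) m⁻¹).1 (M.inv_mem hm)
      refine ⟨⟨m, hm⟩ * ⟨_, hmem⟩, ?_, ?_⟩
      · show N (_ * _) = 1
        rw [map_mul]
        have : N ⟨_, hmem⟩ = N ⟨m⁻¹, M.inv_mem hm⟩ := by
          refine Fintype.prod_equiv (Equiv.mulRight (⟨q, hq⟩ : Q)) _ _ fun x => Subtype.ext ?_
          simp [mul_assoc]
        rw [this, ← map_mul, ← map_one N]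
        exact congrArg N (Subtype.ext (mul_inv_cancel m))
      · simp [commutatorElement_def, mul_assoc]
    intro m hm
    obtain ⟨x, hx, rfl⟩ := hle (hfull hm)
    exact hx
  rw [Subgroup.eq_bot_iff_forall]
  rintro c ⟨hcM, hcQ⟩
  have h1 := hN c hcM
  have h2 : N ⟨c, hcM⟩ = (⟨c, hcM⟩ : M) ^ Fintype.card Q := by
    show ∏ q : Q, (⟨q.1 * c * q.1⁻¹, _⟩ : M) = _
    rw [← Finset.card_univ, ← Finset.prod_const]
    exact Finset.prod_congr rfl fun q _ => Subtype.ext (by
      show q.1 * c * q.1⁻¹ = c
      rw [Subgroup.mem_centralizer_iff.1 hcQ q.1 q.2, mul_inv_cancel_right])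
  rw [h2, ← Nat.card_eq_fintype_card] at h1
  have h3 : orderOf (⟨c, hcM⟩ : M) = 1 := Nat.eq_one_of_dvd_coprimes hco
    (orderOf_dvd_of_pow_eq_one h1) (orderOf_dvd_natCard _)
  exact congrArg Subtype.val (orderOf_eq_one_iff.1 h3)

/-- The centralizer of the commutator subgroup in a Z-group is cyclic. -/
theorem cyclic_centralizer_commutator (K : Type*) [Group K] [Finite K] [IsZGroup K] :
    IsCyclic ↥(Subgroup.centralizer (commutator K : Set K)) := by
  haveI := IsZGroup.isCyclic_commutator K
  set F := Subgroup.centralizer (commutator K : Set K) with hF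
  have hsub : commutator F ≤ (commutator K).subgroupOf F := by
    rw [commutator_def, Subgroup.commutator_le]
    intro a _ b _
    exact Subgroup.commutator_mem_commutator (Subgroup.mem_top a.1) (Subgroup.mem_top b.1)
  haveI : Group.IsNilpotent (Abelianization F) := inferInstance
  haveI : Group.IsNilpotent F := Subgroup.isNilpotent_of_ker_le_center (Abelianization.of (G := F)) (by
    rw [Abelianization.ker_of]
    intro x hx
    refine Subgroup.mem_center_iff.2 fun y => Subtype.ext ?_
    exact (Subgroup.mem_centralizer_iff.1 y.2 _ (hsub hx)).symm)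
  infer_instance

theorem main {G : Type*} [Group G] [Finite G] {H : Subgroup G} (hH : Hyp H)
    (h2 : ∀ P : Sylow 2 H, IsMulCommutative (P : Subgroup H)) (Q : Subgroup G)
    (hQ : Q ≤ Subgroup.normalizer (H : Set G)) (hQH : Q ⊓ H = ⊥)
    (hQH' : Q ⊔ H = Subgroup.normalizer (H : Set G)) :
    (Nat.card ↥(H ⊓ Subgroup.centralizer (Q : Set G))).Coprime
        (H ⊓ Subgroup.centralizer (Q : Set G)).index ∧
      ∃ N : Subgroup G, N.Normal ∧
        N.IsComplement' (H ⊓ Subgroup.centralizer (Q : Set G)) := by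
  classical
  haveI hZ : IsZGroup H := ⟨fun p hp P => by
    haveI := Fact.mk hp
    refine hH.sylow_cyclic P fun e => ?_
    subst e
    exact h2 P⟩
  have hco : (Nat.card Q).Coprime (Nat.card H) := by
    have h1 := card_sup_mul_card_inf' H Q hQ
    have h3 : Nat.card (H ⊓ Q : Subgroup G) = 1 := by rw [inf_comm, hQH, Subgroup.card_bot]
    rw [h3, mul_one, sup_comm, hQH'] at h1
    have h4 : Nat.card H * H.relIndex (Subgroup.normalizer (H : Set G)) =
        Nat.card (Subgroup.normalizer (H : Set G)) := by
      rw [← Subgroup.relIndex_bot_left H, Subgroup.relIndex_mul_relIndex _ _ _ bot_le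
        Subgroup.le_normalizer, Subgroup.relIndex_bot_left]
    rw [h1] at h4
    rw [← Nat.eq_of_mul_eq_mul_left Nat.card_pos h4]
    exact hH.relIndex_coprime.symm
  have hsol : Group.IsSolvable Q ∨ Group.IsSolvable H := Or.inr inferInstance
  set C := H ⊓ Subgroup.centralizer (Q : Set G) with hCdef
  set M := ⁅H, Q⁆ with hMdef
  obtain ⟨hMH, hHM, hQM⟩ := commutator_normal_in (A := Q) (K := H) hQ
  -- `M` lies in the cyclic subgroup `C_H(H')`
  have hMF : M.subgroupOf H ≤ Subgroup.centralizer (commutator H : Set H) := by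
    have hle : M ≤ (Subgroup.centralizer (commutator H : Set H)).map H.subtype := by
      rw [hMdef, Subgroup.commutator_le]
      intro h hh q hq
      have hqi : q ∈ Subgroup.normalizer (H : Set G) := hQ hq
      have hmem : q * h⁻¹ * q⁻¹ ∈ H := (Subgroup.mem_normalizer_iff.1 hqi h⁻¹).1 (H.inv_mem hh)
      refine ⟨⟨h, hh⟩ * ⟨_, hmem⟩, ?_, by simp [commutatorElement_def, mul_assoc]⟩
      haveI := IsZGroup.isCyclic_commutator H
      let c : H ≃* H :=
        { toFun := fun x => ⟨q * x.1 * q⁻¹, (Subgroup.mem_normalizer_iff.1 hqi x.1).1 x.2⟩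
          invFun := fun x => ⟨q⁻¹ * x.1 * q, by
            rw [Subgroup.mem_normalizer_iff.1 hqi, show q * (q⁻¹ * x.1 * q) * q⁻¹ = x.1 by group]
            exact x.2⟩
          left_inv := fun x => Subtype.ext (by simp [mul_assoc])
          right_inv := fun x => Subtype.ext (by simp [mul_assoc])
          map_mul' := fun x y => Subtype.ext (by simp [mul_assoc]) }
      have hcK : ∀ x ∈ commutator H, c x ∈ commutator H := by
        intro x hx
        have : (commutator H).map c.toMonoidHom ≤ commutator H := by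
          rw [commutator_def, Subgroup.map_commutator]
          exact Subgroup.commutator_mono le_top le_top
        exact this ⟨x, hx, rfl⟩
      obtain ⟨g, hg⟩ := IsCyclic.exists_generator (α := commutator H)
      refine Subgroup.mem_centralizer_iff.2 fun x hx => ?_
      -- automorphisms of a cyclic group commute
      obtain ⟨i, hi⟩ := Subgroup.mem_zpowers_iff.1 (hg ⟨c g.1, hcK _ g.2⟩)
      have hi2 : c g.1 = g.1 ^ i := by
        have := congrArg Subtype.val hi
        simpa using this.symm
      have hpow : ∀ y ∈ commutator H, c y = y ^ i := by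
        intro y hy
        obtain ⟨j, hj⟩ := Subgroup.mem_zpowers_iff.1 (hg ⟨y, hy⟩)
        have hj2 : g.1 ^ j = y := by simpa using congrArg Subtype.val hj
        rw [← hj2, map_zpow, hi2, ← zpow_mul, ← zpow_mul, mul_comm]
      set a : H := ⟨h, hh⟩
      set b : H := ⟨q * h⁻¹ * q⁻¹, hmem⟩ with hbdef
      have hb : b = c a⁻¹ := Subtype.ext rfl
      have hax : a⁻¹ * x * a ∈ commutator H := by
        have := (inferInstance : (commutator H).Normal).conj_mem x hx a⁻¹
        simpa using this
      -- `c` maps the commutator subgroup onto itself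
      have hsurj : ∃ y ∈ commutator H, c y = x := by
        refine ⟨c.symm x, ?_, c.apply_symm_apply x⟩
        have : (commutator H).map c.symm.toMonoidHom ≤ commutator H := by
          rw [commutator_def, Subgroup.map_commutator]
          exact Subgroup.commutator_mono le_top le_top
        exact this ⟨x, hx, rfl⟩
      obtain ⟨y, hy, hxy⟩ := hsurj
      have e3 : ∀ z ∈ commutator H, a⁻¹ * c z * a = c a⁻¹ * c z * (c a⁻¹)⁻¹ := by
        intro z hz
        have haz : a⁻¹ * z * a ∈ commutator H := by
          have := (inferInstance : (commutator H).Normal).conj_mem z hz a⁻¹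
          simpa using this
        calc a⁻¹ * c z * a = (a⁻¹ * z * a) ^ i := by
              rw [hpow z hz]
              have h5 := conj_zpow (a := a⁻¹) (b := z) (i := i)
              rw [inv_inv] at h5
              exact h5.symm
          _ = c (a⁻¹ * z * a) := (hpow _ haz).symm
          _ = c a⁻¹ * c z * (c a⁻¹)⁻¹ := by simp
      calc x * (a * b) = a * (a⁻¹ * c y * a) * b := by rw [hxy]; group
        _ = a * (c a⁻¹ * c y * (c a⁻¹)⁻¹) * b := by rw [e3 y hy]
        _ = a * b * x := by rw [hb, hxy]; group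
    intro x hx
    obtain ⟨y, hy, hyx⟩ := hle hx
    rwa [← Subtype.ext hyx]
  haveI hFcyc : IsCyclic ↥(Subgroup.centralizer (commutator H : Set H)) :=
    cyclic_centralizer_commutator H
  haveI hMcyc : IsCyclic M := by
    haveI : IsCyclic ↥(M.subgroupOf H) :=
      isCyclic_of_injective (Subgroup.inclusion hMF) (Subgroup.inclusion_injective hMF)
    exact isCyclic_of_surjective (Subgroup.subgroupOfEquivOfLe hMH)
      (Subgroup.subgroupOfEquivOfLe hMH).surjective
  haveI : IsMulCommutative M := ⟨⟨fun a b => (IsCyclic.commGroup (α := M)).mul_comm a b⟩⟩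
  have hMC : M ⊓ C = ⊥ := by
    have h1 := fixed_trivial M Q hQM (hco.coprime_dvd_right (Subgroup.card_dvd_of_le hMH))
      (commutator_commutator_eq hQ hco hsol).ge
    rw [eq_bot_iff, ← h1]
    exact inf_le_inf le_rfl inf_le_right
  have hMCH : M ⊔ C = H := commutator_sup_fixed hQ hco hsol
  have hCnorm : C ≤ Subgroup.normalizer (M : Set G) := inf_le_left.trans hHM
  have hcardH : Nat.card H = Nat.card M * Nat.card C := by
    have h1 := card_sup_mul_card_inf' M C hCnorm
    rw [hMCH, hMC, Subgroup.card_bot, mul_one] at h1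
    exact h1
  -- `|M|` and `|C|` are coprime
  have hMCco : (Nat.card M).Coprime (Nat.card C) := by
    refine Nat.coprime_of_dvd fun p hp hpM hpC => ?_
    haveI := Fact.mk hp
    obtain ⟨c, hc⟩ := exists_prime_orderOf_dvd_card' (G := C) p hpC
    have hcH : (c : G) ∈ H := c.2.1
    let c' : H := ⟨c, hcH⟩
    have hoc : orderOf c' = p := by rw [Subgroup.orderOf_mk, Subgroup.orderOf_coe]; exact hc
    have hpc : IsPGroup p (Subgroup.zpowers c') := IsPGroup.of_card (n := 1)
      (by rw [Nat.card_zpowers, hoc, pow_one])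
    obtain ⟨P, hP⟩ := hpc.exists_le_sylow
    haveI : (M.subgroupOf H).Normal := Subgroup.normal_subgroupOf_of_le_normalizer hHM
    have hne : ((M.subgroupOf H) ⊓ P : Subgroup H) ≠ ⊥ := by
      intro e
      have h1 := card_sup_mul_card_inf (M.subgroupOf H) (P : Subgroup H)
      rw [e, Subgroup.card_bot, mul_one] at h1
      have h2 : p ^ ((Nat.card H).factorization p + 1) ∣ Nat.card H := by
        refine dvd_trans ?_ (Subgroup.card_subgroup_dvd_card (M.subgroupOf H ⊔ P))
        rw [h1, P.card_eq_multiplicity, pow_succ, mul_comm]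
        refine Nat.mul_dvd_mul ?_ dvd_rfl
        rwa [Nat.card_congr (Subgroup.subgroupOfEquivOfLe hMH).toEquiv]
      exact Nat.pow_succ_factorization_not_dvd Nat.card_pos.ne' hp h2
    obtain ⟨z, hz⟩ := exists_prime_orderOf_dvd_card'
      (G := ((M.subgroupOf H) ⊓ P : Subgroup H)) p (by
        obtain ⟨n, hn⟩ := IsPGroup.iff_card.1 (P.isPGroup'.to_le (inf_le_right :
          (M.subgroupOf H) ⊓ P ≤ (P : Subgroup H)))
        rw [hn]
        refine dvd_pow_self p fun e => ?_
        rw [e, pow_zero] at hn
        exact hne (Subgroup.card_eq_one.1 hn))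
    haveI : IsCyclic (P : Subgroup H) := IsZGroup.isZGroup p hp P
    letI : CommGroup (P : Subgroup H) := IsCyclic.commGroup
    let zP : (P : Subgroup H) := ⟨z.1, z.2.2⟩
    let cP : (P : Subgroup H) := ⟨c', hP (Subgroup.mem_zpowers c')⟩
    have hozP : orderOf zP = p := by rw [Subgroup.orderOf_mk, Subgroup.orderOf_coe]; exact hz
    have hocP : orderOf cP = p := by rw [Subgroup.orderOf_mk]; exact hoc
    have hk : Subgroup.zpowers zP = (powMonoidHom p : (P : Subgroup H) →* _).ker := by
      refine Subgroup.eq_of_le_of_card_ge (Subgroup.zpowers_le.2 ?_) ?_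
      · rw [MonoidHom.mem_ker, powMonoidHom_apply]
        exact orderOf_dvd_iff_pow_eq_one.1 hozP.dvd
      · rw [IsCyclic.card_powMonoidHom_ker, Nat.card_zpowers, hozP]
        exact Nat.le_of_dvd hp.pos (Nat.gcd_dvd_right _ _)
    have hcz : cP ∈ Subgroup.zpowers zP := by
      rw [hk, MonoidHom.mem_ker, powMonoidHom_apply]
      exact orderOf_dvd_iff_pow_eq_one.1 hocP.dvd
    obtain ⟨i, hi⟩ := Subgroup.mem_zpowers_iff.1 hcz
    have hcM : (c : G) ∈ M := by
      have h3 : (z.1 : H) ^ i = c' := congrArg Subtype.val hi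
      have h4 : c' ∈ M.subgroupOf H := by rw [← h3]; exact Subgroup.zpow_mem _ z.2.1 i
      exact h4
    have hc1 : (c : G) = 1 := by
      rw [← Subgroup.mem_bot, ← hMC]; exact ⟨hcM, c.2⟩
    have : orderOf c = 1 := orderOf_eq_one_iff.2 (Subtype.ext hc1)
    exact hp.one_lt.ne' (hc.symm.trans this)
  have hCG : (Nat.card C).Coprime C.index := by
    rw [← Subgroup.relIndex_mul_index (inf_le_left : C ≤ H)]
    refine Nat.Coprime.mul_right ?_ (hH.hall_top.coprime_dvd_left (Subgroup.card_dvd_of_le inf_le_left))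
    have h1 : Nat.card C * C.relIndex H = Nat.card H := by
      rw [← Subgroup.relIndex_bot_left C, Subgroup.relIndex_mul_relIndex _ _ _ bot_le inf_le_left,
        Subgroup.relIndex_bot_left]
    rw [hcardH, mul_comm (Nat.card M)] at h1
    rw [Nat.eq_of_mul_eq_mul_left Nat.card_pos h1]
    exact hMCco.symm
  refine ⟨hCG, ?_⟩
  set O := core H with hO
  set X := O ⊔ M ⊔ Q with hX
  have hQO : ∀ L : Subgroup G, L ≤ Subgroup.normalizer (O : Set G) := fun L => by
    rw [Subgroup.normalizer_eq_top]; exact le_top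
  have hsupn : ∀ {g : G} {L₁ L₂ : Subgroup G}, g ∈ Subgroup.normalizer (L₁ : Set G) →
      g ∈ Subgroup.normalizer (L₂ : Set G) →
        g ∈ Subgroup.normalizer ((L₁ ⊔ L₂ : Subgroup G) : Set G) := by
    intro g L₁ L₂ g1 g2
    refine mem_normalizer_of_conj_smul ?_
    rw [Subgroup.smul_sup, conj_smul_of_mem_normalizer g1, conj_smul_of_mem_normalizer g2]
  have hXn : X.Normal := by
    rw [← Subgroup.normalizer_eq_top_iff, eq_top_iff, ← hH.core_sup_normalizer, ← hQH']
    refine sup_le ((le_sup_left.trans le_sup_left).trans Subgroup.le_normalizer)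
      (sup_le (le_sup_right.trans Subgroup.le_normalizer)
        (hMCH.ge.trans (sup_le ((le_sup_right.trans le_sup_left).trans Subgroup.le_normalizer)
          fun g hg => ?_)))
    refine hsupn (hsupn (hQO ⊤ (Subgroup.mem_top g)) (hCnorm hg)) ?_
    refine Subgroup.mem_normalizer_iff.2 fun y => ⟨fun hy => ?_, fun hy => ?_⟩
    · rwa [← Subgroup.mem_centralizer_iff.1 hg.2 y hy, mul_inv_cancel_right]
    · have e := Subgroup.mem_centralizer_iff.1 hg.2 _ hy
      rw [inv_mul_cancel_right] at e
      rwa [← mul_left_cancel e] at hy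
  haveI := hXn
  have hcX : (Nat.card X).Coprime (Nat.card C) := by
    have h1 := card_sup_mul_card_inf' O M (hQO M)
    have h3 : Q ≤ Subgroup.normalizer ((O ⊔ M : Subgroup G) : Set G) := fun g hg =>
      hsupn (hQO Q hg) (hQM hg)
    have h4 := card_sup_mul_card_inf' (O ⊔ M) Q h3
    refine Nat.Coprime.coprime_dvd_left (Dvd.intro _ h4) (Nat.Coprime.mul_left ?_
      (hco.coprime_dvd_right (Subgroup.card_dvd_of_le inf_le_left)))
    exact Nat.Coprime.coprime_dvd_left (Dvd.intro _ h1) (Nat.Coprime.mul_left
      ((core_coprime H).coprime_dvd_right (Subgroup.card_dvd_of_le inf_le_left)) hMCco)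
  have htop : X ⊔ C = ⊤ := by
    rw [eq_top_iff, ← hH.core_sup_normalizer, ← hQH']
    exact sup_le (le_sup_left.trans (le_sup_left.trans le_sup_left))
      (sup_le (le_sup_right.trans le_sup_left)
        (hMCH.ge.trans (sup_le ((le_sup_right.trans le_sup_left).trans le_sup_left) le_sup_right)))
  refine ⟨X, hXn, Subgroup.isComplement'_of_coprime ?_ hcX⟩
  have h1 := card_sup_mul_card_inf' X C (by rw [Subgroup.normalizer_eq_top]; exact le_top)
  rw [htop, Subgroup.card_top] at h1
  have h2 : Nat.card (X ⊓ C : Subgroup G) = 1 := Nat.eq_one_of_dvd_coprimes hcX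
    (Subgroup.card_dvd_of_le inf_le_left) (Subgroup.card_dvd_of_le inf_le_right)
  rw [h2, mul_one] at h1
  exact h1.symm


/-- Let G be a finite group and H a non-normal subgroup meeting each of its conjugates by elements outside N_G(H) trivially, with the order of H coprime to its index in N_G(H), such that G is π-separable for π the set of primes dividing the order of H (G has a chain of normal subgroups from 1 to G each of whose factors has order divisible only by primes dividing the order of H or coprime to it). Suppose a Sylow 2-subgroup of H is abelian and Q is a complement of H in N_G(H). Then C_H(Q), the subgroup of elements of H commuting with Q, has order coprime to its index in G and has a normal complement in G. -/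
theorem result {G : Type*} [Group G] [Finite G] (H : Subgroup G)
    (hTI : Cfsg.IsTISubset (H : Set G)) (hnn : ¬ H.Normal)
    (hHall : (Nat.card H).Coprime (H.subgroupOf (Subgroup.normalizer (H : Set G))).index)
    (hsep : ∃ (n : ℕ) (M : Fin (n + 1) → Subgroup G), M 0 = ⊥ ∧ M (Fin.last n) = ⊤ ∧ Monotone M ∧ (∀ i, (M i).Normal) ∧
      ∀ i : Fin n, (∀ q : ℕ, q.Prime → q ∣ (M i.castSucc).relIndex (M i.succ) → q ∣ Nat.card H) ∨
        ((M i.castSucc).relIndex (M i.succ)).Coprime (Nat.card H))
    (h2 : ∀ P : Sylow 2 H, IsMulCommutative (P : Subgroup H))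
    (Q : Subgroup G) (hQ : Q ≤ Subgroup.normalizer (H : Set G)) (hQH : Q ⊓ H = ⊥) (hQH' : Q ⊔ H = Subgroup.normalizer (H : Set G)) :
    (Nat.card ↥(H ⊓ Subgroup.centralizer (Q : Set G))).Coprime (H ⊓ Subgroup.centralizer (Q : Set G)).index ∧
    ∃ N : Subgroup G, N.Normal ∧ N.IsComplement' (H ⊓ Subgroup.centralizer (Q : Set G)) := by
  exact main ⟨hTI, hnn, hHall, hsep⟩ h2 Q hQ hQH hQH'

end Cfsg.Agent.S4151
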