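import Cfsg.Statements.S4152
import Cfsg.Agent.Lib.Fusion.PiClassCount

set_option autoImplicit false
open Cfsg
open Cfsg.Agent

namespace Cfsg.Agent.S4152

/-- Let G be a finite group, N a normal subgroup and π a set of primes. Then the number of conjugacy classes of π-elements of G (elements whose order is divisible only by primes in π) is at most the number of conjugacy classes of π-elements of N (under conjugation by N) times the number of conjugacy classes of π-elements of G/N. -/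
theorem result {G : Type*} [Group G] [Finite G] (N : Subgroup G) [N.Normal] (π : Set ℕ) :
    Nat.card {C : ConjClasses G // ∀ q : ℕ, q.Prime → (∃ g : G, ConjClasses.mk g = C ∧ q ∣ orderOf g) → q ∈ π} ≤ Nat.card {C : ConjClasses N // ∀ q : ℕ, q.Prime → (∃ g : N, ConjClasses.mk g = C ∧ q ∣ orderOf g) → q ∈ π} * Nat.card {C : ConjClasses (G ⧸ N) // ∀ q : ℕ, q.Prime → (∃ g : (G ⧸ N), ConjClasses.mk g = C ∧ q ∣ orderOf g) → q ∈ π} := by
  classical
  haveI : Fintype G := Fintype.ofFinite G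
  haveI : Finite (G ⧸ N) := Quotient.finite _
  let φ : {C : ConjClasses G // ∀ q : ℕ, q.Prime → (∃ g : G, ConjClasses.mk g = C ∧ q ∣ orderOf g) → q ∈ π} →
      {C : ConjClasses (G ⧸ N) // ∀ q : ℕ, q.Prime → (∃ g : (G ⧸ N), ConjClasses.mk g = C ∧ q ∣ orderOf g) → q ∈ π} :=
    fun C => ⟨ConjClasses.map (QuotientGroup.mk' N) C.1, by
      rintro q hq ⟨gb, hgb, hd⟩
      obtain ⟨y, hy⟩ := ConjClasses.exists_rep C.1
      rw [← hy] at hgb
      obtain ⟨c, hc⟩ := isConj_iff.mp (ConjClasses.mk_eq_mk_iff_isConj.mp hgb)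
      refine C.2 q hq ⟨y, hy, hd.trans ?_⟩
      have h1 : orderOf (c * gb * c⁻¹) = orderOf gb := (MulAut.conj c).orderOf_eq gb
      rw [← h1, hc]
      exact orderOf_map_dvd _ y⟩
  have hK : Nat.card (PiClassCount.Orbits π N 1) ≤
      Nat.card {C : ConjClasses N // ∀ q : ℕ, q.Prime → (∃ g : N, ConjClasses.mk g = C ∧ q ∣ orderOf g) → q ∈ π} := by
    letI := PiClassCount.conjAction π N (1 : G)
    refine Nat.card_le_card_of_injective (fun o : PiClassCount.Orbits π N 1 =>
      (⟨ConjClasses.mk (⟨o.out.1, by simpa using o.out.2.2⟩ : N), ?_⟩ :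
        {C : ConjClasses N // ∀ q : ℕ, q.Prime → (∃ g : N, ConjClasses.mk g = C ∧ q ∣ orderOf g) → q ∈ π})) ?_
    · rintro q hq ⟨x, hx, hd⟩
      obtain ⟨c, hc⟩ := isConj_iff.mp (ConjClasses.mk_eq_mk_iff_isConj.mp hx)
      have h1 : orderOf (c * x * c⁻¹) = orderOf x := (MulAut.conj c).orderOf_eq x
      refine o.out.2.1 q hq ?_
      rw [← h1, hc, ← Subgroup.orderOf_coe] at hd
      exact hd
    · intro o o' h
      have h2 := congrArg Subtype.val h
      obtain ⟨c, hc⟩ := isConj_iff.mp (ConjClasses.mk_eq_mk_iff_isConj.mp h2.symm)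
      rw [← Quotient.out_eq o, ← Quotient.out_eq o']
      have h3 := congrArg (fun z : N => (z : G)) hc
      have h4 : (c : G) * o'.out.1 * (c : G)⁻¹ = o.out.1 := by simpa using h3
      exact Quotient.sound ⟨c, Subtype.ext h4⟩
  have hfib : ∀ D, Nat.card {C // φ C = D} ≤
      Nat.card {C : ConjClasses N // ∀ q : ℕ, q.Prime → (∃ g : N, ConjClasses.mk g = C ∧ q ∣ orderOf g) → q ∈ π} := by
    intro D
    obtain ⟨gb, hgb⟩ := ConjClasses.exists_rep D.1
    obtain ⟨g, rfl⟩ := QuotientGroup.mk'_surjective N gb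
    refine le_trans ?_ ((PiClassCount.card_orbits_le π N g).trans hK)
    letI := PiClassCount.conjAction π N g
    have hrep : ∀ C : {C // φ C = D}, ∃ x : G, ConjClasses.mk x = C.1.1 ∧
        PiClassCount.PiNum π (orderOf x) ∧ g⁻¹ * x ∈ N := by
      intro C
      obtain ⟨y, hy⟩ := ConjClasses.exists_rep C.1.1
      have h1 : ConjClasses.map (QuotientGroup.mk' N) C.1.1 = D.1 := congrArg Subtype.val C.2
      rw [← hgb, ← hy] at h1
      obtain ⟨cb, hcb⟩ := isConj_iff.mp (ConjClasses.mk_eq_mk_iff_isConj.mp h1)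
      obtain ⟨c, rfl⟩ := QuotientGroup.mk'_surjective N cb
      have hmk : ConjClasses.mk (c * y * c⁻¹) = C.1.1 := by
        rw [← hy]
        exact ConjClasses.mk_eq_mk_iff_isConj.mpr (isConj_iff.mpr ⟨c, rfl⟩).symm
      refine ⟨c * y * c⁻¹, hmk, fun q hq hd => C.1.2 q hq ⟨_, hmk, hd⟩, ?_⟩
      rw [← QuotientGroup.eq]
      rw [← map_inv, ← map_mul, ← map_mul] at hcb
      exact hcb.symm
    choose x hx using hrep
    refine Nat.card_le_card_of_injective (fun C => (Quotient.mk _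
      (⟨x C, (hx C).2.1, (hx C).2.2⟩ : PiClassCount.CosetPi π N g) : PiClassCount.Orbits π N g)) ?_
    intro C C' h
    obtain ⟨n, hn⟩ := Quotient.exact h
    apply Subtype.ext
    apply Subtype.ext
    rw [← (hx C).1, ← (hx C').1]
    exact ConjClasses.mk_eq_mk_iff_isConj.mpr
      (isConj_iff.mpr ⟨(n : G), congrArg Subtype.val hn⟩).symm
  haveI : Fintype {C : ConjClasses (G ⧸ N) // ∀ q : ℕ, q.Prime → (∃ g : (G ⧸ N), ConjClasses.mk g = C ∧ q ∣ orderOf g) → q ∈ π} := Fintype.ofFinite _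
  rw [Nat.card_congr (Equiv.sigmaFiberEquiv φ).symm, Nat.card_sigma]
  refine (Finset.sum_le_sum fun D _ => hfib D).trans ?_
  rw [Finset.sum_const, Finset.card_univ, ← Nat.card_eq_fintype_card, smul_eq_mul, mul_comm]

end Cfsg.Agent.S4152
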