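import Cfsg.Statements.S4153
import Mathlib

set_option autoImplicit false
open Cfsg

namespace Cfsg.Agent.S4153


theorem orderOf_pow {G : Type*} [Group G] {p : ℕ} [Fact p.Prime] {R : Subgroup G}
    (hR : IsPGroup p R) {g : G} (hg : g ∈ R) : ∃ k : ℕ, orderOf g = p ^ k := by
  obtain ⟨k, hk⟩ := IsPGroup.iff_orderOf.1 hR ⟨g, hg⟩
  exact ⟨k, by rw [← hk, Subgroup.orderOf_mk]⟩

theorem exists_sylow_mem {G : Type*} [Group G] [Finite G] {p : ℕ} [Fact p.Prime] {g : G}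
    (hg : ∃ k : ℕ, orderOf g = p ^ k) : ∃ R : Sylow p G, g ∈ (R : Subgroup G) := by
  obtain ⟨k, hk⟩ := hg
  obtain ⟨R, hR⟩ := (IsPGroup.of_card (p := p) (G := Subgroup.zpowers g)
    (by rw [Nat.card_zpowers, hk])).exists_le_sylow
  exact ⟨R, hR (Subgroup.mem_zpowers g)⟩


/-- Let G be a finite group, p a prime, N a normal subgroup, P a Sylow p-subgroup of G and P̄ a Sylow p-subgroup of G/N. Count the elements of p-power order, the identity included. Then (number of such elements of G/N)/#P̄ ≤ (number of such elements of G)/#P, stated as a cross-multiplied inequality, with equality when N is central. -/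
theorem result {G : Type*} [Group G] [Finite G] (p : ℕ) [Fact p.Prime] (N : Subgroup G) [N.Normal]
    (P : Sylow p G) (Pbar : Sylow p (G ⧸ N)) :
    Nat.card {g : (G ⧸ N) // ∃ k : ℕ, orderOf g = p ^ k} * Nat.card (P : Subgroup G) ≤ Nat.card {g : G // ∃ k : ℕ, orderOf g = p ^ k} * Nat.card (Pbar : Subgroup (G ⧸ N)) ∧
    (N ≤ Subgroup.center G → Nat.card {g : (G ⧸ N) // ∃ k : ℕ, orderOf g = p ^ k} * Nat.card (P : Subgroup G) = Nat.card {g : G // ∃ k : ℕ, orderOf g = p ^ k} * Nat.card (Pbar : Subgroup (G ⧸ N))) := by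
  classical
  set π := QuotientGroup.mk' N with hπ
  have hπs : Function.Surjective π := QuotientGroup.mk'_surjective N
  have hcR : ∀ R : Sylow p G, Nat.card ↥((R : Subgroup G) ⊓ N) * Nat.card (Pbar : Subgroup (G ⧸ N)) =
      Nat.card (P : Subgroup G) := by
    intro R
    rw [Pbar.card_eq_multiplicity, ← (R.mapSurjective hπs).card_eq_multiplicity,
      Sylow.coe_mapSurjective, P.card_eq_multiplicity, ← R.card_eq_multiplicity]
    have h1 := Subgroup.card_eq_card_quotient_mul_card_subgroup (π.comp (R : Subgroup G).subtype).ker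
    have h2 := Nat.card_congr (QuotientGroup.quotientKerEquivRange (π.comp (R : Subgroup G).subtype)).toEquiv
    rw [h2, MonoidHom.range_comp, Subgroup.range_subtype] at h1
    rw [h1, mul_comm]
    congr 1
    rw [← MonoidHom.comap_ker, QuotientGroup.ker_mk']
    change _ = Nat.card (N.subgroupOf (R : Subgroup G))
    rw [← Subgroup.inf_subgroupOf_left]
    exact (Nat.card_congr (Subgroup.subgroupOfEquivOfLe inf_le_left).toEquiv).symm
  have hlift : ∀ y : {g : (G ⧸ N) // ∃ k : ℕ, orderOf g = p ^ k},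
      ∃ (R : Sylow p G) (x : G), x ∈ (R : Subgroup G) ∧ π x = y.1 := by
    rintro ⟨y, hy⟩
    obtain ⟨S, hS⟩ := exists_sylow_mem hy
    obtain ⟨R, rfl⟩ := Sylow.mapSurjective_surjective hπs p S
    obtain ⟨x, hx, hxy⟩ := Subgroup.mem_map.1 (by rwa [Sylow.coe_mapSurjective] at hS)
    exact ⟨R, x, hx, hxy⟩
  choose R x hxR hxπ using hlift
  let ψ : (Σ y : {g : (G ⧸ N) // ∃ k : ℕ, orderOf g = p ^ k}, ↥((R y : Subgroup G) ⊓ N)) →
      {g : G // ∃ k : ℕ, orderOf g = p ^ k} :=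
    fun z => ⟨x z.1 * (z.2 : G), orderOf_pow (R z.1).2 ((R z.1 : Subgroup G).mul_mem (hxR z.1) z.2.2.1)⟩
  have hψi : Function.Injective ψ := by
    rintro ⟨y, n⟩ ⟨y', n'⟩ h
    have h' : x y * (n : G) = x y' * (n' : G) := congrArg Subtype.val h
    obtain rfl : y = y' := by
      have := congrArg π h'
      rw [map_mul, map_mul, hxπ, hxπ, (QuotientGroup.eq_one_iff _).2 n.2.2 |> (fun e => (show π (n : G) = 1 from e)),
        (QuotientGroup.eq_one_iff _).2 n'.2.2 |> (fun e => (show π (n' : G) = 1 from e)), mul_one, mul_one] at this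
      exact Subtype.ext this
    rw [mul_right_inj] at h'
    rw [Subtype.ext h']
  haveI : Fintype {g : (G ⧸ N) // ∃ k : ℕ, orderOf g = p ^ k} := Fintype.ofFinite _
  have hcard : Nat.card (Σ y : {g : (G ⧸ N) // ∃ k : ℕ, orderOf g = p ^ k}, ↥((R y : Subgroup G) ⊓ N))
      * Nat.card (Pbar : Subgroup (G ⧸ N)) =
      Nat.card {g : (G ⧸ N) // ∃ k : ℕ, orderOf g = p ^ k} * Nat.card (P : Subgroup G) := by
    rw [Nat.card_sigma, Finset.sum_mul, Finset.sum_congr rfl (fun y _ => hcR (R y)), Finset.sum_const,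
      Finset.card_univ, smul_eq_mul, ← Nat.card_eq_fintype_card]
  refine ⟨?_, fun hNc => ?_⟩
  · rw [← hcard]
    exact Nat.mul_le_mul_right _ (Nat.card_le_card_of_injective ψ hψi)
  · rw [← hcard]
    congr 1
    refine Nat.card_congr (Equiv.ofBijective ψ ⟨hψi, ?_⟩)
    rintro ⟨g, hg⟩
    obtain ⟨S, hS⟩ := exists_sylow_mem hg
    have hy : ∃ k : ℕ, orderOf (π g) = p ^ k :=
      orderOf_pow (S.2.map π) (Subgroup.mem_map_of_mem π hS)
    have hn : (x ⟨π g, hy⟩)⁻¹ * g ∈ N := by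
      rw [← QuotientGroup.eq_one_iff]
      show π _ = 1
      rw [map_mul, map_inv, hxπ, inv_mul_cancel]
    refine ⟨⟨⟨π g, hy⟩, ⟨(x ⟨π g, hy⟩)⁻¹ * g, ?_, hn⟩⟩, Subtype.ext (by simp [ψ])⟩
    have hc : Commute (x ⟨π g, hy⟩)⁻¹ g := by
      have h := Subgroup.mem_center_iff.1 (hNc hn) (x ⟨π g, hy⟩)
      have h' : g = (x ⟨π g, hy⟩)⁻¹ * g * x ⟨π g, hy⟩ := by rw [← h]; group
      calc (x ⟨π g, hy⟩)⁻¹ * g = ((x ⟨π g, hy⟩)⁻¹ * g * x ⟨π g, hy⟩) * (x ⟨π g, hy⟩)⁻¹ := by group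
        _ = g * (x ⟨π g, hy⟩)⁻¹ := by rw [← h']
    obtain ⟨i, hi⟩ := orderOf_pow (R ⟨π g, hy⟩).2 (hxR ⟨π g, hy⟩)
    obtain ⟨j, hj⟩ := hg
    have hord : ∃ k : ℕ, orderOf ((x ⟨π g, hy⟩)⁻¹ * g) = p ^ k := by
      obtain ⟨k, -, hk⟩ := (Nat.dvd_prime_pow (Fact.out : p.Prime)).1
        (show orderOf ((x ⟨π g, hy⟩)⁻¹ * g) ∣ p ^ (i + j) by
          rw [pow_add, ← hi, ← hj, ← orderOf_inv (x ⟨π g, hy⟩)]
          exact hc.orderOf_mul_dvd_mul_orderOf)
      exact ⟨k, hk⟩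
    obtain ⟨S', hS'⟩ := exists_sylow_mem hord
    obtain ⟨c, hc'⟩ := MulAction.exists_smul_eq G S' (R ⟨π g, hy⟩)
    show _ ∈ ((R ⟨π g, hy⟩ : Sylow p G) : Subgroup G)
    rw [← hc', Sylow.coe_subgroup_smul, Subgroup.mem_pointwise_smul_iff_inv_smul_mem]
    simp only [MulAut.smul_def, MulAut.conj_inv_apply]
    rwa [mul_assoc, ← Subgroup.mem_center_iff.1 (hNc hn) c, ← mul_assoc, inv_mul_cancel, one_mul]

end Cfsg.Agent.S4153
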