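import Cfsg.Statements.S4154


set_option autoImplicit false
open Cfsg

namespace Cfsg.Agent.S4154

/-- Let G be a finite group and α an automorphism of G such that every element of G is the product of an element fixed by α and an element of the form g⁻¹α(g). If N is a normal α-invariant subgroup, then the automorphism ᾱ induced on G/N has the same property, and every coset fixed by ᾱ contains an element fixed by α (so the fixed points of ᾱ are the images of the fixed points of α). -/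
theorem result {G : Type*} [Group G] [Finite G] (α : MulAut G)
    (hccp : ∀ x : G, ∃ c g : G, α c = c ∧ x = c * (g⁻¹ * α g))
    (N : Subgroup G) [N.Normal] (hN : ∀ n ∈ N, α n ∈ N) :
    (∀ x : G, ∃ c g : G, c⁻¹ * α c ∈ N ∧ x⁻¹ * (c * (g⁻¹ * α g)) ∈ N) ∧
    (∀ x : G, x⁻¹ * α x ∈ N → ∃ c : G, α c = c ∧ c⁻¹ * x ∈ N) := by
  classical
  constructor
  · intro x
    obtain ⟨c, g, hc, hx⟩ := hccp x
    exact ⟨c, g, by rw [hc, inv_mul_cancel]; exact N.one_mem, by
      rw [← hx, inv_mul_cancel]; exact N.one_mem⟩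
  intro x hx
  let β : G ⧸ N →* G ⧸ N := QuotientGroup.map N N α.toMonoidHom (fun n hn => hN n hn)
  have hβ : ∀ g : G, β (g : G ⧸ N) = (α g : G) := fun g => rfl
  let C : Subgroup (G ⧸ N) :=
    { carrier := {q | β q = q}
      one_mem' := map_one β
      mul_mem' := fun {a b} ha hb => by show β (a * b) = a * b; rw [map_mul, ha, hb]
      inv_mem' := fun {a} ha => by show β a⁻¹ = a⁻¹; rw [map_inv, ha] }
  let ψ : C × ((G ⧸ N) ⧸ C) → G ⧸ N := fun z => (z.1 : G ⧸ N) * (z.2.out * β z.2.out⁻¹)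
  have hcl : ∀ g : G ⧸ N, (g : (G ⧸ N) ⧸ C).out * β (g : (G ⧸ N) ⧸ C).out⁻¹ = g * β g⁻¹ := by
    intro g
    obtain ⟨c, hc⟩ := QuotientGroup.mk_out_eq_mul C g
    have hc2 : β (c : G ⧸ N) = c := c.2
    rw [hc, _root_.mul_inv_rev, map_mul, map_inv, hc2]
    group
  have hsur : Function.Surjective ψ := by
    intro q
    induction q using QuotientGroup.induction_on with
    | H y =>
      obtain ⟨c, g, hc, hy⟩ := hccp y
      refine ⟨(⟨(c : G ⧸ N), by show β (c : G ⧸ N) = _; rw [hβ, hc]⟩, (((g : G ⧸ N)⁻¹ : G ⧸ N) : (G ⧸ N) ⧸ C)), ?_⟩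
      show (c : G ⧸ N) * (_ * β _⁻¹) = _
      rw [hcl, inv_inv, hy]
      rfl
  have hbij := (Nat.bijective_iff_surjective_and_card ψ).2 ⟨hsur, by
    rw [Nat.card_prod, ← Subgroup.index_eq_card, Subgroup.card_mul_index]⟩
  obtain ⟨c, g, hc, hxg⟩ := hccp x
  have hxC : (x : G ⧸ N) ∈ C := by
    show β (x : G ⧸ N) = _
    rw [hβ]
    exact (QuotientGroup.eq.2 hx).symm
  have h1 : ψ (⟨(x : G ⧸ N), hxC⟩, ((1 : G ⧸ N) : (G ⧸ N) ⧸ C)) =
      ψ (⟨(c : G ⧸ N), by show β (c : G ⧸ N) = _; rw [hβ, hc]⟩, (((g : G ⧸ N)⁻¹ : G ⧸ N) : (G ⧸ N) ⧸ C)) := by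
    show (x : G ⧸ N) * (_ * β _⁻¹) = (c : G ⧸ N) * (_ * β _⁻¹)
    rw [hcl, hcl, inv_one, map_one, mul_one, inv_inv, hxg]
    simp [hβ]
  have h2 : (x : G ⧸ N) = c := congrArg Subtype.val (Prod.ext_iff.1 (hbij.1 h1)).1
  exact ⟨c, hc, QuotientGroup.eq.1 h2.symm⟩

end Cfsg.Agent.S4154
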