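import Cfsg.Statements.S4155
import Mathlib
import Cfsg.Agent.Lib.Solv.Cores
import Cfsg.Agent.Lib.Solv.FrobeniusGK
import Cfsg.Agent.Lib.Solv.UniqueSub
import Cfsg.Agent.Lib.Perm.Schmidt

set_option autoImplicit false
open Cfsg

namespace Cfsg.Agent.S4155


open scoped Pointwise

theorem nil_commute {G : Type*} [Group G] [Finite G] {N : Subgroup G} (hN : Group.IsNilpotent N)
    {q r : ℕ} [Fact q.Prime] [Fact r.Prime] (hqr : q ≠ r) {a b : G} (ha : a ∈ N) (hb : b ∈ N)
    {i j : ℕ} (hai : a ^ q ^ i = 1) (hbj : b ^ r ^ j = 1) : Commute a b := by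
  obtain ⟨i', -, hi'⟩ := (Nat.dvd_prime_pow (Fact.out : q.Prime)).1 (orderOf_dvd_of_pow_eq_one hai)
  obtain ⟨j', -, hj'⟩ := (Nat.dvd_prime_pow (Fact.out : r.Prime)).1 (orderOf_dvd_of_pow_eq_one hbj)
  have hA : IsPGroup q (Subgroup.zpowers a) := IsPGroup.of_card (n := i') (by rw [Nat.card_zpowers, hi'])
  have hB : IsPGroup r (Subgroup.zpowers b) := IsPGroup.of_card (n := j') (by rw [Nat.card_zpowers, hj'])
  exact ((Cfsg.Agent.Perm.commute_of_le_nilpotent hN hqr hA hB (Subgroup.zpowers_le.2 ha) (Subgroup.zpowers_le.2 hb))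
    (Subgroup.mem_zpowers a) b (Subgroup.mem_zpowers b)).symm


/-- Let G be a finite group and N a proper non-trivial normal nilpotent subgroup whose order is not a prime power, such that for every x outside N all elements of the coset xN have the same order as x. Then N is the Fitting subgroup of G, and for every prime q every Sylow q-subgroup of G/N is cyclic or generalized quaternion. -/
theorem result {G : Type*} [Group G] [Finite G] (N : Subgroup G) [N.Normal] (hN1 : N ≠ ⊥) (hN2 : N ≠ ⊤)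
    (heq : ∀ x : G, x ∉ N → ∀ n ∈ N, orderOf (x * n) = orderOf x)
    (hnil : Group.IsNilpotent N) (hnpp : ¬ IsPrimePow (Nat.card N)) :
    N = Cfsg.fittingSubgroup G ∧
    ∀ (q : ℕ) [Fact q.Prime] (Q : Sylow q (G ⧸ N)), IsCyclic (Q : Subgroup (G ⧸ N)) ∨ ∃ n : ℕ, Nonempty ((Q : Subgroup (G ⧸ N)) ≃* QuaternionGroup (2 ^ n)) := by
  classical
  -- key: elements outside N of q-power order centralise no element of prime order r ≠ q of N
  have key : ∀ g : G, g ∉ N → ∀ n ∈ N, n ≠ 1 → (orderOf g).Coprime (orderOf n) → ¬ Commute g n := by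
    intro g hg n hn hn1 hco hc
    have := heq g hg n hn
    rw [hc.orderOf_mul_eq_mul_orderOf_of_coprime hco] at this
    exact hn1 (orderOf_eq_one_iff.1 ((mul_eq_left₀ (orderOf_pos g).ne').1 this))
  have hother : ∀ q : ℕ, q.Prime → ∃ r : ℕ, r.Prime ∧ r ∣ Nat.card N ∧ r ≠ q := by
    intro q hq
    by_contra h
    push Not at h
    have hN0 : Nat.card N ≠ 1 := fun e => hN1 (Subgroup.card_eq_one.1 e)
    exact hnpp (isPrimePow_iff_unique_prime_dvd.2 ⟨q, ⟨hq, by
      obtain ⟨r, hr, hrd⟩ := Nat.exists_prime_and_dvd hN0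
      exact h r hr hrd ▸ hrd⟩, fun r ⟨hr, hrd⟩ => h r hr hrd⟩)
  constructor
  · refine le_antisymm (Cfsg.Agent.Solv.normal_le_fitting hnil) fun g hg => ?_
    by_contra hgN
    have hq1 : orderOf (QuotientGroup.mk' N g) ≠ 1 := fun e =>
      hgN ((QuotientGroup.eq_one_iff g).1 (orderOf_eq_one_iff.1 e))
    obtain ⟨q, hq, hqd⟩ := Nat.exists_prime_and_dvd hq1
    haveI : Fact q.Prime := ⟨hq⟩
    obtain ⟨v, m, hqm, hvm⟩ := Nat.exists_eq_pow_mul_and_not_dvd (orderOf_pos g).ne' q hq.ne_one
    have hm0 : m ≠ 0 := fun e => hqm (e ▸ dvd_zero q)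
    have hord : orderOf (g ^ m) = q ^ v := by
      rw [orderOf_pow_of_dvd hm0 ⟨q ^ v, by rw [hvm, mul_comm]⟩, hvm, Nat.mul_div_cancel _ (Nat.pos_of_ne_zero hm0)]
    have hgmN : g ^ m ∉ N := by
      intro hin
      have : orderOf (QuotientGroup.mk' N g) ∣ m := by
        rw [orderOf_dvd_iff_pow_eq_one, ← map_pow]
        exact (QuotientGroup.eq_one_iff _).2 hin
      exact hqm (hqd.trans this)
    obtain ⟨r, hr, hrd, hrq⟩ := hother q hq
    haveI : Fact r.Prime := ⟨hr⟩
    obtain ⟨n, hn⟩ := exists_prime_orderOf_dvd_card' (G := N) r hrd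
    have hn' : orderOf (n : G) = r := by rw [Subgroup.orderOf_coe]; exact hn
    have hn1 : (n : G) ≠ 1 := fun e => hr.ne_one (by rw [← hn', e, orderOf_one])
    have hnF : (n : G) ∈ Cfsg.fittingSubgroup G := Cfsg.Agent.Solv.normal_le_fitting hnil n.2
    refine key _ hgmN n n.2 hn1 (by rw [hord, hn']; exact ((Nat.coprime_primes hq hr).2 hrq.symm).pow_left v) ?_
    refine nil_commute (Cfsg.Agent.Solv.fittingSubgroup_nilpotent (G := G)) hrq.symm
      (Subgroup.pow_mem _ hg m) hnF (i := v) (j := 1) (by rw [← hord, pow_orderOf_eq_one]) ?_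
    rw [pow_one, ← hn', pow_orderOf_eq_one]
  · intro q _ Qb
    obtain ⟨r, hr, hrd, hrq⟩ := hother q Fact.out
    haveI : Fact r.Prime := ⟨hr⟩
    -- V is the centre of the Sylow r-subgroup of N
    obtain ⟨S⟩ := (inferInstance : Nonempty (Sylow r N))
    haveI : (S : Subgroup N).Normal := Cfsg.Agent.Perm.sylow_normal_of_nilpotent hnil S
    haveI : (S : Subgroup N).Characteristic := S.characteristic_of_normal inferInstance
    set T : Subgroup G := (S : Subgroup N).map N.subtype with hT
    haveI : T.Normal := inferInstance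
    set V : Subgroup G := (Subgroup.center T).map T.subtype with hV
    haveI : V.Normal := inferInstance
    have hTp : IsPGroup r T := S.2.map _
    have hVN : V ≤ N := (Subgroup.map_subtype_le _).trans (Subgroup.map_subtype_le _)
    have hVp : IsPGroup r V := hTp.to_le (Subgroup.map_subtype_le _)
    haveI hVab : IsMulCommutative V := ⟨⟨fun a b => by
      obtain ⟨a', ha', ea⟩ := a.2
      apply Subtype.ext
      have := congrArg (fun z : T => (z : G)) (Subgroup.mem_center_iff.1 ha' ⟨(b : G), Subgroup.map_subtype_le _ b.2⟩)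
      rw [Subgroup.coe_mul, Subgroup.coe_mul, ← ea]
      exact this.symm⟩⟩
    have hV1 : V ≠ ⊥ := by
      haveI : Nontrivial T := by
        rw [Subgroup.nontrivial_iff_ne_bot, hT, Ne, Subgroup.map_eq_bot_iff_of_injective _ N.subtype_injective]
        exact S.ne_bot_of_dvd_card hrd
      haveI := hTp.center_nontrivial
      rw [hV, Ne, Subgroup.map_eq_bot_iff_of_injective _ T.subtype_injective]
      exact (Subgroup.nontrivial_iff_ne_bot _).1 inferInstance
    -- a Sylow q-subgroup of G over Qb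
    obtain ⟨Q, rfl⟩ := Sylow.mapSurjective_surjective (QuotientGroup.mk'_surjective N) q Qb
    obtain ⟨S'⟩ := (inferInstance : Nonempty (Sylow q N))
    haveI : (S' : Subgroup N).Normal := Cfsg.Agent.Perm.sylow_normal_of_nilpotent hnil S'
    haveI : (S' : Subgroup N).Characteristic := S'.characteristic_of_normal inferInstance
    set Nq : Subgroup G := (S' : Subgroup N).map N.subtype with hNq
    haveI : Nq.Normal := inferInstance
    have hNqQ : Nq ≤ (Q : Subgroup G) := (S'.2.map _).le_sylow_of_normal Q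
    have hNqN : Nq ≤ N := Subgroup.map_subtype_le _
    have hQN : ∀ g ∈ (Q : Subgroup G), g ∈ N → g ∈ Nq := by
      intro g hgQ hgN
      have hp' : IsPGroup q ↥((Q : Subgroup G).comap N.subtype) := Q.2.comap_of_injective N.subtype N.subtype_injective
      have e := S'.3 hp' (Subgroup.map_le_iff_le_comap.1 hNqQ)
      exact ⟨⟨g, hgN⟩, e ▸ (show (⟨g, hgN⟩ : N) ∈ (Q : Subgroup G).comap N.subtype from hgQ), rfl⟩
    set ν := QuotientGroup.mk' Nq with hν
    have hν1 : ∀ g, ν g = 1 ↔ g ∈ Nq := fun g => QuotientGroup.eq_one_iff g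
    haveI : IsMulCommutative (V.map ν) := ⟨⟨fun a b => by
      obtain ⟨a', ha', ea⟩ := a.2
      obtain ⟨b', hb', eb⟩ := b.2
      apply Subtype.ext
      rw [Subgroup.coe_mul, Subgroup.coe_mul, ← ea, ← eb, ← map_mul, ← map_mul,
        show a' * b' = b' * a' from congrArg Subtype.val (hVab.is_comm.comm (⟨a', ha'⟩ : V) ⟨b', hb'⟩)]⟩⟩
    have hdisj : ∀ g ∈ V, g ∈ Nq → g = 1 := fun g h1 h2 =>
      Subgroup.disjoint_def.1 (IsPGroup.disjoint_of_ne r q hrq V Nq hVp (S'.2.map _)) h1 h2
    have hVb : V.map ν ≠ ⊥ := by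
      intro e
      rw [Subgroup.map_eq_bot_iff, hν, QuotientGroup.ker_mk'] at e
      exact hV1 (le_bot_iff.1 fun g hg => Subgroup.mem_bot.2 (hdisj g hg (e hg)))
    haveI : (V.map ν).Normal := Subgroup.Normal.map inferInstance ν (QuotientGroup.mk'_surjective Nq)
    have hfpf : ∀ a ∈ (Q : Subgroup G).map ν, a ≠ 1 → V.map ν ⊓ Subgroup.centralizer {a} = ⊥ := by
      rintro _ ⟨g, hg, rfl⟩ ha
      refine le_bot_iff.1 ?_
      rintro _ ⟨⟨w, hw, rfl⟩, hwc⟩
      change ν w ∈ Subgroup.centralizer {ν g} at hwc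
      rw [Subgroup.mem_centralizer_singleton_iff, ← map_mul, ← map_mul] at hwc
      have hgN : g ∉ N := fun h => ha ((hν1 g).2 (hQN g hg h))
      have hcV : g * w * g⁻¹ * w⁻¹ ∈ V :=
        V.mul_mem (Subgroup.Normal.conj_mem inferInstance w hw g) (V.inv_mem hw)
      have hcN : g * w * g⁻¹ * w⁻¹ ∈ Nq := by
        rw [← hν1, map_mul, map_mul, map_mul, map_inv, map_inv, ← map_mul, ← hwc, map_mul]; group
      have hc : Commute g w := by
        have := hdisj _ hcV hcN
        exact (mul_inv_eq_iff_eq_mul.1 (mul_inv_eq_one.1 this))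
      rw [Subgroup.mem_bot]
      by_contra hw1
      obtain ⟨i, hi⟩ := IsPGroup.iff_orderOf.1 Q.2 ⟨g, hg⟩
      obtain ⟨j, hj⟩ := IsPGroup.iff_orderOf.1 hVp ⟨w, hw⟩
      rw [Subgroup.orderOf_mk] at hi hj
      exact key g hgN w (hVN hw) (fun e => hw1 (by rw [e, map_one]))
        (by rw [hi, hj]; exact (((Nat.coprime_primes Fact.out hr).2 hrq.symm).pow_left i).pow_right j) hc
    -- Qb is isomorphic to the image of Q modulo Nq
    have hQb : Nonempty (((Q : Subgroup G).map ν) ≃* ((Q.mapSurjective (QuotientGroup.mk'_surjective N) : Sylow q (G ⧸ N)) : Subgroup (G ⧸ N))) := by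
      rw [Sylow.coe_mapSurjective]
      let f : (Q : Subgroup G) →* G ⧸ Nq := ν.comp (Q : Subgroup G).subtype
      let f' : (Q : Subgroup G) →* G ⧸ N := (QuotientGroup.mk' N).comp (Q : Subgroup G).subtype
      have hker : f.ker = f'.ker := by
        ext g
        show ν (g : G) = 1 ↔ QuotientGroup.mk' N (g : G) = 1
        rw [hν1]
        exact ⟨fun h => (QuotientGroup.eq_one_iff _).2 (hNqN h), fun h => hQN _ g.2 ((QuotientGroup.eq_one_iff _).1 h)⟩
      refine ⟨?_⟩
      exact ((MulEquiv.subgroupCongr (by rw [MonoidHom.range_comp, Subgroup.range_subtype] : f.range = (Q : Subgroup G).map ν)).symm.trans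
        (QuotientGroup.quotientKerEquivRange f).symm).trans
        (((QuotientGroup.quotientMulEquivOfEq hker).trans (QuotientGroup.quotientKerEquivRange f')).trans
          (MulEquiv.subgroupCongr (by rw [MonoidHom.range_comp, Subgroup.range_subtype])))
    obtain ⟨e⟩ := hQb
    have hu : Cfsg.Agent.Solv.UniqueOrderP q ((Q.mapSurjective (QuotientGroup.mk'_surjective N) : Sylow q (G ⧸ N)) : Subgroup (G ⧸ N)) := by
      -- commuting elements of order q
      have hc : ∀ a b : (Q : Subgroup G).map ν, Commute a b → a ^ q = 1 → b ^ q = 1 → b ≠ 1 → a ∈ Subgroup.zpowers b := by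
        intro a b hab ha hb hb1
        have h := Cfsg.Agent.Solv.fpf_unique_order (A := (Q : Subgroup G).map ν) (V := V.map ν) hVb
          (by rw [Subgroup.normalizer_eq_top]; exact le_top) hfpf (p := q) a.2 b.2
          (congrArg Subtype.val hab.eq) (congrArg Subtype.val ha) (congrArg Subtype.val hb) (fun e => hb1 (Subtype.ext e))
        obtain ⟨i, hi⟩ := Subgroup.mem_zpowers_iff.1 h
        exact Subgroup.mem_zpowers_iff.2 ⟨i, Subtype.ext (by rw [Subgroup.coe_zpow]; exact hi)⟩
      intro a b ha hb hb1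
      set Qv := (Q : Subgroup G).map ν with hQv
      have hQvp : IsPGroup q Qv := Q.2.map _
      haveI : Nontrivial Qv := ⟨⟨e.symm b, 1, fun h => hb1 (e.symm.injective (by rw [h, map_one]))⟩⟩
      obtain ⟨z, hzc, hzq⟩ : ∃ z ∈ Subgroup.center Qv, orderOf z = q := by
        haveI := hQvp.center_nontrivial
        obtain ⟨k, hk⟩ := (hQvp.to_subgroup (Subgroup.center Qv)).exists_card_eq
        have : q ∣ Nat.card (Subgroup.center Qv) := by
          have h1 : 1 < Nat.card (Subgroup.center Qv) := Finite.one_lt_card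
          rcases k with _ | k
          · simp [hk] at h1
          · rw [hk]; exact dvd_pow_self q (Nat.succ_ne_zero k)
        obtain ⟨z, hz⟩ := exists_prime_orderOf_dvd_card' q this
        exact ⟨z, z.2, by rw [Subgroup.orderOf_coe]; exact hz⟩
      have hz1 : z ≠ 1 := fun h => (Fact.out : q.Prime).ne_one (by rw [← hzq, h, orderOf_one])
      have hzq' : z ^ q = 1 := by rw [← hzq, pow_orderOf_eq_one]
      have haz : ∀ w : Qv, w ^ q = 1 → w ∈ Subgroup.zpowers z := fun w hw =>
        hc w z (Subgroup.mem_center_iff.1 hzc w) hw hzq' hz1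
      have hbz : z ∈ Subgroup.zpowers (e.symm b) :=
        hc z (e.symm b) (Subgroup.mem_center_iff.1 hzc _).symm hzq' (by rw [← map_pow, hb, map_one])
          (fun h => hb1 (e.symm.injective (by rw [h, map_one])))
      have h2 : e.symm a ∈ Subgroup.zpowers (e.symm b) :=
        Subgroup.zpowers_le.2 hbz (haz _ (by rw [← map_pow, ha, map_one]))
      obtain ⟨i, hi⟩ := Subgroup.mem_zpowers_iff.1 h2
      exact Subgroup.mem_zpowers_iff.2 ⟨i, e.symm.injective (by rw [map_zpow, hi])⟩
    rcases Cfsg.Agent.Solv.cyclic_or_quaternion (Q.mapSurjective (QuotientGroup.mk'_surjective N)).2 hu with h | ⟨-, h⟩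
    · exact Or.inl h
    · exact Or.inr h

end Cfsg.Agent.S4155
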