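import Cfsg.Statements.S4156
import Mathlib

set_option autoImplicit false
open Cfsg

namespace Cfsg.Agent.S4156


open Equiv

variable (n : ℕ) (F : Type*) [Field F]

/-- extension to a sum-zero vector -/
def ext0 : (Fin n → F) →ₗ[F] (Fin (n + 1) → F) where
  toFun v := Fin.snoc v (-∑ i, v i)
  map_add' v w := by
    funext i
    refine Fin.lastCases ?_ ?_ i
    · simp [Finset.sum_add_distrib, add_comm]
    · intro j; simp
  map_smul' c v := by
    funext i
    refine Fin.lastCases ?_ ?_ i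
    · simp [Finset.mul_sum]
    · intro j; simp

theorem ext0_sum (v : Fin n → F) : ∑ i, ext0 n F v i = 0 := by
  simp [ext0, Fin.sum_univ_castSucc]

theorem ext0_restrict (w : Fin (n + 1) → F) (hw : ∑ i, w i = 0) :
    ext0 n F (fun j => w j.castSucc) = w := by
  funext i
  rw [Fin.sum_univ_castSucc] at hw
  refine Fin.lastCases ?_ ?_ i
  · simp only [ext0, LinearMap.coe_mk, AddHom.coe_mk, Fin.snoc_last]
    linear_combination -hw
  · intro j; simp [ext0]

/-- the deleted permutation module -/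
def delRep : Equiv.Perm (Fin (n + 1)) →* Module.End F (Fin n → F) where
  toFun σ :=
    { toFun := fun v j => ext0 n F v (σ⁻¹ j.castSucc)
      map_add' := fun v w => by funext j; simp [map_add]
      map_smul' := fun c v => by funext j; simp [map_smul] }
  map_one' := by
    refine LinearMap.ext fun v => funext fun j => ?_
    simp [ext0]
  map_mul' σ τ := by
    refine LinearMap.ext fun v => funext fun j => ?_
    show ext0 n F v ((σ * τ)⁻¹ j.castSucc) = ext0 n F (fun k => ext0 n F v (τ⁻¹ k.castSucc)) (σ⁻¹ j.castSucc)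
    rw [ext0_restrict n F (fun i => ext0 n F v (τ⁻¹ i))
      ((Equiv.sum_comp τ⁻¹ (ext0 n F v)).trans (ext0_sum n F v))]
    rw [mul_inv_rev]; rfl


/-- Let n ≥ 5 and F a finite field. Then the projective special linear group PSL_n(F) contains a subgroup isomorphic to the alternating group of degree n + 1. -/
theorem result (n : ℕ) (hn : 5 ≤ n) (F : Type*) [Field F] [Finite F] :
    ∃ f : alternatingGroup (Fin (n + 1)) →* Matrix.ProjectiveSpecialLinearGroup (Fin n) F, Function.Injective f := by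
  classical
  haveI : IsSimpleGroup (alternatingGroup (Fin (n + 1))) :=
    alternatingGroup.isSimpleGroup (by simp; omega)
  let R : alternatingGroup (Fin (n + 1)) →* Matrix (Fin n) (Fin n) F :=
    ((LinearMap.toMatrixAlgEquiv' : Module.End F (Fin n → F) ≃ₐ[F] Matrix (Fin n) (Fin n) F).toAlgHom.toRingHom.toMonoidHom).comp
      ((delRep n F).comp (alternatingGroup (Fin (n + 1))).subtype)
  let i0 : Fin (n + 1) := ⟨0, by omega⟩
  let i1 : Fin (n + 1) := ⟨1, by omega⟩
  let i2 : Fin (n + 1) := ⟨2, by omega⟩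
  let i3 : Fin (n + 1) := ⟨3, by omega⟩
  have n01 : i0 ≠ i1 := by simp [i0, i1, Fin.ext_iff]
  have n12 : i1 ≠ i2 := by simp [i1, i2, Fin.ext_iff]
  have n02 : i0 ≠ i2 := by simp [i0, i2, Fin.ext_iff]
  have n13 : i1 ≠ i3 := by simp [i1, i3, Fin.ext_iff]
  have n23 : i2 ≠ i3 := by simp [i2, i3, Fin.ext_iff]
  have n03 : i0 ≠ i3 := by simp [i0, i3, Fin.ext_iff]
  let c : alternatingGroup (Fin (n + 1)) := ⟨Equiv.swap i0 i1 * Equiv.swap i1 i2, by
    rw [Equiv.Perm.mem_alternatingGroup, map_mul, Equiv.Perm.sign_swap n01, Equiv.Perm.sign_swap n12]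
    rfl⟩
  let d : alternatingGroup (Fin (n + 1)) := ⟨Equiv.swap i0 i1 * Equiv.swap i1 i3, by
    rw [Equiv.Perm.mem_alternatingGroup, map_mul, Equiv.Perm.sign_swap n01, Equiv.Perm.sign_swap n13]
    rfl⟩
  have hnc : c * d ≠ d * c := by
    intro h
    have h' := congrArg (fun z : alternatingGroup (Fin (n + 1)) => (z : Equiv.Perm (Fin (n + 1))) i2) h
    simp [c, d, Equiv.swap_apply_of_ne_of_ne, n01, n01.symm, n12, n12.symm, n02, n02.symm, n13,
      n13.symm, n23, n23.symm, n03, n03.symm] at h'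
  have hdet : ∀ a, (R a).det = 1 := by
    intro a
    let δ : alternatingGroup (Fin (n + 1)) →* Fˣ := ((Matrix.detMonoidHom).comp R).toHomUnits
    rcases δ.normal_ker.eq_bot_or_eq_top with h | h
    · exact absurd ((MonoidHom.ker_eq_bot_iff δ).1 h (by rw [map_mul, map_mul, mul_comm])) hnc
    · have : δ a = 1 := MonoidHom.mem_ker.1 (h ▸ Subgroup.mem_top a)
      exact congrArg Units.val this
  let S : alternatingGroup (Fin (n + 1)) →* Matrix.SpecialLinearGroup (Fin n) F :=
    { toFun := fun a => ⟨R a, hdet a⟩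
      map_one' := Subtype.ext (map_one R)
      map_mul' := fun a b => Subtype.ext (map_mul R a b) }
  let f := (QuotientGroup.mk' (Subgroup.center (Matrix.SpecialLinearGroup (Fin n) F))).comp S
  refine ⟨f, (MonoidHom.ker_eq_bot_iff f).1 ?_⟩
  rcases f.normal_ker.eq_bot_or_eq_top with h | h
  · exact h
  exfalso
  have hc : S c⁻¹ ∈ Subgroup.center (Matrix.SpecialLinearGroup (Fin n) F) :=
    (QuotientGroup.eq_one_iff _).1 (MonoidHom.mem_ker.1 (h ▸ Subgroup.mem_top c⁻¹ : c⁻¹ ∈ f.ker))
  obtain ⟨r, -, hr⟩ := Matrix.SpecialLinearGroup.mem_center_iff.1 hc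
  let v : Fin n → F := Pi.single (⟨0, by omega⟩ : Fin n) 1
  have hv : (delRep n F (c⁻¹ : alternatingGroup (Fin (n + 1)))) v = r • v := by
    have h1 : Matrix.scalar (Fin n) r = LinearMap.toMatrixAlgEquiv' (delRep n F (c⁻¹ : alternatingGroup (Fin (n + 1)))) := hr
    have h2 := congrArg (fun M => Matrix.mulVec M v) h1
    simp only [Matrix.scalar_apply] at h2
    rw [← Matrix.smul_one_eq_diagonal, Matrix.smul_mulVec, Matrix.one_mulVec] at h2
    rw [h2, ← Matrix.toLinAlgEquiv'_apply, Matrix.toLinAlgEquiv'_toMatrixAlgEquiv']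
  have h3 := congrFun hv (⟨2, by omega⟩ : Fin n)
  have e2 : (⟨2, by omega⟩ : Fin n).castSucc = i2 := rfl
  have e0 : (⟨0, by omega⟩ : Fin n).castSucc = i0 := rfl
  simp only [delRep, MonoidHom.coe_mk, OneHom.coe_mk, LinearMap.coe_mk, AddHom.coe_mk,
    Subgroup.coe_inv, inv_inv, e2, Pi.smul_apply, smul_eq_mul] at h3
  have hc2 : (c : Equiv.Perm (Fin (n + 1))) i2 = i0 := by
    show Equiv.swap i0 i1 (Equiv.swap i1 i2 i2) = i0
    rw [Equiv.swap_apply_right, Equiv.swap_apply_right]
  rw [hc2, ← e0] at h3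
  simp only [ext0, LinearMap.coe_mk, AddHom.coe_mk, Fin.snoc_castSucc] at h3
  simp [v, Fin.ext_iff] at h3

end Cfsg.Agent.S4156
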