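import Cfsg.Statements.S4157
import Cfsg.Agent.Lib.Fusion.SubgroupCount

set_option autoImplicit false
open Cfsg
open Cfsg.Agent.Fusion
open scoped commutatorElement

namespace Cfsg.Agent.S4157

/-- Let G be a finite p-group of order p^m that is not cyclic and, when p = 2, not of maximal class (nilpotency class m − 1). Then for every 1 ≤ k < m the number of subgroups of G of order p^k is congruent to 1 + p modulo p². -/
theorem result {G : Type*} [Group G] [Finite G] {p : ℕ} [Fact p.Prime] (m : ℕ)
    (hG : Nat.card G = p ^ m) (hnc : ¬ IsCyclic G) (h2 : p = 2 → Group.nilpotencyClass G ≠ m - 1)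
    (k : ℕ) (hk1 : 1 ≤ k) (hk2 : k < m) :
    Nat.card {H : Subgroup G // Nat.card H = p ^ k} ≡ 1 + p [MOD p ^ 2] := by
  have hex : ¬ CountSq.Exc p k G := by
    rintro (h | ⟨hp2, hidx, hcard⟩)
    · exact hnc h
    · subst hp2
      rw [hG] at hcard
      have hkm := (Nat.pow_le_pow_iff_right (by norm_num : 1 < 2)).1 hcard
      obtain ⟨n, rfl⟩ : ∃ n, m = n + 3 := ⟨m - 3, by omega⟩
      have hGp : IsPGroup 2 G := IsPGroup.of_card hG
      haveI := hGp.isNilpotent
      have hne := Fusion.lcs_ne_bot_of_commutator_index_four n hG hidx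
      have h1 : ¬ Group.nilpotencyClass G ≤ n + 1 := fun h =>
        hne (Subgroup.lowerCentralSeries_eq_bot_iff_nilpotencyClass_le.2 h)
      have h3 : Group.nilpotencyClass G ≤ n + 3 - 1 :=
        Subgroup.lowerCentralSeries_eq_bot_iff_nilpotencyClass_le.1 (Solv.lcs_eq_bot hGp hG (by omega))
      exact h2 rfl (by omega)
  exact (CountSq.sc_modEq m hG k hk1 hk2).2 hex

end Cfsg.Agent.S4157
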