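import Cfsg.Statements.S4159
import Cfsg.Agent.Lib.Local.InvertedTwoClosed
import Cfsg.Agent.S0205

set_option autoImplicit false
open Cfsg

namespace Cfsg.Agent.S4159

/-- Let G be a finite group such that in every subgroup H of G, any two conjugacy classes of H of size greater than 1 have non-coprime sizes. Then G is solvable. -/
theorem result {G : Type*} [Group G] [Finite G]
    (h : ∀ (H : Subgroup G) (x y : H), 1 < (Subgroup.centralizer ({x} : Set H)).index → 1 < (Subgroup.centralizer ({y} : Set H)).index →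
      ¬ ((Subgroup.centralizer ({x} : Set H)).index).Coprime (Subgroup.centralizer ({y} : Set H)).index) : Group.IsSolvable G := by
  haveI : Fact (Nat.Prime 2) := ⟨Nat.prime_two⟩
  by_cases hP : ∀ P : Sylow 2 G, (P : Subgroup G).Normal
  · obtain ⟨P⟩ : Nonempty (Sylow 2 G) := inferInstance
    haveI := hP P
    haveI : Group.IsNilpotent (P : Subgroup G) := P.2.isNilpotent
    haveI : Group.IsSolvable (G ⧸ (P : Subgroup G)) := Cfsg.Agent.S0205.result (by
      rw [← Subgroup.index_eq_card, ← Nat.not_even_iff_odd, even_iff_two_dvd]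
      exact P.not_dvd_index)
    exact solvable_of_ker_le_range (P : Subgroup G).subtype (QuotientGroup.mk' (P : Subgroup G))
      (by simp)
  · exfalso
    obtain ⟨q, hq, hq2, x, -, hx1, ⟨k, hk⟩, g, -, he⟩ :=
      Cfsg.Agent.Local.InvControl.exists_inv_of_not_two_closed hP
    haveI : Fact q.Prime := ⟨hq⟩
    obtain ⟨a, m, hm, hinv, hne⟩ := Cfsg.Agent.Local.InvControl.exists_two_inverting hq2 hk hx1 he
    set y := g ^ m with hy
    set X := Subgroup.zpowers x with hX
    set Y := Subgroup.zpowers y with hY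
    set K : Subgroup G := X ⊔ Y with hK
    have hxK : x ∈ K := Subgroup.mem_sup_left (Subgroup.mem_zpowers x)
    have hyK : y ∈ K := Subgroup.mem_sup_right (Subgroup.mem_zpowers y)
    have hYN : Y ≤ Subgroup.normalizer (X : Set G) := by
      rw [hY, Subgroup.zpowers_le]
      refine Cfsg.Agent.Fusion.mem_normalizer_of_cj_le ?_
      rintro _ ⟨z, hz, rfl⟩
      obtain ⟨i, rfl⟩ := Subgroup.mem_zpowers_iff.1 hz
      show y * x ^ i * y⁻¹ ∈ X
      rw [← conj_zpow, hinv]
      exact zpow_mem (inv_mem (Subgroup.mem_zpowers x)) i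
    haveI : (X.subgroupOf K).Normal := Subgroup.normal_subgroupOf_iff_le_normalizer le_sup_left |>.2
      (sup_le Subgroup.le_normalizer hYN)
    have hcard : Nat.card K ∣ orderOf x * orderOf y := by
      have hsup : X.subgroupOf K ⊔ Y.subgroupOf K = ⊤ := by
        rw [← Subgroup.subgroupOf_sup le_sup_left le_sup_right, Subgroup.subgroupOf_self]
      have h1 : (X.subgroupOf K).index ∣ Nat.card (Y.subgroupOf K) := by
        rw [← Subgroup.relIndex_top_right, ← hsup, Subgroup.relIndex_sup_left]
        exact Subgroup.relIndex_dvd_card ..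
      rw [← (X.subgroupOf K).card_mul_index, Nat.card_congr (Subgroup.subgroupOfEquivOfLe
        (le_sup_left : X ≤ K)).toEquiv, Nat.card_zpowers]
      refine mul_dvd_mul_left _ (h1.trans (dvd_of_eq ?_))
      rw [Nat.card_congr (Subgroup.subgroupOfEquivOfLe (le_sup_right : Y ≤ K)).toEquiv,
        Nat.card_zpowers]
    have hidx : ∀ (u : K) (n : ℕ), Nat.card K ∣ orderOf u * n →
        (Subgroup.centralizer ({u} : Set K)).index ∣ n := by
      intro u n hn
      have hle : Subgroup.zpowers u ≤ Subgroup.centralizer ({u} : Set K) := by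
        rw [Subgroup.zpowers_le, Subgroup.mem_centralizer_singleton_iff]
      refine (Subgroup.index_dvd_of_le hle).trans
        (Nat.dvd_of_mul_dvd_mul_left (orderOf_pos u) ?_)
      rw [← Nat.card_zpowers u, Subgroup.card_mul_index, Nat.card_zpowers]
      exact hn
    have hnc : ∀ u v : K, u * v ≠ v * u → 1 < (Subgroup.centralizer ({u} : Set K)).index := by
      intro u v huv
      refine Subgroup.one_lt_index_of_ne_top fun htop => huv ?_
      exact (Subgroup.mem_centralizer_singleton_iff.1 (htop.ge (Subgroup.mem_top v))).symm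
    have hxy : (⟨x, hxK⟩ : K) * ⟨y, hyK⟩ ≠ ⟨y, hyK⟩ * ⟨x, hxK⟩ := by
      intro e
      have e' : x * y = y * x := congrArg Subtype.val e
      apply hne
      rw [← hinv, ← e']
      group
    apply h K ⟨x, hxK⟩ ⟨y, hyK⟩ (hnc _ _ hxy) (hnc _ _ (Ne.symm hxy))
    have hx' := hidx ⟨x, hxK⟩ (orderOf y) (by rwa [Subgroup.orderOf_mk])
    have hy' := hidx ⟨y, hyK⟩ (orderOf x) (by rw [Subgroup.orderOf_mk, mul_comm]; exact hcard)
    have hcop : (orderOf y).Coprime (orderOf x) :=
      Nat.Coprime.of_dvd (orderOf_dvd_of_pow_eq_one hm) (orderOf_dvd_of_pow_eq_one hk)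
        (Nat.Coprime.pow _ _ ((Nat.coprime_primes Nat.prime_two hq).2 (Ne.symm hq2)))
    exact Nat.Coprime.of_dvd hx' hy' hcop

end Cfsg.Agent.S4159
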