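import Cfsg.Statements.S4160
import Cfsg.Agent.Lib.Perm.NilpotentHall

set_option autoImplicit false
open Cfsg

namespace Cfsg.Agent.S4160

universe u

variable {G : Type u} [Group G] [Finite G]

open scoped Classical in
/-- The elements with class size prime to `p` and the resulting inequality. -/
theorem count (p : ℕ) [Fact p.Prime] [Fintype G] (P : Sylow p G) :
    (Finset.univ.filter fun x : G => ¬ p ∣ (Subgroup.centralizer ({x} : Set G)).index).card ≤
      (Subgroup.normalizer ((P : Subgroup G) : Set G)).index * Nat.card (Subgroup.centralizer ((P : Subgroup G) : Set G)) := by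
  set N := Subgroup.normalizer ((P : Subgroup G) : Set G)
  set C := Subgroup.centralizer ((P : Subgroup G) : Set G)
  let f : (G ⧸ N) × C → G := fun z => Quotient.out z.1 * (z.2 : G) * (Quotient.out z.1)⁻¹
  have h1 : (Finset.univ.filter fun x : G => ¬ p ∣ (Subgroup.centralizer ({x} : Set G)).index) ⊆
      Finset.univ.image f := by
    intro x hx
    obtain ⟨Q, hQ⟩ := Cfsg.Agent.Perm.NilpotentHall.exists_sylow_le (Finset.mem_filter.1 hx).2
    obtain ⟨g, hg⟩ := MulAction.exists_smul_eq G P Q
    obtain ⟨n, hn⟩ := QuotientGroup.mk_out_eq_mul N g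
    refine Finset.mem_image.2 ⟨((g : G ⧸ N), ⟨(g * n)⁻¹ * x * (g * n), ?_⟩), Finset.mem_univ _, ?_⟩
    · refine Subgroup.mem_centralizer_iff.2 fun a ha => ?_
      have h2 : (g * n) * a * (g * n)⁻¹ ∈ (Q : Subgroup G) := by
        rw [← hg, Sylow.coe_subgroup_smul]
        exact ⟨(n : G) * a * (n : G)⁻¹, (Subgroup.mem_normalizer_iff.1 n.2 a).1 ha,
          show g * ((n : G) * a * (n : G)⁻¹) * g⁻¹ = _ by group⟩
      have h3 : x * ((g * n) * a * (g * n)⁻¹) = ((g * n) * a * (g * n)⁻¹) * x :=
        Subgroup.mem_centralizer_iff.1 (hQ h2) x rfl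
      calc a * ((g * n)⁻¹ * x * (g * n)) = (g * n)⁻¹ * (((g * n) * a * (g * n)⁻¹) * x) * (g * n) := by group
        _ = (g * n)⁻¹ * (x * ((g * n) * a * (g * n)⁻¹)) * (g * n) := by rw [h3]
        _ = ((g * n)⁻¹ * x * (g * n)) * a := by group
    · show Quotient.out (g : G ⧸ N) * ((g * n)⁻¹ * x * (g * n)) * (Quotient.out (g : G ⧸ N))⁻¹ = x
      rw [hn]; group
  refine (Finset.card_le_card h1).trans (Finset.card_image_le.trans ?_)
  rw [Finset.card_univ, ← Nat.card_eq_fintype_card, Nat.card_prod, Subgroup.index_eq_card]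

theorem npc_of_eq (p : ℕ) [Fact p.Prime] (P : Sylow p G)
    (h : (Subgroup.normalizer ((P : Subgroup G) : Set G)).index * Nat.card (Subgroup.centralizer ((P : Subgroup G) : Set G)) * 2 > Nat.card G) :
    Cfsg.HasNormalPComplement p G := by
  set N := Subgroup.normalizer ((P : Subgroup G) : Set G)
  set C := Subgroup.centralizer ((P : Subgroup G) : Set G)
  have hCN : C ≤ N := Subgroup.centralizer_le_normalizer _
  have h2 := Subgroup.relIndex_mul_relIndex (⊥ : Subgroup G) C N bot_le hCN
  rw [Subgroup.relIndex_bot_left, Subgroup.relIndex_bot_left] at h2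
  rw [← Subgroup.index_mul_card N, ← h2, ← mul_assoc] at h
  have h3 : C.relIndex N < 2 := Nat.lt_of_mul_lt_mul_left h
  have h4 : C.relIndex N ≠ 0 := fun h4 => (Nat.card_pos (α := N)).ne' (by rw [← h2, h4, mul_zero])
  have hle : N ≤ C := Subgroup.relIndex_eq_one.1 (by omega)
  exact ⟨P, _, inferInstance, MonoidHom.ker_transferSylow_isComplement' P hle⟩

/-- Let G be a finite group and p ≠ q primes each dividing the size of some conjugacy class of G, such that no conjugacy class size is divisible by pq. Then G has a normal p-complement or a normal q-complement. -/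
theorem result {G : Type*} [Group G] [Finite G] (p q : ℕ) (hp : p.Prime) (hq : q.Prime) (hpq : p ≠ q)
    (hp' : ∃ x : G, p ∣ (Subgroup.centralizer ({x} : Set G)).index) (hq' : ∃ x : G, q ∣ (Subgroup.centralizer ({x} : Set G)).index) (h : ∀ x : G, ¬ p * q ∣ (Subgroup.centralizer ({x} : Set G)).index) :
    Cfsg.HasNormalPComplement p G ∨ Cfsg.HasNormalPComplement q G := by
  classical
  haveI : Fact p.Prime := ⟨hp⟩
  haveI : Fact q.Prime := ⟨hq⟩
  letI : Fintype G := Fintype.ofFinite G
  obtain ⟨P⟩ : Nonempty (Sylow p G) := inferInstance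
  obtain ⟨Q⟩ : Nonempty (Sylow q G) := inferInstance
  by_contra hcon
  push Not at hcon
  have hP := not_lt.1 (fun h' => hcon.1 (npc_of_eq p P h'))
  have hQ := not_lt.1 (fun h' => hcon.2 (npc_of_eq q Q h'))
  have h1 := count p P
  have h2 := count q Q
  set A := Finset.univ.filter fun x : G => ¬ p ∣ (Subgroup.centralizer ({x} : Set G)).index
  set B := Finset.univ.filter fun x : G => ¬ q ∣ (Subgroup.centralizer ({x} : Set G)).index
  have hcov : (Finset.univ : Finset G) ⊆ A ∪ B := fun x _ => by
    simp only [A, B, Finset.mem_union, Finset.mem_filter, Finset.mem_univ, true_and]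
    by_contra hx
    push Not at hx
    exact h x (((Nat.coprime_primes hp hq).2 hpq).mul_dvd_of_dvd_of_dvd hx.1 hx.2)
  have hone : (1 : G) ∈ A ∩ B := by
    have e : (Subgroup.centralizer ({1} : Set G)).index = 1 := Subgroup.index_eq_one.2 (by
      ext y; simp [Subgroup.mem_centralizer_iff])
    simp only [A, B, Finset.mem_inter, Finset.mem_filter, Finset.mem_univ, true_and, e]
    exact ⟨hp.not_dvd_one, hq.not_dvd_one⟩
  have h3 := Finset.card_le_card hcov
  have h4 := Finset.card_union_add_card_inter A B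
  have h5 : 0 < (A ∩ B).card := Finset.card_pos.2 ⟨1, hone⟩
  rw [Finset.card_univ, ← Nat.card_eq_fintype_card] at h3
  omega

end Cfsg.Agent.S4160
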