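import Cfsg.Statements.S4161
import Cfsg.Agent.Lib.Char.ClassPrimes
import Mathlib.GroupTheory.Solvable

set_option autoImplicit false
open Cfsg

namespace Cfsg.Agent.S4161

open Subgroup Cfsg.Agent.ClassPrimes
open scoped commutatorElement

variable {G : Type*} [Group G] [Finite G]

/-- Index of the centraliser of a commuting product of coprime orders is divisible by both indices. -/
theorem index_dvd_index_mul {y k : G} (hc : y * k = k * y) (hco : (orderOf y).Coprime (orderOf k)) :
    (centralizer ({y} : Set G)).index ∣ (centralizer ({y * k} : Set G)).index ∧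
      (centralizer ({k} : Set G)).index ∣ (centralizer ({y * k} : Set G)).index := by
  have hcm : Commute y k := hc
  have key : ∀ z : G, z * (y * k) = y * k * z → z * y = y * z ∧ z * k = k * z := by
    intro z hz
    obtain ⟨a, ha⟩ := exists_pow_eq_self_of_coprime (x := y) hco.symm
    have hy : (y * k) ^ orderOf k = y ^ orderOf k := by
      rw [hcm.mul_pow, pow_orderOf_eq_one, mul_one]
    have h1 : Commute z y := by
      rw [← ha, ← hy, ← pow_mul]
      exact Commute.pow_right hz _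
    refine ⟨h1, ?_⟩
    have h2 : Commute z (y⁻¹ * (y * k)) := h1.inv_right.mul_right hz
    rwa [inv_mul_cancel_left] at h2
  constructor <;> refine index_dvd_of_le fun z hz => mem_centralizer_singleton_iff.2 ?_
  · exact (key z (mem_centralizer_singleton_iff.1 hz)).1
  · exact (key z (mem_centralizer_singleton_iff.1 hz)).2

/-- A prime dividing the order of the derived subgroup is not of the abelian kind. -/
theorem not_ab_of_dvd {r : ℕ} (hr : r.Prime) (hd : r ∣ Nat.card (commutator G)) : ¬ Ab r G :=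
  fun h => by have := Fact.mk hr; exact not_dvd_card_commutator h hd

/-- Mixed case: `q` of the abelian kind, `p` not. -/
theorem mixed (hG : ¬ Group.IsSolvable G) {p q : ℕ} (hp : p.Prime) (hq : q.Prime) (hA : ¬ Ab p G)
    (hB : Ab q G) (hq' : ∃ x : G, q ∣ (centralizer ({x} : Set G)).index) :
    (∃ x : G, p * q ∣ (centralizer ({x} : Set G)).index) ∨ ∃ r : ℕ, r.Prime ∧ r ≠ p ∧ r ≠ q ∧
      (∃ x : G, p * r ∣ (centralizer ({x} : Set G)).index) ∧
      (∃ y : G, r * q ∣ (centralizer ({y} : Set G)).index) := by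
  have : Fact q.Prime := ⟨hq⟩
  set K := commutator G with hK
  have hqK : ¬ q ∣ Nat.card K := not_dvd_card_commutator hB
  by_cases hex : ∃ g ∈ K, q ∣ (centralizer ({g} : Set G)).index ∧
      (centralizer ({g} : Set G)).relIndex K ≠ 1
  · obtain ⟨g, -, hgq, hne⟩ := hex
    obtain ⟨r, hr, hrd⟩ := Nat.exists_prime_and_dvd hne
    have hrK : r ∣ Nat.card K := hrd.trans (relIndex_dvd_card _ K)
    have hrq : r ≠ q := fun h => hqK (h ▸ hrK)
    have hrg : r * q ∣ (centralizer ({g} : Set G)).index :=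
      ((Nat.coprime_primes hr hq).2 hrq).mul_dvd_of_dvd_of_dvd
        (hrd.trans (relIndex_dvd_index _ K)) hgq
    by_cases hrp : r = p
    · exact Or.inl ⟨g, hrp ▸ hrg⟩
    · exact Or.inr ⟨r, hr, hrp, hrq, adj_of_not_ab hp hr (Ne.symm hrp) hA (not_ab_of_dvd hr hrK),
        g, hrg⟩
  · exfalso
    push Not at hex
    let Q : Sylow q G := default
    set D : Subgroup K := (centralizer ((Q : Subgroup G) : Set G)).subgroupOf K with hD
    -- every element is central or conjugate into `D`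
    have hcases : ∀ g : K, g ∈ center K ∨ ∃ k : K, k * g * k⁻¹ ∈ D := by
      intro g
      by_cases hgq : q ∣ (centralizer ({(g : G)} : Set G)).index
      · refine Or.inl (mem_center_iff.2 fun k => Subtype.ext ?_)
        have h1 := relIndex_eq_one.1 (hex g g.2 hgq) k.2
        exact mem_centralizer_singleton_iff.1 h1
      · obtain ⟨k, hk, hkg⟩ := exists_conj_mem hB Q hgq
        exact Or.inr ⟨⟨k, hk⟩, mem_subgroupOf.2 hkg⟩
    have hDne : D ≠ ⊤ := by
      intro htop
      obtain ⟨g, hgK, hgq⟩ := exists_good hB hq'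
      have h1 : g ∈ centralizer ((Q : Subgroup G) : Set G) := subgroupOf_eq_top.1 htop hgK
      have h2 : (Q : Subgroup G) ≤ centralizer ({g} : Set G) := fun y hy =>
        mem_centralizer_singleton_iff.2 (mem_centralizer_iff.1 h1 y hy)
      exact Q.not_dvd_index (hgq.trans (index_dvd_of_le h2))
    have hsup : D ⊔ center K = ⊤ := Agent.Solv.eq_top_of_forall_conj_mem _ fun g => by
      rcases hcases g with h | ⟨k, hk⟩
      · exact ⟨1, by simpa using (le_sup_right : center K ≤ D ⊔ center K) h⟩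
      · exact ⟨k, (le_sup_left : D ≤ D ⊔ center K) hk⟩
    have hunion : ∀ g : K, g ∈ center K ∨ g ∈ D := by
      intro g
      rcases hcases g with h | ⟨k, hk⟩
      · exact Or.inl h
      · refine Or.inr ?_
        have hk' : k⁻¹ ∈ D ⊔ center K := by rw [hsup]; trivial
        obtain ⟨d, hd, z, hz, hdz⟩ := mem_sup_of_normal_right.1 hk'
        have hk2 : k = z⁻¹ * d⁻¹ := by rw [← inv_inv k, ← hdz, mul_inv_rev]
        have hzc := mem_center_iff.1 hz
        have : k * g * k⁻¹ = d⁻¹ * g * d := by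
          rw [hk2, mul_inv_rev, inv_inv, inv_inv,
            show z⁻¹ * d⁻¹ * g * (d * z) = z⁻¹ * ((d⁻¹ * g * d) * z) by group, hzc, inv_mul_cancel_left]
        have h2 : d⁻¹ * g * d ∈ D := this ▸ hk
        have h3 := mul_mem (mul_mem hd h2) (inv_mem hd)
        simpa [mul_assoc] using h3
    obtain ⟨g₀, hg₀⟩ : ∃ g₀, g₀ ∉ D := by
      by_contra hh
      push Not at hh
      exact hDne (eq_top_iff.2 fun x _ => hh x)
    have hcen : center K = ⊤ := by
      refine eq_top_iff.2 fun x _ => ?_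
      by_contra hx
      have hxD := (hunion x).resolve_left hx
      have hg₀Z := (hunion g₀).resolve_right hg₀
      rcases hunion (g₀ * x) with h | h
      · exact hx (by simpa using mul_mem (inv_mem hg₀Z) h)
      · exact hg₀ (by simpa using mul_mem h (inv_mem hxD))
    apply hG
    refine (Group.isSolvable_iff_subgroup_quotient K).2 ⟨Group.isSolvable_of_comm fun a b => ?_,
      Group.isSolvable_of_comm fun a b => ?_⟩
    · exact (mem_center_iff.1 (hcen ▸ mem_top b : b ∈ center K) a)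
    · induction a using QuotientGroup.induction_on with
      | _ a =>
        induction b using QuotientGroup.induction_on with
        | _ b =>
          rw [← QuotientGroup.mk_mul, ← QuotientGroup.mk_mul, QuotientGroup.eq,
            show (a * b)⁻¹ * (b * a) = ⁅b⁻¹, a⁻¹⁆ by rw [commutatorElement_def]; group]
          exact commutator_mem_commutator (mem_top _) (mem_top _)


/-- If `K = C_K(w) C_K(z)` and the `r`-element `z` moves `K` coprimely, some element whose conjugates all
commute with `w` has no conjugate commuting with `z`. -/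
theorem moved {r : ℕ} [Fact r.Prime] {K : Subgroup G} [K.Normal] (hrK : ¬ r ∣ Nat.card K) {z w : G}
    (hz : ∃ m : ℕ, z ^ r ^ m = 1) (hzw : z * w = w * z) (hne : ¬ K ≤ centralizer ({z} : Set G))
    (hfac : ∀ k : K, ∃ d : K, (d : G) * w = w * d ∧ ∃ e : K, (e : G) * z = z * e ∧ (k : G) = d * e) :
    ∃ u ∈ K, (∀ k ∈ K, k * u * k⁻¹ * w = w * (k * u * k⁻¹)) ∧
      ∀ k ∈ K, ¬ k * u * k⁻¹ * z = z * (k * u * k⁻¹) := by
  classical
  set S : Set G := {n | ∃ k ∈ K, n = z * k * z⁻¹ * k⁻¹} with hS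
  set N : Subgroup G := closure S with hN
  have hzK : ∀ k ∈ K, z * k * z⁻¹ ∈ K := fun k hk => Normal.conj_mem ‹_› k hk z
  have hNK : N ≤ K := (closure_le K).2 fun n ⟨k, hk, hn⟩ => hn ▸ mul_mem (hzK k hk) (inv_mem hk)
  have hSw : S ⊆ (centralizer ({w} : Set G) : Subgroup G) := by
    rintro n ⟨k, hk, rfl⟩
    obtain ⟨d, hd, e, he, hke⟩ := hfac ⟨k, hk⟩
    have hk' : k = d * e := hke
    have hzwc : Commute w z := hzw.symm
    have hdc : Commute w (d : G) := hd.symm
    have hec : z * (e : G) * z⁻¹ = e := by rw [← he, mul_inv_cancel_right]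
    rw [SetLike.mem_coe, mem_centralizer_singleton_iff]
    have : z * k * z⁻¹ * k⁻¹ = z * d * z⁻¹ * (d : G)⁻¹ := by
      rw [hk', show z * ((d : G) * e) * z⁻¹ * ((d : G) * e)⁻¹ =
        z * d * z⁻¹ * (z * e * z⁻¹) * (e : G)⁻¹ * (d : G)⁻¹ by group, hec]
      group
    rw [this]
    exact (((hzwc.mul_right hdc).mul_right hzwc.inv_right).mul_right hdc.inv_right).symm
  have hNconj : ∀ l ∈ K, ∀ n ∈ N, l * n * l⁻¹ ∈ N := by
    intro l hl n hn
    have h1 : N.map (MulAut.conj l).toMonoidHom ≤ N := by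
      rw [hN, MonoidHom.map_closure, closure_le]
      rintro _ ⟨a, ⟨k, hk, rfl⟩, rfl⟩
      have e : (MulAut.conj l).toMonoidHom (z * k * z⁻¹ * k⁻¹) =
          (z * l * z⁻¹ * l⁻¹)⁻¹ * (z * (l * k) * z⁻¹ * (l * k)⁻¹) := by
        simp only [MulEquiv.coe_toMonoidHom, MulAut.conj_apply]; group
      rw [e]
      exact mul_mem (inv_mem (subset_closure ⟨l, hl, rfl⟩)) (subset_closure ⟨_, mul_mem hl hk, rfl⟩)
    exact h1 ⟨n, hn, rfl⟩
  have hNw : N ≤ centralizer ({w} : Set G) := (closure_le _).2 hSw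
  -- fixed points in every coset of `N`
  have hdec : ∀ k ∈ K, ∃ n ∈ N, ∃ c ∈ K, c * z = z * c ∧ k = n * c := by
    intro k hk
    let X := {c : G // c ∈ K ∧ k * c⁻¹ ∈ N}
    have hstep : ∀ c : X, z * c.1 * z⁻¹ ∈ K ∧ k * (z * c.1 * z⁻¹)⁻¹ ∈ N := by
      intro c
      refine ⟨hzK _ c.2.1, ?_⟩
      rw [show k * (z * c.1 * z⁻¹)⁻¹ = (k * c.1⁻¹) * (z * c.1 * z⁻¹ * c.1⁻¹)⁻¹ by group]
      exact mul_mem c.2.2 (inv_mem (subset_closure ⟨c.1, c.2.1, rfl⟩))
    let f : X → X := fun c => ⟨z * c.1 * z⁻¹, hstep c⟩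
    have hf : Function.Injective f := fun a b h => Subtype.ext (by
      have h' : z * a.1 * z⁻¹ = z * b.1 * z⁻¹ := congrArg Subtype.val h
      exact mul_left_cancel (mul_right_cancel h'))
    let σ : Equiv.Perm X := Equiv.ofBijective f (Finite.injective_iff_bijective.1 hf)
    have hpow : ∀ (i : ℕ) (c : X), ((σ ^ i) c).1 = z ^ i * c.1 * (z ^ i)⁻¹ := by
      intro i
      induction i with
      | zero => intro c; simp
      | succ i ih =>
        intro c
        rw [pow_succ', Equiv.Perm.mul_apply]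
        change z * ((σ ^ i) c).1 * z⁻¹ = _
        rw [ih c, pow_succ' z i]; group
    obtain ⟨m, hm⟩ := hz
    have hσ : σ ^ r ^ m = 1 := Equiv.ext fun c => Subtype.ext (by rw [hpow, hm]; simp)
    have : Fintype X := Fintype.ofFinite X
    have hcard : ¬ r ∣ Fintype.card X := by
      intro hd
      apply hrK
      refine hd.trans ?_
      let eX : X ≃ N := {
        toFun := fun c => ⟨k * c.1⁻¹, c.2.2⟩
        invFun := fun n => ⟨(n : G)⁻¹ * k, mul_mem (inv_mem (hNK n.2)) hk, by simp⟩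
        left_inv := fun c => Subtype.ext (by simp)
        right_inv := fun n => Subtype.ext (by simp) }
      rw [← Nat.card_eq_fintype_card, Nat.card_congr eX]
      exact card_dvd_of_le hNK
    obtain ⟨c, hc⟩ := Equiv.Perm.exists_fixed_point_of_prime hcard hσ
    have hc' : z * c.1 * z⁻¹ = c.1 := congrArg Subtype.val hc
    exact ⟨k * c.1⁻¹, c.2.2, c.1, c.2.1, by rw [← mul_inv_eq_iff_eq_mul.1 hc'], by group⟩
  obtain ⟨u, huN, hu⟩ : ∃ u ∈ N, ∀ k ∈ K, ¬ k * u * k⁻¹ * z = z * (k * u * k⁻¹) := by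
    by_contra hcon
    push Not at hcon
    have htop : (centralizer ({z} : Set G)).subgroupOf N = ⊤ := by
      refine Agent.Solv.eq_top_of_forall_conj_mem _ fun n => ?_
      obtain ⟨k, hk, hkn⟩ := hcon n n.2
      obtain ⟨a, ha, c, hcK, hcz, hkac⟩ := hdec k⁻¹ (inv_mem hk)
      refine ⟨⟨a⁻¹, inv_mem ha⟩, mem_subgroupOf.2 (mem_centralizer_singleton_iff.2 ?_)⟩
      show a⁻¹ * n * a⁻¹⁻¹ * z = z * (a⁻¹ * n * a⁻¹⁻¹)
      have e : a⁻¹ * (n : G) * a⁻¹⁻¹ = c * (k * n * k⁻¹) * c⁻¹ := by
        have hk2 : k = c⁻¹ * a⁻¹ := by rw [← inv_inv k, hkac, mul_inv_rev]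
        rw [hk2]; group
      rw [e]
      have hcc : Commute z c := hcz.symm
      exact ((hcc.mul_right (Commute.symm hkn)).mul_right hcc.inv_right).symm
    apply hne
    intro k hk
    obtain ⟨a, ha, c, hcK, hcz, rfl⟩ := hdec k hk
    refine mul_mem (subgroupOf_eq_top.1 htop ha) (mem_centralizer_singleton_iff.2 hcz)
  exact ⟨u, hNK huN, fun k hk => mem_centralizer_singleton_iff.1 (hNw (hNconj k hk u huN)), hu⟩

/-- Both of the abelian kind. -/
theorem both {p q : ℕ} (hp : p.Prime) (hq : q.Prime) (hpq : p ≠ q) (hA : Ab p G) (hB : Ab q G)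
    (hp' : ∃ x : G, p ∣ (centralizer ({x} : Set G)).index)
    (hq' : ∃ x : G, q ∣ (centralizer ({x} : Set G)).index) :
    (∃ x : G, p * q ∣ (centralizer ({x} : Set G)).index) ∨ ∃ r : ℕ, r.Prime ∧ r ≠ p ∧ r ≠ q ∧
      (∃ x : G, p * r ∣ (centralizer ({x} : Set G)).index) ∧
      (∃ y : G, r * q ∣ (centralizer ({y} : Set G)).index) := by
  have : Fact p.Prime := ⟨hp⟩
  have : Fact q.Prime := ⟨hq⟩
  by_contra hcon
  push Not at hcon
  obtain ⟨hnpq, hnr⟩ := hcon
  set K := commutator G with hK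
  have hpK : ¬ p ∣ Nat.card K := not_dvd_card_commutator hA
  have hqK : ¬ q ∣ Nat.card K := not_dvd_card_commutator hB
  let Q : Sylow q G := default
  set CQ : Subgroup G := centralizer ((Q : Subgroup G) : Set G) with hCQ
  have hidx : ¬ p ∣ CQ.index := by
    intro hd
    apply hpK
    have h1 : K.relIndex CQ = K.index := by
      have h2 := relIndex_sup_right CQ K
      rw [sup_centralizer_eq_top hB Q, relIndex_top_right] at h2
      exact h2.symm
    have h3 := relIndex_mul_index (inf_le_right : CQ ⊓ K ≤ K)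
    have h4 := relIndex_mul_index (inf_le_left : CQ ⊓ K ≤ CQ)
    rw [inf_relIndex_right] at h3
    rw [inf_relIndex_left, h1] at h4
    have h5 : CQ.index = CQ.relIndex K := by
      refine Nat.eq_of_mul_eq_mul_left (Nat.pos_of_ne_zero K.index_ne_zero_of_finite) ?_
      rw [h4, ← h3, mul_comm]
    exact (h5 ▸ hd : p ∣ CQ.relIndex K).trans (relIndex_dvd_card _ K)
  obtain ⟨P₀⟩ : Nonempty (Sylow p CQ) := inferInstance
  have hPp : IsPGroup p ((P₀ : Subgroup CQ).map CQ.subtype) := P₀.isPGroup'.map _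
  have hPi : ¬ p ∣ ((P₀ : Subgroup CQ).map CQ.subtype).index := by
    rw [index_map_subtype]
    exact hp.not_dvd_mul P₀.not_dvd_index hidx
  let P : Sylow p G := hPp.toSylow hPi
  have hcomm : ∀ x ∈ (P : Subgroup G), ∀ y ∈ (Q : Subgroup G), x * y = y * x := by
    intro x hx y hy
    have hx' : x ∈ (P₀ : Subgroup CQ).map CQ.subtype := hx
    obtain ⟨w, -, hw⟩ := hx'
    rw [← hw]
    exact (mem_centralizer_iff.1 w.2 y hy).symm
  -- an element of `P` (resp. `Q`) moving `K`
  have hexists : ∀ (r : ℕ) [Fact r.Prime] (R : Sylow r G), Ab r G →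
      (∃ x : G, r ∣ (centralizer ({x} : Set G)).index) →
      ∃ x ∈ (R : Subgroup G), ¬ K ≤ centralizer ({x} : Set G) := by
    intro r _ R hr hr'
    by_contra hne
    push Not at hne
    obtain ⟨g, hg, hgr⟩ := exists_good hr hr'
    exact R.not_dvd_index (hgr.trans (index_dvd_of_le fun x hx => mem_centralizer_singleton_iff.2
      (mem_centralizer_singleton_iff.1 (hne x hx hg)).symm))
  obtain ⟨x, hxP, hxK⟩ := hexists p P hA hp'
  obtain ⟨y, hyQ, hyK⟩ := hexists q Q hB hq'
  have hxy : x * y = y * x := hcomm x hxP y hyQ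
  -- no element of `K` has class size divisible by `p` and by `q`
  have hdis : ∀ g : G, p ∣ (centralizer ({g} : Set G)).index →
      ¬ q ∣ (centralizer ({g} : Set G)).index :=
    fun g h1 h2 => hnpq g (((Nat.coprime_primes hp hq).2 hpq).mul_dvd_of_dvd_of_dvd h1 h2)
  have hadj : ∀ (a b : ℕ) [Fact a.Prime] [Fact b.Prime] (R : Sylow b G) (z : G),
      z ∈ (R : Subgroup G) → Ab a G → Ab b G →
      (∃ g : G, a ∣ (centralizer ({g} : Set G)).index) →
      (∀ g : G, a ∣ (centralizer ({g} : Set G)).index → ¬ b ∣ (centralizer ({g} : Set G)).index) →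
      ∀ r : ℕ, r.Prime → r ∣ (centralizer ({z} : Set G)).relIndex K →
        ∃ g : G, a * r ∣ (centralizer ({g} : Set G)).index := by
    intro a b _ _ R z hz ha hb ha' hd r hr hrd
    obtain ⟨g, hg, hga⟩ := exists_good ha ha'
    obtain ⟨k, hk, hkg⟩ := exists_conj_mem hb R (hd g hga)
    have hg'K : k * g * k⁻¹ ∈ K := mul_mem (mul_mem hk hg) (inv_mem hk)
    have hra : r ≠ a := fun h =>
      not_dvd_card_commutator ha (h ▸ hrd.trans (relIndex_dvd_card _ K))
    have hco : (orderOf z).Coprime (orderOf (k * g * k⁻¹)) := by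
      obtain ⟨m, hm⟩ := R.isPGroup' ⟨z, hz⟩
      have hzo : orderOf z ∣ b ^ m := by
        refine orderOf_dvd_of_pow_eq_one ?_
        simpa using congrArg Subtype.val hm
      have hgo : orderOf (k * g * k⁻¹) ∣ Nat.card K := by
        have := orderOf_dvd_natCard (⟨_, hg'K⟩ : K)
        rwa [orderOf_mk] at this
      exact Nat.Coprime.of_dvd hzo hgo
        (Nat.Coprime.pow_left m ((Nat.Prime.coprime_iff_not_dvd Fact.out).2 (not_dvd_card_commutator hb)))
    obtain ⟨h1, h2⟩ := index_dvd_index_mul (mem_centralizer_iff.1 hkg z hz) hco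
    rw [index_centralizer_conj] at h2
    exact ⟨z * (k * g * k⁻¹), ((Nat.coprime_primes Fact.out hr).2 hra.symm).mul_dvd_of_dvd_of_dvd
      (hga.trans h2) ((hrd.trans (relIndex_dvd_index _ K)).trans h1)⟩
  set Dx : Subgroup K := (centralizer ({x} : Set G)).subgroupOf K with hDx
  set Dy : Subgroup K := (centralizer ({y} : Set G)).subgroupOf K with hDy
  have hcop : Dx.index.Coprime Dy.index := by
    rw [Nat.coprime_iff_gcd_eq_one]
    by_contra hne
    obtain ⟨r, hr, hrd⟩ := Nat.exists_prime_and_dvd hne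
    have hrx : r ∣ (centralizer ({x} : Set G)).relIndex K := hrd.trans (Nat.gcd_dvd_left _ _)
    have hry : r ∣ (centralizer ({y} : Set G)).relIndex K := hrd.trans (Nat.gcd_dvd_right _ _)
    have hrK := hrx.trans (relIndex_dvd_card _ K)
    obtain ⟨g, hg⟩ := hadj p q Q y hyQ hA hB hp' hdis r hr hry
    obtain ⟨g', hg'⟩ := hadj q p P x hxP hB hA hq' (fun g h1 h2 => hdis g h2 h1) r hr hrx
    exact hnr r hr (fun h => hpK (h ▸ hrK)) (fun h => hqK (h ▸ hrK)) ⟨g, hg⟩ g'
      (by rwa [mul_comm] at hg')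
  have hcx : ∀ k : K, k ∈ Dx ↔ (k : G) * x = x * k := fun k => by
    rw [hDx, mem_subgroupOf, mem_centralizer_singleton_iff]
  have hcy : ∀ k : K, k ∈ Dy ↔ (k : G) * y = y * k := fun k => by
    rw [hDy, mem_subgroupOf, mem_centralizer_singleton_iff]
  obtain ⟨u, huK, huC, hu⟩ := moved (r := p) (K := K) hpK (z := x) (w := y)
    (by obtain ⟨m, hm⟩ := P.isPGroup' ⟨x, hxP⟩; exact ⟨m, by simpa using congrArg Subtype.val hm⟩)
    hxy hxK
    (fun k => by
      obtain ⟨d, hd, e, he, hk⟩ := Agent.Solv.exists_mul_of_coprime_index hcop k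
      exact ⟨d, (hcy d).1 hd, e, (hcx e).1 he, congrArg Subtype.val hk⟩)
  obtain ⟨v, hvK, hvC, hv⟩ := moved (r := q) (K := K) hqK (z := y) (w := x)
    (by obtain ⟨m, hm⟩ := Q.isPGroup' ⟨y, hyQ⟩; exact ⟨m, by simpa using congrArg Subtype.val hm⟩)
    hxy.symm hyK
    (fun k => by
      obtain ⟨d, hd, e, he, hk⟩ := Agent.Solv.exists_mul_of_coprime_index hcop.symm k
      exact ⟨d, (hcx d).1 hd, e, (hcy e).1 he, congrArg Subtype.val hk⟩)
  -- `u * v` has class size divisible by both primes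
  have huv : u * v ∈ K := mul_mem huK hvK
  refine hdis (u * v) ?_ ?_
  · by_contra hn
    obtain ⟨k, hk, hkc⟩ := exists_conj_mem hA P hn
    have h1 : Commute x (k * (u * v) * k⁻¹) := mem_centralizer_iff.1 hkc x hxP
    have h2 : Commute x (k * v * k⁻¹) := (hvC k hk).symm
    have h3 := h1.mul_right h2.inv_right
    rw [show k * (u * v) * k⁻¹ * (k * v * k⁻¹)⁻¹ = k * u * k⁻¹ by group] at h3
    exact hu k hk h3.symm
  · by_contra hn
    obtain ⟨k, hk, hkc⟩ := exists_conj_mem hB Q hn
    have h1 : Commute y (k * (u * v) * k⁻¹) := mem_centralizer_iff.1 hkc y hyQ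
    have h2 : Commute y (k * u * k⁻¹) := (huC k hk).symm
    have h3 := h2.inv_right.mul_right h1
    rw [show (k * u * k⁻¹)⁻¹ * (k * (u * v) * k⁻¹) = k * v * k⁻¹ by group] at h3
    exact hv k hk h3.symm

/-- Let G be a finite non-solvable group and p ≠ q primes each dividing the size of some conjugacy class of G. Then either some class size is divisible by pq, or there is a prime r, different from p and q, such that some class size is divisible by pr and some class size is divisible by rq. -/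
theorem result {G : Type*} [Group G] [Finite G] (hG : ¬ Group.IsSolvable G)
    (p q : ℕ) (hp : p.Prime) (hq : q.Prime) (hpq : p ≠ q) (hp' : ∃ x : G, p ∣ (Subgroup.centralizer ({x} : Set G)).index) (hq' : ∃ x : G, q ∣ (Subgroup.centralizer ({x} : Set G)).index) :
    (∃ x : G, p * q ∣ (Subgroup.centralizer ({x} : Set G)).index) ∨ ∃ r : ℕ, r.Prime ∧ r ≠ p ∧ r ≠ q ∧ (∃ x : G, p * r ∣ (Subgroup.centralizer ({x} : Set G)).index) ∧ (∃ y : G, r * q ∣ (Subgroup.centralizer ({y} : Set G)).index) := by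
  by_cases hA : Ab p G
  · by_cases hB : Ab q G
    · exact both hp hq hpq hA hB hp' hq'
    · rcases mixed hG hq hp hB hA hp' with ⟨x, hx⟩ | ⟨r, hr, hrq, hrp, ⟨x, hx⟩, y, hy⟩
      · exact Or.inl ⟨x, by rwa [mul_comm]⟩
      · exact Or.inr ⟨r, hr, hrp, hrq, ⟨y, by rwa [mul_comm]⟩, x, by rwa [mul_comm]⟩
  · by_cases hB : Ab q G
    · exact mixed hG hp hq hA hB hq'
    · exact Or.inl (adj_of_not_ab hp hq hpq hA hB)

end Cfsg.Agent.S4161
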