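import Cfsg.Statements.S4163
import Mathlib

set_option autoImplicit false
set_option linter.style.haveILetI false
open Cfsg
open scoped commutatorElement

namespace Cfsg.Agent.S4163

universe u

variable {G : Type u} [Group G] [Finite G]

theorem conj_comm (A : Subgroup G) [A.Normal] (hA : IsMulCommutative A) {a b : G} (ha : a ∈ A) (hb : b ∈ A) :
    a * b = b * a := congrArg Subtype.val (hA.is_comm.comm ⟨a, ha⟩ ⟨b, hb⟩)

/-- A commutator of an abelian normal subgroup with an element of small class is central. -/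
theorem comm_central (A : Subgroup G) [A.Normal] (hA : IsMulCommutative A) (m : ℕ)
    (hmin : ∀ x : G, 1 < (Subgroup.centralizer ({x} : Set G)).index → m ≤ (Subgroup.centralizer ({x} : Set G)).index)
    (x : G) (hx : (Subgroup.centralizer ({x} : Set G)).index ≤ m) (a : G) (ha : a ∈ A) :
    a⁻¹ * (x * a * x⁻¹) ∈ Subgroup.center G := by
  classical
  set c := a⁻¹ * (x * a * x⁻¹) with hc
  by_cases hc1 : c = 1
  · rw [hc1]; exact Subgroup.one_mem _
  by_contra hnc
  have hxA : ∀ {b : G}, b ∈ A → x * b * x⁻¹ ∈ A := fun hb => (inferInstance : A.Normal).conj_mem _ hb x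
  -- the image of the commutator map
  let T := {t : G // ∃ b ∈ A, t = b⁻¹ * (x * b * x⁻¹)}
  let Cx := Subgroup.centralizer ({x} : Set G)
  set D := A ⊔ Cx with hD
  have hTA : ∀ t : T, (t : G) ∈ A := fun ⟨t, b, hb, e⟩ => e ▸ A.mul_mem (A.inv_mem hb) (hxA hb)
  have hcA : c ∈ A := hTA ⟨c, a, ha, rfl⟩
  -- it is invariant
  have hinv : ∀ d ∈ D, ∀ t : T, ∃ b ∈ A, d * (t : G) * d⁻¹ = b⁻¹ * (x * b * x⁻¹) := by
    intro d hd
    rw [hD, ← SetLike.mem_coe, Subgroup.normal_mul, Set.mem_mul] at hd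
    obtain ⟨e, he, y, hy, rfl⟩ := hd
    intro ⟨t, b, hb, ht⟩
    have hyb : y * b * y⁻¹ ∈ A := (inferInstance : A.Normal).conj_mem _ hb y
    refine ⟨y * b * y⁻¹, hyb, ?_⟩
    have hxy : x * y = y * x := Subgroup.mem_centralizer_iff.1 hy x rfl
    have h1 : y * t * y⁻¹ = (y * b * y⁻¹)⁻¹ * (x * (y * b * y⁻¹) * x⁻¹) := by
      calc y * t * y⁻¹ = (y * b * y⁻¹)⁻¹ * ((y * x) * b * (y * x)⁻¹) := by rw [ht]; group
        _ = (y * b * y⁻¹)⁻¹ * ((x * y) * b * (x * y)⁻¹) := by rw [hxy]
        _ = _ := by group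
    have h2 : y * t * y⁻¹ ∈ A := h1 ▸ A.mul_mem (A.inv_mem hyb) (hxA hyb)
    show e * y * t * (e * y)⁻¹ = _
    rw [show e * y * t * (e * y)⁻¹ = e * (y * t * y⁻¹) * e⁻¹ by group, conj_comm A hA he h2, mul_inv_cancel_right, h1]
  -- orbit of c
  set K := (Subgroup.centralizer ({c} : Set G)).subgroupOf D with hK
  let f : D ⧸ K → {t : T // (t : G) ≠ 1} := fun q =>
    ⟨⟨(Quotient.out q : D) * c * ((Quotient.out q : D) : G)⁻¹, hinv _ (Quotient.out q).2 ⟨c, a, ha, rfl⟩⟩, fun h => hc1 (conj_eq_one_iff.1 h)⟩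
  have hf : Function.Injective f := by
    intro q q' h
    have h' : ((Quotient.out q : D) : G) * c * ((Quotient.out q : D) : G)⁻¹ =
        ((Quotient.out q' : D) : G) * c * ((Quotient.out q' : D) : G)⁻¹ :=
      congrArg (fun z : {t : T // (t : G) ≠ 1} => ((z.1 : T) : G)) h
    rw [← Quotient.out_eq q, ← Quotient.out_eq q']
    refine QuotientGroup.eq.2 (Subgroup.mem_subgroupOf.2 (Subgroup.mem_centralizer_iff.2 ?_))
    intro z hz
    rw [Set.mem_singleton_iff] at hz
    subst hz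
    simp only [Subgroup.coe_mul, Subgroup.coe_inv]
    have h2 := congrArg (fun z => ((Quotient.out q : D) : G)⁻¹ * z * ((Quotient.out q' : D) : G)) h'
    simp only [mul_assoc, inv_mul_cancel, mul_one, inv_mul_cancel_left] at h2
    rw [h2]
    group
  have h1 : Nat.card (D ⧸ K) + 1 ≤ Nat.card T := by
    have := Nat.card_le_card_of_injective f hf
    have h2 : Nat.card {t : T // (t : G) ≠ 1} < Nat.card T := by
      refine Finite.card_subtype_lt (x := (⟨1, 1, A.one_mem, by group⟩ : T)) ?_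
      simp
    omega
  -- size of T
  have hT : Nat.card T ≤ Cx.relIndex A := by
    let g : A ⧸ Cx.subgroupOf A → T := fun q =>
      ⟨((Quotient.out q : A) : G)⁻¹ * (x * (Quotient.out q : A) * x⁻¹), _, (Quotient.out q).2, rfl⟩
    refine Nat.card_le_card_of_surjective g fun ⟨t, b, hb, ht⟩ => ⟨((⟨b, hb⟩ : A) : A ⧸ Cx.subgroupOf A), Subtype.ext ?_⟩
    obtain ⟨k, hk⟩ := QuotientGroup.mk_out_eq_mul (Cx.subgroupOf A) (⟨b, hb⟩ : A)
    show ((Quotient.out ((⟨b, hb⟩ : A) : A ⧸ Cx.subgroupOf A) : A) : G)⁻¹ *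
      (x * (Quotient.out ((⟨b, hb⟩ : A) : A ⧸ Cx.subgroupOf A) : A) * x⁻¹) = t
    rw [hk, ht]
    simp only [Subgroup.coe_mul]
    have hkA : ((k : A) : G) ∈ A := (k : A).2
    have hkx : x * ((k : A) : G) = ((k : A) : G) * x := Subgroup.mem_centralizer_iff.1 (Subgroup.mem_subgroupOf.1 k.2) x rfl
    calc (b * ((k : A) : G))⁻¹ * (x * (b * ((k : A) : G)) * x⁻¹)
        = ((k : A) : G)⁻¹ * (b⁻¹ * (x * b * x⁻¹)) * ((x * ((k : A) : G)) * x⁻¹) := by group
      _ = ((k : A) : G)⁻¹ * (b⁻¹ * (x * b * x⁻¹)) * ((k : A) : G) := by rw [hkx, mul_inv_cancel_right]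
      _ = b⁻¹ * (x * b * x⁻¹) := by
        rw [← conj_comm A hA (A.mul_mem (A.inv_mem hb) (hxA hb)) (A.inv_mem hkA), inv_mul_cancel_right]
  have hAD : A ≤ D := le_sup_left
  have hCD : Cx ≤ D := le_sup_right
  have h3 : Cx.relIndex A ≤ Cx.relIndex D := Subgroup.relIndex_le_of_le_right hAD Subgroup.index_ne_zero_of_finite
  have h4 : Cx.relIndex D * D.index = Cx.index := Subgroup.relIndex_mul_index hCD
  have h5 : (Subgroup.centralizer ({c} : Set G)).index ≤ (Subgroup.centralizer ({c} : Set G)).relIndex D * D.index := by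
    rw [← Subgroup.inf_relIndex_right, Subgroup.relIndex_mul_index (inf_le_right : _ ⊓ D ≤ D)]
    exact Nat.le_of_dvd (Nat.pos_of_ne_zero Subgroup.index_ne_zero_of_finite) (Subgroup.index_dvd_of_le inf_le_left)
  have h6 : (Subgroup.centralizer ({c} : Set G)).relIndex D = Nat.card (D ⧸ K) := rfl
  have hlt : (Subgroup.centralizer ({c} : Set G)).index < m := by
    refine lt_of_le_of_lt h5 (lt_of_lt_of_le ?_ hx)
    rw [h6, ← h4]
    exact Nat.mul_lt_mul_of_pos_right (by omega) (Nat.pos_of_ne_zero Subgroup.index_ne_zero_of_finite)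
  have h7 : 1 < (Subgroup.centralizer ({c} : Set G)).index := by
    refine lt_of_le_of_ne (Nat.pos_of_ne_zero Subgroup.index_ne_zero_of_finite) fun h => hnc ?_
    refine Subgroup.mem_center_iff.2 fun g => ?_
    have hg : g ∈ Subgroup.centralizer ({c} : Set G) := by rw [Subgroup.index_eq_one.1 h.symm]; trivial
    exact (Subgroup.mem_centralizer_iff.1 hg c rfl).symm
  exact absurd (hmin c h7) (not_le.2 hlt)

/-- Let G be a finite group with a normal abelian subgroup A satisfying C_G(A) = A. Suppose some conjugacy class of G has size greater than 1, let m be the smallest such size, and let M be the subgroup generated by the elements whose class has size 1 or m. Then M is nilpotent of class at most 3. -/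
theorem result {G : Type*} [Group G] [Finite G]
    (A : Subgroup G) [A.Normal] (hA : IsMulCommutative A) (hCA : Subgroup.centralizer (A : Set G) = A)
    (m : ℕ) (hm1 : 1 < m) (hm : ∃ x : G, (Subgroup.centralizer ({x} : Set G)).index = m) (hmin : ∀ x : G, 1 < (Subgroup.centralizer ({x} : Set G)).index → m ≤ (Subgroup.centralizer ({x} : Set G)).index) :
    Subgroup.upperCentralSeries ↥(Subgroup.closure {x : G | (Subgroup.centralizer ({x} : Set G)).index = 1 ∨ (Subgroup.centralizer ({x} : Set G)).index = m}) 3 = ⊤ := by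
  set s := {x : G | (Subgroup.centralizer ({x} : Set G)).index = 1 ∨ (Subgroup.centralizer ({x} : Set G)).index = m}
  set M := Subgroup.closure s
  -- elements acting on A as central shifts
  let K : Subgroup G :=
    { carrier := {x | ∀ a ∈ A, a⁻¹ * (x * a * x⁻¹) ∈ Subgroup.center G}
      one_mem' := fun a _ => by simp
      mul_mem' := fun {x y} hx hy a ha => by
        have h1 := hy a ha
        have h2 := hx a ha
        have e : a⁻¹ * (x * y * a * (x * y)⁻¹) =
            a⁻¹ * (x * a * x⁻¹) * (x * (a⁻¹ * (y * a * y⁻¹)) * x⁻¹) := by group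
        rw [e, Subgroup.mem_center_iff.1 h1 x, mul_inv_cancel_right]
        exact Subgroup.mul_mem _ h2 h1
      inv_mem' := fun {x} hx a ha => by
        have h1 := hx (x⁻¹ * a * x) (by simpa using (inferInstance : A.Normal).conj_mem a ha x⁻¹)
        have e : a⁻¹ * (x⁻¹ * a * x⁻¹⁻¹) = ((x⁻¹ * a * x)⁻¹ * (x * (x⁻¹ * a * x) * x⁻¹))⁻¹ := by group
        rw [e]
        exact Subgroup.inv_mem _ h1 }
  have hMK : M ≤ K := by
    refine (Subgroup.closure_le K).2 fun x hx a ha => comm_central A hA m hmin x ?_ a ha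
    rcases hx with hx | hx
    · rw [hx]; exact hm1.le
    · exact hx.le
  have hMMA : ∀ x ∈ M, ∀ y ∈ M, x * y * x⁻¹ * y⁻¹ ∈ A := by
    intro x hx y hy
    have hmem : x * y * x⁻¹ * y⁻¹ ∈ Subgroup.centralizer (A : Set G) := by
      refine Subgroup.mem_centralizer_iff.2 fun a ha => ?_
      have ha' : x⁻¹ * (y⁻¹ * a * y) * x ∈ A := by
        have := (inferInstance : A.Normal).conj_mem _ ((inferInstance : A.Normal).conj_mem a ha y⁻¹) x⁻¹
        simpa using this
      have h13 : x * (y * (x⁻¹ * (y⁻¹ * a * y) * x) * y⁻¹) * x⁻¹ = y * (x * (x⁻¹ * (y⁻¹ * a * y) * x) * x⁻¹) * y⁻¹ := by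
        have k1' := hMK hy _ ha'
        have k2' := hMK hx _ ha'
        generalize x⁻¹ * (y⁻¹ * a * y) * x = b at k1' k2' ⊢
        calc x * (y * b * y⁻¹) * x⁻¹ = (x * b * x⁻¹) * (x * (b⁻¹ * (y * b * y⁻¹)) * x⁻¹) := by group
          _ = (x * b * x⁻¹) * (b⁻¹ * (y * b * y⁻¹)) := by rw [Subgroup.mem_center_iff.1 k1' x, mul_inv_cancel_right]
          _ = b * ((b⁻¹ * (x * b * x⁻¹)) * (b⁻¹ * (y * b * y⁻¹))) := by group
          _ = b * ((b⁻¹ * (y * b * y⁻¹)) * (b⁻¹ * (x * b * x⁻¹))) := by rw [Subgroup.mem_center_iff.1 k1' _]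
          _ = (y * b * y⁻¹) * (b⁻¹ * (x * b * x⁻¹)) := by group
          _ = (y * b * y⁻¹) * (y * (b⁻¹ * (x * b * x⁻¹)) * y⁻¹) := by
              rw [Subgroup.mem_center_iff.1 k2' y, mul_inv_cancel_right]
          _ = y * (x * b * x⁻¹) * y⁻¹ := by group
      have e : (x * y * x⁻¹ * y⁻¹) * a * (x * y * x⁻¹ * y⁻¹)⁻¹ = a := by
        calc _ = x * (y * (x⁻¹ * (y⁻¹ * a * y) * x) * y⁻¹) * x⁻¹ := by group
          _ = _ := h13
          _ = a := by group
      exact (mul_inv_eq_iff_eq_mul.1 e).symm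
    rwa [hCA] at hmem
  refine eq_top_iff.2 fun x _ => ?_
  rw [Subgroup.mem_upperCentralSeries_succ_iff]
  intro y
  rw [Subgroup.mem_upperCentralSeries_succ_iff]
  intro z
  rw [Subgroup.upperCentralSeries_one, Subgroup.mem_center_iff]
  intro w
  apply Subtype.ext
  have h1 : ((⁅⁅x, y⁆, z⁆ : M) : G) ∈ Subgroup.center G := by
    have ha := hMMA x x.2 y y.2
    have hk := hMK z.2 _ (A.inv_mem ha)
    simp only [commutatorElement_def, Subgroup.coe_mul, Subgroup.coe_inv]
    generalize (x : G) * y * (x : G)⁻¹ * (y : G)⁻¹ = b at hk ⊢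
    simpa [mul_assoc] using hk
  exact Subgroup.mem_center_iff.1 h1 w

end Cfsg.Agent.S4163
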