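import Cfsg.Statements.S4168


set_option autoImplicit false
open Cfsg

namespace Cfsg.Agent.S4168

/-- Let L be a finite quasisimple group (perfect with L/Z(L) simple). Then every prime dividing the order of the centre Z(L) also divides the order of L/Z(L). -/
theorem result {L : Type*} [Group L] [Finite L] (hL : Cfsg.IsQuasisimple L)
    (p : ℕ) (hp : p.Prime) (hdiv : p ∣ Nat.card (Subgroup.center L)) : p ∣ (Subgroup.center L).index := by
  haveI : Group.IsPerfect L := hL.1
  obtain ⟨z, hz⟩ := @exists_prime_orderOf_dvd_card' (Subgroup.center L) _ _ p ⟨hp⟩ hdiv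
  let f := MonoidHom.transferCenterPow L
  have h1 : f.ker = ⊤ := by
    letI : CommGroup (Subgroup.center L) :=
      { (inferInstance : Group (Subgroup.center L)) with
        mul_comm := fun a b => Subtype.ext (Subgroup.mem_center_iff.1 b.2 a) }
    rw [eq_top_iff, ← Group.IsPerfect.commutator_eq_top (G := L)]
    exact Abelianization.commutator_subset_ker f
  have h2 : f (z : L) = 1 := MonoidHom.mem_ker.1 (h1 ▸ Subgroup.mem_top _)
  have h3 : z ^ (Subgroup.center L).index = 1 :=
    Subtype.ext (congrArg (fun w : Subgroup.center L => (w : L)) h2)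
  exact hz ▸ orderOf_dvd_of_pow_eq_one h3

end Cfsg.Agent.S4168
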