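import Cfsg.Statements.S4169
import Cfsg.Agent.S4163
import Cfsg.Agent.S0015

set_option autoImplicit false
set_option linter.style.haveILetI false
open Cfsg
open scoped commutatorElement

namespace Cfsg.Agent.S4169

/-- Let P be a finite p-group whose conjugacy classes have exactly two sizes (1 and one other value). Then P has nilpotency class at most 3. -/
theorem result {P : Type*} [Group P] [Finite P] {p : ℕ} [Fact p.Prime] (hP : IsPGroup p P)
    (m : ℕ) (hm : 1 < m) (h : ∀ x : P, (Subgroup.centralizer ({x} : Set P)).index = 1 ∨ (Subgroup.centralizer ({x} : Set P)).index = m) :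
    upperCentralSeries P 3 = ⊤ := by
  haveI : Group.IsNilpotent P := hP.isNilpotent
  show Subgroup.upperCentralSeries P 3 = ⊤
  refine eq_top_iff.2 fun x _ => ?_
  rw [Subgroup.mem_upperCentralSeries_succ_iff]
  intro y
  rw [Subgroup.mem_upperCentralSeries_succ_iff]
  intro z
  rw [Subgroup.upperCentralSeries_one, Subgroup.mem_center_iff]
  intro w
  by_cases hex : ∃ g : P, (Subgroup.centralizer ({g} : Set P)).index = m
  swap
  · have hg : (Subgroup.centralizer ({⁅⁅x, y⁆, z⁆} : Set P)).index = 1 :=
      (h _).resolve_right fun h' => hex ⟨_, h'⟩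
    have hw : w ∈ Subgroup.centralizer ({⁅⁅x, y⁆, z⁆} : Set P) := by rw [Subgroup.index_eq_one.1 hg]; trivial
    exact (Subgroup.mem_centralizer_iff.1 hw _ rfl).symm
  obtain ⟨A, -, hA⟩ := Finite.exists_le_maximal (p := fun A : Subgroup P => A.Normal ∧ IsMulCommutative A)
    (a := (⊥ : Subgroup P)) ⟨inferInstance, inferInstance⟩
  haveI := hA.1.1
  haveI := hA.1.2
  have hC : Subgroup.centralizer (A : Set P) = A :=
    Cfsg.Agent.S0015.result A fun M hM hMc hle => le_antisymm (hA.2 ⟨hM, hMc⟩ hle) hle
  have h3 := Cfsg.Agent.S4163.result A inferInstance hC m hm hex (fun g hg => by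
    rcases h g with h' | h'
    · omega
    · exact h'.ge)
  set M := Subgroup.closure {g : P | (Subgroup.centralizer ({g} : Set P)).index = 1 ∨ (Subgroup.centralizer ({g} : Set P)).index = m}
  have hmem : ∀ g : P, g ∈ M := fun g => Subgroup.subset_closure (h g)
  have h4 : (⟨x, hmem x⟩ : M) ∈ Subgroup.upperCentralSeries M 3 := by rw [h3]; trivial
  have h5 := (Subgroup.mem_upperCentralSeries_succ_iff.1
    (Subgroup.mem_upperCentralSeries_succ_iff.1 h4 ⟨y, hmem y⟩)) ⟨z, hmem z⟩
  rw [Subgroup.upperCentralSeries_one, Subgroup.mem_center_iff] at h5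
  exact congrArg Subtype.val (h5 ⟨w, hmem w⟩)

end Cfsg.Agent.S4169
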