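import Cfsg.Prelude.Def_Local
import Cfsg.Agent.Lib.Fusion.TransferSplit
import Cfsg.Agent.Lib.Fusion.GFitQuotient
import Cfsg.Agent.Lib.Solv.Component
import Cfsg.Agent.Lib.Solv.PGroupPhi
import Cfsg.Agent.Lib.Solv.Cores
import Cfsg.Agent.Lib.Fusion.LocalBalance
import Cfsg.Agent.Lib.Fusion.PLayerBasics
import Cfsg.Agent.Lib.Fusion.TerminalExists
import Cfsg.Agent.Lib.Local.Basics

/-!
# The generalized Fitting subgroup when the Frattini subgroup of a two-generated Sylow subgroup is core-free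

Every non-trivial normal subgroup meets the Sylow subgroup `P` outside `Φ(P)` (Tate), hence contains `P'`,
as `P` is two-generated.  So there is a unique minimal normal subgroup `M`.  If `M` is abelian, then
`O_p(G)` is elementary abelian and an averaged projection shows that it equals `M`.
-/

set_option autoImplicit false

namespace Cfsg.Agent.S4172

open scoped Classical commutatorElement

variable {G : Type*} [Group G] [Finite G] {p : ℕ} [hp : Fact p.Prime]

/-- The Frattini subgroup of `P`, inside `G`. -/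
def phi (P : Sylow p G) : Subgroup G :=
  (frattini ↥(P : Subgroup G)).map (P : Subgroup G).subtype

theorem normal_pGroup_le (P : Sylow p G) (N : Subgroup G) [hN : N.Normal] (hp' : IsPGroup p N) : N ≤ P := by
  obtain ⟨Q, hQ⟩ := hp'.exists_le_sylow
  obtain ⟨g, rfl⟩ := MulAction.exists_smul_eq G P Q
  intro x hx
  have h1 : g * x * g⁻¹ ∈ ((g • P : Sylow p G) : Subgroup G) := hQ (hN.conj_mem x hx g)
  rw [Sylow.coe_subgroup_smul, Subgroup.mem_pointwise_smul_iff_inv_smul_mem] at h1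
  simpa [MulAut.smul_def, MulAut.conj_symm_apply, mul_assoc] using h1

/-- A normal subgroup whose intersection with `P` lies in `Φ(P)` is trivial. -/
theorem meets (hcore : Cfsg.pPrimeCore p G = ⊥) (P : Sylow p G) (hfrat : (phi P).normalCore = ⊥)
    (N : Subgroup G) [hN : N.Normal] (h : N ⊓ (P : Subgroup G) ≤ phi P) : N = ⊥ := by
  have hh := Cfsg.Agent.Fusion.hnpc_normal_of_frattini N P h
  rw [Cfsg.Agent.Fusion.hnpc_iff] at hh
  haveI : ((Cfsg.pResidual p N).map N.subtype).Normal := ConjAct.normal_of_characteristic_of_normal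
  have h1 : (Cfsg.pResidual p N).map N.subtype ≤ Cfsg.pPrimeCore p G :=
    Solv.normal_le_pPrimeCore (by rwa [Subgroup.card_map_of_injective N.subtype_injective])
  rw [hcore, le_bot_iff, Subgroup.map_eq_bot_iff_of_injective _ N.subtype_injective] at h1
  have hNp : IsPGroup p N := by
    have h2 := Cfsg.Agent.Fusion.isPGroup_quotient_pResidual (G := N) (p := p)
    exact h2.of_injective (QuotientGroup.mk' (Cfsg.pResidual p N)) (by
      rw [← MonoidHom.ker_eq_bot_iff, QuotientGroup.ker_mk', h1])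
  have h3 : N ≤ phi P := le_trans (le_inf le_rfl (normal_pGroup_le P N hNp)) h
  rwa [← Subgroup.normal_le_normalCore, hfrat, le_bot_iff] at h3

/-- `P` is generated by any of its normal subgroups outside `Φ(P)` and one element. -/
theorem exists_gen (P : Sylow p G) (hgen : (frattini ↥(P : Subgroup G)).index = p ^ 2) (J : Subgroup G)
    (hJ : ∀ a ∈ (P : Subgroup G), ∀ x ∈ J, a * x * a⁻¹ ∈ J) (h : ¬ J ⊓ (P : Subgroup G) ≤ phi P) :
    ∃ b : ↥(P : Subgroup G), J.subgroupOf P ⊔ Subgroup.zpowers b = ⊤ := by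
  set X : Subgroup ↥(P : Subgroup G) := J.subgroupOf P
  set F := frattini ↥(P : Subgroup G)
  haveI hXn : X.Normal := ⟨fun x hx a => hJ a a.2 x hx⟩
  have hXF : ¬ X ≤ F := fun hle => h fun x hx => by
    obtain ⟨hxJ, hxP⟩ := Subgroup.mem_inf.1 hx
    exact ⟨⟨x, hxP⟩, hle (show (⟨x, hxP⟩ : ↥(P : Subgroup G)) ∈ X from hxJ), rfl⟩
  by_cases hX : X ⊔ F = ⊤
  · exact ⟨1, by rw [frattini_nongenerating hX, top_sup_eq]⟩
  obtain ⟨b, -, hb⟩ := SetLike.exists_of_lt (lt_top_iff_ne_top.2 hX)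
  refine ⟨b, frattini_nongenerating ?_⟩
  have hi : (X ⊔ F).index = p := by
    have h1 := Subgroup.relIndex_mul_index (le_sup_right : F ≤ X ⊔ F)
    rw [hgen] at h1
    obtain ⟨k, hk2, hk⟩ := (Nat.dvd_prime_pow hp.out).1 (Dvd.intro_left _ h1)
    interval_cases k
    · exact absurd (Subgroup.index_eq_one.1 (by rw [hk, pow_zero])) hX
    · rw [hk, pow_one]
    · exfalso
      rw [hk, Nat.mul_eq_right (by have := hp.out.pos; positivity)] at h1
      exact hXF (le_sup_left.trans (Subgroup.relIndex_eq_one.1 h1))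
  have hlt : X ⊔ F < X ⊔ Subgroup.zpowers b ⊔ F :=
    lt_of_le_of_ne (sup_le_sup_right le_sup_left _) fun e =>
      hb (e.ge (Subgroup.mem_sup_left (Subgroup.mem_sup_right (Subgroup.mem_zpowers b))))
  have h1 := Subgroup.relIndex_mul_index hlt.le
  rw [hi] at h1
  rcases (Nat.dvd_prime hp.out).1 (Dvd.intro _ h1) with h2 | h2
  · exact absurd (Subgroup.relIndex_eq_one.1 h2) hlt.not_ge
  · rw [h2] at h1
    exact Subgroup.index_eq_one.1 ((Nat.mul_eq_left hp.out.ne_zero).1 h1)

/-- A normal subgroup of `P` outside `Φ(P)` contains the derived subgroup. -/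
theorem commutator_mem (P : Sylow p G) (hgen : (frattini ↥(P : Subgroup G)).index = p ^ 2) (J : Subgroup G)
    (hJ : ∀ a ∈ (P : Subgroup G), ∀ x ∈ J, a * x * a⁻¹ ∈ J) (h : ¬ J ⊓ (P : Subgroup G) ≤ phi P) :
    ∀ a ∈ (P : Subgroup G), ∀ c ∈ (P : Subgroup G), ⁅a, c⁆ ∈ J := by
  obtain ⟨b, hb⟩ := exists_gen P hgen J hJ h
  set X : Subgroup ↥(P : Subgroup G) := J.subgroupOf P
  haveI hXn : X.Normal := ⟨fun x hx a => hJ a a.2 x hx⟩
  have hrep : ∀ a : ↥(P : Subgroup G), ∃ k : ℤ, (QuotientGroup.mk a : _ ⧸ X) = QuotientGroup.mk b ^ k := by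
    intro a
    obtain ⟨y, hy, z, hz, rfl⟩ := Subgroup.mem_sup_of_normal_left.1 (hb.ge (Subgroup.mem_top a))
    obtain ⟨k, rfl⟩ := Subgroup.mem_zpowers_iff.1 hz
    exact ⟨k, by rw [QuotientGroup.mk_mul, (QuotientGroup.eq_one_iff y).2 hy, one_mul, QuotientGroup.mk_zpow]⟩
  intro a ha c hc
  obtain ⟨i, hi⟩ := hrep ⟨a, ha⟩
  obtain ⟨j, hj⟩ := hrep ⟨c, hc⟩
  have h1 : (⁅(⟨a, ha⟩ : ↥(P : Subgroup G)), ⟨c, hc⟩⁆) ∈ X := by
    rw [← QuotientGroup.eq_one_iff, ← QuotientGroup.mk'_apply, map_commutatorElement, QuotientGroup.mk'_apply,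
      QuotientGroup.mk'_apply, hi, hj, commutatorElement_eq_one_iff_mul_comm]
    exact ((Commute.refl _).zpow_zpow i j).eq
  exact h1

/-- The averaged projection: a `P`-invariant complement in an abelian normal `p`-subgroup forces a normal one. -/
theorem exists_normal_compl (P : Sylow p G) (R M C : Subgroup G) [hR : R.Normal] [hM : M.Normal]
    (hRab : ∀ a ∈ R, ∀ c ∈ R, a * c = c * a) (hMR : M ≤ R) (hRp : IsPGroup p R)
    (hC : ∀ r ∈ R, ∃ m ∈ M, m⁻¹ * r ∈ C) (hMC : M ⊓ C = ⊥) (hCP : ∀ a ∈ (P : Subgroup G), ∀ c ∈ C, a * c * a⁻¹ = c)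
    (hne : C ≠ ⊥) (hCR : C ≤ R) : ∃ K : Subgroup G, K.Normal ∧ K ≠ ⊥ ∧ K ⊓ M = ⊥ := by
  letI : CommGroup R := { (inferInstance : Group R) with mul_comm := fun x y => Subtype.ext (hRab _ x.2 _ y.2) }
  choose f hfM hfC using fun r : R => hC r r.2
  have huniq : ∀ (r : R) (m : G), m ∈ M → m⁻¹ * (r : G) ∈ C → f r = m := fun r m hm hc => by
    have h1 : (f r)⁻¹ * m ∈ M ⊓ C := Subgroup.mem_inf.2 ⟨mul_mem (inv_mem (hfM r)) hm, by
      simpa [mul_assoc] using mul_mem (hfC r) (inv_mem hc)⟩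
    rw [hMC, Subgroup.mem_bot, inv_mul_eq_one] at h1
    exact h1
  let f' : R →* R := MonoidHom.mk' (fun r => ⟨f r, hMR (hfM r)⟩) fun r s => Subtype.ext (huniq _ _
    (mul_mem (hfM r) (hfM s)) (by
      show (f r * f s)⁻¹ * ((r : G) * s) ∈ C
      have h1 : (f r * f s)⁻¹ * ((r : G) * s) = ((f r)⁻¹ * (r : G)) * ((f s)⁻¹ * (s : G)) := by
        have e : ((⟨f r, hMR (hfM r)⟩ * ⟨f s, hMR (hfM s)⟩)⁻¹ * (r * s) : R)
            = (⟨f r, hMR (hfM r)⟩⁻¹ * r) * (⟨f s, hMR (hfM s)⟩⁻¹ * s) := by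
          rw [mul_inv_rev]; ac_rfl
        exact congrArg Subtype.val e
      rw [h1]
      exact mul_mem (hfC r) (hfC s)))
  let cj : G → R →* R := fun g => MonoidHom.mk' (fun r => ⟨g * r * g⁻¹, hR.conj_mem r r.2 g⟩)
    (fun r s => Subtype.ext (by show g * ((r : G) * s) * g⁻¹ = g * r * g⁻¹ * (g * s * g⁻¹); group))
  have hcj : ∀ g h r, cj g (cj h r) = cj (g * h) r := fun g h r => Subtype.ext (by
    show g * (h * r * h⁻¹) * g⁻¹ = g * h * r * (g * h)⁻¹; group)
  have hequiv : ∀ a ∈ (P : Subgroup G), ∀ r, f' (cj a r) = cj a (f' r) := fun a ha r => Subtype.ext (by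
    refine huniq _ _ (hM.conj_mem _ (hfM r) a) ?_
    show (a * f r * a⁻¹)⁻¹ * (a * r * a⁻¹) ∈ C
    rw [show (a * f r * a⁻¹)⁻¹ * (a * r * a⁻¹) = a * ((f r)⁻¹ * r) * a⁻¹ by group, hCP a ha _ (hfC r)]
    exact hfC r)
  haveI : Fintype (G ⧸ (P : Subgroup G)) := Fintype.ofFinite _
  let T : G → R → R := fun g r => cj g (f' (cj g⁻¹ r))
  have hT : ∀ g g' : G, (QuotientGroup.mk g : G ⧸ (P : Subgroup G)) = QuotientGroup.mk g' → ∀ r, T g r = T g' r := by
    intro g g' h r
    obtain ⟨a, ha, rfl⟩ : ∃ a ∈ (P : Subgroup G), g' = g * a := ⟨g⁻¹ * g', QuotientGroup.eq.1 h, by group⟩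
    show cj g (f' (cj g⁻¹ r)) = cj (g * a) (f' (cj (g * a)⁻¹ r))
    rw [← hcj g a, mul_inv_rev, ← hcj a⁻¹ g⁻¹, hequiv a⁻¹ (inv_mem ha), hcj a a⁻¹, mul_inv_cancel]
    congr 1
    exact Subtype.ext (by show _ = 1 * _ * (1 : G)⁻¹; group)
  let Fh : R →* R := ∏ q : G ⧸ (P : Subgroup G), ((cj (Quotient.out q)).comp f').comp (cj (Quotient.out q)⁻¹)
  have hFa : ∀ r, Fh r = ∏ q : G ⧸ (P : Subgroup G), T (Quotient.out q) r := fun r => by
    simp only [Fh, MonoidHom.finset_prod_apply, MonoidHom.comp_apply, T]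
  have hFeq : ∀ g r, Fh (cj g r) = cj g (Fh r) := by
    intro g r
    rw [hFa, hFa, map_prod]
    rw [← Equiv.prod_comp (MulAction.toPerm g)]
    refine Finset.prod_congr rfl fun q _ => ?_
    have hq : (QuotientGroup.mk (Quotient.out (g • q)) : G ⧸ (P : Subgroup G)) = QuotientGroup.mk (g * Quotient.out q) := by
      rw [QuotientGroup.out_eq']
      conv_lhs => rw [← QuotientGroup.out_eq' q]
      rfl
    rw [MulAction.toPerm_apply, hT _ _ hq]
    show cj (g * Quotient.out q) (f' (cj (g * Quotient.out q)⁻¹ (cj g r))) = _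
    rw [hcj, ← hcj g, mul_inv_rev, inv_mul_cancel_right]
  have hFfix : ∀ r : R, (r : G) ∈ M → Fh r = r ^ Fintype.card (G ⧸ (P : Subgroup G)) := by
    intro r hr
    have hTr : ∀ q : G ⧸ (P : Subgroup G), T (Quotient.out q) r = r := ?_
    · rw [hFa, Finset.prod_congr rfl (fun q _ => hTr q), Finset.prod_const, Finset.card_univ]
    intro q
    refine Subtype.ext ?_
    show Quotient.out q * f (cj (Quotient.out q)⁻¹ r) * (Quotient.out q)⁻¹ = r
    rw [huniq _ _ (show ((cj (Quotient.out q)⁻¹ r : R) : G) ∈ M from hM.conj_mem _ hr _) (by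
      rw [inv_mul_cancel]; exact C.one_mem)]
    show Quotient.out q * ((Quotient.out q)⁻¹ * r * (Quotient.out q)⁻¹⁻¹) * (Quotient.out q)⁻¹ = r
    group
  have hFM : ∀ r, (Fh r : G) ∈ M := fun r => by
    rw [hFa]
    have : (∏ q : G ⧸ (P : Subgroup G), T (Quotient.out q) r) ∈ M.subgroupOf R :=
      Subgroup.prod_mem _ fun q _ => hM.conj_mem _ (hfM _) _
    exact this
  refine ⟨Fh.ker.map R.subtype, ⟨?_⟩, fun hbot => hne ?_, ?_⟩
  · rintro _ ⟨r, hr, rfl⟩ g
    exact ⟨cj g r, MonoidHom.mem_ker.2 (by rw [hFeq, MonoidHom.mem_ker.1 hr, map_one]), rfl⟩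
  · have hinj : Function.Injective Fh :=
      (MonoidHom.ker_eq_bot_iff Fh).1 ((Subgroup.map_eq_bot_iff_of_injective _ R.subtype_injective).1 hbot)
    rw [eq_bot_iff]
    intro c hc
    obtain ⟨y, hy⟩ := (Finite.injective_iff_surjective.1 hinj) ⟨c, hCR hc⟩
    have h1 : c ∈ M ⊓ C := Subgroup.mem_inf.2 ⟨by
      have := hFM y
      rwa [hy] at this, hc⟩
    rwa [hMC] at h1
  · rw [eq_bot_iff]
    rintro x ⟨⟨r, hr, rfl⟩, hx⟩
    have h1 := (hFfix r hx).symm.trans (MonoidHom.mem_ker.1 hr)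
    obtain ⟨k, hk⟩ := hRp r
    have hcop : (p ^ k).Coprime (Fintype.card (G ⧸ (P : Subgroup G))) := by
      refine Nat.Coprime.pow_left _ (hp.out.coprime_iff_not_dvd.2 ?_)
      rw [← Nat.card_eq_fintype_card, ← Subgroup.index_eq_card]
      exact P.not_dvd_index
    have : orderOf r = 1 :=
      Nat.eq_one_of_dvd_coprimes hcop (orderOf_dvd_of_pow_eq_one hk) (orderOf_dvd_of_pow_eq_one h1)
    rw [orderOf_eq_one_iff.1 this]
    exact Subgroup.one_mem _

/-- Central elements of a perfect normal subgroup lying in `P` lie in `Φ(P)`. -/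
theorem central_mem_phi (P : Sylow p G) (E : Subgroup G) [E.Normal] (hE : ⁅E, E⁆ = E) {z : G} (hzE : z ∈ E)
    (hzP : z ∈ (P : Subgroup G)) (hzc : ∀ x ∈ E, x * z = z * x) : z ∈ phi P := by
  haveI : Group.IsPerfect E := Subgroup.isPerfect_iff.2 hE
  set S : Subgroup E := (P : Subgroup G).subgroupOf E
  let θ : S →* Abelianization S := Abelianization.of
  have h1 : MonoidHom.transfer θ ⟨z, hzE⟩ = 1 := by
    have hk : commutator E ≤ (MonoidHom.transfer θ).ker := Abelianization.commutator_subset_ker _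
    rw [Group.IsPerfect.commutator_eq_top] at hk
    exact MonoidHom.mem_ker.1 (hk (Subgroup.mem_top _))
  rw [Cfsg.Agent.Fusion.transfer_central θ (show (⟨z, hzE⟩ : E) ∈ S from hzP)
    (Subgroup.mem_center_iff.2 fun x => Subtype.ext (hzc x x.2))] at h1
  have hndvd : ¬ p ∣ S.index := by
    intro hd
    have : (P : Subgroup G).relIndex E ∣ (P : Subgroup G).index := by
      have e1 := Solv.card_sup_mul_card_inf E (P : Subgroup G)
      have e2 : (P : Subgroup G).relIndex E * Nat.card (E ⊓ (P : Subgroup G) : Subgroup G) = Nat.card E := by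
        rw [inf_comm, ← Subgroup.inf_relIndex_right, ← Subgroup.relIndex_bot_left ((P : Subgroup G) ⊓ E),
          mul_comm, Subgroup.relIndex_mul_relIndex _ _ _ bot_le inf_le_right, Subgroup.relIndex_bot_left]
      have e3 : (P : Subgroup G).relIndex (E ⊔ P) * Nat.card (P : Subgroup G) = Nat.card (E ⊔ (P : Subgroup G) : Subgroup G) := by
        rw [← Subgroup.relIndex_bot_left (P : Subgroup G), mul_comm, Subgroup.relIndex_mul_relIndex _ _ _ bot_le le_sup_right,
          Subgroup.relIndex_bot_left]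
      have e4 : (P : Subgroup G).relIndex E = (P : Subgroup G).relIndex (E ⊔ P) := by
        have h1 := e1
        rw [← e2, ← e3] at h1
        refine (Nat.eq_of_mul_eq_mul_right (Nat.mul_pos (Nat.card_pos (α := (P : Subgroup G)))
          (Nat.card_pos (α := (E ⊓ (P : Subgroup G) : Subgroup G)))) ?_).symm
        calc _ = (P : Subgroup G).relIndex (E ⊔ P) * Nat.card (P : Subgroup G) * Nat.card (E ⊓ (P : Subgroup G) : Subgroup G) := by ring
          _ = _ := h1.trans (by ring)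
      rw [e4]
      exact Subgroup.relIndex_dvd_index_of_le le_sup_right
    exact P.not_dvd_index (hd.trans this)
  have h2 : θ ⟨⟨z, hzE⟩, hzP⟩ = 1 := by
    have hSp : IsPGroup p S := (P.isPGroup'.comap_subtype (K := E))
    obtain ⟨k, hk⟩ := hSp ⟨⟨z, hzE⟩, hzP⟩
    refine orderOf_eq_one_iff.1 (Nat.eq_one_of_dvd_coprimes (Nat.Coprime.pow_left k
      (hp.out.coprime_iff_not_dvd.2 hndvd)) (orderOf_dvd_of_pow_eq_one ?_) (orderOf_dvd_of_pow_eq_one h1))
    rw [← map_pow, hk, map_one]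
  have h3 : (⟨⟨z, hzE⟩, hzP⟩ : S) ∈ commutator S := by
    rw [← Abelianization.ker_of]; exact MonoidHom.mem_ker.2 h2
  let ι : S →* ↥(P : Subgroup G) := MonoidHom.mk' (fun s => ⟨((s : E) : G), s.2⟩) (fun _ _ => rfl)
  have h4 : ι ⟨⟨z, hzE⟩, hzP⟩ ∈ commutator ↥(P : Subgroup G) := by
    have := Subgroup.mem_map_of_mem ι h3
    rw [commutator_def, Subgroup.map_commutator] at this
    exact Subgroup.commutator_mono le_top le_top this
  exact ⟨_, Solv.commutator_le_frattini_pgroup P.isPGroup' h4, rfl⟩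

/-- With trivial `p'`-core, `p` divides the order of every component. -/
theorem p_dvd_component (hcore : Cfsg.pPrimeCore p G = ⊥) {K : Subgroup G} (hK : Cfsg.IsComponent K) :
    p ∣ Nat.card K := by
  obtain ⟨z, hz, j, hj⟩ := Cfsg.Agent.LocBal.exists_pelement_not_central hcore hK
  obtain ⟨i, -, hi⟩ := (Nat.dvd_prime_pow hp.out).1 (orderOf_dvd_of_pow_eq_one hj)
  rcases i with _ | i
  · rw [pow_zero, orderOf_eq_one_iff] at hi
    exact absurd (hi ▸ Subgroup.one_mem _) hz
  · exact dvd_trans (hi ▸ dvd_pow_self p (Nat.succ_ne_zero i)) (orderOf_dvd_natCard z)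

/-- A `P`-invariant subgroup containing a component meets `P` outside `Φ(P)`. -/
theorem meets_invariant (hcore : Cfsg.pPrimeCore p G = ⊥) (P : Sylow p G) (J : Subgroup G)
    (hJ : ∀ a ∈ (P : Subgroup G), ∀ x ∈ J, a * x * a⁻¹ ∈ J) {K : Subgroup G} (hK : Cfsg.IsComponent K) (hKJ : K ≤ J) :
    ¬ J ⊓ (P : Subgroup G) ≤ phi P := by
  intro hle
  set H := Subgroup.normalizer (J : Set G)
  have hPH : (P : Subgroup G) ≤ H := fun a ha => Subgroup.mem_normalizer_iff.2 fun x =>
    ⟨fun hx => hJ a ha x hx, fun hx => by simpa [mul_assoc] using hJ a⁻¹ (inv_mem ha) _ hx⟩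
  have hJH : J ≤ H := Subgroup.le_normalizer
  haveI hJn : (J.subgroupOf H).Normal := (Subgroup.normal_subgroupOf_iff_le_normalizer hJH).2 le_rfl
  let ψ : ↥(P : Subgroup G) ≃* ↥((P.subtype hPH : Sylow p H) : Subgroup H) :=
    (Subgroup.subgroupOfEquivOfLe hPH).symm
  have hh := Cfsg.Agent.Fusion.hnpc_normal_of_frattini (J.subgroupOf H) (P.subtype hPH) fun x hx => by
    obtain ⟨hxJ, hxP⟩ := Subgroup.mem_inf.1 hx
    obtain ⟨y, hy, hyx⟩ := hle (Subgroup.mem_inf.2 ⟨hxJ, hxP⟩ : (x : G) ∈ J ⊓ (P : Subgroup G))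
    exact ⟨ψ y, Subgroup.mem_comap.1 (frattini_le_comap_frattini_of_surjective
      (φ := ψ.toMonoidHom) ψ.surjective hy), Subtype.ext hyx⟩
  let e : ↥((K.subgroupOf H).subgroupOf (J.subgroupOf H)) ≃* K :=
    (Subgroup.subgroupOfEquivOfLe (fun x hx => hKJ hx : K.subgroupOf H ≤ J.subgroupOf H)).trans
      (Subgroup.subgroupOfEquivOfLe (hKJ.trans hJH))
  have h1 := Cfsg.Agent.Fusion.hnpc_subgroup hh ((K.subgroupOf H).subgroupOf (J.subgroupOf H))
  rw [Cfsg.Agent.Fusion.hnpc_iff] at h1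
  haveI := hK.2.1
  haveI : Group.IsPerfect ↥((K.subgroupOf H).subgroupOf (J.subgroupOf H)) :=
    Group.IsPerfect.ofSurjective (f := e.symm.toMonoidHom) e.symm.surjective
  set L := ↥((K.subgroupOf H).subgroupOf (J.subgroupOf H))
  have htop : Cfsg.pResidual p L = ⊤ := by
    by_contra hne
    haveI : Nontrivial (L ⧸ Cfsg.pResidual p L) := QuotientGroup.nontrivial_iff.2 hne
    haveI : Group.IsPerfect (L ⧸ Cfsg.pResidual p L) :=
      Group.IsPerfect.ofSurjective (QuotientGroup.mk'_surjective (Cfsg.pResidual p L))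
    haveI := (Cfsg.Agent.Fusion.isPGroup_quotient_pResidual (G := L) (p := p)).isNilpotent
    exact Group.IsPerfect.not_isSolvable (G := L ⧸ Cfsg.pResidual p L) inferInstance
  rw [htop, Subgroup.card_top, Nat.card_congr e.toEquiv] at h1
  exact hp.out.coprime_iff_not_dvd.1 h1.symm (p_dvd_component hcore hK)

/-- The minimal normal subgroup and its properties. -/
theorem main (P : Sylow p G) (hna : ¬ IsMulCommutative ↥(P : Subgroup G))
    (hgen : (frattini ↥(P : Subgroup G)).index = p ^ 2) (hcore : Cfsg.pPrimeCore p G = ⊥)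
    (hfrat : (phi P).normalCore = ⊥) [hFn : (Cfsg.generalizedFittingSubgroup G).Normal] :
    (Cfsg.generalizedFittingSubgroup G ≠ ⊥ ∧
      ∀ K : Subgroup G, K.Normal → K ≠ ⊥ → Cfsg.generalizedFittingSubgroup G ≤ K) ∧
      IsCyclic ↥((P : Subgroup G).map (QuotientGroup.mk' (Cfsg.generalizedFittingSubgroup G))) ∧
      (¬ IsMulCommutative (Cfsg.generalizedFittingSubgroup G) → ∀ K L : Subgroup G, Cfsg.IsComponent K →
        Cfsg.IsComponent L → ∃ x ∈ (P : Subgroup G), L = K.map (MulAut.conj x).toMonoidHom) := by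
  have hinv : ∀ N : Subgroup G, N.Normal → ∀ a ∈ (P : Subgroup G), ∀ x ∈ N, a * x * a⁻¹ ∈ N :=
    fun N hN a _ x hx => hN.conj_mem x hx a
  have hout : ∀ N : Subgroup G, N.Normal → N ≠ ⊥ → ¬ N ⊓ (P : Subgroup G) ≤ phi P :=
    fun N hN hne h => hne (haveI := hN; meets hcore P hfrat N h)
  -- a non-trivial commutator
  obtain ⟨a0, ha0, c0, hc0, hac⟩ : ∃ a ∈ (P : Subgroup G), ∃ c ∈ (P : Subgroup G), ⁅a, c⁆ ≠ 1 := by
    by_contra hall
    push Not at hall
    exact hna ⟨⟨fun a c => Subtype.ext (commutatorElement_eq_one_iff_mul_comm.1 (hall a a.2 c c.2))⟩⟩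
  have hcom : ∀ N : Subgroup G, N.Normal → N ≠ ⊥ → ⁅a0, c0⁆ ∈ N := fun N hN hne =>
    commutator_mem P hgen N (hinv N hN) (hout N hN hne) a0 ha0 c0 hc0
  set M := Subgroup.normalClosure ({⁅a0, c0⁆} : Set G) with hMdef
  have hMne : M ≠ ⊥ := fun h => hac (by
    have h1 : ⁅a0, c0⁆ ∈ M := Subgroup.subset_normalClosure (Set.mem_singleton _)
    rwa [h] at h1)
  have hmin : ∀ N : Subgroup G, N.Normal → N ≠ ⊥ → M ≤ N := fun N hN hne =>
    haveI := hN
    Subgroup.normalClosure_le_normal (Set.singleton_subset_iff.2 (hcom N hN hne))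
  haveI hMn : M.Normal := Subgroup.normalClosure_normal
  haveI hFitn : (Cfsg.fittingSubgroup G).Normal := Solv.fittingSubgroup_normal
  haveI hEn : (Cfsg.layer G).Normal := Local.layer_normal
  have hFP : IsPGroup p (Cfsg.fittingSubgroup G) := by
    rw [Cfsg.Agent.Fusion.fitting_eq_pCore hcore]; exact Solv.pCore_isPGroup p
  set R := Cfsg.fittingSubgroup G with hRdef
  have hRP : R ≤ (P : Subgroup G) := normal_pGroup_le P R hFP
  -- `R` is elementary abelian
  have hpow : ∀ x ∈ R, x ^ p = 1 := by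
    intro x hx
    have h1 : x ^ p ∈ (phi P).normalCore := fun g => by
      rw [← conj_pow]
      exact ⟨(⟨g * x * g⁻¹, hRP (hFitn.conj_mem x hx g)⟩ : ↥(P : Subgroup G)) ^ p,
        Solv.pow_mem_frattini P.isPGroup' _, rfl⟩
    rwa [hfrat] at h1
  have hRab : ∀ x ∈ R, ∀ y ∈ R, x * y = y * x := by
    intro x hx y hy
    have h1 : ⁅x, y⁆ ∈ (phi P).normalCore := fun g => by
      rw [conjugate_commutatorElement]
      exact ⟨⁅(⟨g * x * g⁻¹, hRP (hFitn.conj_mem x hx g)⟩ : ↥(P : Subgroup G)),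
        ⟨g * y * g⁻¹, hRP (hFitn.conj_mem y hy g)⟩⁆, Solv.commutatorElement_mem_frattini P.isPGroup' _ _, rfl⟩
    rw [hfrat, Subgroup.mem_bot] at h1
    exact commutatorElement_eq_one_iff_mul_comm.1 h1
  -- the generalized Fitting subgroup is `M`
  have hcases : Cfsg.generalizedFittingSubgroup G = M ∧ (¬ IsMulCommutative M → R = ⊥) := by
    by_cases hR : R = ⊥
    · have hgf : Cfsg.generalizedFittingSubgroup G = Cfsg.layer G := by
        rw [Cfsg.generalizedFittingSubgroup, ← hRdef, hR, sup_bot_eq]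
      have hEne : Cfsg.layer G ≠ ⊥ := fun h => by
        have h1 := Solv.centralizer_gfit_le (G := G)
        rw [hgf, h, le_bot_iff, Subgroup.coe_bot] at h1
        have h2 : Subgroup.centralizer ({1} : Set G) = ⊤ := eq_top_iff.2 fun x _ =>
          Subgroup.mem_centralizer_singleton_iff.2 (by simp)
        rw [h2] at h1
        exact hMne (le_bot_iff.1 (h1 ▸ le_top))
      refine ⟨hgf.trans (le_antisymm (sSup_le fun K hK => ?_) (hmin _ hEn hEne)), fun _ => hR⟩
      rcases Solv.component_normal_dichotomy hK M with h | h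
      · exact h
      exfalso
      haveI := Solv.centralizer_normal_of_normal M
      have hKC : K ≤ Subgroup.centralizer (M : Set G) := Subgroup.commutator_eq_bot_iff_le_centralizer.1 h
      have hMC : M ≤ Subgroup.centralizer (M : Set G) :=
        hmin _ inferInstance fun hb => Solv.qs_ne_bot hK.2 (le_bot_iff.1 (hb ▸ hKC))
      haveI : IsMulCommutative M := ⟨⟨fun a c => Subtype.ext
        (Subgroup.mem_centralizer_iff.1 (hMC c.2) a a.2)⟩⟩
      haveI : Group.IsNilpotent M := by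
        open scoped IsMulCommutative in exact inferInstance
      exact hMne (le_bot_iff.1 (hR ▸ Solv.normal_le_fitting inferInstance))
    · have hMR : M ≤ R := hmin R hFitn hR
      have hMab : IsMulCommutative M := ⟨⟨fun a c => Subtype.ext (hRab a (hMR a.2) c (hMR c.2))⟩⟩
      refine ⟨?_, fun h => absurd hMab h⟩
      have hE : Cfsg.layer G = ⊥ := by
        by_contra hEne
        refine hout M hMn hMne fun z hz => ?_
        obtain ⟨hzM, hzP⟩ := Subgroup.mem_inf.1 hz
        refine central_mem_phi P _ Solv.layer_perfect (hmin _ hEn hEne hzM) hzP fun x hx => ?_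
        have h1 : ⁅x, z⁆ ∈ ⁅Cfsg.layer G, Cfsg.fittingSubgroup G⁆ :=
          Subgroup.commutator_mem_commutator hx (hMR hzM)
        rw [Solv.layer_commutator_fitting, Subgroup.mem_bot] at h1
        exact commutatorElement_eq_one_iff_mul_comm.1 h1
      rw [Cfsg.generalizedFittingSubgroup, hE, bot_sup_eq, ← hRdef]
      refine le_antisymm ?_ hMR
      obtain ⟨b, hb⟩ := exists_gen P hgen M (hinv M hMn) (hout M hMn hMne)
      set C : Subgroup G := R ⊓ Subgroup.zpowers (b : G) with hCdef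
      have hdec : ∀ r ∈ R, ∃ m ∈ M, m⁻¹ * r ∈ C := by
        intro r hr
        haveI : (M.subgroupOf (P : Subgroup G)).Normal := ⟨fun x hx a => hMn.conj_mem _ hx a⟩
        obtain ⟨m, hm, z, hz, hmz⟩ := Subgroup.mem_sup_of_normal_left.1
          (hb.ge (Subgroup.mem_top (⟨r, hRP hr⟩ : ↥(P : Subgroup G))))
        have h1 : (m : G) * z = r := congrArg Subtype.val hmz
        refine ⟨m, hm, Subgroup.mem_inf.2 ⟨mul_mem (inv_mem (hMR hm)) hr, ?_⟩⟩
        rw [← h1, inv_mul_cancel_left]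
        obtain ⟨k, rfl⟩ := Subgroup.mem_zpowers_iff.1 hz
        exact ⟨k, rfl⟩
      by_cases hCM : C ≤ M
      · intro r hr
        obtain ⟨m, hm, h1⟩ := hdec r hr
        simpa using mul_mem hm (hCM h1)
      exfalso
      have hMC : M ⊓ C = ⊥ := by
        by_contra hne
        refine hCM ?_
        haveI : IsCyclic C := isCyclic_of_injective (Subgroup.inclusion (inf_le_right : C ≤ Subgroup.zpowers (b : G))) (Subgroup.inclusion_injective _)
        obtain ⟨g, hg⟩ := IsCyclic.exists_generator (α := C)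
        have hg1 : g ^ p = 1 := Subtype.ext (hpow g (Subgroup.mem_inf.1 g.2).1)
        obtain ⟨⟨y, hy⟩, hy1'⟩ := Subgroup.ne_bot_iff_exists_ne_one.1 hne
        have hy1 : y ≠ 1 := fun h => hy1' (Subtype.ext h)
        obtain ⟨hyM, hyC⟩ := Subgroup.mem_inf.1 hy
        obtain ⟨i, hi⟩ := hg ⟨y, hyC⟩
        have hgy : (g : G) ∈ Subgroup.zpowers y := by
          have h2 := Cfsg.Agent.Terminal.mem_zpowers_zpow (z := (g : G)) (p := p) (congrArg Subtype.val hg1) (i := i)
          have h3 : (g : G) ^ i = y := congrArg Subtype.val hi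
          rw [h3] at h2
          exact h2 hy1
        intro c hc
        obtain ⟨j, hj⟩ := hg ⟨c, hc⟩
        rw [← show (g : G) ^ j = c from congrArg Subtype.val hj]
        exact zpow_mem (Subgroup.zpowers_le.2 hyM hgy) j
      obtain ⟨K, hKn, hKne, hKM⟩ := exists_normal_compl P R M C hRab hMR hFP hdec hMC (fun a ha c hc => by
          obtain ⟨hcR, hcb⟩ := Subgroup.mem_inf.1 hc
          haveI : (M.subgroupOf (P : Subgroup G)).Normal := ⟨fun x hx a => hMn.conj_mem _ hx a⟩
          obtain ⟨m, hm, z, hz, hmz⟩ := Subgroup.mem_sup_of_normal_left.1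
            (hb.ge (Subgroup.mem_top (⟨a, ha⟩ : ↥(P : Subgroup G))))
          obtain ⟨k, rfl⟩ := Subgroup.mem_zpowers_iff.1 hz
          have h1 : (m : G) * (b : G) ^ k = a := congrArg Subtype.val hmz
          obtain ⟨j, rfl⟩ := Subgroup.mem_zpowers_iff.1 hcb
          have h2 : Commute a ((b : G) ^ j) := by
            rw [← h1]
            exact Commute.mul_left (hRab _ (hMR hm) _ hcR) ((Commute.refl (b : G)).zpow_zpow k j)
          rw [h2.eq, mul_inv_cancel_right])
        (fun h => hCM (h ▸ bot_le)) inf_le_left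
      exact hMne (le_bot_iff.1 (hKM ▸ le_inf (hmin K hKn hKne) le_rfl))
  obtain ⟨hF, hnab⟩ := hcases
  refine ⟨⟨hF ▸ hMne, fun K hK hne => hF ▸ hmin K hK hne⟩, ?_, fun hncomm K L hK hL => ?_⟩
  · have hout' := hout _ hFn (hF ▸ hMne)
    obtain ⟨b, hb⟩ := exists_gen P hgen _ (hinv _ hFn) hout'
    haveI : ((Cfsg.generalizedFittingSubgroup G).subgroupOf (P : Subgroup G)).Normal :=
      ⟨fun x hx a => hFn.conj_mem _ hx a⟩
    refine ⟨⟨⟨_, Subgroup.mem_map_of_mem _ b.2⟩, ?_⟩⟩
    rintro ⟨_, a, ha, rfl⟩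
    obtain ⟨m, hm, z, hz, hmz⟩ := Subgroup.mem_sup_of_normal_left.1
      (hb.ge (Subgroup.mem_top (⟨a, ha⟩ : ↥(P : Subgroup G))))
    obtain ⟨k, rfl⟩ := Subgroup.mem_zpowers_iff.1 hz
    refine ⟨k, Subtype.ext ?_⟩
    show (QuotientGroup.mk' _ (b : G)) ^ k = QuotientGroup.mk' _ a
    rw [← show (m : G) * (b : G) ^ k = a from congrArg Subtype.val hmz, map_mul, map_zpow,
      show QuotientGroup.mk' _ (m : G) = 1 from (QuotientGroup.eq_one_iff _).2 hm, one_mul]
  · rw [hF] at hncomm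
    have hR := hnab hncomm
    by_contra hall
    push Not at hall
    let O : Set (Subgroup G) := {X | ∃ x ∈ (P : Subgroup G), X = K.map (MulAut.conj x).toMonoidHom}
    let O' : Set (Subgroup G) := {X | Cfsg.IsComponent X ∧ X ∉ O}
    have hOc : ∀ X ∈ O, Cfsg.IsComponent X := by
      rintro _ ⟨x, -, rfl⟩
      exact Solv.component_conj hK x
    have hstable : ∀ a ∈ (P : Subgroup G), ∀ X ∈ O, X.map (MulAut.conj a).toMonoidHom ∈ O := by
      rintro a ha _ ⟨x, hx, rfl⟩
      refine ⟨a * x, mul_mem ha hx, ?_⟩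
      rw [Subgroup.map_map]
      congr 1
      ext y
      simp [mul_assoc]
    have hstable' : ∀ a ∈ (P : Subgroup G), ∀ X ∈ O', X.map (MulAut.conj a).toMonoidHom ∈ O' := by
      rintro a ha X ⟨hXc, hXO⟩
      refine ⟨Solv.component_conj hXc a, fun h => hXO ?_⟩
      have := hstable a⁻¹ (inv_mem ha) _ h
      rwa [Subgroup.map_map, show ((MulAut.conj a⁻¹).toMonoidHom.comp (MulAut.conj a).toMonoidHom : G →* G) =
        MonoidHom.id G by ext y; simp [mul_assoc], Subgroup.map_id] at this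
    have hS : ∀ S : Set (Subgroup G), (∀ a ∈ (P : Subgroup G), ∀ X ∈ S, X.map (MulAut.conj a).toMonoidHom ∈ S) →
        ∀ a ∈ (P : Subgroup G), ∀ x ∈ sSup S, a * x * a⁻¹ ∈ sSup S := by
      intro S hst a ha x hx
      have hle : sSup S ≤ (sSup S).comap (MulAut.conj a).toMonoidHom := sSup_le fun X hX =>
        Subgroup.map_le_iff_le_comap.1 (le_sSup (hst a ha X hX))
      exact hle hx
    have h1 := commutator_mem P hgen _ (hS O hstable) (meets_invariant hcore P _ (hS O hstable) hK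
      (le_sSup (show K ∈ O from ⟨1, one_mem _, by ext; simp⟩))) a0 ha0 c0 hc0
    have hLO : L ∈ O' := ⟨hL, fun ⟨x, hx, e⟩ => hall x hx e⟩
    have h2 := commutator_mem P hgen _ (hS O' hstable') (meets_invariant hcore P _ (hS O' hstable') hL
      (le_sSup hLO)) a0 ha0 c0 hc0
    refine hac (Solv.eq_one_of_central_in_commuting {X | Cfsg.IsComponent X}
      (fun X hX Y hY hne => Solv.components_commute hX hY hne) (fun X hX => ?_)
      (sSup_le_sSup hOc h1) fun X hX x hx => ?_)
    · have h := Solv.center_component_le_fitting hX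
      rw [← hRdef, hR, le_bot_iff, Subgroup.map_eq_bot_iff_of_injective _ X.subtype_injective] at h
      exact h
    · by_cases hXO : X ∈ O
      · have : sSup O' ≤ Subgroup.centralizer (X : Set G) := sSup_le fun Y hY =>
          Subgroup.commutator_eq_bot_iff_le_centralizer.1 (Solv.components_commute hY.1 hX fun e => hY.2 (e ▸ hXO))
        exact Subgroup.mem_centralizer_iff.1 (this h2) x hx
      · have : sSup O ≤ Subgroup.centralizer (X : Set G) := sSup_le fun Y hY =>
          Subgroup.commutator_eq_bot_iff_le_centralizer.1 (Solv.components_commute (hOc Y hY) hX fun e => hXO (e ▸ hY))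
        exact Subgroup.mem_centralizer_iff.1 (this h1) x hx

/-- Let p be a prime and G a finite group with a non-commutative Sylow p-subgroup P whose Frattini subgroup has index p² in P (P is generated by two elements). Suppose G has no nontrivial normal subgroup of order prime to p and the Frattini subgroup of P contains no nontrivial normal subgroup of G. Then the generalized Fitting subgroup F*(G) is the unique minimal normal subgroup of G, the image of P in G/F*(G) is cyclic, and if F*(G) is not commutative then P permutes the components of G transitively by conjugation. -/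
theorem result {G : Type*} [Group G] [Finite G] (p : ℕ) [Fact p.Prime] (P : Sylow p G) (hna : ¬ IsMulCommutative (P : Subgroup G)) (hgen : (frattini ↥(P : Subgroup G)).index = p ^ 2) (hcore : Cfsg.pPrimeCore p G = ⊥) (hfrat : ((frattini ↥(P : Subgroup G)).map (P : Subgroup G).subtype).normalCore = ⊥) [hFn : (Cfsg.generalizedFittingSubgroup G).Normal] :
    (Cfsg.generalizedFittingSubgroup G ≠ ⊥ ∧ ∀ K : Subgroup G, K.Normal → K ≠ ⊥ → Cfsg.generalizedFittingSubgroup G ≤ K) ∧
      IsCyclic ↥((P : Subgroup G).map (QuotientGroup.mk' (Cfsg.generalizedFittingSubgroup G))) ∧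
      (¬ IsMulCommutative (Cfsg.generalizedFittingSubgroup G) → ∀ K L : Subgroup G, Cfsg.IsComponent K → Cfsg.IsComponent L → ∃ x ∈ (P : Subgroup G), L = K.map (MulAut.conj x).toMonoidHom) := by
  exact main P hna hgen hcore hfrat

end Cfsg.Agent.S4172
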