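import Cfsg.Statements.S4176
import Cfsg.Agent.Lib.Solv.ThreeSolv
import Cfsg.Agent.Lib.Solv.PSolvHall
import Cfsg.Agent.Lib.Char.PSolvHeight

set_option autoImplicit false
open Cfsg

namespace Cfsg.Agent.S4176

section Aux

variable {k V H : Type*} [Field k] [AddCommGroup V] [Module k V] [Group H] [Finite H]
  (ρ : Representation k H V)

/-- The stabilizer of a vector. -/
def stab (a : V) : Subgroup H where
  carrier := {h | ρ h a = a}
  one_mem' := by simp
  mul_mem' := fun {x y} hx hy => by
    show ρ (x * y) a = a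
    rw [map_mul, Module.End.mul_apply, show ρ y a = a from hy, show ρ x a = a from hx]
  inv_mem' := fun {x} hx => by
    show ρ x⁻¹ a = a
    conv_lhs => rw [← (show ρ x a = a from hx)]
    rw [← Module.End.mul_apply, ← map_mul, inv_mul_cancel, map_one, Module.End.one_apply]

omit [Finite H] in
theorem eq_iff_mem (a : V) (x y : H) : ρ x a = ρ y a ↔ x⁻¹ * y ∈ stab ρ a := by
  show _ ↔ ρ (x⁻¹ * y) a = a
  rw [map_mul, Module.End.mul_apply]
  constructor
  · intro h
    rw [← h, ← Module.End.mul_apply, ← map_mul, inv_mul_cancel, map_one, Module.End.one_apply]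
  · intro h
    have h' := congrArg (ρ x) h
    rwa [← Module.End.mul_apply, ← map_mul, mul_inv_cancel, map_one, Module.End.one_apply,
      eq_comm] at h'

theorem card_orbit (a : V) : Nat.card {u : V | ∃ h : H, ρ h a = u} = (stab ρ a).index := by
  let f : H ⧸ stab ρ a → {u : V | ∃ h : H, ρ h a = u} :=
    Quotient.lift (fun h => (⟨ρ h a, h, rfl⟩ : {u : V | ∃ h : H, ρ h a = u})) fun x y hxy =>
      Subtype.ext ((eq_iff_mem ρ a x y).2 (QuotientGroup.leftRel_apply.1 hxy))
  symm
  refine Nat.card_eq_of_bijective f ⟨fun x y hxy => ?_, fun ⟨u, h, hu⟩ => ⟨(h : H ⧸ stab ρ a),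
    Subtype.ext hu⟩⟩
  induction x using QuotientGroup.induction_on with
  | _ x =>
    induction y using QuotientGroup.induction_on with
    | _ y => exact QuotientGroup.eq.2 ((eq_iff_mem ρ a x y).1 (congrArg Subtype.val hxy))

open Classical in
/-- The sum of an orbit. -/
noncomputable def orbSum [Fintype H] (a : V) : V :=
  ∑ u ∈ (Finset.univ : Finset H).image (fun h => ρ h a), u

theorem orbSum_fixed [Fintype H] (a : V) (h : H) : ρ h (orbSum ρ a) = orbSum ρ a := by
  classical
  rw [orbSum, map_sum]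
  refine Finset.sum_nbij' (fun u => ρ h u) (fun u => ρ h⁻¹ u) ?_ ?_ ?_ ?_ ?_
  · intro u hu
    obtain ⟨g, -, rfl⟩ := Finset.mem_image.1 hu
    exact Finset.mem_image.2 ⟨h * g, Finset.mem_univ _, by rw [map_mul]; rfl⟩
  · intro u hu
    obtain ⟨g, -, rfl⟩ := Finset.mem_image.1 hu
    exact Finset.mem_image.2 ⟨h⁻¹ * g, Finset.mem_univ _, by rw [map_mul]; rfl⟩
  · intro u _
    show ρ h⁻¹ (ρ h u) = u
    rw [← Module.End.mul_apply, ← map_mul, inv_mul_cancel, map_one, Module.End.one_apply]
  · intro u _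
    show ρ h (ρ h⁻¹ u) = u
    rw [← Module.End.mul_apply, ← map_mul, mul_inv_cancel, map_one, Module.End.one_apply]
  · intro u _; rfl

theorem fixed_mem_span [Fintype H] {p : ℕ} [Fact p.Prime] [CharP k p]
    (hsol : Cfsg.IsPSolvable p H) (a : V)
    (hspan : Submodule.span k {u : V | ∃ h : H, ρ h a = u} = ⊤)
    (B : Subgroup H) (hB : ∀ h : H, ∃ b ∈ B, ρ h a = ρ b a)
    (hA : (((stab ρ a).subgroupOf B).index).Coprime p)
    (v : V) (hv : ∀ b ∈ B, ρ b v = v) : v ∈ Submodule.span k {orbSum ρ a} := by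
  classical
  obtain ⟨⟨K, hKc, n, hKi⟩, -⟩ :=
    Solv.psolv_hall (Fact.out : p.Prime) (Char.isPSolvable_subgroup Fact.out hsol B)
  set K' := K.map B.subtype with hK'
  have hcop : ((stab ρ a).subgroupOf B).index.Coprime K.index := hKi ▸ hA.pow_right n
  have htrans : ∀ h : H, ∃ x ∈ K', ρ h a = ρ x a := by
    intro h
    obtain ⟨b, hb, hh⟩ := hB h
    obtain ⟨x, hx, y, hy, hxy⟩ := Solv.exists_mul_of_coprime_index hcop (⟨b, hb⟩ : B)
    refine ⟨x, ⟨x, hx, rfl⟩, ?_⟩
    rw [hh, show b = (x : H) * (y : H) from congrArg Subtype.val hxy, map_mul,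
      Module.End.mul_apply, show ρ (y : H) a = a from hy]
  have hK'B : K' ≤ B := Subgroup.map_subtype_le _
  let Φ : V →ₗ[k] V := ∑ x : K', ρ x
  have hΦ : ∀ w, Φ w = ∑ x : K', ρ x w := fun w => by simp [Φ, LinearMap.sum_apply]
  have hΦa : Φ a = (Finset.univ.filter fun x : K' => ρ x a = a).card • orbSum ρ a := by
    rw [hΦ, ← Finset.sum_fiberwise_of_maps_to
      (t := (Finset.univ : Finset H).image (fun h => ρ h a))
      (g := fun x : K' => ρ x a) (fun x _ => Finset.mem_image.2 ⟨x, Finset.mem_univ _, rfl⟩),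
      orbSum, Finset.smul_sum]
    refine Finset.sum_congr rfl fun u hu => ?_
    obtain ⟨h, -, rfl⟩ := Finset.mem_image.1 hu
    obtain ⟨y, hy, he⟩ := htrans h
    rw [Finset.sum_congr rfl (fun x hx => (Finset.mem_filter.1 hx).2), Finset.sum_const]
    congr 1
    refine Finset.card_equiv (Equiv.mulLeft (⟨y, hy⟩ : K')⁻¹) fun x => ?_
    simp only [Finset.mem_filter, Finset.mem_univ, true_and, Equiv.coe_mulLeft]
    rw [he, eq_comm, eq_iff_mem]
    rfl
  have hrange : ∀ w, Φ w ∈ Submodule.span k {orbSum ρ a} := by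
    intro w
    have hw : w ∈ Submodule.span k {u : V | ∃ h : H, ρ h a = u} := hspan ▸ Submodule.mem_top
    induction hw using Submodule.span_induction with
    | mem u hu =>
      obtain ⟨h, rfl⟩ := hu
      obtain ⟨y, hy, he⟩ := htrans h
      have e : Φ (ρ h a) = Φ a := by
        rw [hΦ, hΦ, he]
        refine Fintype.sum_equiv (Equiv.mulRight (⟨y, hy⟩ : K')) _ _ fun x => ?_
        show ρ x (ρ y a) = ρ ((x : H) * y) a
        rw [map_mul]; rfl
      rw [e, hΦa, ← Nat.cast_smul_eq_nsmul k]
      exact Submodule.smul_mem _ _ (Submodule.subset_span rfl)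
    | zero => rw [map_zero]; exact Submodule.zero_mem _
    | add x y _ _ hx hy => rw [map_add]; exact Submodule.add_mem _ hx hy
    | smul c x _ hx => rw [map_smul]; exact Submodule.smul_mem _ _ hx
  have hv' : Φ v = (Nat.card K' : k) • v := by
    rw [hΦ, Finset.sum_congr rfl (fun (x : K') _ => hv x (hK'B x.2)), Finset.sum_const, Finset.card_univ,
      ← Nat.card_eq_fintype_card, ← Nat.cast_smul_eq_nsmul k]
  have hne : (Nat.card K' : k) ≠ 0 := by
    rw [hK', Subgroup.card_map_of_injective B.subtype_injective, Ne, CharP.cast_eq_zero_iff k p]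
    exact (Nat.Prime.coprime_iff_not_dvd Fact.out).1 hKc.symm
  have := Submodule.smul_mem _ (Nat.card K' : k)⁻¹ (hv' ▸ hrange v)
  rwa [smul_smul, inv_mul_cancel₀ hne, one_smul] at this

end Aux

/-- Let k be a field of prime characteristic p, H a finite p-soluble group and ρ a k-linear representation of H on V. Let a be a vector that is fixed by some Sylow p-subgroup of H and whose H-orbit spans V. Then the space of H-fixed vectors has dimension at most 1, and every vector b whose H-orbit has size coprime to the size of the orbit of a is fixed by H. -/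
theorem result {k V H : Type*} [Field k] (p : ℕ) [Fact p.Prime] [CharP k p] [AddCommGroup V] [Module k V]
    [Group H] [Finite H] (hsol : Cfsg.IsPSolvable p H) (ρ : Representation k H V) (a : V)
    (hfix : ∃ P : Sylow p H, ∀ x : H, x ∈ (P : Subgroup H) → ρ x a = a)
    (hspan : Submodule.span k {u : V | ∃ h : H, ρ h a = u} = ⊤) :
    Module.finrank k ρ.invariants ≤ 1 ∧
    ∀ b : V, (Nat.card {u : V | ∃ h : H, ρ h a = u}).Coprime (Nat.card {u : V | ∃ h : H, ρ h b = u}) → ∀ h : H, ρ h b = b := by
  classical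
  haveI := Fintype.ofFinite H
  obtain ⟨P, hP⟩ := hfix
  have hA : (stab ρ a).index.Coprime p := by
    refine (((Nat.Prime.coprime_iff_not_dvd Fact.out).2 P.not_dvd_index).symm).coprime_dvd_left ?_
    exact Subgroup.index_dvd_of_le hP
  have htop : ((stab ρ a).subgroupOf ⊤).index.Coprime p := by
    show ((stab ρ a).relIndex ⊤).Coprime p
    rwa [Subgroup.relIndex_top_right]
  refine ⟨?_, fun b hb => ?_⟩
  · have hle : ρ.invariants ≤ Submodule.span k {orbSum ρ a} := fun v hv =>
      fixed_mem_span ρ hsol a hspan ⊤ (fun h => ⟨h, trivial, rfl⟩) htop v fun b _ => hv b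
    refine (Submodule.finrank_mono hle).trans ?_
    exact (finrank_span_le_card ({orbSum ρ a} : Set V)).trans (by simp)
  · rw [card_orbit, card_orbit] at hb
    have hrel : (stab ρ a).relIndex (stab ρ b) = (stab ρ a).index := Solv.relIndex_eq_of_coprime hb
    have hv := fixed_mem_span ρ hsol a hspan (stab ρ b) (fun h => ?_)
      (by show ((stab ρ a).relIndex (stab ρ b)).Coprime p; rwa [hrel]) b (fun x hx => hx)
    · obtain ⟨c, rfl⟩ := Submodule.mem_span_singleton.1 hv
      intro h
      rw [map_smul, orbSum_fixed]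
    · obtain ⟨x, hx, y, hy, rfl⟩ := Solv.exists_mul_of_coprime_index hb h
      exact ⟨x, hx, by rw [map_mul, Module.End.mul_apply, show ρ y a = a from hy]⟩

end Cfsg.Agent.S4176
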