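import Cfsg.Statements.S4177


set_option autoImplicit false
open Cfsg

namespace Cfsg.Agent.S4177

/-- Let k be a field whose characteristic does not divide the order of the finite group H (for instance a field of characteristic zero), and ρ a k-linear representation of H on V. Let a be a vector whose H-orbit spans V. Then the space of H-fixed vectors has dimension at most 1, and every vector b whose H-orbit has size coprime to the size of the orbit of a is fixed by H. -/
theorem result {k V H : Type*} [Field k] [AddCommGroup V] [Module k V] [Group H] [Finite H]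
    (hchar : ¬ ringChar k ∣ Nat.card H) (ρ : Representation k H V) (a : V)
    (hspan : Submodule.span k {u : V | ∃ h : H, ρ h a = u} = ⊤) :
    Module.finrank k ρ.invariants ≤ 1 ∧
    ∀ b : V, (Nat.card {u : V | ∃ h : H, ρ h a = u}).Coprime (Nat.card {u : V | ∃ h : H, ρ h b = u}) → ∀ h : H, ρ h b = b := by
  classical
  haveI := Fintype.ofFinite H
  have hH : (Fintype.card H : k) ≠ 0 := fun h0 => hchar (by
    rw [← CharP.cast_eq_zero_iff k (ringChar k), Nat.card_eq_fintype_card]; exact h0)
  let avg : V →ₗ[k] V := ((Fintype.card H : k))⁻¹ • ∑ h : H, ρ h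
  have hinv : ∀ v, (∀ h : H, ρ h v = v) → avg v = v := by
    intro v hv
    simp only [avg, LinearMap.smul_apply, LinearMap.sum_apply, hv, Finset.sum_const,
      Finset.card_univ]
    rw [← Nat.cast_smul_eq_nsmul k, smul_smul, inv_mul_cancel₀ hH, one_smul]
  have hav : ∀ (g : H) v, avg (ρ g v) = avg v := by
    intro g v
    simp only [avg, LinearMap.smul_apply, LinearMap.sum_apply]
    congr 1
    exact Fintype.sum_equiv (Equiv.mulRight g) _ _ fun h => by
      rw [Equiv.coe_mulRight, map_mul, Module.End.mul_apply]
  constructor
  · refine le_trans (Submodule.finrank_mono (t := Submodule.span k {avg a}) fun v hv => ?_)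
      ((finrank_span_le_card ({avg a} : Set V)).trans (le_of_eq (by simp)))
    rw [← hinv v fun h => hv h]
    have hv' : v ∈ Submodule.span k {u : V | ∃ h : H, ρ h a = u} := hspan ▸ Submodule.mem_top
    have hle : Submodule.span k {u : V | ∃ h : H, ρ h a = u} ≤ (Submodule.span k {avg a}).comap avg := by
      rw [Submodule.span_le]
      rintro _ ⟨g, rfl⟩
      rw [SetLike.mem_coe, Submodule.mem_comap, hav]
      exact Submodule.mem_span_singleton_self _
    exact hle hv'
  · intro b hcop h
    letI : MulAction H V :=
      { smul := fun g v => ρ g v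
        one_smul := fun v => by show ρ 1 v = v; rw [map_one]; rfl
        mul_smul := fun g g' v => by show ρ (g * g') v = ρ g (ρ g' v); rw [map_mul]; rfl }
    set A := MulAction.stabilizer H a
    set B := MulAction.stabilizer H b
    have horb : ∀ v : V, Nat.card {u : V | ∃ h : H, ρ h v = u} = (MulAction.stabilizer H v).index := fun v => by
      rw [MulAction.index_stabilizer]
      rfl
    rw [horb, horb] at hcop
    have hcov : ∀ g : H, ∃ y ∈ B, ρ y a = ρ g a := by
      intro g
      let f : B → MulAction.orbit H a := fun y => ⟨(y : H) • a, MulAction.mem_orbit _ _⟩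
      let f' : B ⧸ A.subgroupOf B → MulAction.orbit H a := fun q => f q.out
      have hf' : Function.Injective f' := by
        intro q q' e
        rw [← q.out_eq, ← q'.out_eq]
        refine QuotientGroup.eq.2 (Subgroup.mem_subgroupOf.2 (MulAction.mem_stabilizer_iff.2 ?_))
        have e' : (q.out : H) • a = (q'.out : H) • a := congrArg Subtype.val e
        rw [Subgroup.coe_mul, InvMemClass.coe_inv, mul_smul, ← e', inv_smul_smul]
      haveI : Finite (MulAction.orbit H a) := (Set.finite_range _).to_subtype
      have hc : Nat.card (B ⧸ A.subgroupOf B) = Nat.card (MulAction.orbit H a) := by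
        refine le_antisymm (Nat.card_le_card_of_injective f' hf') ?_
        have h1 : A.index ∣ A.relIndex B * B.index := by
          have := Subgroup.index_dvd_of_le (inf_le_left : A ⊓ B ≤ A)
          rwa [← Subgroup.relIndex_mul_index (inf_le_right : A ⊓ B ≤ B), Subgroup.inf_relIndex_right] at this
        have h2 := (Nat.Coprime.dvd_of_dvd_mul_right hcop h1)
        have h3 : A.relIndex B ≠ 0 := Subgroup.index_ne_zero_of_finite
        have h4 := Nat.le_of_dvd (Nat.pos_of_ne_zero h3) h2
        rw [← Subgroup.index_eq_card]
        exact (MulAction.index_stabilizer H a).symm.le.trans h4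
      obtain ⟨q, hq⟩ := ((Nat.bijective_iff_injective_and_card f').2 ⟨hf', hc⟩).2
        ⟨g • a, MulAction.mem_orbit _ _⟩
      exact ⟨(q.out : H), (q.out).2, congrArg Subtype.val hq⟩
    have hB : (Fintype.card B : k) ≠ 0 := fun h0 => hH (by
      have := B.card_mul_index
      rw [Nat.card_eq_fintype_card, Nat.card_eq_fintype_card] at this
      rw [← this, Nat.cast_mul, h0, zero_mul])
    let avB : V →ₗ[k] V := ∑ y : B, ρ (y : H)
    have havB : ∀ y : B, ∀ v, avB (ρ (y : H) v) = avB v := by
      intro y v
      simp only [avB, LinearMap.sum_apply]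
      exact Fintype.sum_equiv (Equiv.mulRight y) _ _ fun z => by
        rw [Equiv.coe_mulRight, Subgroup.coe_mul, map_mul, Module.End.mul_apply]
    have hb : avB b = (Fintype.card B : k) • b := by
      simp only [avB, LinearMap.sum_apply]
      rw [Finset.sum_congr rfl (fun (y : B) _ => show ρ (y : H) b = b from y.2), Finset.sum_const,
        Finset.card_univ, Nat.cast_smul_eq_nsmul]
    have hleft : ∀ g : H, ρ g (avB a) = avB a := by
      intro g
      have hmem : ∀ y : B, ρ (y : H) (avB a) = avB a := by
        intro y
        simp only [avB, LinearMap.sum_apply, map_sum]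
        exact Fintype.sum_equiv (Equiv.mulLeft y) _ _ fun z => by
          rw [Equiv.coe_mulLeft, Subgroup.coe_mul, map_mul, Module.End.mul_apply]
      -- the average over the stabiliser is a multiple of the average over the whole group
      have hsum : (Fintype.card H : k) • avB a = (Fintype.card B : k) • ∑ h : H, ρ h a := by
        have e : ∀ h : H, avB (ρ h a) = avB a := fun h => by
          obtain ⟨y, hy, hya⟩ := hcov h
          rw [← hya]; exact havB ⟨y, hy⟩ a
        have : ∑ h : H, avB (ρ h a) = ∑ y : B, ∑ h : H, ρ h a := by
          simp only [avB, LinearMap.sum_apply]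
          rw [Finset.sum_comm]
          refine Finset.sum_congr rfl fun y _ => ?_
          exact Fintype.sum_equiv (Equiv.mulLeft (y : H)) _ _ fun h => by
            rw [Equiv.coe_mulLeft, map_mul, Module.End.mul_apply]
        rw [Finset.sum_congr rfl (fun h _ => e h), Finset.sum_const, Finset.sum_const, Finset.card_univ,
          Finset.card_univ, ← Nat.cast_smul_eq_nsmul k, ← Nat.cast_smul_eq_nsmul k] at this
        exact this
      have h1 : ρ g ((Fintype.card H : k) • avB a) = (Fintype.card H : k) • avB a := by
        rw [hsum, map_smul, map_sum]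
        congr 1
        exact Fintype.sum_equiv (Equiv.mulLeft g) _ _ fun h => by
          rw [Equiv.coe_mulLeft, map_mul, Module.End.mul_apply]
      rw [map_smul] at h1
      exact smul_right_injective V hH h1
    have hb' : avB b ∈ Submodule.span k {avB a} := by
      have hle : Submodule.span k {u : V | ∃ h : H, ρ h a = u} ≤ (Submodule.span k {avB a}).comap avB := by
        rw [Submodule.span_le]
        rintro _ ⟨g, rfl⟩
        rw [SetLike.mem_coe, Submodule.mem_comap]
        obtain ⟨y, hy, hya⟩ := hcov g
        rw [← hya, havB ⟨y, hy⟩]
        exact Submodule.mem_span_singleton_self _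
      exact hle (hspan ▸ Submodule.mem_top)
    obtain ⟨c, hc⟩ := Submodule.mem_span_singleton.1 hb'
    have : ρ h (avB b) = avB b := by rw [← hc, map_smul, hleft]
    rw [hb, map_smul] at this
    exact smul_right_injective V hB this

end Cfsg.Agent.S4177
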