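import Cfsg.Statements.S4178
import Mathlib

set_option autoImplicit false
open Cfsg

namespace Cfsg.Agent.S4178


theorem bound {H W : Type*} [Group H] [Finite W] (R : Subgroup H) (z v : W) (hv : v ≠ z)
    (act : H → W → W) (hone : ∀ w, act 1 w = w) (hmul : ∀ a b w, act (a * b) w = act a (act b w))
    (hz : ∀ a, act a z = z) (hR : ∀ a w, w ≠ z → act a w = w → a ∈ R) : R.index ≤ Nat.card W - 1 := by
  classical
  have hinv : ∀ a w, act a⁻¹ (act a w) = w := fun a w => by rw [← hmul, inv_mul_cancel, hone]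
  have hne : ∀ a, act a v ≠ z := fun a e => hv (by rw [← hinv a v, e, hz])
  haveI : Fintype W := Fintype.ofFinite W
  rw [Subgroup.index_eq_card,
    show Nat.card W - 1 = Nat.card {w : W // w ≠ z} by
      rw [Nat.card_eq_fintype_card, Nat.card_eq_fintype_card, Fintype.card_subtype_compl,
        Fintype.card_subtype_eq]]
  refine Nat.card_le_card_of_injective (fun q : H ⧸ R => ⟨act q.out v, hne _⟩) fun q q' e => ?_
  rw [← QuotientGroup.out_eq' q, ← QuotientGroup.out_eq' q', QuotientGroup.eq]
  refine hR _ v hv ?_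
  have e' : act q.out v = act q'.out v := congrArg Subtype.val e
  rw [hmul, ← e', hinv]


/-- Let F be a finite field with q elements, V a non-zero finite-dimensional F-space of dimension d, H a group of invertible linear maps of V, and R the subgroup of H generated by the elements of H that fix some non-zero vector (have eigenvalue 1). Then the index of R in H is at most q^d − 1; and if H leaves invariant some proper non-zero subspace, the index is at most q^(d/2) − 1. -/
theorem result {F V : Type*} [Field F] [Fintype F] [AddCommGroup V] [Module F V] [FiniteDimensional F V] [Nontrivial V]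
    (H : Subgroup (V ≃ₗ[F] V)) :
    (Subgroup.closure {h : ↥H | ∃ v : V, v ≠ 0 ∧ (h : V ≃ₗ[F] V) v = v}).index ≤ Fintype.card F ^ Module.finrank F V - 1 ∧
    ((∃ W : Submodule F V, W ≠ ⊥ ∧ W ≠ ⊤ ∧ ∀ h ∈ H, ∀ w ∈ W, h w ∈ W) →
      ((Subgroup.closure {h : ↥H | ∃ v : V, v ≠ 0 ∧ (h : V ≃ₗ[F] V) v = v}).index : ℝ) ≤ Real.sqrt ((Fintype.card F : ℝ) ^ Module.finrank F V) - 1) := by
  classical
  set R := Subgroup.closure {h : ↥H | ∃ v : V, v ≠ 0 ∧ (h : V ≃ₗ[F] V) v = v} with hRdef
  haveI : Finite V := Module.finite_of_finite F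
  haveI : ∀ W : Submodule F V, Finite (V ⧸ W) := fun W => Finite.of_surjective _ W.mkQ_surjective
  have hmemR : ∀ (a : H) (w : V), w ≠ 0 → (a : V ≃ₗ[F] V) w = w → a ∈ R := fun a w hw e =>
    Subgroup.subset_closure ⟨w, hw, e⟩
  have hcard : Nat.card V = Fintype.card F ^ Module.finrank F V := by
    rw [Module.natCard_eq_pow_finrank (K := F), Nat.card_eq_fintype_card]
  refine ⟨?_, ?_⟩
  · obtain ⟨v, hv⟩ := exists_ne (0 : V)
    rw [← hcard]
    exact bound R 0 v hv (fun a w => (a : V ≃ₗ[F] V) w) (fun w => rfl) (fun a b w => rfl)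
      (fun a => map_zero _) hmemR
  · rintro ⟨W, hW0, hWtop, hW⟩
    obtain ⟨⟨w0, hw0W⟩, hw0⟩ : ∃ w : W, w ≠ 0 := by
      haveI := Submodule.nontrivial_iff_ne_bot.2 hW0
      exact exists_ne 0
    have h1 : R.index ≤ Nat.card W - 1 :=
      bound R (0 : W) ⟨w0, hw0W⟩ hw0 (fun a w => ⟨(a : V ≃ₗ[F] V) w, hW _ a.2 w w.2⟩)
        (fun w => rfl) (fun a b w => rfl) (fun a => Subtype.ext (map_zero _))
        (fun a w hw e => hmemR a w (fun e' => hw (Subtype.ext e')) (congrArg Subtype.val e))
    have h2 : R.index ≤ Nat.card (V ⧸ W) - 1 := by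
      obtain ⟨v, hv⟩ : ∃ q : V ⧸ W, q ≠ 0 := by
        haveI : Nontrivial (V ⧸ W) := Submodule.Quotient.nontrivial_iff.2 hWtop
        exact exists_ne 0
      refine bound R (0 : V ⧸ W) v hv
        (fun a => W.mapQ W ((a : V ≃ₗ[F] V) : V →ₗ[F] V) (fun w hw => hW _ a.2 w hw)) ?_ ?_ (fun a => map_zero _) ?_
      · intro q
        induction q using Submodule.Quotient.induction_on with
        | H x => rfl
      · intro a b q
        induction q using Submodule.Quotient.induction_on with
        | H x => rfl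
      · intro a q hq e
        by_contra haR
        obtain ⟨x, rfl⟩ := Submodule.Quotient.mk_surjective W q
        have hinjV : ∀ u : V, (a : V ≃ₗ[F] V) u = u → u = 0 := fun u hu => by
          by_contra hu0; exact haR (hmemR a u hu0 hu)
        let φ : W → W := fun w => ⟨(a : V ≃ₗ[F] V) w - w, W.sub_mem (hW _ a.2 w w.2) w.2⟩
        have hφ : Function.Surjective φ := Finite.surjective_of_injective fun u w e => by
          have e' : (a : V ≃ₗ[F] V) u - u = (a : V ≃ₗ[F] V) w - w := congrArg Subtype.val e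
          exact Subtype.ext (sub_eq_zero.1 (hinjV ((u : V) - w) (by
            rw [map_sub, ← sub_eq_zero, ← sub_eq_zero.2 e']; abel)))
        have hx : (a : V ≃ₗ[F] V) x - x ∈ W := by
          rw [← Submodule.Quotient.eq]; exact e
        obtain ⟨w, hw⟩ := hφ ⟨_, hx⟩
        have hw' : (a : V ≃ₗ[F] V) w - w = (a : V ≃ₗ[F] V) x - x := congrArg Subtype.val hw
        have : x - w = 0 := hinjV (x - w) (by rw [map_sub, ← sub_eq_zero, ← sub_eq_zero.2 hw'.symm]; abel)
        exact hq ((Submodule.Quotient.mk_eq_zero W).2 (sub_eq_zero.1 this ▸ w.2))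
    set c := min (Nat.card W) (Nat.card (V ⧸ W)) with hc
    have hc1 : 1 ≤ c := le_min Nat.card_pos Nat.card_pos
    have hcc : c * c ≤ Fintype.card F ^ Module.finrank F V := by
      rw [← hcard, W.card_eq_card_quotient_mul_card, mul_comm (Nat.card W)]
      first
        | exact Nat.mul_le_mul (min_le_right _ _) (min_le_left _ _)
        | exact Nat.mul_le_mul (min_le_left _ _) (min_le_right _ _)
    have hi : R.index ≤ c - 1 := by
      rcases min_choice (Nat.card W) (Nat.card (V ⧸ W)) with e | e <;> omega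
    calc (R.index : ℝ) ≤ ((c - 1 : ℕ) : ℝ) := by exact_mod_cast hi
      _ = (c : ℝ) - 1 := by rw [Nat.cast_sub hc1, Nat.cast_one]
      _ ≤ _ := by
        refine sub_le_sub_right (Real.le_sqrt_of_sq_le ?_) 1
        rw [sq]; exact_mod_cast hcc

end Cfsg.Agent.S4178
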