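import Cfsg.Statements.S4182
import Mathlib

set_option autoImplicit false
open Cfsg
open scoped Pointwise

namespace Cfsg.Agent.S4182

universe u v

/-- The subgroup generated by the p-elements of a subgroup. -/
def pGen {G : Type u} [Group G] (p : ℕ) (H : Subgroup G) : Subgroup G :=
  Subgroup.closure {g : G | g ∈ H ∧ ∃ k : ℕ, orderOf g = p ^ k}

theorem pGen_le {G : Type u} [Group G] (p : ℕ) (H : Subgroup G) : pGen p H ≤ H :=
  (Subgroup.closure_le H).2 fun _ h => h.1

theorem le_pGen_of_le {G : Type u} [Group G] {p : ℕ} {H K : Subgroup G} (hH : pGen p H = H) (h : H ≤ K) :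
    H ≤ pGen p K := by
  conv_lhs => rw [← hH]
  exact Subgroup.closure_mono fun g hg => ⟨h hg.1, hg.2⟩

theorem pGen_pGen {G : Type u} [Group G] (p : ℕ) (H : Subgroup G) : pGen p (pGen p H) = pGen p H :=
  le_antisymm (pGen_le p _) (Subgroup.closure_mono fun _ hg => ⟨Subgroup.subset_closure hg, hg.2⟩)

theorem pGen_smul {G : Type u} [Group G] {p : ℕ} (g : G) {H : Subgroup G} (hH : pGen p H = H) :
    pGen p (MulAut.conj g • H) = MulAut.conj g • H := by
  refine le_antisymm (pGen_le p _) ?_
  conv_lhs => rw [← hH, pGen]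
  rw [Subgroup.pointwise_smul_def]
  erw [MonoidHom.map_closure]
  refine Subgroup.closure_mono ?_
  rintro _ ⟨x, ⟨hx, k, hk⟩, rfl⟩
  refine ⟨Subgroup.smul_mem_pointwise_smul x (MulAut.conj g) H hx, k, ?_⟩
  rw [← hk]
  exact orderOf_injective (MulAut.conj g).toMonoidHom (MulAut.conj g).injective x

theorem cover_aux (n p : ℕ) (hp : p.Prime) : ∀ (G : Type u) [Group G] [Finite G], Nat.card G = n →
    ∀ (ι : Type v) [Fintype ι] (K : ι → Subgroup G),
    pGen p (⊤ : Subgroup G) = ⊤ → Fintype.card ι ≤ p →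
    (∀ g : G, (∃ k : ℕ, orderOf g = p ^ k) → ∃ i, g ∈ K i) → ∃ i, K i = ⊤ := by
  induction n using Nat.strong_induction_on with
  | _ n ih =>
  intro G _ _ hn ι _ K hgen hcard hcov
  classical
  haveI := Fact.mk hp
  by_contra hno
  push Not at hno
  -- proper generated subgroups lie in a member
  have hproper : ∀ H : Subgroup G, H ≠ ⊤ → pGen p H = H → ∃ i, H ≤ K i := by
    intro H hH hgH
    have hlt : Nat.card H < n := by
      rw [← hn]
      exact lt_of_le_of_ne (Subgroup.card_le_card_group H) fun e => hH (Subgroup.eq_top_of_card_eq H e)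
    obtain ⟨i, hi⟩ := ih _ hlt H rfl ι (fun i => (K i).subgroupOf H) (by
      apply Subgroup.map_injective H.subtype_injective
      rw [← MonoidHom.range_eq_map, Subgroup.range_subtype]
      conv_rhs => rw [← hgH]
      rw [pGen, pGen, MonoidHom.map_closure]
      congr 1
      ext x
      constructor
      · rintro ⟨y, ⟨-, k, hk⟩, rfl⟩
        exact ⟨y.2, k, (Subgroup.orderOf_coe y).trans hk⟩
      · rintro ⟨hx, k, hk⟩
        exact ⟨⟨x, hx⟩, ⟨Subgroup.mem_top _, k, by rw [← Subgroup.orderOf_coe]; exact hk⟩, rfl⟩) hcard (fun g ⟨k, hk⟩ =>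
      hcov g ⟨k, (Subgroup.orderOf_coe g).trans hk⟩)
    exact ⟨i, Subgroup.subgroupOf_eq_top.1 hi⟩
  let P : Sylow p G := default
  have hP : pGen p (P : Subgroup G) = P := le_antisymm (pGen_le p _) fun x hx => Subgroup.subset_closure
    ⟨hx, by
      obtain ⟨k, hk⟩ := IsPGroup.iff_orderOf.1 P.isPGroup' ⟨x, hx⟩
      exact ⟨k, (Subgroup.orderOf_coe (⟨x, hx⟩ : (P : Subgroup G))).trans hk⟩⟩
  by_cases hPt : (P : Subgroup G) = ⊤
  · -- a p-group
    have hall : ∀ g : G, ∃ i, g ∈ K i := fun g => hcov g (by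
      obtain ⟨k, hk⟩ := IsPGroup.iff_orderOf.1 P.isPGroup' ⟨g, hPt ▸ Subgroup.mem_top g⟩
      exact ⟨k, by rw [← hk]; exact Subgroup.orderOf_coe (⟨g, hPt ▸ Subgroup.mem_top g⟩ : (P : Subgroup G))⟩)
    have hsmall : ∀ i, p * Nat.card (K i) ≤ Nat.card G := by
      intro i
      obtain ⟨a, ha⟩ := IsPGroup.iff_card.1 P.isPGroup'
      rw [hPt, Subgroup.card_top] at ha
      have hd : (K i).index ∣ p ^ a := ha ▸ Subgroup.index_dvd_card (K i)
      obtain ⟨b, -, hb⟩ := (Nat.dvd_prime_pow hp).1 hd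
      have hb0 : b ≠ 0 := fun e => hno i (Subgroup.index_eq_one.1 (by rw [hb, e, pow_zero]))
      rw [← Subgroup.card_mul_index (K i), hb, mul_comm p]
      exact Nat.mul_le_mul_left _ (Nat.le_self_pow hb0 p)
    haveI := Fintype.ofFinite G
    let F : ι → Finset G := fun i => (Finset.univ.filter (fun g => g ∈ K i)).erase 1
    have hsub : (Finset.univ : Finset G).erase 1 ⊆ Finset.univ.biUnion F := fun g hg => by
      obtain ⟨i, hi⟩ := hall g
      exact Finset.mem_biUnion.2 ⟨i, Finset.mem_univ _, Finset.mem_erase.2 ⟨(Finset.mem_erase.1 hg).1,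
        Finset.mem_filter.2 ⟨Finset.mem_univ _, hi⟩⟩⟩
    have hle := (Finset.card_le_card hsub).trans Finset.card_biUnion_le
    have hF : ∀ i, p * (F i).card + p ≤ Nat.card G := fun i => by
      have hone : (1 : G) ∈ Finset.univ.filter (fun g => g ∈ K i) := by simp
      have h1 := Finset.card_erase_add_one hone
      have h2 : (Finset.univ.filter (fun g => g ∈ K i)).card = Nat.card (K i) := by
        rw [Nat.card_eq_fintype_card, Fintype.card_subtype]
      have := hsmall i
      have h3 : (F i).card + 1 = Nat.card (K i) := by rw [← h2]; exact h1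
      rw [← h3] at this
      linarith
    obtain ⟨i0, -⟩ := hall 1
    have hsum : p * ∑ i, (F i).card + Fintype.card ι * p ≤ Fintype.card ι * Nat.card G := by
      have := Finset.sum_le_sum (s := Finset.univ) fun i _ => hF i
      rw [Finset.sum_add_distrib, ← Finset.mul_sum] at this
      simpa [Finset.sum_const, Finset.card_univ] using this
    rw [Finset.card_erase_of_mem (Finset.mem_univ _), Finset.card_univ, ← Nat.card_eq_fintype_card] at hle
    have hpos : 0 < Fintype.card ι := Fintype.card_pos_iff.2 ⟨i0⟩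
    have h1 : p * (Nat.card G - 1) + Fintype.card ι * p ≤ p * Nat.card G :=
      le_trans (le_trans (Nat.add_le_add_right (Nat.mul_le_mul_left p hle) _) hsum) (Nat.mul_le_mul_right _ hcard)
    obtain ⟨m, hm⟩ := Nat.exists_eq_succ_of_ne_zero (Nat.card_pos (α := G)).ne'
    rw [hm, Nat.succ_sub_one, Nat.mul_succ] at h1
    have h2 : Fintype.card ι = 1 := by
      have : Fintype.card ι * p ≤ 1 * p := by linarith
      exact le_antisymm (Nat.le_of_mul_le_mul_right this hp.pos) hpos
    haveI : Subsingleton ι := Fintype.card_le_one_iff_subsingleton.1 h2.le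
    exact hno i0 (eq_top_iff.2 fun g _ => by obtain ⟨i, hi⟩ := hall g; rwa [Subsingleton.elim i0 i])
  obtain ⟨i₀, hi₀⟩ := hproper P hPt hP
  let M : ι → Subgroup G := fun i => pGen p (K i)
  have hMt : ∀ i, M i ≠ ⊤ := fun i e => hno i (top_le_iff.1 (e ▸ pGen_le p _))
  obtain ⟨j₀, hj₀, hjmax⟩ := Finset.exists_max_image (Finset.univ.filter fun j => M i₀ ≤ M j)
    (fun j => Nat.card (M j)) ⟨i₀, by simp⟩
  rw [Finset.mem_filter] at hj₀
  have hmax : ∀ l, M j₀ ≤ M l → M j₀ = M l := fun l hl =>
    Subgroup.eq_of_le_of_card_ge hl (hjmax l (Finset.mem_filter.2 ⟨Finset.mem_univ _, hj₀.2.trans hl⟩))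
  have hPM : (P : Subgroup G) ≤ M j₀ := (le_pGen_of_le hP hi₀).trans hj₀.2
  have horb : ∀ g : G, ∃ j, MulAut.conj g • M j₀ = M j := by
    intro g
    have hsm : ∀ (g : G) (i : ι), ∃ j, MulAut.conj g • M i ≤ M j := fun g i => by
      have hg := pGen_smul g (pGen_pGen p (K i))
      obtain ⟨j, hj⟩ := hproper _ (fun e => hMt i (eq_top_iff.2 fun x _ => by
        have hx : MulAut.conj g • x ∈ MulAut.conj g • M i := by rw [e]; exact Subgroup.mem_top _
        exact Subgroup.smul_mem_pointwise_smul_iff.1 hx)) hg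
      exact ⟨j, le_pGen_of_le hg hj⟩
    obtain ⟨j, hj⟩ := hsm g j₀
    obtain ⟨l, hl⟩ := hsm g⁻¹ j
    refine ⟨j, le_antisymm hj ?_⟩
    have h1 : M j₀ ≤ MulAut.conj g⁻¹ • M j := by
      rw [map_inv, Subgroup.subset_pointwise_smul_iff, inv_inv]
      exact hj
    rw [← hmax l (h1.trans hl), map_inv, Subgroup.pointwise_smul_subset_iff, inv_inv] at hl
    exact hl
  set N := Subgroup.normalizer ((M j₀ : Subgroup G) : Set G) with hN
  have hPN : (P : Subgroup G) ≤ N := hPM.trans Subgroup.le_normalizer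
  have hindex : N.index ≤ p := by
    refine le_trans ?_ hcard
    rw [Subgroup.index_eq_card, ← Nat.card_eq_fintype_card]
    choose f hf using horb
    refine Nat.card_le_card_of_injective (fun q : G ⧸ N => f q.out) fun q r h => ?_
    have e : MulAut.conj q.out • M j₀ = MulAut.conj r.out • M j₀ := by rw [hf, hf]; exact congrArg M h
    rw [← q.out_eq', ← r.out_eq', QuotientGroup.eq]
    have e2 : MulAut.conj (q.out⁻¹ * r.out) • M j₀ = M j₀ := by
      rw [map_mul, map_inv, mul_smul, ← e, inv_smul_smul]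
    refine Subgroup.mem_normalizer_iff.2 fun x => ?_
    conv_rhs => rw [← e2]
    exact (Subgroup.smul_mem_pointwise_smul_iff (a := MulAut.conj (q.out⁻¹ * r.out))).symm
  -- P fixes every coset
  have hPcore : (P : Subgroup G) ≤ N.normalCore := by
    intro u hu
    rw [Subgroup.normalCore_eq_ker, MonoidHom.mem_ker]
    refine Equiv.ext fun q => ?_
    rw [MulAction.toPermHom_apply, MulAction.toPerm_apply, Equiv.Perm.coe_one, id]
    by_contra hne
    haveI := Fintype.ofFinite (G ⧸ N)
    obtain ⟨k, hk⟩ := P.isPGroup'.card_orbit q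
    have h1 : Nat.card (MulAction.orbit (P : Subgroup G) q) < p := by
      refine lt_of_lt_of_le ?_ hindex
      rw [Subgroup.index_eq_card]
      refine Finite.card_subtype_lt (p := fun x => x ∈ MulAction.orbit (P : Subgroup G) q) (x := ((1 : G) : G ⧸ N)) ?_
      rintro ⟨w, hw⟩
      have hfix : (w⁻¹ : (P : Subgroup G)) • ((1 : G) : G ⧸ N) = ((1 : G) : G ⧸ N) := by
        show ((((w⁻¹ : (P : Subgroup G)) : G) * 1 : G) : G ⧸ N) = _
        rw [QuotientGroup.eq]
        simpa using hPN w.2
      have hq : q = ((1 : G) : G ⧸ N) := by rw [← hfix, ← hw, inv_smul_smul]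
      apply hne
      rw [hq]
      show ((u * 1 : G) : G ⧸ N) = _
      rw [QuotientGroup.eq]
      simpa using inv_mem (hPN hu)
    have hk0 : k = 0 := by
      by_contra hk0
      exact absurd h1 (not_lt.2 (hk ▸ Nat.le_self_pow hk0 p))
    rw [hk0, pow_zero, Nat.card_eq_one_iff_unique] at hk
    haveI := hk.1
    exact hne (congrArg Subtype.val (Subsingleton.elim (⟨u • q, ⟨⟨u, hu⟩, rfl⟩⟩ : MulAction.orbit (P : Subgroup G) q)
      ⟨q, MulAction.mem_orbit_self q⟩))
  have hall : pGen p (⊤ : Subgroup G) ≤ N.normalCore := by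
    refine (Subgroup.closure_le _).2 ?_
    rintro x ⟨-, k, hk⟩
    obtain ⟨Q, hQ⟩ := (IsPGroup.of_card (n := k) (by rw [Nat.card_zpowers, hk]) : IsPGroup p (Subgroup.zpowers x)).exists_le_sylow
    obtain ⟨g, hg⟩ := MulAction.exists_smul_eq G P Q
    have hx : x ∈ MulAut.conj g • (P : Subgroup G) := by
      have := hQ (Subgroup.mem_zpowers x)
      rwa [← hg, Sylow.smul_def, Sylow.pointwise_smul_def] at this
    rw [Subgroup.mem_pointwise_smul_iff_inv_smul_mem, MulAut.smul_def] at hx
    have := (Subgroup.normalCore_normal N).conj_mem _ (hPcore hx) g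
    simpa [mul_assoc] using this
  rw [hgen, top_le_iff] at hall
  have hMn : (M j₀).Normal := Subgroup.normalizer_eq_top_iff.1 (top_le_iff.1 (hall ▸ Subgroup.normalCore_le N))
  have : pGen p (⊤ : Subgroup G) ≤ M j₀ := by
    refine (Subgroup.closure_le _).2 ?_
    rintro x ⟨-, k, hk⟩
    obtain ⟨Q, hQ⟩ := (IsPGroup.of_card (n := k) (by rw [Nat.card_zpowers, hk]) : IsPGroup p (Subgroup.zpowers x)).exists_le_sylow
    obtain ⟨g, hg⟩ := MulAction.exists_smul_eq G P Q
    have hx : x ∈ MulAut.conj g • (P : Subgroup G) := by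
      have := hQ (Subgroup.mem_zpowers x)
      rwa [← hg, Sylow.smul_def, Sylow.pointwise_smul_def] at this
    rw [Subgroup.mem_pointwise_smul_iff_inv_smul_mem, MulAut.smul_def] at hx
    have := hMn.conj_mem _ (hPM hx) g
    simpa [mul_assoc] using this
  rw [hgen, top_le_iff] at this
  exact hMt j₀ this

/-- Let p be a prime and G a finite group generated by its p-elements. If a finite family of proper subgroups of G covers the set of p-elements of G (every element of p-power order lies in one of them), then the family has at least p + 1 members. -/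
theorem result {G : Type*} [Group G] [Finite G] (p : ℕ) [Fact p.Prime] (hgen : Subgroup.closure {g : G | ∃ k : ℕ, orderOf g = p ^ k} = ⊤)
    {ι : Type*} [Fintype ι] (K : ι → Subgroup G) (hK : ∀ i, K i ≠ ⊤)
    (hcov : ∀ g : G, (∃ k : ℕ, orderOf g = p ^ k) → ∃ i, g ∈ K i) :
    p + 1 ≤ Fintype.card ι := by
  classical
  by_contra hlt
  obtain ⟨i, hi⟩ := cover_aux _ p Fact.out G rfl ι K
    (by simpa [pGen] using hgen) (by omega) hcov
  exact hK i hi

end Cfsg.Agent.S4182
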