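import Cfsg.Statements.S4184
import Cfsg.Agent.Lib.Perm.CoprimeClassSizes
import Cfsg.Agent.Lib.Solv.Parts

set_option autoImplicit false
open Cfsg

namespace Cfsg.Agent.S4184

open Cfsg.Agent.Perm.CoprimeSizes

universe u

/-- `n` contains the full `A`-part of `N`. -/
def Full (A : Set ℕ) (N n : ℕ) : Prop :=
  ∀ r : ℕ, r.Prime → r ∈ A → n.factorization r = N.factorization r

section Source

variable {M : Type u} [Group M] [Finite M]

/-- A set of primes separated from its complement in the prime graph. -/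
def Split (A : Set ℕ) (M : Type u) [Group M] : Prop :=
  ∀ a ∈ A, ∀ b ∉ A, a.Prime → b.Prime → a ∣ Nat.card M → b ∣ Nat.card M → ¬ ∃ x : M, orderOf x = a * b

theorem full_or_full {A : Set ℕ} (hA : Split A M) {x : M} (hx : x ≠ 1) :
    Full A (Nat.card M) (cls x) ∨ Full Aᶜ (Nat.card M) (cls x) := by
  obtain ⟨r, hr, hrx⟩ := Nat.exists_prime_and_dvd (fun h => hx (orderOf_eq_one_iff.1 h))
  have key : ∀ s : ℕ, s.Prime → ¬ (r ∈ A ↔ s ∈ A) →
      (cls x).factorization s = (Nat.card M).factorization s := by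
    intro s hs hne
    haveI := Fact.mk hs
    have h1 : ¬ s ∣ Nat.card (cent x) := by
      intro hd
      obtain ⟨y, hy⟩ := exists_prime_orderOf_dvd_card' s hd
      have hr0 : orderOf (x ^ (orderOf x / r)) = r :=
        orderOf_pow_orderOf_div (orderOf_pos x).ne' hrx
      have hy' : orderOf (y : M) = s := by rw [Subgroup.orderOf_coe, hy]
      have hne' : r ≠ s := fun e => hne (e ▸ Iff.rfl)
      have hc : Commute (x ^ (orderOf x / r)) (y : M) :=
        (show Commute (y : M) x from mem_cent.1 y.2).symm.pow_left _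
      have ho : orderOf (x ^ (orderOf x / r) * (y : M)) = r * s := by
        rw [hc.orderOf_mul_eq_mul_orderOf_of_coprime
          (by rw [hr0, hy']; exact (Nat.coprime_primes hr hs).2 hne'), hr0, hy']
      have hdr : r ∣ Nat.card M := hrx.trans (orderOf_dvd_natCard x)
      have hds : s ∣ Nat.card M := hd.trans (Subgroup.card_subgroup_dvd_card _)
      by_cases hrA : r ∈ A
      · exact hA r hrA s (fun h => hne (iff_of_true hrA h)) hr hs hdr hds ⟨_, ho⟩
      · exact hA s (by_contra fun h => hne (iff_of_false hrA h)) r hrA hs hr hds hdr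
          ⟨_, ho.trans (mul_comm r s)⟩
    conv_rhs => rw [← Subgroup.card_mul_index (cent x), Nat.factorization_mul Nat.card_pos.ne'
      Subgroup.index_ne_zero_of_finite, Finsupp.add_apply, Nat.factorization_eq_zero_of_not_dvd h1, zero_add]
  by_cases hrA : r ∈ A
  · exact Or.inr fun s hs hsA => key s hs fun h => hsA (h.1 hrA)
  · exact Or.inl fun s hs hsA => key s hs fun h => hrA (h.2 hsA)

theorem not_both {A : Set ℕ} {x : M} (hx : x ≠ 1) (h1 : Full A (Nat.card M) (cls x))
    (h2 : Full Aᶜ (Nat.card M) (cls x)) : False := by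
  have he : cls x = Nat.card M := Nat.eq_of_factorization_eq (cls_pos x).ne' Nat.card_pos.ne' fun r => by
    by_cases hr : r.Prime
    · by_cases hrA : r ∈ A
      · exact h1 r hr hrA
      · exact h2 r hr hrA
    · rw [Nat.factorization_eq_zero_of_not_prime _ hr, Nat.factorization_eq_zero_of_not_prime _ hr]
  have hc := Subgroup.card_mul_index (cent x)
  rw [show (cent x).index = Nat.card M from he] at hc
  have hb := Subgroup.card_eq_one.1 ((Nat.mul_eq_right Nat.card_pos.ne').1 hc)
  exact hx (Subgroup.mem_bot.1 (hb ▸ self_mem_cent x))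

end Source

variable {G : Type u} [Group G] [Finite G]

theorem cls_eq_one_imp (hZ : Subgroup.center G = ⊥) {x : G} (h : cls x = 1) : x = 1 := by
  rw [cls_eq_one_iff, hZ, Subgroup.mem_bot] at h; exact h

/-- The `p`-part of `|G|` does not exceed `N`'s, if `p` divides some class size. -/
theorem fac_le (A : Set ℕ) (N : ℕ) (hN0 : N ≠ 0) (hZ : Subgroup.center G = ⊥)
    (hdvd : ∀ x : G, cls x ∣ N) (hor : ∀ x : G, x ≠ 1 → Full A N (cls x) ∨ Full Aᶜ N (cls x))
    (hnb : ∀ x : G, x ≠ 1 → Full A N (cls x) → Full Aᶜ N (cls x) → False)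
    {q : ℕ} (hq : q.Prime) (hqA : q ∉ A) (hqN : q ∣ N) (hqG : q ∣ Nat.card G)
    {p : ℕ} (hp : p.Prime) (hpA : p ∈ A) (hpN : p ∣ N) :
    (Nat.card G).factorization p ≤ N.factorization p := by
  haveI := Fact.mk hq
  haveI := Fact.mk hp
  by_contra hlt
  push Not at hlt
  obtain ⟨Q⟩ : Nonempty (Sylow q G) := inferInstance
  haveI : Nontrivial (Q : Subgroup G) := (Subgroup.nontrivial_iff_ne_bot _).2 (Q.ne_bot_of_dvd_card hqG)
  haveI := Q.2.center_nontrivial
  obtain ⟨c, hc⟩ := exists_ne (1 : Subgroup.center (Q : Subgroup G))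
  set z : G := ((c : (Q : Subgroup G)) : G) with hz
  have hz1 : z ≠ 1 := fun h => hc (Subtype.ext (Subtype.ext h))
  have hzq : ¬ q ∣ cls z := fun hd => Q.not_dvd_index (hd.trans (Subgroup.index_dvd_of_le fun y hy =>
    mem_cent.2 (congrArg Subtype.val (Subgroup.mem_center_iff.1 c.2 ⟨y, hy⟩))))
  have hzA : Full A N (cls z) := by
    refine (hor z hz1).resolve_right fun h => hzq ?_
    have h1 := h q hq hqA
    exact Nat.dvd_of_factorization_pos (by rw [h1]; exact (hq.factorization_pos_of_dvd hN0 hqN).ne')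
  have hsplit : ∀ x : G, Full A N (cls x) → (Nat.card (cent x)).factorization p =
      (Nat.card G).factorization p - N.factorization p := by
    intro x hx
    rw [← hx p hp hpA, ← Subgroup.card_mul_index (cent x), Nat.factorization_mul Nat.card_pos.ne'
      Subgroup.index_ne_zero_of_finite, Finsupp.add_apply]
    exact (Nat.add_sub_cancel _ _).symm
  obtain ⟨T0⟩ : Nonempty (Sylow p (cent z)) := inferInstance
  set T := (T0 : Subgroup (cent z)).map (cent z).subtype with hT
  have hTc : Nat.card T = p ^ ((Nat.card G).factorization p - N.factorization p) := by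
    rw [hT, Subgroup.card_subtype, T0.card_eq_multiplicity, hsplit z hzA]
  obtain ⟨P, hP⟩ := (T0.2.map (cent z).subtype).exists_le_sylow
  -- `T` is a proper subgroup of `P`, normal in a larger subgroup `R`
  have hTne : T.subgroupOf (P : Subgroup G) ≠ ⊤ := by
    intro h
    have h1 := Subgroup.card_le_of_le (Subgroup.subgroupOf_eq_top.1 h)
    rw [hTc, P.card_eq_multiplicity, Nat.pow_le_pow_iff_right hp.one_lt] at h1
    have := hp.factorization_pos_of_dvd hN0 hpN
    omega
  haveI := P.2.isNilpotent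
  have hlt' := Group.normalizerCondition_of_isNilpotent (T.subgroupOf (P : Subgroup G)) (lt_top_iff_ne_top.2 hTne)
  set R := Subgroup.normalizer ((T.subgroupOf (P : Subgroup G)) : Set (P : Subgroup G)) with hR
  haveI : ((T.subgroupOf (P : Subgroup G)).subgroupOf R).Normal := Subgroup.normal_subgroupOf_of_le_normalizer le_rfl
  have hT1 : (T.subgroupOf (P : Subgroup G)).subgroupOf R ≠ ⊥ := by
    intro h
    have h1 := Nat.card_congr (Subgroup.subgroupOfEquivOfLe hlt'.le).toEquiv
    rw [h, Subgroup.card_bot, Nat.card_congr (Subgroup.subgroupOfEquivOfLe hP).toEquiv, hTc] at h1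
    have h2 := Nat.one_lt_pow (Nat.sub_ne_zero_of_lt hlt) hp.one_lt
    omega
  obtain ⟨u', hu', hu'1, hu'c⟩ : ∃ u : R, u ∈ (T.subgroupOf (P : Subgroup G)).subgroupOf R ∧ u ≠ 1 ∧
      u ∈ Subgroup.center R := by
    set T' := (T.subgroupOf (P : Subgroup G)).subgroupOf R
    have hRp : IsPGroup p R := P.2.to_subgroup R
    obtain ⟨k, hk⟩ := IsPGroup.iff_card.1 (hRp.to_subgroup T')
    have hk0 : k ≠ 0 := fun h0 => hT1 (Subgroup.eq_bot_of_card_eq _ (by rw [hk, h0, pow_zero]))
    have hR' : IsPGroup p (ConjAct R) := hRp.of_equiv ConjAct.toConjAct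
    obtain ⟨w, hw, hw1⟩ := hR'.exists_fixed_point_of_prime_dvd_card_of_fixed_point ↥T'
      (hk ▸ dvd_pow_self p hk0) (a := 1) (fun g => smul_one g)
    refine ⟨w, w.2, fun h => hw1 (Subtype.ext h.symm), Subgroup.mem_center_iff.2 fun y => ?_⟩
    have h1 : y * (w : R) * y⁻¹ = w := congrArg Subtype.val (hw (ConjAct.toConjAct y))
    exact mul_inv_eq_iff_eq_mul.1 h1
  set u : G := ((u' : (P : Subgroup G)) : G) with hu
  have huT : u ∈ T := Subgroup.mem_subgroupOf.1 (Subgroup.mem_subgroupOf.1 hu')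
  have hu1 : u ≠ 1 := fun h => hu'1 (Subtype.ext (Subtype.ext h))
  have hcz : Commute z u := (mem_cent.1 (Subgroup.map_subtype_le _ huT)).symm
  have hzqp : (orderOf z).Coprime (orderOf u) := by
    obtain ⟨i, hi⟩ := IsPGroup.iff_orderOf.1 Q.2 (c : (Q : Subgroup G))
    obtain ⟨j, hj⟩ := IsPGroup.iff_orderOf.1 P.2 (u' : (P : Subgroup G))
    rw [hz, hu, Subgroup.orderOf_coe (c : (Q : Subgroup G)), Subgroup.orderOf_coe (u' : (P : Subgroup G)), hi, hj]
    exact Nat.coprime_pow_primes i j hq hp fun e => hqA (e ▸ hpA)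
  have hinf := cent_mul_of_coprime hcz.eq hzqp
  have hzu1 : z * u ≠ 1 := fun h => hz1 (by
    have h1 : z = u⁻¹ := eq_inv_of_mul_eq_one_left h
    have h2 : (orderOf z).Coprime (orderOf z) := by
      conv => arg 2; rw [h1, orderOf_inv]
      exact hzqp
    exact orderOf_eq_one_iff.1 ((Nat.coprime_self _).1 h2))
  have huA : Full A N (cls u) := by
    refine (hor u hu1).resolve_right fun hB => ?_
    have hmono : ∀ w : G, cent (z * u) ≤ cent w → ∀ r : ℕ, (cls w).factorization r = N.factorization r →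
        (cls (z * u)).factorization r = N.factorization r := fun w hw r hr =>
      le_antisymm ((Nat.factorization_le_iff_dvd (cls_pos _).ne' hN0).2 (hdvd _) r)
        (hr ▸ (Nat.factorization_le_iff_dvd (cls_pos w).ne' (cls_pos _).ne').2 (Subgroup.index_dvd_of_le hw) r)
    exact hnb _ hzu1 (fun r hr hrA => hmono z (hinf.trans_le inf_le_left) r (hzA r hr hrA))
      (fun r hr hrA => hmono u (hinf.trans_le inf_le_right) r (hB r hr hrA))
  have hRle : (R.map (P : Subgroup G).subtype) ≤ cent u := by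
    rintro _ ⟨y, hy, rfl⟩
    exact mem_cent.2 (congrArg (fun w : R => ((w : (P : Subgroup G)) : G))
      (Subgroup.mem_center_iff.1 hu'c ⟨y, hy⟩))
  have h1 : Nat.card R ≤ Nat.card T := by
    rw [hTc, ← hsplit u huA]
    obtain ⟨j, hj⟩ := IsPGroup.iff_card.1 (P.2.to_subgroup R)
    rw [hj]
    refine Nat.pow_le_pow_right hp.pos ?_
    rw [← hp.pow_dvd_iff_le_factorization Nat.card_pos.ne', ← hj, ← Subgroup.card_subtype]
    exact Subgroup.card_dvd_of_le hRle
  rw [← Nat.card_congr (Subgroup.subgroupOfEquivOfLe hP).toEquiv] at h1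
  exact hlt'.ne (Subgroup.eq_of_le_of_card_ge hlt'.le h1)

/-- A prime dividing no class size does not divide the order. -/
theorem not_dvd_card (hZ : Subgroup.center G = ⊥) {p : ℕ} (hp : p.Prime) (h : ∀ x : G, ¬ p ∣ cls x) :
    ¬ p ∣ Nat.card G := by
  haveI := Fact.mk hp
  intro hd
  obtain ⟨P⟩ : Nonempty (Sylow p G) := inferInstance
  have htop : Subgroup.centralizer ((P : Subgroup G) : Set G) = ⊤ := by
    refine Solv.eq_top_of_forall_conj_mem _ fun g => ?_
    obtain ⟨T0⟩ : Nonempty (Sylow p (cent g)) := inferInstance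
    let R : Sylow p G := Sylow.ofCard ((T0 : Subgroup (cent g)).map (cent g).subtype) (by
      rw [Subgroup.card_subtype, T0.card_eq_multiplicity, ← Subgroup.card_mul_index (cent g),
        Nat.factorization_mul Nat.card_pos.ne' (cls_pos g).ne', Finsupp.add_apply,
        Nat.factorization_eq_zero_of_not_dvd (h g), add_zero])
    obtain ⟨c, hc⟩ := MulAction.exists_smul_eq G R P
    refine ⟨c, Subgroup.mem_centralizer_iff.2 fun w hw => ?_⟩
    have hw' : w ∈ ((c • R : Sylow p G) : Subgroup G) := by rw [hc]; exact hw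
    rw [Sylow.coe_subgroup_smul] at hw'
    obtain ⟨y, hy, rfl⟩ := hw'
    have h3 := mem_cent.1 (Subgroup.map_subtype_le _ hy)
    show (c * y * c⁻¹) * (c * g * c⁻¹) = (c * g * c⁻¹) * (c * y * c⁻¹)
    calc (c * y * c⁻¹) * (c * g * c⁻¹) = c * (y * g) * c⁻¹ := by group
      _ = (c * g * c⁻¹) * (c * y * c⁻¹) := by rw [h3]; group
  refine P.ne_bot_of_dvd_card hd (eq_bot_iff.2 fun y hy => ?_)
  rw [← hZ, Subgroup.mem_center_iff]
  intro g
  exact (Subgroup.mem_centralizer_iff.1 (htop ▸ Subgroup.mem_top g) y hy).symm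


/-- Let G and M be finite groups with trivial centres and the same set of conjugacy class sizes, and suppose the prime graph of M is disconnected: the prime divisors of #M split into two non-empty parts such that M has no element of order pq with p in one part and q in the other. Then #G = #M. -/
theorem result {G M : Type*}
    [Group G] [Finite G] [Group M] [Finite M] (hZG : Subgroup.center G = ⊥) (hZM : Subgroup.center M = ⊥)
    (h : Set.range (fun g : G => (Subgroup.centralizer ({g} : Set G)).index) = Set.range (fun g : M => (Subgroup.centralizer ({g} : Set M)).index))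
    (hdisc : ∃ A : Set ℕ, (∃ a ∈ A, a.Prime ∧ a ∣ Nat.card M) ∧ (∃ b ∉ A, b.Prime ∧ b ∣ Nat.card M) ∧
      ∀ a ∈ A, ∀ b ∉ A, a.Prime → b.Prime → a ∣ Nat.card M → b ∣ Nat.card M → ¬ ∃ x : M, orderOf x = a * b) :
    Nat.card G = Nat.card M := by
  obtain ⟨A, ⟨a, haA, hap, haM⟩, ⟨b, hbA, hbp, hbM⟩, hA⟩ := hdisc
  have hGM : ∀ x : G, ∃ y : M, cls y = cls x := fun x => by
    obtain ⟨y, hy⟩ : (Subgroup.centralizer ({x} : Set G)).index ∈
        Set.range (fun g : M => (Subgroup.centralizer ({g} : Set M)).index) := h ▸ ⟨x, rfl⟩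
    exact ⟨y, hy⟩
  have hMG : ∀ y : M, ∃ x : G, cls x = cls y := fun y => by
    obtain ⟨x, hx⟩ : (Subgroup.centralizer ({y} : Set M)).index ∈
        Set.range (fun g : G => (Subgroup.centralizer ({g} : Set G)).index) := h.symm ▸ ⟨y, rfl⟩
    exact ⟨x, hx⟩
  have hne : ∀ (x : G) (y : M), cls y = cls x → x ≠ 1 → y ≠ 1 := fun x y hxy hx hy => hx (cls_eq_one_imp hZG
    (by rw [← hxy, cls_eq_one_iff, hy]; exact one_mem _))
  have hdvd : ∀ x : G, cls x ∣ Nat.card M := fun x => by
    obtain ⟨y, hy⟩ := hGM x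
    rw [← hy]; exact Subgroup.index_dvd_card _
  have hor : ∀ x : G, x ≠ 1 → Full A (Nat.card M) (cls x) ∨ Full Aᶜ (Nat.card M) (cls x) := fun x hx => by
    obtain ⟨y, hy⟩ := hGM x
    rw [← hy]; exact full_or_full hA (hne x y hy hx)
  have hnb : ∀ x : G, x ≠ 1 → Full A (Nat.card M) (cls x) → Full Aᶜ (Nat.card M) (cls x) → False := by
    intro x hx h1 h2
    obtain ⟨y, hy⟩ := hGM x
    rw [← hy] at h1 h2
    exact not_both (hne x y hy hx) h1 h2
  -- every prime divisor of `|M|` divides a class size, with the full power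
  have hex : ∀ p : ℕ, p.Prime → p ∣ Nat.card M →
      ∃ x : G, (cls x).factorization p = (Nat.card M).factorization p := by
    intro p hp hpM
    obtain ⟨r, hr, hrM, hne'⟩ : ∃ r : ℕ, r.Prime ∧ r ∣ Nat.card M ∧ ¬ (r ∈ A ↔ p ∈ A) := by
      by_cases hpA : p ∈ A
      · exact ⟨b, hbp, hbM, fun e => hbA (e.2 hpA)⟩
      · exact ⟨a, hap, haM, fun e => hpA (e.1 haA)⟩
    haveI := Fact.mk hr
    obtain ⟨y, hy⟩ := exists_prime_orderOf_dvd_card' r hrM
    have hy1 : y ≠ 1 := fun e => hr.ne_one (by rw [← hy, e, orderOf_one])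
    obtain ⟨x, hx⟩ := hMG y
    refine ⟨x, ?_⟩
    rw [hx]
    by_contra hcon
    -- otherwise `p` divides the centralizer of `y`
    haveI := Fact.mk hp
    have hd : p ∣ Nat.card (cent y) := by
      refine Nat.dvd_of_factorization_pos fun h0 => hcon ?_
      conv_rhs => rw [← Subgroup.card_mul_index (cent y), Nat.factorization_mul Nat.card_pos.ne'
        Subgroup.index_ne_zero_of_finite, Finsupp.add_apply, h0, zero_add]
    obtain ⟨w, hw⟩ := exists_prime_orderOf_dvd_card' p hd
    have hw' : orderOf (w : M) = p := by rw [Subgroup.orderOf_coe, hw]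
    have ho : orderOf (y * (w : M)) = r * p := by
      rw [(show Commute (w : M) y from mem_cent.1 w.2).symm.orderOf_mul_eq_mul_orderOf_of_coprime
        (by rw [hy, hw']; exact (Nat.coprime_primes hr hp).2 fun e => hne' (e ▸ Iff.rfl)), hy, hw']
    by_cases hrA : r ∈ A
    · exact hA r hrA p (fun e => hne' (iff_of_true hrA e)) hr hp hrM hpM ⟨_, ho⟩
    · exact hA p (by_contra fun e => hne' (iff_of_false hrA e)) r hrA hp hr hpM hrM ⟨_, ho.trans (mul_comm r p)⟩
  have hin : ∀ p : ℕ, p.Prime → p ∣ Nat.card M → p ∣ Nat.card G := by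
    intro p hp hpM
    obtain ⟨x, hx⟩ := hex p hp hpM
    exact (Nat.dvd_of_factorization_pos (by rw [hx]; exact (hp.factorization_pos_of_dvd Nat.card_pos.ne' hpM).ne')).trans
      (Subgroup.index_dvd_card _)
  refine Nat.eq_of_factorization_eq Nat.card_pos.ne' Nat.card_pos.ne' fun p => ?_
  by_cases hp : p.Prime
  swap
  · rw [Nat.factorization_eq_zero_of_not_prime _ hp, Nat.factorization_eq_zero_of_not_prime _ hp]
  by_cases hpM : p ∣ Nat.card M
  · refine le_antisymm ?_ ?_
    · by_cases hpA : p ∈ A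
      · exact fac_le A _ Nat.card_pos.ne' hZG hdvd hor hnb hbp hbA hbM (hin b hbp hbM) hp hpA hpM
      · refine fac_le Aᶜ _ Nat.card_pos.ne' hZG hdvd (fun x hx => ?_) (fun x hx h1 h2 => ?_) hap
          (fun e => e haA) haM (hin a hap haM) hp hpA hpM
        · rw [compl_compl]; exact (hor x hx).symm
        · rw [compl_compl] at h2; exact hnb x hx h2 h1
    · obtain ⟨x, hx⟩ := hex p hp hpM
      rw [← hx]
      exact (Nat.factorization_le_iff_dvd (cls_pos x).ne' Nat.card_pos.ne').2 (Subgroup.index_dvd_card _) p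
  · have h1 := not_dvd_card hZG hp fun x hd => hpM (hd.trans (hdvd x))
    rw [Nat.factorization_eq_zero_of_not_dvd hpM, Nat.factorization_eq_zero_of_not_dvd h1]

end Cfsg.Agent.S4184
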