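import Cfsg.Statements.S4186


set_option autoImplicit false
open Cfsg

namespace Cfsg.Agent.S4186

/-- Let T and X be subgroups of a group with T a finite 2-group normalizing X but not centralizing it. Then some element of T inverts some non-identity element of X under conjugation. -/
theorem result {G : Type*} [Group G] (T X : Subgroup G) [Finite ↥T] (hT : IsPGroup 2 ↥T) (hTN : T ≤ Subgroup.normalizer (X : Set G)) (hTC : ¬ T ≤ Subgroup.centralizer (X : Set G)) : ∃ t ∈ T, ∃ x ∈ X, x ≠ 1 ∧ t * x * t⁻¹ = x⁻¹ := by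
  classical
  obtain ⟨t, ht, htC⟩ : ∃ t ∈ T, t ∉ Subgroup.centralizer (X : Set G) := by
    by_contra h
    push Not at h
    exact hTC h
  obtain ⟨k, hk⟩ := hT ⟨t, ht⟩
  have hk' : t ^ 2 ^ k = 1 := congrArg Subtype.val hk
  obtain ⟨s, hs, hsC, hs2⟩ : ∃ s ∈ T, s ∉ Subgroup.centralizer (X : Set G) ∧
      s * s ∈ Subgroup.centralizer (X : Set G) := by
    have hex : ∃ j, t ^ 2 ^ j ∈ Subgroup.centralizer (X : Set G) := ⟨k, hk' ▸ one_mem _⟩
    obtain ⟨j, hj⟩ : ∃ j, Nat.find hex = j + 1 := by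
      refine Nat.exists_eq_succ_of_ne_zero fun h0 => htC ?_
      have := Nat.find_spec hex
      rwa [h0, pow_zero, pow_one] at this
    refine ⟨t ^ 2 ^ j, pow_mem ht _, Nat.find_min hex (by omega), ?_⟩
    have := Nat.find_spec hex
    rwa [hj, pow_succ, mul_two, pow_add] at this
  obtain ⟨x, hx, hne⟩ : ∃ x ∈ X, s * x * s⁻¹ ≠ x := by
    by_contra h
    push Not at h
    exact hsC (Subgroup.mem_centralizer_iff.2 fun x hx => (mul_inv_eq_iff_eq_mul.1 (h x hx)).symm)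
  have hsx : s * x * s⁻¹ ∈ X := (Subgroup.mem_normalizer_iff.1 (hTN hs) x).1 hx
  refine ⟨s, hs, x⁻¹ * (s * x * s⁻¹), mul_mem (inv_mem hx) hsx, fun e => hne (inv_mul_eq_one.1 e).symm, ?_⟩
  have hss : s * s * x * (s * s)⁻¹ = x :=
    mul_inv_eq_iff_eq_mul.2 (Subgroup.mem_centralizer_iff.1 hs2 x hx).symm
  rw [show s * (x⁻¹ * (s * x * s⁻¹)) * s⁻¹ = (s * x * s⁻¹)⁻¹ * (s * s * x * (s * s)⁻¹) by group, hss]
  group

end Cfsg.Agent.S4186
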