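import Cfsg.Agent.S4417
import Cfsg.Agent.S3761
import Cfsg.Agent.S0015
import Cfsg.Agent.Lib.Solv.PGroupPhi
import Cfsg.Agent.Lib.Solv.Component
import Mathlib

/-!
# Generators of a linear 2-group in odd characteristic

A faithful 2-group `X` on an `n`-dimensional space over the prime field with `q` elements has
`[X : Φ(X)] ≤ 2 ^ h(q, n)` with `h(3, n) = (3n - 1)/2` and `h(q, n) = 2n - 1` otherwise.
-/

set_option autoImplicit false
set_option linter.style.haveILetI false
open Cfsg
open scoped commutatorElement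

namespace Cfsg.Agent.S4188

universe u w

/-- The Frattini index is submultiplicative along a normal subgroup. -/
theorem index_le {X : Type u} [Group X] [Finite X] {p : ℕ} [Fact p.Prime] (hX : IsPGroup p X) (K : Subgroup X)
    [K.Normal] : (frattini X).index ≤ (frattini (X ⧸ K)).index * (frattini K).index := by
  have hQ : frattini (X ⧸ K) ≤ (frattini X).map (QuotientGroup.mk' K) := by
    haveI : ((frattini X).map (QuotientGroup.mk' K)).Normal :=
      (inferInstance : (frattini X).Normal).map _ (QuotientGroup.mk'_surjective K)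
    refine Solv.frattini_le (p := p) _ (fun a b => ?_) (fun a => ?_)
    · obtain ⟨a, rfl⟩ := QuotientGroup.mk'_surjective K a
      obtain ⟨b, rfl⟩ := QuotientGroup.mk'_surjective K b
      rw [← map_commutatorElement]
      exact Subgroup.mem_map_of_mem _ (Solv.commutatorElement_mem_frattini hX a b)
    · obtain ⟨a, rfl⟩ := QuotientGroup.mk'_surjective K a
      rw [← map_pow]
      exact Subgroup.mem_map_of_mem _ (Solv.pow_mem_frattini hX a)
  have hK : frattini K ≤ (frattini X).subgroupOf K :=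
    Solv.frattini_le (p := p) _ (fun a b => Solv.commutatorElement_mem_frattini hX (a : X) b)
      (fun a => Solv.pow_mem_frattini hX (a : X))
  have h1 : ((frattini X).map (QuotientGroup.mk' K)).index ≤ (frattini (X ⧸ K)).index :=
    Nat.le_of_dvd (Nat.pos_of_ne_zero Subgroup.index_ne_zero_of_finite) (Subgroup.index_dvd_of_le hQ)
  have h2 : ((frattini X).subgroupOf K).index ≤ (frattini K).index :=
    Nat.le_of_dvd (Nat.pos_of_ne_zero Subgroup.index_ne_zero_of_finite) (Subgroup.index_dvd_of_le hK)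
  rw [Subgroup.index_map, MonoidHom.range_eq_top.2 (QuotientGroup.mk'_surjective K), Subgroup.index_top, mul_one,
    QuotientGroup.ker_mk'] at h1
  calc (frattini X).index = (frattini X).relIndex (frattini X ⊔ K) * (frattini X ⊔ K).index :=
        (Subgroup.relIndex_mul_index le_sup_left).symm
    _ = (frattini X).relIndex K * (frattini X ⊔ K).index := by rw [Subgroup.relIndex_sup_left]
    _ ≤ _ := by rw [mul_comm]; exact Nat.mul_le_mul h1 h2

theorem index_le_two_of_cyclic {X : Type u} [Group X] [Finite X] (hX : IsPGroup 2 X) [IsCyclic X] :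
    (frattini X).index ≤ 2 := by
  obtain ⟨x, hx⟩ := IsCyclic.exists_generator (α := X)
  set F := frattini X
  have hgen : ∀ y : X ⧸ F, y ∈ Subgroup.zpowers (QuotientGroup.mk x : X ⧸ F) := fun y => by
    obtain ⟨y, rfl⟩ := QuotientGroup.mk_surjective y
    obtain ⟨k, rfl⟩ := hx y
    exact ⟨k, (QuotientGroup.mk_zpow F x k).symm⟩
  rw [Subgroup.index_eq_card, ← orderOf_eq_card_of_forall_mem_zpowers hgen]
  refine Nat.le_of_dvd (by norm_num) (orderOf_dvd_of_pow_eq_one ?_)
  rw [← QuotientGroup.mk_pow, QuotientGroup.eq_one_iff]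
  exact Solv.pow_mem_frattini hX x

/-- A 2-group in which every abelian normal subgroup is cyclic has a cyclic self-centralizing subgroup of
index at most 2. -/
theorem cyclic_index_two {X : Type u} [Group X] [Finite X] (hX : IsPGroup 2 X)
    (hn : ∀ A : Subgroup X, A.Normal → IsMulCommutative A → IsCyclic A) :
    ∃ A : Subgroup X, A.Normal ∧ IsCyclic A ∧ Subgroup.centralizer (A : Set X) = A ∧ A.index ≤ 2 := by
  haveI : Group.IsNilpotent X := hX.isNilpotent
  obtain ⟨A, -, hA⟩ := Finite.exists_le_maximal (p := fun A : Subgroup X => A.Normal ∧ IsMulCommutative A)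
    (a := (⊥ : Subgroup X)) ⟨inferInstance, inferInstance⟩
  haveI := hA.1.1
  haveI := hA.1.2
  have hc := hn A hA.1.1 hA.1.2
  have hC := Cfsg.Agent.S0015.result A fun M hM hMc hle => le_antisymm (hA.2 ⟨hM, hMc⟩ hle) hle
  refine ⟨A, inferInstance, hc, hC, ?_⟩
  by_cases hab : IsMulCommutative X
  · have htop : A = ⊤ := by
      rw [← hC, eq_top_iff]
      exact fun x _ => Subgroup.mem_centralizer_iff.2 fun a _ => (hab.is_comm.comm a x)
    rw [htop, Subgroup.index_top]; norm_num
  obtain ⟨k, hk⟩ := IsPGroup.iff_card.1 (hX.to_subgroup A)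
  rcases Cfsg.Agent.S3761.result hX hab A hc k hk hC with ⟨-, hcard, -⟩ | ⟨-, hel, hc4, hch⟩
  · have h1 := A.card_mul_index
    rw [hcard, hk, pow_succ] at h1
    exact (Nat.eq_of_mul_eq_mul_left (by positivity) h1).le
  · exfalso
    haveI := hch
    haveI := hn _ (Subgroup.normal_of_characteristic _) hel.1
    obtain ⟨x, hx⟩ := IsCyclic.exists_generator
      (α := Cfsg.omegaOne 2 (Subgroup.centralizer (Cfsg.powerClosure 2 1 A : Set X)))
    have h3 : orderOf x ∣ 2 := orderOf_dvd_of_pow_eq_one (Subtype.ext (hel.2 x x.2))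
    rw [orderOf_eq_card_of_forall_mem_zpowers hx, hc4] at h3
    norm_num at h3

/-- The exponent of the bound. -/
def bnd (q n : ℕ) : ℕ := if q = 3 then (3 * n - 1) / 2 else 2 * n - 1

theorem bnd_add (q : ℕ) {a b : ℕ} (ha : 1 ≤ a) (hb : 1 ≤ b) : bnd q a + bnd q b ≤ bnd q (a + b) := by
  unfold bnd; split_ifs <;> omega

theorem bnd_double (q m : ℕ) (h : q ≠ 3 ∨ Even m) (hm : 1 ≤ m) : 2 * bnd q m + 1 ≤ bnd q (2 * m) := by
  unfold bnd
  split_ifs with hq
  · obtain ⟨k, rfl⟩ := h.resolve_left (fun h => h hq)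
    omega
  · omega

theorem bnd_split {a b : ℕ} (hb : 1 ≤ b) (ha : 1 ≤ a) (hodd : Odd (a + b)) :
    bnd 3 a + bnd 3 b + 1 ≤ bnd 3 (a + b) := by
  obtain ⟨k, hk⟩ := hodd
  unfold bnd
  rw [if_pos rfl, if_pos rfl, if_pos rfl]
  omega

variable {q : ℕ} [Fact q.Prime]

/-- The number of points of the space. -/
theorem card_space {V : Type w} [AddCommGroup V] [Module (ZMod q) V] [Finite V] :
    Nat.card V = q ^ Module.finrank (ZMod q) V := by
  haveI : FiniteDimensional (ZMod q) V := Module.Finite.of_finite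
  rw [Module.natCard_eq_pow_finrank (K := ZMod q), Nat.card_zmod]

/-- An irreducible action of a group whose squares are trivial and commute has at most two elements. -/
theorem elementary_irr (hq2 : q ≠ 2) {X : Type u} [Group X] {V : Type w} [AddCommGroup V] [Module (ZMod q) V]
    (ρ : Representation (ZMod q) X V) (hf : ∀ g, ρ g = 1 → g = 1)
    (hirr : ∀ U : Submodule (ZMod q) V, (∀ a, ∀ x ∈ U, ρ a x ∈ U) → U = ⊥ ∨ U = ⊤)
    (z : X) (hz2 : z ^ 2 = 1) (hzc : ∀ a, a * z = z * a) (hz1 : z ≠ 1) : ∀ x, ρ z x = -x := by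
  have hU : ∀ a, ∀ x ∈ LinearMap.ker (ρ z - 1), ρ a x ∈ LinearMap.ker (ρ z - 1) := by
    intro a x hx
    rw [LinearMap.mem_ker, LinearMap.sub_apply, sub_eq_zero, Module.End.one_apply] at hx ⊢
    rw [← Module.End.mul_apply, ← map_mul, ← hzc, map_mul, Module.End.mul_apply, hx]
  intro x
  have hzz : ρ z (ρ z x) = x := by rw [← Module.End.mul_apply, ← map_mul, ← pow_two, hz2, map_one]; rfl
  rcases hirr _ hU with h | h
  · have h1 : x + ρ z x ∈ LinearMap.ker (ρ z - 1) := by
      rw [LinearMap.mem_ker, LinearMap.sub_apply, map_add, hzz, Module.End.one_apply]; abel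
    rw [h, Submodule.mem_bot] at h1
    exact eq_neg_of_add_eq_zero_right h1
  · exact absurd (hf z (LinearMap.ext fun y => by
      have hy : y ∈ LinearMap.ker (ρ z - 1) := h ▸ Submodule.mem_top
      rwa [LinearMap.mem_ker, LinearMap.sub_apply, sub_eq_zero] at hy)) hz1

/-- An irreducible space is the sum of two conjugate blocks of an index-2 stabilizer. -/
theorem double {X : Type u} [Group X] {V : Type w} [AddCommGroup V] [Module (ZMod q) V]
    [FiniteDimensional (ZMod q) V] (ρ : Representation (ZMod q) X V)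
    (hirr : ∀ U : Submodule (ZMod q) V, (∀ a, ∀ x ∈ U, ρ a x ∈ U) → U = ⊥ ∨ U = ⊤)
    (M : Subgroup X) [M.Normal] (hMi : M.index = 2) (U : Submodule (ZMod q) V) (hUinv : ∀ a ∈ M, ∀ x ∈ U, ρ a x ∈ U)
    (hU0 : U ≠ ⊥) (hdim : 2 * Module.finrank (ZMod q) U ≤ Module.finrank (ZMod q) V) :
    ∃ t : X, t ∉ M ∧ U ⊔ U.map (ρ t) = ⊤ ∧ Module.finrank (ZMod q) V = 2 * Module.finrank (ZMod q) U ∧
      Module.finrank (ZMod q) (U.map (ρ t)) = Module.finrank (ZMod q) U := by
  obtain ⟨t, ht⟩ : ∃ t, t ∉ M := by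
    by_contra h
    push Not at h
    rw [Subgroup.index_eq_one.2 (eq_top_iff.2 fun x _ => h x)] at hMi
    norm_num at hMi
  have hinj : Function.Injective (ρ t) := fun x y h => by
    have h1 := congrArg (ρ t⁻¹) h
    rwa [← Module.End.mul_apply, ← Module.End.mul_apply, ← map_mul, inv_mul_cancel, map_one] at h1
  have hmul : ∀ a b : X, (a * b ∈ M ↔ (a ∈ M ↔ b ∈ M)) := fun a b => Subgroup.mul_mem_iff_of_index_two hMi
  have htop : U ⊔ U.map (ρ t) = ⊤ := by
    refine (hirr _ fun a x hx => ?_).resolve_left fun h => hU0 (eq_bot_iff.2 (h ▸ le_sup_left))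
    obtain ⟨y, hy, _, ⟨z, hz, rfl⟩, rfl⟩ := Submodule.mem_sup.1 hx
    rw [map_add]
    by_cases ha : a ∈ M
    · refine Submodule.add_mem_sup (hUinv a ha y hy) ⟨ρ (t⁻¹ * a * t) z, hUinv _ ?_ z hz, ?_⟩
      · simpa [mul_assoc] using (inferInstance : M.Normal).conj_mem a ha t⁻¹
      · rw [← Module.End.mul_apply, ← Module.End.mul_apply, ← map_mul, ← map_mul]; group
    · rw [add_comm]
      refine Submodule.add_mem_sup ?_ ⟨ρ (t⁻¹ * a) y, hUinv _ ?_ y hy, ?_⟩
      · rw [← Module.End.mul_apply, ← map_mul]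
        exact hUinv _ ((hmul a t).2 ⟨fun h => absurd h ha, fun h => absurd h ht⟩) z hz
      · exact (hmul _ _).2 ⟨fun h => absurd (by simpa using inv_mem h) ht, fun h => absurd h ha⟩
      · rw [← Module.End.mul_apply, ← map_mul, mul_inv_cancel_left]
  have hmap : Module.finrank (ZMod q) (U.map (ρ t)) = Module.finrank (ZMod q) U :=
    (Submodule.equivMapOfInjective _ hinj U).finrank_eq.symm
  refine ⟨t, ht, htop, ?_, hmap⟩
  have h1 := Submodule.finrank_add_le_finrank_add_finrank U (U.map (ρ t))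
  rw [htop, finrank_top, hmap] at h1
  omega

/-- Over the field with three elements an irreducible 2-group in odd dimension has dimension one. -/
theorem odd_irr {X : Type u} [Group X] [Finite X] (hX : IsPGroup 2 X) {V : Type w} [AddCommGroup V]
    [Module (ZMod 3) V] [Finite V] (ρ : Representation (ZMod 3) X V) (hf : ∀ g, ρ g = 1 → g = 1)
    (hirr : ∀ U : Submodule (ZMod 3) V, (∀ a, ∀ x ∈ U, ρ a x ∈ U) → U = ⊥ ∨ U = ⊤)
    (hodd : Odd (Module.finrank (ZMod 3) V)) : Module.finrank (ZMod 3) V = 1 := by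
  haveI : FiniteDimensional (ZMod 3) V := Module.Finite.of_finite
  set n := Module.finrank (ZMod 3) V with hn
  have hV : ¬ Subsingleton V := fun h => by
    rw [hn, Module.finrank_zero_of_subsingleton] at hodd
    exact absurd hodd (by decide)
  -- no element squares to `-1`
  have hsq : ∀ b : X, ¬ ∀ x, ρ b (ρ b x) = -x := fun b hb => by
    have h1 : LinearMap.det (ρ b) * LinearMap.det (ρ b) = (-1) ^ n := by
      rw [← LinearMap.det_comp, hn,
        show (ρ b).comp (ρ b) = (-1 : ZMod 3) • (LinearMap.id : V →ₗ[ZMod 3] V) from LinearMap.ext fun x => by simp [hb x],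
        LinearMap.det_smul, LinearMap.det_id, mul_one]
    rw [hodd.neg_one_pow] at h1
    revert h1
    generalize LinearMap.det (ρ b) = d
    revert d
    decide
  by_cases hnab : ∀ A : Subgroup X, A.Normal → IsMulCommutative A → IsCyclic A
  · obtain ⟨A, hAn, hAc, hC, -⟩ := cyclic_index_two hX hnab
    obtain ⟨a, ha⟩ := IsCyclic.exists_generator (α := A)
    obtain ⟨k, hk⟩ := hX (a : X)
    have hk' : orderOf (a : X) ∣ 2 ^ k := orderOf_dvd_of_pow_eq_one hk
    obtain ⟨j, -, hj⟩ := (Nat.dvd_prime_pow Nat.prime_two).1 hk'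
    have hj1 : j ≤ 1 := by
      by_contra hj2
      obtain ⟨i, rfl⟩ : ∃ i, j = i + 2 := ⟨j - 2, by omega⟩
      set b : X := (a : X) ^ 2 ^ i
      have hb4 : orderOf b = 4 := by
        rw [orderOf_pow_of_dvd (by positivity) (hj ▸ pow_dvd_pow 2 (by omega)), hj, pow_add,
          Nat.mul_div_cancel_left _ (by positivity)]
        norm_num
      have hb2 : orderOf (b ^ 2) = 2 := by rw [orderOf_pow_of_dvd (by norm_num) (by rw [hb4]; norm_num), hb4]
      have hbc : ∀ c : X, c * b ^ 2 = b ^ 2 * c := fun c => by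
        -- the involution of a cyclic normal subgroup is central
        set z := b ^ 2
        have hzA : z ∈ A := pow_mem (pow_mem a.2 _) _
        have hz2 : z ^ 2 = 1 := hb2 ▸ pow_orderOf_eq_one z
        have hw : c * z * c⁻¹ ∈ A := hAn.conj_mem z hzA c
        have hu : ∀ y : A, y ^ 2 = 1 → y = 1 ∨ y = ⟨z, hzA⟩ := by
          intro y hy
          classical
          haveI : Fintype A := Fintype.ofFinite A
          have h2 : (Finset.univ.filter fun y : A => y ^ 2 = 1).card ≤ 2 := IsCyclic.card_pow_eq_one_le (by norm_num)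
          by_contra hne
          push Not at hne
          have h3 : ({1, ⟨z, hzA⟩, y} : Finset A) ⊆ Finset.univ.filter fun y : A => y ^ 2 = 1 := by
            intro v hv
            simp only [Finset.mem_insert, Finset.mem_singleton] at hv
            rcases hv with rfl | rfl | rfl
            · simp
            · exact Finset.mem_filter.2 ⟨Finset.mem_univ _, Subtype.ext hz2⟩
            · simpa using hy
          have hz1 : (⟨z, hzA⟩ : A) ≠ 1 := fun h => by
            rw [show z = 1 from congrArg Subtype.val h, orderOf_one] at hb2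
            norm_num at hb2
          have h4 : ({1, ⟨z, hzA⟩, y} : Finset A).card = 3 := by
            rw [Finset.card_insert_of_notMem (by simp [hz1.symm, Ne.symm hne.1]),
              Finset.card_insert_of_notMem (by simp [Ne.symm hne.2]), Finset.card_singleton]
          have := (Finset.card_le_card h3).trans h2
          omega
        rcases hu ⟨_, hw⟩ (Subtype.ext (by show (c * z * c⁻¹) ^ 2 = 1; rw [conj_pow, hz2]; group)) with h | h
        · have hz1 : z = 1 := by simpa using congrArg Subtype.val h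
          rw [hz1]; simp
        · exact mul_inv_eq_iff_eq_mul.1 (congrArg Subtype.val h)
      exact hsq b fun x => by
        rw [← Module.End.mul_apply, ← map_mul, ← pow_two]
        exact elementary_irr (by norm_num) ρ hf hirr (b ^ 2) (by have := pow_orderOf_eq_one (b ^ 2); rwa [hb2] at this) hbc
          (fun h => by rw [h, orderOf_one] at hb2; norm_num at hb2) x
    -- `A` is generated by a scalar, so every line is invariant
    have ha2 : (a : X) ^ 2 = 1 := orderOf_dvd_iff_pow_eq_one.1 (hj ▸ (pow_dvd_pow 2 hj1))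
    have hac : ∀ c : X, c * a = a * c := fun c => by
      have hw : c * a * c⁻¹ ∈ A := hAn.conj_mem _ a.2 c
      obtain ⟨i, hi⟩ := ha ⟨_, hw⟩
      have hi' : (a : X) ^ i = c * a * c⁻¹ := congrArg Subtype.val hi
      rcases Int.even_or_odd i with ⟨t, rfl⟩ | ⟨t, rfl⟩
      · rw [← two_mul, zpow_mul, zpow_two, ← pow_two, ha2, one_zpow] at hi'
        have h1 : (a : X) = 1 := by simpa using (mul_inv_eq_one.1 hi'.symm)
        rw [h1]; simp
      · rw [zpow_add, zpow_one, zpow_mul, zpow_two, ← pow_two, ha2, one_zpow, one_mul] at hi'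
        exact mul_inv_eq_iff_eq_mul.1 hi'.symm
    have hXA : ∀ c : X, c ∈ A := fun c => by
      rw [← hC]
      refine Subgroup.mem_centralizer_iff.2 fun y hy => ?_
      obtain ⟨i, hi⟩ := ha ⟨y, hy⟩
      rw [← show (a : X) ^ i = y from congrArg Subtype.val hi]
      exact ((Commute.zpow_right (hac c) i).eq).symm
    have hscal : ∀ c : X, ∀ x, ρ c x = x ∨ ρ c x = -x := by
      intro c x
      obtain ⟨i, hi⟩ := ha ⟨c, hXA c⟩
      have hi' : (a : X) ^ i = c := congrArg Subtype.val hi
      have hc2 : c ^ 2 = 1 := by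
        rw [← hi', pow_two, ← zpow_add, ← two_mul, zpow_mul, zpow_two, ← pow_two, ha2, one_zpow]
      rcases eq_or_ne c 1 with rfl | hc1
      · left; rw [map_one]; rfl
      · right
        exact elementary_irr (by norm_num) ρ hf hirr c hc2 (fun d => by
          rw [← hi']; exact (Commute.zpow_right (hac d) i).eq) hc1 x
    obtain ⟨x, hx⟩ : ∃ x : V, x ≠ 0 := by
      by_contra h
      push Not at h
      exact hV ⟨fun a b => by rw [h a, h b]⟩
    rcases hirr (Submodule.span (ZMod 3) {x}) fun c y hy => by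
        rcases hscal c y with h | h <;> rw [h]
        · exact hy
        · exact Submodule.neg_mem _ hy with h | h
    · exact absurd (Submodule.span_singleton_eq_bot.1 h) hx
    · rw [hn, ← finrank_top, ← h, finrank_span_singleton hx]
  · exfalso
    push Not at hnab
    obtain ⟨A, hAn, hAc, hAnc⟩ := hnab
    obtain ⟨g, hg⟩ : ∃ g : X, g ≠ 1 := by
      by_contra h
      push Not at h
      exact hAnc ⟨⟨1, fun a => by rw [show a = 1 from Subtype.ext (h a)]; exact Subgroup.mem_zpowers 1⟩⟩
    obtain ⟨M, hMn, U, -, hUinv, hU0, hdim, -, hMi⟩ := Cfsg.Agent.S4417.exists_block (p := 2)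
      (by rw [ZMod.card]; decide) hX ρ hf n rfl hirr g (fun h => hg (hf g h)) A hAc hAnc
    obtain ⟨t, -, -, ht, -⟩ := double ρ hirr M hMi U hUinv hU0 hdim
    exact Nat.not_even_iff_odd.2 hodd ⟨Module.finrank (ZMod 3) U, by rw [hn, ht, two_mul]⟩

/-- Restriction to two invariant subspaces spanning the space. -/
theorem split_bound {X : Type u} [Group X] [Finite X] (hX : IsPGroup 2 X) {V : Type w} [AddCommGroup V]
    [Module (ZMod q) V] (ρ : Representation (ZMod q) X V) (hf : ∀ g, ρ g = 1 → g = 1)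
    (U W : Submodule (ZMod q) V) (hU : ∀ a, ∀ x ∈ U, ρ a x ∈ U) (hW : ∀ a, ∀ x ∈ W, ρ a x ∈ W) (htop : U ⊔ W = ⊤)
    {α β : ℕ}
    (h1 : ∀ (Y : Type u) [Group Y] [Finite Y], IsPGroup 2 Y → ∀ σ : Representation (ZMod q) Y U,
      (∀ g, σ g = 1 → g = 1) → (frattini Y).index ≤ α)
    (h2 : ∀ (Y : Type u) [Group Y] [Finite Y], IsPGroup 2 Y → ∀ σ : Representation (ZMod q) Y W,
      (∀ g, σ g = 1 → g = 1) → (frattini Y).index ≤ β) :
    (frattini X).index ≤ α * β := by
  let ρU := Cfsg.Agent.S4417.sub ρ U hU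
  let ρW := Cfsg.Agent.S4417.sub ρ W hW
  let K : Subgroup X := MonoidHom.ker (ρU : X →* Module.End (ZMod q) U)
  refine (index_le hX K).trans (Nat.mul_le_mul (h1 (X ⧸ K) (hX.to_quotient K)
    (QuotientGroup.lift K (ρU : X →* Module.End (ZMod q) U) le_rfl) fun g hg => ?_)
    (h2 K (hX.to_subgroup K) (ρW.comp K.subtype) fun g hg => ?_))
  · obtain ⟨a, rfl⟩ := QuotientGroup.mk_surjective g
    exact (QuotientGroup.eq_one_iff a).2 (MonoidHom.mem_ker.2 hg)
  · refine Subtype.ext (hf g (LinearMap.ext fun x => ?_))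
    obtain ⟨y, hy, z, hz, rfl⟩ := Submodule.mem_sup.1 (htop.ge (Submodule.mem_top (x := x)))
    have e1 : ρ (g : X) y = y := congrArg Subtype.val (LinearMap.congr_fun (MonoidHom.mem_ker.1 g.2) (⟨y, hy⟩ : U))
    have e2 : ρ (g : X) z = z := congrArg Subtype.val (LinearMap.congr_fun hg (⟨z, hz⟩ : W))
    rw [map_add, e1, e2]; rfl

/-- Two lines over the field with three elements. -/
theorem small_case {X : Type u} [Group X] [Finite X] (hX : IsPGroup 2 X) {V : Type w} [AddCommGroup V]
    [Module (ZMod 3) V] [Finite V] (ρ : Representation (ZMod 3) X V) (hf : ∀ g, ρ g = 1 → g = 1)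
    (hirr : ∀ U : Submodule (ZMod 3) V, (∀ a, ∀ x ∈ U, ρ a x ∈ U) → U = ⊥ ∨ U = ⊤)
    (M : Subgroup X) (hMi : M.index = 2) (U W : Submodule (ZMod 3) V) (hU : ∀ a ∈ M, ∀ x ∈ U, ρ a x ∈ U)
    (hW : ∀ a ∈ M, ∀ x ∈ W, ρ a x ∈ W) (htop : U ⊔ W = ⊤) (hU1 : Module.finrank (ZMod 3) U = 1)
    (hW1 : Module.finrank (ZMod 3) W = 1) : (frattini X).index ≤ 4 := by
  haveI : FiniteDimensional (ZMod 3) V := Module.Finite.of_finite
  have hsc : ∀ (L : Submodule (ZMod 3) V), Module.finrank (ZMod 3) L = 1 → (∀ a ∈ M, ∀ x ∈ L, ρ a x ∈ L) →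
      ∃ χ : M → ZMod 3, (∀ a, χ a = 1 ∨ χ a = 2) ∧ ∀ a : M, ∀ x ∈ L, ρ a x = χ a • x := by
    intro L hL hinv
    obtain ⟨v, hv0, hv⟩ := finrank_eq_one_iff'.1 hL
    choose χ hχ using fun a : M => hv ⟨ρ (a : X) v, hinv a a.2 v v.2⟩
    refine ⟨χ, fun a => ?_, fun a x hx => ?_⟩
    · have h0 : χ a ≠ 0 := fun h => by
        have h1 := congrArg Subtype.val (hχ a)
        rw [h, zero_smul] at h1
        refine hv0 (Subtype.ext ?_)
        have h2 := congrArg (ρ (a : X)⁻¹) h1
        simp only [map_zero, ZeroMemClass.coe_zero, ← Module.End.mul_apply, ← map_mul, inv_mul_cancel, map_one,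
          Module.End.one_apply] at h2
        exact h2.symm
      revert h0
      generalize χ a = c
      revert c
      decide
    · obtain ⟨c, hc⟩ := hv ⟨x, hx⟩
      rw [show x = c • (v : V) from (congrArg Subtype.val hc).symm, map_smul,
        show ρ (a : X) (v : V) = χ a • (v : V) from (congrArg Subtype.val (hχ a)).symm, smul_comm]
  obtain ⟨χ, hχ12, hχ⟩ := hsc U hU1 hU
  obtain ⟨ψ, hψ12, hψ⟩ := hsc W hW1 hW
  have hinj : Function.Injective fun a : M => (decide (χ a = 1), decide (ψ a = 1)) := by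
    intro a b hab
    simp only [Prod.mk.injEq, decide_eq_decide] at hab
    have e1 : χ a = χ b := by
      rcases hχ12 a with h | h <;> rcases hχ12 b with h' | h' <;> rw [h, h'] at hab ⊢ <;>
        first | exact absurd (hab.1.1 rfl) (by decide) | exact absurd (hab.1.2 rfl) (by decide)
    have e2 : ψ a = ψ b := by
      rcases hψ12 a with h | h <;> rcases hψ12 b with h' | h' <;> rw [h, h'] at hab ⊢ <;>
        first | exact absurd (hab.2.1 rfl) (by decide) | exact absurd (hab.2.2 rfl) (by decide)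
    have h1 : ρ (a : X) = ρ (b : X) := LinearMap.ext fun x => by
      obtain ⟨y, hy, z, hz, rfl⟩ := Submodule.mem_sup.1 (htop.ge (Submodule.mem_top (x := x)))
      rw [map_add, map_add, hχ a y hy, hχ b y hy, hψ a z hz, hψ b z hz, e1, e2]
    refine Subtype.ext (inv_mul_eq_one.1 (hf _ ?_))
    rw [map_mul, ← h1, ← map_mul, inv_mul_cancel, map_one]
  have hM4 : Nat.card M ≤ 4 := (Nat.card_le_card_of_injective _ hinj).trans (by simp)
  have hX8 : Nat.card X ≤ 8 := by rw [← M.card_mul_index, hMi]; omega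
  by_cases hF : frattini X = ⊥
  · -- elementary abelian, so of order at most 2
    rw [hF, Subgroup.index_bot]
    have hsq : ∀ a : X, a ^ 2 = 1 := fun a => by
      have := Solv.pow_mem_frattini hX a
      rwa [hF, Subgroup.mem_bot] at this
    have hc : ∀ a b : X, a * b = b * a := fun a b => by
      have := Solv.commutatorElement_mem_frattini hX a b
      rw [hF, Subgroup.mem_bot] at this
      exact commutatorElement_eq_one_iff_mul_comm.1 this
    classical
    refine (Nat.card_le_card_of_injective (fun a : X => decide (a = 1)) fun a b hab => ?_).trans (by simp)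
    simp only [decide_eq_decide] at hab
    by_cases ha : a = 1
    · rw [ha, hab.1 ha]
    · have hb : b ≠ 1 := fun h => ha (hab.2 h)
      refine inv_mul_eq_one.1 (hf _ (LinearMap.ext fun x => ?_))
      rw [map_mul, Module.End.mul_apply, elementary_irr (by norm_num) ρ hf hirr b (hsq b) (fun c => hc c b) hb,
        elementary_irr (by norm_num) ρ hf hirr a⁻¹ (hsq _) (fun c => hc c _) (inv_ne_one.2 ha), neg_neg]
      rfl
  · have h1 := (frattini X).card_mul_index
    have h2 : 2 ≤ Nat.card (frattini X) := (Subgroup.one_lt_card_iff_ne_bot _).2 hF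
    nlinarith

/-- The bound. -/
theorem main (hq2 : q ≠ 2) : ∀ (n : ℕ) (X : Type u) [Group X] [Finite X], IsPGroup 2 X →
    ∀ (V : Type w) [AddCommGroup V] [Module (ZMod q) V] [Finite V], Module.finrank (ZMod q) V = n →
    ∀ ρ : Representation (ZMod q) X V, (∀ g, ρ g = 1 → g = 1) → (frattini X).index ≤ 2 ^ bnd q n := by
  have hq : q.Prime := Fact.out
  have hq3 : 3 ≤ q := by have := hq.two_le; omega
  have hndvd : ¬ 2 ∣ Fintype.card (ZMod q) := by
    rw [ZMod.card]
    exact fun h => hq2 ((Nat.prime_dvd_prime_iff_eq Nat.prime_two hq).1 h).symm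
  intro n
  induction n using Nat.strong_induction_on with
  | _ n ih =>
  intro X _ _ hX V _ _ _ hn ρ hf
  haveI : FiniteDimensional (ZMod q) V := Module.Finite.of_finite
  by_cases hX1 : ∀ g : X, g = 1
  · haveI : Subsingleton X := ⟨fun a b => by rw [hX1 a, hX1 b]⟩
    rw [Subgroup.index_eq_one.2 (eq_top_iff.2 fun x _ => by rw [hX1 x]; exact Subgroup.one_mem _)]
    exact Nat.one_le_two_pow
  push Not at hX1
  obtain ⟨g, hg⟩ := hX1
  by_cases hirr : ∀ U : Submodule (ZMod q) V, (∀ a, ∀ x ∈ U, ρ a x ∈ U) → U = ⊥ ∨ U = ⊤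
  swap
  · push Not at hirr
    obtain ⟨U, hU, hU0, hU1⟩ := hirr
    obtain ⟨W, hW, hc⟩ := Cfsg.Agent.S4417.exists_invariant_compl hndvd hX ρ U hU
    have hsum : Module.finrank (ZMod q) U + Module.finrank (ZMod q) W = n :=
      (Submodule.finrank_add_eq_of_isCompl hc).trans hn
    have ha : 1 ≤ Module.finrank (ZMod q) U := Submodule.one_le_finrank_iff.2 hU0
    have hb : 1 ≤ Module.finrank (ZMod q) W := Submodule.one_le_finrank_iff.2 fun h => hU1 (by
      simpa [h] using hc.sup_eq_top)
    calc (frattini X).index ≤ 2 ^ bnd q (Module.finrank (ZMod q) U) * 2 ^ bnd q (Module.finrank (ZMod q) W) :=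
          split_bound hX ρ hf U W hU hW hc.sup_eq_top
            (fun Y _ _ hY σ hσ => ih _ (by omega) Y hY U rfl σ hσ)
            (fun Y _ _ hY σ hσ => ih _ (by omega) Y hY W rfl σ hσ)
      _ ≤ 2 ^ bnd q n := by
          rw [← pow_add, ← hsum]
          exact Nat.pow_le_pow_right (by norm_num) (bnd_add q ha hb)
  have hn1 : 1 ≤ n := by
    by_contra h
    haveI : Subsingleton V := Module.finrank_zero_iff.1 (show Module.finrank (ZMod q) V = 0 by omega)
    exact hg (hf g (LinearMap.ext fun x => Subsingleton.elim _ _))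
  by_cases hnab : ∀ A : Subgroup X, A.Normal → IsMulCommutative A → IsCyclic A
  · rcases Nat.eq_or_lt_of_le hn1 with h1 | h1
    · -- a subgroup of the multiplicative group of the prime field
      obtain ⟨v, hv0, hv⟩ := finrank_eq_one_iff'.1 (hn.trans h1.symm)
      choose χ hχ using fun a : X => hv (ρ a v)
      let φ : X →* ZMod q := MonoidHom.mk
        ⟨χ, smul_left_injective (ZMod q) hv0 (show χ 1 • v = (1 : ZMod q) • v by rw [hχ, map_one, one_smul]; rfl)⟩
        fun a b => smul_left_injective (ZMod q) hv0 (show χ (a * b) • v = (χ a * χ b) • v by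
          rw [hχ, map_mul, Module.End.mul_apply, ← hχ b, map_smul, ← hχ a, smul_smul, mul_comm])
      haveI : IsCyclic X := isCyclic_of_subgroup_isDomain φ (by
        intro a b hab
        refine inv_mul_eq_one.1 (hf _ (LinearMap.ext fun x => ?_))
        obtain ⟨c, rfl⟩ := hv x
        have h2 : ρ a v = ρ b v := by rw [← hχ a, ← hχ b]; exact congrArg (· • v) hab
        rw [map_mul, Module.End.mul_apply, map_smul, map_smul, ← h2, ← Module.End.mul_apply, ← map_mul,
          inv_mul_cancel, map_one]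
        rfl)
      refine (index_le_two_of_cyclic hX).trans ?_
      have : 1 ≤ bnd q n := by unfold bnd; split_ifs <;> omega
      calc 2 = 2 ^ 1 := by norm_num
        _ ≤ _ := Nat.pow_le_pow_right (by norm_num) this
    · obtain ⟨A, hAn, hAc, -, hAi⟩ := cyclic_index_two hX hnab
      refine (index_le hX A).trans ((Nat.mul_le_mul ((Nat.le_of_dvd (Nat.pos_of_ne_zero Subgroup.index_ne_zero_of_finite)
        ((frattini (X ⧸ A)).index_dvd_card)).trans (hAi.trans' (le_of_eq (Subgroup.index_eq_card A).symm)))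
        (index_le_two_of_cyclic (hX.to_subgroup A))).trans ?_)
      have : 2 ≤ bnd q n := by unfold bnd; split_ifs <;> omega
      calc 2 * 2 = 2 ^ 2 := by norm_num
        _ ≤ _ := Nat.pow_le_pow_right (by norm_num) this
  push Not at hnab
  obtain ⟨A, hAn, hAc, hAnc⟩ := hnab
  obtain ⟨M, hMn, U, -, hUinv, hU0, hdim, -, hMi⟩ := Cfsg.Agent.S4417.exists_block (p := 2) hndvd hX ρ hf n hn hirr g
    (fun h => hg (hf g h)) A hAc hAnc
  haveI := hMn
  obtain ⟨t, -, htop, hn2, hmap⟩ := double ρ hirr M hMi U hUinv hU0 (by rw [hn]; exact hdim)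
  rw [hn] at hn2
  set m := Module.finrank (ZMod q) U with hm
  have hm1 : 1 ≤ m := Submodule.one_le_finrank_iff.2 hU0
  set W := U.map (ρ t) with hWdef
  have hWinv : ∀ a ∈ M, ∀ x ∈ W, ρ a x ∈ W := by
    rintro a ha _ ⟨z, hz, rfl⟩
    refine ⟨ρ (t⁻¹ * a * t) z, hUinv _ (by simpa [mul_assoc] using hMn.conj_mem a ha t⁻¹) z hz, ?_⟩
    rw [← Module.End.mul_apply, ← Module.End.mul_apply, ← map_mul, ← map_mul]; group
  by_cases hq33 : q = 3 ∧ m = 1
  · obtain ⟨rfl, hm'⟩ := hq33
    refine (small_case hX ρ hf hirr M hMi U W hUinv hWinv htop hm' (hmap.trans hm')).trans ?_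
    rw [hn2, hm']; decide
  set ρM : Representation (ZMod q) M V := ρ.comp M.subtype
  have hρM : ∀ a, ρM a = 1 → a = 1 := fun a ha => Subtype.ext (hf a ha)
  have h2X : (frattini X).index ≤ 2 * (frattini M).index := by
    refine (index_le hX M).trans (Nat.mul_le_mul_right _ ?_)
    exact (Nat.le_of_dvd (Nat.pos_of_ne_zero Subgroup.index_ne_zero_of_finite) ((frattini (X ⧸ M)).index_dvd_card)).trans
      ((Subgroup.index_eq_card M).symm.trans hMi).le
  have hihW : ∀ (Y : Type u) [Group Y] [Finite Y], IsPGroup 2 Y → ∀ σ : Representation (ZMod q) Y W,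
      (∀ g, σ g = 1 → g = 1) → (frattini Y).index ≤ 2 ^ bnd q m :=
    fun Y _ _ hY σ hσ => ih m (by omega) Y hY W hmap σ hσ
  by_cases hev : q ≠ 3 ∨ Even m
  · refine h2X.trans ((Nat.mul_le_mul_left 2 (split_bound (hX.to_subgroup M) ρM hρM U W (fun a => hUinv a a.2)
      (fun a => hWinv a a.2) htop (fun Y _ _ hY σ hσ => ih m (by omega) Y hY U rfl σ hσ) hihW)).trans ?_)
    rw [← pow_add, ← pow_succ', hn2]
    exact Nat.pow_le_pow_right (by norm_num) (by have := bnd_double q m hev hm1; omega)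
  push Not at hev
  obtain ⟨rfl, hmo⟩ := hev
  rw [Nat.not_even_iff_odd] at hmo
  -- the block splits further
  have hm3 : m ≠ 1 := fun h => hq33 ⟨rfl, h⟩
  set σ := Cfsg.Agent.S4417.sub ρM U (fun a => hUinv a a.2)
  set K : Subgroup M := MonoidHom.ker (σ : M →* Module.End (ZMod 3) U)
  set σ' : Representation (ZMod 3) (M ⧸ K) U := QuotientGroup.lift K (σ : M →* Module.End (ZMod 3) U) le_rfl
  have hσ' : ∀ g, σ' g = 1 → g = 1 := fun g hg => by
    obtain ⟨a, rfl⟩ := QuotientGroup.mk_surjective g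
    exact (QuotientGroup.eq_one_iff a).2 (MonoidHom.mem_ker.2 hg)
  obtain ⟨U1, hU1inv, hU10, hU11⟩ : ∃ U1 : Submodule (ZMod 3) U, (∀ a, ∀ x ∈ U1, σ' a x ∈ U1) ∧ U1 ≠ ⊥ ∧ U1 ≠ ⊤ := by
    by_contra h
    push Not at h
    refine hm3 (odd_irr ((hX.to_subgroup M).to_quotient K) σ' hσ' (fun U1 h1 => ?_) hmo)
    by_cases h0 : U1 = ⊥
    · exact Or.inl h0
    · exact Or.inr (h U1 h1 h0)
  obtain ⟨W1, hW1inv, hc1⟩ := Cfsg.Agent.S4417.exists_invariant_compl hndvd ((hX.to_subgroup M).to_quotient K) σ' U1 hU1inv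
  have hsum : Module.finrank (ZMod 3) U1 + Module.finrank (ZMod 3) W1 = m := Submodule.finrank_add_eq_of_isCompl hc1
  have ha : 1 ≤ Module.finrank (ZMod 3) U1 := Submodule.one_le_finrank_iff.2 hU10
  have hb : 1 ≤ Module.finrank (ZMod 3) W1 := Submodule.one_le_finrank_iff.2 fun h => hU11 (by
    simpa [h] using hc1.sup_eq_top)
  have hUb : ∀ (Y : Type u) [Group Y] [Finite Y], IsPGroup 2 Y → ∀ τ : Representation (ZMod 3) Y U,
      (∀ g, τ g = 1 → g = 1) → (∀ a, ∀ x ∈ U1, τ a x ∈ U1) → (∀ a, ∀ x ∈ W1, τ a x ∈ W1) → (frattini Y).index ≤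
        2 ^ bnd 3 (Module.finrank (ZMod 3) U1) * 2 ^ bnd 3 (Module.finrank (ZMod 3) W1) :=
    fun Y _ _ hY τ hτ i1 i2 => split_bound hY τ hτ U1 W1 i1 i2 hc1.sup_eq_top
      (fun Z _ _ hZ υ hυ => ih _ (by omega) Z hZ U1 rfl υ hυ)
      (fun Z _ _ hZ υ hυ => ih _ (by omega) Z hZ W1 rfl υ hυ)
  set ρW : Representation (ZMod 3) M W := Cfsg.Agent.S4417.sub ρM W (fun a => hWinv a a.2)
  have hKb : (frattini K).index ≤ 2 ^ bnd 3 m := hihW K ((hX.to_subgroup M).to_subgroup K) (ρW.comp K.subtype)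
    fun a ha => by
      refine Subtype.ext (hρM a (LinearMap.ext fun x => ?_))
      obtain ⟨y, hy, z, hz, rfl⟩ := Submodule.mem_sup.1 (htop.ge (Submodule.mem_top (x := x)))
      have e1 : ρM (a : M) y = y := congrArg Subtype.val (LinearMap.congr_fun (MonoidHom.mem_ker.1 a.2) (⟨y, hy⟩ : U))
      have e2 : ρM (a : M) z = z := congrArg Subtype.val (LinearMap.congr_fun ha (⟨z, hz⟩ : W))
      rw [map_add, e1, e2]; rfl
  refine h2X.trans ((Nat.mul_le_mul_left 2 ((index_le (hX.to_subgroup M) K).trans (Nat.mul_le_mul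
    (hUb (M ⧸ K) ((hX.to_subgroup M).to_quotient K) σ' hσ' hU1inv hW1inv) hKb))).trans ?_)
  rw [← pow_add, ← pow_add, ← pow_succ', hn2]
  refine Nat.pow_le_pow_right (by norm_num) ?_
  have := bnd_split hb ha (hsum ▸ hmo)
  rw [hsum] at this
  unfold bnd at this ⊢
  simp only [if_true] at this ⊢
  obtain ⟨k, hk⟩ := hmo
  omega

/-- The numerical bound. -/
theorem bnd_lt (q : ℕ) (hq : 3 ≤ q) (hq4 : q = 3 ∨ 5 ≤ q) {n : ℕ} (hn : 1 ≤ n) : 2 ^ bnd q n ≤ q ^ n - 1 := by
  have key : ∀ a b c e : ℕ, 1 ≤ c → 2 ^ a ≤ b - 1 → 2 ^ e ≤ c → 2 ^ (a + e) ≤ b * c - 1 := by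
    intro a b c e hc h1 h2
    rw [pow_add]
    have h3 := Nat.mul_le_mul h1 h2
    rw [Nat.sub_mul, one_mul] at h3
    omega
  rcases hq4 with rfl | h5
  · induction n using Nat.strong_induction_on with
    | _ n ih =>
    rcases lt_or_ge n 3 with h | h
    · interval_cases n <;> decide
    obtain ⟨k, rfl⟩ : ∃ k, n = k + 2 := ⟨n - 2, by omega⟩
    rw [pow_add, show bnd 3 (k + 2) = bnd 3 k + 3 by unfold bnd; rw [if_pos rfl, if_pos rfl]; omega]
    exact key _ _ _ _ (by norm_num) (ih k (by omega) (by omega)) (by norm_num)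
  · induction n, hn using Nat.le_induction with
    | base =>
      have : bnd q 1 = 1 := by unfold bnd; split_ifs <;> rfl
      rw [this, pow_one, pow_one]; omega
    | succ k hk ih =>
      rw [pow_succ q, show bnd q (k + 1) = bnd q k + 2 by unfold bnd; split_ifs <;> omega]
      exact key _ _ _ _ (by omega) ih (by omega)

/-- Let G be a finite group that is the semidirect product of a normal abelian subgroup N of odd order by a 2-subgroup P, and suppose N is the unique minimal normal subgroup of G. Then the index of the Frattini subgroup of P in P is at most #N − 1. -/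
theorem result {G : Type*} [Group G] [Finite G] (N P : Subgroup G) (hN : N.Normal) (hNab : IsMulCommutative ↥N) (hNodd : Odd (Nat.card ↥N)) (hP : IsPGroup 2 ↥P) (hdisj : N ⊓ P = ⊥) (hprod : N ⊔ P = ⊤) (hmin : N ≠ ⊥ ∧ ∀ M : Subgroup G, M.Normal → M ≠ ⊥ → N ≤ M) : (frattini ↥P).index ≤ Nat.card ↥N - 1 := by
  obtain ⟨hNne, hmin⟩ := hmin
  haveI := hN
  letI : CommGroup N := { (inferInstance : Group N) with mul_comm := fun a b => hNab.is_comm.comm a b }
  -- a prime dividing the order, and the elements it kills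
  obtain ⟨q, hq, hqN⟩ := Nat.exists_prime_and_dvd (fun h => hNne (Subgroup.card_eq_one.1 h) : Nat.card N ≠ 1)
  haveI : Fact q.Prime := ⟨hq⟩
  have hq2 : q ≠ 2 := fun h => Nat.not_even_iff_odd.2 hNodd (even_iff_two_dvd.2 (h ▸ hqN))
  let T : Subgroup G :=
    { carrier := {x | x ∈ N ∧ x ^ q = 1}
      one_mem' := ⟨N.one_mem, one_pow _⟩
      mul_mem' := fun {a b} ha hb => ⟨N.mul_mem ha.1 hb.1, by
        rw [Commute.mul_pow (congrArg Subtype.val (hNab.is_comm.comm ⟨a, ha.1⟩ ⟨b, hb.1⟩)), ha.2, hb.2, one_mul]⟩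
      inv_mem' := fun {a} ha => ⟨N.inv_mem ha.1, by rw [inv_pow, ha.2, inv_one]⟩ }
  have hTn : T.Normal := ⟨fun x hx c => ⟨hN.conj_mem x hx.1 c, by rw [conj_pow, hx.2]; group⟩⟩
  have hTne : T ≠ ⊥ := fun h => by
    obtain ⟨x, hx⟩ := exists_prime_orderOf_dvd_card' (G := N) q hqN
    have h1 : (x : G) ∈ T := ⟨x.2, by rw [← Subgroup.coe_pow, ← hx, pow_orderOf_eq_one]; rfl⟩
    rw [h, Subgroup.mem_bot] at h1
    rw [← Subgroup.orderOf_coe, h1, orderOf_one] at hx
    exact hq.ne_one hx.symm
  have hpow : ∀ a : N, a ^ q = 1 := fun a => Subtype.ext (hmin T hTn hTne a.2).2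
  letI : Module (ZMod q) (Additive N) := AddCommGroup.zmodModule (n := q) (fun a => congrArg Additive.ofMul (hpow a.toMul))
  let cj : G → (Additive N →+ Additive N) := fun g => MonoidHom.toAdditive (MulAut.conjNormal (H := N) g).toMonoidHom
  let L : P → Module.End (ZMod q) (Additive N) := fun g => (cj g).toZModLinearMap q
  have hL1 : L 1 = 1 := by
    refine LinearMap.ext fun x => ?_
    show Additive.ofMul (MulAut.conjNormal (((1 : P) : G)) x.toMul) = x
    rw [Subgroup.coe_one, map_one]; rfl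
  have hLm : ∀ a b, L (a * b) = L a * L b := fun a b => by
    refine LinearMap.ext fun x => ?_
    show Additive.ofMul (MulAut.conjNormal (((a * b : P) : G)) x.toMul) = _
    rw [Subgroup.coe_mul, map_mul]; rfl
  let ρ : Representation (ZMod q) P (Additive N) := MonoidHom.mk ⟨L, hL1⟩ hLm
  have hfix : ∀ g : P, ρ g = 1 → ∀ x ∈ N, (g : G) * x * (g : G)⁻¹ = x := fun g hg x hx => by
    have h1 := congrArg (fun y : Additive N => ((y.toMul : N) : G)) (LinearMap.congr_fun hg (Additive.ofMul (⟨x, hx⟩ : N)))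
    exact (MulAut.conjNormal_apply (H := N) (g : G) ⟨x, hx⟩).symm.trans h1
  have hf : ∀ g, ρ g = 1 → g = 1 := by
    intro g hg
    -- the kernel is normal in `G`
    let K : Subgroup G := P ⊓ Subgroup.centralizer (N : Set G)
    have hKn : K.Normal := by
      refine ⟨fun k hk c => ?_⟩
      obtain ⟨hkP, hkC⟩ := Subgroup.mem_inf.1 hk
      obtain ⟨m, hm, a, ha, rfl⟩ := Subgroup.mem_sup_of_normal_left.1 (hprod.ge (Subgroup.mem_top c))
      have haC : a * k * a⁻¹ ∈ Subgroup.centralizer (N : Set G) :=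
        (Cfsg.Agent.Solv.centralizer_normal_of_normal N).conj_mem k hkC a
      have h2 : m * (a * k * a⁻¹) = a * k * a⁻¹ * m := Subgroup.mem_centralizer_iff.1 haC m hm
      rw [show m * a * k * (m * a)⁻¹ = m * (a * k * a⁻¹) * m⁻¹ by group, h2, mul_inv_cancel_right]
      exact Subgroup.mem_inf.2 ⟨mul_mem (mul_mem ha hkP) (inv_mem ha), haC⟩
    by_contra hne
    have hgK : (g : G) ∈ K := Subgroup.mem_inf.2 ⟨g.2, Subgroup.mem_centralizer_iff.2 fun x hx =>
      (mul_inv_eq_iff_eq_mul.1 (hfix g hg x hx)).symm⟩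
    refine hNne (le_bot_iff.1 ?_)
    rw [← hdisj]
    exact le_inf le_rfl ((hmin K hKn fun h => hne (Subtype.ext (Subgroup.mem_bot.1 (h ▸ hgK)))).trans inf_le_left)
  have hn1 : 1 ≤ Module.finrank (ZMod q) (Additive N) := by
    haveI : Nontrivial N := (Subgroup.nontrivial_iff_ne_bot N).2 hNne
    haveI : FiniteDimensional (ZMod q) (Additive N) := Module.Finite.of_finite
    exact Module.finrank_pos
  have h1 := main hq2 _ P hP (Additive N) rfl ρ hf
  have h2 := bnd_lt q (by have := hq.two_le; omega) (by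
    by_contra h
    push Not at h
    have := hq.two_le
    have h4 : q = 4 := by omega
    exact absurd (h4 ▸ hq) (by decide)) hn1
  rw [← card_space, Nat.card_congr Additive.toMul] at h2
  exact h1.trans h2

end Cfsg.Agent.S4188
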