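import Cfsg.Statements.S4189
import Mathlib
import Cfsg.Agent.Lib.Solv.LCS
import Cfsg.Agent.Lib.Solv.PGroupPhi

set_option autoImplicit false
open Cfsg
open scoped commutatorElement

namespace Cfsg.Agent.S4189

variable {P : Type*} [Group P] [Finite P]

/-- An automorphism of odd prime order acting trivially on the Frattini quotient is trivial. -/
theorem fix_of_frattini (hP : IsPGroup 2 P) (α : MulAut P) {q : ℕ} [hq : Fact q.Prime] (hq2 : q ≠ 2)
    (hα : α ^ q = 1) (h : ∀ x : P, x⁻¹ * α x ∈ frattini P) : α = 1 := by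
  classical
  haveI := Fintype.ofFinite P
  haveI : Fact (Nat.Prime 2) := ⟨Nat.prime_two⟩
  let Fix : Subgroup P := (α.toMonoidHom).eqLocus (MonoidHom.id P)
  have htop : Fix = ⊤ := by
    refine frattini_nongenerating (eq_top_iff.2 fun x _ => ?_)
    let σ : Equiv.Perm {y : P // x⁻¹ * y ∈ frattini P} := Equiv.Perm.subtypePerm (α.toEquiv : Equiv.Perm P) (fun y => by
      have e : x⁻¹ * α y = (x⁻¹ * y) * (y⁻¹ * α y) := by group
      show x⁻¹ * α y ∈ frattini P ↔ x⁻¹ * y ∈ frattini P
      rw [e]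
      exact Subgroup.mul_mem_cancel_right _ (h y))
    have hpow : ∀ (k : ℕ) (y : {y : P // x⁻¹ * y ∈ frattini P}), ((σ ^ k) y : P) = (α ^ k) (y : P) := by
      intro k
      induction k with
      | zero => intro y; simp
      | succ k ih => intro y; rw [pow_succ', pow_succ', Equiv.Perm.mul_apply, MulAut.mul_apply, ← ih]; rfl
    have hσ : σ ^ q ^ 1 = 1 := by
      refine Equiv.ext fun y => Subtype.ext ?_
      rw [hpow, pow_one, hα]; rfl
    have hcard : ¬ q ∣ Fintype.card {y : P // x⁻¹ * y ∈ frattini P} := by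
      let e : {y : P // x⁻¹ * y ∈ frattini P} ≃ frattini P :=
        { toFun := fun y => ⟨x⁻¹ * y, y.2⟩
          invFun := fun z => ⟨x * z, by simp⟩
          left_inv := fun y => Subtype.ext (by simp)
          right_inv := fun z => Subtype.ext (by simp) }
      rw [← Nat.card_eq_fintype_card, Nat.card_congr e]
      obtain ⟨k, hk⟩ := (hP.to_subgroup (frattini P)).exists_card_eq
      rw [hk]
      exact fun hd => hq2 ((Nat.prime_dvd_prime_iff_eq hq.out Nat.prime_two).1 (hq.out.dvd_of_dvd_pow hd))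
    obtain ⟨y, hy⟩ := Equiv.Perm.exists_fixed_point_of_prime (p := q) (n := 1) hcard hσ
    have hyF : (y : P) ∈ Fix := congrArg Subtype.val hy
    rw [show x = (y : P) * (x⁻¹ * (y : P))⁻¹ by group]
    exact mul_mem (Subgroup.mem_sup_left hyF) (Subgroup.mem_sup_right (inv_mem y.2))
  exact MulEquiv.ext fun x => (htop.ge (Subgroup.mem_top x) : x ∈ Fix)

theorem quaternion_of {a b : P} (h8 : Nat.card P = 8) (ha : orderOf a = 4) (hb2 : b ^ 2 = a ^ 2)
    (hconj : b * a * b⁻¹ = a⁻¹) (hb : b ∉ Subgroup.zpowers a) : Nonempty (P ≃* QuaternionGroup 2) := by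
  classical
  let pw : ZMod (2 * 2) → P := fun i => a ^ i.val
  have hadd : ∀ i j, pw (i + j) = pw i * pw j := fun i j => by
    show a ^ (i + j).val = a ^ i.val * a ^ j.val
    rw [← pow_add, pow_eq_pow_iff_modEq, ha, ZMod.val_add]
    exact Nat.mod_modEq _ _
  have hzero : pw 0 = 1 := by simp [pw]
  have hneg : ∀ i, pw (-i) = (pw i)⁻¹ := fun i => by
    refine eq_inv_of_mul_eq_one_left ?_
    rw [← hadd, neg_add_cancel, hzero]
  have hmove : ∀ i, pw i * b = b * pw (-i) := fun i => by
    have h1 : b * pw i * b⁻¹ = (pw i)⁻¹ := by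
      show b * a ^ i.val * b⁻¹ = (a ^ i.val)⁻¹
      rw [← conj_pow, hconj, inv_pow]
    have h2 : b * (pw i)⁻¹ * b⁻¹ = pw i := by
      have := congrArg (·⁻¹) h1
      simpa [mul_assoc] using this
    rw [hneg]
    calc pw i * b = b * (pw i)⁻¹ * b⁻¹ * b := by rw [h2]
      _ = _ := inv_mul_cancel_right _ _
  have h2pw : pw 2 = b * b := by
    show a ^ (2 : ZMod (2 * 2)).val = b * b
    rw [← pow_two b, hb2]; rfl
  let f : QuaternionGroup 2 → P
    | .a i => pw i
    | .xa i => b * pw i
  have hf : ∀ x y, f (x * y) = f x * f y := by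
    rintro (i | i) (j | j)
    · exact hadd i j
    · show b * pw (j - i) = pw i * (b * pw j)
      rw [← mul_assoc, hmove, mul_assoc, ← hadd, sub_eq_neg_add]
    · show b * pw (i + j) = b * pw i * pw j
      rw [mul_assoc, ← hadd]
    · show pw ((2 : ℕ) + j - i) = b * pw i * (b * pw j)
      rw [mul_assoc b, ← mul_assoc (pw i), hmove, mul_assoc b (pw (-i)), ← hadd, ← mul_assoc b b, ← h2pw, ← hadd]
      congr 1; push_cast; ring
  refine ⟨(MulEquiv.ofBijective (MonoidHom.mk' f hf) ?_).symm⟩
  rw [Nat.bijective_iff_injective_and_card]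
  refine ⟨(injective_iff_map_eq_one _).2 ?_, ?_⟩
  · rintro (i | i) hi
    · have h1 : a ^ i.val = 1 := hi
      have hd := orderOf_dvd_of_pow_eq_one h1
      rw [ha] at hd
      have h2 := Nat.eq_zero_of_dvd_of_lt hd (ZMod.val_lt i)
      rw [(ZMod.val_eq_zero i).1 h2]; rfl
    · refine absurd ?_ hb
      have h1 : b * a ^ i.val = 1 := hi
      rw [eq_inv_of_mul_eq_one_left h1]
      exact inv_mem (pow_mem (Subgroup.mem_zpowers a) _)
  · rw [Nat.card_eq_fintype_card, QuaternionGroup.card, h8]

/-- Let P be a finite non-abelian 2-group whose commutator subgroup has index 4 and whose automorphism group is not a 2-group (some automorphism has order that is not a power of 2). Then P is isomorphic to the quaternion group of order 8. -/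
theorem result {P : Type*} [Group P] [Finite P] (hP : IsPGroup 2 P) (hna : ¬ IsMulCommutative P) (h4 : (commutator P).index = 4) (haut : ¬ IsPGroup 2 (MulAut P)) : Nonempty (P ≃* QuaternionGroup 2) := by
  classical
  haveI : Fact (Nat.Prime 2) := ⟨Nat.prime_two⟩
  haveI : Group.IsNilpotent P := hP.isNilpotent
  set D : Subgroup P := commutator P with hD
  have hnab : ¬ ∀ x y : P, x * y = y * x := fun h => hna ⟨⟨h⟩⟩
  have hDF : D ≤ frattini P := Solv.commutator_le_frattini_pgroup hP
  -- the quotient by the derived subgroup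
  have hnc : ∀ x : P, Subgroup.zpowers x ⊔ D ≠ ⊤ := by
    intro x h
    have h1 : Subgroup.zpowers x = ⊤ := frattini_nongenerating (eq_top_iff.2 (h ▸ sup_le_sup_left hDF _))
    refine hnab fun u v => ?_
    obtain ⟨i, rfl⟩ := Subgroup.mem_zpowers_iff.1 (h1.ge (Subgroup.mem_top u))
    obtain ⟨j, rfl⟩ := Subgroup.mem_zpowers_iff.1 (h1.ge (Subgroup.mem_top v))
    exact (Commute.refl x).zpow_zpow i j
  have hQ4 : Nat.card (P ⧸ D) = 4 := by rw [← Subgroup.index_eq_card]; exact h4
  have hsq : ∀ x : P, x * x ∈ D := by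
    intro x
    have hd : orderOf (x : P ⧸ D) ∣ 4 := hQ4 ▸ orderOf_dvd_natCard _
    have hne : orderOf (x : P ⧸ D) ≠ 4 := fun h => by
      refine hnc x ?_
      have htop : Subgroup.zpowers (x : P ⧸ D) = ⊤ := Subgroup.eq_top_of_card_eq _ (by rw [Nat.card_zpowers, h, hQ4])
      rw [← QuotientGroup.ker_mk' D, ← Subgroup.comap_map_eq, MonoidHom.map_zpowers, QuotientGroup.mk'_apply, htop, Subgroup.comap_top]
    have h2 : orderOf (x : P ⧸ D) ∣ 2 := by
      obtain ⟨k, hk, he⟩ := (Nat.dvd_prime_pow Nat.prime_two).1 (show orderOf (x : P ⧸ D) ∣ 2 ^ 2 from hd)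
      rw [he] at hne ⊢
      interval_cases k <;> simp_all
    rw [← QuotientGroup.eq_one_iff, QuotientGroup.mk_mul, ← pow_two]
    exact orderOf_dvd_iff_pow_eq_one.1 h2
  have hΦD : frattini P ≤ D := Solv.frattini_le D
    (fun u v => Subgroup.commutator_mem_commutator (Subgroup.mem_top u) (Subgroup.mem_top v))
    (fun u => by rw [pow_two]; exact hsq u)
  -- an automorphism of odd prime order
  obtain ⟨α, q, hqp, hq2, hαq, hα1⟩ : ∃ (α : MulAut P) (q : ℕ), q.Prime ∧ q ≠ 2 ∧ α ^ q = 1 ∧ α ≠ 1 := by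
    rw [IsPGroup.iff_orderOf] at haut
    push Not at haut
    obtain ⟨β, hβ⟩ := haut
    obtain ⟨q, hqp, hqd, hq2⟩ : ∃ q, q.Prime ∧ q ∣ orderOf β ∧ q ≠ 2 := by
      by_contra hno
      push Not at hno
      obtain ⟨k, hk⟩ := ((Nat.eq_prime_pow_of_unique_prime_dvd (orderOf_pos β).ne' (p := 2)) fun {d} hd hdd => hno d hd hdd) |> fun h => (⟨_, h⟩ : ∃ k, orderOf β = 2 ^ k)
      exact hβ k hk
    refine ⟨β ^ (orderOf β / q), q, hqp, hq2, ?_, ?_⟩
    · rw [← pow_mul, Nat.div_mul_cancel hqd, pow_orderOf_eq_one]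
    · intro h
      have := Nat.le_of_dvd (Nat.div_pos (Nat.le_of_dvd (orderOf_pos β) hqd) hqp.pos) (orderOf_dvd_of_pow_eq_one h)
      exact absurd this (not_le.2 (Nat.div_lt_self (orderOf_pos β) hqp.one_lt))
  haveI := Fact.mk hqp
  have hchar : ∀ (H : Subgroup P), H.Characteristic → ∀ x, α x ∈ H ↔ x ∈ H := fun H hH x => by
    conv_rhs => rw [← hH.fixed α]
    exact Iff.rfl
  have hDc : D.Characteristic := inferInstance
  let π := QuotientGroup.mk' D
  obtain ⟨a, ha⟩ : ∃ a, π (α a) ≠ π a := by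
    by_contra hno
    push Not at hno
    refine hα1 (fix_of_frattini hP α hq2 hαq fun x => hDF ?_)
    exact QuotientGroup.eq.1 (hno x).symm
  set b := α a with hb
  have hπα : ∀ x y, π x = π y → π (α x) = π (α y) := fun x y h => by
    refine QuotientGroup.eq.2 ?_
    rw [← map_inv, ← map_mul]
    exact (hchar D hDc _).2 (QuotientGroup.eq.1 h)
  have hπα' : ∀ x y, π (α x) = π (α y) → π x = π y := fun x y h => by
    refine QuotientGroup.eq.2 ((hchar D hDc _).1 ?_)
    rw [map_mul, map_inv]
    exact QuotientGroup.eq.1 h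
  have hone : ∀ x, π (α x) = 1 ↔ π x = 1 := fun x =>
    (QuotientGroup.eq_one_iff _).trans ((hchar D hDc x).trans (QuotientGroup.eq_one_iff _).symm)
  have ha1 : π a ≠ 1 := fun h => ha (by rw [h]; exact (hone a).2 h)
  have hb1 : π b ≠ 1 := fun h => ha1 ((hone a).1 h)
  have hsq' : ∀ z : P ⧸ D, z * z = 1 := fun z => by
    obtain ⟨x, rfl⟩ := QuotientGroup.mk'_surjective D z
    exact (QuotientGroup.eq_one_iff _).2 (hsq x)
  have hab : π (a * b) ≠ 1 := fun h => by
    rw [map_mul] at h
    exact ha ((eq_inv_of_mul_eq_one_right h).trans (inv_eq_of_mul_eq_one_right (hsq' _)))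
  have hfour : ∀ z : P ⧸ D, z = 1 ∨ z = π a ∨ z = π b ∨ z = π (a * b) := by
    haveI := Fintype.ofFinite (P ⧸ D)
    have hu : ({1, π a, π b, π (a * b)} : Finset (P ⧸ D)) = Finset.univ := by
      refine Finset.eq_univ_of_card _ ?_
      rw [← Nat.card_eq_fintype_card, hQ4]
      have h1 : π a ≠ π (a * b) := fun h => hb1 (by rw [map_mul] at h; exact mul_eq_left.1 h.symm)
      have h2 : π b ≠ π (a * b) := fun h => ha1 (by rw [map_mul] at h; exact mul_eq_right.1 h.symm)
      rw [Finset.card_eq_succ]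
      refine ⟨1, {π a, π b, π (a * b)}, by simp only [Finset.mem_insert, Finset.mem_singleton, not_or]; exact ⟨Ne.symm ha1, Ne.symm hb1, Ne.symm hab⟩, rfl, ?_⟩
      rw [Finset.card_eq_three]
      exact ⟨_, _, _, Ne.symm ha, h1, h2, rfl⟩
    intro z
    simpa using (hu ▸ Finset.mem_univ z : z ∈ ({1, π a, π b, π (a * b)} : Finset (P ⧸ D)))
  have hαb : π (α b) = π (a * b) := by
    rcases hfour (π (α b)) with h | h | h | h
    · exact absurd ((hone b).1 h) hb1
    · exfalso
      obtain ⟨t, ht⟩ := hqp.odd_of_ne_two hq2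
      have hit : ∀ k : ℕ, π ((α ^ (2 * k)) a) = π a := by
        intro k
        induction k with
        | zero => rfl
        | succ k ih =>
          rw [show 2 * (k + 1) = 1 + (1 + 2 * k) by ring, pow_add, pow_add α 1, pow_one, MulAut.mul_apply, MulAut.mul_apply]
          exact (hπα _ _ (hπα _ _ ih)).trans h
      have h1 := hπα _ _ (hit t)
      rw [← MulAut.mul_apply, ← pow_succ', ← ht, hαq, MulAut.one_apply] at h1
      exact ha h1.symm
    · exact absurd (hπα' _ _ (h.trans rfl)).symm (Ne.symm ha)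
    · exact h
  -- generation
  have hgen : Subgroup.closure ({a, b} : Set P) = ⊤ := by
    refine frattini_nongenerating (eq_top_iff.2 fun x _ => ?_)
    have key : ∀ y ∈ Subgroup.closure ({a, b} : Set P), π x = π y → x ∈ Subgroup.closure ({a, b} : Set P) ⊔ frattini P := by
      intro y hy h
      rw [show x = y * (y⁻¹ * x) by group]
      exact mul_mem (Subgroup.mem_sup_left hy) (Subgroup.mem_sup_right (hDF (QuotientGroup.eq.1 h.symm)))
    have hma : a ∈ Subgroup.closure ({a, b} : Set P) := Subgroup.subset_closure (Or.inl rfl)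
    have hmb : b ∈ Subgroup.closure ({a, b} : Set P) := Subgroup.subset_closure (Or.inr rfl)
    rcases hfour (π x) with h | h | h | h
    · exact key 1 (one_mem _) h
    · exact key a hma h
    · exact key b hmb h
    · exact key _ (mul_mem hma hmb) h
  have hcentral : ∀ {H : Type _} [Group H] (φ : P →* H), Function.Surjective φ → ∀ u : H,
      Commute u (φ a) → Commute u (φ b) → ∀ g : H, Commute u g := by
    intro H _ φ hφ u h1 h2 g
    obtain ⟨g, rfl⟩ := hφ g
    have : g ∈ (Subgroup.centralizer ({u} : Set H)).comap φ := by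
      refine ((Subgroup.closure_le _).2 ?_) (hgen.ge (Subgroup.mem_top g))
      rintro _ (rfl | rfl)
      · exact Subgroup.mem_centralizer_singleton_iff.2 h1.symm.eq
      · exact Subgroup.mem_centralizer_singleton_iff.2 h2.symm.eq
    exact (Subgroup.mem_centralizer_singleton_iff.1 this).symm
  -- modulo K
  set K : Subgroup P := ⁅D, ⊤⁆ with hK
  haveI : K.Characteristic := Subgroup.commutator_characteristic D ⊤
  haveI : K.Normal := inferInstance
  have hKD : K ≤ D := Subgroup.commutator_le_left D ⊤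
  let ρ := QuotientGroup.mk' K
  have hρD : ∀ u ∈ D, ∀ g : P, Commute (ρ u) (ρ g) := fun u hu g => by
    rw [← commutatorElement_eq_one_iff_commute, ← map_commutatorElement]
    exact (QuotientGroup.eq_one_iff _).2 (Subgroup.commutator_mem_commutator hu (Subgroup.mem_top g))
  set c := ⁅a, b⁆ with hc
  have hcD : c ∈ D := Subgroup.commutator_mem_commutator (Subgroup.mem_top a) (Subgroup.mem_top b)
  have hρmove : ρ (b * a) = (ρ c)⁻¹ * (ρ a * ρ b) := by
    rw [hc, commutatorElement_def, ← map_inv, ← map_mul ρ a b, ← map_mul]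
    exact congrArg ρ (by group)
  have hc2 : ρ c * ρ c = 1 := by
    have h1 : ρ ⁅a * a, b⁆ = 1 := by
      rw [map_commutatorElement, commutatorElement_eq_one_iff_commute]
      exact hρD _ (hsq a) b
    have e : ⁅a * a, b⁆ = a * c * a⁻¹ * c := by rw [hc, commutatorElement_def, commutatorElement_def]; group
    rw [e, map_mul, map_mul, map_mul, ← (hρD c hcD a).eq, map_inv, mul_inv_cancel_right] at h1
    exact h1
  have hDgen : ∀ u ∈ D, ρ u = 1 ∨ ρ u = ρ c := by
    let M : Subgroup P := (Subgroup.zpowers (ρ c)).comap ρ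
    haveI : (Subgroup.zpowers (ρ c)).Normal := ⟨fun z hz g => by
      obtain ⟨i, rfl⟩ := Subgroup.mem_zpowers_iff.1 hz
      obtain ⟨g, rfl⟩ := QuotientGroup.mk'_surjective K g
      rw [← ((hρD c hcD g).zpow_left i).eq, mul_inv_cancel_right]
      exact zpow_mem (Subgroup.mem_zpowers _) i⟩
    let τ := (QuotientGroup.mk' (Subgroup.zpowers (ρ c))).comp ρ
    have hτc : τ c = 1 := (QuotientGroup.eq_one_iff _).2 (Subgroup.mem_zpowers _)
    have hτsurj : Function.Surjective τ :=
      (QuotientGroup.mk'_surjective _).comp (QuotientGroup.mk'_surjective _)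
    have hτab : Commute (τ a) (τ b) := by
      rw [← commutatorElement_eq_one_iff_commute, ← map_commutatorElement, ← hc, hτc]
    have hτ : ∀ x y, Commute (τ x) (τ y) := by
      intro x y
      have h1 : ∀ g, Commute (τ a) g := hcentral τ hτsurj _ (Commute.refl _) hτab
      have h2 : ∀ g, Commute (τ b) g := hcentral τ hτsurj _ hτab.symm (Commute.refl _)
      exact hcentral τ hτsurj _ (h1 _).symm (h2 _).symm _
    intro u hu
    have hu' : τ u = 1 := by
      have : D ≤ τ.ker := by
        rw [hD, commutator_def, Subgroup.commutator_le]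
        intro x _ y _
        exact MonoidHom.mem_ker.2 ((map_commutatorElement τ x y).trans (commutatorElement_eq_one_iff_commute.2 (hτ x y)))
      exact this hu
    obtain ⟨i, hi⟩ := Subgroup.mem_zpowers_iff.1 ((QuotientGroup.eq_one_iff _).1 hu')
    rcases Int.even_or_odd' i with ⟨t, rfl | rfl⟩
    · left; rw [← hi, zpow_mul, zpow_two, hc2, one_zpow]
    · right; rw [← hi, zpow_add, zpow_mul, zpow_two, hc2, one_zpow, one_mul, zpow_one]
  have hcK : ρ c ≠ 1 := by
    intro h
    have hDK : D ≤ K := fun u hu => (QuotientGroup.eq_one_iff u).1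
      ((hDgen u hu).elim id fun e => e.trans h)
    refine hnab fun u v => commutatorElement_eq_one_iff_mul_comm.1 ?_
    by_cases hD0 : D = ⊥
    · rw [← Subgroup.mem_bot, ← hD0]
      exact Subgroup.commutator_mem_commutator (Subgroup.mem_top u) (Subgroup.mem_top v)
    · exact absurd hDK (Solv.commutator_top_lt D hD0).not_ge
  have hsqK : ∀ g h : P, π g = π h → ρ (g * g) = ρ (h * h) := by
    intro g h e
    obtain ⟨u, hu, rfl⟩ : ∃ u ∈ D, h = g * u := ⟨g⁻¹ * h, QuotientGroup.eq.1 e, by group⟩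
    have hu2 : ρ u * ρ u = 1 := by
      rcases hDgen u hu with e' | e' <;> rw [e']
      · exact one_mul 1
      · exact hc2
    simp only [map_mul]
    rw [mul_assoc (ρ g) (ρ u), ← mul_assoc (ρ u) (ρ g), (hρD u hu g).eq,
      mul_assoc (ρ g) (ρ u), hu2, mul_one]
  have hαD : ∀ u ∈ D, ρ (α u) = ρ u := by
    intro u hu
    have hiff : ρ (α u) = 1 ↔ ρ u = 1 :=
      (QuotientGroup.eq_one_iff _).trans ((hchar K inferInstance u).trans (QuotientGroup.eq_one_iff _).symm)
    rcases hDgen u hu with e | e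
    · rw [e]; exact hiff.2 e
    · rcases hDgen (α u) ((hchar D hDc u).2 hu) with e' | e'
      · exact absurd (e.symm.trans (hiff.1 e')) hcK
      · rw [e, e']
  have hsb : ρ (b * b) = ρ (a * a) := by
    rw [hb, ← map_mul α]; exact hαD _ (hsq a)
  have hsab : ρ (a * b * (a * b)) = ρ (a * a) := by
    rw [← hsqK _ _ hαb, ← map_mul α, hαD _ (hsq b), hsb]
  have hac : ρ (a * a) = ρ c := by
    have e : ρ (a * b * (a * b)) = (ρ c)⁻¹ * (ρ (a * a) * ρ (b * b)) := by
      rw [show a * b * (a * b) = a * (b * a) * b by group, map_mul, map_mul, hρmove, map_mul, map_mul]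
      rw [← mul_assoc (ρ a), ((hρD c hcD a).inv_left).eq.symm]; simp only [mul_assoc]
    rw [hsab, hsb] at e
    have e' : ρ (a * a) * 1 = ρ (a * a) * ((ρ c)⁻¹ * ρ (a * a)) := by
      rw [← mul_assoc, ((hρD c hcD (a * a)).inv_left).eq.symm, mul_one, mul_assoc]; exact e
    have := mul_left_cancel e'
    exact (inv_mul_eq_one.1 this.symm).symm
  -- K is trivial
  have hK1 : K = ⊥ := by
    by_contra hK0
    haveI : (⁅K, (⊤ : Subgroup P)⁆).Normal := inferInstance
    let R := QuotientGroup.mk' ⁅K, (⊤ : Subgroup P)⁆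
    have hR : Function.Surjective R := QuotientGroup.mk'_surjective _
    have hKz : ∀ k ∈ K, ∀ g, Commute (R k) g := fun k hk g => by
      obtain ⟨g, rfl⟩ := hR g
      rw [← commutatorElement_eq_one_iff_commute, ← map_commutatorElement]
      exact (QuotientGroup.eq_one_iff _).2 (Subgroup.commutator_mem_commutator hk (Subgroup.mem_top g))
    have hcong : ∀ x y, ρ x = ρ y → ∃ k ∈ K, R y = R x * R k := fun x y h =>
      ⟨x⁻¹ * y, QuotientGroup.eq.1 h, by rw [← map_mul, mul_inv_cancel_left]⟩
    have hb2c : ∀ g, Commute (R (b * b)) g := by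
      obtain ⟨k, hk, he⟩ := hcong _ _ hsb.symm
      refine hcentral R hR _ ?_ ?_
      · rw [he, map_mul]; exact ((Commute.refl _).mul_left (Commute.refl _)).mul_left (hKz k hk _)
      · rw [map_mul]; exact (Commute.refl _).mul_left (Commute.refl _)
    have hcz : ∀ g, Commute (R c) g := fun g => by
      obtain ⟨k, hk, he⟩ := hcong _ _ (hsb.trans hac)
      rw [he]; exact (hb2c g).mul_left (hKz k hk g)
    have hle : K ≤ ⁅K, (⊤ : Subgroup P)⁆ := by
      rw [hK, Subgroup.commutator_le]
      intro u hu g _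
      rw [← hK, ← QuotientGroup.eq_one_iff]
      show R ⁅u, g⁆ = 1
      rw [map_commutatorElement, commutatorElement_eq_one_iff_commute]
      rcases hDgen u hu with e | e
      · exact hKz u ((QuotientGroup.eq_one_iff _).1 e) _
      · obtain ⟨k, hk, he⟩ := hcong _ _ e.symm
        rw [he]; exact (hcz _).mul_left (hKz k hk _)
    exact absurd hle (Solv.commutator_top_lt K hK0).not_ge
  have hρinj : Function.Injective ρ := (MonoidHom.ker_eq_bot_iff ρ).1 (by rw [QuotientGroup.ker_mk', hK1])
  have hDc2 : ∀ u ∈ D, u = 1 ∨ u = c := fun u hu => (hDgen u hu).imp (fun h => hρinj (h.trans (map_one ρ).symm)) (fun h => hρinj h)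
  have hc1 : c ≠ 1 := fun h => hcK (by rw [h, map_one])
  have hD2 : Nat.card D = 2 := by
    refine (Nat.card_eq_two_iff' (1 : D)).2 ⟨⟨c, hcD⟩, fun h => hc1 (congrArg Subtype.val h), fun u hu => Subtype.ext ?_⟩
    exact (hDc2 u u.2).resolve_left fun e => hu (Subtype.ext e)
  have haa : a * a = c := hρinj hac
  have hbb : b * b = c := hρinj (hsb.trans hac)
  have hcc : c * c = 1 := hρinj (by rw [map_mul, hc2, map_one])
  refine quaternion_of (a := a) (b := b) (by rw [← D.card_mul_index, hD2, h4]) ?_ ?_ ?_ ?_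
  · refine orderOf_eq_prime_pow (p := 2) (n := 1) ?_ ?_
    · rw [pow_one, pow_two, haa]; exact hc1
    · show a ^ 4 = 1
      rw [show (4 : ℕ) = 2 + 2 from rfl, pow_add, pow_two, haa, hcc]
  · rw [pow_two, pow_two, haa, hbb]
  · have h1 : ρ ⁅b, a⁆ = ρ c := by
      rw [show ⁅b, a⁆ = c⁻¹ by rw [hc, commutatorElement_inv], map_inv]
      exact inv_eq_of_mul_eq_one_right hc2
    have h2 : b * a * b⁻¹ = c * a := by
      rw [← hρinj h1, commutatorElement_def]; group
    rw [h2]
    exact eq_inv_of_mul_eq_one_left (by rw [mul_assoc, haa, hcc])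
  · intro hmem
    refine hnc a (eq_top_iff.2 ?_)
    rw [← hgen, Subgroup.closure_le]
    rintro _ (rfl | rfl)
    · exact Subgroup.mem_sup_left (Subgroup.mem_zpowers _)
    · exact Subgroup.mem_sup_left hmem

end Cfsg.Agent.S4189
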