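import Cfsg.Statements.S4190
import Cfsg.Agent.Lib.Solv.ClassLower.Main

set_option autoImplicit false
open Cfsg

namespace Cfsg.Agent.S4190

/-- Let G be a finite solvable group and p a prime dividing the index of the Fitting subgroup of G. Then the number of conjugacy classes of G is at least p/(3·log₂ p). -/
theorem result {G : Type*} [Group G] [Finite G] (hG : Group.IsSolvable G) (p : ℕ) [Fact p.Prime] (hp : p ∣ (Cfsg.fittingSubgroup G).index) : (p : ℝ) / (3 * Real.logb 2 p) ≤ Nat.card (ConjClasses G) := by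
  haveI := ‹Fact p.Prime›
  have hpp := (Fact.out : p.Prime)
  obtain ⟨l, hl⟩ : ∃ l, l = Nat.log 2 p := ⟨_, rfl⟩
  have hl1 : 1 ≤ l := hl ▸ Nat.log_pos Nat.one_lt_two hpp.two_le
  have hlo : 2 ^ l ≤ p := hl ▸ Nat.pow_log_le_self 2 hpp.ne_zero
  have hhi : p < 2 ^ (l + 1) := hl ▸ Nat.lt_pow_succ_log_self Nat.one_lt_two p
  suffices h : p ≤ 3 * l * Nat.card (ConjClasses G) by
    have h1 : (l : ℝ) ≤ Real.logb 2 p := by
      have := Real.natLog_le_logb p 2
      rw [← hl] at this
      exact_mod_cast this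
    have h2 : (0 : ℝ) < 3 * Real.logb 2 p := by
      have : (1 : ℝ) ≤ l := by exact_mod_cast hl1
      linarith
    rw [div_le_iff₀ h2]
    calc (p : ℝ) ≤ ((3 * l * Nat.card (ConjClasses G) : ℕ) : ℝ) := by exact_mod_cast h
      _ = (Nat.card (ConjClasses G) : ℝ) * (3 * l) := by push_cast; ring
      _ ≤ _ := by gcongr
  by_cases hbig : 47 ≤ p
  · have hl5 : 5 ≤ l := by
      by_contra hlt
      have : 2 ^ (l + 1) ≤ 2 ^ 5 := Nat.pow_le_pow_right two_pos (by omega)
      omega
    have h7 : 7 * (l + 1) ≤ p := by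
      rcases Nat.lt_or_ge l 6 with h6 | h6
      · omega
      · refine le_trans ?_ hlo
        clear hl hlo hhi hl1 hl5
        induction l, h6 using Nat.le_induction with
        | base => norm_num
        | succ n hn ih => rw [pow_succ 2 n]; omega
    exact Cfsg.Agent.Solv.ClassLower.main_bound hl5 hhi h7 (Nat.card G) G le_rfl hG hp
  -- small primes: three classes suffice
  have hk : 3 ≤ Nat.card (ConjClasses G) := by
    by_contra hlt
    haveI : Nontrivial G := by
      rcases subsingleton_or_nontrivial G with hs | hs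
      · exfalso
        rw [Subsingleton.elim (Cfsg.fittingSubgroup G) ⊤, Subgroup.index_top, Nat.dvd_one] at hp
        exact hpp.ne_one hp
      · exact hs
    have hone : ∀ x y : G, x ≠ 1 → y ≠ 1 → IsConj x y := by
      intro x y hx hy
      by_contra hne
      haveI := Fintype.ofFinite (ConjClasses G)
      refine hlt ?_
      rw [Nat.card_eq_fintype_card]
      refine Fintype.two_lt_card_iff.2 ⟨ConjClasses.mk 1, ConjClasses.mk x, ConjClasses.mk y, ?_, ?_, ?_⟩
      · exact fun h => hx (isConj_one_right.1 (ConjClasses.mk_eq_mk_iff_isConj.1 h))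
      · exact fun h => hy (isConj_one_right.1 (ConjClasses.mk_eq_mk_iff_isConj.1 h))
      · exact fun h => hne (ConjClasses.mk_eq_mk_iff_isConj.1 h)
    obtain ⟨r, hr, hrd⟩ := Nat.exists_prime_and_dvd (Finite.one_lt_card (α := G)).ne'
    haveI := Fact.mk hr
    obtain ⟨x, hx⟩ := exists_prime_orderOf_dvd_card' r hrd
    have hpg : IsPGroup r G := fun y => ⟨1, by
      by_cases hy : y = 1
      · rw [hy, one_pow]
      · obtain ⟨c, rfl⟩ := isConj_iff.1 (hone x y (fun h => hr.ne_one (by rw [← hx, h, orderOf_one])) hy)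
        rw [pow_one, conj_pow, ← hx, pow_orderOf_eq_one, mul_one, mul_inv_cancel]⟩
    have htop : Cfsg.fittingSubgroup G = ⊤ :=
      top_le_iff.1 (Cfsg.Agent.Solv.normal_le_fitting (hpg.to_subgroup ⊤).isNilpotent)
    rw [htop, Subgroup.index_top, Nat.dvd_one] at hp
    exact hpp.ne_one hp
  have h9 : p ≤ 9 * l := by
    rcases Nat.lt_or_ge l 5 with h5 | h5
    · interval_cases l <;> omega
    · have h46 : p ≠ 46 := fun h => by rw [h] at hpp; norm_num at hpp
      omega
  calc p ≤ 9 * l := h9
    _ = 3 * l * 3 := by ring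
    _ ≤ _ := Nat.mul_le_mul_left _ hk

end Cfsg.Agent.S4190
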