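import Cfsg.Statements.S4193
import Cfsg.Agent.Lib.Solv.RealFixed
import Cfsg.Agent.Lib.Local.InvertedTwoClosed
import Cfsg.Agent.S0205

set_option autoImplicit false
open Cfsg

namespace Cfsg.Agent.S4193

/-- Let G be a finite group in which the conjugacy classes of all non-central real elements (elements conjugate to their inverses) have sizes with the same 2-part, and suppose G has a Sylow 2-subgroup S such that every element of S that is conjugate in S to its inverse lies in the centre of S. Then G is solvable and the subgroup generated by the 2-elements of G (the smallest normal subgroup of odd index) has a normal 2-complement. -/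
theorem result {G : Type*} [Group G] [Finite G] (a : ℕ) (h : ∀ x : G, IsConj x x⁻¹ → x ∉ Subgroup.center G → ((Subgroup.centralizer ({x} : Set G)).index).factorization 2 = a) (S : Sylow 2 G) (hS : ∀ s : ↥(S : Subgroup G), IsConj s s⁻¹ → s ∈ Subgroup.center ↥(S : Subgroup G)) : Group.IsSolvable G ∧ Cfsg.HasNormalPComplement 2 ↥(Subgroup.closure {g : G | ∃ k : ℕ, orderOf g = 2 ^ k}) := by
  haveI : Fact (Nat.Prime 2) := ⟨Nat.prime_two⟩
  have hsolv : ∀ (N : Subgroup G) [N.Normal], Group.IsSolvable N → Group.IsSolvable (G ⧸ N) →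
      Group.IsSolvable G := fun N _ _ _ =>
    solvable_of_ker_le_range N.subtype (QuotientGroup.mk' N) (by simp)
  by_cases hcase : ∃ s : ↥(S : Subgroup G), IsConj s s⁻¹ ∧ (s : G) ∉ Subgroup.center G
  · obtain ⟨s, hs, hsc⟩ := hcase
    have hsS : (S : Subgroup G) ≤ Subgroup.centralizer {(s : G)} := fun y hy =>
      Subgroup.mem_centralizer_singleton_iff.2
        (congrArg Subtype.val (Subgroup.mem_center_iff.1 (hS s hs) ⟨y, hy⟩))
    have hsG : IsConj (s : G) (s : G)⁻¹ := (S : Subgroup G).subtype.map_isConj hs
    have ha : a = 0 := by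
      rw [← h _ hsG hsc]
      exact Nat.factorization_eq_zero_of_not_dvd fun hd =>
        S.not_dvd_index (hd.trans (Subgroup.index_dvd_of_le hsS))
    have hclosed : ∀ P : Sylow 2 G, (P : Subgroup G).Normal := by
      by_contra hP
      obtain ⟨q, hq, hq2, x, -, hx1, ⟨k, hk⟩, g, -, he⟩ :=
        Cfsg.Agent.Local.InvControl.exists_inv_of_not_two_closed hP
      haveI : Fact q.Prime := ⟨hq⟩
      obtain ⟨b, m, hm, hinv, hne⟩ :=
        Cfsg.Agent.Local.InvControl.exists_two_inverting hq2 hk hx1 he
      set y := g ^ m with hy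
      set C := Subgroup.centralizer {x} with hC
      have hxc : x ∉ Subgroup.center G := fun hc =>
        hne (by rw [← hinv, Subgroup.mem_center_iff.1 hc y, mul_inv_cancel_right])
      have h0 := h x (isConj_iff.2 ⟨y, hinv⟩) hxc
      rw [ha, Nat.factorization_eq_zero_iff] at h0
      have hyN : y ∈ Subgroup.normalizer (C : Set G) := by
        refine Cfsg.Agent.RealFix.mem_normalizer_of_forall fun z hz => ?_
        rw [hC, Subgroup.mem_centralizer_singleton_iff] at hz ⊢
        have hcz : Commute z x := hz
        have h1 : Commute (MulAut.conj y z) (MulAut.conj y x) := hcz.map (MulAut.conj y)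
        simp only [MulAut.conj_apply, hinv] at h1
        exact (Commute.inv_right_iff.1 h1).eq
      have hyC : y ∉ C := fun hyC => hne (by
        rw [hC, Subgroup.mem_centralizer_singleton_iff] at hyC
        rw [← hinv, hyC, mul_inv_cancel_right])
      have hy2 : y * y ∈ C := by
        rw [hC, Subgroup.mem_centralizer_singleton_iff]
        have h2 : y * y * x * (y * y)⁻¹ = x := by
          calc y * y * x * (y * y)⁻¹ = y * (y * x * y⁻¹) * y⁻¹ := by group
            _ = y * x⁻¹ * y⁻¹ := by rw [hinv]
            _ = (y * x * y⁻¹)⁻¹ := by group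
            _ = x := by rw [hinv, inv_inv]
        exact mul_inv_eq_iff_eq_mul.1 h2
      set N := Subgroup.normalizer (C : Set G) with hN
      haveI : (C.subgroupOf N).Normal := Subgroup.normal_in_normalizer
      have hord : orderOf (QuotientGroup.mk (⟨y, hyN⟩ : N) : N ⧸ C.subgroupOf N) = 2 := by
        refine orderOf_eq_prime ?_ ?_
        · rw [sq, ← QuotientGroup.mk_mul, QuotientGroup.eq_one_iff]
          exact hy2
        · rw [Ne, QuotientGroup.eq_one_iff]
          exact hyC
      have h2 : 2 ∣ C.relIndex N := by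
        rw [Subgroup.relIndex, Subgroup.index_eq_card, ← hord]
        exact orderOf_dvd_natCard _
      have h3 : 2 ∣ C.index := h2.trans
        ⟨N.index, (Subgroup.relIndex_mul_index Subgroup.le_normalizer).symm⟩
      rcases h0 with h0 | h0 | h0
      · exact h0 Nat.prime_two
      · exact h0 h3
      · exact Subgroup.index_ne_zero_of_finite h0
    haveI := hclosed S
    constructor
    · haveI : Group.IsNilpotent ↥(S : Subgroup G) := S.2.isNilpotent
      refine hsolv (S : Subgroup G) IsNilpotent.to_isSolvable (Cfsg.Agent.S0205.result ?_)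
      rw [← Subgroup.index_eq_card, ← Nat.not_even_iff_odd, even_iff_two_dvd]
      exact S.not_dvd_index
    · have hle : Subgroup.closure {g : G | ∃ k : ℕ, orderOf g = 2 ^ k} ≤ (S : Subgroup G) := by
        refine (Subgroup.closure_le _).2 fun g ⟨k, hk⟩ => ?_
        obtain ⟨P, hP⟩ := (IsPGroup.of_card (p := 2) (G := Subgroup.zpowers g) (n := k)
          (by rw [Nat.card_zpowers, hk])).exists_le_sylow
        rw [← Subsingleton.elim (h := S.unique_of_normal inferInstance |>.instSubsingleton) P S]
        exact hP (Subgroup.mem_zpowers g)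
      exact Cfsg.Agent.Fusion.hnpc_of_pgroup_quotient_pPrimeCore ((S.2.to_le hle).to_quotient _)
  · push Not at hcase
    have hnpc : Cfsg.HasNormalPComplement 2 G := by
      refine Cfsg.Agent.Fusion.hnpc_of_centralize (Cfsg.Agent.Fusion.sylIn_top S)
        fun Q hQ g hg hgp => ?_
      rw [Subgroup.mem_centralizer_iff]
      intro z hz
      have h1 := Cfsg.Agent.RealFix.fixes_of_fix_real (Nat.coprime_two_right.1 hgp) (Nat.card Q) Q
        rfl (S.2.to_le hQ) hg (fun u hu ⟨y, hy, he⟩ => by
          have hc := hcase ⟨u, hQ hu⟩ (isConj_iff.2 ⟨⟨y, hQ hy⟩, Subtype.ext he⟩)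
          rw [Subgroup.mem_center_iff.1 hc g, mul_inv_cancel_right]) z hz
      exact (mul_inv_eq_iff_eq_mul.1 h1).symm
    refine ⟨?_, Cfsg.Agent.Fusion.hnpc_subgroup hnpc _⟩
    haveI : Group.IsSolvable (Cfsg.pResidual 2 G) := Cfsg.Agent.S0205.result
      (Nat.coprime_two_right.1 (Cfsg.Agent.Fusion.hnpc_iff.1 hnpc))
    haveI : Group.IsNilpotent (G ⧸ Cfsg.pResidual 2 G) :=
      (Cfsg.Agent.Fusion.isPGroup_quotient_pResidual (G := G)).isNilpotent
    exact hsolv (Cfsg.pResidual 2 G) inferInstance IsNilpotent.to_isSolvable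

end Cfsg.Agent.S4193
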