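import Cfsg.Statements.S4194
import Cfsg.Agent.Lib.Fusion.TwoElementsCentral

set_option autoImplicit false
open Cfsg

namespace Cfsg.Agent.S4194

/-- A finite group G has commutative Sylow 2-subgroups if and only if every 2-element of G (element of order a power of 2) is 2-central, that is, its centralizer contains a Sylow 2-subgroup of G. -/
theorem result {G : Type*} [Group G] [Finite G] (P : Sylow 2 G) :
    IsMulCommutative (P : Subgroup G) ↔ ∀ x : G, (∃ k : ℕ, orderOf x = 2 ^ k) → (∃ Q : Sylow 2 G, (Q : Subgroup G) ≤ Subgroup.centralizer ({x} : Set G)) := by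
  constructor
  · rintro hP x ⟨k, hk⟩
    obtain ⟨Q, hQ⟩ := (IsPGroup.of_card (p := 2) (n := k) (by rw [Nat.card_zpowers, hk]) :
      IsPGroup 2 (Subgroup.zpowers x)).exists_le_sylow
    haveI := hP
    haveI : IsMulCommutative (Q : Subgroup G) := ⟨⟨fun a b => (P.equiv Q).symm.injective (by
      rw [map_mul, map_mul]; exact IsMulCommutative.is_comm.comm _ _)⟩⟩
    refine ⟨Q, fun q hq => Subgroup.mem_centralizer_singleton_iff.2 ?_⟩
    exact congrArg Subtype.val (IsMulCommutative.is_comm.comm (⟨q, hq⟩ : (Q : Subgroup G)) ⟨x, hQ (Subgroup.mem_zpowers x)⟩)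
  · intro h
    refine Cfsg.Agent.Fusion.TwoCentral.sylow_abelian_of_odd_classes (fun x hx hd => ?_) P
    obtain ⟨Q, hQ⟩ := h x hx
    exact Q.not_dvd_index (hd.trans (Subgroup.index_dvd_of_le hQ))

end Cfsg.Agent.S4194
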