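import Cfsg.Statements.S4195
import Mathlib


set_option autoImplicit false
open Cfsg

namespace Cfsg.Agent.S4195

universe u

theorem real_order {G : Type u} [Group G] [Finite G] {x : G} (hx : x ≠ 1) (P : Sylow 2 G)
    (hP : (P : Subgroup G) ≤ Subgroup.centralizer ({x} : Set G)) (hreal : IsConj x x⁻¹) :
    orderOf x = 2 := by
  haveI := Fact.mk Nat.prime_two
  set C := Subgroup.centralizer ({x} : Set G)
  obtain ⟨g, hg⟩ := isConj_iff.1 hreal
  obtain ⟨k, m, hm, hk⟩ := Nat.exists_eq_two_pow_mul_odd (orderOf_pos g).ne'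
  set t := g ^ m
  have ht : t ^ 2 ^ k = 1 := by rw [← pow_mul, mul_comm, ← hk, pow_orderOf_eq_one]
  have hconj : ∀ j : ℕ, g ^ j * x * (g ^ j)⁻¹ = if Even j then x else x⁻¹ := by
    intro j
    induction j with
    | zero => simp
    | succ j ih =>
      rw [pow_succ', show g * g ^ j * x * (g * g ^ j)⁻¹ = g * (g ^ j * x * (g ^ j)⁻¹) * g⁻¹ by group, ih]
      by_cases hj : Even j
      · rw [if_pos hj, if_neg (by simp [Nat.even_add_one, hj]), hg]
      · rw [if_neg hj, if_pos (by simp [Nat.even_add_one, hj]),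
          show g * x⁻¹ * g⁻¹ = (g * x * g⁻¹)⁻¹ by group, hg, inv_inv]
  have htx : t * x * t⁻¹ = x⁻¹ := by
    rw [hconj, if_neg (Nat.not_even_iff_odd.2 hm)]
  have hnorm : t ∈ Subgroup.normalizer (C : Set G) := by
    rw [Subgroup.mem_normalizer_iff]
    intro y
    simp only [C, Subgroup.mem_centralizer_singleton_iff]
    have key : t * y * t⁻¹ * x⁻¹ * (x⁻¹ * (t * y * t⁻¹))⁻¹ = t * (y * x * (x * y)⁻¹) * t⁻¹ := by
      rw [← htx]; group
    constructor
    · intro h
      rw [h, mul_inv_cancel, mul_one, mul_inv_cancel, mul_inv_eq_one] at key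
      calc t * y * t⁻¹ * x = x * (x⁻¹ * (t * y * t⁻¹)) * x := by group
        _ = x * (t * y * t⁻¹ * x⁻¹) * x := by rw [key]
        _ = x * (t * y * t⁻¹) := by group
    · intro h
      have h' : x⁻¹ * (t * y * t⁻¹) = t * y * t⁻¹ * x⁻¹ := by
        calc x⁻¹ * (t * y * t⁻¹) = x⁻¹ * (t * y * t⁻¹ * x) * x⁻¹ := by group
          _ = x⁻¹ * (x * (t * y * t⁻¹)) * x⁻¹ := by rw [h]
          _ = t * y * t⁻¹ * x⁻¹ := by group
      rw [h', mul_inv_cancel, eq_comm, mul_inv_eq_one, mul_eq_left, mul_inv_eq_one] at key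
      exact key
  let N := Subgroup.normalizer (C : Set G)
  have hCN : C ≤ N := Subgroup.le_normalizer
  have h1 : (⟨t, hnorm⟩ : N) ^ (C.subgroupOf N).index ∈ C.subgroupOf N :=
    Subgroup.pow_index_mem _ _
  have hodd : Odd (C.subgroupOf N).index := by
    rw [← Nat.not_even_iff_odd, even_iff_two_dvd]
    exact fun h => P.not_dvd_index (h.trans ((Subgroup.relIndex_dvd_index_of_le hCN).trans
      (Subgroup.index_dvd_of_le hP)))
  have h1' : t ^ (C.subgroupOf N).index ∈ C := h1
  have htC : t ∈ C := by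
    have := Subgroup.zpowers_le.2 h1'
    refine this ?_
    rw [mem_zpowers_pow_iff]
    exact ((Nat.coprime_two_right.2 hodd).pow_right k).coprime_dvd_right (orderOf_dvd_of_pow_eq_one ht)
  have hx2 : x ^ 2 = 1 := by
    have h2 : t * x * t⁻¹ = x := mul_inv_eq_iff_eq_mul.2 (Subgroup.mem_centralizer_singleton_iff.1 htC)
    rw [htx] at h2
    rw [sq]
    nth_rewrite 1 [← h2]
    exact inv_mul_cancel x
  exact orderOf_eq_prime hx2 hx


/-- Let x be a non-identity element of a finite group G whose centralizer contains a Sylow 2-subgroup of G. If x is conjugate to its inverse, then x has order 2. -/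
theorem result {G : Type*} [Group G] [Finite G] (x : G) (hx : x ≠ 1) (P : Sylow 2 G) (hP : (P : Subgroup G) ≤ Subgroup.centralizer ({x} : Set G)) (hreal : IsConj x x⁻¹) : orderOf x = 2 := by
  exact real_order hx P hP hreal

end Cfsg.Agent.S4195
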