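import Cfsg.Statements.S4196
import Cfsg.Agent.S4195

set_option autoImplicit false
open Cfsg

namespace Cfsg.Agent.S4196

/-- A finite group G has elementary abelian Sylow 2-subgroups (commutative with every element squaring to the identity) if and only if every 2-element of G has a Sylow 2-subgroup in its centralizer and is conjugate to its inverse. -/
theorem result {G : Type*} [Group G] [Finite G] (P : Sylow 2 G) :
    (IsMulCommutative (P : Subgroup G) ∧ ∀ x ∈ (P : Subgroup G), x ^ 2 = 1) ↔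
      ∀ x : G, (∃ k : ℕ, orderOf x = 2 ^ k) → (∃ Q : Sylow 2 G, (Q : Subgroup G) ≤ Subgroup.centralizer ({x} : Set G)) ∧ IsConj x x⁻¹ := by
  haveI := Fact.mk Nat.prime_two
  constructor
  · rintro ⟨hab, hexp⟩ x ⟨k, hk⟩
    obtain ⟨Q, hQ⟩ := (IsPGroup.of_card (n := k) (p := 2) (G := Subgroup.zpowers x)
      (by rw [Nat.card_zpowers, hk])).exists_le_sylow
    have hxQ : x ∈ (Q : Subgroup G) := hQ (Subgroup.mem_zpowers x)
    let e := Sylow.equiv Q P
    refine ⟨⟨Q, fun y hy => Subgroup.mem_centralizer_singleton_iff.2 ?_⟩, ?_⟩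
    · have h1 : (⟨y, hy⟩ : (Q : Subgroup G)) * ⟨x, hxQ⟩ = ⟨x, hxQ⟩ * ⟨y, hy⟩ := e.injective (by
        rw [map_mul, map_mul]; exact hab.is_comm.comm _ _)
      exact congrArg Subtype.val h1
    · have h2 : (⟨x, hxQ⟩ : (Q : Subgroup G)) ^ 2 = 1 := e.injective (by
        rw [map_pow, map_one]; exact Subtype.ext (hexp _ (e _).2))
      have h3 : x * x = 1 := by rw [← sq]; exact congrArg Subtype.val h2
      rw [inv_eq_of_mul_eq_one_right h3]
  · intro h
    have hexp : ∀ x ∈ (P : Subgroup G), x ^ 2 = 1 := by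
      intro x hx
      by_cases hx1 : x = 1
      · rw [hx1, one_pow]
      obtain ⟨k, hk⟩ := P.isPGroup' ⟨x, hx⟩
      obtain ⟨j, -, hj⟩ := (Nat.dvd_prime_pow Nat.prime_two).1
        (orderOf_dvd_of_pow_eq_one (congrArg Subtype.val hk : x ^ 2 ^ k = 1))
      obtain ⟨⟨Q, hQ⟩, hreal⟩ := h x ⟨j, hj⟩
      rw [← Cfsg.Agent.S4195.real_order hx1 Q hQ hreal]
      exact pow_orderOf_eq_one x
    refine ⟨⟨⟨fun a b => ?_⟩⟩, hexp⟩
    have key : ∀ c : (P : Subgroup G), c⁻¹ = c := fun c => inv_eq_of_mul_eq_one_right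
      (Subtype.ext (show (c : G) * c = 1 from (sq _).symm.trans (hexp c c.2)))
    rw [← key (a * b), _root_.mul_inv_rev, key a, key b]

end Cfsg.Agent.S4196
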