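import Cfsg.Statements.S4198
import Mathlib

set_option autoImplicit false
open Cfsg

namespace Cfsg.Agent.S4198

section Aux

open Equiv Equiv.Perm

/-- Partitions of five are determined by the multiplicities of their parts. -/
theorem card_five : Fintype.card (Nat.Partition 5) ≤ 8 := by
  classical
  let T : Finset (Fin 6 × Fin 3 × Fin 2 × Fin 2 × Fin 2) :=
    Finset.univ.filter fun c => c.1.val + 2 * c.2.1.val + 3 * c.2.2.1.val + 4 * c.2.2.2.1.val +
      5 * c.2.2.2.2.val = 5
  have hT : T.card ≤ 8 := by decide
  have hsum : ∀ q : Nat.Partition 5, q.parts.count 1 + 2 * q.parts.count 2 + 3 * q.parts.count 3 +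
      4 * q.parts.count 4 + 5 * q.parts.count 5 = 5 := by
    intro q
    have h := Finset.sum_multiset_count_of_subset q.parts (Finset.Icc 1 5) (fun x hx => by
      rw [Multiset.mem_toFinset] at hx
      rw [Finset.mem_Icc]
      exact ⟨q.parts_pos hx, (Multiset.le_sum_of_mem hx).trans q.parts_sum.le⟩)
    rw [q.parts_sum, show Finset.Icc 1 5 = ({1, 2, 3, 4, 5} : Finset ℕ) from rfl] at h
    simp only [Finset.sum_insert, Finset.mem_insert, Finset.mem_singleton, Finset.sum_singleton,
      smul_eq_mul] at h
    simp at h
    omega
  let f : Nat.Partition 5 → Fin 6 × Fin 3 × Fin 2 × Fin 2 × Fin 2 := fun q =>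
    (⟨q.parts.count 1, by have := hsum q; omega⟩, ⟨q.parts.count 2, by have := hsum q; omega⟩,
      ⟨q.parts.count 3, by have := hsum q; omega⟩, ⟨q.parts.count 4, by have := hsum q; omega⟩,
      ⟨q.parts.count 5, by have := hsum q; omega⟩)
  refine le_trans (Finset.card_le_card_of_injOn f (t := T) (fun q _ => ?_) ?_) hT
  · simp only [T, Finset.coe_filter, Finset.mem_univ, true_and, Set.mem_setOf_eq, f]
    exact hsum q
  · intro q _ r _ h
    simp only [f, Prod.mk.injEq, Fin.mk.injEq] at h
    refine Nat.Partition.ext (Multiset.ext.2 fun a => ?_)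
    by_cases ha : a ∈ ({1, 2, 3, 4, 5} : Finset ℕ)
    · simp only [Finset.mem_insert, Finset.mem_singleton] at ha
      rcases ha with rfl | rfl | rfl | rfl | rfl
      exacts [h.1, h.2.1, h.2.2.1, h.2.2.2.1, h.2.2.2.2]
    · have hout : ∀ s : Nat.Partition 5, s.parts.count a = 0 := fun s =>
        Multiset.count_eq_zero.2 fun hm => ha (by
          have h1 := s.parts_pos hm
          have h2 := (Multiset.le_sum_of_mem hm).trans s.parts_sum.le
          interval_cases a <;> simp)
      rw [hout q, hout r]

theorem card_succ (n : ℕ) (hn : 1 ≤ n) :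
    Fintype.card (Nat.Partition (n + 1)) ≤ 2 * Fintype.card (Nat.Partition n) := by
  classical
  have hne : ∀ q : Nat.Partition (n + 1), q.parts.toFinset.Nonempty := fun q => by
    rw [Multiset.toFinset_nonempty]
    intro h
    simpa [h] using q.parts_sum
  let low : Nat.Partition (n + 1) → ℕ := fun q => q.parts.toFinset.min' (hne q)
  have hmem : ∀ q, low q ∈ q.parts := fun q => Multiset.mem_toFinset.1 (Finset.min'_mem _ _)
  have hpos : ∀ q, 1 ≤ low q := fun q => q.parts_pos (hmem q)
  have hlow : ∀ q x, x ∈ q.parts → low q ≤ x := fun q x hx =>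
    Finset.min'_le _ _ (Multiset.mem_toFinset.2 hx)
  let red : Nat.Partition (n + 1) → Nat.Partition n := fun q =>
    Nat.Partition.ofSums n ((low q - 1) ::ₘ q.parts.erase (low q)) (by
      have h := congrArg Multiset.sum (Multiset.cons_erase (hmem q))
      rw [Multiset.sum_cons, q.parts_sum] at h
      rw [Multiset.sum_cons]
      have := hpos q
      omega)
  refine le_trans (Fintype.card_le_of_injective
    (fun q => (decide (low q = 1), red q)) ?_) (by simp)
  intro q r h
  simp only [Prod.mk.injEq, decide_eq_decide] at h
  obtain ⟨h1, h2⟩ := h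
  have h3 := congrArg Nat.Partition.parts h2
  have hnz : ∀ s : Nat.Partition (n + 1), ∀ x ∈ s.parts.erase (low s), x ≠ 0 := fun s x hx =>
    (s.parts_pos (Multiset.mem_of_mem_erase hx)).ne'
  simp only [red, Nat.Partition.ofSums_parts] at h3
  refine Nat.Partition.ext ?_
  rw [← Multiset.cons_erase (hmem q), ← Multiset.cons_erase (hmem r)]
  by_cases hq : low q = 1
  · have hr := h1.1 hq
    rw [hq, hr] at h3 ⊢
    simp only [Nat.sub_self, Multiset.filter_cons, ne_eq, not_true_eq_false, if_false,
      zero_add] at h3
    have hq' := hnz q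
    have hr' := hnz r
    rw [hq] at hq'
    rw [hr] at hr'
    rw [Multiset.filter_eq_self.2 hq', Multiset.filter_eq_self.2 hr'] at h3
    rw [h3]
  · have hr : low r ≠ 1 := fun e => hq (h1.2 e)
    have hpq := hpos q
    have hpr := hpos r
    rw [Multiset.filter_eq_self.2 (fun x hx => ?_), Multiset.filter_eq_self.2 (fun x hx => ?_)] at h3
    · have hkey : low q = low r := by
        have m1 : low q - 1 ∈ (low r - 1) ::ₘ r.parts.erase (low r) := h3 ▸ Multiset.mem_cons_self _ _
        have m2 : low r - 1 ∈ (low q - 1) ::ₘ q.parts.erase (low q) :=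
          h3.symm ▸ Multiset.mem_cons_self _ _
        rcases Multiset.mem_cons.1 m1 with e | e
        · omega
        · have := hlow r _ (Multiset.mem_of_mem_erase e)
          rcases Multiset.mem_cons.1 m2 with e' | e'
          · omega
          · have := hlow q _ (Multiset.mem_of_mem_erase e')
            omega
      rw [hkey] at h3 ⊢
      exact congrArg _ ((Multiset.cons_inj_right _).1 h3)
    · rcases Multiset.mem_cons.1 hx with rfl | hx
      · omega
      · exact hnz r x hx
    · rcases Multiset.mem_cons.1 hx with rfl | hx
      · omega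
      · exact hnz q x hx

theorem card_bound : ∀ n : ℕ, 5 ≤ n → Fintype.card (Nat.Partition n) ≤ 2 ^ (n - 2) := by
  intro n hn
  induction n, hn using Nat.le_induction with
  | base => simpa using card_five
  | succ n hn ih =>
    refine (card_succ n (by omega)).trans ?_
    rw [show n + 1 - 2 = (n - 2) + 1 by omega, pow_succ']
    exact Nat.mul_le_mul_left 2 ih

variable {α : Type*} [Fintype α] [DecidableEq α]

theorem parity (g : Perm α) :
    Even (g.cycleType.sum + Multiset.card g.cycleType) ↔
      Even (Fintype.card α + Multiset.card g.partition.parts) := by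
  rw [parts_partition, Multiset.card_add, Multiset.card_replicate, ← sum_cycleType]
  have h : g.cycleType.sum ≤ Fintype.card α := by
    rw [sum_cycleType]; exact Finset.card_le_univ _
  rw [show Fintype.card α + (Multiset.card g.cycleType + (Fintype.card α - g.cycleType.sum)) =
    (g.cycleType.sum + Multiset.card g.cycleType) +
      2 * (Fintype.card α - g.cycleType.sum) by omega]
  simp [Nat.even_add]

theorem parts_even_perm (g : Perm α) (hg : g ∈ alternatingGroup α) :
    Even (Fintype.card α + Multiset.card g.partition.parts) := by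
  rw [← parity]
  have h : sign g = 1 := hg
  rw [sign_of_cycleType] at h
  by_contra hodd
  rw [Nat.not_even_iff_odd] at hodd
  rw [hodd.neg_one_pow] at h
  exact absurd h (by decide)

theorem partition_surjective : Function.Surjective (fun g : Perm α => g.partition) := by
  intro q
  have hfil : (q.parts.filter fun m => 2 ≤ m).sum ≤ Fintype.card α := by
    refine le_trans ?_ q.parts_sum.le
    conv_rhs => rw [← Multiset.filter_add_not (fun m => 2 ≤ m) q.parts, Multiset.sum_add]
    exact Nat.le_add_right _ _
  obtain ⟨g, hg⟩ := (exists_with_cycleType_iff α).2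
    ⟨hfil, fun a ha => (Multiset.mem_filter.1 ha).2⟩
  refine ⟨g, Nat.Partition.ext ?_⟩
  have hones : q.parts.filter (fun m => ¬ 2 ≤ m) =
      Multiset.replicate (Multiset.card (q.parts.filter (fun m => ¬ 2 ≤ m))) 1 :=
    Multiset.eq_replicate_card.2 fun a ha => by
      have h1 := q.parts_pos (Multiset.mem_filter.1 ha).1
      have h2 := (Multiset.mem_filter.1 ha).2
      omega
  have hsum := congrArg Multiset.sum (Multiset.filter_add_not (fun m => 2 ≤ m) q.parts)
  rw [Multiset.sum_add, q.parts_sum, hones, Multiset.sum_replicate, smul_eq_mul, mul_one,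
    ← hg, sum_cycleType] at hsum
  show g.partition.parts = q.parts
  conv_rhs => rw [← Multiset.filter_add_not (fun m => 2 ≤ m) q.parts, hones, ← hg]
  rw [parts_partition]
  congr 2
  omega

/-- Two classes of the alternating group inside one class of the symmetric group: the parts of
the partition are odd and distinct. -/
theorem split_parts (hα : 5 ≤ Fintype.card α) (g h : alternatingGroup α)
    (hc : IsConj (g : Perm α) h) (hnc : ¬ IsConj g h) :
    (g : Perm α).partition.parts.Nodup ∧ ∀ a ∈ (g : Perm α).partition.parts, Odd a := by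
  have hle : Subgroup.centralizer {(g : Perm α)} ≤ alternatingGroup α := by
    intro z hz
    by_contra hzA
    obtain ⟨c, hcg⟩ := isConj_iff.1 hc
    by_cases hcA : c ∈ alternatingGroup α
    · exact hnc (isConj_iff.2 ⟨⟨c, hcA⟩, Subtype.ext hcg⟩)
    · refine hnc (isConj_iff.2 ⟨⟨c * z, ?_⟩, Subtype.ext ?_⟩)
      · rw [mem_alternatingGroup] at hcA hzA ⊢
        rw [map_mul, Int.units_ne_iff_eq_neg.1 hcA, Int.units_ne_iff_eq_neg.1 hzA]
        decide
      · show c * z * (g : Perm α) * (c * z)⁻¹ = h
        rw [mul_assoc c z, Subgroup.mem_centralizer_singleton_iff.1 hz, ← hcg]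
        group
  obtain ⟨hodd, hfix, hcount⟩ := Equiv.Perm.centralizer_le_alternating_iff.1 hle
  rw [parts_partition]
  have hone : Fintype.card α - (g : Perm α).support.card ≤ 1 := by
    rw [← sum_cycleType]; omega
  refine ⟨?_, fun a ha => ?_⟩
  · rw [Multiset.nodup_add]
    refine ⟨Multiset.nodup_iff_count_le_one.2 hcount, ?_, ?_⟩
    · rw [Multiset.nodup_iff_count_le_one]
      intro a
      rw [Multiset.count_replicate]
      split_ifs <;> omega
    · rw [Multiset.disjoint_left]
      intro a ha ha'
      have h2 := Equiv.Perm.two_le_of_mem_cycleType ha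
      have h1 := Multiset.eq_of_mem_replicate ha'
      omega
  · rcases Multiset.mem_add.1 ha with h1 | h1
    · exact hodd a h1
    · rw [Multiset.eq_of_mem_replicate h1]; exact odd_one

theorem card_classes_perm :
    Nat.card (ConjClasses (Perm α)) = Fintype.card (Nat.Partition (Fintype.card α)) := by
  rw [← Nat.card_eq_fintype_card]
  let f : ConjClasses (Perm α) → Nat.Partition (Fintype.card α) :=
    Quotient.lift (fun g : Perm α => g.partition) fun a b h => partition_eq_of_isConj.1 h
  refine Nat.card_eq_of_bijective f ⟨fun a b h => ?_, fun q => ?_⟩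
  · induction a using Quotient.inductionOn with
    | _ a =>
      induction b using Quotient.inductionOn with
      | _ b => exact Quotient.sound (partition_eq_of_isConj.2 h)
  · obtain ⟨g, hg⟩ := partition_surjective q
    exact ⟨ConjClasses.mk g, hg⟩

open Classical in
theorem card_classes_alt (hα : 5 ≤ Fintype.card α) :
    Nat.card (ConjClasses (alternatingGroup α)) < Fintype.card (Nat.Partition (Fintype.card α)) := by
  set N := Fintype.card α with hN
  let P : ConjClasses (alternatingGroup α) → Nat.Partition N :=
    Quotient.lift (fun g : alternatingGroup α => (g : Perm α).partition) fun a b h =>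
      partition_eq_of_isConj.1 ((alternatingGroup α).subtype.map_isConj h)
  -- at most two classes have the same partition
  have hfib : ∀ a b c, P a = P b → P a = P c → a ≠ b → a ≠ c → b = c := by
    intro a b c
    induction a using Quotient.inductionOn with
    | _ a =>
      induction b using Quotient.inductionOn with
      | _ b =>
        induction c using Quotient.inductionOn with
        | _ c =>
          intro hab hac nab nac
          obtain ⟨x, hx⟩ := isConj_iff.1 (partition_eq_of_isConj.2 hab : IsConj (a : Perm α) b)
          obtain ⟨y, hy⟩ := isConj_iff.1 (partition_eq_of_isConj.2 hac : IsConj (a : Perm α) c)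
          have hxA : x ∉ alternatingGroup α := fun h => nab (Quotient.sound
            (isConj_iff.2 ⟨⟨x, h⟩, Subtype.ext hx⟩))
          have hyA : y ∉ alternatingGroup α := fun h => nac (Quotient.sound
            (isConj_iff.2 ⟨⟨y, h⟩, Subtype.ext hy⟩))
          refine Quotient.sound (isConj_iff.2 ⟨⟨y * x⁻¹, ?_⟩, Subtype.ext ?_⟩)
          · rw [mem_alternatingGroup] at hxA hyA ⊢
            rw [map_mul, map_inv, Int.units_ne_iff_eq_neg.1 hxA, Int.units_ne_iff_eq_neg.1 hyA]
            decide
          · show y * x⁻¹ * (b : Perm α) * (y * x⁻¹)⁻¹ = c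
            rw [← hx, ← hy]; group
  have heven : ∀ a, Even (N + Multiset.card (P a).parts) := by
    intro a
    induction a using Quotient.inductionOn with
    | _ a => exact parts_even_perm _ a.2
  have hsplit : ∀ a b, P a = P b → a ≠ b →
      (P a).parts.Nodup ∧ ∀ x ∈ (P a).parts, Odd x := by
    intro a b
    induction a using Quotient.inductionOn with
    | _ a =>
      induction b using Quotient.inductionOn with
      | _ b =>
        intro hab nab
        exact split_parts hα a b (partition_eq_of_isConj.2 hab) fun h => nab (Quotient.sound h)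
  -- breaking the largest part
  have hne : ∀ q : Nat.Partition N, q.parts.toFinset.Nonempty := fun q => by
    rw [Multiset.toFinset_nonempty]
    intro h
    have := q.parts_sum
    rw [h, Multiset.sum_zero] at this
    omega
  let top : Nat.Partition N → ℕ := fun q => q.parts.toFinset.max' (hne q)
  have hmem : ∀ q, top q ∈ q.parts := fun q => Multiset.mem_toFinset.1 (Finset.max'_mem _ _)
  let φ : Nat.Partition N → Nat.Partition N := fun q =>
    Nat.Partition.ofSums N ((top q - 1) ::ₘ 1 ::ₘ q.parts.erase (top q)) (by
      have h := congrArg Multiset.sum (Multiset.cons_erase (hmem q))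
      rw [Multiset.sum_cons, q.parts_sum] at h
      rw [Multiset.sum_cons, Multiset.sum_cons]
      have := q.parts_pos (hmem q)
      omega)
  have htop : ∀ q : Nat.Partition N, q.parts.Nodup → (∀ x ∈ q.parts, Odd x) →
      3 ≤ top q ∧ (φ q).parts = (top q - 1) ::ₘ 1 ::ₘ q.parts.erase (top q) := by
    intro q hnd hodd
    have h3 : 3 ≤ top q := by
      by_contra hlt
      have hall : ∀ x ∈ q.parts, x = 1 := fun x hx => by
        have h1 : x ≤ top q := Finset.le_max' _ _ (Multiset.mem_toFinset.2 hx)
        obtain ⟨k, hk⟩ := hodd x hx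
        omega
      have hc : Multiset.card q.parts ≤ 1 := by
        rw [Multiset.eq_replicate_card.2 hall] at hnd
        have := Multiset.nodup_iff_count_le_one.1 hnd 1
        rwa [Multiset.count_replicate_self] at this
      have := q.parts_sum
      rw [Multiset.eq_replicate_card.2 hall, Multiset.sum_replicate, smul_eq_mul, mul_one] at this
      omega
    refine ⟨h3, ?_⟩
    simp only [φ, Nat.Partition.ofSums_parts]
    refine Multiset.filter_eq_self.2 fun x hx => ?_
    rcases Multiset.mem_cons.1 hx with rfl | hx
    · omega
    rcases Multiset.mem_cons.1 hx with rfl | hx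
    · omega
    · exact (q.parts_pos (Multiset.mem_of_mem_erase hx)).ne'
  have hφodd : ∀ a b, P a = P b → a ≠ b →
      ¬ Even (N + Multiset.card (φ (P a)).parts) := by
    intro a b hab nab
    obtain ⟨hnd, hodd⟩ := hsplit a b hab nab
    rw [(htop _ hnd hodd).2, Multiset.card_cons, Multiset.card_cons,
      Multiset.card_erase_of_mem (hmem _)]
    have hpos : 0 < Multiset.card (P a).parts := Multiset.card_pos_iff_exists_mem.2 ⟨_, hmem _⟩
    have := heven a
    rw [Nat.pred_eq_sub_one]
    rw [Nat.even_iff] at this ⊢
    omega
  have hφinj : ∀ q r : Nat.Partition N, q.parts.Nodup → (∀ x ∈ q.parts, Odd x) → r.parts.Nodup →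
      (∀ x ∈ r.parts, Odd x) → φ q = φ r → q = r := by
    intro q r hq1 hq2 hr1 hr2 h
    obtain ⟨hq3, hqp⟩ := htop q hq1 hq2
    obtain ⟨hr3, hrp⟩ := htop r hr1 hr2
    have h' := congrArg Nat.Partition.parts h
    rw [hqp, hrp] at h'
    have hev : top q = top r := by
      obtain ⟨k, hk⟩ := hq2 _ (hmem q)
      have m : top q - 1 ∈ (top r - 1) ::ₘ 1 ::ₘ r.parts.erase (top r) :=
        h' ▸ Multiset.mem_cons_self _ _
      rcases Multiset.mem_cons.1 m with e | e
      · omega
      rcases Multiset.mem_cons.1 e with e | e
      · omega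
      · obtain ⟨l, hl⟩ := hr2 _ (Multiset.mem_of_mem_erase e)
        omega
    rw [hev] at h'
    refine Nat.Partition.ext ?_
    rw [← Multiset.cons_erase (hmem q), ← Multiset.cons_erase (hmem r), hev]
    rw [Multiset.cons_inj_right, Multiset.cons_inj_right] at h'
    rw [h']
  -- the injection
  haveI : Fintype (ConjClasses (alternatingGroup α)) := Fintype.ofFinite _
  let first : Nat.Partition N → Option (ConjClasses (alternatingGroup α)) := fun q =>
    if h : ∃ a, P a = q then some h.choose else none
  let F : ConjClasses (alternatingGroup α) → Nat.Partition N := fun a =>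
    if first (P a) = some a then P a else φ (P a)
  have hfirst : ∀ a, ∃ b, first (P a) = some b ∧ P b = P a := fun a => by
    have hex : ∃ c, P c = P a := ⟨a, rfl⟩
    exact ⟨hex.choose, by simp only [first, dif_pos hex], hex.choose_spec⟩
  have hsecond : ∀ a, first (P a) ≠ some a → ∃ b, P a = P b ∧ a ≠ b := fun a ha => by
    obtain ⟨b, hb1, hb2⟩ := hfirst a
    exact ⟨b, hb2.symm, fun e => ha (e.symm ▸ hb1)⟩
  have hinj : Function.Injective F := by
    intro a b hab
    simp only [F] at hab
    split_ifs at hab with ha hb hb
    · rw [hab] at ha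
      exact Option.some.inj (ha.symm.trans hb)
    · obtain ⟨c, hc1, hc2⟩ := hsecond b hb
      exact absurd (hab ▸ heven a) (hφodd b c hc1 hc2)
    · obtain ⟨c, hc1, hc2⟩ := hsecond a ha
      exact absurd (hab.symm ▸ heven b) (hφodd a c hc1 hc2)
    · obtain ⟨c, hc1, hc2⟩ := hsecond a ha
      obtain ⟨d, hd1, hd2⟩ := hsecond b hb
      have hPab : P a = P b := hφinj _ _ (hsplit a c hc1 hc2).1 (hsplit a c hc1 hc2).2
        (hsplit b d hd1 hd2).1 (hsplit b d hd1 hd2).2 hab
      obtain ⟨e, he1, he2⟩ := hfirst a
      by_contra hne
      have hea : a ≠ e := fun h => ha (h.symm ▸ he1)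
      have heb : b ≠ e := fun h => hb (by rw [← hPab, h]; exact he1)
      exact heb (hfib a b e hPab he2.symm hne hea)
  -- the transposition class is missed
  let t : Nat.Partition N := Nat.Partition.ofSums N (2 ::ₘ Multiset.replicate (N - 2) 1) (by
    rw [Multiset.sum_cons, Multiset.sum_replicate, smul_eq_mul, mul_one]; omega)
  have htp : t.parts = 2 ::ₘ Multiset.replicate (N - 2) 1 := by
    simp only [t, Nat.Partition.ofSums_parts]
    refine Multiset.filter_eq_self.2 fun x hx => ?_
    rcases Multiset.mem_cons.1 hx with rfl | hx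
    · omega
    · rw [Multiset.eq_of_mem_replicate hx]; omega
  rw [Nat.card_eq_fintype_card]
  refine Fintype.card_lt_of_injective_of_notMem F hinj (b := t) ?_
  rintro ⟨a, ha⟩
  simp only [F] at ha
  split_ifs at ha with h1
  · have := heven a
    rw [ha, htp, Multiset.card_cons, Multiset.card_replicate] at this
    rw [Nat.even_iff] at this
    omega
  · obtain ⟨c, hc1, hc2⟩ := hsecond a h1
    obtain ⟨hnd, hodd⟩ := hsplit a c hc1 hc2
    obtain ⟨h3, hp⟩ := htop _ hnd hodd
    have hp' := congrArg Nat.Partition.parts ha
    rw [hp, htp] at hp'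
    have he : top (P a) - 1 = 2 := by
      have m : top (P a) - 1 ∈ 2 ::ₘ Multiset.replicate (N - 2) 1 :=
        hp' ▸ Multiset.mem_cons_self _ _
      rcases Multiset.mem_cons.1 m with e | e
      · exact e
      · have := Multiset.eq_of_mem_replicate e; omega
    rw [he, Multiset.cons_inj_right] at hp'
    have hcount := congrArg (Multiset.count 1) hp'
    rw [Multiset.count_cons_self, Multiset.count_replicate_self] at hcount
    have h4 : ((P a).parts.erase (top (P a))).count 1 ≤ 1 :=
      le_trans (Multiset.count_le_of_le 1 (Multiset.erase_le _ _))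
        (Multiset.nodup_iff_count_le_one.1 hnd 1)
    omega

end Aux

/-- For n ≥ 5 the alternating group of degree n has strictly fewer conjugacy classes than the symmetric group of degree n, and the symmetric group of degree n (whose classes correspond to the partitions of n) has at most 2^(n−2) conjugacy classes. -/
theorem result (n : ℕ) (hn : 5 ≤ n) : Nat.card (ConjClasses (alternatingGroup (Fin n))) < Nat.card (ConjClasses (Equiv.Perm (Fin n))) ∧ Nat.card (ConjClasses (Equiv.Perm (Fin n))) ≤ 2 ^ (n - 2) := by
  rw [card_classes_perm, Fintype.card_fin]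
  refine ⟨?_, card_bound n hn⟩
  have h := card_classes_alt (α := Fin n) (by rw [Fintype.card_fin]; exact hn)
  rwa [Fintype.card_fin] at h

end Cfsg.Agent.S4198
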