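import Cfsg.Statements.S4200
import Mathlib


set_option autoImplicit false
open Cfsg

namespace Cfsg.Agent.S4200

universe u

variable {X : Type u} [Group X] [Finite X] (Y : Subgroup X)

/-- Commuting pairs inject into pairs of cosets and commuting pairs of the subgroup. -/
theorem pairs_le :
    ∃ f : {p : X × X // Commute p.1 p.2} → ((X ⧸ Y) × (X ⧸ Y)) × {p : Y × Y // Commute p.1 p.2},
      Function.Injective f ∧ (∀ z, (f z).1 = ((z.1.1 : X ⧸ Y), (z.1.2 : X ⧸ Y))) ∧
        ∀ (c d : X ⧸ Y) (n : Y),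
        (∀ x : X, (x : X ⧸ Y) = c → ¬ Commute x n) →
          ∀ m (h : Commute (n, m).1 (n, m).2), ∀ z, f z ≠ ((c, d), ⟨(n, m), h⟩) := by
  classical
  let y₀ : X → (X ⧸ Y) → X := fun x d => Classical.epsilon fun y : X => (y : X ⧸ Y) = d ∧ Commute x y
  let x₀ : X → (X ⧸ Y) → X := fun n c => Classical.epsilon fun x : X => (x : X ⧸ Y) = c ∧ Commute x n
  have hy₀ : ∀ x y : X, Commute x y → (y₀ x y)⁻¹ * y ∈ Y ∧ Commute x ((y₀ x y)⁻¹ * y) := fun x y h => by
    obtain ⟨h1, h2⟩ := Classical.epsilon_spec (p := fun y' : X => (y' : X ⧸ Y) = y ∧ Commute x y')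
      ⟨y, rfl, h⟩
    exact ⟨QuotientGroup.eq.1 h1, (show Commute x (y₀ x y) from h2).inv_right.mul_right h⟩
  have hx₀ : ∀ x n : X, Commute x n → (x₀ n x)⁻¹ * x ∈ Y ∧ Commute ((x₀ n x)⁻¹ * x) n := fun x n h => by
    obtain ⟨h1, h2⟩ := Classical.epsilon_spec (p := fun x' : X => (x' : X ⧸ Y) = x ∧ Commute x' n)
      ⟨x, rfl, h⟩
    exact ⟨QuotientGroup.eq.1 h1, (show Commute (x₀ n x) n from h2).inv_left.mul_left h⟩
  let f : {p : X × X // Commute p.1 p.2} → ((X ⧸ Y) × (X ⧸ Y)) × {p : Y × Y // Commute p.1 p.2} :=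
    fun z => ((z.1.1, z.1.2), ⟨(⟨_, (hy₀ _ _ z.2).1⟩, ⟨_, (hx₀ _ _ (hy₀ _ _ z.2).2).1⟩),
      Subtype.ext (hx₀ _ _ (hy₀ _ _ z.2).2).2.symm.eq⟩)
  refine ⟨f, ?_, fun z => rfl, ?_⟩
  · rintro ⟨⟨x, y⟩, h⟩ ⟨⟨x', y'⟩, h'⟩ e
    simp only [f, Prod.ext_iff, Subtype.ext_iff] at e
    obtain ⟨⟨ex, ey⟩, en, em⟩ := e
    rw [← en, ← ex] at em
    have hx : x = x' := mul_left_cancel em
    subst hx
    rw [← ey] at en
    have hy : y = y' := mul_left_cancel en
    subst hy
    rfl
  · rintro c d n hno m hnm ⟨⟨x, y⟩, h⟩ e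
    simp only [f, Prod.mk.injEq, Subtype.mk.injEq, Subtype.ext_iff] at e
    obtain ⟨⟨ex, -⟩, en, -⟩ := e
    exact hno x ex (en ▸ (hy₀ x y h).2)

theorem card_pairs :
    Nat.card X * Nat.card (ConjClasses X) ≤
      Y.index * Y.index * (Nat.card Y * Nat.card (ConjClasses Y)) := by
  obtain ⟨f, hf, -, -⟩ := pairs_le Y
  have := Nat.card_le_card_of_injective f hf
  rw [Nat.card_prod, Nat.card_prod, card_comm_eq_card_conjClasses_mul_card,
    card_comm_eq_card_conjClasses_mul_card, ← Subgroup.index_eq_card] at this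
  rw [mul_comm (Nat.card X), mul_comm (Nat.card Y)]
  exact this

theorem card_pairs_strict (hY : ¬ Y.Normal) :
    Nat.card X * Nat.card (ConjClasses X) <
      Y.index * Y.index * (Nat.card Y * Nat.card (ConjClasses Y)) := by
  obtain ⟨f, hf, -, hmiss⟩ := pairs_le Y
  obtain ⟨c, n, hno⟩ : ∃ (c : X ⧸ Y) (n : Y), ∀ x : X, (x : X ⧸ Y) = c → ¬ Commute x n := by
    by_contra hcon
    push Not at hcon
    refine hY ⟨fun n hn g => ?_⟩
    obtain ⟨x, hx, hc⟩ := hcon (g⁻¹ : X) ⟨n, hn⟩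
    have h1 : (g * x) ∈ Y := by
      have := QuotientGroup.eq.1 hx.symm
      rwa [inv_inv] at this
    have e : g * n * g⁻¹ = (g * x) * n * (g * x)⁻¹ := by
      rw [show (g * x) * n * (g * x)⁻¹ = g * (x * n * x⁻¹) * g⁻¹ by group, hc.eq, mul_inv_cancel_right]
    rw [e]
    exact mul_mem (mul_mem h1 hn) (inv_mem h1)
  have hlt : Nat.card {p : X × X // Commute p.1 p.2} <
      Nat.card (((X ⧸ Y) × (X ⧸ Y)) × {p : Y × Y // Commute p.1 p.2}) := by
    rcases (Nat.card_le_card_of_injective f hf).lt_or_eq with h | h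
    · exact h
    · obtain ⟨z, hz⟩ := ((Nat.bijective_iff_injective_and_card f).2 ⟨hf, h⟩).2
        ((c, c), ⟨(n, n), Commute.refl n⟩)
      exact absurd hz (hmiss c c n hno n _ z)
  rw [Nat.card_prod, Nat.card_prod, card_comm_eq_card_conjClasses_mul_card,
    card_comm_eq_card_conjClasses_mul_card, ← Subgroup.index_eq_card] at hlt
  rw [mul_comm (Nat.card X), mul_comm (Nat.card Y)]
  exact hlt


/-- Let Y be a subgroup of the finite group X, of index m. Then the numbers of conjugacy classes satisfy k(Y) ≤ m·k(X) and k(X) ≤ m·k(Y), and the second inequality is strict unless Y is normal in X. -/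
theorem result {X : Type*} [Group X] [Finite X] (Y : Subgroup X) : Nat.card (ConjClasses Y) ≤ Y.index * Nat.card (ConjClasses X) ∧ Nat.card (ConjClasses X) ≤ Y.index * Nat.card (ConjClasses Y) ∧ (¬ Y.Normal → Nat.card (ConjClasses X) < Y.index * Nat.card (ConjClasses Y)) := by
  have hYX : Nat.card Y * Nat.card (ConjClasses Y) ≤ Nat.card X * Nat.card (ConjClasses X) := by
    have := Nat.card_le_card_of_injective
      (fun z : {p : Y × Y // Commute p.1 p.2} =>
        (⟨((z.1.1 : X), (z.1.2 : X)), z.2.map Y.subtype⟩ : {p : X × X // Commute p.1 p.2}))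
      (fun a b e => by
        have e' := congrArg Subtype.val e
        exact Subtype.ext (Prod.ext (Subtype.ext (congrArg Prod.fst e')) (Subtype.ext (congrArg Prod.snd e'))))
    rw [card_comm_eq_card_conjClasses_mul_card, card_comm_eq_card_conjClasses_mul_card] at this
    linarith
  have hcard := Y.card_mul_index
  refine ⟨?_, ?_, fun hY => ?_⟩
  · refine Nat.le_of_mul_le_mul_left ?_ (Nat.card_pos (α := Y))
    rw [← mul_assoc, hcard]
    exact hYX
  · refine Nat.le_of_mul_le_mul_left ?_ (Nat.card_pos (α := X))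
    refine (card_pairs Y).trans (le_of_eq ?_)
    rw [← hcard]; ring
  · refine Nat.lt_of_mul_lt_mul_left (a := Nat.card X) ((card_pairs_strict Y hY).trans_le (le_of_eq ?_))
    rw [← hcard]; ring

end Cfsg.Agent.S4200
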