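import Cfsg.Statements.S4201
import Mathlib
import Cfsg.Agent.S4200

set_option autoImplicit false
open Cfsg

namespace Cfsg.Agent.S4201

/-- If N is a normal subgroup of the finite group X then k(X) ≤ k(N)·k(X ⧸ N), where k denotes the number of conjugacy classes. -/
theorem result {X : Type*} [Group X] [Finite X] (N : Subgroup X) [N.Normal] : Nat.card (ConjClasses X) ≤ Nat.card (ConjClasses N) * Nat.card (ConjClasses (X ⧸ N)) := by
  classical
  obtain ⟨f, hf, hf1, -⟩ := Cfsg.Agent.S4200.pairs_le N
  let g : {p : X × X // Commute p.1 p.2} →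
      {p : (X ⧸ N) × (X ⧸ N) // Commute p.1 p.2} × {p : N × N // Commute p.1 p.2} :=
    fun z => (⟨((z.1.1 : X ⧸ N), (z.1.2 : X ⧸ N)), z.2.map (QuotientGroup.mk' N)⟩, (f z).2)
  have hg : Function.Injective g := by
    intro a b e
    obtain ⟨e1, e2⟩ := Prod.mk.injEq _ _ _ _ ▸ e
    have e1' := congrArg Subtype.val e1
    exact hf (Prod.ext (by
      rw [hf1, hf1]
      exact e1') e2)
  have := Nat.card_le_card_of_injective g hg
  rw [Nat.card_prod, card_comm_eq_card_conjClasses_mul_card, card_comm_eq_card_conjClasses_mul_card,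
    card_comm_eq_card_conjClasses_mul_card] at this
  have hc := N.card_mul_index
  rw [N.index_eq_card] at hc
  refine Nat.le_of_mul_le_mul_left ?_ (Nat.card_pos (α := X))
  calc Nat.card X * Nat.card (ConjClasses X) = Nat.card (ConjClasses X) * Nat.card X := mul_comm _ _
    _ ≤ _ := this
    _ = _ := by rw [← hc]; ring

end Cfsg.Agent.S4201
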