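import Cfsg.Statements.S4203
import Mathlib
import Cfsg.Agent.Lib.Char.Burnside

set_option autoImplicit false
open Cfsg

namespace Cfsg.Agent.S4203


universe u

theorem index_modEq {G : Type*} [Group G] [Finite G] {p : ℕ} [Fact p.Prime] (P : Sylow p G)
    (M : Subgroup G) (hM : Subgroup.normalizer ((P : Subgroup G) : Set G) ≤ M) : M.index ≡ 1 [MOD p] := by
  have hPM : (P : Subgroup G) ≤ M := Subgroup.le_normalizer.trans hM
  have h1 : (Subgroup.normalizer ((P : Subgroup G) : Set G)).index ≡ 1 [MOD p] := by
    have h0 := card_sylow_modEq_one p G; rw [Sylow.card_eq_index_normalizer P] at h0; exact h0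
  have h2 : (Subgroup.normalizer ((P : Subgroup G) : Set G)).relIndex M ≡ 1 [MOD p] := by
    have e : (Subgroup.normalizer ((P : Subgroup G) : Set G)).relIndex M =
        (Subgroup.normalizer (((P.subtype hPM : Sylow p M) : Subgroup M) : Set M)).index := by
      rw [Sylow.coe_subtype, ← Subgroup.subgroupOf_normalizer_eq hPM]
      rfl
    rw [e]
    have h0 := card_sylow_modEq_one p M; rw [Sylow.card_eq_index_normalizer (P.subtype hPM)] at h0; exact h0
  rw [← Subgroup.relIndex_mul_index hM] at h1
  have := (h2.mul_right M.index).symm.trans h1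
  simpa using this

theorem solv : ∀ (n : ℕ) {G : Type u} [Group G] [Finite G], Nat.card G = n →
    (∀ M : Subgroup G, IsCoatom M → ∃ p : ℕ, p.Prime ∧ (M.index = p ∨ M.index = p ^ 2)) →
    Group.IsSolvable G := by
  intro n
  induction n using Nat.strong_induction_on with
  | _ n ih =>
    intro G _ _ hn h
    by_cases h1 : Nat.card G = 1
    · haveI := (Nat.card_eq_one_iff_unique.1 h1).1
      infer_instance
    set p := ((Nat.card G).primeFactors).max' (Nat.nonempty_primeFactors.2 (by
      have := Nat.card_pos (α := G); omega)) with hpdef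
    have hpmem : p ∈ (Nat.card G).primeFactors := Finset.max'_mem _ _
    have hpmax : ∀ r : ℕ, r.Prime → r ∣ Nat.card G → r ≤ p := fun r hr hrd =>
      Finset.le_max' _ _ (Nat.mem_primeFactors.2 ⟨hr, hrd, Nat.card_pos.ne'⟩)
    haveI : Fact p.Prime := ⟨Nat.prime_of_mem_primeFactors hpmem⟩
    by_cases hp3 : p ≤ 3
    · refine Cfsg.Agent.Char.isSolvable_of_two_primes Nat.prime_two Nat.prime_three (Nat.card G) rfl
        fun r hr hrd => ?_
      have := hpmax r hr hrd
      have := hr.two_le
      omega
    obtain ⟨P⟩ := (inferInstance : Nonempty (Sylow p G))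
    have hPn : (P : Subgroup G).Normal := by
      rw [← Subgroup.normalizer_eq_top_iff]
      by_contra hne
      obtain ⟨M, hM, hle⟩ := (eq_top_or_exists_le_coatom _).resolve_left hne
      obtain ⟨q, hq, hqi⟩ := h M hM
      have hmod := index_modEq P M hle
      have hqd : q ∣ M.index := by rcases hqi with e | e <;> rw [e]; exact dvd_pow_self q two_ne_zero
      have hle' := hpmax q hq (hqd.trans M.index_dvd_card)
      have hpi : ¬ p ∣ M.index := by
        intro hd
        have := (hmod.dvd_iff dvd_rfl).1 hd
        exact (Fact.out : p.Prime).not_dvd_one this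
      have hne' : q ≠ p := fun e => hpi (e ▸ hqd)
      have h2 := hq.two_le
      rcases hqi with e | e
      · rw [e, Nat.ModEq, Nat.mod_eq_of_lt (by omega), Nat.mod_eq_of_lt (by omega)] at hmod
        omega
      · rw [e, Nat.ModEq.comm, Nat.modEq_iff_dvd' (Nat.one_le_pow _ _ hq.pos),
          show q ^ 2 - 1 = (q + 1) * (q - 1) by rw [← Nat.sq_sub_sq, one_pow]] at hmod
        rcases (Fact.out : p.Prime).dvd_mul.1 hmod with hd | hd
        · have := Nat.le_of_dvd (by omega) hd
          rcases hq.eq_two_or_odd with rfl | hodd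
          · omega
          · rcases (Fact.out : p.Prime).eq_two_or_odd with h' | h' <;> omega
        · have := Nat.le_of_dvd (by omega) hd
          omega
    haveI := hPn
    haveI : Group.IsNilpotent (P : Subgroup G) := P.2.isNilpotent
    have hlt : Nat.card (G ⧸ (P : Subgroup G)) < n := by
      rw [← hn, Subgroup.card_eq_card_quotient_mul_card_subgroup (P : Subgroup G)]
      refine lt_mul_right Nat.card_pos ?_
      exact (Subgroup.one_lt_card_iff_ne_bot _).2
        (P.ne_bot_of_dvd_card (Nat.dvd_of_mem_primeFactors hpmem))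
    haveI : Group.IsSolvable (G ⧸ (P : Subgroup G)) := ih _ hlt rfl fun M hM => by
      have := h (M.comap (QuotientGroup.mk' (P : Subgroup G)))
        (Subgroup.isCoatom_comap_of_surjective (QuotientGroup.mk'_surjective _) hM)
      rwa [Subgroup.index_comap_of_surjective _ (QuotientGroup.mk'_surjective _)] at this
    exact (Group.isSolvable_iff_subgroup_quotient (P : Subgroup G)).2 ⟨inferInstance, inferInstance⟩


/-- A finite group in which every maximal subgroup has index a prime or the square of a prime is solvable. -/
theorem result {G : Type*} [Group G] [Finite G] (h : ∀ M : Subgroup G, IsCoatom M → ∃ p : ℕ, p.Prime ∧ (M.index = p ∨ M.index = p ^ 2)) : Group.IsSolvable G := by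
  exact solv (Nat.card G) rfl h

end Cfsg.Agent.S4203
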