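import Cfsg.Statements.S4204
import Mathlib

set_option autoImplicit false
open Cfsg

namespace Cfsg.Agent.S4204


open scoped commutatorElement

variable {G : Type*} [Group G]

/-- lower central series shifted by one, starting from `⊤` -/
def shifted (H : Subgroup G) : ℕ → Subgroup G
  | 0 => ⊤
  | i + 1 => H.lowerCentralSeries i

theorem lcs_normal (H : Subgroup G) [H.Normal] : ∀ i, (H.lowerCentralSeries i).Normal
  | 0 => by simpa
  | i + 1 => by
    haveI := lcs_normal H i
    rw [Subgroup.lowerCentralSeries_succ]; infer_instance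

theorem shifted_normal (H : Subgroup G) [H.Normal] : ∀ i, (shifted H i).Normal
  | 0 => by show (⊤ : Subgroup G).Normal; infer_instance
  | i + 1 => lcs_normal H i

theorem comm_step (H : Subgroup G) [H.Normal] : ∀ i, ⁅shifted H i, H⁆ ≤ shifted H (i + 1)
  | 0 => Subgroup.commutator_le_right _ _
  | _ + 1 => le_rfl

/-- mixed terms of total weight `n` -/
def mixed (H K : Subgroup G) (n : ℕ) : Subgroup G :=
  ⨆ i : Fin (n + 1), shifted H (i : ℕ) ⊓ shifted K (n - (i : ℕ))

theorem le_mixed (H K : Subgroup G) {n i j : ℕ} (h : i + j = n) :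
    shifted H i ⊓ shifted K j ≤ mixed H K n := by
  obtain rfl : j = n - i := by omega
  exact le_iSup (fun i : Fin (n + 1) => shifted H (i : ℕ) ⊓ shifted K (n - (i : ℕ))) ⟨i, by omega⟩

theorem mixed_normal (H K : Subgroup G) [H.Normal] [K.Normal] (n : ℕ) : (mixed H K n).Normal := by
  refine ⟨fun x hx g => ?_⟩
  have hle : mixed H K n ≤ (mixed H K n).comap (MulAut.conj g).toMonoidHom := by
    refine iSup_le fun i => fun y hy => ?_
    haveI := shifted_normal H (i : ℕ)
    haveI := shifted_normal K (n - (i : ℕ))
    exact le_iSup (fun i : Fin (n + 1) => shifted H (i : ℕ) ⊓ shifted K (n - (i : ℕ))) i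
      ⟨Subgroup.Normal.conj_mem inferInstance y hy.1 g, Subgroup.Normal.conj_mem inferInstance y hy.2 g⟩
  exact hle hx

theorem lcs_le_mixed (H K : Subgroup G) [H.Normal] [K.Normal] :
    ∀ n, (H ⊔ K).lowerCentralSeries n ≤ mixed H K (n + 1)
  | 0 => by
    refine sup_le ?_ ?_
    · exact le_trans (le_inf le_rfl le_top) (le_mixed H K (i := 1) (j := 0) rfl)
    · exact le_trans (le_inf le_top le_rfl) (le_mixed H K (i := 0) (j := 1) rfl)
  | n + 1 => by
    haveI := mixed_normal H K (n + 1 + 1)
    rw [Subgroup.lowerCentralSeries_succ]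
    refine le_trans (Subgroup.commutator_mono (lcs_le_mixed H K n) le_rfl) ?_
    suffices h : Subgroup.map (QuotientGroup.mk' (mixed H K (n + 1 + 1))) ⁅mixed H K (n + 1), H ⊔ K⁆ = ⊥ by
      rwa [Subgroup.map_eq_bot_iff, QuotientGroup.ker_mk'] at h
    rw [Subgroup.map_commutator, Subgroup.commutator_eq_bot_iff_le_centralizer]
    rw [show mixed H K (n + 1) = ⨆ i : Fin (n + 1 + 1), shifted H (i : ℕ) ⊓ shifted K (n + 1 - (i : ℕ)) from rfl,
      Subgroup.map_iSup]
    refine iSup_le fun i => ?_
    rw [← Subgroup.commutator_eq_bot_iff_le_centralizer, Subgroup.commutator_comm,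
      Subgroup.commutator_eq_bot_iff_le_centralizer, Subgroup.map_sup]
    refine sup_le ?_ ?_
    · rw [← Subgroup.commutator_eq_bot_iff_le_centralizer, Subgroup.commutator_comm,
        ← Subgroup.map_commutator, Subgroup.map_eq_bot_iff, QuotientGroup.ker_mk']
      refine le_trans (le_inf ?_ ?_) (le_mixed H K (i := (i : ℕ) + 1) (j := n + 1 - (i : ℕ)) (by omega))
      · exact le_trans (Subgroup.commutator_mono inf_le_left le_rfl) (comm_step H _)
      · haveI := shifted_normal K (n + 1 - (i : ℕ))
        exact le_trans (Subgroup.commutator_mono inf_le_right le_rfl) (Subgroup.commutator_le_left _ _)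
    · rw [← Subgroup.commutator_eq_bot_iff_le_centralizer, Subgroup.commutator_comm,
        ← Subgroup.map_commutator, Subgroup.map_eq_bot_iff, QuotientGroup.ker_mk']
      refine le_trans (le_inf ?_ ?_) (le_mixed H K (i := (i : ℕ)) (j := n + 1 - (i : ℕ) + 1) (by omega))
      · haveI := shifted_normal H (i : ℕ)
        exact le_trans (Subgroup.commutator_mono inf_le_left le_rfl) (Subgroup.commutator_le_left _ _)
      · exact le_trans (Subgroup.commutator_mono inf_le_right le_rfl) (comm_step K _)


/-- If `H` and `K` are normal subgroups of a finite group with `H` nilpotent of class at most `c` and `K` nilpotent of class at most `d` (the terms with index `c`, respectively `d`, of their lower central series are trivial, indices starting at `0`), then `HK` is nilpotent of class at most `c + d`. -/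
theorem result {G : Type*} [Group G] [Finite G] (H K : Subgroup G) [H.Normal] [K.Normal] (c d : ℕ) (hH : H.lowerCentralSeries c = ⊥) (hK : K.lowerCentralSeries d = ⊥) : (H ⊔ K).lowerCentralSeries (c + d) = ⊥ := by
  refine le_bot_iff.1 ((lcs_le_mixed H K (c + d)).trans (iSup_le fun i => ?_))
  rcases Nat.lt_or_ge c (i : ℕ) with hi | hi
  · obtain ⟨t, ht⟩ := Nat.exists_eq_add_of_le (show c + 1 ≤ (i : ℕ) by omega)
    refine inf_le_left.trans ?_
    rw [show (i : ℕ) = (c + t) + 1 by omega]
    exact (H.lowerCentralSeries_antitone (Nat.le_add_right c t)).trans hH.le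
  · obtain ⟨t, ht⟩ := Nat.exists_eq_add_of_le (show d + 1 ≤ c + d + 1 - (i : ℕ) by omega)
    refine inf_le_right.trans ?_
    rw [show c + d + 1 - (i : ℕ) = (d + t) + 1 by omega]
    exact (K.lowerCentralSeries_antitone (Nat.le_add_right d t)).trans hK.le

end Cfsg.Agent.S4204
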