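import Cfsg.Statements.S4208
import Mathlib
import Cfsg.Agent.Lib.Perm.GenTuples

set_option autoImplicit false
open Cfsg

namespace Cfsg.Agent.S4208

/-- Let `P` be a group of order `p^n` whose Frattini subgroup has index `p^r`. Then the order of the automorphism group of `P` divides `p^(r(n-r)) · (p^r - 1)(p^r - p) ⋯ (p^r - p^(r-1))`. -/
theorem result {P : Type*} [Group P] [Finite P] {p n r : ℕ} [Fact p.Prime] (hP : Nat.card P = p ^ n) (hr : (frattini P).index = p ^ r) : Nat.card (MulAut P) ∣ p ^ (r * (n - r)) * ∏ i ∈ Finset.range r, (p ^ r - p ^ i) := by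
  classical
  have hPp : IsPGroup p P := IsPGroup.of_card hP
  haveI : Finite (MulAut P) := Finite.of_injective (fun α : MulAut P => (α : P → P)) DFunLike.coe_injective
  have hmap : ∀ (α : MulAut P) (g : Fin r → P),
      Nat.card (Cfsg.Agent.Perm.spanPhi (fun i => α (g i))) = Nat.card (Cfsg.Agent.Perm.spanPhi g) := by
    intro α g
    have e : Cfsg.Agent.Perm.spanPhi (fun i => α (g i)) = (Cfsg.Agent.Perm.spanPhi g).map α.toMonoidHom := by
      rw [Cfsg.Agent.Perm.spanPhi, Cfsg.Agent.Perm.spanPhi, Subgroup.map_sup, MonoidHom.map_closure,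
        show (frattini P).map α.toMonoidHom = frattini P from
          Subgroup.characteristic_iff_map_eq.1 inferInstance α]
      congr 2
      rw [← Set.range_comp]; rfl
    rw [e, Subgroup.card_map_of_injective α.injective]
  letI : MulAction (MulAut P) (Cfsg.Agent.Perm.GoodTuple P p r) :=
    { smul := fun α g => ⟨fun i => α (g.1 i), (hmap α g.1).trans g.2⟩
      one_smul := fun g => Subtype.ext (funext fun i => rfl)
      mul_smul := fun α β g => Subtype.ext (funext fun i => rfl) }
  have h := Cfsg.Agent.Perm.card_dvd_of_free (A := MulAut P) (X := Cfsg.Agent.Perm.GoodTuple P p r) fun α g hg =>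
    Cfsg.Agent.Perm.aut_eq_one_of_gen (Cfsg.Agent.Perm.good_gen hP hr g) fun i =>
      congrArg (fun w : Cfsg.Agent.Perm.GoodTuple P p r => w.1 i) hg
  rwa [Cfsg.Agent.Perm.card_goodTuple hPp, Cfsg.Agent.Perm.prod_eq hP hr] at h

end Cfsg.Agent.S4208
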