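import Cfsg.Statements.S4209
import Mathlib
import Cfsg.Agent.Lib.Solv.PolySeq

set_option autoImplicit false
open Cfsg
open scoped commutatorElement

namespace Cfsg.Agent.S4209

open Cfsg.Agent.Solv in
theorem choose_dvd {p : ℕ} (hp : p.Prime) (n : ℕ) {m : ℕ} (h0 : 0 < m) (hm : m < p) :
    p ^ n ∣ Nat.choose (p ^ n) m := by
  obtain ⟨k, rfl⟩ := Nat.exists_eq_add_of_le' h0
  obtain ⟨N, hN⟩ := Nat.exists_eq_add_of_le' (Nat.one_le_iff_ne_zero.2 (pow_ne_zero n hp.ne_zero))
  have h := Nat.add_one_mul_choose_eq N k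
  have hd : p ^ n ∣ Nat.choose (p ^ n) (k + 1) * (k + 1) := by
    rw [hN, ← h]; exact dvd_mul_right _ _
  refine (Nat.Coprime.pow_left n ?_).dvd_of_dvd_mul_right hd
  exact hp.coprime_iff_not_dvd.2 (Nat.not_dvd_of_pos_of_lt (Nat.succ_pos k) hm)

open Cfsg.Agent.Solv in
/-- A polynomial sequence vanishing at 0 and 1 has its value at a prime power in any subgroup containing
the corresponding powers of the derived subgroup. -/
theorem value_mem {G : Type*} [Group G] {p : ℕ} (hp : p.Prime) (hbot : PolySeq.F G p = ⊥) (n : ℕ)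
    (K : Subgroup G) (hK : ∀ a ∈ PolySeq.F G 2, a ^ p ^ n ∈ K) :
    ∀ (d : ℕ) {f : ℕ → G}, d + 2 ≤ p → (∀ k, PolySeq.P k 0 f) → (∀ j < p - d, f j = 1) →
      f (p ^ n) ∈ K := by
  intro d
  induction d with
  | zero =>
    intro f _ hf hvan
    suffices h : ∀ j, f j = 1 by rw [h]; exact one_mem K
    intro j
    induction j using Nat.strong_induction_on with
    | _ j ih =>
      rcases Nat.lt_or_ge j p with hj | hj
      · exact hvan j (by omega)
      · have h := PolySeq.F_of_vanish j (hf (j + 1)) ih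
        have h' := PolySeq.F_antitone (G := G) hj (by simpa using h)
        rwa [hbot, Subgroup.mem_bot] at h'
  | succ d ih =>
    intro f hd hf hvan
    set m := p - (d + 1) with hm
    have hm2 : 2 ≤ m := by omega
    have haF : f m ∈ PolySeq.F G (0 + m) := PolySeq.F_of_vanish m (hf (m + 1)) hvan
    let g : ℕ → G := fun i => (f m ^ Nat.choose i m)⁻¹ * f i
    have hg : g (p ^ n) ∈ K := by
      refine ih (by omega) (fun k => ?_) (fun j hj => ?_)
      · exact (PolySeq.closure_aux k).1 0 _ _ ((PolySeq.closure_aux k).2.1 0 _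
          (PolySeq.P_binom k m 0 haF)) (hf k)
      · rcases Nat.lt_or_ge j m with hjm | hjm
        · simp [g, Nat.choose_eq_zero_of_lt hjm, hvan j hjm]
        · obtain rfl : j = m := by omega
          simp [g]
    obtain ⟨c, hc⟩ := choose_dvd hp n (m := m) (by omega) (by omega)
    have ha : f m ^ Nat.choose (p ^ n) m ∈ K := by
      rw [hc, pow_mul]
      exact pow_mem (hK _ (PolySeq.F_antitone (G := G) (by omega) haF)) c
    have he : f (p ^ n) = f m ^ Nat.choose (p ^ n) m * g (p ^ n) := by simp [g]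
    rw [he]
    exact mul_mem ha hg

/-- A finite `p`-group of nilpotency class less than `p` (the term of index `p - 1` of the lower central series of the whole group, indexed from `0`, is trivial) is a regular `p`-group. -/
theorem result {G : Type*} [Group G] [Finite G] {p : ℕ} [Fact p.Prime] (hG : IsPGroup p G) (hcl : (⊤ : Subgroup G).lowerCentralSeries (p - 1) = ⊥) : Cfsg.IsRegularPGroup p G := by
  have hp : p.Prime := Fact.out
  refine ⟨hG, fun a b n => ?_⟩
  set H := Subgroup.closure ({a, b} : Set G) with hH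
  have hbotH : Cfsg.Agent.Solv.PolySeq.F H p = ⊥ := by
    have h1 := H.lowerCentralSeries_map_subtype_le (p - 1)
    rw [hcl, le_bot_iff, Subgroup.map_eq_bot_iff_of_injective _ H.subtype_injective] at h1
    exact h1
  set x : H := ⟨a, Subgroup.subset_closure (Or.inl rfl)⟩
  set y : H := ⟨b, Subgroup.subset_closure (Or.inr rfl)⟩
  let f : ℕ → H := fun i => (y ^ i)⁻¹ * (x ^ i)⁻¹ * (x * y) ^ i
  have hpoly : ∀ k, Cfsg.Agent.Solv.PolySeq.P k 0 f := by
    intro k
    have hmem : ∀ w : H, w ∈ Cfsg.Agent.Solv.PolySeq.F H (0 + 1) := fun w => Subgroup.mem_top w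
    have h1 := Cfsg.Agent.Solv.PolySeq.P_binom k 1 0 (hmem x)
    have h2 := Cfsg.Agent.Solv.PolySeq.P_binom k 1 0 (hmem y)
    have h3 := Cfsg.Agent.Solv.PolySeq.P_binom k 1 0 (hmem (x * y))
    simp only [Nat.choose_one_right] at h1 h2 h3
    obtain ⟨hA, hI, -⟩ := Cfsg.Agent.Solv.PolySeq.closure_aux (G := H) k
    exact hA 0 _ _ (hA 0 _ _ (hI 0 _ h2) (hI 0 _ h1)) h3
  set K : Subgroup H := (Cfsg.powerClosure p n ⁅H, H⁆).comap H.subtype
  have hf : f (p ^ n) ∈ K := by
    refine value_mem hp hbotH n K (fun w hw => ?_) (p - 2) (by have := hp.two_le; omega) hpoly ?_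
    · have hw' : (w : G) ∈ ⁅H, H⁆ := by
        rw [← Subgroup.map_subtype_commutator H]
        exact ⟨w, by simpa [Cfsg.Agent.Solv.PolySeq.F, commutator_def] using hw, rfl⟩
      exact Subgroup.subset_closure ⟨(w : G), hw', by simp⟩
    · intro j hj
      have : j ≤ 1 := by have := hp.two_le; omega
      interval_cases j <;> simp [f]
  refine ⟨_, hf, ?_⟩
  simp only [f, x, y, map_mul, map_inv, map_pow, Subgroup.coe_subtype]
  group

end Cfsg.Agent.S4209
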