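import Cfsg.Statements.S4212
import Mathlib
import Cfsg.Agent.Lib.Char.Central
import Cfsg.Agent.Lib.Solv.FrobDiv

set_option autoImplicit false
open Cfsg

namespace Cfsg.Agent.S4212


open scoped Classical in
/-- counting `p^b`-th roots of a central element -/
theorem roots_dvd {D : Type*} [Group D] [Finite D] {p : ℕ} [hp : Fact p.Prime] (u : D)
    (huc : u ∈ Subgroup.center D) (j : ℕ) (hu : orderOf u = p ^ j) (b e : ℕ) (heb : e ≤ b)
    (he : p ^ e ∣ Nat.card D) : p ^ e ∣ Nat.card {y : D // y ^ p ^ b = u} := by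
  rcases j with _ | j
  · rw [pow_zero, orderOf_eq_one_iff] at hu
    subst hu
    have hg : ∀ g : D, g ^ p ^ b = 1 ↔ g ^ Nat.gcd (p ^ b) (Nat.card D) = 1 := fun g => by
      rw [pow_gcd_eq_one, and_iff_left pow_card_eq_one']
    rw [Nat.card_congr (Equiv.subtypeEquivRight hg)]
    exact (Nat.dvd_gcd (pow_dvd_pow p heb) he).trans
      (Cfsg.Agent.Solv.frobenius_dvd _ (Nat.gcd_dvd_right _ _))
  by_cases hne : ∀ y : D, y ^ p ^ b ≠ u
  · have : IsEmpty {y : D // y ^ p ^ b = u} := ⟨fun y => hne y.1 y.2⟩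
    rw [Nat.card_of_isEmpty]; exact dvd_zero _
  push Not at hne
  obtain ⟨y0, hy0⟩ := hne
  refine (pow_dvd_pow p heb).trans ?_
  have hdvd : p ^ (b + (j + 1)) ∣ Nat.card D := by
    have h1 : orderOf y0 = p ^ (j + b + 1) := by
      refine orderOf_eq_prime_pow ?_ ?_
      · rw [add_comm j b, pow_add, pow_mul, hy0, ← orderOf_dvd_iff_pow_eq_one, hu,
          Nat.pow_dvd_pow_iff_le_right hp.out.one_lt]
        omega
      · rw [show j + b + 1 = b + (j + 1) by omega, pow_add, pow_mul, hy0, ← hu, pow_orderOf_eq_one]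
    rw [show b + (j + 1) = j + b + 1 by omega, ← h1]
    exact orderOf_dvd_natCard y0
  letI : Fintype D := Fintype.ofFinite D
  -- number of roots landing in a central subgroup
  have hA : ∀ (v : D) (i : ℕ), v ∈ Subgroup.center D → orderOf v = p ^ i → i ≤ j + 1 →
      p ^ (b + i) ∣ (Finset.univ.filter fun y : D => y ^ p ^ b ∈ Subgroup.zpowers v).card := by
    intro v i hv hvo hij
    haveI : (Subgroup.zpowers v).Normal := ⟨fun a ha g => by
      rw [Subgroup.mem_center_iff.1 (Subgroup.zpowers_le.2 hv ha) g, mul_inv_cancel_right]; exact ha⟩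
    set V := Subgroup.zpowers v with hV
    have hcardV : Nat.card V = p ^ i := by rw [hV, Nat.card_zpowers, hvo]
    have e1 : {y : D // y ^ p ^ b ∈ V} ≃ {q : D ⧸ V // q ^ p ^ b = 1} × V :=
      ((Equiv.subtypeEquivRight fun y => by
          rw [Set.mem_preimage, Set.mem_setOf_eq, ← QuotientGroup.mk_pow, QuotientGroup.eq_one_iff]).trans
        (QuotientGroup.preimageMkEquivSubgroupProdSet V {q : D ⧸ V | q ^ p ^ b = 1})).trans
        (Equiv.prodComm _ _)
    rw [← Fintype.card_subtype, ← Nat.card_eq_fintype_card, Nat.card_congr e1, Nat.card_prod, hcardV, pow_add]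
    refine mul_dvd_mul_right (Cfsg.Agent.Solv.frobenius_dvd _ ?_) _
    have h2 := V.card_mul_index
    rw [hcardV, Subgroup.index_eq_card] at h2
    have h3 : p ^ i * p ^ b ∣ p ^ i * Nat.card (D ⧸ V) := by
      rw [h2, ← pow_add]
      exact (pow_dvd_pow p (by omega)).trans hdvd
    exact (Nat.mul_dvd_mul_iff_left (pow_pos hp.out.pos i)).1 h3
  set v := u ^ p with hv
  have hvo : orderOf v = p ^ j := by
    rw [hv, orderOf_pow' u hp.out.ne_zero, hu, Nat.gcd_eq_right (dvd_pow_self p (Nat.succ_ne_zero j)),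
      pow_succ, Nat.mul_div_cancel _ hp.out.pos]
  set T := (Finset.univ.filter fun y : D => y ^ p ^ b ∈ Subgroup.zpowers u) with hT
  have h1 : p ^ (b + (j + 1)) ∣ T.card := hA u (j + 1) huc hu le_rfl
  have h2 := hA v j (pow_mem huc p) hvo (Nat.le_succ j)
  set K := (Finset.range (p ^ (j + 1))).filter fun k => k.Coprime p with hK
  have hKc : K.card = p ^ j * (p - 1) := by
    rw [hK, ← Nat.totient_prime_pow_succ hp.out j, Nat.totient_eq_card_coprime]
    congr 1
    refine Finset.filter_congr fun k _ => ?_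
    rw [Nat.coprime_pow_left_iff (Nat.succ_pos j), Nat.coprime_comm]
  have hsplit : T = (Finset.univ.filter fun y : D => y ^ p ^ b ∈ Subgroup.zpowers v) ∪
      K.biUnion (fun k => Finset.univ.filter fun y : D => y ^ p ^ b = u ^ k) := by
    ext y
    simp only [hT, Finset.mem_filter, Finset.mem_univ, true_and, Finset.mem_union, Finset.mem_biUnion]
    constructor
    · intro hy
      rw [← mem_powers_iff_mem_zpowers, mem_powers_iff_mem_range_orderOf, Finset.mem_image] at hy
      obtain ⟨k, hk, hky⟩ := hy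
      rw [hu] at hk
      by_cases hkp : k.Coprime p
      · exact Or.inr ⟨k, by rw [hK, Finset.mem_filter]; exact ⟨hk, hkp⟩, hky.symm⟩
      · left
        rw [Nat.coprime_comm, hp.out.coprime_iff_not_dvd, not_not] at hkp
        obtain ⟨l, rfl⟩ := hkp
        rw [← hky, pow_mul, ← hv]
        exact pow_mem (Subgroup.mem_zpowers v) l
    · rintro (h | ⟨k, -, h⟩)
      · exact Subgroup.zpowers_le.2 (pow_mem (Subgroup.mem_zpowers u) p) h
      · rw [h]; exact pow_mem (Subgroup.mem_zpowers u) k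
  have hdisj : Disjoint (Finset.univ.filter fun y : D => y ^ p ^ b ∈ Subgroup.zpowers v)
      (K.biUnion (fun k => Finset.univ.filter fun y : D => y ^ p ^ b = u ^ k)) := by
    rw [Finset.disjoint_left]
    intro y hy1 hy2
    simp only [Finset.mem_filter, Finset.mem_univ, true_and, Finset.mem_biUnion, hK] at hy1 hy2
    obtain ⟨k, ⟨-, hk⟩, hky⟩ := hy2
    rw [hky, ← mem_powers_iff_mem_zpowers, Submonoid.mem_powers_iff] at hy1
    obtain ⟨l, hl⟩ := hy1
    rw [hv, ← pow_mul, pow_eq_pow_iff_modEq, hu] at hl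
    have h3 : p * l ≡ k [MOD p] := hl.of_dvd (dvd_pow_self p (Nat.succ_ne_zero j))
    have h4 : p ∣ k := (h3.dvd_iff dvd_rfl).1 (dvd_mul_right p l)
    exact hp.out.one_lt.ne' (Nat.eq_one_of_dvd_coprimes hk h4 dvd_rfl)
  have hpair : ∀ k ∈ K, (Finset.univ.filter fun y : D => y ^ p ^ b = u ^ k).card =
      Nat.card {y : D // y ^ p ^ b = u} := by
    intro k hk
    have hkp : k.Coprime p := (Finset.mem_filter.1 hk).2
    rw [← Fintype.card_subtype, ← Nat.card_eq_fintype_card]
    obtain ⟨l, hl⟩ := Nat.exists_mul_mod_eq_one_of_coprime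
      (Nat.Coprime.pow_right (b + (j + 1)) hkp) (Nat.one_lt_pow (by omega) hp.out.one_lt)
    have hper : ∀ y : D, (∃ i, y ^ p ^ b = u ^ i) → y ^ (k * l) = y := by
      rintro y ⟨i, hy⟩
      have ho : orderOf y ∣ p ^ (b + (j + 1)) := by
        refine orderOf_dvd_of_pow_eq_one ?_
        rw [pow_add, pow_mul, hy, ← pow_mul, mul_comm, pow_mul, ← hu, pow_orderOf_eq_one, one_pow]
      conv_rhs => rw [← pow_one y]
      rw [pow_eq_pow_iff_modEq]
      exact Nat.ModEq.of_dvd ho (by rw [Nat.ModEq, hl.2, Nat.one_mod_eq_one.2 (Nat.one_lt_pow (by omega) hp.out.one_lt).ne'])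
    have hukl : u ^ (k * l) = u := by
      refine hper u ⟨p ^ b, rfl⟩
    exact Nat.card_congr
      { toFun := fun y => ⟨y.1 ^ l, by rw [← pow_mul, mul_comm, pow_mul, y.2, ← pow_mul, hukl]⟩
        invFun := fun y => ⟨y.1 ^ k, by rw [← pow_mul, mul_comm, pow_mul, y.2]⟩
        left_inv := fun y => Subtype.ext (by
          show (y.1 ^ l) ^ k = y.1
          rw [← pow_mul, mul_comm]; exact hper y.1 ⟨k, y.2⟩)
        right_inv := fun y => Subtype.ext (by
          show (y.1 ^ k) ^ l = y.1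
          rw [← pow_mul]; exact hper y.1 ⟨1, by rw [y.2, pow_one]⟩) }
  rw [hsplit, Finset.card_union_of_disjoint hdisj, Finset.card_biUnion] at h1
  · rw [Finset.sum_congr rfl hpair, Finset.sum_const, smul_eq_mul, hKc] at h1
    have h3 := (Nat.dvd_add_right h2).1 ((pow_dvd_pow p (by omega : b + j ≤ b + (j + 1))).trans h1)
    rw [pow_add, mul_comm (p ^ b) (p ^ j), mul_assoc] at h3
    have h4 := (Nat.mul_dvd_mul_iff_left (pow_pos hp.out.pos j)).1 h3
    refine Nat.Coprime.dvd_of_dvd_mul_left (Nat.Coprime.pow_left b ?_) h4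
    rw [hp.out.coprime_iff_not_dvd]
    intro h
    have h2p := hp.out.two_le
    have h7 := Nat.le_of_dvd (by omega) h
    omega
  · intro k1 hk1 k2 hk2 hne
    rw [Function.onFun, Finset.disjoint_left]
    intro y hy1 hy2
    simp only [Finset.mem_filter, Finset.mem_univ, true_and] at hy1 hy2
    refine hne ?_
    have h := hy1.symm.trans hy2
    rw [pow_eq_pow_iff_modEq, hu] at h
    exact h.eq_of_lt_of_lt (Finset.mem_range.1 (Finset.mem_filter.1 hk1).1)
      (Finset.mem_range.1 (Finset.mem_filter.1 hk2).1)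

open scoped Classical in
/-- the `p`-part of the congruence for a central element -/
theorem roots_central_dvd {K : Type*} [Group K] [Finite K] (c : K) (hc : c ∈ Subgroup.center K)
    {p : ℕ} [hp : Fact p.Prime] (n e : ℕ) (hen : p ^ e ∣ n) (heK : p ^ e ∣ Nat.card K) :
    p ^ e ∣ Nat.card {x : K // x ^ n = c} := by
  letI : Fintype K := Fintype.ofFinite K
  rcases Nat.eq_zero_or_pos n with rfl | hn0
  · by_cases h1 : c = 1
    · have e0 : {x : K // x ^ (0 : ℕ) = c} ≃ K :=
        (Equiv.subtypeUnivEquiv fun x => by rw [pow_zero, h1])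
      rw [Nat.card_congr e0]; exact heK
    · have : IsEmpty {x : K // x ^ (0 : ℕ) = c} := ⟨fun x => h1 (by rw [← x.2, pow_zero])⟩
      rw [Nat.card_of_isEmpty]; exact dvd_zero _
  obtain ⟨b, r, hr, hn⟩ := Nat.exists_eq_pow_mul_and_not_dvd hn0.ne' p hp.out.ne_one
  have heb : e ≤ b := by
    rw [hn] at hen
    exact (Nat.pow_dvd_pow_iff_le_right hp.out.one_lt).1
      (Nat.Coprime.dvd_of_dvd_mul_right (Nat.Coprime.pow_left e (hp.out.coprime_iff_not_dvd.2 hr)) hen)
  obtain ⟨A, R, hR, hKcard⟩ := Nat.exists_eq_pow_mul_and_not_dvd (Nat.card_pos (α := K)).ne' p hp.out.ne_one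
  have hcop : Nat.Coprime (p ^ A) R := Nat.Coprime.pow_left A (hp.out.coprime_iff_not_dvd.2 hR)
  obtain ⟨s, hs1, hs0⟩ : ∃ s, s ≡ 1 [MOD p ^ A] ∧ s ≡ 0 [MOD R] := by
    obtain ⟨s, hs⟩ := Nat.chineseRemainder hcop 1 0
    exact ⟨s, hs⟩
  obtain ⟨f, hf0, hf1⟩ : ∃ f, f ≡ 0 [MOD p ^ A] ∧ f ≡ 1 [MOD R] := by
    obtain ⟨f, hf⟩ := Nat.chineseRemainder hcop 0 1
    exact ⟨f, hf⟩
  have hpow : ∀ (x : K) (a b' : ℕ), a ≡ b' [MOD Nat.card K] → x ^ a = x ^ b' := fun x a b' h => by
    rw [pow_eq_pow_iff_modEq]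
    exact h.of_dvd (orderOf_dvd_natCard x)
  have hboth : ∀ a b' : ℕ, a ≡ b' [MOD p ^ A] → a ≡ b' [MOD R] → a ≡ b' [MOD Nat.card K] := fun a b' h1 h2 => by
    rw [hKcard]; exact (Nat.modEq_and_modEq_iff_modEq_mul hcop).1 ⟨h1, h2⟩
  have hsum : ∀ x : K, x ^ f * x ^ s = x := fun x => by
    rw [← pow_add]
    conv_rhs => rw [← pow_one x]
    exact hpow x _ _ (hboth _ _ (by simpa using hf0.add hs1) (by simpa using hf1.add hs0))
  have hsP : ∀ x : K, (x ^ s) ^ p ^ A = 1 := fun x => by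
    rw [← pow_mul, ← pow_zero x]
    refine hpow x _ _ (hboth _ _ ?_ ?_)
    · exact Nat.modEq_zero_iff_dvd.2 (dvd_mul_left _ _)
    · simpa using hs0.mul_right (p ^ A)
  have hfR : ∀ x : K, (x ^ f) ^ R = 1 := fun x => by
    rw [← pow_mul, ← pow_zero x]
    refine hpow x _ _ (hboth _ _ ?_ ?_)
    · simpa using hf0.mul_right R
    · exact Nat.modEq_zero_iff_dvd.2 (dvd_mul_left _ _)
  have hmodP : ∀ (u : K) (a b' : ℕ), u ^ p ^ A = 1 → a ≡ b' [MOD p ^ A] → u ^ a = u ^ b' := fun u a b' hu h => by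
    rw [pow_eq_pow_iff_modEq]; exact h.of_dvd (orderOf_dvd_of_pow_eq_one hu)
  have hmodR : ∀ (u : K) (a b' : ℕ), u ^ R = 1 → a ≡ b' [MOD R] → u ^ a = u ^ b' := fun u a b' hu h => by
    rw [pow_eq_pow_iff_modEq]; exact h.of_dvd (orderOf_dvd_of_pow_eq_one hu)
  obtain ⟨r', hr'⟩ : ∃ r', r * r' ≡ 1 [MOD p ^ A] := by
    rcases Nat.eq_zero_or_pos A with rfl | hA
    · exact ⟨0, by rw [pow_zero]; exact Nat.modEq_one⟩
    obtain ⟨r', hr'⟩ := Nat.exists_mul_mod_eq_one_of_coprime
      (Nat.Coprime.pow_right A (hp.out.coprime_iff_not_dvd.2 hr).symm) (Nat.one_lt_pow hA.ne' hp.out.one_lt)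
    exact ⟨r', by rw [Nat.ModEq, hr'.2, Nat.one_mod_eq_one.2 (Nat.one_lt_pow hA.ne' hp.out.one_lt).ne']⟩
  -- pairs
  let Z := {z : K // z ^ R = 1 ∧ z ^ n = c ^ f}
  let F : Z → Type _ := fun z => {u : K // u ∈ Subgroup.centralizer ({z.1} : Set K) ∧ u ^ p ^ b = c ^ s}
  have huP : ∀ u : K, u ^ p ^ b = c ^ s → (u ^ r') ^ p ^ A = 1 ∧ u ^ p ^ A = 1 := by
    intro u hu
    have h1 : u ^ p ^ A = 1 := by
      have h2 : orderOf u ∣ p ^ b * p ^ A := orderOf_dvd_of_pow_eq_one (by rw [pow_mul, hu, hsP])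
      rw [← pow_add] at h2
      obtain ⟨i, -, hi⟩ := (Nat.dvd_prime_pow hp.out).1 h2
      refine orderOf_dvd_iff_pow_eq_one.1 ?_
      rw [hi]
      have h3 : p ^ i ∣ p ^ A * R := by rw [← hKcard, ← hi]; exact orderOf_dvd_natCard u
      exact Nat.Coprime.dvd_of_dvd_mul_right (Nat.Coprime.pow_left i (hp.out.coprime_iff_not_dvd.2 hR)) h3
    exact ⟨by rw [← pow_mul, mul_comm, pow_mul, h1, one_pow], h1⟩
  have e1 : {x : K // x ^ n = c} ≃ Σ z : Z, F z :=
    { toFun := fun x => ⟨⟨x.1 ^ f, hfR x.1, by rw [← pow_mul, mul_comm, pow_mul, x.2]⟩,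
        ⟨(x.1 ^ s) ^ r, Subgroup.mem_centralizer_singleton_iff.2
          ((((Commute.refl x.1).pow_left s).pow_left r).pow_right f).eq,
          by rw [← pow_mul, mul_comm r, ← hn, ← pow_mul, mul_comm, pow_mul, x.2]⟩⟩
      invFun := fun zu => ⟨zu.1.1 * zu.2.1 ^ r', by
        have hcm : Commute zu.1.1 (zu.2.1 ^ r') :=
          (show Commute zu.1.1 zu.2.1 from (Subgroup.mem_centralizer_singleton_iff.1 zu.2.2.1).symm).pow_right r'
        rw [hcm.mul_pow, zu.1.2.2, ← pow_mul, show r' * n = p ^ b * (r * r') by rw [hn]; ring, pow_mul,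
          zu.2.2.2, ← pow_mul,
          hpow c (s * (r * r')) s (hboth _ _ (by simpa using hr'.mul_left s) (by
            simpa using (hs0.mul_right (r * r')).trans (by simpa using hs0.symm)))]
        exact hsum c⟩
      left_inv := fun x => Subtype.ext (by
        show x.1 ^ f * ((x.1 ^ s) ^ r) ^ r' = x.1
        rw [← pow_mul, hmodP (x.1 ^ s) (r * r') 1 (hsP _) hr', pow_one]
        exact hsum x.1)
      right_inv := fun zu => by
        obtain ⟨⟨z, hz1, hz2⟩, u, hu1, hu2⟩ := zu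
        obtain ⟨hu3, hu4⟩ := huP u hu2
        have hcm : Commute z (u ^ r') :=
          (show Commute z u from (Subgroup.mem_centralizer_singleton_iff.1 hu1).symm).pow_right r'
        have ef : (z * u ^ r') ^ f = z := by
          rw [hcm.mul_pow, hmodR z f 1 hz1 hf1, pow_one, hmodP _ f 0 hu3 hf0, pow_zero, mul_one]
        have es : ((z * u ^ r') ^ s) ^ r = u := by
          rw [hcm.mul_pow, hmodR z s 0 hz1 hs0, pow_zero, one_mul, hmodP _ s 1 hu3 hs1, pow_one, ← pow_mul,
            mul_comm, hmodP u _ 1 hu4 hr', pow_one]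
        refine Sigma.ext (Subtype.ext ef) ?_
        refine (Subtype.heq_iff_coe_eq ?_).2 es
        intro x
        show x ∈ Subgroup.centralizer {(z * u ^ r') ^ f} ∧ _ ↔ x ∈ Subgroup.centralizer {z} ∧ _
        rw [ef] }
  rw [Nat.card_congr e1]
  letI : Fintype Z := Fintype.ofFinite Z
  haveI : ∀ z : Z, Finite (F z) := fun z => Subtype.finite
  rw [Nat.card_sigma]
  have hcomm : ∀ (i : ℕ) (t : K), t * c ^ i * t⁻¹ = c ^ i := fun i t => by
    rw [Subgroup.mem_center_iff.1 (pow_mem hc i) t, mul_inv_cancel_right]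
  have hFc : ∀ (z z' : Z), IsConj z.1 z'.1 → Nat.card (F z') = Nat.card (F z) := by
    intro z z' hzz
    obtain ⟨t, ht⟩ := isConj_iff.1 hzz
    refine Nat.card_congr (Equiv.subtypeEquiv (MulAut.conj t).toEquiv fun u => ?_).symm
    simp only [MulEquiv.toEquiv_eq_coe, MulEquiv.coe_toEquiv, MulAut.conj_apply,
      Subgroup.mem_centralizer_singleton_iff, ← ht, conj_pow]
    constructor
    · rintro ⟨h1, h2⟩
      refine ⟨?_, by rw [h2, hcomm]⟩
      calc t * u * t⁻¹ * (t * z.1 * t⁻¹) = t * (u * z.1) * t⁻¹ := by group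
        _ = t * (z.1 * u) * t⁻¹ := by rw [h1]
        _ = t * z.1 * t⁻¹ * (t * u * t⁻¹) := by group
    · rintro ⟨h1, h2⟩
      refine ⟨?_, ?_⟩
      · calc u * z.1 = t⁻¹ * (t * u * t⁻¹ * (t * z.1 * t⁻¹)) * t := by group
          _ = t⁻¹ * (t * z.1 * t⁻¹ * (t * u * t⁻¹)) * t := by rw [h1]
          _ = z.1 * u := by group
      · exact (mul_left_cancel (mul_right_cancel ((hcomm s t).trans h2.symm))).symm
  rw [← Finset.sum_fiberwise Finset.univ (fun z : Z => ConjClasses.mk z.1)]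
  refine Finset.dvd_sum fun cl _ => ?_
  set S := Finset.univ.filter (fun z : Z => ConjClasses.mk z.1 = cl) with hS
  rcases S.eq_empty_or_nonempty with h | ⟨z0, hz0⟩
  · rw [h, Finset.sum_empty]; exact dvd_zero _
  have hz0' : ConjClasses.mk z0.1 = cl := (Finset.mem_filter.1 hz0).2
  rw [Finset.sum_congr rfl (fun z hz => hFc z0 z (ConjClasses.mk_eq_mk_iff_isConj.1
    (hz0'.trans (Finset.mem_filter.1 hz).2.symm))), Finset.sum_const, smul_eq_mul]
  have hScard : S.card = (Subgroup.centralizer ({z0.1} : Set K)).index := by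
    rw [← Cfsg.Agent.Char.card_conjClass_eq_index, Nat.card_eq_fintype_card, Fintype.card_subtype]
    refine Finset.card_bij (fun z _ => z.1) (fun z hz => ?_) (fun a _ b _ h => Subtype.ext h) (fun y hy => ?_)
    · rw [Finset.mem_filter]
      exact ⟨Finset.mem_univ _, ConjClasses.mk_eq_mk_iff_isConj.1 (hz0'.trans (Finset.mem_filter.1 hz).2.symm)⟩
    · have hconj : IsConj z0.1 y := (Finset.mem_filter.1 hy).2
      obtain ⟨t, ht⟩ := isConj_iff.1 hconj
      refine ⟨⟨y, by rw [← ht, conj_pow, z0.2.1, mul_one, mul_inv_cancel],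
        by rw [← ht, conj_pow, z0.2.2, hcomm]⟩, ?_, rfl⟩
      rw [hS, Finset.mem_filter]
      exact ⟨Finset.mem_univ _, (ConjClasses.mk_eq_mk_iff_isConj.2 hconj.symm).trans hz0'⟩
  set C := Subgroup.centralizer ({z0.1} : Set K) with hC
  obtain ⟨i, R1, hR1, hi⟩ := Nat.exists_eq_pow_mul_and_not_dvd (Nat.card_pos (α := C)).ne' p hp.out.ne_one
  have hcs : c ^ s ∈ C := Subgroup.center_le_centralizer _ (pow_mem hc s)
  obtain ⟨j, -, hj⟩ := (Nat.dvd_prime_pow hp.out).1 (orderOf_dvd_of_pow_eq_one (hsP c))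
  have hroot := roots_dvd (D := C) (p := p) ⟨c ^ s, hcs⟩
    (Subgroup.mem_center_iff.2 fun g => Subtype.ext (Subgroup.mem_center_iff.1 (pow_mem hc s) g.1)) j
    (by rw [Subgroup.orderOf_mk]; exact hj) b (min e i) ((min_le_left e i).trans heb)
    ((pow_dvd_pow p (min_le_right e i)).trans (Dvd.intro R1 hi.symm))
  have hcF : Nat.card (F z0) = Nat.card {y : C // y ^ p ^ b = ⟨c ^ s, hcs⟩} :=
    Nat.card_congr
      { toFun := fun u => ⟨⟨u.1, u.2.1⟩, Subtype.ext (by simpa using u.2.2)⟩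
        invFun := fun y => ⟨y.1.1, y.1.2, by simpa using congrArg Subtype.val y.2⟩
        left_inv := fun u => rfl
        right_inv := fun y => rfl }
  rw [hScard]
  have h5 : p ^ (e - min e i) ∣ C.index := by
    have h6 : p ^ e ∣ p ^ i * (R1 * C.index) := by
      rw [← mul_assoc, ← hi, C.card_mul_index]; exact heK
    rcases le_total e i with h | h
    · rw [min_eq_left h, Nat.sub_self, pow_zero]; exact one_dvd _
    · rw [min_eq_right h]
      rw [← Nat.add_sub_cancel' h, pow_add] at h6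
      exact Nat.Coprime.dvd_of_dvd_mul_left (Nat.Coprime.pow_left _ (hp.out.coprime_iff_not_dvd.2 hR1))
        ((Nat.mul_dvd_mul_iff_left (pow_pos hp.out.pos i)).1 h6)
  rw [← Nat.sub_add_cancel (min_le_left e i), pow_add]
  exact mul_dvd_mul h5 (hcF ▸ hroot)


/-- Let `G` be a finite group of order `g`, `c` an element whose conjugacy class has `h` elements, and `n` a natural number. Then the number of elements `x` of `G` with `x^n` conjugate to `c` is a multiple of `gcd(hn, g)`. -/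
theorem result {G : Type*} [Group G] [Finite G] (c : G) (n : ℕ) : Nat.gcd (Nat.card {y : G // IsConj c y} * n) (Nat.card G) ∣ Nat.card {x : G // IsConj c (x ^ n)} := by
  classical
  set h := Nat.card {y : G // IsConj c y} with hh
  set C := Subgroup.centralizer ({c} : Set G) with hC
  have hm : h * Nat.card C = Nat.card G := Cfsg.Agent.Char.card_conjClass_mul_centralizer c
  have e1 : {x : G // IsConj c (x ^ n)} ≃ Σ y : {y : G // IsConj c y}, {x : G // x ^ n = y.1} :=
    { toFun := fun x => ⟨⟨x.1 ^ n, x.2⟩, x.1, rfl⟩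
      invFun := fun s => ⟨s.2.1, by rw [s.2.2]; exact s.1.2⟩
      left_inv := fun x => rfl
      right_inv := by rintro ⟨⟨y, hy⟩, x, hx⟩; cases hx; rfl }
  haveI : ∀ y : {y : G // IsConj c y}, Finite {x : G // x ^ n = y.1} := fun y => Subtype.finite
  letI : Fintype {y : G // IsConj c y} := Fintype.ofFinite _
  rw [Nat.card_congr e1, Nat.card_sigma]
  have hfib : ∀ y : {y : G // IsConj c y}, Nat.card {x : G // x ^ n = y.1} = Nat.card {x : G // x ^ n = c} := by
    intro y
    obtain ⟨t, ht⟩ := isConj_iff.1 y.2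
    refine Nat.card_congr (Equiv.subtypeEquiv (MulAut.conj t).toEquiv fun u => ?_).symm
    simp only [MulEquiv.toEquiv_eq_coe, MulEquiv.coe_toEquiv, MulAut.conj_apply, conj_pow, ← ht]
    constructor
    · intro hu; rw [hu]
    · intro hu; exact mul_left_cancel (mul_right_cancel hu)
  rw [Finset.sum_congr rfl (fun y _ => hfib y), Finset.sum_const, smul_eq_mul, Finset.card_univ,
    ← Nat.card_eq_fintype_card, ← hh, ← hm, Nat.gcd_mul_left]
  refine Nat.mul_dvd_mul_left h ?_
  have hcC : c ∈ C := Subgroup.mem_centralizer_singleton_iff.2 rfl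
  have hmem : ∀ x : G, x ^ n = c → x ∈ C := fun x hx => by
    rw [hC, Subgroup.mem_centralizer_singleton_iff, ← hx]
    exact ((Commute.refl x).pow_right n).eq
  have e2 : {x : G // x ^ n = c} ≃ {x : C // x ^ n = ⟨c, hcC⟩} :=
    { toFun := fun x => ⟨⟨x.1, hmem x.1 x.2⟩, Subtype.ext (by simpa using x.2)⟩
      invFun := fun x => ⟨x.1.1, by simpa using congrArg Subtype.val x.2⟩
      left_inv := fun x => rfl
      right_inv := fun x => rfl }
  rw [Nat.card_congr e2]
  have hcen : (⟨c, hcC⟩ : C) ∈ Subgroup.center C := by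
    rw [Subgroup.mem_center_iff]
    exact fun g => Subtype.ext (Subgroup.mem_centralizer_singleton_iff.1 g.2)
  refine (Nat.dvd_iff_prime_pow_dvd_dvd _ _).2 fun q k hq hqk => ?_
  haveI : Fact q.Prime := ⟨hq⟩
  exact roots_central_dvd _ hcen n k (hqk.trans (Nat.gcd_dvd_left _ _)) (hqk.trans (Nat.gcd_dvd_right _ _))

end Cfsg.Agent.S4212
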