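import Cfsg.Statements.S4213
import Mathlib
import Cfsg.Agent.Lib.Perm.MinNormal
import Cfsg.Agent.Lib.Solv.FrobDiv

set_option autoImplicit false
open Cfsg

namespace Cfsg.Agent.S4213


universe u

open scoped Classical in
theorem aux : ∀ (g : ℕ) {G : Type u} [Group G] [Finite G] [Group.IsSolvable G], Nat.card G = g →
    ∀ n : ℕ, n ∣ Nat.card G → Nat.card {x : G // x ^ n = 1} = n →
      ∃ H : Subgroup G, H.Normal ∧ (H : Set G) = {x : G | x ^ n = 1} := by
  intro g
  induction g using Nat.strong_induction_on with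
  | _ g IH =>
  intro G _ _ _ hg n hn hcount
  letI : Fintype G := Fintype.ofFinite G
  by_cases htriv : Nat.card G = 1
  · refine ⟨⊤, inferInstance, ?_⟩
    haveI : Subsingleton G := (Nat.card_eq_one_iff_unique.1 htriv).1
    ext x
    simp [Subsingleton.elim x 1]
  haveI : Nontrivial G := Finite.one_lt_card_iff_nontrivial.1
    (by have := Nat.card_pos (α := G); omega)
  obtain ⟨K, hK⟩ := Cfsg.Agent.Perm.exists_isMinNormal (G := G)
  haveI hKn : K.Normal := hK.1
  have hKab : IsMulCommutative K := hK.isMulCommutative inferInstance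
  obtain ⟨p, hp, hexp, hKp, i, hi, hcardK⟩ := hK.exists_prime hKab
  haveI : Fact p.Prime := ⟨hp⟩
  have hsmall : Nat.card (G ⧸ K) < g := by
    have h1 := K.card_mul_index
    rw [Subgroup.index_eq_card, hcardK] at h1
    rw [← hg, ← h1]
    exact lt_mul_of_one_lt_left Nat.card_pos (Nat.one_lt_pow hi.ne' hp.one_lt)
  set d := Nat.gcd n (p ^ i) with hd
  set m := n / d with hm
  have hn0 : 0 < n := Nat.pos_of_dvd_of_pos hn Nat.card_pos
  have hd0 : 0 < d := Nat.gcd_pos_of_pos_left _ hn0
  have hnd : n = m * d := (Nat.div_mul_cancel (Nat.gcd_dvd_left _ _)).symm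
  have hmdvd : m ∣ Nat.card (G ⧸ K) := by
    have h1 := K.card_mul_index
    rw [Subgroup.index_eq_card, hcardK] at h1
    have hc : Nat.Coprime m (p ^ i / d) := Nat.coprime_div_gcd_div_gcd hd0
    refine hc.dvd_of_dvd_mul_left ?_
    rw [← h1, hnd] at hn
    have h2 : p ^ i = d * (p ^ i / d) := (Nat.mul_div_cancel' (Nat.gcd_dvd_right _ _)).symm
    rw [h2, mul_comm m d, mul_assoc] at hn
    exact (Nat.mul_dvd_mul_iff_left hd0).1 hn
  letI : Fintype (G ⧸ K) := Fintype.ofFinite _
  set cbar := Nat.card {q : G ⧸ K // q ^ m = 1} with hcbar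
  have hfrob : m ≤ cbar := by
    refine Nat.le_of_dvd ?_ (Cfsg.Agent.Solv.frobenius_dvd m hmdvd)
    haveI : Nonempty {q : G ⧸ K // q ^ m = 1} := ⟨⟨1, one_pow _⟩⟩
    exact Nat.card_pos
  have e0 : {x : G // x ^ m ∈ K} ≃ {q : G ⧸ K // q ^ m = 1} × K :=
    ((Equiv.subtypeEquivRight fun y => by
        rw [Set.mem_preimage, Set.mem_setOf_eq, ← QuotientGroup.mk_pow, QuotientGroup.eq_one_iff]).trans
      (QuotientGroup.preimageMkEquivSubgroupProdSet K {q : G ⧸ K | q ^ m = 1})).trans
      (Equiv.prodComm _ _)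
  have hpre : Nat.card {x : G // x ^ m ∈ K} = cbar * p ^ i := by
    rw [Nat.card_congr e0, Nat.card_prod, hcardK]
  by_cases hpn : p ∣ n
  · have hpd : p ∣ d := Nat.dvd_gcd hpn (dvd_pow_self p hi.ne')
    have hsub : ∀ x : G, x ^ m ∈ K → x ^ n = 1 := by
      intro x hx
      obtain ⟨t, ht⟩ := hpd
      rw [hnd, pow_mul, ht, pow_mul, hexp _ hx, one_pow]
    have hle : cbar * p ^ i ≤ n := by
      rw [← hpre, ← hcount]
      exact Nat.card_le_card_of_injective (fun x : {x : G // x ^ m ∈ K} => (⟨x.1, hsub x.1 x.2⟩ : {x : G // x ^ n = 1}))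
        (fun a b h => by simpa [Subtype.ext_iff] using h)
    have hdle : d ≤ p ^ i := Nat.le_of_dvd (pow_pos hp.pos i) (Nat.gcd_dvd_right _ _)
    have h3 : m * p ^ i ≤ n := (Nat.mul_le_mul_right _ hfrob).trans hle
    have hm0 : 0 < m := Nat.pos_of_ne_zero fun h => by rw [h, zero_mul] at hnd; omega
    have hdeq : d = p ^ i := by
      rw [hnd] at h3
      exact le_antisymm hdle (Nat.le_of_mul_le_mul_left h3 hm0)
    have hceq : cbar = m := by
      refine le_antisymm ?_ hfrob
      rw [hnd, hdeq] at hle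
      exact Nat.le_of_mul_le_mul_right hle (pow_pos hp.pos i)
    obtain ⟨Hb, hHbn, hHb⟩ := IH _ hsmall rfl m hmdvd hceq
    refine ⟨Hb.comap (QuotientGroup.mk' K), inferInstance, ?_⟩
    have hS : (Finset.univ.filter fun x : G => x ^ m ∈ K) = Finset.univ.filter fun x : G => x ^ n = 1 := by
      refine Finset.eq_of_subset_of_card_le (fun x hx => ?_) ?_
      · rw [Finset.mem_filter] at hx ⊢; exact ⟨hx.1, hsub x hx.2⟩
      · rw [← Fintype.card_subtype, ← Fintype.card_subtype, ← Nat.card_eq_fintype_card,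
          ← Nat.card_eq_fintype_card, hpre, hcount, hceq, hnd, hdeq]
    ext x
    have h4 := Finset.ext_iff.1 hS x
    simp only [Finset.mem_filter, Finset.mem_univ, true_and] at h4
    rw [SetLike.mem_coe, Subgroup.mem_comap, Set.mem_setOf_eq, ← h4, ← SetLike.mem_coe, hHb]
    show (QuotientGroup.mk' K x) ^ m = 1 ↔ _
    rw [← map_pow, QuotientGroup.mk'_apply, QuotientGroup.eq_one_iff]
  · have hcop : Nat.Coprime n (p ^ i) := Nat.Coprime.pow_right i (hp.coprime_iff_not_dvd.2 hpn).symm
    have hdeq : d = 1 := hcop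
    have hmn : m = n := by rw [hm, hdeq, Nat.div_one]
    rw [hmn] at hfrob hmdvd hcbar
    obtain ⟨e, he1, he0⟩ : ∃ e, e ≡ 1 [MOD n] ∧ e ≡ 0 [MOD p ^ i] := by
      obtain ⟨e, he⟩ := Nat.chineseRemainder hcop 1 0
      exact ⟨e, he⟩
    have hlift : ∀ q : G ⧸ K, q ^ n = 1 → ∃ x : G, x ^ n = 1 ∧ (x : G ⧸ K) = q := by
      intro q hq
      obtain ⟨x, rfl⟩ := QuotientGroup.mk_surjective q
      have hxn : x ^ n ∈ K := by rwa [← QuotientGroup.eq_one_iff, QuotientGroup.mk_pow]
      refine ⟨x ^ e, ?_, ?_⟩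
      · obtain ⟨t, ht⟩ := Nat.modEq_zero_iff_dvd.1 he0
        rw [← pow_mul, mul_comm, pow_mul, ht, pow_mul, ← hcardK,
          show (x ^ n) ^ Nat.card K = 1 from
            congrArg Subtype.val (pow_card_eq_one' (x := (⟨x ^ n, hxn⟩ : K))), one_pow]
      · rw [QuotientGroup.mk_pow]
        conv_rhs => rw [← pow_one (x : G ⧸ K)]
        rw [pow_eq_pow_iff_modEq]
        exact he1.of_dvd (orderOf_dvd_of_pow_eq_one hq)
    choose lft hl1 hl2 using hlift
    have hceq : cbar = n := by
      refine le_antisymm ?_ hfrob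
      rw [hcbar]
      conv_rhs => rw [← hcount]
      exact Nat.card_le_card_of_injective (fun q : {q : G ⧸ K // q ^ n = 1} => (⟨lft q.1 q.2, hl1 _ _⟩ : {x : G // x ^ n = 1}))
        (fun a b h => Subtype.ext (by rw [← hl2 a.1 a.2, ← hl2 b.1 b.2, show lft a.1 a.2 = lft b.1 b.2 from congrArg Subtype.val h]))
    rw [hcbar] at hceq
    obtain ⟨Hb, hHbn, hHb⟩ := IH _ hsmall rfl n hmdvd hceq
    set L := Hb.comap (QuotientGroup.mk' K) with hL
    have hKL : K ≤ L := fun k hk => by
      rw [hL, Subgroup.mem_comap, show QuotientGroup.mk' K k = 1 from (QuotientGroup.eq_one_iff k).2 hk]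
      exact one_mem _
    have hLcard : Nat.card L = n * p ^ i := by
      have h1 := L.card_mul_index
      rw [Subgroup.index_comap_of_surjective _ (QuotientGroup.mk'_surjective K)] at h1
      have h2 := Hb.card_mul_index
      have h3 : Nat.card Hb = n :=
        (Nat.card_congr (Equiv.subtypeEquivRight fun q => Set.ext_iff.1 hHb q)).trans hceq
      rw [h3] at h2
      have h4 := K.card_mul_index
      rw [Subgroup.index_eq_card, hcardK, ← h2] at h4
      rw [← h4, ← mul_assoc] at h1
      rw [Nat.eq_of_mul_eq_mul_right (Nat.pos_of_ne_zero Subgroup.index_ne_zero_of_finite) h1, mul_comm]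
    have hKs : Nat.card (K.subgroupOf L) = p ^ i := by
      rw [Nat.card_congr (Subgroup.subgroupOfEquivOfLe hKL).toEquiv, hcardK]
    haveI : (K.subgroupOf L).Normal := hKn.subgroupOf L
    have hKi : (K.subgroupOf L).index = n := by
      have h5 := (K.subgroupOf L).card_mul_index
      rw [hKs, hLcard, mul_comm n] at h5
      exact Nat.eq_of_mul_eq_mul_left (pow_pos hp.pos i) h5
    obtain ⟨H1, hH1⟩ := Subgroup.exists_right_complement'_of_coprime (N := K.subgroupOf L)
      (by rw [hKs, hKi]; exact hcop.symm)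
    set H := H1.map L.subtype with hH
    have hHcard : Nat.card H = n := by
      rw [hH, Subgroup.card_map_of_injective L.subtype_injective, ← hH1.symm.index_eq_card]
      exact hKi
    have hsub : ∀ x ∈ H, x ^ n = 1 := fun x hx => by
      have := pow_card_eq_one' (x := (⟨x, hx⟩ : H))
      rw [hHcard] at this
      exact congrArg Subtype.val this
    have hS : (Finset.univ.filter fun x : G => x ∈ H) = Finset.univ.filter fun x : G => x ^ n = 1 := by
      refine Finset.eq_of_subset_of_card_le (fun x hx => ?_) ?_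
      · rw [Finset.mem_filter] at hx ⊢; exact ⟨hx.1, hsub x hx.2⟩
      · rw [← Fintype.card_subtype, ← Fintype.card_subtype, ← Nat.card_eq_fintype_card,
          ← Nat.card_eq_fintype_card, hcount]
        exact hHcard.ge
    have hmem : ∀ x, x ∈ H ↔ x ^ n = 1 := fun x => by
      have h4 := Finset.ext_iff.1 hS x
      simpa using h4
    refine ⟨H, ⟨fun x hx t => ?_⟩, Set.ext hmem⟩
    rw [hmem] at hx ⊢
    rw [conj_pow, hx, mul_one, mul_inv_cancel]


/-- If `G` is a finite solvable group and `n` divides the order of `G` and exactly `n` elements `x` of `G` satisfy `x^n = 1`, then these elements form a normal subgroup. -/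
theorem result {G : Type*} [Group G] [Finite G] [Group.IsSolvable G] (n : ℕ) (hn : n ∣ Nat.card G) (hcount : Nat.card {x : G // x ^ n = 1} = n) : ∃ H : Subgroup G, H.Normal ∧ (H : Set G) = {x : G | x ^ n = 1} := by
  exact aux _ rfl n hn hcount

end Cfsg.Agent.S4213
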