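import Cfsg.Statements.S4214
import Cfsg.Agent.Lib.Solv.Hall
import Cfsg.Agent.Lib.Perm.MinNormal

set_option autoImplicit false
set_option linter.style.haveILetI false
open Cfsg
open scoped Pointwise

namespace Cfsg.Agent.S4214

section Aux

universe u
variable {G : Type u} [Group G] [Finite G]

/-- One admissible factor. -/
def FactOK (G : Type u) [Group G] (m f : ℕ) : Prop :=
  (∃ q e : ℕ, q.Prime ∧ f = q ^ e) ∧ (∃ K L : Subgroup G, K.Normal ∧ L.Normal ∧ K < L ∧
    (∀ M : Subgroup G, M.Normal → K ≤ M → M ≤ L → M = K ∨ M = L) ∧ f ∣ K.relIndex L) ∧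
    (∃ q : ℕ, q.Prime ∧ q ∣ m ∧ f ≡ 1 [MOD q])

/-- Coprime fixed points: the index is a product of prime powers congruent to one. -/
theorem fix_index {q a : ℕ} (hq : q.Prime) (N : Subgroup G) [N.Normal]
    (hN : Nat.card N = q ^ a) :
    ∀ (n : ℕ) (H : Subgroup G), Nat.card H = n → Group.IsSolvable H → ¬ q ∣ Nat.card H →
      ∃ l : List ℕ, (N ⊓ Subgroup.centralizer (H : Set G)).relIndex N = l.prod ∧
        ∀ f ∈ l, (∃ e, f = q ^ e) ∧ f ∣ Nat.card N ∧
          ∃ r : ℕ, r.Prime ∧ r ∣ Nat.card H ∧ f ≡ 1 [MOD r] := by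
  intro n
  induction n using Nat.strong_induction_on with
  | _ n ih =>
    intro H hn hsol hqH
    by_cases hH1 : H = ⊥
    · subst hH1
      refine ⟨[], ?_, by simp⟩
      rw [List.prod_nil, Subgroup.relIndex_eq_one]
      exact le_inf le_rfl fun x _ => Subgroup.mem_centralizer_iff.2 fun y hy => by
        rw [SetLike.mem_coe, Subgroup.mem_bot] at hy; simp [hy]
    haveI : Nontrivial ↥H := (Subgroup.nontrivial_iff_ne_bot H).2 hH1
    have hcomm : _root_.commutator ↥H < ⊤ := Group.IsSolvable.commutator_lt_top_of_nontrivial ↥H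
    obtain ⟨L0, hL0, hcL0⟩ := (eq_top_or_exists_le_coatom _).resolve_left hcomm.ne
    haveI : L0.Normal := Subgroup.Normal.of_commutator_le _ hcL0
    obtain ⟨r, hr, hrd⟩ := Nat.exists_prime_and_dvd (n := L0.index)
      (fun h => hL0.1 (Subgroup.index_eq_one.1 h))
    haveI := Fact.mk hr
    obtain ⟨R0⟩ := (inferInstance : Nonempty (Sylow r ↥H))
    have hR0L : ¬ (R0 : Subgroup ↥H) ≤ L0 := fun hle =>
      R0.not_dvd_index (hrd.trans (Subgroup.index_dvd_of_le hle))
    have hLR : L0 ⊔ (R0 : Subgroup ↥H) = ⊤ :=
      hL0.2 _ (lt_of_le_of_ne le_sup_left fun e => hR0L (le_sup_right.trans e.ge))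
    set L := L0.map H.subtype
    set R := (R0 : Subgroup ↥H).map H.subtype with hRdef
    have hLH : L ≤ H := Subgroup.map_subtype_le _
    have hRH : R ≤ H := Subgroup.map_subtype_le _
    have hHLR : L ⊔ R = H := by
      rw [← Subgroup.map_sup, hLR, ← MonoidHom.range_eq_map, Subgroup.range_subtype]
    have hLcard : Nat.card L < Nat.card H := by
      rw [Subgroup.card_map_of_injective H.subtype_injective, ← L0.card_mul_index]
      exact lt_mul_of_one_lt_right Nat.card_pos (Subgroup.one_lt_index_of_ne_top hL0.1)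
    haveI : Group.IsSolvable ↥L :=
      Group.isSolvable_of_isSolvable_injective (Subgroup.inclusion_injective hLH)
    obtain ⟨l, hl, hlf⟩ := ih _ (hn ▸ hLcard) L rfl inferInstance
      (fun hd => hqH (hd.trans (Subgroup.card_dvd_of_le hLH)))
    set CH := N ⊓ Subgroup.centralizer (H : Set G) with hCH
    set CL := N ⊓ Subgroup.centralizer (L : Set G) with hCL
    have hle : CH ≤ CL := inf_le_inf_left _ (Subgroup.centralizer_le hLH)
    have hLn : ∀ h ∈ H, ∀ y ∈ L, h⁻¹ * y * h ∈ L := by
      rintro h hh _ ⟨y, hy, rfl⟩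
      exact ⟨(⟨h, hh⟩ : H)⁻¹ * y * ⟨h, hh⟩, by
        simpa using (inferInstance : L0.Normal).conj_mem y hy (⟨h, hh⟩ : H)⁻¹, rfl⟩
    have hinv : ∀ h ∈ H, ∀ c ∈ CL, h * c * h⁻¹ ∈ CL := by
      intro h hh c hc
      refine ⟨(inferInstance : N.Normal).conj_mem c hc.1 h, ?_⟩
      show h * c * h⁻¹ ∈ Subgroup.centralizer (L : Set G)
      rw [Subgroup.mem_centralizer_iff]
      intro y hy
      have h1 := Subgroup.mem_centralizer_iff.1 hc.2 _ (hLn h hh y hy)
      calc y * (h * c * h⁻¹) = h * ((h⁻¹ * y * h) * c) * h⁻¹ := by group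
        _ = _ := by rw [h1]; group
    letI : MulAction ↥R ↥CL :=
      { smul := fun x c => ⟨x * c * (x : G)⁻¹, hinv x (hRH x.2) c c.2⟩
        one_smul := fun c => Subtype.ext (by show (1 : G) * c * (1 : G)⁻¹ = c; group)
        mul_smul := fun x y c => Subtype.ext (by
          show ((x : G) * y) * c * ((x : G) * y)⁻¹ = x * (y * c * (y : G)⁻¹) * (x : G)⁻¹
          group) }
    have hRp : IsPGroup r ↥R := R0.isPGroup'.map _
    have hfix : Nat.card (MulAction.fixedPoints ↥R ↥CL) = Nat.card CH := by
      refine Nat.card_congr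
        { toFun := fun c => ⟨(c.1 : G), (c.1).2.1, ?_⟩
          invFun := fun c => ⟨⟨c, hle c.2⟩, fun x => Subtype.ext ?_⟩
          left_inv := fun c => rfl
          right_inv := fun c => rfl }
      · have hcl : H ≤ Subgroup.centralizer ({((c.1 : ↥CL) : G)} : Set G) := by
          rw [← hHLR, sup_le_iff]
          constructor
          · intro y hy
            rw [Subgroup.mem_centralizer_iff]
            intro z hz
            rw [Set.mem_singleton_iff] at hz
            subst hz
            exact (Subgroup.mem_centralizer_iff.1 (c.1).2.2 y hy).symm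
          · intro x hx
            rw [Subgroup.mem_centralizer_iff]
            intro z hz
            rw [Set.mem_singleton_iff] at hz
            subst hz
            have h1 : x * ((c.1 : ↥CL) : G) * x⁻¹ = (c.1 : ↥CL) :=
              congrArg Subtype.val (c.2 ⟨x, hx⟩)
            exact (mul_inv_eq_iff_eq_mul.1 h1).symm
        show ((c.1 : ↥CL) : G) ∈ Subgroup.centralizer (H : Set G)
        rw [Subgroup.mem_centralizer_iff]
        intro y hy
        exact (Subgroup.mem_centralizer_iff.1 (hcl hy) _ rfl).symm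
      · show (x : G) * c * (x : G)⁻¹ = c
        rw [Subgroup.mem_centralizer_iff.1 c.2.2 x (hRH x.2), mul_inv_cancel_right]
    have hmod : Nat.card CL ≡ Nat.card CH [MOD r] := hfix ▸ hRp.card_modEq_card_fixedPoints ↥CL
    have hcard : Nat.card CH * CH.relIndex CL = Nat.card CL := by
      have := Subgroup.relIndex_mul_relIndex ⊥ CH CL bot_le hle
      rwa [Subgroup.relIndex_bot_left, Subgroup.relIndex_bot_left] at this
    have hrH : r ∣ Nat.card H := hrd.trans L0.index_dvd_card
    have hqr : q ≠ r := fun e => hqH (e ▸ hrH)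
    obtain ⟨e, -, he⟩ := (Nat.dvd_prime_pow hq).1
      (hN ▸ (Subgroup.relIndex_dvd_card CH CL).trans
        (Subgroup.card_dvd_of_le (inf_le_left : CL ≤ N)))
    obtain ⟨e', -, he'⟩ := (Nat.dvd_prime_pow hq).1
      (hN ▸ Subgroup.card_dvd_of_le (inf_le_left : CH ≤ N))
    refine ⟨CH.relIndex CL :: l, ?_, ?_⟩
    · rw [List.prod_cons, ← hl, Subgroup.relIndex_mul_relIndex _ _ _ hle inf_le_left]
    · intro f hf
      rcases List.mem_cons.1 hf with rfl | hf
      · refine ⟨⟨e, he⟩, (Subgroup.relIndex_dvd_card CH CL).trans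
          (Subgroup.card_dvd_of_le inf_le_left), r, hr, hrH, ?_⟩
        have hco : Nat.Coprime r (Nat.card CH) := by
          rw [he']; exact Nat.Coprime.pow_right _ ((Nat.coprime_primes hr hq).2 (Ne.symm hqr))
        refine Nat.ModEq.cancel_left_of_coprime hco ?_
        rw [hcard, mul_one]
        exact hmod
      · obtain ⟨h1, h2, r', hr', hr'd, hm⟩ := hlf f hf
        exact ⟨h1, h2, r', hr', hr'd.trans (Subgroup.card_dvd_of_le hLH), hm⟩

omit [Finite G] in
theorem card_conjClass (H : Subgroup G) (P : Subgroup G → Prop)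
    (hP : ∀ g : G, P (MulAut.conj g • H)) (hall : ∀ K, P K → ∃ g : G, MulAut.conj g • H = K) :
    Nat.card {K : Subgroup G // P K} = (Subgroup.normalizer (H : Set G)).index := by
  let f : G ⧸ Subgroup.normalizer (H : Set G) → {K : Subgroup G // P K} :=
    Quotient.lift (fun g : G => (⟨MulAut.conj g • H, hP g⟩ : {K : Subgroup G // P K}))
      fun a b hab => by
        have hab' : a⁻¹ * b ∈ Subgroup.normalizer (H : Set G) := QuotientGroup.leftRel_apply.1 hab
        refine Subtype.ext ?_
        show MulAut.conj a • H = MulAut.conj b • H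
        rw [← Solv.conj_smul_of_mem_normalizer hab', Solv.conj_smul_conj, mul_inv_cancel_left,
          Solv.conj_smul_of_mem_normalizer hab']
  symm
  refine Nat.card_eq_of_bijective f ⟨?_, ?_⟩
  · intro a b hab
    induction a using QuotientGroup.induction_on with
    | _ a =>
      induction b using QuotientGroup.induction_on with
      | _ b =>
        rw [QuotientGroup.eq]
        have h1 : MulAut.conj a • H = MulAut.conj b • H := congrArg Subtype.val hab
        refine Solv.mem_normalizer_of_conj_smul ?_
        rw [← Solv.conj_smul_conj, ← h1, Solv.conj_smul_conj, inv_mul_cancel, Solv.conj_one_smul]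
  · rintro ⟨K, hK⟩
    obtain ⟨g, hg⟩ := hall K hK
    exact ⟨(g : G ⧸ Subgroup.normalizer (H : Set G)), Subtype.ext hg⟩

theorem hall_count : ∀ (k : ℕ) (G : Type u) [Group G] [Finite G], Nat.card G = k →
    Group.IsSolvable G → ∀ m n : ℕ, Nat.card G = m * n → m.Coprime n →
      ∃ l : List ℕ, Nat.card {H : Subgroup G // Nat.card H = m} = l.prod ∧
        ∀ f ∈ l, FactOK G m f := by
  intro k
  induction k using Nat.strong_induction_on with
  | _ k ih =>
    intro G _ _ hk hsol m n hG hco
    rcases subsingleton_or_nontrivial G with hs | hs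
    · refine ⟨[], ?_, by simp⟩
      rw [List.prod_nil, Nat.card_eq_one_iff_unique]
      have h1 : m = 1 := by
        have : Nat.card G = 1 := Nat.card_of_subsingleton 1
        rw [hG] at this
        exact Nat.eq_one_of_mul_eq_one_right this
      refine ⟨⟨fun a b => Subtype.ext (Subsingleton.elim _ _)⟩, ⟨⟨⊥, ?_⟩⟩⟩
      rw [Subgroup.card_bot, h1]
    obtain ⟨N, hN⟩ := Perm.exists_isMinNormal (G := G)
    haveI hNn : N.Normal := hN.1
    obtain ⟨q, a, hq, ha, hNc⟩ : ∃ q a : ℕ, q.Prime ∧ 0 < a ∧ Nat.card N = q ^ a := by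
      obtain ⟨q, hq, -, -, a, ha, hc⟩ := hN.exists_prime (hN.isMulCommutative inferInstance)
      exact ⟨q, a, hq, ha, hc⟩
    set π := QuotientGroup.mk' N
    have hπ : Function.Surjective π := QuotientGroup.mk'_surjective N
    have hQcard : Nat.card (G ⧸ N) * q ^ a = Nat.card G := by
      rw [← hNc]; exact N.card_eq_card_quotient_mul_card_subgroup.symm
    have hlt : Nat.card (G ⧸ N) < k := by
      rw [← hk, ← hQcard]
      exact lt_mul_of_one_lt_right Nat.card_pos (Nat.one_lt_pow ha.ne' hq.one_lt)
    have hlift : ∀ {m' f : ℕ}, m' ∣ m → FactOK (G ⧸ N) m' f → FactOK G m f := by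
      rintro m' f hm' ⟨h1, ⟨K, L, hK, hL, hKL, hchief, hf⟩, r, hr, hrm, hmod⟩
      refine ⟨h1, ⟨K.comap π, L.comap π, hK.comap π, hL.comap π,
        (Subgroup.comap_lt_comap_of_surjective hπ).2 hKL, fun M hM h2 h3 => ?_, ?_⟩,
        r, hr, hrm.trans hm', hmod⟩
      · have hNM : N ≤ M := le_trans (le_trans (QuotientGroup.ker_mk' N).ge
          (Subgroup.ker_le_comap _ _)) h2
        have hMc : (M.map π).comap π = M := by
          rw [Subgroup.comap_map_eq, QuotientGroup.ker_mk', sup_eq_left.2 hNM]
        rcases hchief (M.map π) (hM.map π hπ)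
          (by rw [← Subgroup.map_comap_eq_self_of_surjective hπ K]; exact Subgroup.map_mono h2)
          (by rw [← Subgroup.map_comap_eq_self_of_surjective hπ L]; exact Subgroup.map_mono h3)
          with h4 | h4
        · left; rw [← hMc, h4]
        · right; rw [← hMc, h4]
      · rw [Subgroup.relIndex_comap, Subgroup.map_comap_eq_self_of_surjective hπ]
        exact hf
    haveI : Group.IsSolvable (G ⧸ N) := Group.isSolvable_of_surjective hπ
    by_cases hqm : q ∣ m
    · -- `N` lies in every Hall subgroup
      have hcn : (q ^ a).Coprime n := Nat.Coprime.pow_left a (hco.coprime_dvd_left hqm)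
      obtain ⟨m', rfl⟩ : q ^ a ∣ m := hcn.dvd_of_dvd_mul_right (hG ▸ ⟨_, (mul_comm _ _).trans hQcard |>.symm⟩)
      have hqa : 0 < q ^ a := pow_pos hq.pos a
      have hG' : Nat.card (G ⧸ N) = m' * n := by
        refine Nat.eq_of_mul_eq_mul_right hqa ?_
        rw [hQcard, hG]; ring
      obtain ⟨l, hl, hlf⟩ := ih _ hlt (G ⧸ N) rfl inferInstance m' n hG'
        (hco.coprime_dvd_left (dvd_mul_left _ _))
      have hNle : ∀ H : Subgroup G, Nat.card H = q ^ a * m' → N ≤ H := by
        intro H hH
        obtain ⟨g, hg⟩ := Solv.hall_contain inferInstance hG hco N H (by rw [hNc]; exact hcn) hH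
        intro x hx
        have h1 := hg (hNn.conj_mem x hx g)
        rw [Solv.mem_conj_smul] at h1
        simpa [mul_assoc] using h1
      have hmapcard : ∀ H : Subgroup G, N ≤ H → Nat.card (H.map π) * q ^ a = Nat.card H := by
        intro H hH
        have h1 := Subgroup.relIndex_ker (f := π) (K := H)
        rw [QuotientGroup.ker_mk'] at h1
        have h2 := Subgroup.relIndex_mul_relIndex ⊥ N H bot_le hH
        rw [Subgroup.relIndex_bot_left, Subgroup.relIndex_bot_left, h1, hNc] at h2
        rw [← h2, mul_comm]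
      refine ⟨l, ?_, fun f hf => hlift (dvd_mul_left _ _) (hlf f hf)⟩
      rw [← hl]
      refine Nat.card_congr
        { toFun := fun H => ⟨H.1.map π, Nat.eq_of_mul_eq_mul_right hqa
            (by rw [hmapcard _ (hNle _ H.2), H.2, mul_comm])⟩
          invFun := fun K => ⟨K.1.comap π, ?_⟩
          left_inv := fun H => Subtype.ext ?_
          right_inv := fun K => Subtype.ext (Subgroup.map_comap_eq_self_of_surjective hπ _) }
      · have hNK : N ≤ K.1.comap π := le_trans (QuotientGroup.ker_mk' N).ge
          (Subgroup.ker_le_comap _ _)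
        rw [← hmapcard _ hNK, Subgroup.map_comap_eq_self_of_surjective hπ, K.2, mul_comm]
      · show (H.1.map π).comap π = H.1
        rw [Subgroup.comap_map_eq, QuotientGroup.ker_mk', sup_eq_left.2 (hNle _ H.2)]
    · -- `N` has order prime to `m`
      have hcm : (q ^ a).Coprime m :=
        Nat.Coprime.pow_left a ((Nat.Prime.coprime_iff_not_dvd hq).2 hqm)
      obtain ⟨n', rfl⟩ : q ^ a ∣ n := hcm.dvd_of_dvd_mul_left (hG ▸ ⟨_, (mul_comm _ _).trans hQcard |>.symm⟩)
      have hqa : 0 < q ^ a := pow_pos hq.pos a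
      have hG' : Nat.card (G ⧸ N) = m * n' := by
        refine Nat.eq_of_mul_eq_mul_right hqa ?_
        rw [hQcard, hG]; ring
      have hco' : m.Coprime n' := hco.coprime_dvd_right (dvd_mul_left _ _)
      obtain ⟨l, hl, hlf⟩ := ih _ hlt (G ⧸ N) rfl inferInstance m n' hG' hco'
      obtain ⟨H, hH⟩ := Solv.hall_exists (G := G) inferInstance hG hco
      have hHN : H ⊓ N = ⊥ := Subgroup.card_eq_one.1 (Nat.eq_one_of_dvd_coprimes
        (hcm.symm) (hH ▸ Subgroup.card_dvd_of_le inf_le_left)
        (hNc ▸ Subgroup.card_dvd_of_le inf_le_right))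
      have hmapc : Nat.card (H.map π) = m := by
        have h1 := Subgroup.relIndex_ker (f := π) (K := H)
        rw [QuotientGroup.ker_mk'] at h1
        rw [← h1, ← Subgroup.inf_relIndex_right, inf_comm, hHN, Subgroup.relIndex_bot_left, hH]
      have hcount : Nat.card {K : Subgroup G // Nat.card K = m} =
          (Subgroup.normalizer (H : Set G)).index :=
        card_conjClass H _ (fun g => by rw [Solv.card_conj_smul, hH])
          (fun K hK => Solv.hall_conj inferInstance hG hco H K hH hK)
      have hcount' : Nat.card {K : Subgroup (G ⧸ N) // Nat.card K = m} =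
          (Subgroup.normalizer ((H.map π : Subgroup (G ⧸ N)) : Set (G ⧸ N))).index :=
        card_conjClass _ _ (fun g => by rw [Solv.card_conj_smul, hmapc])
          (fun K hK => Solv.hall_conj inferInstance hG' hco' _ K hmapc hK)
      set NH := Subgroup.normalizer (H : Set G) with hNH
      -- Frattini: the normalizer of the image is the image of the normalizer
      have hnorm : (Subgroup.normalizer ((H.map π : Subgroup (G ⧸ N)) : Set (G ⧸ N))).comap π =
          NH ⊔ N := by
        refine le_antisymm ?_ (sup_le ?_ ?_)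
        · intro g hg
          set S := H ⊔ N
          have hS : (H.map π).comap π = S := by
            rw [Subgroup.comap_map_eq, QuotientGroup.ker_mk']
          have hgS : MulAut.conj g • H ≤ S := by
            intro x hx
            rw [Solv.mem_conj_smul] at hx
            rw [← hS, Subgroup.mem_comap]
            have h1 := (Subgroup.mem_normalizer_iff.1 hg (π (g⁻¹ * x * g))).1 ⟨_, hx, rfl⟩
            simpa [mul_assoc] using h1
          have hHS : H ≤ S := le_sup_left
          have hScard : Nat.card S = m * q ^ a := by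
            have h1 : N.relIndex S = N.relIndex H := Subgroup.relIndex_sup_right H N
            rw [← Subgroup.inf_relIndex_right N H, inf_comm, hHN, Subgroup.relIndex_bot_left,
              hH] at h1
            have h2 := Subgroup.relIndex_mul_relIndex ⊥ N S bot_le le_sup_right
            rw [Subgroup.relIndex_bot_left, Subgroup.relIndex_bot_left, h1, hNc] at h2
            rw [← h2, mul_comm]
          obtain ⟨x, hx⟩ := Solv.hall_conj (G := ↥S) inferInstance hScard hcm.symm
            (H.subgroupOf S) ((MulAut.conj g • H).subgroupOf S)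
            (by rw [Nat.card_congr (Subgroup.subgroupOfEquivOfLe hHS).toEquiv, hH])
            (by rw [Nat.card_congr (Subgroup.subgroupOfEquivOfLe hgS).toEquiv, Solv.card_conj_smul,
              hH])
          have hxg : MulAut.conj (x : G) • H = MulAut.conj g • H := by
            refine Subgroup.eq_of_le_of_card_ge ?_ (by rw [Solv.card_conj_smul, Solv.card_conj_smul])
            intro y hy
            have hyS : y ∈ S := by
              rw [← Subgroup.conj_smul_eq_self_of_mem x.2]
              exact Subgroup.pointwise_smul_le_pointwise_smul_iff.2 hHS hy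
            have h1 : (⟨y, hyS⟩ : S) ∈ MulAut.conj x • H.subgroupOf S := by
              rw [Solv.mem_conj_smul] at hy ⊢
              exact hy
            rw [hx] at h1
            exact h1
          have h2 : (x : G)⁻¹ * g ∈ NH := by
            refine Solv.mem_normalizer_of_conj_smul ?_
            rw [← Solv.conj_smul_conj, ← hxg, Solv.conj_smul_conj, inv_mul_cancel,
              Solv.conj_one_smul]
          have hS' : S ≤ NH ⊔ N := sup_le (Subgroup.le_normalizer.trans le_sup_left) le_sup_right
          simpa using mul_mem (hS' x.2) (Subgroup.mem_sup_left h2 : (x : G)⁻¹ * g ∈ NH ⊔ N)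
        · intro g hg
          exact Subgroup.le_normalizer_map π ⟨g, hg, rfl⟩
        · intro g hg
          rw [Subgroup.mem_comap, show π g = 1 from (QuotientGroup.eq_one_iff g).2 hg]
          exact one_mem _
      obtain ⟨l', hl', hlf'⟩ := fix_index hq N hNc _ H rfl inferInstance (hH.symm ▸ hqm)
      have hfix : NH ⊓ N = N ⊓ Subgroup.centralizer (H : Set G) := by
        ext x
        simp only [Subgroup.mem_inf]
        constructor
        · rintro ⟨h1, h2⟩
          refine ⟨h2, Subgroup.mem_centralizer_iff.2 fun y hy => ?_⟩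
          have h3 : y * x * y⁻¹ * x⁻¹ ∈ H ⊓ N := by
            refine Subgroup.mem_inf.2 ⟨?_, mul_mem (hNn.conj_mem x h2 y) (inv_mem h2)⟩
            rw [mul_assoc, mul_assoc]
            show y * (x * (y⁻¹ * x⁻¹)) ∈ H
            refine mul_mem hy ?_
            rw [← mul_assoc]
            exact (Subgroup.mem_normalizer_iff.1 h1 y⁻¹).1 (inv_mem hy)
          rw [hHN, Subgroup.mem_bot] at h3
          exact mul_inv_eq_one.1 (by rw [← h3]; group)
        · rintro ⟨h1, h2⟩
          refine ⟨Subgroup.mem_normalizer_fintype fun y hy => ?_, h1⟩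
          rw [← Subgroup.mem_centralizer_iff.1 h2 y hy, mul_inv_cancel_right]
          exact hy
      have hindex : NH.index =
          (Subgroup.normalizer ((H.map π : Subgroup (G ⧸ N)) : Set (G ⧸ N))).index *
            (N ⊓ Subgroup.centralizer (H : Set G)).relIndex N := by
        rw [← Subgroup.index_comap_of_surjective _ hπ, hnorm, ← hfix,
          Subgroup.inf_relIndex_right, ← Subgroup.relIndex_mul_index (le_sup_left : NH ≤ NH ⊔ N),
          mul_comm]
        congr 1
        have e1 : N.relIndex (NH ⊔ N) = N.relIndex NH := Subgroup.relIndex_sup_right NH N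
        have e2 := Subgroup.relIndex_mul_relIndex ⊥ NH (NH ⊔ N) bot_le le_sup_left
        have e3 := Subgroup.relIndex_mul_relIndex ⊥ N (NH ⊔ N) bot_le le_sup_right
        have e4 := Subgroup.relIndex_mul_relIndex ⊥ (NH ⊓ N) N bot_le inf_le_right
        have e5 := Subgroup.relIndex_mul_relIndex ⊥ (NH ⊓ N) NH bot_le inf_le_left
        simp only [Subgroup.relIndex_bot_left, Subgroup.inf_relIndex_left,
          Subgroup.inf_relIndex_right] at e2 e3 e4 e5
        rw [e1] at e3
        refine Nat.eq_of_mul_eq_mul_left (Nat.card_pos (α := ↥NH)) ?_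
        rw [e2, ← e3, ← e5, ← e4]
        ring
      refine ⟨l ++ l', by rw [List.prod_append, hcount, hindex, ← hcount', hl, hl'], fun f hf => ?_⟩
      rcases List.mem_append.1 hf with hf | hf
      · exact hlift dvd_rfl (hlf f hf)
      · obtain ⟨⟨e, he⟩, hdvd, r, hr, hrd, hmod⟩ := hlf' f hf
        refine ⟨⟨q, e, hq, he⟩, ⟨⊥, N, inferInstance, hNn, bot_lt_iff_ne_bot.2 hN.2.1,
          fun M hM _ hMN => hN.2.2 M hM hMN, ?_⟩, r, hr, hH ▸ hrd, hmod⟩
        rwa [Subgroup.relIndex_bot_left]

end Aux

/-- Let `G` be a finite solvable group of order `mn` with `gcd(m, n) = 1`. Then the number of subgroups of order `m` is a product of natural numbers each of which is a power of a prime, divides the order of some chief factor of `G` (a quotient `L/K` of normal subgroups `K < L` of `G` with no normal subgroup of `G` strictly between them), and is congruent to `1` modulo some prime divisor of `m`. -/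
theorem result {G : Type*} [Group G] [Finite G] [Group.IsSolvable G] (m n : ℕ) (hG : Nat.card G = m * n) (hmn : Nat.Coprime m n) : ∃ (k : ℕ) (f : Fin k → ℕ), Nat.card {H : Subgroup G // Nat.card H = m} = ∏ i, f i ∧ ∀ i, (∃ q e : ℕ, q.Prime ∧ f i = q ^ e) ∧ (∃ K L : Subgroup G, K.Normal ∧ L.Normal ∧ K < L ∧ (∀ M : Subgroup G, M.Normal → K ≤ M → M ≤ L → M = K ∨ M = L) ∧ f i ∣ K.relIndex L) ∧ (∃ q : ℕ, q.Prime ∧ q ∣ m ∧ f i ≡ 1 [MOD q]) := by
  obtain ⟨l, hl, hlf⟩ := hall_count _ G rfl inferInstance m n hG hmn
  refine ⟨l.length, fun i => l[i], by rw [hl, ← List.prod_ofFn]; congr 1; exact (List.ofFn_getElem).symm, fun i => ?_⟩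
  exact hlf _ (List.getElem_mem i.2)

end Cfsg.Agent.S4214
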