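import Cfsg.Statements.S4216
import Mathlib

set_option autoImplicit false
open Cfsg

namespace Cfsg.Agent.S4216


open scoped commutatorElement
open MulAction

variable {G : Type*} [Group G] [Finite G] {p : ℕ} [hp : Fact p.Prime]

theorem mem_R (P : Sylow p G) (R : Subgroup G)
    (hD : ∀ (z g : G), g ∈ P → z⁻¹ * g * z ∈ ⁅(P : Subgroup G), (P : Subgroup G)⁆ → g ∈ R)
    (hN : (P : Subgroup G) ⊓ ⁅Subgroup.normalizer ((P : Subgroup G) : Set G),
      Subgroup.normalizer ((P : Subgroup G) : Set G)⁆ ≤ R) :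
    ∀ u : G, u ∈ P → u ∈ commutator G → u ∈ R := by
  classical
  suffices H : ∀ n : ℕ, ∀ u : G, orderOf u = n → u ∈ P → u ∈ commutator G → u ∈ R from
    fun u => H _ u rfl
  intro n
  induction n using Nat.strong_induction_on with
  | _ n IH =>
  intro u hun huP huG
  by_cases hu1 : u = 1
  · exact hu1 ▸ one_mem R
  set K : Subgroup (Abelianization P) := (R.subgroupOf (P : Subgroup G)).map Abelianization.of with hK
  set φ : P →* Abelianization P ⧸ K := (QuotientGroup.mk' K).comp Abelianization.of with hφ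
  have hker : ∀ a : P, φ a = 1 → (a : G) ∈ R := by
    intro a ha
    rw [hφ, MonoidHom.comp_apply, QuotientGroup.mk'_apply, QuotientGroup.eq_one_iff, hK] at ha
    obtain ⟨b, hb, hab⟩ := ha
    have h1 : b⁻¹ * a ∈ commutator P := by
      rw [← Abelianization.ker_of, MonoidHom.mem_ker, map_mul, map_inv, hab, inv_mul_cancel]
    have h2 : ((b⁻¹ * a : P) : G) ∈ ⁅(P : Subgroup G), (P : Subgroup G)⁆ := by
      rw [← Subgroup.map_subtype_commutator]
      exact ⟨_, h1, rfl⟩
    have h3 : ((b⁻¹ * a : P) : G) ∈ R := hD 1 _ (b⁻¹ * a).2 (by simpa using h2)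
    have h4 := R.mul_mem (Subgroup.mem_subgroupOf.1 hb) h3
    simpa using h4
  have hone : ∀ a : P, (a : G) ∈ R → φ a = 1 := by
    intro a ha
    rw [hφ, MonoidHom.comp_apply, QuotientGroup.mk'_apply, QuotientGroup.eq_one_iff]
    exact ⟨a, ha, rfl⟩
  have hcong : ∀ a b : P, (a : G)⁻¹ * b ∈ R → φ b = φ a := by
    intro a b h
    have := hone (a⁻¹ * b) h
    rwa [map_mul, map_inv, inv_mul_eq_one, eq_comm] at this
  refine hker ⟨u, huP⟩ ?_
  obtain ⟨k, hk⟩ := IsPGroup.iff_orderOf.1 P.2 ⟨u, huP⟩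
  rw [Subgroup.orderOf_mk] at hk
  letI : Fintype (G ⧸ (P : Subgroup G)) := Fintype.ofFinite _
  letI : Fintype (Quotient (orbitRel (Subgroup.zpowers u) (G ⧸ (P : Subgroup G)))) := Fintype.ofFinite _
  letI : Fintype (Quotient (orbitRel P (G ⧸ (P : Subgroup G)))) := Fintype.ofFinite _
  have h0 := MonoidHom.transfer_eq_prod_quotient_orbitRel_zpowers_quot φ u
  have h00 : MonoidHom.transfer φ u = 1 := Abelianization.commutator_subset_ker _ huG
  rw [h00] at h0
  set π : Quotient (orbitRel (Subgroup.zpowers u) (G ⧸ (P : Subgroup G))) →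
      Quotient (orbitRel P (G ⧸ (P : Subgroup G))) := fun q => ⟦q.out⟧ with hπ
  rw [← Finset.prod_fiberwise Finset.univ π] at h0
  set S : Quotient (orbitRel P (G ⧸ (P : Subgroup G))) → ℕ :=
    fun ω => (Finset.univ.filter fun x : G ⧸ (P : Subgroup G) => (⟦x⟧ : Quotient (orbitRel P _)) = ω).card with hS
  have hSpow : ∀ ω, ∃ t, S ω = p ^ t := by
    intro ω
    obtain ⟨t, ht⟩ := P.2.card_orbit ω.out
    refine ⟨t, ?_⟩
    rw [← ht, Nat.card_eq_fintype_card, ← Set.toFinset_card]
    simp only [hS]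
    congr 1
    ext x
    simp only [Finset.mem_filter, Finset.mem_univ, true_and, Set.mem_toFinset]
    rw [← MulAction.orbitRel_apply]
    exact ⟨fun h => Quotient.exact (by rw [Quotient.out_eq]; exact h),
      fun h => (Quotient.sound h).trans ω.out_eq⟩
  have hfib : ∀ ω, (∏ q ∈ Finset.univ.filter (fun q => π q = ω), φ
      ⟨q.out.out⁻¹ * u ^ Function.minimalPeriod (u • ·) q.out * q.out.out,
        QuotientGroup.out_conj_pow_minimalPeriod_mem (P : Subgroup G) u q.out⟩) =
      if S ω = 1 then φ ⟨u, huP⟩ else 1 := by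
    intro ω
    set F := Finset.univ.filter (fun q => π q = ω) with hF
    set r : Quotient (orbitRel (Subgroup.zpowers u) (G ⧸ (P : Subgroup G))) → ℕ :=
      fun q => Function.minimalPeriod (u • ·) q.out with hr
    have hsum : S ω = ∑ q ∈ F, r q := by
      simp only [hS]
      rw [Finset.card_eq_sum_card_fiberwise (t := F) (f := fun x => (⟦x⟧ : Quotient (orbitRel (Subgroup.zpowers u) _)))]
      · refine Finset.sum_congr rfl fun q hq => ?_
        simp only [hr]
        rw [MulAction.minimalPeriod_eq_card, ← Set.toFinset_card]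
        congr 1
        ext x
        simp only [Finset.mem_filter, Finset.mem_univ, true_and, Set.mem_toFinset]
        constructor
        · rintro ⟨-, h⟩
          exact Quotient.exact (h.trans q.out_eq.symm)
        · intro h
          refine ⟨?_, (Quotient.sound h).trans q.out_eq⟩
          have hq' : π q = ω := (Finset.mem_filter.1 hq).2
          rw [← hq', hπ]
          obtain ⟨⟨g, hg⟩, hgx⟩ := h
          exact Quotient.sound ⟨⟨g, Subgroup.zpowers_le.2 huP hg⟩, hgx⟩
      · intro x hx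
        rw [Finset.mem_coe, Finset.mem_filter] at hx ⊢
        refine ⟨Finset.mem_univ _, ?_⟩
        rw [← hx.2, hπ]
        obtain ⟨⟨g, hg⟩, hgx⟩ := Quotient.exact (Quotient.out_eq (⟦x⟧ : Quotient (orbitRel (Subgroup.zpowers u) (G ⧸ (P : Subgroup G)))))
        exact Quotient.sound ⟨⟨g, Subgroup.zpowers_le.2 huP hg⟩, hgx⟩
    have hne : F.Nonempty := by
      by_contra h
      rw [Finset.not_nonempty_iff_eq_empty] at h
      obtain ⟨t, ht⟩ := hSpow ω
      rw [h, Finset.sum_empty, ht] at hsum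
      exact absurd hsum (pow_ne_zero _ hp.out.ne_zero)
    obtain ⟨q0, hq0, hmin⟩ := Finset.exists_min_image F r hne
    set g0 := q0.out.out with hg0
    have hrpow : ∀ q, ∃ j, r q = p ^ j := by
      intro q
      have h1 : r q ∣ p ^ k := by
        refine Function.IsPeriodicPt.minimalPeriod_dvd ?_
        rw [Function.IsPeriodicPt, Function.IsFixedPt, smul_iterate_apply, ← hk, pow_orderOf_eq_one, one_smul]
      obtain ⟨j, -, hj⟩ := (Nat.dvd_prime_pow hp.out).1 h1
      exact ⟨j, hj⟩
    have hdvd : ∀ q ∈ F, r q0 ∣ r q := by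
      intro q hq
      obtain ⟨i, hi⟩ := hrpow q0
      obtain ⟨j, hj⟩ := hrpow q
      have := hmin q hq
      rw [hi, hj] at this ⊢
      exact pow_dvd_pow p ((Nat.pow_le_pow_iff_right hp.out.one_lt).1 this)
    have haP : g0⁻¹ * u ^ r q0 * g0 ∈ (P : Subgroup G) :=
      QuotientGroup.out_conj_pow_minimalPeriod_mem (P : Subgroup G) u q0.out
    set a : P := ⟨_, haP⟩ with ha
    have hterm : ∀ q ∈ F, φ ⟨q.out.out⁻¹ * u ^ Function.minimalPeriod (u • ·) q.out * q.out.out,
        QuotientGroup.out_conj_pow_minimalPeriod_mem (P : Subgroup G) u q.out⟩ = φ a ^ (r q / r q0) := by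
      intro q hq
      have hqq : π q = π q0 := by rw [(Finset.mem_filter.1 hq).2, (Finset.mem_filter.1 hq0).2]
      obtain ⟨⟨v, hv⟩, hvq⟩ := Quotient.exact hqq
      have hvq' : q.out = ((v * g0 : G) : G ⧸ (P : Subgroup G)) := by
        rw [← hvq, hg0]
        conv_lhs => rw [← QuotientGroup.out_eq' q0.out]
        rfl
      obtain ⟨w, hw⟩ : ∃ w : P, q.out.out = v * g0 * w := by
        refine ⟨⟨(v * g0)⁻¹ * q.out.out, QuotientGroup.eq.1 ?_⟩, by group⟩
        rw [QuotientGroup.out_eq', hvq']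
      set j := r q / r q0
      have hj : r q = r q0 * j := (Nat.mul_div_cancel' (hdvd q hq)).symm
      have hy : g0⁻¹ * v⁻¹ * u ^ r q * v * g0 ∈ (P : Subgroup G) := by
        have h1 := QuotientGroup.out_conj_pow_minimalPeriod_mem (P : Subgroup G) u q.out
        rw [hw] at h1
        have h2 := mul_mem (mul_mem w.2 h1) (inv_mem w.2)
        convert h2 using 1
        · simp only [hr]
          group
          rfl
      have e1 : φ ⟨q.out.out⁻¹ * u ^ Function.minimalPeriod (u • ·) q.out * q.out.out,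
          QuotientGroup.out_conj_pow_minimalPeriod_mem (P : Subgroup G) u q.out⟩ = φ ⟨_, hy⟩ := by
        have : (⟨q.out.out⁻¹ * u ^ Function.minimalPeriod (u • ·) q.out * q.out.out,
          QuotientGroup.out_conj_pow_minimalPeriod_mem (P : Subgroup G) u q.out⟩ : P) = w⁻¹ * ⟨_, hy⟩ * w := by
          refine Subtype.ext ?_
          show _ = (w : G)⁻¹ * (g0⁻¹ * v⁻¹ * u ^ r q * v * g0) * (w : G)
          simp only [hw, hr]
          group
        rw [this, map_mul, map_mul, map_inv, mul_comm, ← mul_assoc, mul_inv_cancel, one_mul]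
      rw [e1, ← map_pow]
      refine hcong _ _ ?_
      have he : ((a ^ j : P) : G) = g0⁻¹ * u ^ r q * g0 := by
        rw [Subgroup.coe_pow, ha, hj, pow_mul]
        show (g0⁻¹ * u ^ r q0 * g0) ^ j = _
        rw [show g0⁻¹ * u ^ r q0 * g0 = g0⁻¹ * u ^ r q0 * g0⁻¹⁻¹ by rw [inv_inv], conj_pow, inv_inv]
      refine hD g0⁻¹ _ (mul_mem (inv_mem (a ^ j).2) hy) ?_
      have hc := Subgroup.commutator_mem_commutator (inv_mem (pow_mem huP (r q) : u ^ r q ∈ (P : Subgroup G)))
        (inv_mem hv : v⁻¹ ∈ (P : Subgroup G))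
      convert hc using 1
      rw [he, commutatorElement_def]
      group
    rw [Finset.prod_congr rfl hterm, Finset.prod_pow_eq_pow_sum, ← Nat.sum_div hdvd, ← hsum, ← map_pow]
    have hr0S : r q0 ∣ S ω := hsum ▸ Finset.dvd_sum hdvd
    have he : ((a ^ (S ω / r q0) : P) : G) = g0⁻¹ * u ^ S ω * g0 := by
      conv_rhs => rw [← Nat.mul_div_cancel' hr0S, pow_mul]
      rw [Subgroup.coe_pow, ha]
      show (g0⁻¹ * u ^ r q0 * g0) ^ _ = _
      rw [show g0⁻¹ * u ^ r q0 * g0 = g0⁻¹ * u ^ r q0 * g0⁻¹⁻¹ by rw [inv_inv], conj_pow, inv_inv]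
    have hbG : ((a ^ (S ω / r q0) : P) : G) ∈ commutator G := by
      rw [he]
      have := Subgroup.Normal.conj_mem (inferInstanceAs (commutator G).Normal) _ (pow_mem huG (S ω)) g0⁻¹
      simpa using this
    split_ifs with hS1
    · refine hcong _ _ ?_
      have hfix : g0 ∈ Subgroup.normalizer ((P : Subgroup G) : Set G) := by
        have hmem : ∀ v ∈ (P : Subgroup G), g0⁻¹ * v * g0 ∈ (P : Subgroup G) := by
          intro v hv
          have h1 : ∀ x y : G ⧸ (P : Subgroup G), (⟦x⟧ : Quotient (orbitRel P _)) = ω →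
              (⟦y⟧ : Quotient (orbitRel P _)) = ω → x = y := fun x y hx hy =>
            Finset.card_le_one.1 hS1.le x (by simp [hx]) y (by simp [hy])
          have hq : (⟦q0.out⟧ : Quotient (orbitRel P _)) = ω := (Finset.mem_filter.1 hq0).2
          have hq' : (⟦(⟨v, hv⟩ : P) • q0.out⟧ : Quotient (orbitRel P _)) = ω :=
            (Quotient.sound (s := orbitRel P _) ⟨⟨v, hv⟩, rfl⟩).trans hq
          have h2 := h1 _ _ hq hq'
          rw [← QuotientGroup.out_eq' q0.out, ← hg0, Subgroup.smul_def, MulAction.Quotient.smul_coe] at h2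
          have h3 := QuotientGroup.eq.1 h2
          simpa [mul_assoc] using h3
        have hle : (P : Subgroup G).map (MulAut.conj g0⁻¹).toMonoidHom ≤ (P : Subgroup G) := by
          rintro _ ⟨v, hv, rfl⟩
          simpa using hmem v hv
        have heq := Subgroup.eq_of_le_of_card_ge hle
          (by rw [Subgroup.card_map_of_injective (MulAut.conj g0⁻¹).injective])
        rw [← inv_inv g0]
        refine inv_mem (Subgroup.mem_normalizer_iff.2 fun v => ⟨fun hv => ?_, fun hv => ?_⟩)
        · simpa using hmem v hv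
        · obtain ⟨w, hw, hwv⟩ := heq.ge hv
          have : w = v := by simpa [mul_assoc] using hwv
          exact this ▸ hw
      refine hN (Subgroup.mem_inf.2 ⟨mul_mem (inv_mem huP) (a ^ (S ω / r q0)).2, ?_⟩)
      have hc := Subgroup.commutator_mem_commutator
        (inv_mem (Subgroup.le_normalizer huP) : u⁻¹ ∈ Subgroup.normalizer ((P : Subgroup G) : Set G)) (inv_mem hfix)
      convert hc using 1
      rw [he, hS1, pow_one, commutatorElement_def]
      group
    · refine hone _ (IH _ ?_ _ rfl (a ^ (S ω / r q0)).2 hbG)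
      obtain ⟨t, ht⟩ := hSpow ω
      have ht0 : t ≠ 0 := fun h => hS1 (by rw [ht, h, pow_zero])
      have hk0 : k ≠ 0 := fun h => hu1 (orderOf_eq_one_iff.1 (by rw [hk, h, pow_zero]))
      rw [he, show g0⁻¹ * u ^ S ω * g0 = MulAut.conj g0⁻¹ (u ^ S ω) by simp, MulEquiv.orderOf_eq,
        orderOf_pow, ← hun, hk, ht]
      refine Nat.div_lt_self (pow_pos hp.out.pos _) (lt_of_lt_of_le hp.out.one_lt ?_)
      exact Nat.le_of_dvd (Nat.gcd_pos_of_pos_left _ (pow_pos hp.out.pos _))
        (Nat.dvd_gcd (dvd_pow_self p hk0) (dvd_pow_self p ht0))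
  rw [Finset.prod_congr rfl (fun ω _ => hfib ω), Finset.prod_ite, Finset.prod_const_one, mul_one,
    Finset.prod_const] at h0
  set N := (Finset.univ.filter fun ω => S ω = 1).card
  have htot : ∑ ω, S ω = (P : Subgroup G).index := by
    rw [Subgroup.index_eq_card, Nat.card_eq_fintype_card, ← Finset.card_univ,
      Finset.card_eq_sum_card_fiberwise (t := Finset.univ)
        (f := fun x : G ⧸ (P : Subgroup G) => (⟦x⟧ : Quotient (orbitRel P _))) (fun x _ => Finset.mem_coe.2 (Finset.mem_univ _))]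
  have hN' : ¬ p ∣ N := by
    intro h
    refine P.not_dvd_index ?_
    rw [← htot, ← Finset.sum_filter_add_sum_filter_not Finset.univ (fun ω => S ω = 1)]
    refine Nat.dvd_add ?_ (Finset.dvd_sum fun ω hω => ?_)
    · rw [Finset.sum_congr rfl (fun ω hω => (Finset.mem_filter.1 hω).2), Finset.sum_const, smul_eq_mul, mul_one]
      exact h
    · obtain ⟨t, ht⟩ := hSpow ω
      rw [ht]
      exact dvd_pow_self p fun h0 => (Finset.mem_filter.1 hω).2 (by rw [ht, h0, pow_zero])
  have hpk : φ ⟨u, huP⟩ ^ p ^ k = 1 := by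
    rw [← map_pow, ← hk]
    convert map_one φ
    exact Subtype.ext (pow_orderOf_eq_one u)
  have := pow_gcd_eq_one.2 ⟨hpk, h0.symm⟩
  rwa [((hp.out.coprime_iff_not_dvd.2 hN').pow_left k).gcd_eq_one, pow_one] at this


/-- Grün's first Theorem: if `P` is a Sylow `p`-subgroup of the finite group `G`, then `P ∩ G'` is the subgroup generated by `P ∩ N_G(P)'` together with the subgroups `P ∩ z P' z⁻¹` for all `z ∈ G`, where `'` denotes the derived subgroup and `N_G(P)` the normalizer of `P`. -/
theorem result {G : Type*} [Group G] [Finite G] {p : ℕ} [Fact p.Prime] (P : Sylow p G) : (P : Subgroup G) ⊓ commutator G = ((P : Subgroup G) ⊓ ⁅Subgroup.normalizer ((P : Subgroup G) : Set G), Subgroup.normalizer ((P : Subgroup G) : Set G)⁆) ⊔ ⨆ z : G, (P : Subgroup G) ⊓ (⁅(P : Subgroup G), (P : Subgroup G)⁆).map (MulAut.conj z).toMonoidHom := by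
  refine le_antisymm (fun u hu => mem_R P _ ?_ le_sup_left u hu.1 hu.2) ?_
  · intro z g hg hz
    exact Subgroup.mem_sup_right (Subgroup.mem_iSup_of_mem z ⟨hg, z⁻¹ * g * z, hz, by simp [mul_assoc]⟩)
  · refine sup_le (inf_le_inf_left _ (Subgroup.commutator_mono le_top le_top)) (iSup_le fun z => ?_)
    refine inf_le_inf_left _ ?_
    rintro _ ⟨w, hw, rfl⟩
    exact Subgroup.Normal.conj_mem (inferInstanceAs (commutator G).Normal) w
      ((Subgroup.commutator_mono le_top le_top) hw) z

end Cfsg.Agent.S4216
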