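import Cfsg.Statements.S4217
import Mathlib

set_option autoImplicit false
open Cfsg

namespace Cfsg.Agent.S4217


open scoped Pointwise

theorem corestrict {G : Type*} [Group G] [Finite G] {M : Type*} [CommGroup M] (ρ : G → M →* M)
    (hρ : ∀ g h m, ρ (g * h) m = ρ g (ρ h m)) (T : Subgroup G) (D : T → M)
    (hD : ∀ s t : T, D (s * t) = D s * ρ s (D t)) :
    ∃ E : G → M, (∀ x y, E (x * y) = E x * ρ x (E y)) ∧
      ∀ a : G, (∀ c, c⁻¹ * a * c ∈ T) → ∀ v : M,
        (∀ c (h : c⁻¹ * a * c ∈ T), ρ c (D ⟨c⁻¹ * a * c, h⟩) = v) → E a = v ^ T.index := by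
  classical
  haveI : Fintype (G ⧸ T) := Fintype.ofFinite _
  have hm : ∀ (x : G) (t : G ⧸ T), (x • t).out⁻¹ * (x * t.out) ∈ T := by
    intro x t
    rw [← QuotientGroup.eq, QuotientGroup.out_eq']
    conv_lhs => rw [← QuotientGroup.out_eq' t]
    rfl
  let F : G → (G ⧸ T) → M := fun x t => ρ (x • t).out (D ⟨_, hm x t⟩)
  refine ⟨fun x => ∏ t, F x t, fun x y => ?_, fun a ha v hv => ?_⟩
  · have h1 : ∀ t, F (x * y) t = F x (y • t) * ρ x (F y t) := by
      intro t
      have e : (⟨_, hm (x * y) t⟩ : T) = ⟨_, hm x (y • t)⟩ * ⟨_, hm y t⟩ := by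
        apply Subtype.ext
        simp only [Subgroup.coe_mul, mul_smul]
        group
      show ρ ((x * y) • t).out (D ⟨_, hm (x * y) t⟩) = _
      rw [e, hD, map_mul, ← hρ, ← hρ]
      simp only [F, mul_smul]
      rw [show (x • y • t).out * ((x • y • t).out⁻¹ * (x * (y • t).out)) = x * (y • t).out by group]
    show ∏ t, F (x * y) t = (∏ t, F x t) * ρ x (∏ t, F y t)
    rw [Finset.prod_congr rfl (fun t _ => h1 t), Finset.prod_mul_distrib, map_prod]
    congr 1
    exact Equiv.prod_comp (MulAction.toPerm y) (F x)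
  · have h1 : ∀ t, F a t = v := by
      intro t
      have e : a • t = t := by
        conv_lhs => rw [← QuotientGroup.out_eq' t]
        conv_rhs => rw [← QuotientGroup.out_eq' t]
        refine QuotientGroup.eq.2 ?_
        have := T.inv_mem (ha t.out)
        rwa [show (t.out⁻¹ * a * t.out)⁻¹ = (a * t.out)⁻¹ * t.out by group] at this
      have key : ∀ (u : G ⧸ T) (h : u.out⁻¹ * (a * t.out) ∈ T), u = t → ρ u.out (D ⟨_, h⟩) = v := by
        rintro u h rfl
        have h' : u.out⁻¹ * a * u.out ∈ T := ha _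
        rw [show (⟨_, h⟩ : T) = ⟨_, h'⟩ from Subtype.ext (mul_assoc _ _ _).symm]
        exact hv _ h'
      exact key _ (hm a t) e
    show ∏ t, F a t = v ^ T.index
    rw [Finset.prod_congr rfl (fun t _ => h1 t), Finset.prod_const, Finset.card_univ, Subgroup.index_eq_card,
      Nat.card_eq_fintype_card]


/-- Let `A` be an abelian normal subgroup of the finite group `G`. Then `A` has a complement in `G` if and only if, for every prime `p` dividing the index of `A`, there are a Sylow `p`-subgroup `S` of `G/A` and a subgroup `K` of `G` with `K ∩ A = 1` and `KA` equal to the preimage of `S` (that is, `A` has a complement in the preimage of a Sylow `p`-subgroup of `G/A`). -/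
theorem result {G : Type*} [Group G] [Finite G] (A : Subgroup G) [A.Normal] (hA : IsMulCommutative A) : (∃ K : Subgroup G, K.IsComplement' A) ↔ ∀ p : ℕ, p.Prime → p ∣ A.index → ∃ (S : Sylow p (G ⧸ A)) (K : Subgroup G), K ⊓ A = ⊥ ∧ K ⊔ A = (S : Subgroup (G ⧸ A)).comap (QuotientGroup.mk' A) := by
  classical
  constructor
  · rintro ⟨K, hK⟩ p hp hpi
    haveI : Fact p.Prime := ⟨hp⟩
    obtain ⟨S⟩ := (inferInstance : Nonempty (Sylow p (G ⧸ A)))
    set T := (S : Subgroup (G ⧸ A)).comap (QuotientGroup.mk' A) with hT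
    have hAT : A ≤ T := fun a ha => by
      show QuotientGroup.mk' A a ∈ S
      rw [show QuotientGroup.mk' A a = 1 from (QuotientGroup.eq_one_iff a).2 ha]
      exact one_mem _
    refine ⟨S, K ⊓ T, ?_, ?_⟩
    · refine le_bot_iff.1 fun g hg => ?_
      exact Subgroup.disjoint_def.1 hK.disjoint hg.1.1 hg.2
    · refine le_antisymm (sup_le inf_le_right hAT) fun g hg => ?_
      obtain ⟨⟨⟨k, hk⟩, ⟨a, ha⟩⟩, hka⟩ := hK.2 g
      have hka' : k * a = g := hka
      refine hka' ▸ Subgroup.mul_mem _ (Subgroup.mem_sup_left ⟨hk, ?_⟩) (Subgroup.mem_sup_right ha)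
      have := T.mul_mem hg (T.inv_mem (hAT ha))
      rwa [← hka', mul_inv_cancel_right] at this
  · intro h
    letI : CommGroup A := { (inferInstance : Group A) with mul_comm := hA.is_comm.comm }
    let ρ : G → A →* A := fun g => (MulAut.conjNormal (H := A) g).toMonoidHom
    have hρ : ∀ g k m, ρ (g * k) m = ρ g (ρ k m) := fun g k m => by
      show MulAut.conjNormal (g * k) m = _
      rw [map_mul]; rfl
    have hval : ∀ g (m : A), ((ρ g m : A) : G) = g * m * g⁻¹ := fun g m => MulAut.conjNormal_apply g m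
    let IsDer : (G → A) → ℕ → Prop := fun D m =>
      (∀ x y, D (x * y) = D x * ρ x (D y)) ∧ ∀ a : A, D a = a ^ m
    have hcomb : ∀ D₁ D₂ m₁ m₂, IsDer D₁ m₁ → IsDer D₂ m₂ → ∀ (u v : ℤ),
        (∀ x y, (D₁ (x * y)) ^ u * (D₂ (x * y)) ^ v = (D₁ x) ^ u * (D₂ x) ^ v * ρ x ((D₁ y) ^ u * (D₂ y) ^ v)) := by
      intro D₁ D₂ m₁ m₂ h1 h2 u v x y
      rw [h1.1, h2.1, mul_zpow, mul_zpow, map_mul, map_zpow, map_zpow]
      exact mul_mul_mul_comm _ _ _ _
    -- gcd of all achieved exponents
    have hex : ∀ p : ℕ, p.Prime → p ∣ A.index → ∃ D m, IsDer D m ∧ ¬ p ∣ m := by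
      intro p hp hpi
      haveI : Fact p.Prime := ⟨hp⟩
      obtain ⟨S, K, hKA, hKT⟩ := h p hp hpi
      set T := (S : Subgroup (G ⧸ A)).comap (QuotientGroup.mk' A) with hT
      have hAT : A ≤ T := hKT ▸ le_sup_right
      have hdec : ∀ t : T, ∃ a : A, ∃ k ∈ K, (t : G) = a * k := by
        intro t
        have : (t : G) ∈ ((A ⊔ K : Subgroup G) : Set G) := by rw [sup_comm, hKT]; exact t.2
        rw [Subgroup.normal_mul] at this
        obtain ⟨a, ha, k, hk, e⟩ := Set.mem_mul.1 this
        exact ⟨⟨a, ha⟩, k, hk, e.symm⟩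
      choose D k hk htk using hdec
      have huniq : ∀ (a b : A) (k l : G), k ∈ K → l ∈ K → (a : G) * k = b * l → a = b := by
        intro a b k l hk hl e
        have h1 : (b : G)⁻¹ * a = l * k⁻¹ := by
          rw [eq_mul_inv_iff_mul_eq, mul_assoc, e, inv_mul_cancel_left]
        have : (b : G)⁻¹ * a ∈ K ⊓ A := ⟨h1 ▸ K.mul_mem hl (K.inv_mem hk), A.mul_mem (A.inv_mem b.2) a.2⟩
        rw [hKA, Subgroup.mem_bot, inv_mul_eq_one] at this
        exact Subtype.ext this.symm
      obtain ⟨E, hE1, hE2⟩ := corestrict ρ hρ T D (fun s t => by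
        refine huniq _ _ (k (s * t)) (k s * k t) (hk _) (K.mul_mem (hk s) (hk t)) ?_
        rw [← htk, Subgroup.coe_mul, Subgroup.coe_mul, hval, htk s, htk t]
        have : (D s : G) * k s * D t * ((D s : G) * k s)⁻¹ = k s * D t * (k s)⁻¹ := by
          have hc : (D s : G) * (k s * D t * (k s)⁻¹) = (k s * D t * (k s)⁻¹) * D s :=
            congrArg Subtype.val (hA.is_comm.comm (D s) ⟨_, Subgroup.Normal.conj_mem inferInstance _ (D t).2 (k s)⟩)
          calc (D s : G) * k s * D t * ((D s : G) * k s)⁻¹ = (D s : G) * (k s * D t * (k s)⁻¹) * (D s : G)⁻¹ := by group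
            _ = _ := by rw [hc]; group
        rw [this]; group)
      refine ⟨E, T.index, ⟨hE1, fun a => hE2 a (fun c => hAT (by
        simpa using Subgroup.Normal.conj_mem (inferInstance : A.Normal) _ a.2 c⁻¹)) a fun c hc => ?_⟩, ?_⟩
      · apply Subtype.ext
        rw [hval]
        have e : D ⟨c⁻¹ * a * c, hc⟩ = ⟨c⁻¹ * a * c, by
            simpa using Subgroup.Normal.conj_mem (inferInstance : A.Normal) _ a.2 c⁻¹⟩ := by
          refine huniq _ _ (k ⟨c⁻¹ * a * c, hc⟩) 1 (hk _) K.one_mem ?_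
          rw [← htk, mul_one]
        rw [e]; group
      · rw [hT, Subgroup.index_comap_of_surjective _ (QuotientGroup.mk'_surjective A)]
        exact S.not_dvd_index
    by_cases hA1 : A.index = 1
    · exact ⟨⊥, Subgroup.index_eq_one.1 hA1 ▸ Subgroup.isComplement'_bot_top⟩
    have hgood : ∃ D m, IsDer D m ∧ 0 < m := by
      obtain ⟨p, hp, hpi⟩ := Nat.exists_prime_and_dvd hA1
      obtain ⟨D, m, hD, hm⟩ := hex p hp hpi
      exact ⟨D, m, hD, Nat.pos_of_ne_zero fun e => hm (e ▸ dvd_zero p)⟩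
    -- reduce the exponent
    have hred : ∀ D₁ D₂ m₁ m₂, IsDer D₁ m₁ → IsDer D₂ m₂ → ∃ D, IsDer D (Nat.gcd m₁ m₂) := by
      intro D₁ D₂ m₁ m₂ h1 h2
      refine ⟨fun x => D₁ x ^ Nat.gcdA m₁ m₂ * D₂ x ^ Nat.gcdB m₁ m₂, hcomb D₁ D₂ m₁ m₂ h1 h2 _ _, fun a => ?_⟩
      show D₁ (a : G) ^ Nat.gcdA m₁ m₂ * D₂ (a : G) ^ Nat.gcdB m₁ m₂ = _
      rw [h1.2, h2.2, ← zpow_natCast a m₁, ← zpow_natCast a m₂, ← zpow_mul, ← zpow_mul, ← zpow_add,
        ← Nat.gcd_eq_gcd_ab, zpow_natCast]
    have htriv : ∀ q : ℕ, IsDer (fun _ => 1) (Nat.card A * q) := fun q =>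
      ⟨fun x y => by simp, fun a => by rw [pow_mul, pow_card_eq_one', one_pow]⟩
    -- the index itself
    have hidx : ∃ D, IsDer D A.index := by
      obtain ⟨E, hE1, hE2⟩ := corestrict ρ hρ A (fun a => a) (fun s t => by
        have : ρ (s : G) t = t := Subtype.ext (by
          rw [hval, show (s : G) * t = t * s from congrArg Subtype.val (hA.is_comm.comm s t), mul_inv_cancel_right])
        rw [this])
      refine ⟨E, hE1, fun a => hE2 a (fun c => by
        simpa using Subgroup.Normal.conj_mem (inferInstance : A.Normal) _ a.2 c⁻¹) a fun c hc => ?_⟩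
      apply Subtype.ext
      rw [hval]
      show c * (c⁻¹ * a * c) * c⁻¹ = _
      group
    obtain ⟨D0, hD0⟩ := hidx
    -- find exponent one
    have hone : ∀ n : ℕ, ∀ m, m ≤ n → 0 < m → m ∣ A.index → (∃ D, IsDer D m) → ∃ D, IsDer D 1 := by
      intro n
      induction n with
      | zero => intro m h1 h2; omega
      | succ n ih =>
        intro m hmn hm0 hmi hD
        by_cases hm1 : m = 1
        · exact hm1 ▸ hD
        obtain ⟨p, hp, hpm⟩ := Nat.exists_prime_and_dvd hm1
        obtain ⟨D', m', hD', hm'⟩ := hex p hp (hpm.trans hmi)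
        obtain ⟨D, hD⟩ := hD
        have hlt : Nat.gcd m m' < m := by
          refine lt_of_le_of_ne (Nat.gcd_le_left _ hm0) fun e => hm' (hpm.trans ?_)
          rw [← e]; exact Nat.gcd_dvd_right _ _
        exact ih _ (by omega) (Nat.gcd_pos_of_pos_left _ hm0) ((Nat.gcd_dvd_left _ _).trans hmi)
          (hred D D' m m' hD hD')
    obtain ⟨D, hD⟩ := hone A.index A.index le_rfl (Nat.pos_of_ne_zero Subgroup.index_ne_zero_of_finite) dvd_rfl ⟨D0, hD0⟩
    have hD1 : D 1 = 1 := by simpa using hD.2 1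
    let K : Subgroup G :=
      { carrier := {x | D x = 1}
        one_mem' := hD1
        mul_mem' := fun {x y} hx hy => by
          show D (x * y) = 1
          rw [hD.1, show D x = 1 from hx, show D y = 1 from hy, map_one, mul_one]
        inv_mem' := fun {x} hx => by
          show D x⁻¹ = 1
          have := hD.1 x x⁻¹
          rw [mul_inv_cancel, hD1, show D x = 1 from hx, one_mul] at this
          have h2 := congrArg (ρ x⁻¹) this
          rw [map_one, ← hρ, inv_mul_cancel] at h2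
          rw [h2]
          exact Subtype.ext (by rw [hval]; group) }
    refine ⟨K, (Subgroup.isComplement'_of_disjoint_and_mul_eq_univ ?_ (Set.eq_univ_of_forall fun x => ?_))⟩
    · refine Subgroup.disjoint_def.2 fun {g} hg hgA => ?_
      have : D g = 1 := hg
      have e := hD.2 ⟨g, hgA⟩
      rw [pow_one] at e
      exact congrArg Subtype.val (e.symm.trans this)
    · rw [← Subgroup.mul_normal, SetLike.mem_coe, sup_comm, ← SetLike.mem_coe, Subgroup.normal_mul]
      refine Set.mem_mul.2 ⟨(D x : G), (D x).2, (D x : G)⁻¹ * x, ?_, by group⟩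
      show D ((D x : G)⁻¹ * x) = 1
      have e := hD.2 (D x)⁻¹
      rw [pow_one] at e
      rw [← Subgroup.coe_inv, hD.1, e, show ρ (((D x)⁻¹ : A) : G) (D x) = D x from Subtype.ext (by
        rw [hval]
        push_cast
        group), inv_mul_cancel]

end Cfsg.Agent.S4217
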