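import Cfsg.Statements.S4218
import Cfsg.Agent.Lib.Char.OneBlock
import Cfsg.Agent.Lib.Solv.HallHigman
import Cfsg.Agent.Lib.Fusion.PConstrained

set_option autoImplicit false
open Cfsg
open scoped commutatorElement

namespace Cfsg.Agent.S4218

section Aux

variable {G : Type*} [Group G]

theorem map_frattini_equiv {H : Type*} [Group H] (e : G ≃* H) {x : G} :
    e x ∈ frattini H ↔ x ∈ frattini G := by
  refine ⟨fun h => ?_, fun h => frattini_le_comap_frattini_of_surjective (φ := e.toMonoidHom) e.surjective h⟩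
  have := frattini_le_comap_frattini_of_surjective (φ := e.symm.toMonoidHom) e.symm.surjective h
  simpa using this

variable [Finite G] {p : ℕ} [hp : Fact p.Prime]

theorem acts_trivially_mem (hG : Cfsg.IsPSolvable p G) (h0 : Cfsg.pPrimeCore p G = ⊥) (g : G)
    (hg : ∀ x ∈ Cfsg.pCore p G,
      ⁅g, x⁆ ∈ (frattini ↥(Cfsg.pCore p G)).map (Cfsg.pCore p G).subtype) :
    g ∈ Cfsg.pCore p G := by
  set V := Cfsg.pCore p G with hV
  set Φ := (frattini ↥V).map V.subtype with hΦ
  haveI hVn : V.Normal := Solv.pCore_normal p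
  haveI : Φ.Normal := by
    rw [hΦ]; exact ConjAct.normal_of_characteristic_of_normal
  have hconj : ∀ y x : G, x ∈ V → y * x * y⁻¹ ∈ V := fun y x hx => hVn.conj_mem x hx y
  let K : Subgroup G :=
    { carrier := {a | ∀ x ∈ V, ⁅a, x⁆ ∈ Φ}
      one_mem' := fun x _ => by simp
      mul_mem' := fun {a b} ha hb x hx => by
        have h1 := mul_mem ((inferInstance : Φ.Normal).conj_mem _ (hb x hx) a) (ha x hx)
        simpa [commutatorElement_def, mul_assoc] using h1
      inv_mem' := fun {a} ha x hx => by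
        have h1 := (inferInstance : Φ.Normal).conj_mem _ (inv_mem (ha x hx)) a⁻¹
        simpa [commutatorElement_def, mul_assoc] using h1 }
  haveI : K.Normal := ⟨fun a ha y x hx => by
    have h1 := (inferInstance : Φ.Normal).conj_mem _ (ha (y⁻¹ * x * y) (by
      simpa using hconj y⁻¹ x hx)) y
    simpa [commutatorElement_def, mul_assoc] using h1⟩
  have hC := Char.centralizer_pCore_le_of_pSolvable hG h0
  have hK : IsPGroup p K := by
    intro a
    suffices h : ∀ q : ℕ, q.Prime → q ∣ Nat.card K → q = p by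
      have hc := Nat.eq_prime_pow_of_unique_prime_dvd Nat.card_pos.ne' (fun {d} => h d)
      exact ⟨_, by rw [← hc]; exact pow_card_eq_one'⟩
    intro q hq hd
    by_contra hne
    haveI := Fact.mk hq
    obtain ⟨b, hb⟩ := exists_prime_orderOf_dvd_card' q hd
    have hbo : orderOf (b : G) = q := by rw [Subgroup.orderOf_coe, hb]
    have hco : (orderOf (b : G)).Coprime p := hbo ▸ (Nat.coprime_primes hq hp.out).2 hne
    have hbC := Solv.centralizes_of_frattini V (Fusion.isPGroup_pCore p G) (b : G)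
      (by rw [Subgroup.normalizer_eq_top]; trivial) hco (fun x hx => by
        rw [← commutatorElement_inv]
        exact inv_mem (b.2 x hx))
    obtain ⟨k, hk⟩ := Fusion.isPGroup_pCore p G ⟨(b : G), hC hbC⟩
    have hk' : (b : G) ^ p ^ k = 1 := by simpa using congrArg Subtype.val hk
    have := Nat.eq_one_of_dvd_coprimes (hco.pow_right k) dvd_rfl (orderOf_dvd_of_pow_eq_one hk')
    exact hq.ne_one (hbo ▸ this)
  exact Fusion.le_pCore hK (show g ∈ K from hg)

end Aux

/-- Let `G` be a finite `p`-solvable group, `N₀ = O_{p'}(G)`, `P₁ = O_{p',p}(G)`, and let `F ≤ P₁` be the preimage of the Frattini subgroup of `P₁/N₀`. Then an element `g` of `G` induces the identity on `P₁/F` by conjugation (that is, `g x g⁻¹ x⁻¹ ∈ F` for all `x ∈ P₁`) if and only if `g ∈ P₁`: the group `G/P₁` acts faithfully on `P₁/F`. -/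
theorem result {G : Type*} [Group G] [Finite G] {p : ℕ} [Fact p.Prime] (hG : Cfsg.IsPSolvable p G) (g : G) : (∀ x ∈ Cfsg.pPrimePCore p G, g * x * g⁻¹ * x⁻¹ ∈ ((frattini (↥(Cfsg.pPrimePCore p G) ⧸ (Cfsg.pPrimeCore p G).subgroupOf (Cfsg.pPrimePCore p G))).comap (QuotientGroup.mk' ((Cfsg.pPrimeCore p G).subgroupOf (Cfsg.pPrimePCore p G)))).map (Cfsg.pPrimePCore p G).subtype) ↔ g ∈ Cfsg.pPrimePCore p G := by
  set N := Cfsg.pPrimeCore p G
  set P1 := Cfsg.pPrimePCore p G with hP1
  set π := QuotientGroup.mk' N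
  set V := Cfsg.pCore p (G ⧸ N)
  have hmem : ∀ y : G, y ∈ P1 ↔ π y ∈ V := fun y => Iff.rfl
  let φ : ↥P1 →* ↥V := (π.comp P1.subtype).codRestrict V fun y => (hmem y).1 y.2
  have hφ : Function.Surjective φ := by
    rintro ⟨v, hv⟩
    obtain ⟨y, rfl⟩ := QuotientGroup.mk'_surjective N v
    exact ⟨⟨y, (hmem y).2 hv⟩, rfl⟩
  have hker : N.subgroupOf P1 = φ.ker := by
    ext y
    rw [Subgroup.mem_subgroupOf, MonoidHom.mem_ker, ← QuotientGroup.eq_one_iff (N := N)]
    constructor
    · exact fun h => Subtype.ext h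
    · exact fun h => congrArg Subtype.val h
  let e := (QuotientGroup.quotientMulEquivOfEq hker).trans
    (QuotientGroup.quotientKerEquivOfSurjective φ hφ)
  have hF : ∀ y : ↥P1, QuotientGroup.mk' (N.subgroupOf P1) y ∈ frattini (↥P1 ⧸ N.subgroupOf P1) ↔
      φ y ∈ frattini ↥V := fun y => (map_frattini_equiv e).symm
  constructor
  · intro h
    rw [hmem]
    refine acts_trivially_mem (Solv.isPSolvable_map (Fact.out) hG π (QuotientGroup.mk'_surjective N))
      Fusion.pPrimeCore_quotient_eq_bot (π g) ?_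
    intro v hv
    obtain ⟨x, rfl⟩ := QuotientGroup.mk'_surjective N v
    obtain ⟨y, hy, hye⟩ := h x ((hmem x).2 hv)
    refine ⟨φ y, (hF y).1 hy, ?_⟩
    show π (y : G) = _
    rw [show (y : G) = g * x * g⁻¹ * x⁻¹ from hye, commutatorElement_def, map_mul, map_mul, map_mul, map_inv, map_inv]
  · intro hg x hx
    refine ⟨⟨g, hg⟩ * ⟨x, hx⟩ * ⟨g, hg⟩⁻¹ * ⟨x, hx⟩⁻¹, (hF _).2 ?_, rfl⟩
    rw [map_mul, map_mul, map_mul, map_inv, map_inv, ← commutatorElement_def]
    exact Solv.commutatorElement_mem_frattini (Fusion.isPGroup_pCore p _) _ _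

end Cfsg.Agent.S4218
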