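import Cfsg.Statements.S4220
import Cfsg.Agent.Lib.Perm.KPPlusR
import Cfsg.Agent.Lib.Perm.Basic
import Cfsg.Agent.Lib.Perm.PrimeDegree
import Cfsg.Agent.S0711
import Cfsg.Agent.S0713

set_option autoImplicit false
open Cfsg
open Equiv Equiv.Perm
open scoped Pointwise

namespace Cfsg.Agent.S4220

open Cfsg.Agent.Perm.KPPlusR

variable {α : Type*} [Fintype α] [DecidableEq α]

/-- The pairs of permutations of R and its complement lying in G. -/
def pairs (G : Subgroup (Perm α)) (R : Finset α) :
    Subgroup (Perm {a // a ∈ R} × Perm {a // ¬a ∈ R}) :=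
  G.comap (subtypeCongrHom (fun a => a ∈ R))

omit [Fintype α] in
theorem exists_pair {G : Subgroup (Perm α)} {R : Finset α} {g : Perm α} (hg : g ∈ G)
    (h : ∀ a, g a ∈ R ↔ a ∈ R) :
    ∃ (π : Perm {a // a ∈ R}) (c : Perm {a // ¬a ∈ R}), (π, c) ∈ pairs G R ∧
      (∀ a, (π a : α) = g a) ∧ (∀ b, (c b : α) = g b) := by
  refine ⟨g.subtypePerm h, g.subtypePerm (fun a => not_congr (h a)), ?_, fun a => rfl, fun b => rfl⟩
  show subtypeCongrHom (fun a => a ∈ R) _ ∈ G
  convert hg using 1
  refine Equiv.ext fun x => ?_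
  show Perm.subtypeCongr _ _ x = g x
  by_cases hx : x ∈ R
  · rw [Perm.subtypeCongr.left_apply _ _ hx]; rfl
  · rw [Perm.subtypeCongr.right_apply _ _ hx]; rfl

omit [Fintype α] in
theorem pairs_left {R : Finset α} (π : Perm {a // a ∈ R}) (x : α) (hx : x ∉ R) :
    subtypeCongrHom (fun a => a ∈ R) (π, 1) x = x := by
  show Perm.subtypeCongr _ _ x = x
  rw [Perm.subtypeCongr.right_apply _ _ hx]
  rfl

omit [Fintype α] in
theorem pairs_right {R : Finset α} (c : Perm {a // ¬a ∈ R}) (x : α) (hx : x ∈ R) :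
    subtypeCongrHom (fun a => a ∈ R) (1, c) x = x := by
  show Perm.subtypeCongr _ _ x = x
  rw [Perm.subtypeCongr.left_apply _ _ hx]
  rfl

theorem pairs_surj {G : Subgroup (Perm α)} {R : Finset α} {r : ℕ} (hr : R.card = r)
    (h : MulAction.IsMultiplyPretransitive G α r) (π : Perm {a // a ∈ R}) : ∃ c, (π, c) ∈ pairs G R := by
  haveI := h
  let e := (Fintype.equivFinOfCardEq (show Fintype.card {a // a ∈ R} = r by rw [Fintype.card_coe, hr])).symm
  let x : Fin r ↪ α := e.toEmbedding.trans (Function.Embedding.subtype _)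
  let y : Fin r ↪ α := (e.trans π).toEmbedding.trans (Function.Embedding.subtype _)
  obtain ⟨g, hg⟩ := MulAction.exists_smul_eq G x y
  have hval : ∀ a : {a // a ∈ R}, (g : Perm α) a = (π a : α) := fun a => by
    have := congrArg (fun f : Fin r ↪ α => f (e.symm a)) hg
    simpa [x, y, Subgroup.smul_def] using this
  have hpres : ∀ a, (g : Perm α) a ∈ R ↔ a ∈ R := by
    intro a
    constructor
    · intro ha
      have h1 : (g : Perm α) (π.symm ⟨_, ha⟩ : {a // a ∈ R}) = (g : Perm α) a := by
        rw [hval, Equiv.apply_symm_apply]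
      rw [← (g : Perm α).injective h1]
      exact (π.symm ⟨_, ha⟩ : {a // a ∈ R}).2
    · intro ha
      rw [hval ⟨a, ha⟩]
      exact (π ⟨a, ha⟩).2
  obtain ⟨π', c, hmem, hπ', -⟩ := exists_pair g.2 hpres
  have : π' = π := Equiv.ext fun a => Subtype.ext ((hπ' a).trans (hval a))
  exact ⟨c, this ▸ hmem⟩

theorem pairs_trans {G : Subgroup (Perm α)} {R : Finset α} {r : ℕ} (hr : R.card + 1 = r)
    (h : MulAction.IsMultiplyPretransitive G α r) (u v : {a // ¬a ∈ R}) : ∃ c ∈ fixA (pairs G R), c u = v := by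
  obtain ⟨g, hfix, huv⟩ := Cfsg.Agent.Perm.exists_fixing_of_isMultiplyPretransitive h hr u.2 v.2
  have hpres : ∀ a, (g : Perm α) a ∈ R ↔ a ∈ R := fun a => by
    constructor
    · intro ha
      rw [← (g : Perm α).injective (hfix _ ha)]
      exact ha
    · intro ha
      have e : (g : Perm α) a = a := hfix a ha
      rw [e]; exact ha
  obtain ⟨π, c, hmem, hπ, hc⟩ := exists_pair g.2 hpres
  have : π = 1 := Equiv.ext fun a => Subtype.ext ((hπ a).trans (hfix a a.2))
  exact ⟨c, mem_fixA.2 (this ▸ hmem), Subtype.ext ((hc u).trans huv)⟩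

set_option synthInstance.maxSize 4000 in
theorem seven_facts : ∀ t : ℕ, t < 121 → 42 * t ∣ 5040 → ¬ 4 ∣ 42 * t → ¬ 9 ∣ 42 * t → ¬ 5 ∣ 42 * t → t = 1 := by
  decide +kernel

theorem sign_pairs {R : Finset α} (c : Perm {a // ¬a ∈ R}) :
    (subtypeCongrHom (fun a => a ∈ R) (1, c)).support.card = c.support.card := by
  refine (Finset.card_bij (s := c.support) (fun a _ => (a : α)) ?_ ?_ ?_).symm
  · intro a ha
    rw [mem_support] at ha ⊢
    show Perm.subtypeCongr _ _ (a : α) ≠ a
    rw [Perm.subtypeCongr.right_apply_subtype]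
    exact fun e => ha (Subtype.ext e)
  · intro a _ b _ e; exact Subtype.ext e
  · intro b hb
    rw [mem_support] at hb
    by_cases hbR : b ∈ R
    · exact (hb (pairs_right c b hbR)).elim
    · refine ⟨⟨b, hbR⟩, ?_, rfl⟩
      rw [mem_support]
      intro e
      apply hb
      show Perm.subtypeCongr _ _ b = b
      rw [Perm.subtypeCongr.right_apply _ _ hbR, e]

set_option maxHeartbeats 1000000 in
/-- A 4-transitive group of degree nine has a non-trivial element of small support. -/
theorem nine (h9 : Fintype.card α = 9) (G : Subgroup (Perm α)) (hG : MulAction.IsMultiplyPretransitive G α 4) :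
    ∃ g ∈ G, g ≠ 1 ∧ g.support.card < 6 := by
  haveI := hG
  classical
  by_contra hno
  push Not at hno
  have h3 : MulAction.IsMultiplyPretransitive G α 3 :=
    MulAction.isMultiplyPretransitive_of_le (n := 4) (by omega) (by rw [Nat.card_eq_fintype_card]; omega)
  have h2 : MulAction.IsMultiplyPretransitive G α 2 :=
    MulAction.isMultiplyPretransitive_of_le (n := 4) (by omega) (by rw [Nat.card_eq_fintype_card]; omega)
  obtain ⟨R, -, hR⟩ := Finset.exists_subset_card_eq (s := (Finset.univ : Finset α)) (n := 2)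
    (by rw [Finset.card_univ]; omega)
  set β := {a // ¬a ∈ R}
  have hβ : Fintype.card β = 7 := by
    rw [Fintype.card_subtype_compl, Fintype.card_coe, h9, hR]
  set G' := pairs G R with hG'
  set M := fixA G' with hM
  have hMno : ∀ c ∈ M, c ≠ 1 → 6 ≤ c.support.card := fun c hc hc1 => by
    have := hno _ (mem_fixA.1 hc) (fun e => hc1 (by
      have h' : ((1 : Perm {a // a ∈ R}), c) = 1 := subtypeCongrHom_injective (fun a => a ∈ R) (e.trans (map_one _).symm)
      exact congrArg Prod.snd h'))
    rwa [sign_pairs] at this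
  haveI htr : MulAction.IsPretransitive M β := ⟨fun u v => by
    obtain ⟨c, hc, e⟩ := pairs_trans (R := R) (by rw [hR]) h3 u v
    exact ⟨⟨c, hc⟩, e⟩⟩
  obtain ⟨u⟩ : Nonempty β := Fintype.card_pos_iff.1 (by omega)
  obtain ⟨v, hv⟩ := Fintype.exists_ne_of_one_lt_card (by omega) u
  have h42 : 42 ∣ Nat.card M := by
    have h1 := Subgroup.card_mul_index (MulAction.stabilizer M u)
    rw [MulAction.index_stabilizer_of_transitive M u, Nat.card_eq_fintype_card (α := β), hβ] at h1
    have horb : MulAction.orbit (MulAction.stabilizer M u) v = ({u}ᶜ : Set β) := by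
      ext w
      constructor
      · rintro ⟨g, rfl⟩ hwu
        have e : ((g : M) : Perm β) v = u := hwu
        have e' : ((g : M) : Perm β) u = u := g.2
        exact hv (((g : M) : Perm β).injective (e.trans e'.symm))
      · intro hw
        have hwu : (w : α) ≠ (u : α) := fun e => hw (Subtype.ext e)
        have hvu : (v : α) ≠ (u : α) := fun e => hv (Subtype.ext e)
        obtain ⟨g, hfix, hg⟩ := Cfsg.Agent.Perm.exists_fixing_of_isMultiplyPretransitive hG
          (T := insert (u : α) R) (by rw [Finset.card_insert_of_notMem u.2, hR])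
          (x := (v : α)) (y := (w : α)) (by simp [hvu, v.2]) (by simp [hwu, w.2])
        have hfixR : ∀ a ∈ R, (g : Perm α) a = a := fun a ha => hfix a (Finset.mem_insert_of_mem ha)
        have hpres : ∀ a, (g : Perm α) a ∈ R ↔ a ∈ R := fun a => by
          constructor
          · intro ha
            rw [← (g : Perm α).injective (hfixR _ ha)]
            exact ha
          · intro ha; rw [hfixR a ha]; exact ha
        obtain ⟨π, c, hmem, hπ, hc⟩ := exists_pair g.2 hpres
        have : π = 1 := Equiv.ext fun a => Subtype.ext ((hπ a).trans (hfixR a a.2))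
        have hcM : c ∈ M := mem_fixA.2 (this ▸ hmem)
        exact ⟨⟨⟨c, hcM⟩, Subtype.ext ((hc u).trans (hfix _ (Finset.mem_insert_self _ _)))⟩,
          Subtype.ext ((hc v).trans hg)⟩
    have h6 : 6 ∣ Nat.card (MulAction.stabilizer M u) := by
      have h' := Subgroup.index_dvd_card (MulAction.stabilizer (MulAction.stabilizer M u) v)
      rw [MulAction.index_stabilizer, horb, Set.ncard_compl, Set.ncard_singleton, Nat.card_eq_fintype_card (α := β),
        hβ] at h'
      exact h'
    obtain ⟨t, ht⟩ := h6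
    exact ⟨t, by rw [← h1, ht]; ring⟩
  have hdvd : Nat.card M ∣ 5040 := by
    have h1 := Subgroup.card_subgroup_dvd_card M
    rw [Nat.card_perm, Nat.card_eq_fintype_card (α := β), hβ] at h1
    exact h1
  haveI : Fact (Nat.Prime 2) := ⟨Nat.prime_two⟩
  haveI : Fact (Nat.Prime 3) := ⟨Nat.prime_three⟩
  haveI : Fact (Nat.Prime 5) := ⟨by norm_num⟩
  haveI : Fact (Nat.Prime 7) := ⟨by norm_num⟩
  have htype : ∀ c : Perm β, ∀ q : ℕ, q.Prime → orderOf c = q → ∃ j, 1 ≤ j ∧ j * q ≤ 7 ∧
      c.cycleType = Multiset.replicate j q := by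
    intro c q hq hc
    obtain ⟨j, hj⟩ := cycleType_prime_order (σ := c) (by rw [hc]; exact hq)
    have hle := c.support.card_le_univ
    rw [← sum_cycleType, hj, Multiset.sum_replicate, smul_eq_mul, hβ, hc] at hle
    exact ⟨j + 1, by omega, hle, by rw [hj, hc]⟩
  have h5 : ¬ 5 ∣ Nat.card M := fun h => by
    obtain ⟨c, hc⟩ := exists_prime_orderOf_dvd_card' (G := M) 5 h
    rw [← Subgroup.orderOf_coe] at hc
    obtain ⟨j, hj1, hj, hct⟩ := htype c 5 (by norm_num) hc
    have := hMno c c.2 (fun e => by rw [e, orderOf_one] at hc; norm_num at hc)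
    rw [← sum_cycleType, hct, Multiset.sum_replicate, smul_eq_mul] at this
    omega
  have h4 : ¬ 4 ∣ Nat.card M := fun h => by
    let E := (alternatingGroup β).subgroupOf M
    have hE : 2 ∣ Nat.card E := by
      have h1 := Subgroup.card_mul_index E
      have h2 : E.index ∣ (alternatingGroup β).index := Subgroup.relIndex_dvd_index_of_normal _ _
      haveI : Nontrivial β := ⟨⟨v, u, hv⟩⟩
      rw [alternatingGroup.index_eq_two] at h2
      rcases (Nat.dvd_prime Nat.prime_two).1 h2 with e | e <;> rw [e] at h1 <;> obtain ⟨t, ht⟩ := h <;> rw [← h1] at ht <;> first | exact ⟨t, by omega⟩ | exact ⟨2 * t, by omega⟩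
    obtain ⟨c, hc⟩ := exists_prime_orderOf_dvd_card' (G := E) 2 hE
    rw [← Subgroup.orderOf_coe, ← Subgroup.orderOf_coe] at hc
    obtain ⟨j, hj1, hj, hct⟩ := htype _ 2 Nat.prime_two hc
    have hs : Perm.sign ((c : M) : Perm β) = 1 := mem_alternatingGroup.1 c.2
    rw [sign_of_cycleType, hct, Multiset.sum_replicate, Multiset.card_replicate, smul_eq_mul] at hs
    have h6 := hMno _ (c : M).2 (fun e => by rw [e, orderOf_one] at hc; norm_num at hc)
    rw [← sum_cycleType, hct, Multiset.sum_replicate, smul_eq_mul] at h6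
    have : j = 3 := by omega
    rw [this] at hs
    exact absurd hs (by decide)
  have h9' : ¬ 9 ∣ Nat.card M := fun h => by
    obtain ⟨Q, hQ⟩ := Sylow.exists_subgroup_card_pow_prime (G := M) 3 (n := 2) h
    have hQ' : Nat.card (Q.map M.subtype) = 3 ^ (Nat.card (Perm β)).factorization 3 := by
      rw [Subgroup.card_map_of_injective Subtype.val_injective, hQ, Nat.card_perm, Nat.card_eq_fintype_card, hβ]
      congr 1
      rw [show Nat.factorial 7 = 3 ^ 2 * 560 by rfl, Nat.factorization_mul (by norm_num) (by norm_num),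
        Nat.Prime.factorization_pow Nat.prime_three, Finsupp.add_apply, Finsupp.single_eq_same,
        Nat.factorization_eq_zero_of_not_dvd (by norm_num : ¬ 3 ∣ 560)]
    let S := Sylow.ofCard _ hQ'
    obtain ⟨a, b, c, hab, hac, hbc⟩ := Fintype.two_lt_card_iff.1 (show 2 < Fintype.card β by omega)
    have h3c : IsThreeCycle (swap a b * swap a c) := isThreeCycle_swap_mul_swap_same hab hac hbc
    obtain ⟨T, hT⟩ := (IsPGroup.of_card (n := 1) (by
      rw [Nat.card_zpowers, h3c.orderOf, pow_one]) :
        IsPGroup 3 (Subgroup.zpowers (swap a b * swap a c))).exists_le_sylow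
    obtain ⟨g, hg⟩ := MulAction.exists_smul_eq (Perm β) T S
    have h1 : g * (swap a b * swap a c) * g⁻¹ ∈ (S : Subgroup (Perm β)) := by
      rw [← hg]; exact ⟨_, hT (Subgroup.mem_zpowers _), rfl⟩
    have h3c' : IsThreeCycle (g * (swap a b * swap a c) * g⁻¹) := by
      rw [IsThreeCycle, cycleType_conj]; exact h3c
    have := hMno _ (Subgroup.map_subtype_le _ h1) h3c'.ne_one
    rw [h3c'.card_support] at this
    omega
  have h42' : Nat.card M = 42 := by
    obtain ⟨t, ht⟩ := h42
    rw [ht] at hdvd h4 h9' h5 ⊢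
    have hle := Nat.le_of_dvd (by norm_num) hdvd
    rw [seven_facts t (by omega) hdvd h4 h9' h5]
  obtain ⟨σ, hσM, hσ, -, hσc⟩ := Cfsg.Agent.Perm.exists_cycle_prime_degree (p := 7) hβ M
  -- the unique subgroup of order seven
  have huniq : ∀ c ∈ M, orderOf c = 7 → c ∈ Subgroup.zpowers σ := by
    intro c hc hc7
    obtain ⟨S⟩ : Nonempty (Sylow 7 M) := inferInstance
    have hn : Nat.card (Sylow 7 M) = 1 := by
      have h1 := card_sylow_modEq_one 7 M
      have h2 : Nat.card (Sylow 7 M) ∣ 6 := by
        have h3 := S.card_dvd_index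
        have h4 := Subgroup.card_mul_index (S : Subgroup M)
        have h5 : Nat.card (S : Subgroup M) = 7 := by
          rw [S.card_eq_multiplicity, h42', show (42 : ℕ) = 7 ^ 1 * 6 by norm_num,
            Nat.factorization_mul (by norm_num) (by norm_num), Nat.Prime.factorization_pow (by norm_num),
            Finsupp.add_apply, Finsupp.single_eq_same, Nat.factorization_eq_zero_of_not_dvd (by norm_num : ¬ 7 ∣ 6)]
          norm_num
        rw [h5, h42'] at h4
        rwa [show (S : Subgroup M).index = 6 by omega] at h3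
      have := Nat.le_of_dvd (by norm_num) h2
      unfold Nat.ModEq at h1
      interval_cases (Nat.card (Sylow 7 M)) <;> omega
    haveI := (Nat.card_eq_one_iff_unique.1 hn).1
    have hp : ∀ d : M, orderOf d = 7 → IsPGroup 7 (Subgroup.zpowers d) := fun d hd =>
      IsPGroup.of_card (n := 1) (by rw [Nat.card_zpowers, hd, pow_one])
    have hcc : orderOf (⟨c, hc⟩ : M) = 7 := by rw [← Subgroup.orderOf_coe]; exact hc7
    have hss : orderOf (⟨σ, hσM⟩ : M) = 7 := by rw [← Subgroup.orderOf_coe]; exact hσ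
    obtain ⟨T1, hT1⟩ := (hp _ hcc).exists_le_sylow
    obtain ⟨T2, hT2⟩ := (hp _ hss).exists_le_sylow
    rw [Subsingleton.elim T1 S] at hT1
    rw [Subsingleton.elim T2 S] at hT2
    have hS7 : Nat.card (S : Subgroup M) ≤ Nat.card (Subgroup.zpowers (⟨σ, hσM⟩ : M)) := by
      rw [Nat.card_zpowers, hss, S.card_eq_multiplicity, h42', show (42 : ℕ) = 7 ^ 1 * 6 by norm_num,
        Nat.factorization_mul (by norm_num) (by norm_num), Nat.Prime.factorization_pow (by norm_num),
        Finsupp.add_apply, Finsupp.single_eq_same, Nat.factorization_eq_zero_of_not_dvd (by norm_num : ¬ 7 ∣ 6)]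
      norm_num
    have h1 : (⟨c, hc⟩ : M) ∈ Subgroup.zpowers (⟨σ, hσM⟩ : M) := by
      rw [Subgroup.eq_of_le_of_card_ge hT2 hS7]
      exact hT1 (Subgroup.mem_zpowers _)
    obtain ⟨i, hi⟩ := Subgroup.mem_zpowers_iff.1 h1
    exact ⟨i, by simpa using congrArg Subtype.val hi⟩
  let K : Finset (Perm β) := (Finset.Icc 1 6).image fun i => σ ^ i
  have hKmem : ∀ c : Perm β, c ≠ 1 → c ∈ Subgroup.zpowers σ → c ∈ K := by
    intro c hc1 hc
    rw [← mem_powers_iff_mem_zpowers] at hc
    obtain ⟨i, hi⟩ := hc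
    refine Finset.mem_image.2 ⟨i % 7, Finset.mem_Icc.2 ⟨?_, by have := Nat.mod_lt i (show 7 > 0 by norm_num); omega⟩, ?_⟩
    · by_contra h0
      apply hc1
      rw [← hi]
      show σ ^ i = 1
      rw [show i = 7 * (i / 7) by omega, pow_mul, ← hσ, pow_orderOf_eq_one, one_pow]
    · rw [← hσ, pow_mod_orderOf]; exact hi
  let I : Finset (Perm β) := (Finset.univ.filter fun x => x ∈ M).image fun x => x * σ * x⁻¹
  have hconj : ∀ d : Perm β, (∀ m ∈ M, d * m * d⁻¹ ∈ M) → d * σ * d⁻¹ ∈ K := fun d hd => by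
    refine hKmem _ (fun e => ?_) (huniq _ (hd σ hσM) ?_)
    · rw [conj_eq_one_iff] at e
      rw [e, orderOf_one] at hσ
      norm_num at hσ
    · rw [← hσ]
      exact orderOf_injective (MulAut.conj d).toMonoidHom (MulAut.conj d).injective σ
  have hIK : I = K := by
    refine Finset.eq_of_subset_of_card_le (fun y hy => ?_) ?_
    · obtain ⟨x, hx, rfl⟩ := Finset.mem_image.1 hy
      rw [Finset.mem_filter] at hx
      exact hconj x fun m hm => mul_mem (mul_mem hx.2 hm) (inv_mem hx.2)
    · have h1 : (Finset.univ.filter fun x => x ∈ M).card ≤ 7 * I.card := by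
        refine Finset.card_le_mul_card_image _ 7 fun y hy => ?_
        obtain ⟨x0, -, hx0⟩ := Finset.mem_image.1 hy
        calc _ ≤ ((Finset.range 7).image fun i => x0 * σ ^ i).card := Finset.card_le_card fun x hx => by
              rw [Finset.mem_filter] at hx
              have hc : Commute (x0⁻¹ * x) σ := by
                have e : x * σ * x⁻¹ = x0 * σ * x0⁻¹ := hx.2.trans hx0.symm
                show x0⁻¹ * x * σ = σ * (x0⁻¹ * x)
                calc x0⁻¹ * x * σ = x0⁻¹ * (x * σ * x⁻¹) * x := by group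
                  _ = σ * (x0⁻¹ * x) := by rw [e]; group
              have hz := hσc _ hc
              rw [← mem_powers_iff_mem_zpowers] at hz
              obtain ⟨i, hi⟩ := hz
              refine Finset.mem_image.2 ⟨i % 7, Finset.mem_range.2 (Nat.mod_lt _ (by norm_num)), ?_⟩
              rw [← hσ, pow_mod_orderOf]
              show x0 * σ ^ i = x
              rw [show σ ^ i = x0⁻¹ * x from hi, mul_inv_cancel_left]
          _ ≤ (Finset.range 7).card := Finset.card_image_le
          _ = 7 := Finset.card_range 7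
      have h2 : (Finset.univ.filter fun x => x ∈ M).card = 42 := by
        rw [← h42', Nat.card_eq_fintype_card, Fintype.card_subtype]
      have h3 : K.card ≤ 6 := Finset.card_image_le.trans (by simp)
      omega
  obtain ⟨a, b, hab, hRab⟩ := Finset.card_eq_two.1 hR
  let π : Perm {x // x ∈ R} := swap ⟨a, by simp [hRab]⟩ ⟨b, by simp [hRab]⟩
  obtain ⟨c, hc⟩ := pairs_surj hR h2 π
  have hcK : c * σ * c⁻¹ ∈ I := by
    rw [hIK]
    refine hconj c fun m hm => ?_
    have := G'.mul_mem (G'.mul_mem hc (mem_fixA.1 hm)) (G'.inv_mem hc)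
    rw [hM, mem_fixA]
    simpa using this
  obtain ⟨x, hx, hxc⟩ := Finset.mem_image.1 hcK
  rw [Finset.mem_filter] at hx
  have hcomm : Commute (x⁻¹ * c) σ := by
    show x⁻¹ * c * σ = σ * (x⁻¹ * c)
    calc x⁻¹ * c * σ = x⁻¹ * (c * σ * c⁻¹) * c := by group
      _ = σ * (x⁻¹ * c) := by rw [← hxc]; group
  have h7 : (x⁻¹ * c) ^ 7 = 1 := by
    obtain ⟨i, hi⟩ := hσc _ hcomm
    rw [← hi]
    show (σ ^ i) ^ 7 = 1
    rw [← zpow_natCast, ← zpow_mul, mul_comm, zpow_mul, zpow_natCast, ← hσ, pow_orderOf_eq_one, one_zpow]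
  have hmem : ((π, x⁻¹ * c) : Perm {x // x ∈ R} × Perm β) ∈ G' := by
    have := G'.mul_mem (G'.inv_mem (mem_fixA.1 hx.2)) hc
    simpa using this
  have hmem7 := G'.pow_mem hmem 7
  rw [Prod.pow_mk, h7, show π ^ 7 = π by
    rw [show (7 : ℕ) = 2 * 3 + 1 by norm_num, pow_succ, pow_mul, pow_two, swap_mul_self, one_pow, one_mul]] at hmem7
  have hle := hno _ hmem7 (fun e => by
    have h' : (π, (1 : Perm β)) = 1 := subtypeCongrHom_injective (fun a => a ∈ R) (e.trans (map_one _).symm)
    have := congrArg Prod.fst h'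
    simp only [π, Prod.fst_one, Equiv.swap_eq_one_iff] at this
    exact hab (congrArg Subtype.val this))
  have hsub : (subtypeCongrHom (fun a => a ∈ R) (π, 1)).support ⊆ R := fun y hy => by
    by_contra hy'
    exact mem_support.1 hy (pairs_left π y hy')
  have := (Finset.card_le_card hsub).trans_eq hR
  omega

/-- Let `n = kp + r` with `p` prime, `1 ≤ k < p` and `r > k`, excluding the case `k = 1, r = 2`. Then a permutation group of degree `n` that is `(r + 1)`-fold transitive contains the alternating group. -/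
theorem result {α : Type*} [Fintype α] [DecidableEq α] (G : Subgroup (Equiv.Perm α)) {k p r : ℕ} (hp : p.Prime) (hn : Fintype.card α = k * p + r) (hk : 1 ≤ k) (hpk : k < p) (hrk : k < r) (hex : ¬ (k = 1 ∧ r = 2)) (hG : MulAction.IsMultiplyPretransitive G α (r + 1)) : alternatingGroup α ≤ G := by
  classical
  haveI : Fact p.Prime := ⟨hp⟩
  haveI := hG
  have hp2 := hp.two_le
  by_cases hdeg : k * p ≤ 3
  · have := Nat.mul_pos (show 0 < k by omega) (show 0 < p by omega)
    refine IsMultiplyPretransitive.alternatingGroup_le (G := G) (α := α) ?_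
    rw [Nat.card_eq_fintype_card, hn]
    exact MulAction.isMultiplyPretransitive_of_le (n := r + 1) (by omega)
      (by rw [Nat.card_eq_fintype_card, hn]; omega)
  have hp' : p ≠ 2 := by
    rintro rfl
    have : k = 1 := by omega
    subst this
    omega
  have hr3 : 3 ≤ r := by
    by_contra h
    exact hex ⟨by omega, by omega⟩
  have hrcard : r + 1 ≤ Fintype.card α := by rw [hn]; omega
  suffices hsmall : ∃ g ∈ G, g ≠ 1 ∧ (g.support.card ≤ r ∨ (r = 3 ∧ g.support.card < 6) ∨
      (g.IsCycle ∧ g.support.card = p)) by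
    obtain ⟨g, hg, hg1, hgs⟩ := hsmall
    rcases hgs with h | ⟨hr, h⟩ | ⟨hcyc, hsupp⟩
    · exact (Cfsg.Agent.S0711.result G (k := r + 1) (by omega) hrcard hG g hg hg1 (by omega)).2
    · exact (Cfsg.Agent.S0711.result G (k := r + 1) (by omega) hrcard hG g hg hg1 (by omega)).2
    · haveI h2 : MulAction.IsMultiplyPretransitive G α 2 :=
        MulAction.isMultiplyPretransitive_of_le (n := r + 1) (by omega) (by rw [Nat.card_eq_fintype_card]; omega)
      exact Cfsg.Agent.S0713.result G (MulAction.isPreprimitive_of_is_two_pretransitive h2) hp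
        (by rw [hn]; omega) (by rw [hn]; have := Nat.le_mul_of_pos_left p (show 0 < k by omega); omega) hcyc hsupp hg
  by_cases hnine : r = 3 ∧ p = 3
  · obtain ⟨rfl, rfl⟩ := hnine
    obtain rfl : k = 2 := by omega
    obtain ⟨g, hg, hg1, hgs⟩ := nine (by rw [hn]) G hG
    exact ⟨g, hg, hg1, Or.inr (Or.inl ⟨rfl, hgs⟩)⟩
  obtain ⟨R, -, hR⟩ := Finset.exists_subset_card_eq (s := (Finset.univ : Finset α)) (n := r)
    (by rw [Finset.card_univ]; omega)
  have hr : MulAction.IsMultiplyPretransitive G α r :=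
    MulAction.isMultiplyPretransitive_of_le (n := r + 1) (by omega) (by rw [Nat.card_eq_fintype_card]; omega)
  have hB : Nat.card {a // ¬a ∈ R} = k * p := by
    rw [Nat.card_eq_fintype_card, Fintype.card_subtype_compl, Fintype.card_coe, hn, hR]
    omega
  have hA : Fintype.card {a // a ∈ R} = r := by rw [Fintype.card_coe, hR]
  rcases core (pairs G R) hk hpk hB (pairs_trans (by rw [hR]) hG) (pairs_surj hR hr) (by rw [hA]; omega)
    (by rw [hA]; omega) (fun h e => hnine ⟨hA ▸ h, e⟩) hp' with ⟨π, hπ, hmem⟩ | ⟨x, hx, hx1, hxp, s, hs, hsupp⟩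
  · refine ⟨_, hmem, fun e => hπ ?_, Or.inl ((Finset.card_le_card fun y hy => ?_).trans_eq hR)⟩
    · have h' : ((π, 1) : Perm {a // a ∈ R} × Perm {a // ¬a ∈ R}) = 1 :=
        subtypeCongrHom_injective (fun a => a ∈ R) (e.trans (map_one _).symm)
      exact congrArg Prod.fst h'
    · by_contra hy'
      exact mem_support.1 hy (pairs_left π y hy')
  · have hinj : Function.Injective (fun c => subtypeCongrHom (fun a => a ∈ R) ((1 : Perm {a // a ∈ R}), c)) :=
      fun a b e => congrArg Prod.snd (subtypeCongrHom_injective (fun a => a ∈ R) e)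
    have hle : x.support.card ≤ p := by
      classical
      rw [← hs, ← Set.ncard_coe_finset]
      exact Set.ncard_le_ncard (fun b hb => hsupp b (mem_support.1 hb))
    have hox : orderOf x = p := orderOf_eq_prime hxp hx1
    have hcyc : x.IsCycle := isCycle_of_prime_order (by rw [hox]; exact hp) (by rw [hox]; omega)
    have hord : orderOf (subtypeCongrHom (fun a => a ∈ R) ((1 : Perm {a // a ∈ R}), x)) = p := by
      rw [orderOf_injective _ (subtypeCongrHom_injective (fun a => a ∈ R))]
      refine orderOf_eq_prime (by rw [Prod.pow_mk, one_pow, hxp]; rfl) (fun e => hx1 (congrArg Prod.snd e))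
    have hcyc' : (subtypeCongrHom (fun a => a ∈ R) ((1 : Perm {a // a ∈ R}), x)).IsCycle :=
      isCycle_of_prime_order (by rw [hord]; exact hp) (by rw [hord, sign_pairs]; omega)
    refine ⟨_, mem_fixA.1 hx, fun e => hx1 (hinj (e.trans (map_one (subtypeCongrHom (fun a => a ∈ R))).symm)),
      Or.inr (Or.inr ⟨hcyc', ?_⟩)⟩
    rw [← hcyc'.orderOf, hord]

end Cfsg.Agent.S4220
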