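import Cfsg.Statements.S4223
import Mathlib

set_option autoImplicit false
open Cfsg

namespace Cfsg.Agent.S4223

universe u v

/-- No nontrivial direct decomposition. -/
def Indec (A : Type*) [Group A] : Prop :=
  Nontrivial A ∧ ∀ H K : Subgroup A, H.Normal → K.Normal → H ⊓ K = ⊥ → H ⊔ K = ⊤ → H = ⊥ ∨ K = ⊥

/-- A normal endomorphism. -/
def NormalEnd {A : Type*} [Group A] (f : A →* A) : Prop :=
  ∀ a x, f (a * x * a⁻¹) = a * f x * a⁻¹

section Fitting

variable {A : Type*} [Group A]

theorem NormalEnd.comp {f g : A →* A} (hf : NormalEnd f) (hg : NormalEnd g) : NormalEnd (f.comp g) := fun a x => by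
  simp only [MonoidHom.comp_apply, hg a x, hf a]

theorem NormalEnd.pow {f : A →* A} (hf : NormalEnd f) : ∀ n : ℕ, NormalEnd (A := A) ((show Monoid.End A from f) ^ n : Monoid.End A) := by
  intro n
  induction n with
  | zero => intro a x; rfl
  | succ n ih => rw [pow_succ]; exact ih.comp hf

theorem exists_idem_pow [Finite A] (f : Monoid.End A) : ∃ N : ℕ, 0 < N ∧ f ^ N * f ^ N = f ^ N := by
  haveI : Finite (Monoid.End A) := Finite.of_injective (fun g => (g : A → A)) DFunLike.coe_injective
  obtain ⟨i, j, hne, he⟩ := Finite.exists_ne_map_eq_of_infinite (fun n : ℕ => f ^ n)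
  wlog hij : i < j generalizing i j
  · exact this j i hne.symm he.symm (lt_of_le_of_ne (not_lt.1 hij) hne.symm)
  obtain ⟨d, rfl⟩ := Nat.exists_eq_add_of_lt hij
  simp only [add_assoc i] at he
  have hper : ∀ t k : ℕ, i ≤ k → f ^ (k + t * (d + 1)) = f ^ k := by
    intro t
    induction t with
    | zero => intro k _; simp
    | succ t ih =>
      intro k hk
      obtain ⟨s, rfl⟩ := Nat.exists_eq_add_of_le hk
      rw [show i + s + (t + 1) * (d + 1) = (i + (d + 1)) + (s + t * (d + 1)) by ring, pow_add, ← he, ← pow_add,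
        ← add_assoc, ih _ (Nat.le_add_right _ _)]
  refine ⟨(i + 1) * (d + 1), by positivity, ?_⟩
  rw [← pow_add]
  exact hper (i + 1) _ (le_trans (Nat.le_succ i) (Nat.le_mul_of_pos_right _ (Nat.succ_pos d)))

/-- Fitting's lemma. -/
theorem dichotomy [Finite A] (hA : Indec A) {f : A →* A} (hf : NormalEnd f) :
    Function.Bijective f ∨ ∃ N : ℕ, ∀ x, f^[N] x = 1 := by
  obtain ⟨N, hN0, hN⟩ := exists_idem_pow (A := A) f
  let φ : A →* A := (show Monoid.End A from f) ^ N
  have hφn : NormalEnd φ := hf.pow N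
  have hit : ∀ x, φ x = f^[N] x := fun x => by
    show ((show Monoid.End A from f) ^ N) x = _
    rw [Monoid.End.coe_pow]; rfl
  have hidem : ∀ x, φ (φ x) = φ x := fun x => congrArg (fun F : Monoid.End A => F x) hN
  haveI hrn : φ.range.Normal := ⟨by
    rintro _ ⟨x, rfl⟩ a
    exact ⟨a * x * a⁻¹, hφn a x⟩⟩
  have h1 : φ.ker ⊓ φ.range = ⊥ := by
    refine (Subgroup.eq_bot_iff_forall _).2 fun x hx => ?_
    obtain ⟨hk, y, rfl⟩ := Subgroup.mem_inf.1 hx
    rw [← hidem]; exact hk
  have h2 : φ.ker ⊔ φ.range = ⊤ := by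
    refine eq_top_iff.2 fun x _ => ?_
    rw [show x = x * (φ x)⁻¹ * φ x by group]
    refine Subgroup.mul_mem_sup ?_ ⟨x, rfl⟩
    rw [MonoidHom.mem_ker, map_mul, map_inv, hidem, mul_inv_cancel]
  rcases hA.2 φ.ker φ.range inferInstance hrn h1 h2 with h | h
  · left
    rw [← Finite.injective_iff_bijective]
    obtain ⟨M, rfl⟩ := Nat.exists_eq_add_of_le' hN0
    have hinj : Function.Injective φ := (MonoidHom.ker_eq_bot_iff φ).1 h
    intro x y hxy
    refine hinj ?_
    rw [hit, hit, Function.iterate_succ_apply, Function.iterate_succ_apply, hxy]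
  · right
    refine ⟨N, fun x => ?_⟩
    rw [← hit, ← Subgroup.mem_bot, ← h]
    exact ⟨x, rfl⟩

/-- If two normal endomorphisms multiply to an automorphism, one of them is an automorphism. -/
theorem split [Finite A] (hA : Indec A) {u f g : A →* A} (hu : Function.Bijective u) (hun : NormalEnd u)
    (hfn : NormalEnd f) (h : ∀ x, u x = f x * g x) : Function.Bijective f ∨ Function.Bijective g := by
  let e := MulEquiv.ofBijective u hu
  have hen : NormalEnd e.symm.toMonoidHom := fun a x => by
    show e.symm (a * x * a⁻¹) = a * e.symm x * a⁻¹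
    rw [MulEquiv.symm_apply_eq]
    show a * x * a⁻¹ = u (a * e.symm x * a⁻¹)
    rw [hun, show u (e.symm x) = x from e.apply_symm_apply x]
  rcases dichotomy hA (hen.comp hfn) with hb | ⟨N, hN⟩
  · left
    have := e.bijective.comp hb
    have he : (e : A → A) ∘ (e.symm.toMonoidHom.comp f) = f := funext fun x => e.apply_symm_apply (f x)
    rwa [he] at this
  · right
    rw [← Finite.injective_iff_bijective, injective_iff_map_eq_one]
    intro x hx
    have h1 : e.symm.toMonoidHom.comp f x = x := by
      show e.symm (f x) = x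
      rw [MulEquiv.symm_apply_eq, show e x = u x from rfl, h, hx, mul_one]
    have h2 : ∀ n : ℕ, (e.symm.toMonoidHom.comp f)^[n] x = x := fun n => Function.iterate_fixed h1 n
    rw [← h2 N, hN]

end Fitting

variable {A : Type u} [Group A] [Finite A] {X : Type u} [Group X] [Finite X] {n : ℕ} {B : Fin n → Type v}
  [∀ j, Group (B j)] [∀ j, Finite (B j)]

/-- Coordinates outside a set made trivial. -/
def res (T : Finset (Fin n)) : ((j : Fin n) → B j) →* ((j : Fin n) → B j) :=
  MonoidHom.mk' (fun y j => if j ∈ T then y j else 1) fun y w => by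
    funext j
    by_cases h : j ∈ T <;> simp [h]

theorem exchange (hA : Indec A) (hB : ∀ j, Indec (B j)) (e : A × X ≃* ((j : Fin n) → B j)) :
    ∃ j : Fin n, Nonempty (A ≃* B j) ∧
      ∀ x : X, (∀ k, k ≠ j → e (1, x) k = 1) → x = 1 := by
  classical
  let S : Finset (Fin n) → (A →* A) := fun T =>
    (MonoidHom.fst A X).comp (e.symm.toMonoidHom.comp ((res T).comp (e.toMonoidHom.comp (MonoidHom.inl A X))))
  have hSn : ∀ T, NormalEnd (S T) := fun T a x => by
    show (e.symm (res T (e (a * x * a⁻¹, 1)))).1 = _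
    have h1 : ((a * x * a⁻¹, 1) : A × X) = (a, 1) * (x, 1) * (a, 1)⁻¹ := Prod.ext (by simp) (by simp)
    have h2 : res T (e (a, 1) * e (x, 1) * (e (a, 1))⁻¹) = e (a, 1) * res T (e (x, 1)) * (e (a, 1))⁻¹ := by
      funext j
      by_cases h : j ∈ T <;> simp [res, h]
    rw [h1, map_mul e, map_mul e, map_inv e, h2, map_mul, map_mul, map_inv, MulEquiv.symm_apply_apply]
    rfl
  have key : ∀ T : Finset (Fin n), Function.Bijective (S T) → ∃ j, Function.Bijective (S {j}) := by
    intro T
    induction T using Finset.induction_on with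
    | empty =>
      intro hb
      haveI := hA.1
      obtain ⟨a, ha⟩ := exists_ne (1 : A)
      refine absurd (hb.1 ?_) ha
      have h0 : ∀ y, res (∅ : Finset (Fin n)) (B := B) y = 1 := fun y => funext fun j => by simp [res]
      show (e.symm (res ∅ (e (a, 1)))).1 = (e.symm (res ∅ (e (1, 1)))).1
      rw [h0, h0]
    | insert j T hj ih =>
      intro hb
      have hmul : ∀ x, S (insert j T) x = S {j} x * S T x := fun x => by
        show (e.symm (res _ (e (x, 1)))).1 = (e.symm (res _ (e (x, 1)))).1 * (e.symm (res _ (e (x, 1)))).1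
        rw [← Prod.fst_mul, ← map_mul]
        congr 2
        funext k
        by_cases hk : k = j
        · subst hk; simp [res, hj]
        · simp [res, hk]
      rcases split hA hb (hSn _) (hSn {j}) hmul with h | h
      · exact ⟨j, h⟩
      · exact ih h
  obtain ⟨j, hj⟩ := key Finset.univ (by
    have : ∀ a, S Finset.univ a = a := fun a => by
      show (e.symm (res Finset.univ (e (a, 1)))).1 = a
      rw [show res (B := B) Finset.univ (e (a, 1)) = e (a, 1) from funext fun k => by simp [res],
        MulEquiv.symm_apply_apply]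
    rw [show (S Finset.univ : A → A) = id from funext this]
    exact Function.bijective_id)
  let h : A →* B j := (Pi.evalMonoidHom B j).comp (e.toMonoidHom.comp (MonoidHom.inl A X))
  let g : B j →* A := (MonoidHom.fst A X).comp (e.symm.toMonoidHom.comp (MonoidHom.mulSingle B j))
  have hgh : ∀ a, g (h a) = S {j} a := fun a => by
    show (e.symm (Pi.mulSingle j (e (a, 1) j))).1 = (e.symm (res {j} (e (a, 1)))).1
    congr 2
    funext k
    by_cases hk : k = j
    · subst hk; simp [res]
    · simp [res, hk]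
  have hhinj : Function.Injective h := fun a b hab => hj.1 (by rw [← hgh, ← hgh, hab])
  haveI hrn : h.range.Normal := ⟨by
    rintro _ ⟨a, rfl⟩ b
    obtain ⟨⟨a', x'⟩, he⟩ := e.surjective (Pi.mulSingle j b)
    refine ⟨a' * a * a'⁻¹, ?_⟩
    show e (a' * a * a'⁻¹, 1) j = b * e (a, 1) j * b⁻¹
    rw [show ((a' * a * a'⁻¹, 1) : A × X) = (a', x') * (a, 1) * (a', x')⁻¹ from Prod.ext (by simp) (by simp),
      map_mul, map_mul, map_inv, he]
    simp⟩
  have hker : g.ker = ⊥ := by
    have h1 : g.ker ⊓ h.range = ⊥ := by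
      refine (Subgroup.eq_bot_iff_forall _).2 fun y hy => ?_
      obtain ⟨hk, a, rfl⟩ := Subgroup.mem_inf.1 hy
      rw [MonoidHom.mem_ker, hgh] at hk
      rw [hj.1 (hk.trans (map_one (S {j})).symm), map_one]
    have h2 : g.ker ⊔ h.range = ⊤ := by
      refine eq_top_iff.2 fun y _ => ?_
      obtain ⟨a, ha⟩ := hj.2 (g y)
      rw [show y = y * (h a)⁻¹ * h a by group]
      refine Subgroup.mul_mem_sup ?_ ⟨a, rfl⟩
      rw [MonoidHom.mem_ker, map_mul, map_inv, hgh, ha, mul_inv_cancel]
    rcases (hB j).2 g.ker h.range inferInstance hrn h1 h2 with hk | hk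
    · exact hk
    · exfalso
      haveI := hA.1
      obtain ⟨a, ha⟩ := exists_ne (1 : A)
      refine ha (hhinj ?_)
      rw [map_one, ← Subgroup.mem_bot, ← hk]
      exact ⟨a, rfl⟩
  have hginj : Function.Injective g := (MonoidHom.ker_eq_bot_iff g).1 hker
  refine ⟨j, ⟨MulEquiv.ofBijective h ⟨hhinj, fun y => ?_⟩⟩, fun x hx => ?_⟩
  · obtain ⟨a, ha⟩ := hj.2 (g y)
    exact ⟨a, hginj (by rw [hgh, ha])⟩
  · have he : e (1, x) = Pi.mulSingle j (e (1, x) j) := funext fun k => by
      by_cases hk : k = j
      · subst hk; simp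
      · rw [Pi.mulSingle_eq_of_ne hk, hx k hk]
    have hg1 : g (e (1, x) j) = 1 := by
      show (e.symm (Pi.mulSingle j (e (1, x) j))).1 = 1
      rw [← he, MulEquiv.symm_apply_apply]
    rw [hginj (hg1.trans (map_one g).symm), Pi.mulSingle_one] at he
    have := e.injective (he.trans (map_one e).symm)
    exact congrArg Prod.snd this

theorem main : ∀ (m n : ℕ) {A : Fin m → Type u} {B : Fin n → Type v} [∀ i, Group (A i)] [∀ j, Group (B j)]
    [∀ i, Finite (A i)] [∀ j, Finite (B j)], (∀ i, Indec (A i)) → (∀ j, Indec (B j)) →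
    ((i : Fin m) → A i) ≃* ((j : Fin n) → B j) → ∃ σ : Fin m ≃ Fin n, ∀ i, Nonempty (A i ≃* B (σ i)) := by
  intro m
  induction m with
  | zero =>
    intro n A B _ _ _ _ hA hB e
    rcases n with - | n
    · exact ⟨Equiv.refl _, fun i => i.elim0⟩
    · exfalso
      haveI := (hB 0).1
      haveI : Nontrivial ((j : Fin (n + 1)) → B j) := Pi.nontrivial_at 0
      haveI := e.toEquiv.nontrivial
      obtain ⟨x, y, hxy⟩ := exists_pair_ne ((i : Fin 0) → A i)
      exact hxy (Subsingleton.elim x y)
  | succ m ih =>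
    intro n A B _ _ _ _ hA hB e
    let c : A 0 × ((i : Fin m) → A i.succ) ≃* ((i : Fin (m + 1)) → A i) :=
      { Fin.consEquiv A with
        map_mul' := fun p q => funext fun i => by
          refine Fin.cases ?_ (fun k => ?_) i
          · simp [Fin.consEquiv]
          · simp [Fin.consEquiv] }
    obtain ⟨j, ⟨e₀⟩, hinj⟩ := exchange (hA 0) hB (c.trans e)
    rcases n with - | n
    · exact j.elim0
    let ψ : ((i : Fin m) → A i.succ) →* ((k : Fin n) → B (j.succAbove k)) :=
      MonoidHom.mk' (fun x k => (c.trans e) (1, x) (j.succAbove k)) fun x y => by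
        funext k
        rw [show ((1, x * y) : A 0 × ((i : Fin m) → A i.succ)) = (1, x) * (1, y) from Prod.ext (by simp) rfl, map_mul]
        rfl
    have hψinj : Function.Injective ψ := by
      rw [injective_iff_map_eq_one]
      intro x hx
      refine hinj x fun k hk => ?_
      obtain ⟨i, rfl⟩ := Fin.exists_succAbove_eq hk
      exact congrFun hx i
    have hcard : Nat.card ((i : Fin m) → A i.succ) = Nat.card ((k : Fin n) → B (j.succAbove k)) := by
      have h1 := Nat.card_congr (c.trans e).toEquiv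
      rw [Nat.card_prod, Nat.card_pi (β := B), Fin.prod_univ_succAbove _ j, ← Nat.card_congr e₀.toEquiv,
        ← Nat.card_pi] at h1
      exact Nat.eq_of_mul_eq_mul_left Nat.card_pos h1
    have hψ : Function.Bijective ψ := (Nat.bijective_iff_injective_and_card ψ).2 ⟨hψinj, hcard⟩
    obtain ⟨σ, hσ⟩ := ih n (fun i => hA i.succ) (fun k => hB (j.succAbove k)) (MulEquiv.ofBijective ψ hψ)
    refine ⟨(finSuccEquiv' 0).trans (σ.optionCongr.trans (finSuccEquiv' j).symm), fun i => ?_⟩
    refine Fin.cases ?_ (fun k => ?_) i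
    · simpa using ⟨e₀⟩
    · have hk : finSuccEquiv' (0 : Fin (m + 1)) k.succ = some k := by
        rw [← Fin.zero_succAbove, finSuccEquiv'_succAbove]
      show Nonempty (A k.succ ≃* B ((finSuccEquiv' j).symm (σ.optionCongr (finSuccEquiv' 0 k.succ))))
      rw [hk, Equiv.optionCongr_apply, Option.map_some, finSuccEquiv'_symm_some]
      exact hσ k

/-- If a finite group is isomorphic both to a direct product of `m` directly indecomposable nontrivial groups and to a direct product of `n` such groups (a group is directly indecomposable when it is not the internal direct product of two nontrivial normal subgroups), then `m = n` and the factors are isomorphic in pairs after a suitable matching. -/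
theorem result {m n : ℕ} {A : Fin m → Type*} {B : Fin n → Type*} [∀ i, Group (A i)] [∀ j, Group (B j)] [∀ i, Finite (A i)] [∀ j, Finite (B j)] (hA : ∀ i, Nontrivial (A i) ∧ ∀ H K : Subgroup (A i), H.Normal → K.Normal → H ⊓ K = ⊥ → H ⊔ K = ⊤ → H = ⊥ ∨ K = ⊥) (hB : ∀ j, Nontrivial (B j) ∧ ∀ H K : Subgroup (B j), H.Normal → K.Normal → H ⊓ K = ⊥ → H ⊔ K = ⊤ → H = ⊥ ∨ K = ⊥) (e : ((i : Fin m) → A i) ≃* ((j : Fin n) → B j)) : ∃ σ : Fin m ≃ Fin n, ∀ i, Nonempty (A i ≃* B (σ i)) := by
  exact main m n hA hB e

end Cfsg.Agent.S4223
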