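import Cfsg.Statements.S4227
import Cfsg.Agent.Lib.Solv.PLength
import Cfsg.Agent.Lib.Fusion.SolvableBalance
import Cfsg.Agent.Lib.Char.Burnside
import Cfsg.Agent.S3783

set_option autoImplicit false
open Cfsg

namespace Cfsg.Agent.S4227

section Aux

universe u
variable {G : Type u} [Group G] [Finite G]

theorem prime_dvd (h : ∀ x : G, x ^ 6 = 1) {r : ℕ} (hr : r.Prime) (hd : r ∣ Nat.card G) :
    r = 2 ∨ r = 3 := by
  haveI := Fact.mk hr
  obtain ⟨x, hx⟩ := exists_prime_orderOf_dvd_card' r hd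
  have h6 : r ∣ 6 := hx ▸ orderOf_dvd_of_pow_eq_one (h x)
  have : r ≤ 6 := Nat.le_of_dvd (by norm_num) h6
  interval_cases r <;> revert hr h6 <;> norm_num

theorem pow_prime_eq_one (h : ∀ x : G, x ^ 6 = 1) {p q : ℕ} (hp : p.Prime) (hpq : p * q = 6)
    (hc : p.Coprime q) {P : Subgroup G} (hP : IsPGroup p P) {x : G} (hx : x ∈ P) : x ^ p = 1 := by
  haveI := Fact.mk hp
  obtain ⟨k, hk⟩ := hP ⟨x, hx⟩
  have hk' : x ^ p ^ k = 1 := by simpa using congrArg Subtype.val hk
  have h1 : orderOf x ∣ p ^ k := orderOf_dvd_of_pow_eq_one hk'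
  have h2 : orderOf x ∣ p * q := hpq ▸ orderOf_dvd_of_pow_eq_one (h x)
  have h3 : (orderOf x).Coprime q := (Nat.Coprime.pow_left k hc).coprime_dvd_left h1
  exact orderOf_dvd_iff_pow_eq_one.1 (h3.dvd_of_dvd_mul_right h2)

theorem solvable (h : ∀ x : G, x ^ 6 = 1) : Group.IsSolvable G :=
  Cfsg.Agent.Char.isSolvable_of_two_primes Nat.prime_two Nat.prime_three _ rfl
    fun _ hr hd => prime_dvd h hr hd

theorem exp_two_comm {H : Type u} [Group H] (h : ∀ a : H, a ^ 2 = 1) (a b : H) : a * b = b * a := by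
  have inv : ∀ c : H, c⁻¹ = c := fun c => inv_eq_of_mul_eq_one_right (by rw [← pow_two]; exact h c)
  rw [← inv (a * b), mul_inv_rev, inv, inv]

theorem two_length (h : ∀ x : G, x ^ 6 = 1) : Solv.PLen.HasPSeries 2 1 G := by
  haveI : Fact (Nat.Prime 2) := ⟨Nat.prime_two⟩
  haveI := solvable h
  set N := Cfsg.pPrimeCore 2 G
  refine Solv.PLen.HasPSeries.lift_pPrime N (Fusion.card_pPrimeCore_coprime 2 G) ?_
  have hQ : ∀ y : G ⧸ N, y ^ 6 = 1 := fun y => by
    induction y using QuotientGroup.induction_on with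
    | _ z => rw [← QuotientGroup.mk_pow, h, QuotientGroup.mk_one]
  set V := Cfsg.pCore 2 (G ⧸ N)
  refine Solv.PLen.HasPSeries.lift_p V (Fusion.isPGroup_pCore 2 _) ?_
  refine Solv.PLen.hasPSeries_of_coprime 0 ?_
  obtain ⟨S⟩ := (inferInstance : Nonempty (Sylow 2 (G ⧸ N)))
  have hSV : (S : Subgroup (G ⧸ N)) ≤ V := by
    refine le_trans ?_ (Fusion.centralizer_pCore_le_of_solvable inferInstance
      Fusion.pPrimeCore_quotient_eq_bot)
    intro s hs
    rw [Subgroup.mem_centralizer_iff]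
    intro v hv
    have hv' : v ∈ (S : Subgroup (G ⧸ N)) := Fusion.pCore_le_sylow S hv
    have key := exp_two_comm (H := ↥(S : Subgroup (G ⧸ N))) (fun a => Subtype.ext (by
      simpa using pow_prime_eq_one hQ Nat.prime_two (q := 3) (by norm_num) (by norm_num)
        S.isPGroup' a.2)) ⟨v, hv'⟩ ⟨s, hs⟩
    simpa using congrArg Subtype.val key
  have h1 := S.not_dvd_index
  rw [← Subgroup.index_eq_card]
  refine Nat.Coprime.symm ((Nat.Prime.coprime_iff_not_dvd Nat.prime_two).2 fun hd => h1 ?_)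
  exact hd.trans (Subgroup.index_dvd_of_le hSV)

theorem pSolvable_three (h : ∀ x : G, x ^ 6 = 1) : Cfsg.IsPSolvable 3 G := by
  obtain ⟨f, h0, htop, hn, hle, hok⟩ := two_length h
  refine ⟨3, fun i => f i, by simpa using h0, htop _ (by simp), fun i j hij =>
    monotone_nat_of_le_succ hle hij, fun i => hn i, fun i => ?_⟩
  have hok' := hok i.val
  have hdvd : (f i.val).relIndex (f (i.val + 1)) ∣ Nat.card G :=
    (Subgroup.relIndex_dvd_card _ _).trans (Subgroup.card_subgroup_dvd_card _)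
  simp only [Fin.val_castSucc, Fin.val_succ]
  unfold Solv.PLen.OkIndex at hok'
  split_ifs at hok' with hev
  · left
    refine ⟨_, Nat.eq_prime_pow_of_unique_prime_dvd (Nat.pos_of_dvd_of_pos hdvd Nat.card_pos).ne'
      fun {d} hd hdd => ?_⟩
    rcases prime_dvd h hd (hdd.trans hdvd) with rfl | rfl
    · exact absurd (Nat.Coprime.eq_one_of_dvd ((hok'.symm).coprime_dvd_right dvd_rfl) hdd)
        (by norm_num)
    · rfl
  · obtain ⟨m, hm⟩ := hok'
    right
    rw [hm]
    exact Nat.Coprime.pow_left m (by norm_num)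

end Aux

/-- A finite group in which every element has order dividing `6` has `2`-length at most `1` and `3`-length at most `1`. -/
theorem result {G : Type*} [Group G] [Finite G] (h : ∀ x : G, x ^ 6 = 1) : Cfsg.PLengthLE 2 1 G ∧ Cfsg.PLengthLE 3 1 G := by
  haveI : Fact (Nat.Prime 2) := ⟨Nat.prime_two⟩
  haveI : Fact (Nat.Prime 3) := ⟨Nat.prime_three⟩
  refine ⟨(Solv.PLen.pLengthLE_iff 1).2 (two_length h), ?_⟩
  refine Cfsg.Agent.S3783.result (pSolvable_three h) (fun q _ hq Q => ?_) 1 (fun P x hx => ?_)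
  · by_cases hd : q ∣ Nat.card G
    · obtain rfl : q = 2 := by
        rcases prime_dvd h Fact.out hd with h2 | h3
        · exact h2
        · exact absurd h3 hq
      exact ⟨⟨fun a b => exp_two_comm (fun c => Subtype.ext (by
        simpa using pow_prime_eq_one h Nat.prime_two (q := 3) (by norm_num) (by norm_num)
          Q.isPGroup' c.2)) a b⟩⟩
    · have : Nat.card Q = 1 := by
        rw [Q.card_eq_multiplicity, Nat.factorization_eq_zero_of_not_dvd hd, pow_zero]
      haveI := (Nat.card_eq_one_iff_unique.1 this).1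
      exact ⟨⟨fun a b => Subsingleton.elim _ _⟩⟩
  · simpa using pow_prime_eq_one h Nat.prime_three (q := 2) (by norm_num) (by norm_num)
      P.isPGroup' hx

end Cfsg.Agent.S4227
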