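import Cfsg.Statements.S4230


set_option autoImplicit false
open Cfsg

namespace Cfsg.Agent.S4230

/-- Let p be an odd prime, q a natural number not divisible by p, and e the multiplicative order of q modulo p. For a natural number f, p divides the value at q of the f-th cyclotomic polynomial if and only if f = e·p^j for some j ≥ 0. -/
theorem result (p q f : ℕ) (hp : p.Prime) (hp2 : p ≠ 2) (hpq : ¬ p ∣ q) :
    ((p : ℤ) ∣ (Polynomial.cyclotomic f ℤ).eval (q : ℤ)) ↔ ∃ j : ℕ, f = orderOf (q : ZMod p) * p ^ j := by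
  haveI := Fact.mk hp
  have hq : (q : ZMod p) ≠ 0 := by rwa [Ne, ZMod.natCast_eq_zero_iff]
  rcases Nat.eq_zero_or_pos f with rfl | hf
  · simp only [Polynomial.cyclotomic_zero, Polynomial.eval_one]
    constructor
    · intro h
      exact absurd (Int.natCast_dvd_natCast.1 (by simpa using h : ((p : ℕ) : ℤ) ∣ ((1 : ℕ) : ℤ)))
        (fun hd => hp.ne_one (Nat.dvd_one.1 hd))
    · rintro ⟨j, hj⟩
      have h1 : 0 < orderOf (q : ZMod p) :=
        (isOfFinOrder_iff_pow_eq_one.2 ⟨p - 1, by have := hp.two_le; omega, ZMod.pow_card_sub_one_eq_one hq⟩).orderOf_pos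
      have h2 : 0 < orderOf (q : ZMod p) * p ^ j := Nat.mul_pos h1 (pow_pos hp.pos j)
      omega
  obtain ⟨j, m, hm, rfl⟩ := Nat.exists_eq_pow_mul_and_not_dvd hf.ne' p hp.ne_one
  haveI : NeZero (m : ZMod p) := ⟨by rwa [Ne, ZMod.natCast_eq_zero_iff]⟩
  rw [← ZMod.intCast_zmod_eq_zero_iff_dvd]
  have he : ((((Polynomial.cyclotomic (p ^ j * m) ℤ).eval (q : ℤ)) : ℤ) : ZMod p) =
      (Polynomial.cyclotomic (p ^ j * m) (ZMod p)).eval (q : ZMod p) := by
    have := Polynomial.eval_map_apply (p := Polynomial.cyclotomic (p ^ j * m) ℤ)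
      (f := Int.castRingHom (ZMod p)) (x := (q : ℤ))
    rw [Polynomial.map_cyclotomic_int] at this
    simpa using this.symm
  rw [he]
  change Polynomial.IsRoot _ _ ↔ _
  rw [Polynomial.isRoot_cyclotomic_prime_pow_mul_iff_of_charP]
  constructor
  · intro h
    exact ⟨j, by rw [← h.eq_orderOf, mul_comm]⟩
  · rintro ⟨i, hi⟩
    have hd : orderOf (q : ZMod p) ∣ p - 1 := ZMod.orderOf_dvd_card_sub_one hq
    have hnd : ¬ p ∣ orderOf (q : ZMod p) := fun h => by
      have := Nat.le_of_dvd (by have := hp.two_le; omega) (h.trans hd)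
      have := hp.two_le
      omega
    have hji : j = i ∧ m = orderOf (q : ZMod p) := by
      have hfa := congrArg (fun n => n.factorization p) hi
      have hm0 : m ≠ 0 := by rintro rfl; simp at hm
      have ho0 : orderOf (q : ZMod p) ≠ 0 := fun h => hnd (h ▸ dvd_zero p)
      simp only [Nat.factorization_mul (pow_ne_zero j hp.ne_zero) hm0,
        Nat.factorization_mul ho0 (pow_ne_zero i hp.ne_zero), Finsupp.add_apply,
        Nat.Prime.factorization_pow hp, Finsupp.single_eq_same,
        Nat.factorization_eq_zero_of_not_dvd hm, Nat.factorization_eq_zero_of_not_dvd hnd] at hfa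
      obtain rfl : j = i := by omega
      refine ⟨rfl, Nat.eq_of_mul_eq_mul_left (pow_pos hp.pos j) (hi.trans (mul_comm _ _))⟩
    exact hji.2 ▸ IsPrimitiveRoot.orderOf _

end Cfsg.Agent.S4230
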