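import Cfsg.Statements.S4231
import Cfsg.Agent.Lib.Perm.AltAut

set_option autoImplicit false
open Cfsg
open Equiv Equiv.Perm

namespace Cfsg.Agent.S4231

open Cfsg.Agent.Perm.AltAut

variable {n : ℕ}

/-- A q-group of permutations of fewer than q² points is abelian. -/
theorem commute_of_small {Q : Type*} [Group Q] [Finite Q] {q : ℕ} [Fact q.Prime] (hQ : IsPGroup q Q)
    (hn : n < q ^ 2) (f : Q →* Perm (Fin n)) (hf : Function.Injective f) : IsMulCommutative Q := by
  have hq := (Fact.out : q.Prime)
  letI : MulAction Q (Fin n) := MulAction.compHom (Fin n) f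
  refine ⟨⟨fun a b => hf (Equiv.ext fun x => ?_)⟩⟩
  set O := MulAction.orbit Q x
  let φ : Q →* Perm O := MulAction.toPermHom Q O
  have hOle : Nat.card O ≤ n := by
    exact (Nat.card_le_card_of_injective _ (Subtype.val_injective (p := fun y => y ∈ O))).trans_eq
      (Nat.card_fin n)
  obtain ⟨j, hj⟩ := hQ.card_orbit x
  change Nat.card O = _ at hj
  have hj1 : j ≤ 1 := by
    by_contra h
    have h1 : q ^ 2 ≤ q ^ j := Nat.pow_le_pow_right hq.pos (by omega)
    rw [← hj] at h1
    omega
  obtain ⟨i, hi⟩ := IsPGroup.iff_card.1 (hQ.of_surjective φ.rangeRestrict φ.rangeRestrict_surjective)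
  have hdvd : q ^ i ∣ (Nat.card O).factorial := by
    rw [← hi, ← Nat.card_perm]
    exact Subgroup.card_subgroup_dvd_card _
  have hi1 : i ≤ 1 := by
    by_contra h
    have h1 : q ^ 2 ∣ (Nat.card O).factorial := (pow_dvd_pow q (by omega)).trans hdvd
    rw [hj] at h1
    rcases Nat.le_one_iff_eq_zero_or_eq_one.1 hj1 with rfl | rfl
    · rw [pow_zero, Nat.factorial_one, Nat.dvd_one] at h1
      have := Nat.one_lt_pow two_ne_zero hq.one_lt
      omega
    · rw [pow_one, ← Nat.mul_factorial_pred hq.ne_zero, pow_two] at h1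
      have h2 := (hq.dvd_factorial).1 (Nat.dvd_of_mul_dvd_mul_left hq.pos h1)
      have := hq.pos
      omega
  have hc : IsCyclic φ.range := by
    rcases Nat.le_one_iff_eq_zero_or_eq_one.1 hi1 with rfl | rfl
    · rw [pow_zero] at hi
      haveI := (Nat.card_eq_one_iff_unique.1 hi).1
      exact isCyclic_of_subsingleton
    · rw [pow_one] at hi; exact isCyclic_of_prime_card hi
  haveI := IsCyclic.isMulCommutative (α := φ.range)
  have h := congrArg Subtype.val (mul_comm' (φ.rangeRestrict a) (φ.rangeRestrict b))
  simp only [Subgroup.coe_mul, MonoidHom.coe_rangeRestrict, ← map_mul] at h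
  have h' := congrArg (fun p : Perm O => (p ⟨x, MulAction.mem_orbit_self x⟩ : Fin n)) h
  exact h'

/-- Let n ≥ 5 and let G be a group of automorphisms of the alternating group of degree n containing all inner automorphisms. If p ≠ q are primes and G has no element of order pq, then every Sylow p-subgroup of G is abelian or every Sylow q-subgroup of G is abelian. -/
theorem result (n : ℕ) (hn : 5 ≤ n) (G : Subgroup (MulAut (alternatingGroup (Fin n))))
    (hG : (MulAut.conj : alternatingGroup (Fin n) →* MulAut (alternatingGroup (Fin n))).range ≤ G)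
    (p q : ℕ) [Fact p.Prime] [Fact q.Prime] (hpq : p ≠ q) (h : ∀ g : G, orderOf g ≠ p * q) :
    (∀ P : Sylow p G, IsMulCommutative (P : Subgroup G)) ∨ (∀ Q : Sylow q G, IsMulCommutative (Q : Subgroup G)) := by
  -- a Sylow subgroup for a large odd prime is abelian
  have habel : ∀ (r : ℕ) [Fact r.Prime], r ≠ 2 → n < r ^ 2 →
      ∀ R : Sylow r G, IsMulCommutative (R : Subgroup G) := by
    intro r _ hr hlt R
    have hodd : ∀ x : (R : Subgroup G), Odd (orderOf ((x : G) : MulAut (alternatingGroup (Fin n)))) := by
      intro x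
      obtain ⟨k, hk⟩ := (IsPGroup.iff_orderOf.1 R.2) x
      rw [Subgroup.orderOf_coe, Subgroup.orderOf_coe, hk]
      exact ((Fact.out : r.Prime).odd_of_ne_two hr).pow
    choose f hf using fun x : (R : Subgroup G) =>
      exists_perm_of_odd hn ((x : G) : MulAut (alternatingGroup (Fin n))) (hodd x)
    have hinj := conjNormal_injective (n := n) (by omega)
    let F : (R : Subgroup G) →* Perm (Fin n) := MonoidHom.mk' f (fun a b => hinj (by
      rw [map_mul, ← hf, ← hf, ← hf]; rfl))
    refine commute_of_small R.2 hlt F fun a b e => ?_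
    have e' : f a = f b := e
    exact Subtype.ext (Subtype.ext (by rw [hf a, hf b, e']))
  have hp := (Fact.out : p.Prime)
  have hq := (Fact.out : q.Prime)
  by_cases h1 : p ≠ 2 ∧ n < p ^ 2
  · exact Or.inl (habel p h1.1 h1.2)
  by_cases h2 : q ≠ 2 ∧ n < q ^ 2
  · exact Or.inr (habel q h2.1 h2.2)
  exfalso
  have hp2 : p ^ 2 ≤ n := by
    by_cases e : p = 2
    · rw [e]; omega
    · exact Nat.le_of_not_lt fun h => h1 ⟨e, h⟩
  have hq2 : q ^ 2 ≤ n := by
    by_cases e : q = 2
    · rw [e]; omega
    · exact Nat.le_of_not_lt fun h => h2 ⟨e, h⟩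
  -- an even permutation of order p q
  obtain ⟨g, hg⟩ : ∃ g : alternatingGroup (Fin n), orderOf g = p * q := by
    have key : ∀ a b : ℕ, a.Prime → b.Prime → a ≠ b → a ≠ 2 → a ^ 2 ≤ n → b ^ 2 ≤ n →
        ∃ g : alternatingGroup (Fin n), orderOf g = a * b := by
      intro a b ha hb hab ha2 han hbn
      obtain ⟨m, hsum, hmem, hsign, hlcm⟩ : ∃ m : Multiset ℕ, m.sum ≤ n ∧ (∀ x ∈ m, 2 ≤ x) ∧
          ((-1 : ℤˣ) ^ (m.sum + Multiset.card m) = 1) ∧ m.lcm = a * b := by
        have hao := ha.odd_of_ne_two ha2
        have ha3 : 3 ≤ a := by have := ha.two_le; omega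
        have hco : Nat.Coprime a b := (Nat.coprime_primes ha hb).2 hab
        by_cases hb2 : b = 2
        · subst hb2
          refine ⟨{a, 2, 2}, ?_, ?_, ?_, ?_⟩
          · simp only [Multiset.insert_eq_cons, Multiset.sum_cons, Multiset.sum_singleton]
            nlinarith
          · intro x hx; simp at hx; omega
          · obtain ⟨t, ht⟩ := hao
            refine Even.neg_one_pow ⟨t + 4, ?_⟩
            simp only [Multiset.insert_eq_cons, Multiset.sum_cons, Multiset.sum_singleton, Multiset.card_cons,
              Multiset.card_singleton]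
            omega
          · simp only [Multiset.insert_eq_cons, Multiset.lcm_cons, Multiset.lcm_singleton, normalize_eq,
              lcm_eq_nat_lcm, Nat.lcm_self]
            exact hco.lcm_eq_mul
        · have hbo := hb.odd_of_ne_two hb2
          have hb3 : 3 ≤ b := by have := hb.two_le; omega
          refine ⟨{a, b}, ?_, ?_, ?_, ?_⟩
          · simp only [Multiset.insert_eq_cons, Multiset.sum_cons, Multiset.sum_singleton]
            rcases Nat.le_total a b with hle | hle <;> nlinarith
          · intro x hx; simp at hx; omega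
          · obtain ⟨t, ht⟩ := hao
            obtain ⟨u, hu⟩ := hbo
            refine Even.neg_one_pow ⟨t + u + 2, ?_⟩
            simp only [Multiset.insert_eq_cons, Multiset.sum_cons, Multiset.sum_singleton, Multiset.card_cons,
              Multiset.card_singleton]
            omega
          · simp only [Multiset.insert_eq_cons, Multiset.lcm_cons, Multiset.lcm_singleton, normalize_eq,
              lcm_eq_nat_lcm]
            exact hco.lcm_eq_mul
      obtain ⟨g, hg⟩ := (Equiv.Perm.exists_with_cycleType_iff (α := Fin n) (m := m)).2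
        ⟨by rwa [Fintype.card_fin], hmem⟩
      refine ⟨⟨g, by rw [mem_alternatingGroup, sign_of_cycleType, hg]; exact hsign⟩, ?_⟩
      rw [← Subgroup.orderOf_coe]
      show orderOf g = a * b
      rw [← lcm_cycleType, hg, hlcm]
    by_cases e : p = 2
    · obtain ⟨g, hg⟩ := key q p hq hp hpq.symm (fun e' => hpq (e.trans e'.symm)) hq2 hp2
      exact ⟨g, by rw [hg, mul_comm]⟩
    · exact key p q hp hq hpq e hp2 hq2
  have hinjc : Function.Injective
      (MulAut.conj : alternatingGroup (Fin n) →* MulAut (alternatingGroup (Fin n))) := by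
    intro a b e
    refine Subtype.ext (conjNormal_injective (n := n) (by omega) ?_)
    refine MulEquiv.ext fun y => Subtype.ext ?_
    have := congrArg Subtype.val (DFunLike.congr_fun e y)
    simpa [MulAut.conjNormal_apply] using this
  refine h ⟨MulAut.conj g, hG ⟨g, rfl⟩⟩ ?_
  rw [← hg, ← Subgroup.orderOf_coe]
  exact orderOf_injective _ hinjc g

end Cfsg.Agent.S4231
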