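import Cfsg.Statements.S4234
import Mathlib
import Cfsg.Agent.Lib.Classical.SL2FourSylow
import Cfsg.Agent.Lib.Classical.Dickson.MaxList

set_option autoImplicit false
set_option linter.unusedSectionVars false
open Cfsg

namespace Cfsg.Agent.S4234

open Cfsg.Agent.Small Cfsg.Agent.Small.SL2C Cfsg.Agent.Classical

/-- Every non-normal subgroup has a maximal normaliser. -/
def Good (G : Type*) [Group G] : Prop :=
  ∀ H : Subgroup G, ¬ H.Normal → IsCoatom (Subgroup.normalizer (H : Set G))

section General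

variable {G K : Type*} [Group G] [Group K]

theorem coatom_comap (f : G →* K) (hf : Function.Surjective f) {M : Subgroup K} (hM : IsCoatom M) :
    IsCoatom (M.comap f) := by
  refine ⟨fun h => hM.1 ?_, fun X hX => ?_⟩
  · rw [← Subgroup.map_comap_eq_self_of_surjective hf M, h, Subgroup.map_top_of_surjective _ hf]
  · have hker : f.ker ≤ X := (Subgroup.ker_le_comap f M).trans hX.le
    have h1 : M < X.map f := by
      refine lt_of_le_of_ne ?_ fun e => hX.ne ?_
      · rw [← Subgroup.map_comap_eq_self_of_surjective hf M]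
        exact Subgroup.map_mono hX.le
      · rw [e, Subgroup.comap_map_eq_self hker]
    rw [← Subgroup.comap_map_eq_self hker, hM.2 _ h1, Subgroup.comap_top]

theorem Good.of_equiv (e : G ≃* K) (h : Good G) : Good K := by
  intro H hH
  have hn : ¬ (H.comap e.toMonoidHom).Normal := fun hn => hH (by
    have := hn.map e.toMonoidHom e.surjective
    rwa [Subgroup.map_comap_eq_self_of_surjective e.surjective] at this)
  have hc := coatom_comap e.symm.toMonoidHom e.symm.surjective (h _ hn)
  rw [Subgroup.comap_normalizer_eq_of_surjective _ e.symm.surjective] at hc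
  have he : (H.comap e.toMonoidHom).comap e.symm.toMonoidHom = H := by
    ext x; simp
  rwa [he] at hc

variable [Finite G] [Finite K]

/-- Lifting along a central extension by the unique involution. -/
theorem Good.lift (π : G →* K) (hπ : Function.Surjective π) (hZ : π.ker ≤ Subgroup.center G)
    (hk2 : Nat.card π.ker = 2) (hinv : ∀ x : G, x * x = 1 → x ∈ π.ker) (hK2 : 2 ∣ Nat.card K)
    [IsSimpleGroup K] (h : Good K) : Good G := by
  intro H hH
  by_cases hz : π.ker ≤ H
  · have he : H = (H.map π).comap π := (Subgroup.comap_map_eq_self hz).symm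
    have hn : ¬ (H.map π).Normal := fun hn => hH (he ▸ hn.comap π)
    rw [he, ← Subgroup.comap_normalizer_eq_of_surjective _ hπ]
    exact coatom_comap π hπ (h _ hn)
  have hodd : Odd (Nat.card H) := by
    rw [← Nat.not_even_iff_odd, even_iff_two_dvd]
    intro h2
    obtain ⟨x, hx⟩ := exists_prime_orderOf_dvd_card' (G := H) 2 h2
    have hx1 : (x : G) * x = 1 := by
      rw [← Subgroup.coe_mul, ← pow_two, ← hx, pow_orderOf_eq_one, Subgroup.coe_one]
    have hle : Subgroup.zpowers (x : G) = π.ker := by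
      refine Subgroup.eq_of_le_of_card_ge (Subgroup.zpowers_le.2 (hinv _ hx1)) ?_
      rw [hk2, Nat.card_zpowers, Subgroup.orderOf_coe, hx]
    exact hz (hle ▸ Subgroup.zpowers_le.2 x.2)
  have hinf : ∀ x ∈ H, x ∈ π.ker → x = 1 := by
    intro x hx hxk
    have h1 : orderOf (⟨x, hx⟩ : H) ∣ Nat.card H := orderOf_dvd_natCard _
    rw [Subgroup.orderOf_mk] at h1
    have h2 : orderOf x ∣ 2 := by
      rw [← hk2, ← Subgroup.orderOf_mk x hxk]; exact orderOf_dvd_natCard _
    exact orderOf_eq_one_iff.1 (Nat.eq_one_of_dvd_coprimes (Nat.coprime_two_right.2 hodd) h1 h2)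
  have key : ∀ g : G, π g ∈ Subgroup.normalizer ((H.map π : Subgroup K) : Set K) → ∀ y ∈ H, g * y * g⁻¹ ∈ H := by
    intro g hg y hy
    obtain ⟨y', hy', he⟩ := Subgroup.mem_map.1 ((Subgroup.mem_normalizer_iff.1 hg _).1 (Subgroup.mem_map_of_mem π hy))
    set d := y'⁻¹ * (g * y * g⁻¹) with hd
    have hdk : d ∈ π.ker := by simp [hd, MonoidHom.mem_ker, he, map_mul, map_inv, mul_assoc]
    have hy1 : y ^ Nat.card H = 1 := congrArg Subtype.val (pow_card_eq_one' (G := H) (x := ⟨y, hy⟩))
    have hy2 : y' ^ Nat.card H = 1 := congrArg Subtype.val (pow_card_eq_one' (G := H) (x := ⟨y', hy'⟩))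
    have h1 : d ^ Nat.card H = 1 := by
      have hc : Commute y' d := Subgroup.mem_center_iff.1 (hZ hdk) y'
      have h2 : (g * y * g⁻¹) ^ Nat.card H = 1 := by rw [conj_pow, hy1]; group
      rw [show g * y * g⁻¹ = y' * d by rw [hd]; group, hc.mul_pow, hy2, one_mul] at h2
      exact h2
    have h2 : orderOf d ∣ 2 := by
      rw [← hk2, ← Subgroup.orderOf_mk d hdk]; exact orderOf_dvd_natCard _
    have hd1 : d = 1 := orderOf_eq_one_iff.1
      (Nat.eq_one_of_dvd_coprimes (Nat.coprime_two_right.2 hodd) (orderOf_dvd_of_pow_eq_one h1) h2)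
    rw [hd, inv_mul_eq_one] at hd1
    exact hd1 ▸ hy'
  have hN : Subgroup.normalizer (H : Set G) = (Subgroup.normalizer ((H.map π : Subgroup K) : Set K)).comap π := by
    refine le_antisymm ?_ fun g hg => ?_
    · exact Subgroup.map_le_iff_le_comap.1 (Subgroup.le_normalizer_map π)
    · rw [Subgroup.mem_normalizer_iff]
      refine fun y => ⟨key g hg y, fun hy => ?_⟩
      have := key g⁻¹ (by rw [map_inv]; exact inv_mem hg) _ hy
      simpa [mul_assoc] using this
  rw [hN]
  refine coatom_comap π hπ (h _ fun hn => ?_)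
  rcases hn.eq_bot_or_eq_top with e | e
  · apply hH
    rw [show H = ⊥ from (Subgroup.eq_bot_iff_forall _).2 fun x hx => hinf x hx
      ((Subgroup.map_eq_bot_iff _).1 e hx)]
    exact inferInstance
  · have hd := Subgroup.card_map_dvd H π
    rw [e, Subgroup.card_top] at hd
    exact (Nat.not_even_iff_odd.2 hodd) (even_iff_two_dvd.2 (hK2.trans hd))

theorem exists_coatom_ge {N : Subgroup G} (hN : N ≠ ⊤) : ∃ M, IsCoatom M ∧ N ≤ M :=
  (eq_top_or_exists_le_coatom N).resolve_left hN

theorem normalizer_conj (H : Subgroup G) (g : G) :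
    Nat.card (Subgroup.normalizer ((H.map (MulAut.conj g).toMonoidHom : Subgroup G) : Set G)) =
      Nat.card (Subgroup.normalizer (H : Set G)) := by
  rw [← Subgroup.map_normalizer_eq_of_bijective H (f := (MulAut.conj g).toMonoidHom) (MulAut.conj g).bijective]
  exact Subgroup.card_map_of_injective (MulAut.conj g).injective

theorem normal_of_index_two_sub {R M : Subgroup G} (hle : R ≤ M) (hc : Nat.card M = 2 * Nat.card R) :
    M ≤ Subgroup.normalizer (R : Set G) := by
  refine (Subgroup.normal_subgroupOf_iff_le_normalizer hle).1 (Subgroup.normal_of_index_eq_two ?_)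
  have h := (R.subgroupOf M).card_mul_index
  rw [Nat.card_congr (Subgroup.subgroupOfEquivOfLe hle).toEquiv, hc, mul_comm] at h
  exact Nat.eq_of_mul_eq_mul_right Nat.card_pos h

end General

instance fact13 : Fact (Nat.Prime 13) := ⟨by norm_num⟩

local notation "L" => Matrix.SpecialLinearGroup (Fin 2) (ZMod 13)
local notation "P" => Matrix.ProjectiveSpecialLinearGroup (Fin 2) (ZMod 13)

theorem two_ne : (2 : ZMod 13) ≠ 0 := by decide

theorem cardF : Fintype.card (ZMod 13) = 13 := ZMod.card 13

theorem cardP : Nat.card P = 1092 := by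
  have h := SL2Four.card_SL_eq (F := ZMod 13) two_ne
  have h' := card_SL2 (F := ZMod 13)
  rw [h, cardF] at h'
  rw [show (13 : ℕ) * (13 ^ 2 - 1) = 2184 by norm_num] at h'
  omega

theorem simpleP : IsSimpleGroup P :=
  Matrix.ProjectiveSpecialLinearGroup.rank_two_simple (by rw [Nat.card_eq_fintype_card, cardF]; norm_num)

theorem coatom_card {M : Subgroup P} (hM : IsCoatom M) :
    Nat.card M = 12 ∨ Nat.card M = 14 ∨ Nat.card M = 78 := by
  have hdvd : Nat.card M ∣ 1092 := cardP ▸ Subgroup.card_subgroup_dvd_card M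
  rcases Dickson.coatom_cases hM (by rw [cardF]; norm_num) with
    ⟨k, hk, hc, -⟩ | hc | ⟨-, ⟨e⟩⟩ | ⟨-, ⟨e⟩⟩ | ⟨-, ⟨e⟩⟩ | ⟨g, S, hS, -⟩
  · rw [cardF] at hk
    norm_num at hk
    omega
  · rw [cardF] at hc
    norm_num at hc
    omega
  · left
    rw [Nat.card_congr e.toEquiv, nat_card_alternatingGroup, Nat.card_fin]; rfl
  · rw [Nat.card_congr e.toEquiv, Nat.card_perm, Nat.card_fin] at hdvd
    norm_num [Nat.factorial] at hdvd
  · rw [Nat.card_congr e.toEquiv, nat_card_alternatingGroup, Nat.card_fin] at hdvd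
    norm_num [Nat.factorial] at hdvd
  · refine absurd (eq_top_iff.2 fun x _ => ?_) hS
    rw [← ZMod.natCast_zmod_val x]
    exact natCast_mem S _

theorem norm_ne_top {H : Subgroup P} (h0 : H ≠ ⊥) (h1 : H ≠ ⊤) : Subgroup.normalizer (H : Set P) ≠ ⊤ := by
  intro e
  haveI := simpleP
  rcases (Subgroup.normalizer_eq_top_iff.1 e).eq_bot_or_eq_top with h | h
  · exact h0 h
  · exact h1 h

/-- The normaliser is maximal as soon as it is big. -/
theorem coatom_of_dvd {H : Subgroup P} (h0 : H ≠ ⊥) (h1 : H ≠ ⊤)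
    (h : 12 ∣ Nat.card (Subgroup.normalizer (H : Set P)) ∨ 14 ∣ Nat.card (Subgroup.normalizer (H : Set P)) ∨
      78 ∣ Nat.card (Subgroup.normalizer (H : Set P))) :
    IsCoatom (Subgroup.normalizer (H : Set P)) := by
  obtain ⟨M, hM, hle⟩ := exists_coatom_ge (norm_ne_top h0 h1)
  have hd := Subgroup.card_dvd_of_le hle
  have hpos : 0 < Nat.card (Subgroup.normalizer (H : Set P)) := Nat.card_pos
  have : Nat.card M ≤ Nat.card (Subgroup.normalizer (H : Set P)) := by
    rcases coatom_card hM with e | e | e <;> rcases h with h' | h' | h' <;>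
      first
        | (exfalso; have := h'.trans hd; rw [e] at this; omega)
        | (rw [e]; exact Nat.le_of_dvd hpos h')
  rwa [Subgroup.eq_of_le_of_card_ge hle this]

theorem prime_normalizer {ℓ d : ℕ} (hℓ : ℓ.Prime) (hℓ2 : ℓ ≠ 2) (hfl : (Nat.card L).factorization ℓ = 1)
    (hfp : (Nat.card P).factorization ℓ = 1) (hcase : (ℓ ∣ 12 ∧ d = 12) ∨ (ℓ ∣ 14 ∧ d = 14))
    {R : Subgroup P} (hR : Nat.card R = ℓ) : d ∣ Nat.card (Subgroup.normalizer (R : Set P)) := by
  haveI := Fact.mk hℓ
  let S : Sylow ℓ L := Classical.arbitrary _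
  have hS : Nat.card (Subgroup.normalizer ((S : Subgroup L) : Set L)) = 2 * d := by
    rcases hcase with ⟨h, rfl⟩ | ⟨h, rfl⟩
    · exact ((sylow_odd ℓ hℓ2 S).1 (by rw [cardF]; exact h)).2.2.trans (by rw [cardF])
    · exact ((sylow_odd ℓ hℓ2 S).2 (by rw [cardF]; exact h)).2.2.trans (by rw [cardF])
  set R₀ := (S : Subgroup L).map PSL2.pr with hR₀
  have hker : PSL2.pr.ker ≤ Subgroup.normalizer ((S : Subgroup L) : Set L) := by
    rw [SL2Four.ker_pr]; exact Subgroup.center_le_normalizer _
  have hk2 : Nat.card (PSL2.pr (F := ZMod 13)).ker = 2 := by rw [SL2Four.ker_pr, center_card_odd two_ne]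
  have hd : d ∣ Nat.card (Subgroup.normalizer (R₀ : Set P)) := by
    refine dvd_trans ?_ (Subgroup.card_dvd_of_le (Subgroup.le_normalizer_map (H := (S : Subgroup L)) PSL2.pr))
    have h : Nat.card ↥(((Subgroup.normalizer ((S : Subgroup L) : Set L)).map PSL2.pr).comap PSL2.pr) =
        Nat.card ↥((Subgroup.normalizer ((S : Subgroup L) : Set L)).map PSL2.pr) * Nat.card (PSL2.pr (F := ZMod 13)).ker :=
      SL2Four.card_preimage PSL2.pr PSL2.pr_surjective
        (fun y => y ∈ (Subgroup.normalizer ((S : Subgroup L) : Set L)).map PSL2.pr)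
    rw [Subgroup.comap_map_eq_self hker, hS, hk2] at h
    exact ⟨1, by omega⟩
  have hR₀c : Nat.card R₀ = ℓ := by
    have := (S.mapSurjective PSL2.pr_surjective).card_eq_multiplicity
    rwa [hfp, pow_one] at this
  have hR' : Nat.card R = ℓ ^ (Nat.card P).factorization ℓ := by rw [hR, hfp, pow_one]
  obtain ⟨g, hg⟩ := MulAction.exists_smul_eq P (S.mapSurjective PSL2.pr_surjective) (Sylow.ofCard R hR')
  have he : R = R₀.map (MulAut.conj g).toMonoidHom := by
    have := congrArg (fun T : Sylow ℓ P => (T : Subgroup P)) hg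
    simp only [Sylow.coe_subgroup_smul, Sylow.coe_ofCard] at this
    exact this.symm
  rw [he, normalizer_conj]
  exact hd

theorem fact_eq (n ℓ e : ℕ) (hℓ : ℓ.Prime) (hn : n ≠ 0) (h1 : ℓ ^ e ∣ n) (h2 : ¬ ℓ ^ (e + 1) ∣ n) :
    n.factorization ℓ = e := by
  have a := (hℓ.pow_dvd_iff_le_factorization hn).1 h1
  have b : ¬ e + 1 ≤ n.factorization ℓ := fun hb => h2 ((hℓ.pow_dvd_iff_le_factorization hn).2 hb)
  omega

theorem fact_small : (∀ ℓ : ℕ, ℓ = 3 ∨ ℓ = 7 ∨ ℓ = 13 → (1092 : ℕ).factorization ℓ = 1 ∧ (2184 : ℕ).factorization ℓ = 1) ∧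
    (1092 : ℕ).factorization 2 = 2 := by
  have h := fact_eq
  refine ⟨fun ℓ hℓ => ?_, h _ 2 2 Nat.prime_two (by norm_num) (by norm_num) (by norm_num)⟩
  rcases hℓ with rfl | rfl | rfl <;>
    exact ⟨h _ _ 1 (by norm_num) (by norm_num) (by norm_num) (by norm_num),
      h _ _ 1 (by norm_num) (by norm_num) (by norm_num) (by norm_num)⟩

theorem cardL : Nat.card L = 2184 := by rw [card_SL2, cardF]; norm_num

theorem two_case {R : Subgroup P} (hR : Nat.card R = 2) : 12 ∣ Nat.card (Subgroup.normalizer (R : Set P)) := by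
  haveI : Fact (Nat.Prime 2) := ⟨Nat.prime_two⟩
  haveI : IsCyclic R := isCyclic_of_prime_card hR
  obtain ⟨t, ht⟩ := IsCyclic.exists_generator (α := R)
  have ho : orderOf (t : P) = 2 := by
    rw [Subgroup.orderOf_coe, orderOf_eq_card_of_forall_mem_zpowers ht, hR]
  obtain ⟨x, hx⟩ := PSL2.pr_surjective (t : P)
  have htr : x.1.trace = 0 := (SL2Four.orderOf_pr_eq_two_iff two_ne).1 (hx ▸ ho)
  have hns := SL2Four.not_isSc_of_trace_zero two_ne htr
  have hN := (card_normalizer (SL2Four.trace_sq_ne_four two_ne htr)).1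
  rw [htr, (SL2Four.sol_zero two_ne).1 (by rw [cardF]), cardF] at hN
  have hle : (Subgroup.normalizer (tor x : Set L)).map PSL2.pr ≤ Subgroup.normalizer (R : Set P) := by
    refine le_trans ?_ (Subgroup.centralizer_le_normalizer _)
    rintro _ ⟨s, hs, rfl⟩
    have hst : Commute (PSL2.pr s) (PSL2.pr x) := by
      rcases normalizer_cases (SL2Four.trace_sq_ne_four two_ne htr) hs with h | h
      · exact (congrArg PSL2.pr (tor_comm hns s h x (self_mem_tor x))).trans (map_mul _ _ _) |> fun e => by
          show _ = _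
          rw [← map_mul, ← map_mul, tor_comm hns s h x (self_mem_tor x)]
      · show _ = _
        rw [← map_mul, h, map_mul, SL2Four.pr_inv_of_trace_zero htr]
    rw [Subgroup.mem_centralizer_iff]
    intro y hy
    obtain ⟨i, hi⟩ := Subgroup.mem_zpowers_iff.1 (ht ⟨y, hy⟩)
    have hy' : y = PSL2.pr x ^ i := by
      rw [hx]; exact (congrArg Subtype.val hi).symm
    rw [hy']
    exact (hst.zpow_right i).eq.symm
  refine dvd_trans ?_ (Subgroup.card_dvd_of_le hle)
  have hker : PSL2.pr.ker ≤ Subgroup.normalizer (tor x : Set L) := by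
    rw [SL2Four.ker_pr]; exact Subgroup.center_le_normalizer _
  have h : Nat.card ↥(((Subgroup.normalizer (tor x : Set L)).map PSL2.pr).comap PSL2.pr) =
      Nat.card ↥((Subgroup.normalizer (tor x : Set L)).map PSL2.pr) * Nat.card (PSL2.pr (F := ZMod 13)).ker :=
    SL2Four.card_preimage PSL2.pr PSL2.pr_surjective
      (fun y => y ∈ (Subgroup.normalizer (tor x : Set L)).map PSL2.pr)
  rw [Subgroup.comap_map_eq_self hker, hN, SL2Four.ker_pr, center_card_odd two_ne] at h
  exact ⟨1, by omega⟩

theorem four_case {R : Subgroup P} (hR : Nat.card R = 4) : 12 ∣ Nat.card (Subgroup.normalizer (R : Set P)) := by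
  haveI : Fact (Nat.Prime 2) := ⟨Nat.prime_two⟩
  have hR' : Nat.card R = 2 ^ (Nat.card P).factorization 2 := by rw [hR, cardP, fact_small.2]; norm_num
  have hV : IsKleinFour (R : Subgroup P) := by
    have := SL2Four.sylow_psl_klein two_ne (Or.inr (by rw [cardF])) (Sylow.ofCard R hR')
    rwa [Sylow.coe_ofCard] at this
  have h := SL2Four.card_klein_of_all_conj R fun W hW =>
    SL2Four.klein_conj_of_mod_eight two_ne (Or.inr (by rw [cardF])) R W hV hW
  rw [← SL2Four.twelve_mul_card_klein (F := ZMod 13) two_ne, mul_comm 12] at h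
  rcases Nat.eq_zero_or_pos (Nat.card {W : Subgroup P // IsKleinFour W}) with e | e
  · haveI : Nonempty {W : Subgroup P // IsKleinFour W} := ⟨⟨R, hV⟩⟩
    exact absurd e Nat.card_pos.ne'
  · exact ⟨1, by rw [Nat.eq_of_mul_eq_mul_left e h]⟩

theorem thirteen_normalizer {U : Subgroup P} (hU : Nat.card U = 13) :
    78 ∣ Nat.card (Subgroup.normalizer (U : Set P)) := by
  haveI : Fact (Nat.Prime 13) := fact13
  have hU' : Nat.card U = 13 ^ (Nat.card P).factorization 13 := by
    rw [hU, cardP, (fact_small.1 13 (by simp)).1, pow_one]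
  let S : Sylow 13 P := Sylow.ofCard U hU'
  have hidx : Nat.card (Sylow 13 P) = (Subgroup.normalizer (U : Set P)).index := by
    rw [S.card_eq_index_normalizer]
    rfl
  have hd : Nat.card (Sylow 13 P) ∣ 84 := by
    refine S.card_dvd_index.trans (dvd_of_eq ?_)
    have h := (S : Subgroup P).card_mul_index
    rw [Sylow.coe_ofCard, hU, cardP] at h
    rw [Sylow.coe_ofCard]
    omega
  have h14 : Nat.card (Sylow 13 P) = 14 := by
    have hm := card_sylow_modEq_one 13 P
    have h1 : Nat.card (Sylow 13 P) ≠ 1 := by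
      intro e
      refine norm_ne_top (H := U) (fun e' => ?_) (fun e' => ?_) (Subgroup.index_eq_one.1 (hidx ▸ e))
      · rw [e', Subgroup.card_bot] at hU; norm_num at hU
      · rw [e', Subgroup.card_top, cardP] at hU; norm_num at hU
    have := Nat.le_of_dvd (by norm_num) hd
    unfold Nat.ModEq at hm
    generalize Nat.card (Sylow 13 P) = n at *
    interval_cases n <;> omega
  have h := (Subgroup.normalizer (U : Set P)).card_mul_index
  rw [← hidx, h14, cardP] at h
  exact ⟨1, by omega⟩

theorem good_P : Good P := by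
  intro H hH
  have h0 : H ≠ ⊥ := fun e => hH (e ▸ inferInstance)
  have h1 : H ≠ ⊤ := fun e => hH (e ▸ inferInstance)
  obtain ⟨M, hM, hHM⟩ := exists_coatom_ge h1
  refine coatom_of_dvd h0 h1 ?_
  set N := Subgroup.normalizer (H : Set P) with hN
  have hdM := Subgroup.card_dvd_of_le hHM
  have hpos : 0 < Nat.card H := Nat.card_pos
  have hne1 : Nat.card H ≠ 1 := fun e => h0 (Subgroup.card_eq_one.1 e)
  have hfull : Nat.card H = Nat.card M → H = M := fun e => Subgroup.eq_of_le_of_card_ge hHM e.ge
  have hself : Nat.card H ∣ Nat.card N := Subgroup.card_dvd_of_le Subgroup.le_normalizer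
  have h3 : ∀ R : Subgroup P, Nat.card R = 3 → 12 ∣ Nat.card (Subgroup.normalizer (R : Set P)) := fun R hR =>
    prime_normalizer Nat.prime_three (by norm_num) (by rw [cardL]; exact (fact_small.1 3 (by simp)).2)
      (by rw [cardP]; exact (fact_small.1 3 (by simp)).1) (Or.inl ⟨by norm_num, rfl⟩) hR
  have h7 : ∀ R : Subgroup P, Nat.card R = 7 → 14 ∣ Nat.card (Subgroup.normalizer (R : Set P)) := fun R hR =>
    prime_normalizer (by norm_num) (by norm_num) (by rw [cardL]; exact (fact_small.1 7 (by simp)).2)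
      (by rw [cardP]; exact (fact_small.1 7 (by simp)).1) (Or.inr ⟨by norm_num, rfl⟩) hR
  by_cases h13 : 13 ∣ Nat.card H
  · -- subgroups of the Borel group
    haveI : Fact (Nat.Prime 13) := fact13
    have hM78 : Nat.card M = 78 := by
      rcases coatom_card hM with e | e | e
      all_goals first | exact e | (exfalso; have := h13.trans hdM; rw [e] at this; norm_num at this)
    obtain ⟨u, hu⟩ := exists_prime_orderOf_dvd_card' (G := H) 13 h13
    set U := Subgroup.zpowers (u : P) with hUdef
    have hUc : Nat.card U = 13 := by rw [hUdef, Nat.card_zpowers, Subgroup.orderOf_coe, hu]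
    have hUH : U ≤ H := Subgroup.zpowers_le.2 u.2
    have hUM : U ≤ M := hUH.trans hHM
    have hMN : M ≤ Subgroup.normalizer (U : Set P) := by
      have hU' : Nat.card (U.subgroupOf M) = 13 ^ (Nat.card M).factorization 13 := by
        rw [Nat.card_congr (Subgroup.subgroupOfEquivOfLe hUM).toEquiv, hUc, hM78,
          fact_eq 78 13 1 fact13.out (by norm_num) (by norm_num) (by norm_num), pow_one]
      let S : Sylow 13 M := Sylow.ofCard _ hU'
      have hone : Nat.card (Sylow 13 M) = 1 := by
        have hd : Nat.card (Sylow 13 M) ∣ 6 := by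
          refine S.card_dvd_index.trans (dvd_of_eq ?_)
          have h := (S : Subgroup M).card_mul_index
          rw [Sylow.coe_ofCard, Nat.card_congr (Subgroup.subgroupOfEquivOfLe hUM).toEquiv, hUc, hM78] at h
          rw [Sylow.coe_ofCard]
          omega
        have hm := card_sylow_modEq_one 13 M
        have := Nat.le_of_dvd (by norm_num) hd
        unfold Nat.ModEq at hm
        generalize Nat.card (Sylow 13 M) = n at *
        interval_cases n <;> omega
      haveI : Subsingleton (Sylow 13 M) := (Nat.card_eq_one_iff_unique.1 hone).1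
      have hn := S.normal_of_subsingleton
      rw [Sylow.coe_ofCard] at hn
      exact (Subgroup.normal_subgroupOf_iff_le_normalizer hUM).1 hn
    have hNU : Nat.card (Subgroup.normalizer (U : Set P)) = 78 := by
      have hne : Subgroup.normalizer (U : Set P) ≠ ⊤ := norm_ne_top
        (fun e => by rw [e, Subgroup.card_bot] at hUc; norm_num at hUc)
        (fun e => by rw [e, Subgroup.card_top, cardP] at hUc; norm_num at hUc)
      rw [← (hM.le_iff.1 hMN).resolve_left hne] at hM78
      exact hM78
    -- the centraliser of `U` in `M` is `U`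
    have hcent : ∀ x ∈ M, (∀ y ∈ U, y * x = x * y) → x ∈ U := by
      set C := M ⊓ Subgroup.centralizer (U : Set P) with hC
      have hUC : U ≤ C := le_inf hUM (by
        rw [Subgroup.le_centralizer_iff_isMulCommutative]; infer_instance)
      have hCd : Nat.card C ∣ 78 := hM78 ▸ Subgroup.card_dvd_of_le inf_le_left
      have hC13 : 13 ∣ Nat.card C := (dvd_of_eq hUc.symm).trans (Subgroup.card_dvd_of_le hUC)
      have hno : ∀ (ℓ : ℕ), ℓ.Prime → ℓ = 2 ∨ ℓ = 3 → ¬ ℓ ∣ Nat.card C := by
        intro ℓ hℓ hℓc hd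
        haveI := Fact.mk hℓ
        obtain ⟨x, hx⟩ := exists_prime_orderOf_dvd_card' (G := C) ℓ hd
        set R := Subgroup.zpowers (x : P)
        have hRc : Nat.card R = ℓ := by rw [Nat.card_zpowers, Subgroup.orderOf_coe, hx]
        have hR12 : 12 ∣ Nat.card (Subgroup.normalizer (R : Set P)) := by
          rcases hℓc with rfl | rfl
          · exact two_case hRc
          · exact h3 R hRc
        have hURn : U ≤ Subgroup.normalizer (R : Set P) := by
          refine le_trans ?_ (Subgroup.centralizer_le_normalizer _)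
          intro y hy
          rw [Subgroup.mem_centralizer_iff]
          intro r hr
          obtain ⟨i, rfl⟩ := Subgroup.mem_zpowers_iff.1 hr
          have hc : Commute y (x : P) := Subgroup.mem_centralizer_iff.1 (Subgroup.mem_inf.1 x.2).2 y hy
          exact (hc.zpow_right i).eq.symm
        have h13' : 13 ∣ Nat.card (Subgroup.normalizer (R : Set P)) := (dvd_of_eq hUc.symm).trans (Subgroup.card_dvd_of_le hURn)
        obtain ⟨M', hM', hle⟩ := exists_coatom_ge (norm_ne_top (H := R)
          (fun e => by rw [e, Subgroup.card_bot] at hRc; exact hℓ.ne_one hRc.symm)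
          (fun e => by rw [e, Subgroup.card_top, cardP] at hRc; subst hRc; norm_num at hℓ))
        have ha := hR12.trans (Subgroup.card_dvd_of_le hle)
        have hb := h13'.trans (Subgroup.card_dvd_of_le hle)
        rcases coatom_card hM' with e | e | e <;> rw [e] at ha hb <;> omega
      have hC13' : Nat.card C = 13 := by
        obtain ⟨c, hc⟩ := hC13
        have hc6 : c ∣ 6 := Nat.dvd_of_mul_dvd_mul_left (by norm_num : 0 < 13) (hc ▸ hCd)
        by_contra hne
        have hc1 : c ≠ 1 := fun e => hne (by rw [hc, e, mul_one])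
        obtain ⟨ℓ, hℓ, hℓd⟩ := Nat.exists_prime_and_dvd hc1
        have h6 : ℓ ∣ 2 * 3 := hℓd.trans hc6
        refine hno ℓ hℓ ?_ (hℓd.trans (hc ▸ dvd_mul_left c 13))
        rcases hℓ.dvd_mul.1 h6 with h | h
        · exact Or.inl ((Nat.prime_dvd_prime_iff_eq hℓ Nat.prime_two).1 h)
        · exact Or.inr ((Nat.prime_dvd_prime_iff_eq hℓ Nat.prime_three).1 h)
      intro x hx hxc
      rw [Subgroup.eq_of_le_of_card_ge hUC (by rw [hC13', hUc])]
      exact Subgroup.mem_inf.2 ⟨hx, Subgroup.mem_centralizer_iff.2 hxc⟩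
    have hnorm : M ≤ N := by
      intro m hm
      rw [hN, Subgroup.mem_normalizer_iff]
      have hstep : ∀ m ∈ M, ∀ y ∈ H, m * y * m⁻¹ ∈ H := by
        intro m hm y hy
        have hd : m * y * m⁻¹ * y⁻¹ ∈ U := by
          refine hcent _ (mul_mem (mul_mem (mul_mem hm (hHM hy)) (inv_mem hm)) (inv_mem (hHM hy))) fun z hz => ?_
          have haut : ∀ a ∈ M, ∃ i : ℤ, ∀ z ∈ U, a * z * a⁻¹ = z ^ i := by
            intro a ha
            obtain ⟨i, hi⟩ := Subgroup.mem_zpowers_iff.1
              ((Subgroup.mem_normalizer_iff.1 (hMN ha) _).1 (Subgroup.mem_zpowers (u : P)))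
            refine ⟨i, fun z hz => ?_⟩
            obtain ⟨j, rfl⟩ := Subgroup.mem_zpowers_iff.1 hz
            rw [← conj_zpow, ← hi, ← zpow_mul, ← zpow_mul, mul_comm]
          obtain ⟨i, hi⟩ := haut m hm
          obtain ⟨j, hj⟩ := haut y (hHM hy)
          have hUmem : ∀ k : ℤ, ∀ z ∈ U, z ^ k ∈ U := fun k z hz => zpow_mem hz k
          -- the two automorphisms commute
          have h1 : ∀ w ∈ U, m * y * w * (m * y)⁻¹ = (w ^ j) ^ i := fun w hw => by
            rw [show m * y * w * (m * y)⁻¹ = m * (y * w * y⁻¹) * m⁻¹ by group, hj w hw, hi _ (hUmem j w hw)]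
          have h2 : ∀ w ∈ U, y * m * w * (y * m)⁻¹ = (w ^ j) ^ i := fun w hw => by
            rw [show y * m * w * (y * m)⁻¹ = y * (m * w * m⁻¹) * y⁻¹ by group, hi w hw, hj _ (hUmem i w hw),
              ← zpow_mul, ← zpow_mul, mul_comm]
          set w := (y * m)⁻¹ * z * (y * m) with hw
          have hwU : w ∈ U := by
            have := (Subgroup.mem_normalizer_iff.1 (inv_mem (hMN (mul_mem (hHM hy) hm))) z).1 hz
            rwa [inv_inv] at this
          have e : m * y * w * (m * y)⁻¹ = z := by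
            rw [h1 w hwU, ← h2 w hwU, hw]; group
          calc z * (m * y * m⁻¹ * y⁻¹) = (m * y * w * (m * y)⁻¹) * (m * y * m⁻¹ * y⁻¹) := by rw [e]
            _ = (m * y * m⁻¹ * y⁻¹) * z := by rw [hw]; group
        have := mul_mem (hUH hd) hy
        simpa [mul_assoc] using this
      refine fun y => ⟨hstep m hm y, fun hy => ?_⟩
      simpa [mul_assoc] using hstep m⁻¹ (inv_mem hm) _ hy
    exact Or.inr (Or.inr (hM78 ▸ Subgroup.card_dvd_of_le hnorm))
  by_cases h7d : 7 ∣ Nat.card H
  · rcases coatom_card hM with e | e | e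
    · exfalso; have := h7d.trans hdM; rw [e] at this; norm_num at this
    · have hH14 : Nat.card H = 7 ∨ Nat.card H = 14 := by
        rw [e] at hdM
        have := Nat.le_of_dvd (by norm_num) hdM
        generalize Nat.card H = n at *
        interval_cases n <;> first | omega | simp
      rcases hH14 with hc | hc
      · exact Or.inr (Or.inl (h7 H hc))
      · exact Or.inr (Or.inl (hc ▸ hself))
    · exfalso; have := h7d.trans hdM; rw [e] at this; norm_num at this
  have hsmall : Nat.card H = 2 ∨ Nat.card H = 3 ∨ Nat.card H = 4 ∨ Nat.card H = 6 ∨ Nat.card H = 12 := by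
    have hd12 : Nat.card H ∣ 12 := by
      have hP' : Nat.card H ∣ 12 * 91 := by
        rw [show 12 * 91 = 1092 by norm_num, ← cardP]
        exact Subgroup.card_subgroup_dvd_card H
      refine Nat.Coprime.dvd_of_dvd_mul_right ?_ hP'
      rw [show (91 : ℕ) = 7 * 13 by norm_num]
      exact Nat.Coprime.mul_right (((by norm_num : Nat.Prime 7).coprime_iff_not_dvd.2 h7d).symm)
        (((by norm_num : Nat.Prime 13).coprime_iff_not_dvd.2 h13).symm)
    have := Nat.le_of_dvd (by norm_num) hd12
    generalize Nat.card H = n at *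
    interval_cases n <;> omega
  rcases hsmall with hc | hc | hc | hc | hc
  · exact Or.inl (two_case hc)
  · exact Or.inl (h3 H hc)
  · exact Or.inl (four_case hc)
  · haveI : Fact (Nat.Prime 3) := ⟨Nat.prime_three⟩
    obtain ⟨x, hx⟩ := exists_prime_orderOf_dvd_card' (G := H) 3 (by rw [hc]; norm_num)
    set R := Subgroup.zpowers (x : P)
    have hRc : Nat.card R = 3 := by rw [Nat.card_zpowers, Subgroup.orderOf_coe, hx]
    have hle : H ≤ Subgroup.normalizer (R : Set P) :=
      normal_of_index_two_sub (Subgroup.zpowers_le.2 x.2) (by rw [hc, hRc])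
    obtain ⟨M', hM', hle'⟩ := exists_coatom_ge (norm_ne_top (H := R)
      (fun e => by rw [e, Subgroup.card_bot] at hRc; norm_num at hRc)
      (fun e => by rw [e, Subgroup.card_top, cardP] at hRc; norm_num at hRc))
    have h12 := (h3 R hRc).trans (Subgroup.card_dvd_of_le hle')
    have e : Nat.card M' = 12 := by
      rcases coatom_card hM' with e | e | e
      all_goals first | exact e | (exfalso; rw [e] at h12; norm_num at h12)
    have := normal_of_index_two_sub (hle.trans hle') (by rw [e, hc])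
    exact Or.inl (e ▸ Subgroup.card_dvd_of_le this)
  · exact Or.inl (hc ▸ hself)

theorem good_L : Good L := by
  haveI := simpleP
  refine good_P.lift (PSL2.pr (F := ZMod 13)) PSL2.pr_surjective ?_ ?_ ?_ ?_
  · rw [SL2Four.ker_pr]
  · rw [SL2Four.ker_pr, center_card_odd two_ne]
  · intro x hx
    rw [SL2Four.ker_pr, mem_center_iff]
    rcases SL2Four.eq_pm_one_of_sq two_ne hx with h | h
    · exact ⟨1, by simp [h]⟩
    · exact ⟨-1, by simp [h]⟩
  · rw [cardP]; norm_num

theorem prod_case {K S : Type*} [Group K] [CommGroup S] [Finite K] [Finite S] (hK : Good K)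
    (hKS : (Nat.card K).Coprime (Nat.card S)) : Good (K × S) := by
  intro H hH
  have hsplit : ∀ k : K, ∀ s : S, (k, s) ∈ H → (k, (1 : S)) ∈ H ∧ ((1 : K), s) ∈ H := by
    intro k s h
    obtain ⟨u, hu1, hu2⟩ := Nat.chineseRemainder hKS 1 0
    have hk : k ^ u = k := by
      rw [← pow_mod_natCard, hu1, pow_mod_natCard, pow_one]
    have hs : s ^ u = 1 := by
      rw [← pow_mod_natCard, hu2, pow_mod_natCard, pow_zero]
    have h1 : (k, (1 : S)) ∈ H := by
      have := H.pow_mem h u
      rwa [Prod.pow_mk, hk, hs] at this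
    exact ⟨h1, by simpa using H.mul_mem (H.inv_mem h1) h⟩
  have hmem : ∀ (k : K) (s : S), (k, s) ∈ H ↔ k ∈ H.map (MonoidHom.fst K S) ∧ ((1 : K), s) ∈ H := by
    intro k s
    constructor
    · exact fun h => ⟨⟨(k, s), h, rfl⟩, (hsplit k s h).2⟩
    · rintro ⟨⟨⟨k', s'⟩, h', rfl⟩, hs⟩
      simpa using H.mul_mem (hsplit _ _ h').1 hs
  have hN : Subgroup.normalizer (H : Set (K × S)) =
      (Subgroup.normalizer ((H.map (MonoidHom.fst K S) : Subgroup K) : Set K)).comap (MonoidHom.fst K S) := by
    refine le_antisymm (Subgroup.map_le_iff_le_comap.1 (Subgroup.le_normalizer_map _)) fun x hx => ?_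
    rw [Subgroup.mem_normalizer_iff]
    rintro ⟨k, s⟩
    rw [show x * (k, s) * x⁻¹ = (x.1 * k * x.1⁻¹, s) from Prod.ext rfl (by simp [mul_comm x.2])]
    exact ((hmem k s).trans (and_congr_left fun _ => Subgroup.mem_normalizer_iff.1 hx k)).trans (hmem _ s).symm
  have hn : ¬ (H.map (MonoidHom.fst K S)).Normal := fun h => hH (Subgroup.normalizer_eq_top_iff.1 (by
    rw [hN, Subgroup.normalizer_eq_top_iff.2 h, Subgroup.comap_top]))
  rw [hN]
  exact coatom_comap _ (fun k => ⟨(k, 1), rfl⟩) (hK _ hn)

/-- Let K be isomorphic to PSL(2, 13) or to SL(2, 13) and let S be a finite abelian group of order coprime to the order of K. Then in the direct product K × S every subgroup that is not normal has a normalizer that is a maximal subgroup. -/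
theorem result {K S : Type*} [Group K] [CommGroup S] [Finite K] [Finite S]
    (hK : Nonempty (K ≃* Matrix.ProjectiveSpecialLinearGroup (Fin 2) (ZMod 13)) ∨
      Nonempty (K ≃* Matrix.SpecialLinearGroup (Fin 2) (ZMod 13)))
    (hKS : (Nat.card K).Coprime (Nat.card S)) (H : Subgroup (K × S)) (hH : ¬ H.Normal) :
    IsCoatom (Subgroup.normalizer (H : Set (K × S))) := by
  refine prod_case ?_ hKS H hH
  rcases hK with ⟨⟨e⟩⟩ | ⟨⟨e⟩⟩
  · exact good_P.of_equiv e.symm
  · exact good_L.of_equiv e.symm

end Cfsg.Agent.S4234
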