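import Cfsg.Statements.S4235
import Cfsg.Agent.Lib.Solv.CIT.MaxSolvableTI

set_option autoImplicit false
open scoped Pointwise
open Cfsg

namespace Cfsg.Agent.S4235

/-- Let G be a finite group. Call a subgroup maximal solvable if it is solvable and not properly contained in a solvable subgroup. Suppose F assigns to each maximal solvable subgroup M a normal subgroup F(M) of M such that: every element of M outside F(M) centralizes no non-identity element of F(M); F(M) meets each conjugate g F(M) g⁻¹ with g outside M trivially; and F(M) is nontrivial unless M is abelian. Then G is solvable, or G is isomorphic to SL(2, K) for a finite field K of characteristic 2 with at least 4 elements, or G is isomorphic to a Suzuki group. -/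
theorem result {G : Type*} [Group G] [Finite G] (F : Subgroup G → Subgroup G)
    (h : ∀ M : Subgroup G, (Group.IsSolvable M ∧ ∀ M' : Subgroup G, M < M' → ¬ Group.IsSolvable M') →
      F M ≤ M ∧ M ≤ Subgroup.normalizer (F M : Set G) ∧
      (∀ a ∈ M, a ∉ F M → ∀ x ∈ F M, x * a = a * x → x = 1) ∧
      (∀ g : G, g ∉ M → F M ⊓ (MulAut.conj g • F M) = ⊥) ∧
      (F M ≠ ⊥ ∨ IsMulCommutative M)) :
    Group.IsSolvable G ∨
      (∃ (K : Type) (_ : Field K) (_ : Fintype K), (∃ n : ℕ, 2 ≤ n ∧ Fintype.card K = 2 ^ n) ∧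
        Nonempty (G ≃* Matrix.SpecialLinearGroup (Fin 2) K)) ∨
      Cfsg.Lie.IsoSuzuki G := by
  by_cases hns : Group.IsSolvable G
  · exact Or.inl hns
  refine Or.inr ?_
  have hF : Cfsg.Agent.Solv.MaxSolvTI.Hyp F := h
  obtain ⟨⟨n, T, hT⟩, hs, -⟩ := Cfsg.Agent.Solv.MaxSolvTI.classification hF hns
  haveI := hs
  rcases hT.ident_iso with ⟨K, iF, iT, hK, ⟨e⟩⟩ | ⟨-, -, -, hsz⟩
  · refine Or.inl ⟨K, iF, iT, ⟨n, hT.two_le, hK⟩, ⟨e.trans ?_⟩⟩
    have h2 : (2 : K) = 0 := by
      have h0 := FiniteField.cast_card_eq_zero K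
      rw [hK, Nat.cast_pow, Nat.cast_ofNat] at h0
      exact eq_zero_of_pow_eq_zero h0
    have hz : Subgroup.center (Matrix.SpecialLinearGroup (Fin 2) K) = ⊥ := by
      refine (Subgroup.eq_bot_iff_forall _).2 fun x hx => ?_
      obtain ⟨r, hr, hrx⟩ := Matrix.SpecialLinearGroup.mem_center_iff.1 hx
      rw [Fintype.card_fin] at hr
      have hr1 : r = 1 := by
        have : (r - 1) * (r - 1) = 0 := by linear_combination hr + (1 - r) * h2
        exact sub_eq_zero.1 (mul_self_eq_zero.1 this)
      subst hr1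
      exact Subtype.ext (by rw [← hrx]; simp)
    exact (QuotientGroup.quotientMulEquivOfEq hz).trans QuotientGroup.quotientBot
  · exact Or.inr hsz

end Cfsg.Agent.S4235
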