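import Cfsg.Statements.S4236
import Cfsg.Agent.Lib.Perm.SylowCount

set_option autoImplicit false
open Cfsg

namespace Cfsg.Agent.S4236

open Cfsg.Agent.Perm.SylowCount

/-- There is no finite group with exactly 35 Sylow 17-subgroups. -/
theorem result {G : Type*} [Group G] [Finite G] : Nat.card (Sylow 17 G) ≠ 35 := by
  intro h
  haveI : Fact (Nat.Prime 17) := ⟨by norm_num⟩
  haveI : Fact (Nat.Prime 5) := ⟨by norm_num⟩
  obtain ⟨H, _, _, hred, hn⟩ := exists_reduced G 17
  rw [h] at hn
  have P : Sylow 17 H := default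
  obtain ⟨hP, hC, e, hediv, heodd, hN, hH⟩ :=
    structure_two_p_add_one (by norm_num) hred (by rw [hn]) (by decide +kernel) P
  have he : e = 1 := by
    obtain ⟨k, -, rfl⟩ := (Nat.dvd_prime_pow Nat.prime_two).mp (show e ∣ 2 ^ 4 from hediv)
    rcases Nat.eq_zero_or_pos k with rfl | hk
    · rfl
    · exact absurd heodd (Nat.not_odd_iff_even.mpr (Nat.even_pow.mpr ⟨even_two, hk.ne'⟩))
  subst he
  have hPN : (P : Subgroup H) = Subgroup.normalizer ((P : Subgroup H) : Set H) :=
    Subgroup.eq_of_le_of_card_ge Subgroup.le_normalizer (by rw [hP, hN])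
  have hNC : Subgroup.normalizer ((P : Subgroup H) : Set H) ≤
      Subgroup.centralizer ((P : Subgroup H) : Set H) := by rw [hC]; exact hPN.ge
  have hK := MonoidHom.ker_transferSylow_isComplement' P hNC
  set K := (MonoidHom.transferSylow P hNC).ker
  have hKc : Nat.card K = 35 := by
    have := hK.card_mul
    rw [hP, hH] at this
    omega
  have hKi : K.index = 17 := by
    have := Subgroup.index_mul_card K
    rw [hKc, hH] at this
    omega
  have h1 := card_sylow_of_normal_of_coprime_index (q := 5) K (by rw [hKi]; norm_num)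
  have hf : ∀ m : ℕ, ¬ 5 ∣ m → (5 ^ 1 * m).factorization 5 = 1 := fun m hm => by
    have hm0 : m ≠ 0 := by rintro rfl; exact hm (dvd_zero 5)
    rw [Nat.factorization_mul (by norm_num) hm0, Finsupp.add_apply,
      Nat.Prime.factorization_pow Nat.prime_five, Finsupp.single_eq_same,
      Nat.factorization_eq_zero_of_not_dvd hm]
  refine sylow_not_normal (by norm_num) P hC (default : Sylow 5 H) ?_
    (h1 ▸ card_sylow_eq_one_of default hKc ?_)
  · rw [(default : Sylow 5 H).card_eq_multiplicity, hH]
    rw [show (2 * 17 + 1) * (17 * 1) = 5 ^ 1 * 119 by norm_num, hf 119 (by norm_num)]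
    decide
  · rw [show (35 : ℕ) = 5 ^ 1 * 7 by norm_num, hf 7 (by norm_num)]
    decide

end Cfsg.Agent.S4236
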