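import Cfsg.Statements.S4237
import Cfsg.Agent.Lib.Fusion.SubgroupCountSylow

set_option autoImplicit false
open Cfsg
open Cfsg.Agent.Fusion
open scoped commutatorElement

namespace Cfsg.Agent.S4237

/-- Let G be a finite group, p a prime and a a natural number such that p^(a+1) divides the order of G. Then the number of subgroups of G of order p^a is congruent to 1 or to 1 + p modulo p². -/
theorem result {G : Type*} [Group G] [Finite G] (p a : ℕ) (hp : p.Prime) (hdvd : p ^ (a + 1) ∣ Nat.card G) :
    Nat.card {H : Subgroup G // Nat.card H = p ^ a} ≡ 1 [MOD p ^ 2] ∨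
      Nat.card {H : Subgroup G // Nat.card H = p ^ a} ≡ 1 + p [MOD p ^ 2] := by
  haveI := Fact.mk hp
  rcases Nat.eq_zero_or_pos a with rfl | ha
  · left
    have h : Nat.card {H : Subgroup G // Nat.card H = p ^ 0} = 1 := by
      rw [Nat.card_eq_one_iff_unique]
      refine ⟨⟨fun A B => Subtype.ext ?_⟩, ⟨⟨⊥, by rw [pow_zero, Subgroup.card_bot]⟩⟩⟩
      rw [Subgroup.card_eq_one.1 (A.2.trans (pow_zero p)), Subgroup.card_eq_one.1 (B.2.trans (pow_zero p))]
    rw [h]
  · obtain ⟨P⟩ : Nonempty (Sylow p G) := inferInstance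
    obtain ⟨n, hn⟩ := P.isPGroup'.exists_card_eq
    have han : a < n := by
      have h1 : p ^ (a + 1) ∣ Nat.card (P : Subgroup G) := by
        have h2 := (P : Subgroup G).card_mul_index
        rw [← h2] at hdvd
        exact ((hp.coprime_iff_not_dvd.2 (Sylow.not_dvd_index P)).pow_left _).dvd_of_dvd_mul_right hdvd
      rw [hn] at h1
      exact (Nat.pow_dvd_pow_iff_le_right hp.one_lt).1 h1
    have h := CountSq.sc_modEq_sylow P hn han
    rcases CountSq.sc_one_or p hn ha han with h' | h'
    · exact Or.inl (h.trans h')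
    · exact Or.inr (h.trans h')

end Cfsg.Agent.S4237
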