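import Cfsg.Statements.S4238
import Cfsg.Agent.Lib.Fusion.OmegaSeries
import Cfsg.Agent.Lib.Solv.PGroupPhi

set_option autoImplicit false
open Cfsg
open scoped commutatorElement Pointwise

namespace Cfsg.Agent.S4238

section Aux

universe u
variable {G : Type u} [Group G] [Finite G] {p : ℕ} [hp : Fact p.Prime]

theorem exists_max_order (hG : IsPGroup p G) : ∃ k : G, orderOf k = Monoid.exponent G := by
  obtain ⟨k, -, hk⟩ := Set.exists_max_image (Set.univ : Set G) orderOf Set.finite_univ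
    ⟨1, trivial⟩
  refine ⟨k, Nat.dvd_antisymm (Monoid.order_dvd_exponent k) (Monoid.exponent_dvd.2 fun x => ?_)⟩
  obtain ⟨a, ha⟩ := IsPGroup.iff_orderOf.1 hG x
  obtain ⟨b, hb⟩ := IsPGroup.iff_orderOf.1 hG k
  have := hk x trivial
  rw [ha, hb] at this ⊢
  exact pow_dvd_pow p ((Nat.pow_le_pow_iff_right hp.out.one_lt).1 this)

/-- A configuration witnessing the failure of `p`-nilpotency. -/
theorem exists_bad (h : ¬ Cfsg.HasNormalPComplement p G) :
    ∃ (Q : Subgroup G) (g : G) (q : ℕ), IsPGroup p Q ∧ g ∈ Subgroup.normalizer (Q : Set G) ∧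
      (orderOf g).Coprime p ∧ q.Prime ∧ q ≠ p ∧ g ∉ Subgroup.centralizer (Q : Set G) ∧
      g ^ q ∈ Subgroup.centralizer (Q : Set G) ∧
      ∀ R : Subgroup G, R ≤ Q → R ≠ Q → g ∈ Subgroup.normalizer (R : Set G) →
        g ∈ Subgroup.centralizer (R : Set G) := by
  let Bad : Subgroup G → G → Prop := fun Q g => IsPGroup p Q ∧
    g ∈ Subgroup.normalizer (Q : Set G) ∧ (orderOf g).Coprime p ∧
      g ∉ Subgroup.centralizer (Q : Set G)
  obtain ⟨S⟩ := (inferInstance : Nonempty (Sylow p G))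
  have hex : {Q : Subgroup G | ∃ g, Bad Q g}.Nonempty := by
    by_contra hne
    refine h (Fusion.hnpc_of_centralize (Fusion.sylIn_top S) fun Q hQ g hg hgp => ?_)
    by_contra hc
    exact hne ⟨Q, g, S.isPGroup'.to_le hQ, hg, hgp, hc⟩
  obtain ⟨Q, hQ, hQmin⟩ := Set.exists_min_image _ (fun Q : Subgroup G => Nat.card Q)
    (Set.toFinite _) hex
  obtain ⟨g, hg, hgmin⟩ := Set.exists_min_image {g | Bad Q g} orderOf (Set.toFinite _) hQ
  obtain ⟨hQp, hgN, hgp, hgC⟩ := hg
  have hg1 : orderOf g ≠ 1 := fun h1 => hgC (by rw [orderOf_eq_one_iff.1 h1]; exact one_mem _)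
  obtain ⟨q, hq, hqd⟩ := Nat.exists_prime_and_dvd hg1
  refine ⟨Q, g, q, hQp, hgN, hgp, hq, fun e => ?_, hgC, ?_, fun R hR hne hgR => ?_⟩
  · subst e
    exact hq.ne_one (Nat.eq_one_of_dvd_coprimes hgp hqd dvd_rfl)
  · by_contra hc
    have := hgmin (g ^ q) ⟨hQp, pow_mem hgN q, hgp.coprime_dvd_left (orderOf_pow_dvd q), hc⟩
    rw [orderOf_pow_of_dvd hq.ne_zero hqd] at this
    exact absurd this (not_le.2 (Nat.div_lt_self (orderOf_pos g) hq.one_lt))
  · by_contra hc
    have := hQmin R ⟨g, hQp.to_le hR, hgR, hgp, hc⟩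
    exact hne (Subgroup.eq_of_le_of_card_ge hR this)

theorem fix_frattini {Q : Subgroup G} {g : G} (hQp : IsPGroup p Q)
    (hgN : g ∈ Subgroup.normalizer (Q : Set G)) (hgp : (orderOf g).Coprime p)
    (hgC : g ∉ Subgroup.centralizer (Q : Set G))
    (hmin : ∀ R : Subgroup G, R ≤ Q → R ≠ Q → g ∈ Subgroup.normalizer (R : Set G) →
        g ∈ Subgroup.centralizer (R : Set G))
    (y : Q) (hy : ∀ z : Q, (z : G) = (y : G)⁻¹ * (g * y * g⁻¹) → z ∈ frattini ↥Q) :
    y ∈ frattini ↥Q := by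
  obtain ⟨α, hα, hαo⟩ := Fusion.exists_conj_aut hgN
  have hαΦ : ∀ z, z ∈ frattini ↥Q → α z ∈ frattini ↥Q := fun z hz => by
    rw [← Subgroup.characteristic_iff_map_eq.1 (inferInstance : (frattini ↥Q).Characteristic) α]
    exact ⟨z, hz, rfl⟩
  set C := Subgroup.closure (Set.range fun z : Q => z⁻¹ * α z) with hC
  set T := C ⊔ frattini ↥Q
  have hT : T = ⊤ := by
    by_contra hne
    have hTinv : ∀ z ∈ T, α z ∈ T := by
      have : T.map α.toMonoidHom ≤ T := by
        rw [Subgroup.map_sup]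
        refine sup_le_sup ?_ ?_
        · rw [hC, MonoidHom.map_closure]
          refine Subgroup.closure_mono ?_
          rintro _ ⟨_, ⟨z, rfl⟩, rfl⟩
          exact ⟨α z, by simp⟩
        · rintro _ ⟨z, hz, rfl⟩; exact hαΦ z hz
      exact fun z hz => this ⟨z, hz, rfl⟩
    have hgT : g ∈ Subgroup.normalizer ((T.map Q.subtype : Subgroup G) : Set G) := by
      refine Subgroup.mem_normalizer_fintype ?_
      rintro _ ⟨z, hz, rfl⟩
      exact ⟨α z, hTinv z hz, hα z⟩
    have hcT := hmin _ (Subgroup.map_subtype_le T) (fun e => hne (by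
      rw [← Subgroup.comap_map_eq_self_of_injective Q.subtype_injective T, e]
      exact Subgroup.subgroupOf_self Q)) hgT
    apply hgC
    rw [Subgroup.mem_centralizer_iff]
    intro x hx
    have hfix : α (⟨x, hx⟩ : Q) = ⟨x, hx⟩ := by
      refine Fusion.aut_fix_step hQp α (hgp.coprime_dvd_left hαo) _ ?_
      refine Subtype.ext ?_
      rw [hα]
      have hm : (⟨x, hx⟩ : Q)⁻¹ * α ⟨x, hx⟩ ∈ T :=
        Subgroup.mem_sup_left (Subgroup.subset_closure ⟨_, rfl⟩)
      exact (mul_inv_eq_iff_eq_mul.2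
        (Subgroup.mem_centralizer_iff.1 hcT _ ⟨_, hm, rfl⟩).symm)
    have := congrArg Subtype.val hfix
    rw [hα] at this
    exact (mul_inv_eq_iff_eq_mul.1 this).symm
  have hCtop : C = ⊤ := frattini_nongenerating hT
  set Φ := frattini ↥Q
  haveI : Φ.Normal := inferInstance
  have hcomm : ∀ a b : ↥Q ⧸ Φ, a * b = b * a :=
    Solv.quotient_mul_comm Φ (Solv.commutatorElement_mem_frattini hQp)
  let f : ↥Q →* ↥Q ⧸ Φ :=
    { toFun := fun z => QuotientGroup.mk' Φ (z⁻¹ * α z)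
      map_one' := by simp
      map_mul' := fun a b => by
        simp only [map_mul, mul_inv_rev, map_inv, mul_assoc]
        rw [hcomm (QuotientGroup.mk' Φ b)⁻¹, mul_assoc, mul_assoc,
          hcomm (QuotientGroup.mk' Φ (α b))] }
  let f' : ↥Q ⧸ Φ →* ↥Q ⧸ Φ := QuotientGroup.lift Φ f fun z hz => by
    show QuotientGroup.mk' Φ (z⁻¹ * α z) = 1
    exact (QuotientGroup.eq_one_iff _).2 (mul_mem (inv_mem hz) (hαΦ z hz))
  have hsurj : Function.Surjective f' := by
    rw [← MonoidHom.range_eq_top, eq_top_iff, ← Subgroup.map_top_of_surjective _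
      (QuotientGroup.mk'_surjective Φ), ← hCtop, hC, MonoidHom.map_closure, Subgroup.closure_le]
    rintro _ ⟨_, ⟨z, rfl⟩, rfl⟩
    exact ⟨QuotientGroup.mk' Φ z, rfl⟩
  have h1 : f' (QuotientGroup.mk' Φ y) = 1 := by
    show QuotientGroup.mk' Φ (y⁻¹ * α y) = 1
    exact (QuotientGroup.eq_one_iff _).2 (hy _ (by push_cast; rw [hα]))
  exact (QuotientGroup.eq_one_iff _).1
    ((Finite.injective_iff_surjective.2 hsurj) (h1.trans (map_one f').symm))

theorem exists_bad_section (h : ¬ Cfsg.HasNormalPComplement p G) :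
    ∃ (H : Subgroup G) (N : Subgroup H) (_ : N.Normal), Cfsg.pPrimeCore p (H ⧸ N) = ⊥ ∧
      ∀ k : H ⧸ N, orderOf k ≠ Monoid.exponent (H ⧸ N) := by
  obtain ⟨Q, g, q, hQp, hgN, hgp, hq, hqp, hgC, hgqC, hmin⟩ := exists_bad h
  haveI := Fact.mk hq
  obtain ⟨α, hα, -⟩ := Fusion.exists_conj_aut hgN
  set Φ' := (frattini ↥Q).map Q.subtype with hΦ'
  set Z := Subgroup.zpowers (g ^ q) with hZ
  have hΦQ : Φ' ≤ Q := Subgroup.map_subtype_le _
  have hgΦ : ∀ n ∈ Φ', g * n * g⁻¹ ∈ Φ' := by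
    rintro _ ⟨z, hz, rfl⟩
    refine ⟨α z, ?_, hα z⟩
    rw [SetLike.mem_coe,
      ← Subgroup.characteristic_iff_map_eq.1 (inferInstance : (frattini ↥Q).Characteristic) α]
    exact ⟨z, hz, rfl⟩
  have hQΦ : ∀ x ∈ Q, ∀ n ∈ Φ', x * n * x⁻¹ ∈ Φ' := by
    rintro x hx _ ⟨z, hz, rfl⟩
    exact ⟨⟨x, hx⟩ * z * ⟨x, hx⟩⁻¹, (inferInstance : (frattini ↥Q).Normal).conj_mem z hz _, rfl⟩
  have hzΦ : Z ≤ Subgroup.normalizer (Φ' : Set G) := by
    rw [hZ, Subgroup.zpowers_le]
    exact pow_mem (Subgroup.mem_normalizer_fintype hgΦ) q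
  have hcQ : ∀ x ∈ Q, ∀ z ∈ Z, z * x = x * z := fun x hx z hz =>
    (Subgroup.mem_centralizer_iff.1 ((Subgroup.zpowers_le.2 hgqC) hz) x hx).symm
  have hN0 : ((Φ' ⊔ Z : Subgroup G) : Set G) = (Φ' : Set G) * (Z : Set G) :=
    Subgroup.coe_mul_of_right_le_normalizer_left _ _ hzΦ
  have htriv : ∀ w : G, w ∈ Q → w ∈ Subgroup.zpowers g → w = 1 := by
    intro w hw hwg
    obtain ⟨a, ha⟩ := hQp ⟨w, hw⟩
    have ha' : w ^ p ^ a = 1 := by simpa using congrArg Subtype.val ha
    obtain ⟨i, rfl⟩ := Subgroup.mem_zpowers_iff.1 hwg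
    exact orderOf_eq_one_iff.1 (Nat.eq_one_of_dvd_coprimes ((hgp.pow_right a))
      (orderOf_dvd_of_pow_eq_one (by
        rw [← zpow_natCast, ← zpow_mul, mul_comm, zpow_mul, zpow_natCast, pow_orderOf_eq_one,
          one_zpow])) (orderOf_dvd_of_pow_eq_one ha'))
  have hZg : Z ≤ Subgroup.zpowers g :=
    hZ ▸ Subgroup.zpowers_le.2 (Subgroup.pow_mem _ (Subgroup.mem_zpowers g) q)
  have L1 : ∀ y ∈ Q, y ∈ Φ' ⊔ Z → y ∈ Φ' := by
    intro y hy hy0
    rw [← SetLike.mem_coe, hN0] at hy0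
    obtain ⟨a, ha, b, hb, rfl⟩ := Set.mem_mul.1 hy0
    rw [htriv b ((Subgroup.mul_mem_cancel_left Q (hΦQ ha)).1 hy) (hZg hb), mul_one]
    exact ha
  have L2 : g ∉ Φ' ⊔ Z := by
    intro hg0
    rw [← SetLike.mem_coe, hN0] at hg0
    obtain ⟨a, ha, b, hb, e⟩ := Set.mem_mul.1 hg0
    have ha1 : a = 1 := htriv a (hΦQ ha) (by
      rw [show a = g * b⁻¹ by rw [← e]; group]
      exact mul_mem (Subgroup.mem_zpowers g) (inv_mem (hZg hb)))
    rw [ha1, one_mul] at e
    subst e
    exact hgC (Subgroup.zpowers_le.2 hgqC hb)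
  set H := Q ⊔ Subgroup.zpowers g with hH
  have hgH : g ∈ H := Subgroup.mem_sup_right (Subgroup.mem_zpowers g)
  have hQH : Q ≤ H := le_sup_left
  have hN0H : Φ' ⊔ Z ≤ H := sup_le (hΦQ.trans hQH) (hZg.trans le_sup_right)
  have hHN : H ≤ Subgroup.normalizer ((Φ' ⊔ Z : Subgroup G) : Set G) := by
    have key : ∀ x : G, (∀ n ∈ Φ', x * n * x⁻¹ ∈ Φ') → x * g ^ q * x⁻¹ = g ^ q →
        x ∈ Subgroup.normalizer ((Φ' ⊔ Z : Subgroup G) : Set G) := by
      intro x hx hxz
      refine Subgroup.mem_normalizer_fintype fun n hn => ?_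
      have hle : (Φ' ⊔ Z).map (MulAut.conj x).toMonoidHom ≤ Φ' ⊔ Z := by
        rw [Subgroup.map_sup]
        refine sup_le_sup ?_ ?_
        · rintro _ ⟨m, hm, rfl⟩; exact hx m hm
        · rw [hZ, MonoidHom.map_zpowers]
          show Subgroup.zpowers (x * g ^ q * x⁻¹) ≤ _
          rw [hxz]
      exact hle ⟨n, hn, rfl⟩
    refine sup_le (fun x hx => key x (hQΦ x hx) ?_) (Subgroup.zpowers_le.2 (key g hgΦ ?_))
    · rw [← hcQ x hx _ (Subgroup.mem_zpowers _), mul_inv_cancel_right]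
    · group
  set N := (Φ' ⊔ Z).subgroupOf H
  haveI hNn : N.Normal := Subgroup.normal_subgroupOf_of_le_normalizer hHN
  set π := QuotientGroup.mk' N
  have hπ1 : ∀ x : H, π x = 1 ↔ (x : G) ∈ Φ' ⊔ Z := fun x => by
    rw [QuotientGroup.mk'_apply, QuotientGroup.eq_one_iff]; rfl
  let w : Q → H ⧸ N := fun y => π ⟨y, hQH y.2⟩
  set a := π ⟨g, hgH⟩ with ha
  have hQmem : ∀ y : Q, y ∈ frattini ↥Q → w y = 1 := fun y hy =>
    (hπ1 _).2 (Subgroup.mem_sup_left ⟨y, hy, rfl⟩)
  have hmemQ : ∀ y : Q, w y = 1 → y ∈ frattini ↥Q := fun y hy => by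
    obtain ⟨z, hz, e⟩ := L1 y y.2 ((hπ1 _).1 hy)
    rwa [← Subtype.ext e]
  have haq : a ^ q = 1 := by
    rw [ha, ← map_pow, hπ1]
    exact Subgroup.mem_sup_right (by push_cast; exact Subgroup.mem_zpowers _)
  have ha1 : a ≠ 1 := fun e => L2 ((hπ1 _).1 e)
  have hcw : ∀ y z : Q, w y * w z = w z * w y := by
    intro y z
    rw [← commutatorElement_eq_one_iff_mul_comm, ← map_commutatorElement, hπ1]
    exact Subgroup.mem_sup_left
      ⟨⁅y, z⁆, Solv.commutatorElement_mem_frattini hQp y z, by simp [commutatorElement_def]⟩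
  have hwp : ∀ y : Q, w y ^ p = 1 := fun y => by
    show π _ ^ p = 1
    rw [← map_pow, hπ1]
    exact Subgroup.mem_sup_left ⟨y ^ p, Solv.pow_mem_frattini hQp y, by simp⟩
  have hfix : ∀ y : Q, a * w y = w y * a → w y = 1 := by
    intro y hy
    refine hQmem y (fix_frattini hQp hgN hgp hgC hmin y fun z hz => ?_)
    have h1 : w z = 1 := by
      have e : w z = (w y)⁻¹ * (a * w y * a⁻¹) := by
        simp only [w, ha, ← map_mul, ← map_inv]
        congr 1
        exact Subtype.ext hz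
      rw [e, hy]; group
    exact hmemQ z h1
  have hform : ∀ k : H ⧸ N, ∃ (y : Q) (i : ℕ), k = w y * a ^ i := by
    intro k
    obtain ⟨⟨x, hx⟩, rfl⟩ := QuotientGroup.mk'_surjective N k
    have hx' : x ∈ ((Q ⊔ Subgroup.zpowers g : Subgroup G) : Set G) := hx
    rw [Subgroup.coe_mul_of_right_le_normalizer_left _ _ (Subgroup.zpowers_le.2 hgN)] at hx'
    obtain ⟨y, hy, b, hb, rfl⟩ := Set.mem_mul.1 hx'
    obtain ⟨i, rfl⟩ := (IsOfFinOrder.mem_powers_iff_mem_zpowers (isOfFinOrder_of_finite g)).2 hb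
    refine ⟨⟨y, hy⟩, i, ?_⟩
    simp only [w, ha, ← map_pow, ← map_mul]
    rfl
  obtain ⟨y1, hy1⟩ : ∃ y : Q, w y ≠ 1 := by
    by_contra hne
    push Not at hne
    apply hgC
    rw [Subgroup.mem_centralizer_iff]
    intro x hx
    have hb : (⊥ : Subgroup ↥Q) = ⊤ :=
      frattini_nongenerating (by rw [bot_sup_eq, eq_top_iff]; exact fun z _ => hmemQ z (hne z))
    have : (⟨x, hx⟩ : Q) ∈ (⊥ : Subgroup ↥Q) := hb ▸ Subgroup.mem_top _
    have := congrArg Subtype.val (Subgroup.mem_bot.1 this)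
    simp at this
    subst this
    simp
  have hcases : ∀ i : ℕ, a ^ i = 1 ∨ a ∈ Subgroup.zpowers (a ^ i) := by
    intro i
    by_cases hi : q ∣ i
    · obtain ⟨c, rfl⟩ := hi
      left; rw [pow_mul, haq, one_pow]
    · right
      have ho : orderOf a = q := orderOf_eq_prime haq ha1
      rw [mem_zpowers_pow_iff, ho]
      exact ((Nat.Prime.coprime_iff_not_dvd hq).2 hi).symm
  have hcomm_a : ∀ (i : ℕ) (b : H ⧸ N), a ∈ Subgroup.zpowers (a ^ i) →
      a ^ i * b = b * a ^ i → a * b = b * a := by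
    intro i b hi hb
    obtain ⟨j, hj⟩ := Subgroup.mem_zpowers_iff.1 hi
    rw [← hj]
    exact ((show Commute (a ^ i) b from hb).zpow_left j).eq
  refine ⟨H, N, hNn, ?_, fun k hk => ?_⟩
  · rw [Subgroup.eq_bot_iff_forall]
    intro m hm
    have hkill : ∀ b : H ⧸ N, b ^ p = 1 → b ∈ Cfsg.pPrimeCore p (H ⧸ N) → b = 1 := fun b hb hbm =>
      orderOf_eq_one_iff.1 (Nat.eq_one_of_dvd_coprimes (Fusion.mem_pPrimeCore_orderOf hbm).symm
        (orderOf_dvd_of_pow_eq_one hb) dvd_rfl)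
    have hWc : ∀ (b : H ⧸ N) (y : Q), ∃ z : Q, b * w y * b⁻¹ = w z := by
      intro b y
      obtain ⟨x, rfl⟩ := QuotientGroup.mk'_surjective N b
      have hxQ : (x : G) ∈ Subgroup.normalizer (Q : Set G) :=
        (sup_le Subgroup.le_normalizer (Subgroup.zpowers_le.2 hgN)) x.2
      refine ⟨⟨x * y * (x : G)⁻¹, (Subgroup.mem_normalizer_iff.1 hxQ _).1 y.2⟩, ?_⟩
      simp only [w, ← map_mul, ← map_inv]
      rfl
    have hmw : ∀ y : Q, m * w y = w y * m := by
      intro y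
      obtain ⟨z, hz⟩ := hWc m y
      have h1 : m * w y * m⁻¹ * (w y)⁻¹ = 1 := by
        refine hkill _ ?_ ?_
        · rw [hz]
          exact ((show Commute (w z) (w y)⁻¹ from
            (show Commute (w z) (w y) from hcw z y).inv_right)).mul_pow p |>.trans
            (by rw [hwp, inv_pow, hwp, inv_one, one_mul])
        · rw [mul_assoc, mul_assoc]
          refine mul_mem hm ?_
          rw [← mul_assoc]
          exact (inferInstance : (Cfsg.pPrimeCore p (H ⧸ N)).Normal).conj_mem _ (inv_mem hm) _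
      exact mul_inv_eq_iff_eq_mul.1 (mul_inv_eq_one.1 h1)
    obtain ⟨y, i, rfl⟩ := hform m
    rcases hcases i with hi | hi
    · rw [hi, mul_one] at hm ⊢
      exact hkill _ (hwp y) hm
    · refine absurd (hfix y1 (hcomm_a i _ hi ?_)) hy1
      have h1 := hmw y1
      rw [mul_assoc] at h1
      refine mul_left_cancel (a := w y) (h1.trans ?_)
      rw [← mul_assoc, hcw y1 y, mul_assoc]
  · have hpd : p ∣ orderOf k := by
      rw [hk, ← orderOf_eq_prime (hwp y1) hy1]
      exact Monoid.order_dvd_exponent _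
    have hqd : q ∣ orderOf k := by
      rw [hk, ← orderOf_eq_prime haq ha1]
      exact Monoid.order_dvd_exponent _
    obtain ⟨y, i, rfl⟩ := hform k
    rcases hcases i with hi | hi
    · rw [hi, mul_one] at hqd
      exact hqp ((Nat.prime_dvd_prime_iff_eq hq hp.out).1
        (hqd.trans (orderOf_dvd_of_pow_eq_one (hwp y))))
    · obtain ⟨z, hz⟩ : ∃ z : Q, (w y * a ^ i) ^ q = w z := by
        have hgen : ∀ j : ℕ, ∃ z : Q, (w y * a ^ i) ^ j = w z * a ^ (i * j) := by
          intro j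
          induction j with
          | zero => refine ⟨1, ?_⟩; rw [pow_zero, mul_zero, pow_zero, mul_one]; exact ((hπ1 _).2 (one_mem _)).symm
          | succ j ih =>
            obtain ⟨z, hz⟩ := ih
            refine ⟨⟨(z : G) * (g ^ (i * j) * y * (g ^ (i * j))⁻¹), mul_mem z.2
              ((Subgroup.mem_normalizer_iff.1 (pow_mem hgN _) _).1 y.2)⟩, ?_⟩
            rw [pow_succ, hz]
            simp only [w, ha, ← map_pow, ← map_mul]
            congr 1
            refine Subtype.ext ?_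
            push_cast
            rw [Nat.mul_succ, pow_add]
            group
        obtain ⟨z, hz⟩ := hgen q
        exact ⟨z, by rw [hz, mul_comm i q, pow_mul, haq, one_pow, mul_one]⟩
      have hzk : a ^ i * w z = w z * a ^ i := by
        have h1 : Commute (w y * a ^ i) (w z) := hz ▸ Commute.self_pow _ q
        have h2 := h1.eq
        rw [mul_assoc, ← mul_assoc (w z), hcw z y, mul_assoc] at h2
        exact mul_left_cancel h2
      have hone : (w y * a ^ i) ^ q = 1 := hz.trans (hfix z (hcomm_a i _ hi hzk))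
      exact hqp ((Nat.prime_dvd_prime_iff_eq hp.out hq).1
        (hpd.trans (orderOf_dvd_of_pow_eq_one hone))).symm

end Aux

/-- Let G be a finite group and p a prime. Then G has a normal p-complement if and only if every section K = H/N of G (N a normal subgroup of a subgroup H) whose largest normal subgroup of order prime to p is trivial contains an element whose order equals the exponent of K. -/
theorem result {G : Type*} [Group G] [Finite G] (p : ℕ) [Fact p.Prime] :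
    Cfsg.HasNormalPComplement p G ↔
      ∀ (H : Subgroup G) (N : Subgroup H) [N.Normal], Cfsg.pPrimeCore p (H ⧸ N) = ⊥ →
        ∃ k : H ⧸ N, orderOf k = Monoid.exponent (H ⧸ N) := by
  constructor
  · intro h H N _ hcore
    have h1 : Cfsg.HasNormalPComplement p (H ⧸ N) :=
      Fusion.hnpc_of_surjective (QuotientGroup.mk' N) (QuotientGroup.mk'_surjective N)
        (Fusion.hnpc_subgroup h H)
    have h2 : Cfsg.pResidual p (H ⧸ N) = ⊥ := by
      rw [eq_bot_iff, ← hcore]; exact Fusion.hnpc_pResidual_le_pPrimeCore h1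
    refine exists_max_order (p := p) ?_
    exact (Fusion.isPGroup_quotient_pResidual (G := H ⧸ N)).of_equiv
      ((QuotientGroup.quotientMulEquivOfEq h2).trans QuotientGroup.quotientBot)
  · intro h
    by_contra hn
    obtain ⟨H, N, hN, hcore, hk⟩ := exists_bad_section hn
    obtain ⟨k, hk'⟩ := h H N hcore
    exact hk k hk'

end Cfsg.Agent.S4238
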