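import Cfsg.Statements.S4242
import Mathlib
import Cfsg.Agent.Lib.Perm.Schmidt
import Cfsg.Agent.Lib.Fusion.NPC

set_option autoImplicit false
open Cfsg

namespace Cfsg.Agent.S4242


section Aux
variable {G : Type*} [Group G] [Finite G]

theorem le_of_ppow {H K : Subgroup G}
    (h : ∀ (q : ℕ), q.Prime → ∀ v ∈ H, (∃ k, orderOf v = q ^ k) → v ∈ K) : H ≤ K := by
  rw [← Subgroup.subgroupOf_eq_top]
  refine Subgroup.eq_top_of_card_eq _ (Nat.dvd_antisymm (Subgroup.card_subgroup_dvd_card _) ?_)
  refine (Nat.dvd_iff_prime_pow_dvd_dvd _ _).2 fun q k hq hk => ?_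
  haveI : Fact q.Prime := ⟨hq⟩
  obtain ⟨Q, hQ⟩ := Sylow.exists_subgroup_card_pow_prime q hk
  rw [← hQ]
  refine Subgroup.card_dvd_of_le fun v hv => ?_
  rw [Subgroup.mem_subgroupOf]
  obtain ⟨j, hj⟩ := IsPGroup.iff_orderOf.1 (IsPGroup.of_card hQ) ⟨v, hv⟩
  exact h q hq v v.2 ⟨j, by rw [← hj]; exact (Subgroup.orderOf_mk (v : H) hv).symm ▸ (Subgroup.orderOf_coe v)⟩

/-- In a nilpotent subgroup, `p'`-elements centralise `p`-subgroups. -/
theorem coprime_centralize {L A B : Subgroup G} (hL : Group.IsNilpotent L) {p : ℕ} [hp : Fact p.Prime]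
    (hA : IsPGroup p A) (hAL : A ≤ L) (hB : (Nat.card B).Coprime p) (hBL : B ≤ L) :
    B ≤ Subgroup.centralizer (A : Set G) := by
  refine le_of_ppow fun q hq v hv ⟨k, hk⟩ => ?_
  haveI : Fact q.Prime := ⟨hq⟩
  rcases k with _ | k
  · rw [pow_zero, orderOf_eq_one_iff] at hk; rw [hk]; exact one_mem _
  have hqp : q ≠ p := fun e => by
    have h1 : q ∣ Nat.card B := (dvd_pow_self q (Nat.succ_ne_zero k)).trans (hk ▸ Subgroup.orderOf_dvd_natCard _ hv)
    exact hp.out.coprime_iff_not_dvd.1 hB.symm (e ▸ h1)
  exact Cfsg.Agent.Perm.commute_of_le_nilpotent hL hqp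
    (IsPGroup.of_card (by rw [Nat.card_zpowers, hk])) hA (Subgroup.zpowers_le.2 (hBL hv)) hAL
    (Subgroup.mem_zpowers v)

end Aux


/-- Let G be a finite group and p a prime dividing its order. Every maximal subgroup of G of order divisible by p is nilpotent if and only if G is nilpotent, or G is a minimal non-nilpotent group, or G is the internal direct product of a normal subgroup of order p and a normal minimal non-nilpotent subgroup of order prime to p. -/
theorem result {G : Type*} [Group G] [Finite G] (p : ℕ) (hp : p.Prime) (hpG : p ∣ Nat.card G) :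
    (∀ M : Subgroup G, IsCoatom M → p ∣ Nat.card M → Group.IsNilpotent M) ↔
      (Group.IsNilpotent G ∨ Cfsg.IsMinimalNonNilpotent G ∨
        ∃ Z K : Subgroup G, Z.Normal ∧ K.Normal ∧ Z ⊓ K = ⊥ ∧ Z ⊔ K = ⊤ ∧ Nat.card Z = p ∧
          Cfsg.IsMinimalNonNilpotent K ∧ ¬ p ∣ Nat.card K) := by
  classical
  haveI hpf : Fact p.Prime := ⟨hp⟩
  constructor
  · intro h
    by_cases hnil : Group.IsNilpotent G
    · exact Or.inl hnil
    by_cases hmnn : Cfsg.IsMinimalNonNilpotent G
    · exact Or.inr (Or.inl hmnn)
    right; right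
    obtain ⟨M, hM, hMn⟩ : ∃ M : Subgroup G, IsCoatom M ∧ ¬ Group.IsNilpotent M := by
      by_contra hcon
      push Not at hcon
      exact hmnn ⟨hnil, Cfsg.Agent.Perm.proper_nilpotent_of_coatom hcon⟩
    have hpM : ¬ p ∣ Nat.card M := fun hd => hMn (h M hM hd)
    have hcopM : (Nat.card M).Coprime p := (hp.coprime_iff_not_dvd.2 hpM).symm
    have hbig : ∀ H : Subgroup G, H ≠ ⊤ → p ∣ Nat.card H → Group.IsNilpotent H := by
      intro H hH hd
      obtain ⟨L, hL, hHL⟩ := (eq_top_or_exists_le_coatom H).resolve_left hH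
      exact Cfsg.Agent.Solv.isNilpotent_of_le hHL (h L hL (hd.trans (Subgroup.card_dvd_of_le hHL)))
    by_cases hV : ∃ V : Subgroup G, V.Normal ∧ V ≠ ⊥ ∧ IsPGroup p V
    · obtain ⟨V0, hV0n, hV0b, hV0p⟩ := hV
      -- a minimal normal p-subgroup
      obtain ⟨V, ⟨hVn, hVb, hVle⟩, hmin⟩ := (Set.toFinite {L : Subgroup G | L.Normal ∧ L ≠ ⊥ ∧ L ≤ V0}).exists_minimal
        ⟨V0, hV0n, hV0b, le_rfl⟩
      haveI := hVn
      have hVp : IsPGroup p V := hV0p.to_le hVle
      obtain ⟨kv, hkv⟩ := IsPGroup.iff_card.1 hVp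
      have hdisj : V ⊓ M = ⊥ := by
        rw [← disjoint_iff]
        refine Subgroup.disjoint_of_coprime_natCard ?_
        rw [hkv]; exact Nat.Coprime.pow_left _ hcopM.symm
      have htop : V ⊔ M = ⊤ := hM.2 _ (lt_of_le_of_ne le_sup_right fun e => hVb (by
        rw [← hdisj, eq_comm, inf_eq_left]; exact e ▸ le_sup_left))
      have hcent : ∀ M1 : Subgroup G, M1 < M → M1 ≤ Subgroup.centralizer (V : Set G) := by
        intro M1 hlt
        have hne : V ⊔ M1 ≠ ⊤ := by
          intro e
          refine hlt.not_ge fun m hm => ?_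
          obtain ⟨v, hv, m1, hm1, rfl⟩ := Subgroup.mem_sup_of_normal_left.1 (e ▸ Subgroup.mem_top m)
          have hvM : v ∈ M := by
            have := mul_mem hm (inv_mem (hlt.le hm1))
            simpa using this
          have : v ∈ V ⊓ M := ⟨hv, hvM⟩
          rw [hdisj, Subgroup.mem_bot] at this
          rw [this, one_mul]; exact hm1
        have hpd : p ∣ Nat.card (V ⊔ M1 : Subgroup G) := by
          refine dvd_trans ?_ (Subgroup.card_dvd_of_le le_sup_left)
          rw [hkv]
          refine dvd_pow_self p ?_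
          rintro rfl
          exact hVb (Subgroup.card_eq_one.1 (by rw [hkv, pow_zero]))
        exact coprime_centralize (hbig _ hne hpd) hVp le_sup_left
          (hcopM.coprime_dvd_left (Subgroup.card_dvd_of_le hlt.le)) le_sup_right
      have hMcyc : ∀ m ∈ M, Subgroup.zpowers m < M := fun m hm =>
        lt_of_le_of_ne (Subgroup.zpowers_le.2 hm) fun e => hMn (by
          rw [← e]; open scoped IsMulCommutative in exact CommGroup.isNilpotent)
      have hMC : M ≤ Subgroup.centralizer (V : Set G) := fun m hm =>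
        hcent _ (hMcyc m hm) (Subgroup.mem_zpowers m)
      have hnormal : ∀ L : Subgroup G, L ≤ V → (∀ v ∈ V, ∀ l ∈ L, v * l * v⁻¹ ∈ L) → L.Normal := by
        intro L hLV hL
        refine ⟨fun l hl g => ?_⟩
        obtain ⟨v, hv, m, hm, rfl⟩ := Subgroup.mem_sup_of_normal_left.1 (htop ▸ Subgroup.mem_top g)
        have hc : l * m = m * l := Subgroup.mem_centralizer_iff.1 (hMC hm) l (hLV hl)
        have : v * m * l * (v * m)⁻¹ = v * l * v⁻¹ := by
          rw [mul_assoc v m l, ← hc]; group
        rw [this]; exact hL v hv l hl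
      have hVcard : Nat.card V = p := by
        haveI : Nontrivial V := (Subgroup.nontrivial_iff_ne_bot V).2 hVb
        have hZ : (Subgroup.center V).map V.subtype = V := by
          haveI := hVp.center_nontrivial
          have hn := hnormal ((Subgroup.center V).map V.subtype) (Subgroup.map_subtype_le _) (by
            rintro v hv _ ⟨l, hl, rfl⟩
            refine ⟨l, hl, ?_⟩
            have := Subgroup.mem_center_iff.1 hl ⟨v, hv⟩
            have h2 : v * (l : G) = (l : G) * v := congrArg Subtype.val this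
            show (l : G) = v * l * v⁻¹
            rw [h2, mul_inv_cancel_right])
          refine le_antisymm (Subgroup.map_subtype_le _) (hmin ⟨hn, ?_, (Subgroup.map_subtype_le _).trans hVle⟩ (Subgroup.map_subtype_le _))
          rw [Ne, Subgroup.map_eq_bot_iff_of_injective _ V.subtype_injective]
          exact (Subgroup.nontrivial_iff_ne_bot _).1 inferInstance
        have hVc : ∀ a ∈ V, ∀ b ∈ V, a * b = b * a := by
          intro a ha b hb
          obtain ⟨l, hl, rfl⟩ := hZ.ge hb
          exact congrArg Subtype.val (Subgroup.mem_center_iff.1 hl ⟨a, ha⟩)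
        obtain ⟨v, hv⟩ := exists_prime_orderOf_dvd_card' (G := V) p (by
          rw [hkv]; exact dvd_pow_self p (by rintro rfl; exact hVb (Subgroup.card_eq_one.1 (by rw [hkv, pow_zero]))))
        have hL := hnormal (Subgroup.zpowers (v : G)) (Subgroup.zpowers_le.2 v.2) (fun a ha l hl => by
          rw [hVc a ha l (Subgroup.zpowers_le.2 v.2 hl), mul_inv_cancel_right]; exact hl)
        have hv' : orderOf (v : G) = p := by rw [Subgroup.orderOf_coe, hv]
        have := hmin ⟨hL, by
          rw [Ne, Subgroup.zpowers_eq_bot]; intro e; rw [e, orderOf_one] at hv'; exact hp.one_lt.ne hv',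
          (Subgroup.zpowers_le.2 v.2).trans hVle⟩ (Subgroup.zpowers_le.2 v.2)
        rw [le_antisymm this (Subgroup.zpowers_le.2 v.2), Nat.card_zpowers, hv']
      haveI hMnorm : M.Normal := by
        refine ⟨fun l hl g => ?_⟩
        obtain ⟨v, hv, m, hm, rfl⟩ := Subgroup.mem_sup_of_normal_left.1 (htop ▸ Subgroup.mem_top g)
        have h1 : m * l * m⁻¹ ∈ M := mul_mem (mul_mem hm hl) (inv_mem hm)
        have hc := Subgroup.mem_centralizer_iff.1 (hMC h1) v hv
        have : v * m * l * (v * m)⁻¹ = m * l * m⁻¹ := by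
          calc v * m * l * (v * m)⁻¹ = v * (m * l * m⁻¹) * v⁻¹ := by group
            _ = m * l * m⁻¹ := by rw [hc, mul_inv_cancel_right]
        rw [this]; exact h1
      refine ⟨V, M, hVn, hMnorm, hdisj, htop, hVcard, ⟨hMn, fun H hH => ?_⟩, hpM⟩
      -- proper subgroups of M
      set H' := H.map M.subtype with hH'
      have hlt : H' < M := lt_of_le_of_ne (Subgroup.map_subtype_le _) fun e => hH (by
        apply Subgroup.map_injective M.subtype_injective
        rw [← MonoidHom.range_eq_map, Subgroup.range_subtype]; exact e)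
      have hne : V ⊔ H' ≠ ⊤ := by
        intro e
        refine hlt.not_ge fun m hm => ?_
        obtain ⟨v, hv, m1, hm1, rfl⟩ := Subgroup.mem_sup_of_normal_left.1 (e ▸ Subgroup.mem_top m)
        have hvM : v ∈ M := by
          have := mul_mem hm (inv_mem (hlt.le hm1))
          simpa using this
        have : v ∈ V ⊓ M := ⟨hv, hvM⟩
        rw [hdisj, Subgroup.mem_bot] at this
        rw [this, one_mul]; exact hm1
      have h1 : Group.IsNilpotent H' := Cfsg.Agent.Solv.isNilpotent_of_le le_sup_right
        (hbig _ hne (dvd_trans (dvd_of_eq hVcard.symm) (Subgroup.card_dvd_of_le le_sup_left)))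
      haveI := h1
      exact Group.nilpotent_of_mulEquiv (Subgroup.equivMapOfInjective H _ M.subtype_injective).symm
    · exfalso
      push Not at hV
      obtain ⟨P⟩ : Nonempty (Sylow p G) := inferInstance
      have hnpc : Cfsg.HasNormalPComplement p G := by
        refine Cfsg.Agent.Fusion.hnpc_of_centralize (Cfsg.Agent.Fusion.sylIn_top P) fun Q hQ g hg hgp => ?_
        by_cases hQb : Q = ⊥
        · subst hQb
          rw [Subgroup.mem_centralizer_iff]
          intro x hx
          rw [Subgroup.mem_bot.1 hx, one_mul, mul_one]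
        have hQp : IsPGroup p Q := P.2.to_le hQ
        have hne : Subgroup.normalizer (Q : Set G) ≠ ⊤ := fun e =>
          hV Q (Subgroup.normalizer_eq_top_iff.1 e) hQb hQp
        have hpd : p ∣ Nat.card (Subgroup.normalizer (Q : Set G)) := by
          obtain ⟨j, hj⟩ := IsPGroup.iff_card.1 hQp
          refine dvd_trans ?_ (Subgroup.card_dvd_of_le Subgroup.le_normalizer)
          rw [hj]; exact dvd_pow_self p (by rintro rfl; exact hQb (Subgroup.card_eq_one.1 (by rw [hj, pow_zero])))
        exact coprime_centralize (hbig _ hne hpd) hQp Subgroup.le_normalizer (B := Subgroup.zpowers g)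
          (by rw [Nat.card_zpowers]; exact hgp) (Subgroup.zpowers_le.2 hg) (Subgroup.mem_zpowers g)
      obtain ⟨N, hNn, hNP⟩ := Cfsg.Agent.Fusion.hnpc_exists_complement hnpc P
      haveI := hNn
      have hNcop := Cfsg.Agent.Fusion.coprime_card_of_isComplement' hNP
      have hPb : (P : Subgroup G) ≠ ⊥ := fun e => P.not_dvd_index (by rw [e, Subgroup.index_bot]; exact hpG)
      -- the maximal p'-subgroup M is the complement
      have hMN : M ≤ N := by
        intro m hm
        have hN : N = Cfsg.pResidual p G := Cfsg.Agent.Fusion.eq_pResidual_of_isComplement' hNP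
        rw [hN, Cfsg.Agent.Fusion.hnpc_mem_iff hnpc]
        exact hcopM.coprime_dvd_left (Subgroup.orderOf_dvd_natCard _ hm)
      have hMeq : M = N := hMN.eq_or_lt.elim id fun hlt => absurd (hM.2 _ hlt) fun e => by
        rw [e, Subgroup.card_top] at hNcop
        exact hp.coprime_iff_not_dvd.1 hNcop.symm hpG
      have hPcard : Nat.card P = p := by
        obtain ⟨x, hx⟩ := exists_prime_orderOf_dvd_card' (G := (P : Subgroup G)) p (by
          obtain ⟨j, hj⟩ := IsPGroup.iff_card.1 P.2
          rw [hj]; exact dvd_pow_self p (by rintro rfl; exact hPb (Subgroup.card_eq_one.1 (by rw [hj, pow_zero]))))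
        have hxN : (x : G) ∉ M := fun hxm => hpM (by
          rw [← hx, ← Subgroup.orderOf_coe x]; exact Subgroup.orderOf_dvd_natCard _ hxm)
        have htop : M ⊔ Subgroup.zpowers (x : G) = ⊤ := hM.2 _ (lt_of_le_of_ne le_sup_left fun e =>
          hxN (e ▸ Subgroup.mem_sup_right (Subgroup.mem_zpowers _)))
        have hle : (P : Subgroup G) ≤ Subgroup.zpowers (x : G) := by
          intro a ha
          haveI : M.Normal := hMeq ▸ hNn
          obtain ⟨m, hm, z, hz, rfl⟩ := Subgroup.mem_sup_of_normal_left.1 (htop ▸ Subgroup.mem_top a)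
          have hzP : z ∈ (P : Subgroup G) := Subgroup.zpowers_le.2 x.2 hz
          have hmP : m ∈ (P : Subgroup G) := by
            have := mul_mem ha (inv_mem hzP)
            simpa using this
          have : m ∈ N ⊓ (P : Subgroup G) := ⟨hMN hm, hmP⟩
          rw [hNP.disjoint.eq_bot, Subgroup.mem_bot] at this
          rwa [this, one_mul]
        rw [le_antisymm hle (Subgroup.zpowers_le.2 x.2), Nat.card_zpowers, Subgroup.orderOf_coe, hx]
      -- P centralises N
      have hPC : ∀ q, q.Prime → ∀ Q : Sylow q N, ∃ c : G, ∀ y ∈ (Q : Subgroup N).map N.subtype,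
          c * y * c⁻¹ ∈ Subgroup.centralizer ((P : Subgroup G) : Set G) := by
        intro q hq Q
        haveI : Fact q.Prime := ⟨hq⟩
        set Q' := (Q : Subgroup N).map N.subtype with hQ'
        have hQN : Q' ≤ N := Subgroup.map_subtype_le _
        have hQcop : (Nat.card Q').Coprime p := hNcop.coprime_dvd_left (Subgroup.card_dvd_of_le hQN)
        obtain ⟨L, hQL, hLne, y, hy, hyo⟩ : ∃ L : Subgroup G, Q' ≤ L ∧ L ≠ ⊤ ∧ ∃ y ∈ L, orderOf y = p := by
          by_cases hQn : Subgroup.normalizer (Q' : Set G) = ⊤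
          · haveI : Q'.Normal := Subgroup.normalizer_eq_top_iff.1 hQn
            obtain ⟨x, hx⟩ := exists_prime_orderOf_dvd_card' (G := (P : Subgroup G)) p (dvd_of_eq hPcard.symm)
            refine ⟨Q' ⊔ (P : Subgroup G), le_sup_left, ?_, x, Subgroup.mem_sup_right x.2, by rw [Subgroup.orderOf_coe, hx]⟩
            intro e
            apply hMn
            have hNQ : N ≤ Q' := fun n hn => by
              obtain ⟨a, ha, b, hb, rfl⟩ := Subgroup.mem_sup_of_normal_left.1 (e ▸ Subgroup.mem_top n)
              have hbN : b ∈ N := by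
                have := mul_mem (inv_mem (hQN ha)) hn
                simpa using this
              have : b ∈ N ⊓ (P : Subgroup G) := ⟨hbN, hb⟩
              rw [hNP.disjoint.eq_bot, Subgroup.mem_bot] at this
              rw [this, mul_one]; exact ha
            have hQp : IsPGroup q Q' := Q.2.map _
            haveI : Group.IsNilpotent M := (hQp.to_le (hMN.trans hNQ)).isNilpotent
            infer_instance
          · refine ⟨_, Subgroup.le_normalizer, hQn, ?_⟩
            have htop : Subgroup.normalizer (Q' : Set G) ⊔ N = ⊤ := Sylow.normalizer_sup_eq_top Q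
            have hpd : p ∣ Nat.card (Subgroup.normalizer (Q' : Set G)) := by
              by_contra hnd
              have hle : Subgroup.normalizer (Q' : Set G) ≤ N := by
                intro m hm
                rw [Cfsg.Agent.Fusion.eq_pResidual_of_isComplement' hNP, Cfsg.Agent.Fusion.hnpc_mem_iff hnpc]
                exact ((hp.coprime_iff_not_dvd.2 hnd).symm).coprime_dvd_left (Subgroup.orderOf_dvd_natCard _ hm)
              rw [sup_eq_right.2 hle] at htop
              rw [htop, Subgroup.card_top] at hNcop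
              exact hp.coprime_iff_not_dvd.1 hNcop.symm hpG
            obtain ⟨y, hy⟩ := exists_prime_orderOf_dvd_card' p hpd
            exact ⟨y, y.2, by rw [Subgroup.orderOf_coe, hy]⟩
        have hLn := hbig L hLne (hyo ▸ Subgroup.orderOf_dvd_natCard _ hy)
        have hyP : IsPGroup p (Subgroup.zpowers y) := IsPGroup.of_card (n := 1) (by rw [Nat.card_zpowers, hyo, pow_one])
        have hcen := coprime_centralize hLn hyP (Subgroup.zpowers_le.2 hy) hQcop hQL
        let S : Sylow p G := Sylow.ofCard (Subgroup.zpowers y) (by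
          rw [Nat.card_zpowers, hyo, ← Sylow.card_eq_multiplicity P, hPcard])
        obtain ⟨c, hc⟩ := MulAction.exists_smul_eq G S P
        refine ⟨c, fun z hz => ?_⟩
        rw [Subgroup.mem_centralizer_iff]
        intro a ha
        rw [← hc] at ha
        obtain ⟨b, hb, rfl⟩ := ha
        have h1 := Subgroup.mem_centralizer_iff.1 (hcen hz) b hb
        show c * b * c⁻¹ * (c * z * c⁻¹) = c * z * c⁻¹ * (c * b * c⁻¹)
        calc c * b * c⁻¹ * (c * z * c⁻¹) = c * (b * z) * c⁻¹ := by group
          _ = c * (z * b) * c⁻¹ := by rw [h1]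
          _ = _ := by group
      set CN := N ⊓ Subgroup.centralizer ((P : Subgroup G) : Set G) with hCN
      have hdvd : Nat.card N ∣ Nat.card CN := by
        refine (Nat.dvd_iff_prime_pow_dvd_dvd _ _).2 fun q k hq hk => ?_
        haveI : Fact q.Prime := ⟨hq⟩
        obtain ⟨Q⟩ : Nonempty (Sylow q N) := inferInstance
        obtain ⟨c, hc⟩ := hPC q hq Q
        refine dvd_trans (Q.pow_dvd_card_of_pow_dvd_card hk) ?_
        rw [← Subgroup.card_map_of_injective (K := (Q : Subgroup N)) (f := N.subtype) N.subtype_injective,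
          ← Subgroup.card_map_of_injective (K := (Q : Subgroup N).map N.subtype) (f := (MulAut.conj c).toMonoidHom) (MulAut.conj c).injective]
        refine Subgroup.card_dvd_of_le ?_
        rintro _ ⟨z, hz, rfl⟩
        exact ⟨hNn.conj_mem z (Subgroup.map_subtype_le _ hz) c, hc z hz⟩
      have hNC : N ≤ Subgroup.centralizer ((P : Subgroup G) : Set G) := by
        have : CN = N := Subgroup.eq_of_le_of_card_ge inf_le_left (Nat.le_of_dvd Nat.card_pos hdvd)
        exact this ▸ inf_le_right
      refine hV (P : Subgroup G) ⟨fun a ha g => ?_⟩ hPb P.2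
      have hg : g ∈ N ⊔ (P : Subgroup G) := by rw [hNP.sup_eq_top]; trivial
      obtain ⟨n, hn, b, hb, rfl⟩ := Subgroup.mem_sup_of_normal_left.1 hg
      have h1 := Subgroup.mem_centralizer_iff.1 (hNC hn) _ (mul_mem (mul_mem hb ha) (inv_mem hb))
      have : n * b * a * (n * b)⁻¹ = b * a * b⁻¹ := by
        calc n * b * a * (n * b)⁻¹ = n * (b * a * b⁻¹) * n⁻¹ := by group
          _ = b * a * b⁻¹ := by rw [← h1, mul_inv_cancel_right]
      rw [this]
      exact mul_mem (mul_mem hb ha) (inv_mem hb)
  · rintro (hnil | hmnn | ⟨Z, K, hZn, hKn, hZK, htop, hZc, hK, hpK⟩) M hM hpM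
    · exact inferInstance
    · exact hmnn.2 M hM.1
    · have hcomm : ∀ z ∈ Z, ∀ k ∈ K, z * k = k * z := fun z hz k hk =>
        Subgroup.commute_of_normal_of_disjoint Z K hZn hKn (disjoint_iff.2 hZK) z k hz hk
      have hdec : ∀ g : G, ∃ z ∈ Z, ∃ k ∈ K, z * k = g := fun g =>
        Subgroup.mem_sup_of_normal_left.1 (htop ▸ Subgroup.mem_top g)
      have hZM : Z ≤ M := by
        by_contra hnle
        have hd : Z ⊓ M = ⊥ := by
          haveI : Fact (Nat.card Z).Prime := ⟨hZc.symm ▸ hp⟩
          rcases (M.subgroupOf Z).eq_bot_or_eq_top_of_prime_card with h1 | h1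
          · rw [Subgroup.subgroupOf_eq_bot] at h1
            rw [inf_comm]; exact h1.eq_bot
          · exact absurd (Subgroup.subgroupOf_eq_top.1 h1) hnle
        have ht : Z ⊔ M = ⊤ := hM.2 _ (lt_of_le_of_ne le_sup_right fun e => hnle (e ▸ le_sup_left))
        haveI := hZn
        have h1 := Subgroup.isComplement'_of_disjoint_and_mul_eq_univ (disjoint_iff.2 hd)
          (by rw [← Subgroup.normal_mul, ht]; rfl)
        have h2 := Subgroup.isComplement'_of_disjoint_and_mul_eq_univ (disjoint_iff.2 hZK)
          (by rw [← Subgroup.normal_mul, htop]; rfl)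
        have h3 := h1.card_mul.trans h2.card_mul.symm
        exact hpK (Nat.eq_of_mul_eq_mul_left Nat.card_pos h3 ▸ hpM)
      haveI := hZn
      have hM1 : (M ⊓ K).subgroupOf K ≠ ⊤ := fun e => hM.1 (top_le_iff.1 (htop ▸
        sup_le hZM ((Subgroup.subgroupOf_eq_top.1 e).trans inf_le_left)))
      have hnilMK : Group.IsNilpotent ((M ⊓ K : Subgroup G)) := by
        haveI := hK.2 _ hM1
        exact Group.nilpotent_of_mulEquiv (Subgroup.subgroupOfEquivOfLe (inf_le_right : M ⊓ K ≤ K))
      haveI hZnil : Group.IsNilpotent Z := (IsPGroup.of_card (p := p) (n := 1) (by rw [hZc, pow_one])).isNilpotent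
      haveI := hnilMK
      let f : Z × (M ⊓ K : Subgroup G) →* M := MonoidHom.noncommCoprod
        (Subgroup.inclusion hZM) (Subgroup.inclusion inf_le_left)
        (fun z k => Subtype.ext (hcomm z z.2 k k.2.2))
      refine Group.nilpotent_of_surjective f fun m => ?_
      obtain ⟨z, hz, k, hk, hzk⟩ := hdec m
      have hkM : k ∈ M := by
        have := mul_mem (inv_mem (hZM hz)) m.2
        rwa [← hzk, inv_mul_cancel_left] at this
      exact ⟨(⟨z, hz⟩, ⟨k, hkM, hk⟩), Subtype.ext hzk⟩

end Cfsg.Agent.S4242
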