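import Cfsg.Statements.S4244


set_option autoImplicit false
open Cfsg

namespace Cfsg.Agent.S4244

universe u

theorem relIndex_dvd {M : Type u} [Group M] [Finite M] (H K : Subgroup M) [H.Normal] :
    K.relIndex H ∣ K.index := by
  have h1 : H.relIndex (K ⊔ H) = H.relIndex K := Subgroup.relIndex_sup_right K H
  have hc : ∀ A B : Subgroup M, A ≤ B → A.relIndex B * Nat.card A = Nat.card B := fun A B h => by
    rw [← Subgroup.relIndex_bot_left, ← Subgroup.relIndex_bot_left, mul_comm]
    exact Subgroup.relIndex_mul_relIndex ⊥ A B bot_le h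
  have e1 := hc H (K ⊔ H) le_sup_right
  have e2 := hc K (K ⊔ H) le_sup_left
  have e3 := hc (K ⊓ H) H inf_le_right
  have e4 := hc (H ⊓ K) K inf_le_right
  rw [Subgroup.inf_relIndex_right] at e3 e4
  rw [h1] at e1
  rw [inf_comm] at e4
  have : K.relIndex (K ⊔ H) = K.relIndex H := by
    refine Nat.eq_of_mul_eq_mul_right (Nat.card_pos (α := K)) (e2.trans (e1.symm.trans ?_))
    rw [← e3, ← e4]; ring
  rw [← this]
  exact Subgroup.relIndex_dvd_index_of_le le_sup_left


/-- Let H be a subnormal subgroup of a finite group G. Then for every subgroup K of G the index of H ∩ K in H divides the index of K in G. -/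
theorem result {G : Type*} [Group G] [Finite G] (H : Subgroup G) (hH : H.IsSubnormal) (K : Subgroup G) :
    (H ⊓ K).relIndex H ∣ K.index := by
  have key : ∀ A : Subgroup G, A.IsSubnormal → K.relIndex A ∣ K.index := by
    intro A hA
    induction hA with
    | top => rw [Subgroup.relIndex_top_right]
    | step A B hle _ hn ih =>
      haveI := hn
      refine dvd_trans ?_ ih
      have := relIndex_dvd (A.subgroupOf B) (K.subgroupOf B)
      rwa [Subgroup.relIndex_subgroupOf hle] at this
  rw [inf_comm, Subgroup.inf_relIndex_right]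
  exact key H hH

end Cfsg.Agent.S4244
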