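import Cfsg.Statements.S4245
import Cfsg.Agent.Lib.Perm.Kazarin
import Mathlib

set_option autoImplicit false
set_option linter.style.haveILetI false
open Cfsg
open Cfsg.Agent.Perm.Kazarin

namespace Cfsg.Agent.S4245

universe u

theorem mem_rad_of_le {G : Type u} [Group G] [Finite G] {p k : ℕ} (hp : p.Prime) (x : G) (D : Subgroup G)
    (hD : ∀ d ∈ D, d * x = x * d) (hk : D.index = p ^ k) : x ∈ solvableRadical G := by
  haveI := Fact.mk hp
  have hle : D ≤ Subgroup.centralizer ({x} : Set G) := fun d hd =>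
    Subgroup.mem_centralizer_singleton_iff.2 (hD d hd)
  obtain ⟨b, -, hb⟩ := (Nat.dvd_prime_pow hp).1 (hk ▸ Subgroup.index_dvd_of_le hle)
  exact mem_rad hb

theorem main : ∀ (n : ℕ) {G : Type u} [Group G] [Finite G], Nat.card G = n →
    ∀ (A : Subgroup G) (p s : ℕ), p.Prime → A.index = p ^ s →
    ∀ (B : Subgroup A) [B.Normal], IsCyclic B → IsCyclic (A ⧸ B) →
    ∀ r : ℕ, Nat.card (A ⧸ B) = 2 ^ r → Group.IsSolvable G := by
  intro n
  induction n using Nat.strong_induction_on with
  | _ n ih =>
  intro G _ _ hn A p s hp hA B _ hB hAB r hr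
  subst hn
  by_contra hns
  haveI := Fact.mk hp
  have hnt : A ≠ ⊥ := by
    rintro rfl
    rw [Subgroup.index_bot] at hA
    haveI : Group.IsNilpotent G := (IsPGroup.of_card hA).isNilpotent
    exact hns (IsNilpotent.to_isSolvable (G := G))
  have hR : solvableRadical G = ⊥ := by
    by_contra hne
    haveI := rad_normal (G := G)
    haveI := rad_solvable (G := G)
    set R := solvableRadical G
    set f := QuotientGroup.mk' R
    have hf : Function.Surjective f := QuotientGroup.mk'_surjective R
    obtain ⟨s', -, hs'⟩ := (Nat.dvd_prime_pow hp).1 (hA ▸ A.index_map_dvd hf)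
    let φ : A →* A.map f := f.subgroupMap A
    have hφ : Function.Surjective φ := f.subgroupMap_surjective A
    haveI : (B.map φ).Normal := Subgroup.Normal.map ‹B.Normal› φ hφ
    haveI := hB
    haveI hB' : IsCyclic (B.map φ) :=
      isCyclic_of_surjective (φ.subgroupMap B) (φ.subgroupMap_surjective B)
    let ψ := QuotientGroup.map B (B.map φ) φ (Subgroup.le_comap_map φ B)
    have hψ : Function.Surjective ψ :=
      QuotientGroup.map_surjective_of_surjective _ _ _
        ((QuotientGroup.mk'_surjective (B.map φ)).comp hφ) _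
    haveI := hAB
    obtain ⟨r', -, hr'⟩ := (Nat.dvd_prime_pow Nat.prime_two).1
      (hr ▸ Subgroup.card_dvd_of_surjective ψ hψ)
    have hlt : Nat.card (G ⧸ R) < Nat.card G := by
      rw [Subgroup.card_eq_card_quotient_mul_card_subgroup R]
      exact lt_mul_of_one_lt_right Nat.card_pos ((Subgroup.one_lt_card_iff_ne_bot R).2 hne)
    haveI := ih _ hlt rfl (A.map f) p s' hp hs' (B.map φ) hB' (isCyclic_of_surjective ψ hψ) r' hr'
    exact hns ((Group.isSolvable_iff_subgroup_quotient R).2 ⟨inferInstance, inferInstance⟩)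
  have key : ∀ (x : G) (D : Subgroup G) (q k : ℕ), q.Prime → (∀ d ∈ D, d * x = x * d) →
      D.index = q ^ k → x = 1 := fun x D q k hq h1 h2 =>
    Subgroup.mem_bot.1 (hR ▸ mem_rad_of_le hq x D h1 h2)
  set C : Subgroup G := B.map A.subtype with hC
  have hCA : C ≤ A := Subgroup.map_subtype_le B
  have hCidx : C.index = 2 ^ r * p ^ s := by
    rw [hC, Subgroup.index_map_subtype, Subgroup.index_eq_card, hr, hA]
  have hcomm : ∀ u ∈ B, ∀ v ∈ B, u * v = v * u := fun u hu v hv => by
    haveI := hB
    letI : CommGroup B := IsCyclic.commGroup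
    exact congrArg Subtype.val (mul_comm (⟨u, hu⟩ : B) ⟨v, hv⟩)
  have hBtriv : B ≠ ⊥ := by
    intro hb
    obtain ⟨a, ha, ha1⟩ := (Subgroup.bot_or_exists_ne_one A).resolve_left hnt
    refine ha1 (key a A p s hp (fun d hd => ?_) hA)
    haveI := hAB
    letI : CommGroup (A ⧸ B) := IsCyclic.commGroup
    have h1 := mul_comm (QuotientGroup.mk' B ⟨d, hd⟩) (QuotientGroup.mk' B ⟨a, ha⟩)
    rw [← map_mul, ← map_mul, QuotientGroup.mk'_apply, QuotientGroup.mk'_apply, QuotientGroup.eq,
      hb, Subgroup.mem_bot, inv_mul_eq_one] at h1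
    exact congrArg Subtype.val h1
  obtain ⟨b, hb, hb1⟩ := (Subgroup.bot_or_exists_ne_one B).resolve_left hBtriv
  have hbC : ∀ d ∈ C, d * (b : G) = (b : G) * d := by
    rintro _ ⟨d, hd, rfl⟩
    exact congrArg Subtype.val (hcomm d hd b hb)
  have hb1' : (b : G) ≠ 1 := fun h => hb1 (Subtype.ext h)
  have hp2 : p ≠ 2 := by
    rintro rfl
    exact hb1' (key b C 2 (r + s) Nat.prime_two hbC (by rw [hCidx, pow_add]))
  haveI := Fact.mk Nat.prime_two
  have hBodd : ¬ 2 ∣ Nat.card B := by
    intro h2
    obtain ⟨z, hz⟩ := exists_prime_orderOf_dvd_card' 2 h2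
    rw [← Subgroup.orderOf_coe] at hz
    have hz1 : ((z : A) : G) ≠ 1 := fun h => by
      rw [OneMemClass.coe_eq_one] at h
      rw [h, orderOf_one] at hz
      exact absurd hz (by norm_num)
    refine hz1 (key _ A p s hp (fun d hd => ?_) hA)
    haveI := hB
    classical
    haveI : Fintype B := Fintype.ofFinite B
    have huniq : ∀ w : B, orderOf w = 2 → w = z := by
      intro w hw
      have hcard : (Finset.univ.filter fun v : B => orderOf v = 2).card = 1 := by
        rw [IsCyclic.card_orderOf_eq_totient (by rwa [← Nat.card_eq_fintype_card]), Nat.totient_two]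
      exact Finset.card_le_one.1 hcard.le w (Finset.mem_filter.2 ⟨Finset.mem_univ _, hw⟩) z
        (Finset.mem_filter.2 ⟨Finset.mem_univ _, by rw [← Subgroup.orderOf_coe]; exact hz⟩)
    have hmem : (⟨d, hd⟩ : A) * z * (⟨d, hd⟩ : A)⁻¹ ∈ B := ‹B.Normal›.conj_mem _ z.2 _
    have h3 := huniq ⟨_, hmem⟩ (by
      rw [← Subgroup.orderOf_coe]
      exact (orderOf_injective (MulAut.conj (⟨d, hd⟩ : A)).toMonoidHom
        (MulAut.conj (⟨d, hd⟩ : A)).injective (z : A)).trans hz)
    have h4 := congrArg (fun w : B => ((w : A) : G)) h3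
    exact (mul_inv_eq_iff_eq_mul.1 h4)
  rcases Nat.eq_zero_or_pos r with rfl | hr0
  · exact hb1' (key b C p s hp hbC (by rw [hCidx, pow_zero, one_mul]))
  have hcardB : Nat.card C = Nat.card B :=
    (Nat.card_congr (B.equivMapOfInjective _ A.subtype_injective).toEquiv).symm
  have hGcard : Nat.card G = Nat.card B * (2 ^ r * p ^ s) := by
    rw [← C.card_mul_index, hcardB, hCidx]
  have hps : ¬ 2 ∣ Nat.card B * p ^ s := fun h => by
    rcases Nat.prime_two.dvd_mul.1 h with h | h
    · exact hBodd h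
    · exact hp2 ((Nat.prime_dvd_prime_iff_eq Nat.prime_two hp).1 (Nat.prime_two.dvd_of_dvd_pow h)).symm
  let P : Sylow 2 A := default
  have hAcard : Nat.card A = 2 ^ r * Nat.card B := by
    rw [Subgroup.card_eq_card_quotient_mul_card_subgroup B, hr]
  have hPcard : Nat.card (P : Subgroup A) = 2 ^ r := by
    rw [P.card_eq_multiplicity, hAcard, Nat.factorization_mul (pow_ne_zero r two_ne_zero) Nat.card_pos.ne']
    simp [Nat.Prime.factorization_pow Nat.prime_two, Nat.factorization_eq_zero_of_not_dvd hBodd]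
  have hPcyc : IsCyclic (P : Subgroup A) := by
    haveI := hAB
    refine isCyclic_of_injective ((QuotientGroup.mk' B).comp (P : Subgroup A).subtype) ?_
    rw [← MonoidHom.ker_eq_bot_iff, eq_bot_iff]
    intro x hx
    rw [MonoidHom.mem_ker, MonoidHom.comp_apply, QuotientGroup.mk'_apply, QuotientGroup.eq_one_iff] at hx
    have h1 : orderOf (x : A) ∣ 2 ^ r := by
      rw [Subgroup.orderOf_coe, ← hPcard]; exact orderOf_dvd_natCard x
    have h2 : orderOf (x : A) ∣ Nat.card B := Subgroup.orderOf_mk (x : A) hx ▸ orderOf_dvd_natCard _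
    have h3 : orderOf (x : A) = 1 :=
      Nat.eq_one_of_dvd_coprimes ((Nat.prime_two.coprime_iff_not_dvd.2 hBodd).pow_left r) h1 h2
    rw [orderOf_eq_one_iff, OneMemClass.coe_eq_one] at h3
    exact Subgroup.mem_bot.2 h3
  set T : Subgroup G := (P : Subgroup A).map A.subtype
  have hTcard : Nat.card T = 2 ^ r := by
    rw [← hPcard]
    exact (Nat.card_congr (Subgroup.equivMapOfInjective _ _ A.subtype_injective).toEquiv).symm
  have hTidx : T.index = Nat.card B * p ^ s := by
    have h := T.card_mul_index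
    rw [hTcard, hGcard, show Nat.card B * (2 ^ r * p ^ s) = 2 ^ r * (Nat.card B * p ^ s) by ring] at h
    exact Nat.eq_of_mul_eq_mul_left (pow_pos two_pos r) h
  let S := (P.isPGroup'.map A.subtype).toSylow (hTidx ▸ hps)
  have hScyc : IsCyclic (S : Subgroup G) := by
    rw [IsPGroup.toSylow_coe]
    haveI := hPcyc
    exact isCyclic_of_surjective (A.subtype.subgroupMap (P : Subgroup A)) (A.subtype.subgroupMap_surjective _)
  have h2G : 2 ∣ Nat.card G := by
    rw [hGcard]
    exact dvd_mul_of_dvd_right (dvd_mul_of_dvd_left (dvd_pow_self 2 hr0.ne') _) _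
  haveI := hScyc
  have hmin : (Nat.card G).minFac = 2 := (Nat.minFac_eq_two_iff _).2 h2G
  have hnorm := IsCyclic.normalizer_le_centralizer hmin hScyc
  set K := (MonoidHom.transferSylow S hnorm).ker
  have hcompl := MonoidHom.ker_transferSylow_isComplement' S hnorm
  have hKidx : K.index = 2 ^ r := by
    rw [hcompl.symm.index_eq_card, IsPGroup.toSylow_coe, hTcard]
  have hCK : C ≤ K := by
    intro c hc
    rw [← QuotientGroup.eq_one_iff, ← orderOf_eq_one_iff]
    refine Nat.eq_one_of_dvd_coprimes ((Nat.prime_two.coprime_iff_not_dvd.2 hBodd).pow_left r) ?_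
      ((orderOf_map_dvd (QuotientGroup.mk' K) c).trans ?_)
    · rw [← hKidx]; exact orderOf_dvd_natCard _
    · rw [← hcardB, ← Subgroup.orderOf_mk c hc]; exact orderOf_dvd_natCard _
  have hCKidx : (C.subgroupOf K).index = p ^ s := by
    have h := Subgroup.relIndex_mul_index hCK
    rw [hKidx, hCidx, mul_comm] at h
    exact Nat.eq_of_mul_eq_mul_left (pow_pos two_pos r) h
  have hKlt : Nat.card K < Nat.card G := by
    rw [← K.card_mul_index, hKidx]
    exact lt_mul_of_one_lt_right Nat.card_pos (Nat.one_lt_pow hr0.ne' one_lt_two)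
  haveI : IsCyclic C :=
    haveI := hB
    isCyclic_of_surjective (A.subtype.subgroupMap B) (A.subtype.subgroupMap_surjective B)
  haveI : IsCyclic (C.subgroupOf K) :=
    isCyclic_of_surjective (Subgroup.subgroupOfEquivOfLe hCK).symm.toMonoidHom
      (Subgroup.subgroupOfEquivOfLe hCK).symm.surjective
  haveI : Subsingleton (↥(C.subgroupOf K) ⧸ (⊤ : Subgroup ↥(C.subgroupOf K))) :=
    QuotientGroup.subsingleton_quotient_top
  haveI hKs : Group.IsSolvable K := ih _ hKlt rfl (C.subgroupOf K) p s hp hCKidx ⊤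
    (isCyclic_of_surjective (Subgroup.topEquiv (G := C.subgroupOf K)).symm.toMonoidHom
      (Subgroup.topEquiv (G := C.subgroupOf K)).symm.surjective)
    inferInstance 0 (by rw [pow_zero]; exact Nat.card_unique)
  haveI : Group.IsSolvable (G ⧸ K) := by
    haveI : Group.IsNilpotent (G ⧸ K) :=
      (IsPGroup.of_card (G := G ⧸ K) (p := 2) (n := r) (by rw [← Subgroup.index_eq_card, hKidx])).isNilpotent
    exact IsNilpotent.to_isSolvable (G := G ⧸ K)
  exact hns ((Group.isSolvable_iff_subgroup_quotient K).2 ⟨inferInstance, inferInstance⟩)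

/-- Let G be a finite group with a subgroup A of prime-power index. Suppose A has a normal cyclic subgroup B such that A/B is cyclic of order a power of 2. Then G is solvable. -/
theorem result {G : Type*} [Group G] [Finite G] (A : Subgroup G) (p s : ℕ) (hp : p.Prime) (hA : A.index = p ^ s)
    (B : Subgroup A) [B.Normal] (hB : IsCyclic B) (hAB : IsCyclic (A ⧸ B)) (r : ℕ) (hr : Nat.card (A ⧸ B) = 2 ^ r) :
    Group.IsSolvable G :=
  main _ rfl A p s hp hA B hB hAB r hr

end Cfsg.Agent.S4245
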