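import Cfsg.Statements.S4249
import Cfsg.Agent.Lib.Perm.Splitting

set_option autoImplicit false
open Cfsg

namespace Cfsg.Agent.S4249

open Cfsg.Agent.Solv

theorem main {G : Type*} [Group G] [Finite G] {p : ℕ} (hp : p.Prime) (hG : ¬ IsPGroup p G)
    (H : Subgroup G) [H.Normal] (hgen : ∀ g : G, g ∉ H → g ^ p = 1) (hH : H ≠ ⊤) :
    Group.IsNilpotent H ∧ H.index = p := by
  classical
  haveI := Fact.mk hp
  obtain ⟨x, hx⟩ : ∃ x, x ∉ H := by
    by_contra hno
    push Not at hno
    exact hH ((Subgroup.eq_top_iff' H).2 hno)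
  have hnil : Group.IsNilpotent H := Cfsg.Agent.Perm.splitting_nilpotent H x hp
    (by rw [Subgroup.normalizer_eq_top]; exact Subgroup.mem_top x) fun k hk =>
      hgen _ fun h => hx ((H.mul_mem_cancel_left hk).1 h)
  refine ⟨hnil, ?_⟩
  haveI := hnil
  -- a prime other than `p` divides `H`
  obtain ⟨q, hq, hqp, hqH⟩ : ∃ q, q.Prime ∧ q ≠ p ∧ q ∣ Nat.card H := by
    by_contra hno
    push Not at hno
    refine hG ?_
    have hHp : IsPGroup p H := IsPGroup.of_card (Nat.eq_prime_pow_of_unique_prime_dvd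
      Nat.card_pos.ne' fun {d} hd hdH => by_contra fun h => hno d hd h hdH)
    intro g
    by_cases hg : g ∈ H
    · obtain ⟨k, hk⟩ := hHp ⟨g, hg⟩
      exact ⟨k, congrArg Subtype.val hk⟩
    · exact ⟨1, by rw [pow_one]; exact hgen g hg⟩
  haveI := Fact.mk hq
  obtain ⟨Q⟩ := (inferInstance : Nonempty (Sylow q H))
  have hQn : (Q : Subgroup H).Normal := Cfsg.Agent.Perm.sylow_normal_of_nilpotent hnil Q
  haveI : (Q : Subgroup H).Characteristic := Q.characteristic_of_normal hQn
  haveI : Nontrivial (Q : Subgroup H) := by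
    rw [← Finite.one_lt_card_iff_nontrivial, Q.card_eq_multiplicity]
    exact Nat.one_lt_pow (hq.factorization_pos_of_dvd Nat.card_pos.ne' hqH).ne' hq.one_lt
  haveI hZnt : Nontrivial (Subgroup.center (Q : Subgroup H)) := Q.isPGroup'.center_nontrivial
  set Q' := (Q : Subgroup H).map H.subtype with hQ'
  have hQH : Q' ≤ H := Subgroup.map_subtype_le _
  have hQq : IsPGroup q Q' := Q.isPGroup'.map _
  haveI hQ'n : Q'.Normal := inferInstance
  set V := Q' ⊓ Subgroup.centralizer (Q' : Set G) with hV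
  haveI : IsMulCommutative V := ⟨⟨fun a b => Subtype.ext
    (Subgroup.mem_centralizer_iff.1 b.2.2 a a.2.1)⟩⟩
  have hVb : V ≠ ⊥ := by
    obtain ⟨⟨⟨⟨z, hzH⟩, hzQ⟩, hzc⟩, hz1⟩ := exists_ne (1 : Subgroup.center (Q : Subgroup H))
    intro hb
    have hzV : z ∈ V := by
      refine ⟨⟨⟨z, hzH⟩, hzQ, rfl⟩, Subgroup.mem_centralizer_iff.2 ?_⟩
      rintro _ ⟨u, hu, rfl⟩
      exact congrArg (fun t : (Q : Subgroup H) => ((t : H) : G))
        (Subgroup.mem_center_iff.1 hzc ⟨u, hu⟩)
    rw [hb, Subgroup.mem_bot] at hzV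
    exact hz1 (Subtype.ext (Subtype.ext (Subtype.ext hzV)))
  have hVn : ∀ g : G, g ∈ Subgroup.normalizer (V : Set G) := fun g => by
    rw [Subgroup.normalizer_eq_top]; exact Subgroup.mem_top g
  have hVq : IsPGroup q V := hQq.to_le inf_le_left
  have hfpf : ∀ g ∉ H, V ⊓ Subgroup.centralizer {g} = ⊥ := by
    intro g hg
    rw [Subgroup.eq_bot_iff_forall]
    rintro v ⟨hv, hvc⟩
    have hvH : v ∈ H := hQH hv.1
    have h1 := hgen (v * g) fun h => hg ((H.mul_mem_cancel_left hvH).1 h)
    rw [(show Commute v g from Subgroup.mem_centralizer_singleton_iff.1 hvc).mul_pow, hgen g hg,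
      mul_one] at h1
    obtain ⟨k, hk⟩ := hVq ⟨v, hv⟩
    have h2 : v ^ q ^ k = 1 := congrArg Subtype.val hk
    rw [← orderOf_eq_one_iff]
    exact Nat.eq_one_of_dvd_coprimes (Nat.Coprime.pow_left k ((Nat.coprime_primes hq hp).2 hqp))
      (orderOf_dvd_of_pow_eq_one h2) (orderOf_dvd_of_pow_eq_one h1)
  have hidx1 : H.index ≠ 1 := fun e => hH (Subgroup.index_eq_one.1 e)
  obtain ⟨j, hj⟩ : ∃ j, H.index = p ^ j := by
    have : IsPGroup p (G ⧸ H) := fun g => by
      obtain ⟨g, rfl⟩ := QuotientGroup.mk_surjective g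
      by_cases hg : g ∈ H
      · exact ⟨0, by rw [pow_zero, pow_one]; exact (QuotientGroup.eq_one_iff g).2 hg⟩
      · exact ⟨1, by rw [pow_one, ← QuotientGroup.mk_pow, hgen g hg, QuotientGroup.mk_one]⟩
    exact IsPGroup.iff_card.1 this
  by_contra hne
  have hj2 : 2 ≤ j := by
    rcases j with _ | _ | j
    · exact absurd hj hidx1
    · exact absurd (hj.trans (pow_one p)) hne
    · omega
  obtain ⟨P⟩ := (inferInstance : Nonempty (Sylow p G))
  set D := H.subgroupOf (P : Subgroup G) with hD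
  have hDidx : D.index = p ^ j := by
    rw [hD, ← hj]
    show H.relIndex (P : Subgroup G) = H.index
    obtain ⟨c, hc⟩ := Subgroup.relIndex_dvd_index_of_normal H (P : Subgroup G)
    have hcop : ¬ p ∣ c := by
      intro hd
      refine P.not_dvd_index ?_
      have e1 := Subgroup.relIndex_mul_index (show H ⊓ (P : Subgroup G) ≤ P from inf_le_right)
      have e2 := Subgroup.relIndex_mul_index (show H ⊓ (P : Subgroup G) ≤ H from inf_le_left)
      rw [Subgroup.inf_relIndex_right] at e1
      rw [Subgroup.inf_relIndex_left, ← e1, hc] at e2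
      have hpos : 0 < H.relIndex (P : Subgroup G) := Nat.pos_of_ne_zero Subgroup.index_ne_zero_of_finite
      have e3 : (P : Subgroup G).relIndex H * c = (P : Subgroup G).index :=
        Nat.eq_of_mul_eq_mul_left hpos (by rw [← e2]; ring)
      exact e3 ▸ hd.mul_left _
    have hc1 : c ∣ p ^ j := hj ▸ hc ▸ dvd_mul_left _ _
    obtain ⟨i, -, hi⟩ := (Nat.dvd_prime_pow hp).1 hc1
    rcases i with _ | i
    · rw [hc, hi, pow_zero, mul_one]
    · exact absurd (hi ▸ dvd_pow_self p (Nat.succ_ne_zero i)) hcop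
  have hDne : D ≠ ⊤ := fun e => by
    rw [e, Subgroup.index_top] at hDidx
    exact (Nat.one_lt_pow (by omega : j ≠ 0) hp.one_lt).ne hDidx
  obtain ⟨S₀, hS, hDS⟩ := (eq_top_or_exists_le_coatom D).resolve_left hDne
  haveI := P.isPGroup'.isNilpotent
  haveI hS₀n : S₀.Normal :=
    Subgroup.NormalizerCondition.normal_of_coatom S₀ Group.normalizerCondition_of_isNilpotent hS
  obtain ⟨s₀, hs₀, hs₀D⟩ : ∃ s ∈ S₀, s ∉ D := by
    by_contra hno
    push Not at hno
    have hDc : IsCoatom D := le_antisymm hno hDS ▸ hS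
    haveI : D.Normal := inferInstance
    obtain ⟨u, hu⟩ := exists_prime_orderOf_dvd_card' p (G := P ⧸ D)
      (by rw [← Subgroup.index_eq_card, hDidx]; exact dvd_pow_self p (by omega))
    obtain ⟨u, rfl⟩ := QuotientGroup.mk_surjective u
    have htop : (Subgroup.zpowers (u : P ⧸ D)).comap (QuotientGroup.mk' D) = ⊤ := by
      refine (hDc.le_iff.1 (QuotientGroup.le_comap_mk' D _)).resolve_right fun e => ?_
      have : u ∈ D := e ▸ (Subgroup.mem_zpowers (u : P ⧸ D))
      rw [(QuotientGroup.eq_one_iff u).2 this, orderOf_one] at hu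
      exact hp.one_lt.ne hu
    have h1 : Subgroup.zpowers (u : P ⧸ D) = ⊤ := by
      rw [← Subgroup.map_comap_eq_self_of_surjective (QuotientGroup.mk'_surjective D) (Subgroup.zpowers (u : P ⧸ D)),
        htop, Subgroup.map_top_of_surjective _ (QuotientGroup.mk'_surjective D)]
    have h2 := Nat.card_zpowers (u : P ⧸ D)
    rw [h1, Subgroup.card_top, hu, ← Subgroup.index_eq_card, hDidx] at h2
    have : p ^ 1 < p ^ j := Nat.pow_lt_pow_right hp.one_lt (by omega)
    rw [pow_one] at this
    omega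
  obtain ⟨y, hy⟩ : ∃ y, y ∉ S₀ := by
    by_contra hno
    push Not at hno
    exact hS.1 ((Subgroup.eq_top_iff' S₀).2 hno)
  set S := S₀.map (P : Subgroup G).subtype with hSdef
  have hSp : IsPGroup p S := (P.isPGroup'.to_subgroup S₀).map _
  refine hVb (Cfsg.Agent.Perm.split_trivial V S hp (x := (y : G)) (hVn _) ?_ (fun g _ => hVn g)
    (fun v hv s hs => ?_) ?_ ?_)
  · refine Subgroup.le_normalizer_map (P : Subgroup G).subtype ⟨y, ?_, rfl⟩
    rw [Subgroup.normalizer_eq_top]; exact Subgroup.mem_top y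
  · obtain ⟨s', hs', rfl⟩ := hs
    refine hgen _ fun h => hy ?_
    have h1 : ((P : Subgroup G).subtype s') * (y : G) ∈ H := by
      rw [mul_assoc] at h
      exact (H.mul_mem_cancel_left (hQH hv.1)).1 h
    have h2 : s' * y ∈ S₀ := hDS (show s' * y ∈ D from h1)
    exact (S₀.mul_mem_cancel_left hs').1 h2
  · rw [eq_bot_iff, ← hfpf (s₀ : G) hs₀D]
    exact inf_le_inf_left _ (Subgroup.centralizer_le
      (Set.singleton_subset_iff.2 ⟨s₀, hs₀, rfl⟩))
  · obtain ⟨a, ha⟩ := IsPGroup.iff_card.1 hVq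
    obtain ⟨b, hb⟩ := IsPGroup.iff_card.1 hSp
    rw [ha, hb]
    exact Nat.Coprime.pow _ _ ((Nat.coprime_primes hq hp).2 hqp)

/-- Let G be a finite group and p a prime such that G is not a p-group, and suppose the Hughes subgroup H_p(G), generated by all elements g with g^p ≠ 1, is a proper subgroup. Then H_p(G) is nilpotent and has index p in G. -/
theorem result {G : Type*} [Group G] [Finite G] (p : ℕ) (hp : p.Prime) (hG : ¬ IsPGroup p G)
    (hH : Subgroup.closure {g : G | g ^ p ≠ 1} ≠ ⊤) :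
    Group.IsNilpotent (Subgroup.closure {g : G | g ^ p ≠ 1}) ∧ (Subgroup.closure {g : G | g ^ p ≠ 1}).index = p := by
  haveI : (Subgroup.closure {g : G | g ^ p ≠ 1}).Normal := by
    refine ⟨fun n hn g => ?_⟩
    induction hn using Subgroup.closure_induction with
    | mem a ha =>
      refine Subgroup.subset_closure fun h => ha ?_
      rw [conj_pow] at h
      simpa using h
    | one => simp
    | mul a b _ _ iha ihb =>
      have := Subgroup.mul_mem _ iha ihb
      convert this using 1; group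
    | inv a _ iha =>
      have := Subgroup.inv_mem _ iha
      convert this using 1; group
  exact main hp hG _ (fun g hg => by_contra fun h => hg (Subgroup.subset_closure h)) hH

end Cfsg.Agent.S4249
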