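import Cfsg.Statements.S4250
import Mathlib
import Cfsg.Agent.Lib.Fusion.Alperin
import Cfsg.Agent.Lib.Fusion.Focal

set_option autoImplicit false
open Cfsg

namespace Cfsg.Agent.S4250


open Cfsg.Agent.Fusion
open scoped commutatorElement


/-- Let P be a Sylow p-subgroup of a finite group G. Call an intersection H = P ∩ Q with a Sylow p-subgroup Q tame when N_P(H) and N_Q(H) are Sylow p-subgroups of N_G(H). Then P ∩ G′ is generated by [P, N_G(P)] together with the commutator subgroups [P ∩ Q, ⟨x⟩] for all tame intersections P ∩ Q and all p-elements x of N_G(P ∩ Q). -/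
theorem result {G : Type*} [Group G] [Finite G] (p : ℕ) [Fact p.Prime] (P : Sylow p G) :
    (P : Subgroup G) ⊓ commutator G =
      ⁅(P : Subgroup G), Subgroup.normalizer ((P : Subgroup G) : Set G)⁆ ⊔
        ⨆ (Q : Sylow p G) (_ : (¬ p ∣ ((P : Subgroup G) ⊓ Subgroup.normalizer (((P : Subgroup G) ⊓ (Q : Subgroup G) : Subgroup G) : Set G)).relIndex (Subgroup.normalizer (((P : Subgroup G) ⊓ (Q : Subgroup G) : Subgroup G) : Set G)) ∧ ¬ p ∣ ((Q : Subgroup G) ⊓ Subgroup.normalizer (((P : Subgroup G) ⊓ (Q : Subgroup G) : Subgroup G) : Set G)).relIndex (Subgroup.normalizer (((P : Subgroup G) ⊓ (Q : Subgroup G) : Subgroup G) : Set G))))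
          (x : G) (_ : x ∈ Subgroup.normalizer (((P : Subgroup G) ⊓ (Q : Subgroup G) : Subgroup G) : Set G) ∧ ∃ k : ℕ, orderOf x = p ^ k),
          ⁅(P : Subgroup G) ⊓ (Q : Subgroup G), Subgroup.zpowers x⁆ := by
  classical
  have hS := sylIn_top P
  refine le_antisymm ?_ ?_
  · rw [inf_commutator_eq_focalIn_top hS]
    set K := ⁅(P : Subgroup G), Subgroup.normalizer ((P : Subgroup G) : Set G)⁆ ⊔ _ with hK
    have key : ∀ (A : Set G) (g : G), Chain (TameStep p (P : Subgroup G)) A g →
        ∀ a ∈ A, a⁻¹ * (g⁻¹ * a * g) ∈ K := by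
      intro A g hg
      induction hg with
      | nil A => intro a _; simp
      | @cons B g T x hx hT _ ih =>
        intro a ha
        have h1 := ih (x⁻¹ * a * x) ⟨a, ha, rfl⟩
        have h2 : a⁻¹ * (x⁻¹ * a * x) ∈ K := by
          obtain ⟨Q', hQ', hT', hxN, hP1, hQ1, hor⟩ := hx
          have he : a⁻¹ * (x⁻¹ * a * x) = ⁅a⁻¹, x⁻¹⁆ := by rw [commutatorElement_def]; group
          rw [he]
          rcases hor with rfl | hk
          · rw [inf_idem] at hT'
            rw [hT'] at hT hxN
            exact Subgroup.mem_sup_left (Subgroup.commutator_mem_commutator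
              (inv_mem (hT ha)) (inv_mem hxN))
          · obtain ⟨Q, rfl⟩ := hQ'.exists_sylow
            subst hT'
            refine Subgroup.mem_sup_right ?_
            refine Subgroup.mem_iSup_of_mem Q (Subgroup.mem_iSup_of_mem ⟨hP1.not_dvd, hQ1.not_dvd⟩
              (Subgroup.mem_iSup_of_mem x (Subgroup.mem_iSup_of_mem ⟨hxN, hk⟩ ?_)))
            exact Subgroup.commutator_mem_commutator (inv_mem (hT ha))
              (inv_mem (Subgroup.mem_zpowers x))
        have := mul_mem h2 h1
        convert this using 1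
        group
    refine (Subgroup.closure_le _).2 ?_
    rintro _ ⟨a, ha, h, -, hah, rfl⟩
    have h1 := key {a} h⁻¹ (alperin hS (by rintro b rfl; exact ha)
      (by rintro _ ⟨_, rfl, rfl⟩; rw [inv_inv]; exact hah)) a rfl
    rwa [inv_inv] at h1
  · refine sup_le (le_inf ?_ (Subgroup.commutator_mono le_top le_top)) ?_
    · exact Subgroup.commutator_le.2 fun a ha b hb => by
        rw [commutatorElement_def, mul_assoc a b, mul_assoc a]
        exact mul_mem ha ((Subgroup.mem_normalizer_iff.1 hb _).1 (inv_mem ha))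
    · refine iSup_le fun Q => iSup_le fun _ => iSup_le fun x => iSup_le fun hx => ?_
      refine le_inf ?_ (Subgroup.commutator_mono le_top le_top)
      refine le_trans (b := (P : Subgroup G) ⊓ (Q : Subgroup G)) (Subgroup.commutator_le.2 fun a ha b hb => ?_) inf_le_left
      rw [commutatorElement_def, mul_assoc a b, mul_assoc a]
      exact mul_mem ha ((Subgroup.mem_normalizer_iff.1 (Subgroup.zpowers_le.2 hx.1 hb) _).1 (inv_mem ha))

end Cfsg.Agent.S4250
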