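import Cfsg.Statements.S4251
import Mathlib
import Cfsg.Agent.Lib.Fusion.Alperin
import Cfsg.Agent.Lib.Fusion.NPC

set_option autoImplicit false
open Cfsg

namespace Cfsg.Agent.S4251


open Cfsg.Agent.Fusion


/-- Let P be a Sylow p-subgroup of a finite group G. Call an intersection H = P ∩ Q with a Sylow p-subgroup Q tame when N_P(H) and N_Q(H) are Sylow p-subgroups of N_G(H). If N_G(H)/C_G(H) is a p-group for every nontrivial tame intersection H = P ∩ Q, then G has a normal p-complement. -/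
theorem result {G : Type*} [Group G] [Finite G] (p : ℕ) [Fact p.Prime] (P : Sylow p G)
    (h : ∀ Q : Sylow p G, (P : Subgroup G) ⊓ (Q : Subgroup G) ≠ ⊥ → (¬ p ∣ ((P : Subgroup G) ⊓ Subgroup.normalizer (((P : Subgroup G) ⊓ (Q : Subgroup G) : Subgroup G) : Set G)).relIndex (Subgroup.normalizer (((P : Subgroup G) ⊓ (Q : Subgroup G) : Subgroup G) : Set G)) ∧ ¬ p ∣ ((Q : Subgroup G) ⊓ Subgroup.normalizer (((P : Subgroup G) ⊓ (Q : Subgroup G) : Subgroup G) : Set G)).relIndex (Subgroup.normalizer (((P : Subgroup G) ⊓ (Q : Subgroup G) : Subgroup G) : Set G))) →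
      IsPGroup p (Subgroup.normalizer (((P : Subgroup G) ⊓ (Q : Subgroup G) : Subgroup G) : Set G) ⧸
        (Subgroup.centralizer (((P : Subgroup G) ⊓ (Q : Subgroup G) : Subgroup G) : Set G)).subgroupOf
          (Subgroup.normalizer (((P : Subgroup G) ⊓ (Q : Subgroup G) : Subgroup G) : Set G)))) :
    Cfsg.HasNormalPComplement p G := by
  classical
  have hS := sylIn_top P
  have step : ∀ T x, TameStep p (P : Subgroup G) T x →
      ∃ s ∈ (P : Subgroup G), ∀ t ∈ T, x⁻¹ * t * x = s⁻¹ * t * s := by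
    rintro T x ⟨Q', hQ', hT, hx, hP1, hQ1, -⟩
    by_cases hbot : T = ⊥
    · exact ⟨1, one_mem _, fun t ht => by
        rw [hbot, Subgroup.mem_bot] at ht
        simp [ht]⟩
    obtain ⟨Q, rfl⟩ := hQ'.exists_sylow
    subst hT
    have hq := h Q hbot ⟨hP1.not_dvd, hQ1.not_dvd⟩
    set N := Subgroup.normalizer (((P : Subgroup G) ⊓ (Q : Subgroup G) : Subgroup G) : Set G) with hN
    set C := Subgroup.centralizer (((P : Subgroup G) ⊓ (Q : Subgroup G) : Subgroup G) : Set G) with hC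
    set U : Subgroup N := ((P : Subgroup G) ⊓ N).subgroupOf N with hU
    haveI : (C.subgroupOf N).Normal := by
      refine ⟨fun c hc g => ?_⟩
      rw [Subgroup.mem_subgroupOf] at hc ⊢
      intro t ht
      have h1 := hc _ ((Subgroup.mem_normalizer_iff.1 ((g⁻¹ : N)).2 t).1 ht)
      simp only [Subgroup.coe_inv, inv_inv] at h1
      push_cast
      calc t * ((g : G) * c * (g : G)⁻¹) = g * ((g : G)⁻¹ * t * g * c) * (g : G)⁻¹ := by group
        _ = g * (c * ((g : G)⁻¹ * t * g)) * (g : G)⁻¹ := by rw [h1]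
        _ = g * c * (g : G)⁻¹ * t := by group
    set π := QuotientGroup.mk' (C.subgroupOf N) with hπ
    have htop : U.map π = ⊤ := by
      rw [← Subgroup.index_eq_one]
      obtain ⟨k, hk⟩ := hq.index (U.map π)
      have hd : (U.map π).index ∣ U.index := Subgroup.index_map_dvd _ (QuotientGroup.mk'_surjective _)
      rcases k with _ | k
      · simpa using hk
      · exact absurd ((dvd_pow_self p (Nat.succ_ne_zero k)).trans (hk ▸ hd)) hP1.not_dvd
    obtain ⟨u, hu, hux⟩ : π ⟨x, hx⟩ ∈ U.map π := htop ▸ Subgroup.mem_top _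
    refine ⟨(u : G), hu.1, fun t ht => ?_⟩
    have hux' : (QuotientGroup.mk u : N ⧸ C.subgroupOf N) = QuotientGroup.mk ⟨x, hx⟩ := hux
    have hc : (u : G)⁻¹ * x ∈ C := (QuotientGroup.eq (s := C.subgroupOf N)).1 hux'
    have h1 := hc _ ((Subgroup.mem_normalizer_iff.1 ((u⁻¹ : N)).2 t).1 ht)
    simp only [Subgroup.coe_inv, inv_inv] at h1
    calc x⁻¹ * t * x = ((u : G)⁻¹ * x)⁻¹ * ((u : G)⁻¹ * t * u * ((u : G)⁻¹ * x)) := by group
      _ = ((u : G)⁻¹ * x)⁻¹ * ((u : G)⁻¹ * x * ((u : G)⁻¹ * t * u)) := by rw [h1]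
      _ = (u : G)⁻¹ * t * u := by group
  have key : ∀ (A : Set G) (g : G), Chain (TameStep p (P : Subgroup G)) A g →
      ∃ s ∈ (P : Subgroup G), ∀ a ∈ A, g⁻¹ * a * g = s⁻¹ * a * s := by
    intro A g hg
    induction hg with
    | nil A => exact ⟨1, one_mem _, fun a _ => rfl⟩
    | @cons B g T x hx hT _ ih =>
      obtain ⟨s, hs, hsa⟩ := step T x hx
      obtain ⟨r, hr, hra⟩ := ih
      refine ⟨s * r, mul_mem hs hr, fun a ha => ?_⟩
      calc (x * g)⁻¹ * a * (x * g) = g⁻¹ * (x⁻¹ * a * x) * g := by group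
        _ = r⁻¹ * (x⁻¹ * a * x) * r := hra _ ⟨a, ha, rfl⟩
        _ = r⁻¹ * (s⁻¹ * a * s) * r := by rw [hsa a (hT ha)]
        _ = _ := by group
  refine hnpc_of_fusion_controlled hS fun x hx g hgx => ?_
  obtain ⟨s, hs, hsa⟩ := key {x} g⁻¹ (alperin hS (by rintro a rfl; exact hx)
    (by rintro _ ⟨_, rfl, rfl⟩; show _ ∈ (P : Subgroup G); simpa using hgx))
  exact ⟨s⁻¹, inv_mem hs, by simpa using (hsa x rfl).symm⟩

end Cfsg.Agent.S4251
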