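import Cfsg.Statements.S4252


set_option autoImplicit false
open Cfsg
open scoped Pointwise

namespace Cfsg.Agent.S4252

/-- Let a finite group G act on a finite set Ω with more than one point, transitively but not regularly, so that no non-identity element of G fixes two distinct points. Then the stabilizer H of any point is a Frobenius complement in G (nontrivial, proper, meeting its other conjugates trivially), and the Frobenius kernel of G with respect to H (the identity together with the elements lying in no conjugate of H) is exactly the set consisting of the identity and the elements fixing no point. -/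
theorem result {G Ω : Type*} [Group G] [Finite G] [Fintype Ω] [MulAction G Ω] (hΩ : 1 < Fintype.card Ω)
    (htrans : ∀ α β : Ω, ∃ g : G, g • α = β) (hnreg : ∃ g : G, g ≠ 1 ∧ ∃ α : Ω, g • α = α)
    (hfix : ∀ g : G, g ≠ 1 → ∀ α β : Ω, g • α = α → g • β = β → α = β) (α : Ω) :
    Cfsg.IsFrobeniusComplement (MulAction.stabilizer G α) ∧
      Cfsg.frobeniusKernel (MulAction.stabilizer G α) = {g : G | g = 1 ∨ ∀ ω : Ω, g • ω ≠ ω} := by
  obtain ⟨g₀, hg₀, α₀, hα₀⟩ := hnreg
  set H := MulAction.stabilizer G α
  have hmem : ∀ g x : G, x ∈ MulAut.conj g • H ↔ x • (g • α) = g • α := by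
    intro g x
    rw [Subgroup.mem_pointwise_smul_iff_inv_smul_mem, MulAction.mem_stabilizer_iff, ← map_inv,
      MulAut.smul_def, MulAut.conj_apply, inv_inv, mul_smul, mul_smul, inv_smul_eq_iff]
  refine ⟨⟨?_, ?_, fun g hg => ?_⟩, ?_⟩
  · intro hbot
    obtain ⟨k, rfl⟩ := htrans α α₀
    have : k⁻¹ * g₀ * k ∈ H := by
      rw [MulAction.mem_stabilizer_iff, mul_smul, mul_smul, hα₀, inv_smul_smul]
    rw [hbot, Subgroup.mem_bot, mul_assoc, inv_mul_eq_one, eq_comm, mul_eq_right] at this
    exact hg₀ this
  · intro htop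
    obtain ⟨a, b, hab⟩ := Fintype.exists_pair_of_one_lt_card hΩ
    obtain ⟨k, rfl⟩ := htrans α a
    obtain ⟨l, rfl⟩ := htrans α b
    have hk : k ∈ H := htop ▸ Subgroup.mem_top k
    have hl : l ∈ H := htop ▸ Subgroup.mem_top l
    exact hab ((MulAction.mem_stabilizer_iff.1 hk).trans (MulAction.mem_stabilizer_iff.1 hl).symm)
  · rw [eq_bot_iff]
    intro x hx
    obtain ⟨h1, h2⟩ := Subgroup.mem_inf.1 hx
    rw [hmem] at h2
    by_contra hx1
    exact hg (MulAction.mem_stabilizer_iff.2 (hfix x hx1 _ _ h2 (MulAction.mem_stabilizer_iff.1 h1)))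
  · ext x
    refine or_congr_right ⟨fun h ω hω => ?_, fun h g hg => h _ ((hmem g x).1 hg)⟩
    obtain ⟨k, rfl⟩ := htrans α ω
    exact h k ((hmem k x).2 hω)

end Cfsg.Agent.S4252
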