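import Cfsg.Statements.S4255
import Cfsg.Agent.Lib.Perm.CoprimeClassSizes

set_option autoImplicit false
open Cfsg
open scoped Pointwise

namespace Cfsg.Agent.S4255

open Cfsg.Agent.Perm.CoprimeSizes

variable {G : Type*} [Group G] [Finite G] {S : Set ℕ}

/-- All prime divisors lie in `S`. -/
def InS (S : Set ℕ) (d : ℕ) : Prop := ∀ p : ℕ, p.Prime → p ∣ d → p ∈ S

theorem InS.dvd {S : Set ℕ} {a b : ℕ} (h : InS S b) (hd : a ∣ b) : InS S a :=
  fun p hp hpa => h p hp (hpa.trans hd)

theorem InS.coprime {S : Set ℕ} {a b : ℕ} (ha : InS S a) (hb : InS Sᶜ b) : a.Coprime b :=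
  Nat.coprime_of_dvd fun p hp h1 h2 => hb p hp h2 (ha p hp h1)

theorem InS.prime_pow {S : Set ℕ} {p : ℕ} (hp : p.Prime) (h : p ∈ S) (k : ℕ) : InS S (p ^ k) :=
  fun _ hr hd => (Nat.prime_dvd_prime_iff_eq hr hp).1 (hr.dvd_of_dvd_pow hd) ▸ h

/-- Every class size is pure, and a largest one is an `S`-number. -/
structure Pure (S : Set ℕ) (y : G) : Prop where
  pure : ∀ g : G, InS S (cls g) ∨ InS Sᶜ (cls g)
  hy : InS S (cls y)
  top : ∀ g : G, cls g ≤ cls y
  noncentral : cls y ≠ 1

variable {x y : G}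

theorem Pure.ne_mixed (h : Pure S y) {g : G} {a b : ℕ} (ha : InS S a) (hb : InS Sᶜ b) (ha1 : a ≠ 1)
    (hb1 : b ≠ 1) (hag : a ∣ cls g) (hbg : b ∣ cls g) : False := by
  rcases h.pure g with h1 | h1
  · exact hb1 (Nat.eq_one_of_dvd_coprimes ((h1.dvd hbg).coprime hb) dvd_rfl dvd_rfl)
  · exact ha1 (Nat.eq_one_of_dvd_coprimes (ha.coprime (h1.dvd hag)) dvd_rfl dvd_rfl)

theorem Pure.gens_le (h : Pure S y) (hx : InS Sᶜ (cls x)) : gens x ≤ stb y :=
  (Subgroup.closure_le _).2 (by
    rintro _ ⟨g, rfl⟩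
    exact mem_stb_of_le (h.hy.coprime hx).symm (h.top _) g)

theorem Pure.gens_inS (h : Pure S y) (hx : InS Sᶜ (cls x)) : InS S (Nat.card (gens x)) :=
  h.hy.dvd ((Subgroup.card_dvd_of_le (h.gens_le hx)).trans (card_stb_dvd y))

theorem Pure.le_cent (h : Pure S y) (hx : InS Sᶜ (cls x)) {w : G} (hw : InS Sᶜ (cls w)) :
    gens x ≤ cent w :=
  Solv.normal_le_of_coprime_index _ _ ((h.gens_inS hx).coprime hw)

theorem Pure.gens_comm (h : Pure S y) (hx : InS Sᶜ (cls x)) :
    gens x ≤ Subgroup.centralizer (gens x : Set G) := by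
  refine (Subgroup.closure_le _).2 ?_
  rintro _ ⟨g, rfl⟩
  rw [SetLike.mem_coe, Subgroup.mem_centralizer_iff]
  intro t ht
  have e1 : Commute t x := mem_cent.1 (h.le_cent hx hx ht)
  have e2 : Commute t (g * x * g⁻¹) := mem_cent.1 (h.le_cent hx (by rwa [cls_conj]) ht)
  exact ((e1.inv_right).mul_right e2).eq

/-- The centraliser of the commutator group. -/
abbrev KK (x : G) : Subgroup G := Subgroup.centralizer (gens x : Set G)

theorem Pure.mem_KK (h : Pure S y) (hx : InS Sᶜ (cls x)) {w : G} (hw : InS Sᶜ (cls w)) : w ∈ KK x := by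
  rw [Subgroup.mem_centralizer_iff]
  exact fun t ht => mem_cent.1 (h.le_cent hx hw ht)

theorem Pure.KK_le (h : Pure S y) (hx : InS Sᶜ (cls x)) : KK x ≤ cent x := by
  let f : KK x → gens x := fun k => ⟨x⁻¹ * ((k : G) * x * (k : G)⁻¹), mem_gens x k⟩
  let ρ : KK x →* gens x := MonoidHom.mk' f fun a b => Subtype.ext (by
    have hc : (a : G) * (x⁻¹ * ((b : G) * x * (b : G)⁻¹)) = x⁻¹ * ((b : G) * x * (b : G)⁻¹) * a :=
      (Subgroup.mem_centralizer_iff.1 a.2 _ (mem_gens x b)).symm
    show x⁻¹ * ((a * b : KK x) * x * ((a * b : KK x) : G)⁻¹) = _ * _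
    calc x⁻¹ * ((a * b : KK x) * x * ((a * b : KK x) : G)⁻¹) =
          x⁻¹ * (a : G) * x * ((x⁻¹ * ((b : G) * x * (b : G)⁻¹)) * (a : G)⁻¹) := by
            simp only [Subgroup.coe_mul]; group
      _ = x⁻¹ * (a : G) * x * ((a : G)⁻¹ * (x⁻¹ * ((b : G) * x * (b : G)⁻¹))) := by
            congr 1
            rw [eq_inv_mul_iff_mul_eq, ← mul_assoc, hc, mul_inv_cancel_right]
      _ = x⁻¹ * ((a : G) * x * (a : G)⁻¹) * (x⁻¹ * ((b : G) * x * (b : G)⁻¹)) := by group)
  have hker : ρ.ker = (cent x).subgroupOf (KK x) := by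
    ext k
    rw [MonoidHom.mem_ker, Subgroup.mem_subgroupOf, mem_cent, Subtype.ext_iff]
    show x⁻¹ * ((k : G) * x * (k : G)⁻¹) = 1 ↔ _
    rw [inv_mul_eq_one, eq_mul_inv_iff_mul_eq, eq_comm]
  have h1 : (cent x).relIndex (KK x) ∣ Nat.card (gens x) := by
    rw [Subgroup.relIndex, ← hker, Subgroup.index_ker]
    exact Subgroup.card_subgroup_dvd_card _
  rw [← Subgroup.relIndex_eq_one]
  exact Nat.eq_one_of_dvd_coprimes ((h.gens_inS hx).coprime hx) h1
    (Solv.relIndex_dvd_index_normal (cent x) (KK x))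

theorem Pure.central_part (h : Pure S y) (hx : InS Sᶜ (cls x)) {p k : ℕ} (hp : p.Prime) (hpS : p ∉ S)
    {u : G} (hu : u ∈ Subgroup.zpowers x) (hk : orderOf u = p ^ k) : u ∈ Subgroup.center G := by
  rw [Subgroup.mem_center_iff]
  intro g
  obtain ⟨j, rfl⟩ := Subgroup.mem_zpowers_iff.1 hu
  set t := x⁻¹ * (g * x * g⁻¹) with htdef
  have ht : t ∈ gens x := mem_gens x g
  have htx : Commute t x := mem_cent.1 (h.le_cent hx hx ht)
  have e1 : g * x * g⁻¹ = t * x := by rw [htx.eq, htdef]; group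
  have e2 : g * x ^ j * g⁻¹ = t ^ j * x ^ j := by rw [← conj_zpow, e1, htx.mul_zpow]
  have e3 := eq_one_of_translate (zpow_mem ht j) (htx.zpow_zpow j j).eq e2
    (by rw [hk]; exact ((h.gens_inS hx).coprime (InS.prime_pow hp (S := Sᶜ) hpS k)).symm)
  rw [e3, one_mul] at e2
  calc g * x ^ j = g * x ^ j * g⁻¹ * g := by group
    _ = x ^ j * g := by rw [e2]

theorem Pure.central_in_cent (h : Pure S y) (hx : InS Sᶜ (cls x)) (hx1 : cls x ≠ 1) {p : ℕ}
    (hp : p.Prime) (hpS : p ∉ S) {k : G} (hk : k ∈ cent x) (hko : ∃ j, orderOf k = p ^ j) :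
    k ∈ Subgroup.center G := by
  obtain ⟨j, hj⟩ := hko
  by_contra hkZ
  rcases h.pure k with h1 | h1
  · haveI := Fact.mk hp
    obtain ⟨u, v, hu, hv, huv, ⟨i, hi⟩, hco⟩ := Solv.exists_ppart p x
    have huc := h.central_part hx hp hpS hu hi
    have hcv : cent v = cent x := by
      refine le_antisymm (fun g hg => mem_cent.2 ?_) (cent_le_of_mem_zpowers hv)
      rw [← huv]
      exact ((show Commute g u from Subgroup.mem_center_iff.1 huc g).mul_right (mem_cent.1 hg)).eq
    have hc := cent_mul_of_coprime (mem_cent.1 (hcv ▸ hk : k ∈ cent v)).symm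
      (by rw [hj]; exact hco.pow_right j)
    refine h.ne_mixed (g := v * k) h1 hx (fun e => hkZ (cls_eq_one_iff.1 e)) hx1
      (Subgroup.index_dvd_of_le (hc.le.trans inf_le_right)) ?_
    rw [cls, ← hcv]
    exact Subgroup.index_dvd_of_le (hc.le.trans inf_le_left)
  · exact hkZ (h.central_part h1 hp hpS (Subgroup.mem_zpowers k) hj)

theorem Pure.outside (h : Pure S y) (hx : InS Sᶜ (cls x)) {g : G} (hg : g ∉ KK x) : InS S (cls g) :=
  (h.pure g).resolve_right fun h1 => hg (h.mem_KK hx h1)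

/-- Modulo `KK x` the Sylow subgroups for primes outside `S` are central. -/
theorem Pure.sylow_central (h : Pure S y) (hx : InS Sᶜ (cls x)) {p : ℕ} [hp : Fact p.Prime]
    (hpS : p ∉ S) (P : Sylow p G) {a : G} (ha : a ∈ (P : Subgroup G)) (g : G) :
    g * a * g⁻¹ * a⁻¹ ∈ KK x := by
  set π := QuotientGroup.mk' (KK x)
  set C := (Subgroup.centralizer (π '' (P : Subgroup G) : Set (G ⧸ KK x))).comap π
  have hC : C = ⊤ := by
    refine Solv.eq_top_of_forall_conj_mem C fun b => ?_
    by_cases hb : b ∈ KK x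
    · refine ⟨1, ?_⟩
      rw [one_mul, inv_one, mul_one, Subgroup.mem_comap,
        show π b = 1 from (QuotientGroup.eq_one_iff b).2 hb]
      exact one_mem _
    · obtain ⟨Pb⟩ := (inferInstance : Nonempty (Sylow p (cent b)))
      have hcop : ¬ p ∣ cls b := fun hd => hpS (h.outside hx hb p hp.out hd)
      have hcard : Nat.card ((Pb : Subgroup (cent b)).map (cent b).subtype) = Nat.card P := by
        rw [Subgroup.card_map_of_injective (Subgroup.subtype_injective _), Sylow.card_eq_multiplicity,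
          Sylow.card_eq_multiplicity, ← (cent b).card_mul_index, Nat.factorization_mul Nat.card_pos.ne'
            (cls_pos b).ne', Finsupp.add_apply, Nat.factorization_eq_zero_of_not_dvd hcop, add_zero]
      obtain ⟨P', hP'⟩ := (Pb.isPGroup'.map (cent b).subtype).exists_le_sylow
      have heq : (Pb : Subgroup (cent b)).map (cent b).subtype = P' :=
        Subgroup.eq_of_le_of_card_ge hP' (by rw [hcard, P.card_eq_multiplicity, P'.card_eq_multiplicity])
      obtain ⟨c, hc⟩ := MulAction.exists_smul_eq G P' P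
      refine ⟨c, ?_⟩
      rw [Subgroup.mem_comap, Subgroup.mem_centralizer_iff]
      rintro _ ⟨e, he, rfl⟩
      rw [← map_mul, ← map_mul]
      congr 1
      rw [← hc, Sylow.coe_subgroup_smul, SetLike.mem_coe, Solv.mem_conj_smul, ← heq] at he
      obtain ⟨⟨e', he'⟩, -, hee⟩ := he
      have h2 : e' * b = b * e' := mem_cent.1 he'
      simp only [Subgroup.coe_subtype] at hee
      rw [hee] at h2
      calc e * (c * b * c⁻¹) = c * (c⁻¹ * e * c * b) * c⁻¹ := by group
        _ = c * b * c⁻¹ * e := by rw [h2]; group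
  have hg : g ∈ C := hC ▸ Subgroup.mem_top g
  rw [Subgroup.mem_comap, Subgroup.mem_centralizer_iff] at hg
  rw [← QuotientGroup.eq_one_iff (N := KK x)]
  show π (g * a * g⁻¹ * a⁻¹) = 1
  rw [map_mul, map_mul, map_mul, ← hg _ ⟨a, ha, rfl⟩, mul_assoc (π a), ← map_mul π g, mul_inv_cancel,
    map_one, mul_one, ← map_mul, mul_inv_cancel, map_one]

theorem Pure.exists_sylow_cent (h : Pure S y) (hx : InS Sᶜ (cls x)) {r : ℕ} [hr : Fact r.Prime]
    (hrS : r ∈ S) (R : Sylow r G) : (R : Subgroup G) ≤ KK x := by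
  have hrn : ¬ r ∣ (cent x).index := fun hd => hx r hr.out hd hrS
  obtain ⟨p0, hp0⟩ := R.isPGroup'.nonempty_fixed_point_of_prime_not_dvd_card (α := G ⧸ cent x)
    (by rw [← Subgroup.index_eq_card]; exact hrn)
  induction p0 using QuotientGroup.induction_on with
  | H c =>
    set D := (Subgroup.centralizer (QuotientGroup.mk' (KK x) '' (R : Subgroup G) : Set (G ⧸ KK x))).comap
      (QuotientGroup.mk' (KK x))
    have hD : (D.index).Coprime (cls (c * x * c⁻¹)) := by
      rw [cls_conj]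
      refine Nat.coprime_of_dvd fun p hp h1 h2 => ?_
      haveI := Fact.mk hp
      obtain ⟨P⟩ := (inferInstance : Nonempty (Sylow p G))
      refine P.not_dvd_index (h1.trans (Subgroup.index_dvd_of_le fun a ha => ?_))
      rw [Subgroup.mem_comap, Subgroup.mem_centralizer_iff]
      rintro _ ⟨e, -, rfl⟩
      have := h.sylow_central hx (hx p hp h2) P ha e
      rw [← QuotientGroup.eq_one_iff (N := KK x)] at this
      have h3 : QuotientGroup.mk' (KK x) (e * a * e⁻¹ * a⁻¹) = 1 := this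
      rw [map_mul, map_mul, map_mul, map_inv, map_inv, mul_inv_eq_one, mul_inv_eq_iff_eq_mul] at h3
      exact h3
    intro ρ hρ
    have hρ1 : Commute ρ (c * x * c⁻¹) := by
      have e : ((ρ * c : G) : G ⧸ cent x) = (c : G) := hp0 ⟨ρ, hρ⟩
      have h1 := QuotientGroup.eq.1 e.symm
      rw [← mul_assoc, ← cent_conj_mem, mem_cent] at h1
      exact h1
    have hall : ∀ g : G, Commute ρ (g * x * g⁻¹) := by
      intro g
      obtain ⟨d, hd, a, ha, hda⟩ := Perm.mul_of_coprime_index hD (g * c⁻¹)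
      have hk : d⁻¹ * ρ * d * ρ⁻¹ ∈ KK x := by
        rw [← QuotientGroup.eq_one_iff]
        show QuotientGroup.mk' (KK x) _ = 1
        rw [map_mul, map_mul, map_mul, map_inv, map_inv, mul_inv_eq_one, mul_assoc,
          Subgroup.mem_centralizer_iff.1 hd _ ⟨ρ, hρ, rfl⟩, inv_mul_cancel_left]
      have hKc : KK x ≤ cent (c * x * c⁻¹) := fun k hk => cent_conj_mem.2 (h.KK_le hx (by
        have := (inferInstance : (KK x).Normal).conj_mem k hk c⁻¹
        rwa [inv_inv] at this))
      have h1 : Commute (d⁻¹ * ρ * d) (c * x * c⁻¹) := by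
        have := (show Commute (d⁻¹ * ρ * d * ρ⁻¹) (c * x * c⁻¹) from mem_cent.1 (hKc hk)).mul_left hρ1
        rwa [inv_mul_cancel_right] at this
      have e : g * x * g⁻¹ = d * (c * x * c⁻¹) * d⁻¹ := by
        have e1 : g = d * a * c := by rw [← hda]; group
        have e2 : a * (c * x * c⁻¹) = c * x * c⁻¹ * a := mem_cent.1 ha
        rw [e1]
        calc d * a * c * x * (d * a * c)⁻¹ = d * (a * (c * x * c⁻¹)) * a⁻¹ * d⁻¹ := by group
          _ = d * (c * x * c⁻¹) * d⁻¹ := by rw [e2]; group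
      rw [e]
      show ρ * _ = _ * ρ
      calc ρ * (d * (c * x * c⁻¹) * d⁻¹) = d * ((d⁻¹ * ρ * d) * (c * x * c⁻¹)) * d⁻¹ := by group
        _ = d * (c * x * c⁻¹) * d⁻¹ * ρ := by rw [h1.eq]; group
    rw [Subgroup.mem_centralizer_iff]
    intro t ht
    have hle : gens x ≤ cent ρ := (Subgroup.closure_le _).2 (by
      rintro _ ⟨g, rfl⟩
      have e1 := hall 1
      simp only [one_mul, inv_one, mul_one] at e1
      exact mem_cent.2 ((e1.inv_right).mul_right (hall g)).eq.symm)
    exact mem_cent.1 (hle ht)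

theorem Pure.KK_index (h : Pure S y) (hx : InS Sᶜ (cls x)) : InS Sᶜ (KK x).index := by
  intro p hp hd hpS
  haveI := Fact.mk hp
  obtain ⟨R⟩ := (inferInstance : Nonempty (Sylow p G))
  exact R.not_dvd_index (hd.trans (Subgroup.index_dvd_of_le (h.exists_sylow_cent hx hpS R)))

theorem Pure.cent_center_inS (h : Pure S y) (hx : InS Sᶜ (cls x)) (hx1 : cls x ≠ 1) :
    InS S ((Subgroup.center G).relIndex (cent x)) := by
  intro p hp hd
  by_contra hpS
  haveI := Fact.mk hp
  obtain ⟨P⟩ := (inferInstance : Nonempty (Sylow p (cent x)))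
  refine P.not_dvd_index (hd.trans (Subgroup.index_dvd_of_le fun a ha => ?_))
  rw [Subgroup.mem_subgroupOf]
  obtain ⟨j, hj⟩ := IsPGroup.iff_orderOf.1 P.isPGroup' ⟨a, ha⟩
  rw [Subgroup.orderOf_mk] at hj
  exact h.central_in_cent hx hx1 hp hpS a.2 ⟨j, by rw [Subgroup.orderOf_coe, hj]⟩

theorem Pure.cent_eq (h : Pure S y) (hx : InS Sᶜ (cls x)) (hx1 : cls x ≠ 1) : cent x = KK x := by
  refine le_antisymm ?_ (h.KK_le hx)
  rw [← Subgroup.relIndex_eq_one]
  refine Nat.eq_one_of_dvd_coprimes ((h.cent_center_inS hx hx1).coprime (h.KK_index hx)) ?_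
    (Subgroup.relIndex_dvd_index_of_normal _ _)
  exact Subgroup.relIndex_dvd_of_le_left _
    (Subgroup.center_le_centralizer _)

theorem Pure.KK_sub (h : Pure S y) (hx : InS Sᶜ (cls x)) {z : G} (hz : InS S (cls z))
    (hz1 : cls z ≠ 1) (hx1 : cls x ≠ 1) : gens x ≤ stb z := by
  refine (Subgroup.closure_le _).2 ?_
  rintro _ ⟨g, rfl⟩
  have hco : (cls x).Coprime (cls z) := (hz.coprime hx).symm
  rcases h.pure (x * z) with h1 | h1
  · refine mem_stb_of_le hco (Nat.le_of_dvd (cls_pos z) ?_) g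
    exact (h1.coprime hx).dvd_of_dvd_mul_left (cls_mul_dvd hco)
  · exfalso
    apply hz1
    rw [cls_eq_one_iff, Subgroup.mem_center_iff]
    intro g
    have hle : cls (z * x) ≤ cls x := by
      have e : cls (z * x) = cls (x * z) := by rw [← cls_conj (z * x) x]; congr 1; group
      rw [e]
      exact Nat.le_of_dvd (cls_pos x) ((hz.coprime h1).symm.dvd_of_dvd_mul_right (cls_mul_dvd hco))
    have ht := mem_stb_of_le hco.symm hle g
    set t := z⁻¹ * (g * z * g⁻¹) with htdef
    have hT : InS Sᶜ (Nat.card (stb x)) := hx.dvd (card_stb_dvd x)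
    have hdisj : Disjoint (stb x) (gens x) := by
      rw [disjoint_iff]
      exact Subgroup.inf_eq_bot_of_coprime ((h.gens_inS hx).coprime hT).symm
    have htK : t ∈ cent x := by
      rw [h.cent_eq hx hx1, Subgroup.mem_centralizer_iff]
      intro s hs
      exact (Subgroup.commute_of_normal_of_disjoint _ _ (stb_normal x) (gens_normal x) hdisj t s ht hs).eq.symm
    have htc : t ∈ Subgroup.center G := by
      have h2 : orderOf (⟨t, htK⟩ : cent x) ∣ Nat.card (stb x) := by
        rw [Subgroup.orderOf_mk]; exact Subgroup.orderOf_dvd_natCard _ ht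
      have h3 := Subgroup.pow_index_mem ((Subgroup.center G).subgroupOf (cent x)) ⟨t, htK⟩
      obtain ⟨i, hi⟩ := exists_pow_eq_self_of_coprime
        (Nat.Coprime.coprime_dvd_right h2 ((h.cent_center_inS hx hx1).coprime hT))
      have h4 := pow_mem h3 i
      rw [show ((Subgroup.center G).subgroupOf (cent x)).index = (Subgroup.center G).relIndex (cent x) from rfl,
        hi] at h4
      exact h4
    have hcc : Commute t z := (Subgroup.mem_center_iff.1 htc z).symm
    have hgz : g * z * g⁻¹ = t * z := by rw [hcc.eq, htdef]; group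
    have hmem : t ∈ stab (Cl z) := by
      intro s hs
      obtain ⟨a, rfl⟩ := mem_Cl.1 hs
      refine mem_Cl.2 ⟨a * g, ?_⟩
      calc a * g * z * (a * g)⁻¹ = a * (g * z * g⁻¹) * a⁻¹ := by group
        _ = (a * t) * z * a⁻¹ := by rw [hgz]; group
        _ = t * (a * z * a⁻¹) := by rw [Subgroup.mem_center_iff.1 htc a]; group
    have : t = 1 := orderOf_eq_one_iff.1 (Nat.eq_one_of_dvd_coprimes
      (hz.coprime hT) ((Subgroup.orderOf_dvd_natCard _ hmem).trans (card_stb_dvd z))
      (Subgroup.orderOf_dvd_natCard _ ht))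
    rw [htdef, inv_mul_eq_one] at this
    calc g * z = g * z * g⁻¹ * g := by group
      _ = z * g := by rw [← this]

theorem Pure.not_mem (h : Pure S y) (hx : InS Sᶜ (cls x)) (hx1 : cls x ≠ 1) {z : G}
    (hz : InS S (cls z)) (hz1 : cls z ≠ 1) : z ∉ KK x := by
  intro hzK
  obtain ⟨p, hp, hpd⟩ := Nat.exists_prime_and_dvd hx1
  have hpS : p ∉ S := hx p hp hpd
  haveI := Fact.mk hp
  have hpdK : p ∣ (KK x).index := by rwa [← h.cent_eq hx hx1]
  -- move `z` so that a Sylow subgroup centralizes it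
  obtain ⟨P⟩ := (inferInstance : Nonempty (Sylow p G))
  obtain ⟨c0, hc0⟩ := P.isPGroup'.nonempty_fixed_point_of_prime_not_dvd_card (α := G ⧸ cent z)
    (by rw [← Subgroup.index_eq_card]; exact fun hd => hpS (hz p hp hd))
  induction c0 using QuotientGroup.induction_on with
  | H c =>
  have hPz : ∀ e ∈ (P : Subgroup G), Commute e (c * z * c⁻¹) := fun e he => by
    have e1 : ((e * c : G) : G ⧸ cent z) = (c : G) := hc0 ⟨e, he⟩
    have h1 := QuotientGroup.eq.1 e1.symm
    rw [← mul_assoc, ← cent_conj_mem, mem_cent] at h1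
    exact h1
  have hz'K : c * z * c⁻¹ ∈ KK x := (inferInstance : (KK x).Normal).conj_mem z hzK c
  set z' := c * z * c⁻¹
  have hz' : InS S (cls z') := by rwa [cls_conj]
  have hz'1 : cls z' ≠ 1 := by rwa [cls_conj]
  set K := KK x
  set ZK : Subgroup G := K ⊓ Subgroup.centralizer (K : Set G)
  set E : Subgroup G := K ⊓ (Subgroup.centralizer
    (QuotientGroup.mk' ZK '' (P : Subgroup G) : Set (G ⧸ ZK))).comap (QuotientGroup.mk' ZK)
  have hE : E.subgroupOf K = ⊤ := by
    refine Solv.eq_top_of_forall_conj_mem _ fun k => ?_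
    rcases h.pure (k : G) with h1 | h1
    · obtain ⟨c1, hc1⟩ := P.isPGroup'.nonempty_fixed_point_of_prime_not_dvd_card
        (α := G ⧸ cent (k : G)) (by rw [← Subgroup.index_eq_card]; exact fun hd => hpS (h1 p hp hd))
      induction c1 using QuotientGroup.induction_on with
      | H c1 =>
      have hPk : ∀ e ∈ (P : Subgroup G), Commute e (c1 * k * c1⁻¹) := fun e he => by
        have e1 : ((e * c1 : G) : G ⧸ cent (k : G)) = (c1 : G) := hc1 ⟨e, he⟩
        have h1 := QuotientGroup.eq.1 e1.symm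
        rw [← mul_assoc, ← cent_conj_mem, mem_cent] at h1
        exact h1
      -- conjugation of `P` is realised inside `K`
      set M : Subgroup G := K ⊔ (P : Subgroup G)
      have hPM : (P : Subgroup G) ≤ M := le_sup_right
      have hgM : ∀ a ∈ (P : Subgroup G), c1⁻¹ * a * c1 ∈ M := fun a ha => by
        have h2 := h.sylow_central hx hpS P ha c1⁻¹
        rw [inv_inv] at h2
        have := mul_mem (Subgroup.mem_sup_left h2 : _ ∈ M) (hPM ha)
        rwa [inv_mul_cancel_right] at this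
      let P1 : Sylow p M := P.subtype hPM
      let P2 : Sylow p M := (c1⁻¹ • P).subtype (fun a ha => by
        rw [Sylow.coe_subgroup_smul, Solv.mem_conj_smul, inv_inv] at ha
        have := hgM _ ha
        convert this using 1
        group)
      obtain ⟨μ, hμ⟩ := MulAction.exists_smul_eq M P1 P2
      have hμP : ∀ a ∈ (P : Subgroup G), ∃ b ∈ (P : Subgroup G), (μ : G) * a * (μ : G)⁻¹ = c1⁻¹ * b * c1 := by
        intro a ha
        have h2 : μ * ⟨a, hPM ha⟩ * μ⁻¹ ∈ (P2 : Subgroup M) := by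
          rw [← hμ, Sylow.coe_subgroup_smul, Solv.mem_conj_smul]
          simpa [mul_assoc, P1, Subgroup.mem_subgroupOf] using ha
        simp only [P2, Sylow.coe_subtype, Subgroup.mem_subgroupOf, Sylow.coe_subgroup_smul,
          Solv.mem_conj_smul, inv_inv, Subgroup.coe_mul, Subgroup.coe_inv] at h2
        exact ⟨_, h2, by group⟩
      have hμ' : (μ : G) ∈ ((K ⊔ (P : Subgroup G) : Subgroup G) : Set G) := μ.2
      rw [Subgroup.normal_mul K (P : Subgroup G)] at hμ'
      obtain ⟨k2, hk2, b2, hb2, hkb⟩ := hμ'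
      have hfix : ∀ a ∈ (P : Subgroup G), Commute a (k2⁻¹ * (k : G) * k2) := by
        intro a ha
        have hb2a : b2⁻¹ * a * b2 ∈ (P : Subgroup G) := mul_mem (mul_mem (inv_mem hb2) ha) hb2
        obtain ⟨b, hb, hab⟩ := hμP _ hb2a
        have e1 : k2 * a * k2⁻¹ = c1⁻¹ * b * c1 := by
          rw [← hab, ← show k2 * b2 = (μ : G) from hkb]; group
        have h3 := (hPk b hb).eq
        show a * (k2⁻¹ * (k : G) * k2) = k2⁻¹ * (k : G) * k2 * a
        calc a * (k2⁻¹ * (k : G) * k2) = k2⁻¹ * ((k2 * a * k2⁻¹) * k) * k2 := by group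
          _ = k2⁻¹ * (c1⁻¹ * (b * (c1 * k * c1⁻¹)) * c1) * k2 := by rw [e1]; group
          _ = k2⁻¹ * ((k : G) * (k2 * a * k2⁻¹)) * k2 := by rw [h3, e1]; group
          _ = k2⁻¹ * (k : G) * k2 * a := by group
      refine ⟨⟨k2⁻¹, inv_mem hk2⟩, Subgroup.mem_subgroupOf.2 (Subgroup.mem_inf.2 ⟨Subtype.prop _, ?_⟩)⟩
      rw [Subgroup.mem_comap, Subgroup.mem_centralizer_iff]
      rintro _ ⟨a, ha, rfl⟩
      rw [← map_mul, ← map_mul]
      congr 1
      simpa using (hfix a ha).eq
    · refine ⟨1, Subgroup.mem_subgroupOf.2 (Subgroup.mem_inf.2 ⟨by simp, ?_⟩)⟩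
      have hkZ : (k : G) ∈ ZK := by
        refine Subgroup.mem_inf.2 ⟨k.2, ?_⟩
        rw [Subgroup.mem_centralizer_iff]
        intro l hl
        by_cases hk1 : cls (k : G) = 1
        · exact Subgroup.mem_center_iff.1 (cls_eq_one_iff.1 hk1) l
        have hle : K ≤ cent (k : G) := by
          rw [← Subgroup.relIndex_eq_one]
          refine Nat.eq_one_of_dvd_coprimes ((h.cent_center_inS hx hx1).coprime h1) ?_
            (Solv.relIndex_dvd_index_normal _ _)
          rw [h.cent_eq hx hx1]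
          exact Subgroup.relIndex_dvd_of_le_left _ (Subgroup.center_le_centralizer _)
        exact mem_cent.1 (hle hl)
      rw [Subgroup.mem_comap, one_mul, inv_one, mul_one,
        show QuotientGroup.mk' ZK (k : G) = 1 from (QuotientGroup.eq_one_iff _).2 hkZ]
      exact one_mem _
  -- a fixed-point-free element of `P`
  obtain ⟨a, ha, haK⟩ : ∃ a ∈ (P : Subgroup G), a ∉ K := by
    by_contra! hle
    exact P.not_dvd_index (hpdK.trans (Subgroup.index_dvd_of_le hle))
  have haS : InS S (cls a) := h.outside hx haK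
  have ha1 : cls a ≠ 1 := fun e => haK (Subgroup.center_le_centralizer _ (cls_eq_one_iff.1 e))
  have hNz := h.KK_sub hx hz' hz'1 hx1
  have hNa := h.KK_sub hx haS ha1 hx1
  obtain ⟨j, hj⟩ := IsPGroup.iff_orderOf.1 P.isPGroup' ⟨a, ha⟩
  rw [Subgroup.orderOf_mk] at hj
  refine hx1 (cls_eq_one_iff.2 (Subgroup.mem_center_iff.2 fun g => ?_))
  set t := x⁻¹ * (g * x * g⁻¹) with htdef
  obtain ⟨w, hw⟩ := mem_Cl.1 (mem_stab.1 (hNz (mem_gens x g)) z' (self_mem_Cl z'))
  have hcop : (KK x).index.Coprime (cls z') := (hz'.coprime (h.KK_index hx)).symm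
  obtain ⟨k, hk, d, hd, rfl⟩ := Perm.mul_of_coprime_index hcop w
  have hkz : k * z' * k⁻¹ = t * z' := by
    rw [← hw]
    have hdz : d * z' = z' * d := mem_cent.1 hd
    calc k * z' * k⁻¹ = k * (z' * d) * d⁻¹ * k⁻¹ := by group
      _ = k * d * z' * (k * d)⁻¹ := by rw [← hdz]; group
  -- `a` fixes `t`
  have hkE : k ∈ E := Subgroup.mem_subgroupOf.1 (hE ▸ Subgroup.mem_top (⟨k, hk⟩ : K))
  have he : (a * k * a⁻¹) * k⁻¹ ∈ ZK := by
    rw [← QuotientGroup.eq_one_iff (N := ZK)]
    show QuotientGroup.mk' ZK _ = 1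
    rw [map_mul, map_mul, map_mul, map_inv, map_inv, mul_inv_eq_one, mul_inv_eq_iff_eq_mul]
    exact Subgroup.mem_centralizer_iff.1 (Subgroup.mem_inf.1 hkE).2 _ ⟨a, ha, rfl⟩
  set e := (a * k * a⁻¹) * k⁻¹ with hedef
  have hez : Commute e z' := (Subgroup.mem_centralizer_iff.1 (Subgroup.mem_inf.1 he).2 z' hz'K).symm
  have hkk : a * k * a⁻¹ = e * k := by rw [hedef]; group
  have hez2 : Commute e (k * z' * k⁻¹) :=
    (Subgroup.mem_centralizer_iff.1 (Subgroup.mem_inf.1 he).2 _
      (mul_mem (mul_mem hk hz'K) (inv_mem hk))).symm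
  have hat : t * a = a * t := by
    have e1 : a * (t * z') * a⁻¹ = t * z' := by
      calc a * (t * z') * a⁻¹ = a * (k * z' * k⁻¹) * a⁻¹ := by rw [hkz]
        _ = (a * k * a⁻¹) * (a * z' * a⁻¹) * (a * k * a⁻¹)⁻¹ := by group
        _ = e * (k * z' * k⁻¹) * e⁻¹ := by
          rw [hkk, (hPz a ha).eq, mul_inv_cancel_right]; group
        _ = t * z' := by rw [hez2.eq, mul_inv_cancel_right, hkz]
    have e2 : (a * t * a⁻¹) * z' = t * z' := by
      calc (a * t * a⁻¹) * z' = a * t * a⁻¹ * (a * z' * a⁻¹) := by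
            rw [(hPz a ha).eq, mul_inv_cancel_right]
        _ = a * (t * z') * a⁻¹ := by group
        _ = t * z' := e1
    exact (mul_inv_eq_iff_eq_mul.1 (mul_right_cancel e2)).symm
  obtain ⟨w', hw'⟩ := mem_Cl.1 (mem_stab.1 (hNa (mem_gens x g)) a (self_mem_Cl a))
  have ht1 := eq_one_of_translate (mem_gens x g) hat hw'
    (by rw [hj]; exact ((h.gens_inS hx).coprime (InS.prime_pow hp (S := Sᶜ) hpS j)).symm)
  rw [inv_mul_eq_one] at ht1
  calc g * x = g * x * g⁻¹ * g := by group
    _ = x * g := by rw [← ht1]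

theorem Pure.hyp (h : Pure S y) (hx : InS Sᶜ (cls x)) (hx1 : cls x ≠ 1) :
    Hyp (cls y) (cls x) x y := by
  set K := KK x
  set Z := Subgroup.center G
  have hZK : Z ≤ K := Subgroup.center_le_centralizer _
  have hxK : cls x = K.index := congrArg Subgroup.index (h.cent_eq hx hx1)
  have hT : ∀ g : G, InS Sᶜ (cls g) → cls g ≠ 1 → cls g = cls x := by
    intro g hg hg1
    have hle : K ≤ cent g := by
      rw [← Subgroup.relIndex_eq_one]
      refine Nat.eq_one_of_dvd_coprimes ((h.cent_center_inS hx hx1).coprime hg) ?_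
        (Solv.relIndex_dvd_index_normal _ _)
      rw [h.cent_eq hx hx1]
      exact Subgroup.relIndex_dvd_of_le_left _ (Subgroup.center_le_centralizer _)
    have hle' : cent g ≤ K := by
      rw [← Subgroup.relIndex_eq_one]
      refine Nat.eq_one_of_dvd_coprimes ((h.cent_center_inS hg hg1).coprime (h.KK_index hx)) ?_
        (Subgroup.relIndex_dvd_index_of_normal _ _)
      exact Subgroup.relIndex_dvd_of_le_left _ hZK
    rw [hxK, cls, le_antisymm hle' hle]
  have hS : ∀ g : G, InS S (cls g) → cls g ≠ 1 → cls g = Z.relIndex K := by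
    intro g hg hg1
    have hinf : K ⊓ cent g = Z := by
      refine le_antisymm (fun a ha => ?_) (le_inf hZK (Subgroup.center_le_centralizer _))
      by_contra haZ
      have ha1 : cls a ≠ 1 := fun e => haZ (cls_eq_one_iff.1 e)
      have hga : g ∈ cent a := mem_cent_comm.1 ha.2
      rcases h.pure a with h1 | h1
      · exact h.not_mem hx hx1 h1 ha1 ha.1
      · refine h.not_mem h1 ha1 hg hg1 ?_
        rwa [h.cent_eq h1 ha1] at hga
    have h1 : Z.relIndex (cent g) * cls g = Z.relIndex K * K.index := by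
      rw [Subgroup.relIndex_mul_index (Subgroup.center_le_centralizer _),
        Subgroup.relIndex_mul_index hZK]
    have h2 : Z.relIndex (cent g) = K.relIndex (cent g) := by
      rw [← hinf, Subgroup.inf_relIndex_right]
    have h3 : Z.relIndex (cent g) ∣ K.index := h2 ▸ Subgroup.relIndex_dvd_index_of_normal _ _
    have hKi : InS Sᶜ K.index := h.KK_index hx
    have h4 : K.index ∣ Z.relIndex (cent g) :=
      (hg.coprime hKi).symm.dvd_of_dvd_mul_right (h1 ▸ dvd_mul_left _ _)
    rw [Nat.dvd_antisymm h3 h4, mul_comm] at h1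
    exact Nat.eq_of_mul_eq_mul_right (Nat.pos_of_ne_zero Subgroup.index_ne_zero_of_finite)
      (by rw [h1])
  have hcop : (cls y).Coprime (cls x) := h.hy.coprime hx
  have hlt : cls x < cls y := by
    refine lt_of_le_of_ne (h.top x) fun e => hx1 ?_
    rw [← e] at hcop
    exact Nat.eq_one_of_dvd_coprimes hcop dvd_rfl dvd_rfl
  refine ⟨hlt, ?_, hcop, h.top, fun g => ?_, rfl, rfl⟩
  · have := cls_pos x; omega
  · by_cases hg1 : cls g = 1
    · right; rw [hg1]; exact cls_pos x
    rcases h.pure g with h1 | h1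
    · exact Or.inl ((hS g h1 hg1).trans (hS y h.hy h.noncentral).symm)
    · exact Or.inr (hT g h1 hg1).le

theorem conclude (h : Pure S y) (hx : InS Sᶜ (cls x)) (hx1 : cls x ≠ 1) :
    ∃ H : Subgroup (G ⧸ Subgroup.center G), Cfsg.IsFrobeniusComplement H ∧ IsMulCommutative H ∧
      ∀ a ∈ Cfsg.frobeniusKernel H, ∀ b ∈ Cfsg.frobeniusKernel H, a * b = b * a := by
  have hH := h.hyp hx hx1
  refine ⟨_, hH.frobenius.1, ⟨⟨?_⟩⟩, ?_⟩
  · rintro ⟨_, a, ha, rfl⟩ ⟨_, b, hb, rfl⟩
    exact Subtype.ext (by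
      show QuotientGroup.mk' _ a * QuotientGroup.mk' _ b = QuotientGroup.mk' _ b * QuotientGroup.mk' _ a
      rw [← map_mul, ← map_mul, hH.comm a ha b hb])
  · rw [hH.frobenius.2]
    rintro _ ⟨a, ha, rfl⟩ _ ⟨b, hb, rfl⟩
    rw [← map_mul, ← map_mul, hH.centx_comm a ha b hb]

/-- Let G be a finite group. Call a prime a vertex if it divides some conjugacy class size of G, and two distinct vertices adjacent if their product divides some class size. Suppose this graph is disconnected: the vertices split into two nonempty parts with no vertex of one part adjacent to a vertex of the other. Then G/Z(G) is a Frobenius group with abelian Frobenius complement and with a Frobenius kernel all of whose elements commute. -/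
theorem result {G : Type*} [Group G] [Finite G] (S : Set ℕ) (hS : ∃ p ∈ S, (p.Prime ∧ ∃ g : G, p ∣ (Subgroup.centralizer ({g} : Set G)).index)) (hS' : ∃ q ∉ S, (q.Prime ∧ ∃ g : G, q ∣ (Subgroup.centralizer ({g} : Set G)).index))
    (hdisc : ∀ p q : ℕ, (p.Prime ∧ ∃ g : G, p ∣ (Subgroup.centralizer ({g} : Set G)).index) → (q.Prime ∧ ∃ g : G, q ∣ (Subgroup.centralizer ({g} : Set G)).index) → p ∈ S → q ∉ S → ¬ (∃ g : G, p * q ∣ (Subgroup.centralizer ({g} : Set G)).index)) :
    ∃ H : Subgroup (G ⧸ Subgroup.center G), Cfsg.IsFrobeniusComplement H ∧ IsMulCommutative H ∧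
      ∀ x ∈ Cfsg.frobeniusKernel H, ∀ y ∈ Cfsg.frobeniusKernel H, x * y = y * x := by
  obtain ⟨p, hpS, hp, gp, hgp⟩ := hS
  obtain ⟨q, hqS, hq, gq, hgq⟩ := hS'
  have hpure : ∀ g : G, InS S (cls g) ∨ InS Sᶜ (cls g) := by
    intro g
    by_contra hcon
    rw [not_or] at hcon
    simp only [InS, not_forall, Set.mem_compl_iff, not_not] at hcon
    obtain ⟨⟨r, hr, hrd, hrS⟩, ⟨s, hs, hsd, hsS⟩⟩ := hcon
    exact hdisc s r ⟨hs, g, hsd⟩ ⟨hr, g, hrd⟩ hsS hrS
      ⟨g, ((Nat.coprime_primes hs hr).2 fun e => hrS (e ▸ hsS)).mul_dvd_of_dvd_of_dvd hsd hrd⟩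
  haveI := Fintype.ofFinite G
  obtain ⟨y, -, hy⟩ := Finset.exists_max_image (Finset.univ : Finset G) cls ⟨1, Finset.mem_univ 1⟩
  have htop : ∀ g, cls g ≤ cls y := fun g => hy g (Finset.mem_univ g)
  have hy1 : cls y ≠ 1 := fun e => by
    have h1 : cls gp = 1 := le_antisymm (e ▸ htop gp) (cls_pos gp)
    change p ∣ cls gp at hgp
    rw [h1] at hgp
    exact hp.not_dvd_one hgp
  rcases hpure y with h | h
  · have hx : InS Sᶜ (cls gq) := (hpure gq).resolve_left fun h1 => hqS (h1 q hq hgq)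
    exact conclude ⟨hpure, h, htop, hy1⟩ hx fun e => by
      change q ∣ cls gq at hgq; rw [e] at hgq; exact hq.not_dvd_one hgq
  · have hx : InS Sᶜᶜ (cls gp) := by
      rw [compl_compl]
      exact (hpure gp).resolve_right fun h1 => h1 p hp hgp hpS
    exact conclude (S := Sᶜ) ⟨fun g => by rw [compl_compl]; exact (hpure g).symm, h, htop, hy1⟩ hx
      fun e => by change p ∣ cls gp at hgp; rw [e] at hgp; exact hp.not_dvd_one hgp

end Cfsg.Agent.S4255
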