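import Cfsg.Statements.S4257
import Cfsg.Agent.Lib.Perm.CoprimeClassSizes

set_option autoImplicit false
open Cfsg
open scoped Pointwise

namespace Cfsg.Agent.S4257

open Cfsg.Agent.Perm.CoprimeSizes

variable {G : Type*} [Group G] [Finite G]

/-- The centraliser of the commutator group. -/
abbrev KK (x : G) : Subgroup G := Subgroup.centralizer (gens x : Set G)

/-- No class size has prime divisors next to both `p` and `q`. -/
structure Far (p : ℕ) (y : G) : Prop where
  top : ∀ g : G, p ∣ cls g → cls g ≤ cls y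
  sep : ∀ g x : G, p ∣ cls x → ∀ a b : ℕ, a.Prime → b.Prime → a ∣ cls x → b ∣ cls y →
    a ∣ cls g → b ∣ cls g → False

variable {p : ℕ} {x y : G}

theorem Far.coprime (h : Far p y) (hx : p ∣ cls x) : (cls x).Coprime (cls y) :=
  Nat.coprime_of_dvd fun r hr h1 h2 => h.sep x x hx r r hr hr h1 h2 h1 h1

theorem Far.gens_le (h : Far p y) (hx : p ∣ cls x) : gens x ≤ stb y := by
  refine (Subgroup.closure_le _).2 ?_
  rintro _ ⟨g, rfl⟩
  have hco := h.coprime hx
  refine mem_stb_of_le hco ?_ g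
  by_cases hc : (cls (x * y)).Coprime (cls x)
  · exact Nat.le_of_dvd (cls_pos y) (hc.dvd_of_dvd_mul_left (cls_mul_dvd hco))
  · obtain ⟨a, ha, ha1, ha2⟩ := Nat.Prime.not_coprime_iff_dvd.1 hc
    have hy : (cls (x * y)).Coprime (cls y) :=
      Nat.coprime_of_dvd fun b hb h1 h2 => h.sep _ x hx a b ha hb ha2 h2 ha1 h1
    exact (Nat.le_of_dvd (cls_pos x) (hy.dvd_of_dvd_mul_right (cls_mul_dvd hco))).trans (h.top x hx)

theorem Far.gens_dvd (h : Far p y) (hx : p ∣ cls x) : Nat.card (gens x) ∣ cls y :=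
  (Subgroup.card_dvd_of_le (h.gens_le hx)).trans (card_stb_dvd y)

theorem Far.le_cent (h : Far p y) (hx : p ∣ cls x) {w : G} (hw : (cls w).Coprime (cls y)) :
    gens x ≤ cent w :=
  Solv.normal_le_of_coprime_index _ _ (hw.symm.coprime_dvd_left (h.gens_dvd hx))

theorem Far.KK_le (h : Far p y) (hx : p ∣ cls x) : KK x ≤ cent x := by
  let f : KK x → gens x := fun k => ⟨x⁻¹ * ((k : G) * x * (k : G)⁻¹), mem_gens x k⟩
  let ρ : KK x →* gens x := MonoidHom.mk' f fun a b => Subtype.ext (by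
    have hc : (a : G) * (x⁻¹ * ((b : G) * x * (b : G)⁻¹)) = x⁻¹ * ((b : G) * x * (b : G)⁻¹) * a :=
      (Subgroup.mem_centralizer_iff.1 a.2 _ (mem_gens x b)).symm
    show x⁻¹ * ((a * b : KK x) * x * ((a * b : KK x) : G)⁻¹) = _ * _
    calc x⁻¹ * ((a * b : KK x) * x * ((a * b : KK x) : G)⁻¹) =
          x⁻¹ * (a : G) * x * ((x⁻¹ * ((b : G) * x * (b : G)⁻¹)) * (a : G)⁻¹) := by
            simp only [Subgroup.coe_mul]; group
      _ = x⁻¹ * (a : G) * x * ((a : G)⁻¹ * (x⁻¹ * ((b : G) * x * (b : G)⁻¹))) := by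
            congr 1
            rw [eq_inv_mul_iff_mul_eq, ← mul_assoc, hc, mul_inv_cancel_right]
      _ = x⁻¹ * ((a : G) * x * (a : G)⁻¹) * (x⁻¹ * ((b : G) * x * (b : G)⁻¹)) := by group)
  have hker : ρ.ker = (cent x).subgroupOf (KK x) := by
    ext k
    rw [MonoidHom.mem_ker, Subgroup.mem_subgroupOf, mem_cent, Subtype.ext_iff]
    show x⁻¹ * ((k : G) * x * (k : G)⁻¹) = 1 ↔ _
    rw [inv_mul_eq_one, eq_mul_inv_iff_mul_eq, eq_comm]
  have h1 : (cent x).relIndex (KK x) ∣ Nat.card (gens x) := by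
    rw [Subgroup.relIndex, ← hker, Subgroup.index_ker]
    exact Subgroup.card_subgroup_dvd_card _
  rw [← Subgroup.relIndex_eq_one]
  exact Nat.eq_one_of_dvd_coprimes (((h.coprime hx).symm.coprime_dvd_left (h.gens_dvd hx))) h1
    (Solv.relIndex_dvd_index_normal (cent x) (KK x))

theorem Far.central_part (h : Far p y) (hx : p ∣ cls x) {r k : ℕ} (hr : r.Prime) (hry : ¬ r ∣ cls y)
    {u : G} (hu : u ∈ Subgroup.zpowers x) (hk : orderOf u = r ^ k) : u ∈ Subgroup.center G := by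
  rw [Subgroup.mem_center_iff]
  intro g
  obtain ⟨j, rfl⟩ := Subgroup.mem_zpowers_iff.1 hu
  set t := x⁻¹ * (g * x * g⁻¹) with htdef
  have ht : t ∈ gens x := mem_gens x g
  have htx : Commute t x := mem_cent.1 (h.le_cent hx (h.coprime hx) ht)
  have e1 : g * x * g⁻¹ = t * x := by rw [htx.eq, htdef]; group
  have e2 : g * x ^ j * g⁻¹ = t ^ j * x ^ j := by rw [← conj_zpow, e1, htx.mul_zpow]
  have e3 := eq_one_of_translate (zpow_mem ht j) (htx.zpow_zpow j j).eq e2
    (by rw [hk]; exact (((hr.coprime_iff_not_dvd.2 hry).coprime_dvd_right (h.gens_dvd hx)).pow_left k))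
  rw [e3, one_mul] at e2
  calc g * x ^ j = g * x ^ j * g⁻¹ * g := by group
    _ = x ^ j * g := by rw [e2]

theorem Far.central_in_cent (h : Far p y) (hx : p ∣ cls x) {r : ℕ} (hr : r.Prime)
    (hry : ¬ r ∣ cls y) {k : G} (hk : k ∈ cent x) (hko : ∃ j, orderOf k = r ^ j) :
    k ∈ Subgroup.center G := by
  obtain ⟨j, hj⟩ := hko
  haveI := Fact.mk hr
  obtain ⟨u, v, hu, hv, huv, ⟨i, hi⟩, hco⟩ := Solv.exists_ppart r x
  have huc := h.central_part hx hr hry hu hi
  have hcv : cent v = cent x := by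
    refine le_antisymm (fun g hg => mem_cent.2 ?_) (cent_le_of_mem_zpowers hv)
    rw [← huv]
    exact ((show Commute g u from Subgroup.mem_center_iff.1 huc g).mul_right (mem_cent.1 hg)).eq
  have hvk : Commute v k := (mem_cent.1 (hcv ▸ hk : k ∈ cent v)).symm
  have hcop : (orderOf v).Coprime (orderOf k) := by rw [hj]; exact hco.pow_right j
  have hc := cent_mul_of_coprime hvk.eq hcop
  have hvkx : p ∣ cls (v * k) := by
    refine hx.trans ?_
    rw [cls, ← hcv]
    exact Subgroup.index_dvd_of_le (hc.le.trans inf_le_left)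
  refine h.central_part hvkx hr hry ?_ hj
  obtain ⟨l, hl⟩ := exists_pow_eq_self_of_coprime hcop
  have e : ((v * k) ^ orderOf v) ^ l = k := by
    rw [hvk.mul_pow, pow_orderOf_eq_one, one_mul, hl]
  rw [← pow_mul] at e
  exact Subgroup.mem_zpowers_iff.2 ⟨((orderOf v * l : ℕ) : ℤ), by rw [zpow_natCast, e]⟩

/-- Modulo `KK x` the Sylow subgroups for primes outside `S` are central. -/
theorem Far.sylow_central (h : Far p y) (hx : p ∣ cls x) {r : ℕ} [hr : Fact r.Prime]
    (hrx : r ∣ cls x) (P : Sylow r G) {a : G} (ha : a ∈ (P : Subgroup G)) (g : G) :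
    g * a * g⁻¹ * a⁻¹ ∈ KK x := by
  set π := QuotientGroup.mk' (KK x)
  set C := (Subgroup.centralizer (π '' (P : Subgroup G) : Set (G ⧸ KK x))).comap π
  have hC : C = ⊤ := by
    refine Solv.eq_top_of_forall_conj_mem C fun b => ?_
    by_cases hb : b ∈ KK x
    · refine ⟨1, ?_⟩
      rw [one_mul, inv_one, mul_one, Subgroup.mem_comap,
        show π b = 1 from (QuotientGroup.eq_one_iff b).2 hb]
      exact one_mem _
    · obtain ⟨Pb⟩ := (inferInstance : Nonempty (Sylow r (cent b)))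
      have hcop : ¬ r ∣ cls b := fun hd => by
        by_cases hc : (cls b).Coprime (cls y)
        · exact hb (by
            rw [Subgroup.mem_centralizer_iff]
            exact fun t ht => mem_cent.1 (h.le_cent hx hc ht))
        · obtain ⟨c, hc, hc1, hc2⟩ := Nat.Prime.not_coprime_iff_dvd.1 hc
          exact h.sep b x hx r c hr.out hc hrx hc2 hd hc1
      have hcard : Nat.card ((Pb : Subgroup (cent b)).map (cent b).subtype) = Nat.card P := by
        rw [Subgroup.card_map_of_injective (Subgroup.subtype_injective _), Sylow.card_eq_multiplicity,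
          Sylow.card_eq_multiplicity, ← (cent b).card_mul_index, Nat.factorization_mul Nat.card_pos.ne'
            (cls_pos b).ne', Finsupp.add_apply, Nat.factorization_eq_zero_of_not_dvd hcop, add_zero]
      obtain ⟨P', hP'⟩ := (Pb.isPGroup'.map (cent b).subtype).exists_le_sylow
      have heq : (Pb : Subgroup (cent b)).map (cent b).subtype = P' :=
        Subgroup.eq_of_le_of_card_ge hP' (by rw [hcard, P.card_eq_multiplicity, P'.card_eq_multiplicity])
      obtain ⟨c, hc⟩ := MulAction.exists_smul_eq G P' P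
      refine ⟨c, ?_⟩
      rw [Subgroup.mem_comap, Subgroup.mem_centralizer_iff]
      rintro _ ⟨e, he, rfl⟩
      rw [← map_mul, ← map_mul]
      congr 1
      rw [← hc, Sylow.coe_subgroup_smul, SetLike.mem_coe, Solv.mem_conj_smul, ← heq] at he
      obtain ⟨⟨e', he'⟩, -, hee⟩ := he
      have h2 : e' * b = b * e' := mem_cent.1 he'
      simp only [Subgroup.coe_subtype] at hee
      rw [hee] at h2
      calc e * (c * b * c⁻¹) = c * (c⁻¹ * e * c * b) * c⁻¹ := by group
        _ = c * b * c⁻¹ * e := by rw [h2]; group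
  have hg : g ∈ C := hC ▸ Subgroup.mem_top g
  rw [Subgroup.mem_comap, Subgroup.mem_centralizer_iff] at hg
  rw [← QuotientGroup.eq_one_iff (N := KK x)]
  show π (g * a * g⁻¹ * a⁻¹) = 1
  rw [map_mul, map_mul, map_mul, ← hg _ ⟨a, ha, rfl⟩, mul_assoc (π a), ← map_mul π g, mul_inv_cancel,
    map_one, mul_one, ← map_mul, mul_inv_cancel, map_one]

theorem Far.exists_sylow_cent (h : Far p y) (hx : p ∣ cls x) {r : ℕ} [hr : Fact r.Prime]
    (hrx : ¬ r ∣ cls x) (R : Sylow r G) : (R : Subgroup G) ≤ KK x := by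
  have hrn : ¬ r ∣ (cent x).index := hrx
  obtain ⟨p0, hp0⟩ := R.isPGroup'.nonempty_fixed_point_of_prime_not_dvd_card (α := G ⧸ cent x)
    (by rw [← Subgroup.index_eq_card]; exact hrn)
  induction p0 using QuotientGroup.induction_on with
  | H c =>
    set D := (Subgroup.centralizer (QuotientGroup.mk' (KK x) '' (R : Subgroup G) : Set (G ⧸ KK x))).comap
      (QuotientGroup.mk' (KK x))
    have hD : (D.index).Coprime (cls (c * x * c⁻¹)) := by
      rw [cls_conj]
      refine Nat.coprime_of_dvd fun s hs h1 h2 => ?_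
      haveI := Fact.mk hs
      obtain ⟨P⟩ := (inferInstance : Nonempty (Sylow s G))
      refine P.not_dvd_index (h1.trans (Subgroup.index_dvd_of_le fun a ha => ?_))
      rw [Subgroup.mem_comap, Subgroup.mem_centralizer_iff]
      rintro _ ⟨e, -, rfl⟩
      have := h.sylow_central hx h2 P ha e
      rw [← QuotientGroup.eq_one_iff (N := KK x)] at this
      have h3 : QuotientGroup.mk' (KK x) (e * a * e⁻¹ * a⁻¹) = 1 := this
      rw [map_mul, map_mul, map_mul, map_inv, map_inv, mul_inv_eq_one, mul_inv_eq_iff_eq_mul] at h3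
      exact h3
    intro ρ hρ
    have hρ1 : Commute ρ (c * x * c⁻¹) := by
      have e : ((ρ * c : G) : G ⧸ cent x) = (c : G) := hp0 ⟨ρ, hρ⟩
      have h1 := QuotientGroup.eq.1 e.symm
      rw [← mul_assoc, ← cent_conj_mem, mem_cent] at h1
      exact h1
    have hall : ∀ g : G, Commute ρ (g * x * g⁻¹) := by
      intro g
      obtain ⟨d, hd, a, ha, hda⟩ := Perm.mul_of_coprime_index hD (g * c⁻¹)
      have hk : d⁻¹ * ρ * d * ρ⁻¹ ∈ KK x := by
        rw [← QuotientGroup.eq_one_iff]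
        show QuotientGroup.mk' (KK x) _ = 1
        rw [map_mul, map_mul, map_mul, map_inv, map_inv, mul_inv_eq_one, mul_assoc,
          Subgroup.mem_centralizer_iff.1 hd _ ⟨ρ, hρ, rfl⟩, inv_mul_cancel_left]
      have hKc : KK x ≤ cent (c * x * c⁻¹) := fun k hk => cent_conj_mem.2 (h.KK_le hx (by
        have := (inferInstance : (KK x).Normal).conj_mem k hk c⁻¹
        rwa [inv_inv] at this))
      have h1 : Commute (d⁻¹ * ρ * d) (c * x * c⁻¹) := by
        have := (show Commute (d⁻¹ * ρ * d * ρ⁻¹) (c * x * c⁻¹) from mem_cent.1 (hKc hk)).mul_left hρ1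
        rwa [inv_mul_cancel_right] at this
      have e : g * x * g⁻¹ = d * (c * x * c⁻¹) * d⁻¹ := by
        have e1 : g = d * a * c := by rw [← hda]; group
        have e2 : a * (c * x * c⁻¹) = c * x * c⁻¹ * a := mem_cent.1 ha
        rw [e1]
        calc d * a * c * x * (d * a * c)⁻¹ = d * (a * (c * x * c⁻¹)) * a⁻¹ * d⁻¹ := by group
          _ = d * (c * x * c⁻¹) * d⁻¹ := by rw [e2]; group
      rw [e]
      show ρ * _ = _ * ρ
      calc ρ * (d * (c * x * c⁻¹) * d⁻¹) = d * ((d⁻¹ * ρ * d) * (c * x * c⁻¹)) * d⁻¹ := by group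
        _ = d * (c * x * c⁻¹) * d⁻¹ * ρ := by rw [h1.eq]; group
    rw [Subgroup.mem_centralizer_iff]
    intro t ht
    have hle : gens x ≤ cent ρ := (Subgroup.closure_le _).2 (by
      rintro _ ⟨g, rfl⟩
      have e1 := hall 1
      simp only [one_mul, inv_one, mul_one] at e1
      exact mem_cent.2 ((e1.inv_right).mul_right (hall g)).eq.symm)
    exact mem_cent.1 (hle ht)

theorem Far.central_or (h : Far p y) (hx : p ∣ cls x) {r : ℕ} (hr : r.Prime)
    (hrd : r ∣ (Subgroup.center G).index) : r ∣ cls x ∨ r ∣ cls y := by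
  by_contra! hcon
  haveI := Fact.mk hr
  obtain ⟨R⟩ := (inferInstance : Nonempty (Sylow r G))
  refine R.not_dvd_index (hrd.trans (Subgroup.index_dvd_of_le fun a ha => ?_))
  obtain ⟨j, hj⟩ := IsPGroup.iff_orderOf.1 R.isPGroup' ⟨a, ha⟩
  rw [Subgroup.orderOf_mk] at hj
  exact h.central_in_cent hx hr hcon.2 (h.KK_le hx (h.exists_sylow_cent hx hcon.1 R ha)) ⟨j, hj⟩

theorem main (h : Far p y) (hx : p ∣ cls x) (hp : p.Prime)
    (hconn : ∀ S : Set ℕ, (∃ p ∈ S, (p.Prime ∧ ∃ g : G, p ∣ cls g)) →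
      (∃ q ∉ S, (q.Prime ∧ ∃ g : G, q ∣ cls g)) →
      ∃ p q : ℕ, (p.Prime ∧ ∃ g : G, p ∣ cls g) ∧ (q.Prime ∧ ∃ g : G, q ∣ cls g) ∧ p ∈ S ∧ q ∉ S ∧
        (∃ g : G, p * q ∣ cls g))
    {q : ℕ} (hq : q.Prime) (hqy : q ∣ cls y) : False := by
  obtain ⟨a, b, ⟨ha, -⟩, ⟨hb, gb, hgb⟩, haS, hbS, g, hg⟩ := hconn {u | u ∣ cls x}
    ⟨p, hx, hp, x, hx⟩
    ⟨q, fun hd => hq.not_dvd_one ((h.coprime hx).gcd_eq_one ▸ Nat.dvd_gcd hd hqy), hq, y, hqy⟩
  have hbZ : b ∣ (Subgroup.center G).index :=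
    hgb.trans (Subgroup.index_dvd_of_le (Subgroup.center_le_centralizer _))
  have hby : b ∣ cls y := (h.central_or hx hb hbZ).resolve_left hbS
  exact h.sep g x hx a b ha hb haS hby ((dvd_mul_right a b).trans hg) ((dvd_mul_left b a).trans hg)

/-- Let G be a finite group. Call a prime a vertex if it divides some conjugacy class size of G, and two distinct vertices adjacent if their product divides some class size. If this graph is connected, then its diameter is at most 3: any two distinct vertices p and q are adjacent, or joined through one or two intermediate vertices. -/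
theorem result {G : Type*} [Group G] [Finite G]
    (hconn : ∀ S : Set ℕ, (∃ p ∈ S, (p.Prime ∧ ∃ g : G, p ∣ (Subgroup.centralizer ({g} : Set G)).index)) → (∃ q ∉ S, (q.Prime ∧ ∃ g : G, q ∣ (Subgroup.centralizer ({g} : Set G)).index)) →
      ∃ p q : ℕ, (p.Prime ∧ ∃ g : G, p ∣ (Subgroup.centralizer ({g} : Set G)).index) ∧ (q.Prime ∧ ∃ g : G, q ∣ (Subgroup.centralizer ({g} : Set G)).index) ∧ p ∈ S ∧ q ∉ S ∧ (∃ g : G, p * q ∣ (Subgroup.centralizer ({g} : Set G)).index))
    (p q : ℕ) (hp : (p.Prime ∧ ∃ g : G, p ∣ (Subgroup.centralizer ({g} : Set G)).index)) (hq : (q.Prime ∧ ∃ g : G, q ∣ (Subgroup.centralizer ({g} : Set G)).index)) (hpq : p ≠ q) :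
    (∃ g : G, p * q ∣ (Subgroup.centralizer ({g} : Set G)).index) ∨ (∃ r : ℕ, (r.Prime ∧ ∃ g : G, r ∣ (Subgroup.centralizer ({g} : Set G)).index) ∧ r ≠ p ∧ r ≠ q ∧ (∃ g : G, p * r ∣ (Subgroup.centralizer ({g} : Set G)).index) ∧ (∃ g : G, r * q ∣ (Subgroup.centralizer ({g} : Set G)).index)) ∨
      (∃ r s : ℕ, (r.Prime ∧ ∃ g : G, r ∣ (Subgroup.centralizer ({g} : Set G)).index) ∧ (s.Prime ∧ ∃ g : G, s ∣ (Subgroup.centralizer ({g} : Set G)).index) ∧ r ≠ p ∧ s ≠ q ∧ r ≠ s ∧ r ≠ q ∧ s ≠ p ∧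
        (∃ g : G, p * r ∣ (Subgroup.centralizer ({g} : Set G)).index) ∧ (∃ g : G, r * s ∣ (Subgroup.centralizer ({g} : Set G)).index) ∧ (∃ g : G, s * q ∣ (Subgroup.centralizer ({g} : Set G)).index)) := by
  classical
  by_contra hcon
  simp only [not_or] at hcon
  obtain ⟨hn1, hn2, hn3⟩ := hcon
  -- no edge between the neighbourhoods of `p` and of `q`
  have key : ∀ gp gq g : G, ∀ a b : ℕ, a.Prime → b.Prime → p ∣ cls gp → a ∣ cls gp → q ∣ cls gq →
      b ∣ cls gq → a ∣ cls g → b ∣ cls g → False := by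
    intro gp gq g a b ha hb hpg hag hqg hbg hga hgb
    have adj : ∀ {u v : ℕ}, u.Prime → v.Prime → u ≠ v → ∀ k : G, u ∣ cls k → v ∣ cls k →
        ∃ k : G, u * v ∣ (Subgroup.centralizer ({k} : Set G)).index := fun hu hv huv k h1 h2 =>
      ⟨k, ((Nat.coprime_primes hu hv).2 huv).mul_dvd_of_dvd_of_dvd h1 h2⟩
    by_cases haq : a = q
    · subst haq; exact hn1 (adj hp.1 ha hpq gp hpg hag)
    by_cases hbp : b = p
    · subst hbp; exact hn1 (adj hb hq.1 hpq gq hbg hqg)
    by_cases hap : a = p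
    · subst hap
      by_cases hbq : b = q
      · subst hbq; exact hn1 (adj ha hb hpq g hga hgb)
      exact hn2 ⟨b, ⟨hb, g, hgb⟩, hbp, hbq, adj ha hb (Ne.symm hbp) g hga hgb,
        adj hb hq.1 hbq gq hbg hqg⟩
    by_cases hbq : b = q
    · subst hbq
      exact hn2 ⟨a, ⟨ha, g, hga⟩, hap, haq, adj hp.1 ha (Ne.symm hap) gp hpg hag,
        adj ha hb haq g hga hgb⟩
    by_cases hab : a = b
    · subst hab
      exact hn2 ⟨a, ⟨ha, g, hga⟩, hap, haq, adj hp.1 ha (Ne.symm hap) gp hpg hag,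
        adj ha hq.1 haq gq hbg hqg⟩
    exact hn3 ⟨a, b, ⟨ha, g, hga⟩, ⟨hb, g, hgb⟩, hap, hbq, hab, haq, hbp,
      adj hp.1 ha (Ne.symm hap) gp hpg hag, adj ha hb hab g hga hgb, adj hb hq.1 hbq gq hbg hqg⟩
  haveI := Fintype.ofFinite G
  obtain ⟨y, hy, hmax⟩ := Finset.exists_max_image
    (Finset.univ.filter fun g : G => p ∣ cls g ∨ q ∣ cls g) cls (by
      obtain ⟨g, hg⟩ := hp.2
      exact ⟨g, Finset.mem_filter.2 ⟨Finset.mem_univ g, Or.inl hg⟩⟩)
  have hmax' : ∀ g : G, (p ∣ cls g ∨ q ∣ cls g) → cls g ≤ cls y := fun g hg =>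
    hmax g (Finset.mem_filter.2 ⟨Finset.mem_univ g, hg⟩)
  obtain ⟨gp, hgp⟩ := hp.2
  obtain ⟨gq, hgq⟩ := hq.2
  rcases (Finset.mem_filter.1 hy).2 with h | h
  · exact main (p := q) (x := gq) ⟨fun g hg => hmax' g (Or.inr hg),
      fun g x hx a b ha hb h1 h2 h3 h4 => key y x g b a hb ha h h2 hx h1 h4 h3⟩ hgq hq.1 hconn hp.1 h
  · exact main (x := gp) ⟨fun g hg => hmax' g (Or.inl hg),
      fun g x hx a b ha hb h1 h2 h3 h4 => key x y g a b ha hb hx h1 h h2 h3 h4⟩ hgp hp.1 hconn hq.1 h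

end Cfsg.Agent.S4257
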