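import Cfsg.Statements.S4260


set_option autoImplicit false
open Cfsg

namespace Cfsg.Agent.S4260

/-- Let H be a Hall subgroup of a finite group G (the order of H is coprime to its index) such that x^[G : H] lies in H for every x in G. Then H is normal in G. -/
theorem result {G : Type*} [Group G] [Finite G] (H : Subgroup G) (hHall : (Nat.card H).Coprime H.index)
    (hexp : ∀ x : G, x ^ H.index ∈ H) : H.Normal := by
  refine ⟨fun n hn g => ?_⟩
  set y := g * n * g⁻¹
  have ho : orderOf y = orderOf n :=
    orderOf_injective (MulAut.conj g).toMonoidHom (MulAut.conj g).injective n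
  have hco : H.index.Coprime (orderOf y) :=
    (hHall.coprime_dvd_left (ho ▸ Subgroup.orderOf_dvd_natCard H hn)).symm
  exact Subgroup.zpowers_le.2 (hexp y) (mem_zpowers_pow_iff.2 hco)

end Cfsg.Agent.S4260
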