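import Cfsg.Statements.S4261
import Cfsg.Agent.S0048
import Cfsg.Agent.Lib.Fusion.NPC

set_option autoImplicit false
open Cfsg

namespace Cfsg.Agent.S4261

/-- Let M be a maximal subgroup of a finite solvable group G such that x^[G : M] lies in M for every x in G. Then M is normal in G. -/
theorem result {G : Type*} [Group G] [Finite G] (hG : Group.IsSolvable G) (M : Subgroup G) (hM : IsCoatom M)
    (hexp : ∀ x : G, x ^ M.index ∈ M) : M.Normal := by
  haveI := hG
  obtain ⟨p, a, hp, ha, hpa⟩ := Cfsg.Agent.S0048.result M hM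
  have hp' := Nat.prime_iff.2 hp
  haveI := Fact.mk hp'
  have hR : Cfsg.pResidual p G ≤ M := (Subgroup.closure_le _).2 fun g hg => by
    have h1 := hexp g
    rw [← hpa] at h1
    exact Subgroup.zpowers_le.2 h1 (mem_zpowers_pow_iff.2 ((Nat.Coprime.pow_right a hg).symm))
  haveI : (Cfsg.pResidual p G).Normal := inferInstance
  set q := QuotientGroup.mk' (Cfsg.pResidual p G)
  have hpg : IsPGroup p (G ⧸ Cfsg.pResidual p G) := by
    intro x
    induction x using QuotientGroup.induction_on with
    | H g =>
      obtain ⟨k, m, hm, hk⟩ := Nat.exists_eq_pow_mul_and_not_dvd (orderOf_pos g).ne' p hp'.ne_one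
      refine ⟨k, ?_⟩
      rw [← QuotientGroup.mk_pow, QuotientGroup.eq_one_iff]
      refine Subgroup.subset_closure (Nat.Coprime.coprime_dvd_left (k := m)
        (orderOf_dvd_of_pow_eq_one ?_) ((hp'.coprime_iff_not_dvd.2 hm).symm))
      rw [← pow_mul, ← hk, pow_orderOf_eq_one]
  haveI := hpg.isNilpotent
  have hcm : IsCoatom (M.map q) := by
    refine ⟨fun h => hM.1 ?_, fun L hL => ?_⟩
    · have h' := congrArg (Subgroup.comap q) h
      rw [Subgroup.comap_map_eq, QuotientGroup.ker_mk', sup_eq_left.2 hR, Subgroup.comap_top] at h'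
      exact h'
    · have h1 : M < L.comap q := by
        refine lt_of_le_of_ne (Subgroup.map_le_iff_le_comap.1 hL.le) fun h => hL.ne ?_
        rw [h, Subgroup.map_comap_eq_self_of_surjective (QuotientGroup.mk'_surjective _)]
      have h2 := congrArg (Subgroup.map q) (hM.2 _ h1)
      rwa [Subgroup.map_comap_eq_self_of_surjective (QuotientGroup.mk'_surjective _),
        Subgroup.map_top_of_surjective _ (QuotientGroup.mk'_surjective _)] at h2
  haveI : (M.map q).Normal :=
    Subgroup.NormalizerCondition.normal_of_coatom _ Group.normalizerCondition_of_isNilpotent hcm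
  have h3 : ((M.map q).comap q).Normal := inferInstance
  rwa [Subgroup.comap_map_eq, QuotientGroup.ker_mk', sup_eq_left.2 hR] at h3

end Cfsg.Agent.S4261
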