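import Cfsg.Statements.S4262
import Cfsg.Agent.S4040

set_option autoImplicit false
open Cfsg

namespace Cfsg.Agent.S4262

open Subgroup

theorem mem_center_of_forall_sylow {G : Type*} [Group G] [Finite G]
    (h : ∀ (p : ℕ) [Fact p.Prime], ∀ g : G, ∀ k, orderOf g = p ^ k → g ∈ Subgroup.center G) :
    Subgroup.center G = ⊤ := by
  rw [← Subgroup.index_eq_one]
  by_contra hne
  obtain ⟨r, hr, hrd⟩ := Nat.exists_prime_and_dvd hne
  haveI := Fact.mk hr
  obtain ⟨R⟩ := (inferInstance : Nonempty (Sylow r G))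
  refine R.not_dvd_index (hrd.trans (Subgroup.index_dvd_of_le fun g hg => ?_))
  obtain ⟨k, hk⟩ := R.isPGroup' ⟨g, hg⟩
  obtain ⟨j, -, hj⟩ := (Nat.dvd_prime_pow hr).1
    (orderOf_dvd_of_pow_eq_one (congrArg Subtype.val hk) : orderOf g ∣ r ^ k)
  exact h r g j hj

variable {G : Type*} [Group G] [Finite G]

theorem cent_eq (h : ∀ g : G, g ∉ Subgroup.center G → IsCoatom (Subgroup.centralizer ({g} : Set G)))
    {a b : G} (ha : a ∉ Subgroup.center G) (hb : b ∉ Subgroup.center G) (hc : Commute a b)
    (hco : (orderOf a).Coprime (orderOf b)) :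
    Subgroup.centralizer ({a} : Set G) = Subgroup.centralizer ({b} : Set G) := by
  obtain ⟨m, hm⟩ := exists_pow_eq_self_of_coprime (x := a) hco.symm
  have ha' : a = (a * b) ^ (orderOf b * m) := by
    rw [hc.mul_pow, pow_mul, pow_mul, pow_orderOf_eq_one, one_pow, mul_one, hm]
  obtain ⟨n, hn⟩ := exists_pow_eq_self_of_coprime (x := b) hco
  have hb' : b = (a * b) ^ (orderOf a * n) := by
    rw [hc.mul_pow, pow_mul, pow_mul, pow_orderOf_eq_one, one_pow, one_mul, hn]
  have hab : a * b ∉ Subgroup.center G := fun hz => ha (ha' ▸ Subgroup.pow_mem _ hz _)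
  have h1 : ∀ c : G, (∃ k : ℕ, c = (a * b) ^ k) →
      Subgroup.centralizer ({a * b} : Set G) ≤ Subgroup.centralizer ({c} : Set G) := by
    rintro c ⟨k, rfl⟩ g hg
    rw [Subgroup.mem_centralizer_singleton_iff] at hg ⊢
    exact ((show Commute g (a * b) from hg).pow_right k).eq
  have e1 := ((h _ hab).le_iff.1 (h1 a ⟨_, ha'⟩)).resolve_left (h _ ha).1
  have e2 := ((h _ hab).le_iff.1 (h1 b ⟨_, hb'⟩)).resolve_left (h _ hb).1
  rw [e1, e2]

theorem isSolvable_of_normal_maximal (M : Subgroup G) (hM : IsCoatom M) [M.Normal]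
    (hsol : Group.IsSolvable M) : Group.IsSolvable G := by
  haveI := hsol
  haveI : IsSimpleGroup (G ⧸ M) := by
    haveI : Nontrivial (G ⧸ M) := QuotientGroup.nontrivial_iff.2 hM.1
    refine ⟨fun K hK => ?_⟩
    rcases hM.le_iff.1 (show M ≤ K.comap (QuotientGroup.mk' M) from QuotientGroup.le_comap_mk' M K)
      with h | h
    · right
      rw [← Subgroup.map_comap_eq_self_of_surjective (QuotientGroup.mk'_surjective M) K, h,
        Subgroup.map_top_of_surjective _ (QuotientGroup.mk'_surjective M)]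
    · left
      rw [← Subgroup.map_comap_eq_self_of_surjective (QuotientGroup.mk'_surjective M) K, h,
        QuotientGroup.map_mk'_self]
  obtain ⟨r, hr, hrd⟩ := Nat.exists_prime_and_dvd
    (show M.index ≠ 1 from fun e => hM.1 (Subgroup.index_eq_one.1 e))
  haveI := Fact.mk hr
  obtain ⟨R⟩ := (inferInstance : Nonempty (Sylow r (G ⧸ M)))
  -- every proper non-trivial subgroup is excluded
  have hall : ∀ K : Subgroup (G ⧸ M), K = ⊥ ∨ K = ⊤ := by
    intro K
    rcases hM.le_iff.1 (show M ≤ K.comap (QuotientGroup.mk' M) from QuotientGroup.le_comap_mk' M K)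
      with h | h
    · right
      rw [← Subgroup.map_comap_eq_self_of_surjective (QuotientGroup.mk'_surjective M) K, h,
        Subgroup.map_top_of_surjective _ (QuotientGroup.mk'_surjective M)]
    · left
      rw [← Subgroup.map_comap_eq_self_of_surjective (QuotientGroup.mk'_surjective M) K, h,
        QuotientGroup.map_mk'_self]
  obtain ⟨g, hg⟩ := exists_ne (1 : G ⧸ M)
  have htop : Subgroup.zpowers g = ⊤ := (hall _).resolve_left fun e =>
    hg (by rw [← Subgroup.mem_bot, ← e]; exact Subgroup.mem_zpowers g)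
  haveI : IsCyclic (G ⧸ M) := isCyclic_iff_exists_zpowers_eq_top.2 ⟨g, htop⟩
  haveI : Group.IsSolvable (G ⧸ M) :=
    Group.isSolvable_of_comm fun s t => (IsCyclic.isMulCommutative).is_comm.comm s t
  exact Group.isSolvable_of_ker_le_range M.subtype (QuotientGroup.mk' M)
    (by rw [QuotientGroup.ker_mk', Subgroup.range_subtype])

theorem exists_complement
    (h : ∀ g : G, g ∉ Subgroup.center G → IsCoatom (Subgroup.centralizer ({g} : Set G)))
    (hns : ¬ Group.IsSolvable G) {q : ℕ} [hq : Fact q.Prime] (hq2 : q ≠ 2)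
    (hqd : q ∣ (Subgroup.center G).index) :
    ∃ (K : Subgroup G) (_ : K.Normal), ¬ q ∣ Nat.card K ∧ Group.IsSolvable (G ⧸ K) := by
  obtain ⟨Q₀⟩ := (inferInstance : Nonempty (Sylow q G))
  obtain ⟨x, hxQ, hxc⟩ : ∃ x ∈ (Q₀ : Subgroup G), x ∉ Subgroup.center G := by
    by_contra hno
    push Not at hno
    exact Q₀.not_dvd_index (hqd.trans (Subgroup.index_dvd_of_le hno))
  obtain ⟨k, hk⟩ : ∃ k, orderOf x = q ^ k := by
    obtain ⟨k, hk⟩ := Q₀.isPGroup' ⟨x, hxQ⟩
    obtain ⟨j, -, hj⟩ := (Nat.dvd_prime_pow hq.out).1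
      (orderOf_dvd_of_pow_eq_one (congrArg Subtype.val hk) : orderOf x ∣ q ^ k)
    exact ⟨j, hj⟩
  set M := Subgroup.centralizer ({x} : Set G) with hM
  have hMmax : IsCoatom M := h x hxc
  -- primes other than `q` are central in `M`
  have hcent : ∀ (a : G) (r : ℕ), r.Prime → (∃ j, orderOf a = r ^ j) → a ∉ Subgroup.center G →
      Subgroup.centralizer ({a} : Set G) = M → ∀ (s : ℕ), s.Prime → s ≠ r → ∀ b ∈ M,
      (∃ i, orderOf b = s ^ i) → ∀ g ∈ M, g * b = b * g := by
    intro a r hr hao hac haM s hs hsr b hb hbo g hg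
    by_cases hbc : b ∈ Subgroup.center G
    · exact Subgroup.mem_center_iff.1 hbc g
    obtain ⟨j, hj⟩ := hao
    obtain ⟨i, hi⟩ := hbo
    have hbM : Commute a b := by
      rw [← haM, Subgroup.mem_centralizer_singleton_iff] at hb
      exact hb.symm
    have hco : (orderOf a).Coprime (orderOf b) := by
      rw [hj, hi]; exact Nat.Coprime.pow _ _ ((Nat.coprime_primes hr hs).2 hsr.symm)
    have := cent_eq h hac hbc hbM hco
    rw [haM] at this
    rw [this, Subgroup.mem_centralizer_singleton_iff] at hg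
    exact hg
  have hnil : Group.IsNilpotent M := by
    suffices hq' : IsPGroup q (M ⧸ Subgroup.center M) by
      haveI := hq'.isNilpotent
      exact Subgroup.isNilpotent_of_ker_le_center (QuotientGroup.mk' (Subgroup.center M))
        (by rw [QuotientGroup.ker_mk'])
    intro y
    obtain ⟨y, rfl⟩ := QuotientGroup.mk_surjective y
    obtain ⟨m, m', hm', hmeq⟩ := Nat.exists_eq_pow_mul_and_not_dvd (orderOf_pos y).ne' q hq.out.ne_one
    refine ⟨m, ?_⟩
    rw [← QuotientGroup.mk_pow, QuotientGroup.eq_one_iff]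
    set z := y ^ q ^ m with hz
    have hzo : z ^ m' = 1 := by rw [hz, ← pow_mul, ← hmeq, pow_orderOf_eq_one]
    have hzq : ¬ q ∣ orderOf z := fun hd => hm' (hd.trans (orderOf_dvd_of_pow_eq_one hzo))
    rw [Subgroup.mem_center_iff]
    intro g
    suffices ∀ n : ℕ, ∀ w : M, orderOf w = n → ¬ q ∣ n → g * w = w * g from this _ z rfl hzq
    intro n
    induction n using Nat.strong_induction_on with
    | _ n ih =>
      intro w hw hqn
      rcases eq_or_ne n 1 with rfl | hn1
      · rw [orderOf_eq_one_iff] at hw; rw [hw, one_mul, mul_one]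
      obtain ⟨s, hs, hsn⟩ := Nat.exists_prime_and_dvd hn1
      have hn0 : n ≠ 0 := hw ▸ (orderOf_pos w).ne'
      obtain ⟨e, f, hf, hef⟩ := Nat.exists_eq_pow_mul_and_not_dvd hn0 s hs.ne_one
      have he0 : e ≠ 0 := by rintro rfl; rw [pow_zero, one_mul] at hef; exact hf (hef ▸ hsn)
      have hcop : (s ^ e).Coprime f := Nat.Coprime.pow_left _ ((hs.coprime_iff_not_dvd).2 hf)
      have h1 : orderOf (w ^ f) = s ^ e := by
        have hf0 : f ≠ 0 := by rintro rfl; exact hf (dvd_zero s)
        rw [orderOf_pow_of_dvd hf0 (hw ▸ hef ▸ dvd_mul_left f _), hw, hef,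
          Nat.mul_div_left _ (Nat.pos_of_ne_zero hf0)]
      have h2 : orderOf (w ^ s ^ e) = f := by
        rw [orderOf_pow_of_dvd (pow_ne_zero _ hs.ne_zero) (hw ▸ hef ▸ dvd_mul_right _ f), hw, hef,
          Nat.mul_div_right _ (pow_pos hs.pos e)]
      have hlt : f < n := by
        rw [hef]
        have hf0 : 0 < f := Nat.pos_of_ne_zero (by rintro rfl; exact hf (dvd_zero s))
        exact lt_mul_of_one_lt_left hf0 (Nat.one_lt_pow he0 hs.one_lt)
      have c2 : Commute g (w ^ s ^ e) := ih f hlt _ h2 fun hd => hqn (hef ▸ hd.mul_left _)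
      have c1 : Commute g (w ^ f) := Subtype.ext (hcent x q hq.out ⟨k, hk⟩ hxc rfl s hs
        (fun e => hqn (e ▸ hsn)) (w ^ f : M) (w ^ f : M).2
        ⟨e, by rw [Subgroup.orderOf_coe, h1]⟩ g g.2)
      obtain ⟨a, b, hab⟩ : ∃ a b : ℕ, (a * f + b * s ^ e) % n = 1 % n := by
        obtain ⟨a, ha⟩ : ∃ a, f * a ≡ 1 [MOD s ^ e] := by
          obtain ⟨a, -, ha⟩ := Nat.exists_mul_mod_eq_of_coprime 1 hcop.symm (pow_ne_zero _ hs.ne_zero)
          exact ⟨a, ha⟩
        obtain ⟨b, hb⟩ : ∃ b, s ^ e * b ≡ 1 [MOD f] := by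
          obtain ⟨b, -, hb⟩ := Nat.exists_mul_mod_eq_of_coprime 1 hcop
            (by rintro rfl; exact hf (dvd_zero s))
          exact ⟨b, hb⟩
        refine ⟨a, b, ?_⟩
        rw [hef]
        refine (Nat.modEq_and_modEq_iff_modEq_mul hcop).1 ⟨?_, ?_⟩
        · calc a * f + b * s ^ e ≡ 1 + 0 [MOD s ^ e] :=
                ((mul_comm f a ▸ ha)).add ((Nat.modEq_zero_iff_dvd).2 (dvd_mul_left _ _))
            _ = 1 := rfl
        · calc a * f + b * s ^ e ≡ 0 + 1 [MOD f] :=
                ((Nat.modEq_zero_iff_dvd).2 (dvd_mul_left _ _)).add (mul_comm (s ^ e) b ▸ hb)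
            _ = 1 := rfl
      have hwe : (w ^ f) ^ a * (w ^ s ^ e) ^ b = w := by
        rw [← pow_mul, ← pow_mul, ← pow_add, mul_comm f a, mul_comm (s ^ e) b]
        conv_rhs => rw [← pow_one w]
        rw [pow_eq_pow_iff_modEq, hw]
        exact hab
      exact hwe ▸ ((c1.pow_right a).mul_right (c2.pow_right b)).eq
  -- a noncentral two-element
  obtain ⟨t, htM, htc, htj⟩ : ∃ t ∈ M, t ∉ Subgroup.center G ∧ ∃ j, orderOf t = 2 ^ j := by
    by_contra hno
    push Not at hno
    refine hns ?_
    set π := QuotientGroup.mk' (Subgroup.center G) with hπ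
    have hπs : Function.Surjective π := QuotientGroup.mk'_surjective _
    have hZM : π.ker ≤ M := by
      rw [hπ, QuotientGroup.ker_mk']
      intro z hz
      rw [hM, Subgroup.mem_centralizer_singleton_iff]
      exact (Subgroup.mem_center_iff.1 hz x).symm
    haveI : Fact (Nat.Prime 2) := ⟨Nat.prime_two⟩
    have hodd : Odd (Nat.card (M.map π)) := by
      rw [Nat.odd_iff, ← Nat.not_even_iff, even_iff_two_dvd]
      intro hd
      obtain ⟨u, hu⟩ := exists_prime_orderOf_dvd_card' 2 hd
      obtain ⟨v, hv, hvu⟩ := u.2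
      obtain ⟨m, m', hm', hmeq⟩ := Nat.exists_eq_pow_mul_and_not_dvd (orderOf_pos v).ne' 2 (by norm_num)
      refine hno (v ^ m') (M.pow_mem hv _) ?_ m ?_
      · intro hz
        have h1 : π (v ^ m') = 1 := (QuotientGroup.eq_one_iff _).2 hz
        rw [map_pow, hvu] at h1
        have h2 : orderOf (u : G ⧸ Subgroup.center G) ∣ m' := orderOf_dvd_of_pow_eq_one h1
        rw [Subgroup.orderOf_coe, hu] at h2
        exact hm' h2
      · have hm0 : m' ≠ 0 := by rintro rfl; exact hm' (dvd_zero 2)
        rw [orderOf_pow_of_dvd hm0 (hmeq ▸ dvd_mul_left _ _), hmeq,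
          Nat.mul_div_left _ (Nat.pos_of_ne_zero hm0)]
    have hmax' : IsCoatom (M.map π) := by
      refine ⟨fun e => hMmax.1 ?_, fun K hK => ?_⟩
      · rw [← Subgroup.comap_map_eq_self hZM, e, Subgroup.comap_top]
      · have h1 : M < K.comap π := by
          refine lt_of_le_of_ne (Subgroup.map_le_iff_le_comap.1 hK.le) fun e => hK.ne ?_
          rw [e, Subgroup.map_comap_eq_self_of_surjective hπs]
        rw [← Subgroup.map_comap_eq_self_of_surjective hπs K, hMmax.2 _ h1,
          Subgroup.map_top_of_surjective _ hπs]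
    haveI := hnil
    haveI : Group.IsSolvable (G ⧸ Subgroup.center G) := Cfsg.Agent.S4040.result (M.map π) hmax'
      (Group.nilpotent_of_surjective (π.subgroupMap M) (π.subgroupMap_surjective M)) hodd
    haveI : Group.IsSolvable (Subgroup.center G) :=
      Group.isSolvable_of_comm fun s t => Subtype.ext (Subgroup.mem_center_iff.1 t.2 s)
    exact Group.isSolvable_of_ker_le_range (Subgroup.center G).subtype π
      (by rw [hπ, QuotientGroup.ker_mk', Subgroup.range_subtype])
  obtain ⟨j, hj⟩ := htj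
  have htM' : Subgroup.centralizer ({t} : Set G) = M := by
    refine (cent_eq h hxc htc ?_ ?_).symm
    · rw [hM, Subgroup.mem_centralizer_singleton_iff] at htM
      exact htM.symm
    · rw [hk, hj]; exact Nat.Coprime.pow _ _ ((Nat.coprime_primes hq.out Nat.prime_two).2 hq2)
  have hab : Subgroup.center M = ⊤ := mem_center_of_forall_sylow fun s _ b i hb => by
    rw [Subgroup.mem_center_iff]
    intro g
    by_cases hsq : s = q
    · exact Subtype.ext (hcent t 2 Nat.prime_two ⟨j, hj⟩ htc htM' s (Fact.out) (hsq ▸ hq2) b b.2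
        ⟨i, by rw [Subgroup.orderOf_coe, hb]⟩ g g.2)
    · exact Subtype.ext (hcent x q hq.out ⟨k, hk⟩ hxc rfl s (Fact.out) hsq b b.2
        ⟨i, by rw [Subgroup.orderOf_coe, hb]⟩ g g.2)
  have hcomm : ∀ a ∈ M, ∀ b ∈ M, a * b = b * a := fun a ha b hb => congrArg Subtype.val
    (Subgroup.mem_center_iff.1 (show (⟨b, hb⟩ : M) ∈ Subgroup.center M by rw [hab]; trivial) ⟨a, ha⟩)
  have hnn : ¬ M.Normal := fun hn => hns (by
    haveI := hn
    exact isSolvable_of_normal_maximal M hMmax inferInstance)
  obtain ⟨Q, hQ⟩ : ∃ Q : Sylow q M, True := ⟨Classical.arbitrary _, trivial⟩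
  set Q' := (Q : Subgroup M).map M.subtype with hQ'
  have hQM : Q' ≤ M := Subgroup.map_subtype_le _
  have hMN : M ≤ Subgroup.normalizer (Q' : Set G) := by
    intro m hm
    rw [Subgroup.mem_normalizer_iff]
    intro n
    refine ⟨fun hn => ?_, fun hn => ?_⟩
    · rwa [hcomm m hm n (hQM hn), mul_inv_cancel_right]
    · have hnM : n ∈ M := by
        have := M.mul_mem (M.mul_mem (M.inv_mem hm) (hQM hn)) hm
        simpa [mul_assoc] using this
      rwa [hcomm m hm n hnM, mul_inv_cancel_right] at hn
  rcases hMmax.le_iff.1 hMN with hN | hN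
  · exfalso
    haveI : Q'.Normal := Subgroup.normalizer_eq_top_iff.1 hN
    refine hnn ?_
    have hle : M ≤ Subgroup.centralizer (Q' : Set G) := fun m hm =>
      Subgroup.mem_centralizer_iff.2 fun n hn => hcomm n (hQM hn) m hm
    have hxQ' : x ∈ Q' := by
      have hxM : x ∈ M := by rw [hM, Subgroup.mem_centralizer_singleton_iff]
      have hxp : IsPGroup q (Subgroup.zpowers (⟨x, hxM⟩ : M)) := IsPGroup.of_card (n := k)
        (by rw [Nat.card_zpowers, Subgroup.orderOf_mk, hk])
      obtain ⟨R, hR⟩ := hxp.exists_le_sylow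
      haveI : (Q : Subgroup M).Normal := ⟨fun n hn g => by
        rw [show g * n * g⁻¹ = n from Subtype.ext (by
          show (g : G) * n * (g : G)⁻¹ = n
          rw [hcomm g g.2 n n.2, mul_inv_cancel_right])]
        exact hn⟩
      haveI : Unique (Sylow q M) := Q.unique_of_normal inferInstance
      rw [Subsingleton.elim R Q] at hR
      exact ⟨⟨x, hxM⟩, hR (Subgroup.mem_zpowers _), rfl⟩
    have hMeq : Subgroup.centralizer (Q' : Set G) = M := le_antisymm
      (Subgroup.centralizer_le (Set.singleton_subset_iff.2 hxQ')) hle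
    rw [← hMeq]
    infer_instance
  · -- Burnside
    have hsyl : (Nat.card Q') = q ^ (Nat.card G).factorization q := by
      obtain ⟨P, hP⟩ := (Q.isPGroup'.map M.subtype).exists_le_sylow
      have hPM : (P : Subgroup G) = Q' := by
        by_contra hne
        haveI := P.isPGroup'.isNilpotent
        have hlt : Q'.subgroupOf P < ⊤ := lt_top_iff_ne_top.2 fun e =>
          hne (le_antisymm (Subgroup.subgroupOf_eq_top.1 e) hP)
        have hlt2 := Group.normalizerCondition_of_isNilpotent (G := P) _ hlt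
        obtain ⟨g, hgN, hgQ⟩ := Set.exists_of_ssubset hlt2
        have hgM : (g : G) ∈ M := by
          rw [← hN, Subgroup.mem_normalizer_iff]
          intro n
          refine ⟨fun hn => ?_, fun hn => ?_⟩
          · exact (Subgroup.mem_normalizer_iff.1 hgN ⟨n, hP hn⟩).1 hn
          · have hnP : n ∈ (P : Subgroup G) := by
              have := (P : Subgroup G).mul_mem ((P : Subgroup G).mul_mem
                ((P : Subgroup G).inv_mem g.2) (hP hn)) g.2
              convert this using 1; group
            exact (Subgroup.mem_normalizer_iff.1 hgN ⟨n, hnP⟩).2 hn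
        refine hgQ ?_
        have hgp : IsPGroup q (Subgroup.zpowers (⟨g, hgM⟩ : M)) := by
          obtain ⟨i, hi⟩ := P.isPGroup' g
          obtain ⟨l, -, hl⟩ := (Nat.dvd_prime_pow hq.out).1 (orderOf_dvd_of_pow_eq_one hi)
          exact IsPGroup.of_card (n := l) (by
            rw [Nat.card_zpowers, Subgroup.orderOf_mk, Subgroup.orderOf_coe, hl])
        obtain ⟨R, hR⟩ := hgp.exists_le_sylow
        haveI : (Q : Subgroup M).Normal := ⟨fun n hn c => by
          rw [show c * n * c⁻¹ = n from Subtype.ext (by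
            show (c : G) * n * (c : G)⁻¹ = n
            rw [hcomm c c.2 n n.2, mul_inv_cancel_right])]
          exact hn⟩
        haveI : Unique (Sylow q M) := Q.unique_of_normal inferInstance
        rw [Subsingleton.elim R Q] at hR
        exact ⟨⟨g, hgM⟩, hR (Subgroup.mem_zpowers _), rfl⟩
      rw [← hPM, P.card_eq_multiplicity]
    let P : Sylow q G := Sylow.ofCard Q' hsyl
    have hP : Subgroup.normalizer ((P : Subgroup G) : Set G) ≤
        Subgroup.centralizer ((P : Subgroup G) : Set G) := by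
      show Subgroup.normalizer (Q' : Set G) ≤ Subgroup.centralizer (Q' : Set G)
      rw [hN]
      exact fun m hm => Subgroup.mem_centralizer_iff.2 fun n hn => hcomm n (hQM hn) m hm
    refine ⟨(MonoidHom.transferSylow P hP).ker, inferInstance,
      MonoidHom.not_dvd_card_ker_transferSylow P hP, ?_⟩
    have hc := MonoidHom.ker_transferSylow_isComplement' P hP
    haveI : Group.IsNilpotent (P : Subgroup G) := P.isPGroup'.isNilpotent
    exact Group.isSolvable_of_surjective (f := hc.symm.QuotientMulEquiv.symm.toMonoidHom)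
      hc.symm.QuotientMulEquiv.symm.surjective

theorem main (h : ∀ g : G, g ∉ Subgroup.center G → IsCoatom (Subgroup.centralizer ({g} : Set G))) :
    Group.IsSolvable G := by
  classical
  by_contra hns
  set S := (Subgroup.center G).index.primeFactors.erase 2 with hS
  have key : ∀ T : Finset ℕ, T ⊆ S → ∃ (K : Subgroup G) (_ : K.Normal), Group.IsSolvable (G ⧸ K) ∧
      ∀ q ∈ T, ¬ q ∣ Nat.card K := by
    intro T
    induction T using Finset.induction with
    | empty =>
      intro _
      refine ⟨⊤, inferInstance, ?_, fun q hq => absurd hq (Finset.notMem_empty q)⟩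
      haveI : Subsingleton (G ⧸ (⊤ : Subgroup G)) := QuotientGroup.subsingleton_quotient_top
      infer_instance
    | insert q T hqT ih =>
      intro hT
      rw [Finset.insert_subset_iff] at hT
      obtain ⟨K, hKn, hKs, hK⟩ := ih hT.2
      obtain ⟨hq2, hqi⟩ := Finset.mem_erase.1 hT.1
      haveI := Fact.mk (Nat.prime_of_mem_primeFactors hqi)
      obtain ⟨L, hLn, hL, hLs⟩ := exists_complement h hns hq2 (Nat.dvd_of_mem_primeFactors hqi)
      refine ⟨K ⊓ L, inferInstance, ?_, fun r hr => ?_⟩
      · haveI := hKs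
        haveI := hLs
        let f : G →* (G ⧸ K) × (G ⧸ L) := (QuotientGroup.mk' K).prod (QuotientGroup.mk' L)
        have hf : f.ker = K ⊓ L := by
          rw [MonoidHom.ker_prod, QuotientGroup.ker_mk', QuotientGroup.ker_mk']
        let φ : G ⧸ (K ⊓ L) →* (G ⧸ K) × (G ⧸ L) := QuotientGroup.lift (K ⊓ L) f hf.ge
        have hφ : Function.Injective φ := by
          rw [← MonoidHom.ker_eq_bot_iff, eq_bot_iff]
          intro z hz
          obtain ⟨z, rfl⟩ := QuotientGroup.mk_surjective z
          rw [MonoidHom.mem_ker] at hz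
          exact Subgroup.mem_bot.2 ((QuotientGroup.eq_one_iff z).2 (hf ▸ MonoidHom.mem_ker.2 hz))
        exact Group.isSolvable_of_isSolvable_injective (f := φ) hφ
      · rcases Finset.mem_insert.1 hr with rfl | hr
        · exact fun hd => hL (hd.trans (Subgroup.card_dvd_of_le inf_le_right))
        · exact fun hd => hK r hr (hd.trans (Subgroup.card_dvd_of_le inf_le_left))
  obtain ⟨K, hKn, hKs, hK⟩ := key S (Finset.Subset.refl _)
  refine hns ?_
  haveI : Group.IsSolvable K := by
    set π := (QuotientGroup.mk' (Subgroup.center G)).comp K.subtype with hπ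
    have h2 : IsPGroup 2 π.range := by
      refine IsPGroup.of_card (Nat.eq_prime_pow_of_unique_prime_dvd Nat.card_pos.ne' ?_)
      intro r hr hrd
      by_contra hr2
      have h1 : r ∣ Nat.card K := hrd.trans (Subgroup.card_range_dvd π)
      have h3 : r ∣ (Subgroup.center G).index := by
        rw [Subgroup.index_eq_card]; exact hrd.trans (Subgroup.card_subgroup_dvd_card _)
      exact hK r (Finset.mem_erase.2 ⟨hr2, Nat.mem_primeFactors.2
        ⟨hr, h3, Subgroup.index_ne_zero_of_finite⟩⟩) h1
    haveI : Fact (Nat.Prime 2) := ⟨Nat.prime_two⟩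
    haveI := h2.isNilpotent
    haveI : Group.IsSolvable π.ker := Group.isSolvable_of_comm fun s t => by
      have ht : ((t : K) : G) ∈ Subgroup.center G := (QuotientGroup.eq_one_iff _).1 t.2
      exact Subtype.ext (Subtype.ext (Subgroup.mem_center_iff.1 ht _))
    exact Group.isSolvable_of_ker_le_range π.ker.subtype π.rangeRestrict
      (by rw [MonoidHom.ker_rangeRestrict, Subgroup.range_subtype])
  exact Group.isSolvable_of_ker_le_range K.subtype (QuotientGroup.mk' K)
    (by rw [QuotientGroup.ker_mk', Subgroup.range_subtype])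

/-- Let G be a finite group in which the centralizer of every non-central element is a maximal subgroup of G. Then G is solvable. -/
theorem result {G : Type*} [Group G] [Finite G]
    (h : ∀ g : G, g ∉ Subgroup.center G → IsCoatom (Subgroup.centralizer ({g} : Set G))) :
    Group.IsSolvable G := by
  exact main h

end Cfsg.Agent.S4262
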