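import Cfsg.Statements.S4263
import Cfsg.Agent.Lib.Solv.Cores

set_option autoImplicit false
open Cfsg

namespace Cfsg.Agent.S4263

theorem pow_index_mem {F : Type*} [Group F] [Finite F] (hF : Group.IsNilpotent F) :
    ∀ (n : ℕ) (K : Subgroup F), K.index = n → ∀ x : F, x ^ n ∈ K := by
  intro n
  induction n using Nat.strong_induction_on with
  | _ n ih =>
    intro K hK x
    rcases eq_or_ne K ⊤ with rfl | hne
    · exact Subgroup.mem_top _
    haveI := hF
    have hlt := Group.normalizerCondition_of_isNilpotent (G := F) K (lt_top_iff_ne_top.2 hne)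
    set N := Subgroup.normalizer (K : Set F) with hN
    have hmul : K.relIndex N * N.index = K.index := Subgroup.relIndex_mul_index hlt.le
    have h1 : 1 < K.relIndex N := by
      refine lt_of_le_of_ne (Nat.pos_of_ne_zero Subgroup.index_ne_zero_of_finite) ?_
      intro e
      exact hlt.not_ge (Subgroup.relIndex_eq_one.1 e.symm)
    have hpos : 0 < N.index := Nat.pos_of_ne_zero Subgroup.index_ne_zero_of_finite
    have hx : x ^ N.index ∈ N := ih _ (by rw [← hK, ← hmul]; exact lt_mul_of_one_lt_left hpos h1) N rfl x
    haveI : (K.subgroupOf N).Normal := Subgroup.normal_subgroupOf_of_le_normalizer le_rfl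
    have hm := (K.subgroupOf N).pow_index_mem ⟨_, hx⟩
    rw [Subgroup.mem_subgroupOf] at hm
    simp only [Subgroup.coe_pow] at hm
    rw [← hK, ← hmul, mul_comm, pow_mul]
    exact hm

/-- Let G be a finite group. An element x lies in the Fitting subgroup F(G) if and only if, for every subgroup H of G, the power x^[G : H] lies in H. -/
theorem result {G : Type*} [Group G] [Finite G] (x : G) :
    x ∈ Cfsg.fittingSubgroup G ↔ ∀ H : Subgroup G, x ^ H.index ∈ H := by
  haveI := Cfsg.Agent.Solv.fittingSubgroup_normal (G := G)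
  constructor
  · intro hx H
    set F := Cfsg.fittingSubgroup G with hF
    have h1 := pow_index_mem Cfsg.Agent.Solv.fittingSubgroup_nilpotent _ (H.subgroupOf F) rfl ⟨x, hx⟩
    rw [Subgroup.mem_subgroupOf] at h1
    simp only [Subgroup.coe_pow] at h1
    have hdvd : H.relIndex F ∣ H.index := by
      have e1 := Subgroup.relIndex_mul_index (show H ⊓ F ≤ F from inf_le_right)
      have e2 := Subgroup.relIndex_mul_index (show H ⊓ F ≤ H from inf_le_left)
      rw [Subgroup.inf_relIndex_right] at e1
      rw [Subgroup.inf_relIndex_left] at e2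
      obtain ⟨c, hc⟩ : F.relIndex H ∣ F.index := Subgroup.relIndex_dvd_index_of_normal F H
      have hpos : 0 < F.relIndex H := Nat.pos_of_ne_zero Subgroup.index_ne_zero_of_finite
      refine ⟨c, Nat.eq_of_mul_eq_mul_left hpos ?_⟩
      rw [e2, ← e1, hc]; ring
    obtain ⟨c, hc⟩ := hdvd
    rw [hc, pow_mul]
    exact H.pow_mem h1 c
  · intro h
    rw [← QuotientGroup.eq_one_iff, ← orderOf_eq_one_iff]
    by_contra hne
    obtain ⟨p, hp, hpd⟩ := Nat.exists_prime_and_dvd hne
    haveI := Fact.mk hp
    obtain ⟨P⟩ := (inferInstance : Nonempty (Sylow p G))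
    have hy : x ^ (P : Subgroup G).index ∈ (P : Subgroup G).normalCore := by
      intro g
      have hidx : ∀ Q : Sylow p G, (Q : Subgroup G).index = (P : Subgroup G).index := fun Q => by
        have h1 := (Q : Subgroup G).index_mul_card
        have h2 := (P : Subgroup G).index_mul_card
        rw [Q.card_eq_multiplicity] at h1
        rw [P.card_eq_multiplicity] at h2
        exact Nat.eq_of_mul_eq_mul_right (pow_pos hp.pos _) (h1.trans h2.symm)
      have h2 := h ((g⁻¹ • P : Sylow p G) : Subgroup G)
      rw [hidx, Sylow.coe_subgroup_smul, Subgroup.mem_smul_pointwise_iff_exists] at h2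
      obtain ⟨s, hs, hsx⟩ := h2
      rw [← hsx]
      simpa [mul_assoc] using hs
    have hle : (P : Subgroup G).normalCore ≤ Cfsg.fittingSubgroup G :=
      le_sSup ⟨inferInstance, (P.isPGroup'.to_le (Subgroup.normalCore_le _)).isNilpotent⟩
    have h3 : orderOf (x : G ⧸ Cfsg.fittingSubgroup G) ∣ (P : Subgroup G).index := by
      refine orderOf_dvd_of_pow_eq_one ?_
      rw [← QuotientGroup.mk_pow, QuotientGroup.eq_one_iff]
      exact hle hy
    exact P.not_dvd_index (hpd.trans h3)

end Cfsg.Agent.S4263
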