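import Cfsg.Statements.S4265
import Cfsg.Agent.Lib.Solv.LayerClasses.Linear

set_option autoImplicit false
open Cfsg

namespace Cfsg.Agent.S4265

/-- Let G be a finite solvable subgroup of GL_r(ℂ), r ≥ 1, with Fitting subgroup F(G) normal in G. Then for every subgroup H of G the quotient H/(H ∩ F(G)) has at most 3^{r−1} conjugacy classes. -/
theorem result (r : ℕ) (hr : 1 ≤ r) (G : Subgroup (GL (Fin r) ℂ)) [Finite ↥G] (hsolv : Group.IsSolvable ↥G) [hF : (Cfsg.fittingSubgroup ↥G).Normal] (H : Subgroup ↥G) : Nat.card (ConjClasses (↥H ⧸ (Cfsg.fittingSubgroup ↥G).subgroupOf H)) ≤ 3 ^ (r - 1) := by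
  let ρ : ↥G →* Module.End ℂ (Fin r → ℂ) :=
    (Matrix.toLinAlgEquiv' (R := ℂ) (n := Fin r)).toAlgHom.toRingHom.toMonoidHom.comp
      ((Units.coeHom _).comp G.subtype)
  have hρ : Function.Injective ρ := fun a b h =>
    Subtype.ext (Units.ext ((Matrix.toLinAlgEquiv' (R := ℂ) (n := Fin r)).injective h))
  have h1 := Solv.LayerCls.linear_bound (r + 1) r (Nat.lt_succ_self r) ↥G (Fin r → ℂ) ρ hsolv hρ
    (by simp) hr (Cfsg.fittingSubgroup ↥G) le_rfl H
  let f := (QuotientGroup.mk' (Cfsg.fittingSubgroup ↥G)).subgroupMap H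
  have hk : f.ker = (Cfsg.fittingSubgroup ↥G).subgroupOf H := by
    ext x
    exact ⟨fun h => (QuotientGroup.eq_one_iff (x : ↥G)).1 (congrArg Subtype.val h :),
      fun h => Subtype.ext ((QuotientGroup.eq_one_iff _).2 h)⟩
  let e : ↥H ⧸ (Cfsg.fittingSubgroup ↥G).subgroupOf H ≃* H.map (QuotientGroup.mk' (Cfsg.fittingSubgroup ↥G)) :=
    (QuotientGroup.quotientMulEquivOfEq hk.symm).trans
      (QuotientGroup.quotientKerEquivOfSurjective f (MonoidHom.subgroupMap_surjective _ _))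
  exact (Solv.LayerCls.classes_quot_le e.symm.toMonoidHom e.symm.surjective).trans h1

end Cfsg.Agent.S4265
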