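import Cfsg.Statements.S4269
import Mathlib

set_option autoImplicit false
open Cfsg

namespace Cfsg.Agent.S4269


open scoped commutatorElement Pointwise


/-- Let G be a finite group, V an abelian normal subgroup and H a subgroup with HV = G. Then H is pronormal in G (H and gHg⁻¹ are conjugate inside the subgroup they generate, for every g) if and only if every H-invariant subgroup U of V satisfies U = N_U(H)·[H, U], that is, U is the join of U ∩ N_G(H) and the commutator subgroup [H, U]. -/
theorem result {G : Type*} [Group G] [Finite G]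
    (V : Subgroup G) [V.Normal] (hV : IsMulCommutative ↥V) (H : Subgroup G) (hHV : H ⊔ V = ⊤) :
    Cfsg.IsPronormal H ↔
      ∀ U : Subgroup G, U ≤ V → (∀ h ∈ H, U.map (MulAut.conj h).toMonoidHom = U) →
        U = (U ⊓ Subgroup.normalizer (H : Set G)) ⊔ ⁅H, U⁆ := by
  classical
  constructor
  · intro hpro U hUV hU
    refine le_antisymm (fun u hu => ?_) (sup_le inf_le_left (Subgroup.commutator_le.2 fun h hh w hw => ?_))
    · obtain ⟨x, hx, hxe⟩ := hpro u
      -- H[H,U] is a subgroup containing both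
      set C := ⁅H, U⁆ with hC
      have hCU : C ≤ U := Subgroup.commutator_le.2 fun h hh w hw => by
        rw [commutatorElement_def]
        exact U.mul_mem ((hU h hh).le ⟨w, hw, rfl⟩) (U.inv_mem hw)
      have hHC : ∀ g ∈ H ⊔ C, ∃ c ∈ C, ∃ h ∈ H, c * h = g := by
        intro g hg
        have hnorm : H ≤ Subgroup.normalizer (C : Set G) := Subgroup.normalizer_commutator_ge_left H U
        rw [← SetLike.mem_coe, sup_comm, Subgroup.coe_mul_of_right_le_normalizer_left C H hnorm] at hg
        exact Set.mem_mul.1 hg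
      have hle : H ⊔ H.map (MulAut.conj u).toMonoidHom ≤ H ⊔ C := by
        refine sup_le le_sup_left ?_
        rintro _ ⟨h, hh, rfl⟩
        have e : u * h * u⁻¹ = ⁅h, u⁆⁻¹ * h := by rw [commutatorElement_def]; group
        show u * h * u⁻¹ ∈ _
        rw [e]
        exact Subgroup.mul_mem _ (Subgroup.inv_mem _ (Subgroup.mem_sup_right (Subgroup.commutator_mem_commutator hh hu))) (Subgroup.mem_sup_left hh)
      obtain ⟨c, hc, h, hh, rfl⟩ := hHC x (hle hx)
      have hn : c⁻¹ * u ∈ Subgroup.normalizer (H : Set G) := by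
        rw [Subgroup.mem_normalizer_iff]
        have e : H.map (MulAut.conj (c⁻¹ * u)).toMonoidHom = H := by
          have h1 : H.map (MulAut.conj u).toMonoidHom = H.map (MulAut.conj c).toMonoidHom := by
            rw [hxe]
            ext g
            simp only [Subgroup.mem_map_equiv, MulAut.conj_symm_apply]
            constructor
            · intro hg
              simpa [mul_assoc] using H.mul_mem (H.mul_mem hh hg) (H.inv_mem hh)
            · intro hg
              simpa [mul_assoc] using H.mul_mem (H.mul_mem (H.inv_mem hh) hg) hh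
          ext g
          simp only [Subgroup.mem_map_equiv, MulAut.conj_symm_apply]
          have h2 := SetLike.ext_iff.1 h1 (c * g * c⁻¹)
          simp only [Subgroup.mem_map_equiv, MulAut.conj_symm_apply] at h2
          simpa [mul_assoc] using h2
        intro g
        have h2 := SetLike.ext_iff.1 e (c⁻¹ * u * g * (c⁻¹ * u)⁻¹)
        simp only [Subgroup.mem_map_equiv, MulAut.conj_symm_apply] at h2
        simpa [mul_assoc] using h2
      have : u = (c⁻¹ * u) * c := by
        have hcV : c ∈ V := hUV (hCU hc)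
        have := congrArg Subtype.val (hV.is_comm.comm (⟨c, hcV⟩ : V) ⟨c⁻¹ * u, V.mul_mem (V.inv_mem hcV) (hUV hu)⟩)
        simpa using this
      rw [this]
      exact Subgroup.mul_mem _ (Subgroup.mem_sup_left ⟨U.mul_mem (U.inv_mem (hCU hc)) hu, hn⟩) (Subgroup.mem_sup_right hc)
    · rw [commutatorElement_def]
      exact U.mul_mem ((hU h hh).le ⟨w, hw, rfl⟩) (U.inv_mem hw)
  · intro hU g
    obtain ⟨v, hv, h, hh, rfl⟩ : ∃ v ∈ V, ∃ h ∈ H, v * h = g := by
      have : g ∈ ((V ⊔ H : Subgroup G) : Set G) := by rw [sup_comm, hHV]; trivial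
      rw [Subgroup.normal_mul] at this
      exact Set.mem_mul.1 this
    -- U generated by the conjugates of v
    set U : Subgroup G := Subgroup.closure {w | ∃ h ∈ H, w = h * v * h⁻¹} with hUdef
    set J : Subgroup G := H ⊔ H.map (MulAut.conj (v * h)).toMonoidHom with hJ
    have hUV : U ≤ V := (Subgroup.closure_le V).2 (by
      rintro _ ⟨h, hh, rfl⟩; exact Subgroup.Normal.conj_mem inferInstance v hv h)
    have hvU : v ∈ U := Subgroup.subset_closure ⟨1, H.one_mem, by simp⟩
    have hUinv : ∀ k ∈ H, U.map (MulAut.conj k).toMonoidHom = U := by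
      have hle : ∀ k ∈ H, U.map (MulAut.conj k).toMonoidHom ≤ U := by
        intro k hk
        rw [hUdef, MonoidHom.map_closure]
        refine Subgroup.closure_mono ?_
        rintro _ ⟨_, ⟨h', hh', rfl⟩, rfl⟩
        exact ⟨k * h', H.mul_mem hk hh', show k * (h' * v * h'⁻¹) * k⁻¹ = _ by group⟩
      intro k hk
      refine le_antisymm (hle k hk) fun w hw => ?_
      exact Subgroup.mem_map.2 ⟨k⁻¹ * w * k, hle k⁻¹ (H.inv_mem hk) ⟨w, hw, by simp⟩, show k * (k⁻¹ * w * k) * k⁻¹ = w by group⟩
    have hdec := hU U hUV hUinv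
    -- [H,U] ≤ J
    have hcomJ : ⁅H, U⁆ ≤ J := by
      refine Subgroup.commutator_le.2 fun k hk w hw => ?_
      induction hw using Subgroup.closure_induction with
      | mem w hw =>
        obtain ⟨l, hl, rfl⟩ := hw
        have e : ⁅k, l * v * l⁻¹⁆ = k * (l * ((v * h) * (h⁻¹ * (l⁻¹ * k⁻¹ * l) * h) * (v * h)⁻¹) * l⁻¹) := by
          rw [commutatorElement_def]; group
        rw [e]
        refine J.mul_mem (Subgroup.mem_sup_left hk) (J.mul_mem (J.mul_mem (Subgroup.mem_sup_left hl)
          (Subgroup.mem_sup_right ⟨h⁻¹ * (l⁻¹ * k⁻¹ * l) * h, ?_, rfl⟩)) (J.inv_mem (Subgroup.mem_sup_left hl)))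
        exact H.mul_mem (H.mul_mem (H.inv_mem hh) (H.mul_mem (H.mul_mem (H.inv_mem hl) (H.inv_mem hk)) hl)) hh
      | one => simp
      | mul a b ha hb iha ihb =>
        have hc : a * ⁅k, b⁆ * a⁻¹ = ⁅k, b⁆ := by
          have hbV : ⁅k, b⁆ ∈ V := by
            rw [commutatorElement_def]
            exact V.mul_mem (Subgroup.Normal.conj_mem inferInstance b (hUV hb) k) (V.inv_mem (hUV hb))
          rw [show a * ⁅k, b⁆ = ⁅k, b⁆ * a from congrArg Subtype.val (hV.is_comm.comm (⟨a, hUV ha⟩ : V) ⟨_, hbV⟩),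
            mul_inv_cancel_right]
        have e : ⁅k, a * b⁆ = ⁅k, a⁆ * (a * ⁅k, b⁆ * a⁻¹) := by simp only [commutatorElement_def]; group
        rw [e, hc]
        exact J.mul_mem iha ihb
      | inv a ha iha =>
        have haV : ⁅k, a⁆ ∈ V := by
          rw [commutatorElement_def]
          exact V.mul_mem (Subgroup.Normal.conj_mem inferInstance a (hUV ha) k) (V.inv_mem (hUV ha))
        have e : ⁅k, a⁻¹⁆ = a⁻¹ * ⁅k, a⁆⁻¹ * a := by simp only [commutatorElement_def]; group
        have hc : a⁻¹ * ⁅k, a⁆⁻¹ = ⁅k, a⁆⁻¹ * a⁻¹ :=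
          congrArg Subtype.val (hV.is_comm.comm (⟨_, V.inv_mem (hUV ha)⟩ : V) ⟨_, V.inv_mem haV⟩)
        rw [e, hc, inv_mul_cancel_right]
        exact J.inv_mem iha
    obtain ⟨c, hc, n, hn, hcn⟩ : ∃ c ∈ ⁅H, U⁆, ∃ n ∈ U ⊓ Subgroup.normalizer (H : Set G), c * n = v := by
      have hnc : U ⊓ Subgroup.normalizer (H : Set G) ≤ Subgroup.normalizer ((⁅H, U⁆ : Subgroup G) : Set G) :=
        inf_le_left.trans (Subgroup.normalizer_commutator_ge_right H U)
      have : v ∈ ((⁅H, U⁆ ⊔ (U ⊓ Subgroup.normalizer (H : Set G)) : Subgroup G) : Set G) := by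
        rw [sup_comm, ← hdec]; exact hvU
      rw [Subgroup.coe_mul_of_right_le_normalizer_left _ _ hnc] at this
      exact Set.mem_mul.1 this
    refine ⟨c, hcomJ hc, ?_⟩
    ext z
    simp only [Subgroup.mem_map_equiv, MulAut.conj_symm_apply]
    have h1 := Subgroup.mem_normalizer_iff.1 hn.2 (n⁻¹ * (c⁻¹ * z * c) * n)
    rw [show n * (n⁻¹ * (c⁻¹ * z * c) * n) * n⁻¹ = c⁻¹ * z * c by group] at h1
    rw [← h1, ← hcn, show (c * n * h)⁻¹ * z * (c * n * h) = h⁻¹ * (n⁻¹ * (c⁻¹ * z * c) * n) * h by group]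
    constructor
    · intro hz
      simpa [mul_assoc] using H.mul_mem (H.mul_mem hh hz) (H.inv_mem hh)
    · intro hz
      exact H.mul_mem (H.mul_mem (H.inv_mem hh) hz) hh

end Cfsg.Agent.S4269
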