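import Cfsg.Statements.S4271
import Cfsg.Agent.Lib.Perm.PronormalOvergroup

set_option autoImplicit false
open Cfsg
open scoped Pointwise

namespace Cfsg.Agent.S4271

open Cfsg.Agent.Perm.Pronormal

variable {Q : Type*} [Group Q] [Finite Q] {p : ℕ} [Fact p.Prime]

theorem overgroup (h : ∀ P : Sylow p Q, Subgroup.normalizer ((P : Subgroup Q) : Set Q) = P)
    {K : Subgroup Q} (P : Sylow p Q) (hP : (P : Subgroup Q) ≤ K) :
    Cfsg.IsPronormal K ∧ Subgroup.normalizer (K : Set Q) = K := by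
  have key : ∀ g : Q, ∀ J : Subgroup Q, (P : Subgroup Q) ≤ J → cj g (P : Subgroup Q) ≤ J →
      ∃ x ∈ J, x⁻¹ * g ∈ (P : Subgroup Q) := by
    intro g J hPJ hgJ
    have hidx : ¬ p ∣ (P : Subgroup Q).relIndex J := fun hd =>
      P.not_dvd_index (hd.trans ⟨J.index, (Subgroup.relIndex_mul_index hPJ).symm⟩)
    obtain ⟨x, hx, he⟩ := sylow_conj_in (P : Subgroup Q) hPJ le_rfl P.isPGroup' hidx hgJ
    exact ⟨x, hx, h P ▸ cj_eq_self_iff.1 (by rw [← cj_cj, he, cj_cj, inv_mul_cancel, cj_one])⟩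
  refine ⟨isPronormal_iff.2 fun g => ?_, le_antisymm (fun g hg => ?_) Subgroup.le_normalizer⟩
  · obtain ⟨x, hx, hxg⟩ := key g (K ⊔ cj g K) (hP.trans le_sup_left) ((cj_le hP).trans le_sup_right)
    refine ⟨x, hx, ?_⟩
    conv_lhs => rw [show g = x * (x⁻¹ * g) by group, ← cj_cj, cj_eq_self_of_mem (hP hxg)]
  · obtain ⟨x, hx, hxg⟩ := key g K hP ((cj_le hP).trans (cj_eq_self_iff.2 hg).le)
    have := mul_mem hx (hP hxg)
    rwa [mul_inv_cancel_left] at this

/-- Let p be a prime and G a finite group with a normal subgroup A such that every subgroup of A containing a Sylow p-subgroup of A is pronormal in A, and the Sylow p-subgroups of G/A are self-normalizing. Let T be a Sylow p-subgroup of A. Then every subgroup of G containing a Sylow p-subgroup of G is pronormal in G if and only if every subgroup of N_G(T)/T containing a Sylow p-subgroup of N_G(T)/T is pronormal in N_G(T)/T. (Pronormal: H and gHg⁻¹ are conjugate inside the subgroup they generate, for every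 g.) -/
theorem result {G : Type*} [Group G] [Finite G] {p : ℕ} [Fact p.Prime]
    (A : Subgroup G) [A.Normal] (hA : (∀ K : Subgroup ↥A, (∃ P : Sylow p ↥A, (P : Subgroup ↥A) ≤ K) → Cfsg.IsPronormal K))
    (hQ : ∀ P : Sylow p (G ⧸ A), Subgroup.normalizer ((P : Subgroup (G ⧸ A)) : Set (G ⧸ A)) = P)
    (T : Subgroup G) (hT : ∃ P : Sylow p ↥A, (P : Subgroup ↥A).map A.subtype = T) [(T.subgroupOf (Subgroup.normalizer (T : Set G))).Normal] :
    (∀ K : Subgroup G, (∃ P : Sylow p G, (P : Subgroup G) ≤ K) → Cfsg.IsPronormal K) ↔ (∀ K : Subgroup (↥(Subgroup.normalizer (T : Set G)) ⧸ T.subgroupOf (Subgroup.normalizer (T : Set G))), (∃ P : Sylow p (↥(Subgroup.normalizer (T : Set G)) ⧸ T.subgroupOf (Subgroup.normalizer (T : Set G))), (P : Subgroup (↥(Subgroup.normalizer (T : Set G)) ⧸ T.subgroupOf (Subgroup.normalizer (T : Set G)))) ≤ K) → Cfsg.IsPronormal K) := by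
  rw [Perm.Pronormal.iff_main A hA (fun K ⟨P, hP⟩ => (overgroup hQ P hP).1) T hT]
  refine ⟨fun h => h.1, fun h => ⟨h, fun K ⟨P, hP⟩ => ?_⟩⟩
  refine le_antisymm (Subgroup.le_normalizer_map _) ?_
  rw [(overgroup hQ (P.mapSurjective (QuotientGroup.mk'_surjective A)) (Subgroup.map_mono hP)).2]
  exact Subgroup.map_mono Subgroup.le_normalizer

end Cfsg.Agent.S4271
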