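import Cfsg.Statements.S4275


set_option autoImplicit false
open Cfsg

namespace Cfsg.Agent.S4275

/-- Let G be a transitive group of permutations of a finite set Ω, let o ∈ Ω, and let α be an automorphism of G. Then α is induced by conjugation by a permutation of Ω normalizing G if and only if the image under α of the stabilizer of o fixes some point of Ω. -/
theorem result {Ω : Type*} [Fintype Ω] (G : Subgroup (Equiv.Perm Ω)) (htr : MulAction.IsPretransitive G Ω) (o : Ω) (α : G ≃* G) : (∃ σ : Equiv.Perm Ω, σ ∈ Subgroup.normalizer (G : Set (Equiv.Perm Ω)) ∧ ∀ g : G, ((α g : G) : Equiv.Perm Ω) = σ * (g : Equiv.Perm Ω) * σ⁻¹) ↔ ∃ ω : Ω, ∀ g ∈ (MulAction.stabilizer G o).map α.toMonoidHom, g • ω = ω := by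
  classical
  haveI := htr
  constructor
  · rintro ⟨σ, -, hσ⟩
    refine ⟨σ o, ?_⟩
    rintro _ ⟨g, hg, rfl⟩
    have hgo : (g : Equiv.Perm Ω) o = o := MulAction.mem_stabilizer_iff.1 hg
    show ((α g : G) : Equiv.Perm Ω) (σ o) = σ o
    rw [hσ]
    simp [hgo]
  · rintro ⟨ω, hω⟩
    choose t ht using fun x : Ω => MulAction.exists_smul_eq G o x
    let f : Ω → Ω := fun x => α (t x) • ω
    have hf : ∀ g : G, f (g • o) = α g • ω := by
      intro g
      have hs : g⁻¹ * t (g • o) ∈ MulAction.stabilizer G o := by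
        rw [MulAction.mem_stabilizer_iff, mul_smul, ht, inv_smul_smul]
      have h1 := hω _ (Subgroup.mem_map_of_mem α.toMonoidHom hs)
      change α (g⁻¹ * t (g • o)) • ω = ω at h1
      rw [map_mul, map_inv, mul_smul, inv_smul_eq_iff] at h1
      exact h1
    have hsur : Function.Surjective f := fun y => by
      obtain ⟨k, hk⟩ := MulAction.exists_smul_eq G ω y
      exact ⟨α.symm k • o, by rw [hf, α.apply_symm_apply, hk]⟩
    let σ : Equiv.Perm Ω := Equiv.ofBijective f ⟨Finite.injective_iff_surjective.2 hsur, hsur⟩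
    have key : ∀ g : G, ((α g : G) : Equiv.Perm Ω) = σ * (g : Equiv.Perm Ω) * σ⁻¹ := by
      intro g
      rw [eq_mul_inv_iff_mul_eq]
      refine Equiv.ext fun x => ?_
      obtain ⟨k, rfl⟩ := MulAction.exists_smul_eq G o x
      show α g • f (k • o) = f (g • (k • o))
      rw [hf, ← mul_smul g k o, hf, map_mul, mul_smul]
    refine ⟨σ, ?_, key⟩
    rw [Subgroup.mem_normalizer_iff]
    refine fun x => ⟨fun hx => ?_, fun hx => ?_⟩
    · have h := key ⟨x, hx⟩
      exact h ▸ (α ⟨x, hx⟩).2
    · have h := key (α.symm ⟨_, hx⟩)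
      rw [α.apply_symm_apply] at h
      have e : x = (α.symm ⟨_, hx⟩ : G) := mul_left_cancel (mul_right_cancel h)
      exact e ▸ (α.symm ⟨_, hx⟩).2

end Cfsg.Agent.S4275
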