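import Cfsg.Statements.S4277
import Cfsg.Agent.S4290
import Cfsg.Agent.S0675
-- import your own Cfsg.Agent.* helpers here

set_option autoImplicit false
open Cfsg

namespace Cfsg.Agent.S4277

open MulAction
open scoped commutatorElement

theorem solvable_quotient_of_odd {Γ : Type*} [Group Γ] [Finite Γ] (I : Subgroup Γ) [I.Normal]
    (D : Subgroup (Γ ⧸ I)) [Group.IsSolvable D]
    (hD : ∀ x : Γ, Odd (orderOf x) → (QuotientGroup.mk x : Γ ⧸ I) ∈ D) : Group.IsSolvable (Γ ⧸ I) := by
  haveI := Fact.mk Nat.prime_two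
  set S : Set (Γ ⧸ I) := QuotientGroup.mk '' {x : Γ | Odd (orderOf x)} with hS
  set O : Subgroup (Γ ⧸ I) := Subgroup.normalClosure S with hO
  have hle : O ≤ D := by
    rw [hO, Subgroup.normalClosure, Subgroup.closure_le]
    intro q hq
    obtain ⟨_, ⟨x, hx, rfl⟩, hc⟩ := Group.mem_conjugatesOfSet_iff.1 hq
    obtain ⟨c, rfl⟩ := isConj_iff.1 hc
    obtain ⟨y, rfl⟩ := QuotientGroup.mk_surjective c
    have := hD (y * x * y⁻¹) (by
      rw [← MulAut.conj_apply, MulEquiv.orderOf_eq]; exact hx)
    exact this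
  haveI : O.Normal := Subgroup.normalClosure_normal
  haveI : Group.IsSolvable O := Group.isSolvable_of_isSolvable_injective (Subgroup.inclusion_injective hle)
  haveI : Group.IsSolvable ((Γ ⧸ I) ⧸ O) := by
    have hp : IsPGroup 2 ((Γ ⧸ I) ⧸ O) := by
      intro q
      obtain ⟨q, rfl⟩ := QuotientGroup.mk_surjective q
      obtain ⟨x, rfl⟩ := QuotientGroup.mk_surjective q
      refine ⟨(orderOf x).factorization 2, ?_⟩
      rw [← QuotientGroup.mk_pow, ← QuotientGroup.mk_pow, QuotientGroup.eq_one_iff]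
      refine Subgroup.subset_normalClosure ⟨_, ?_, rfl⟩
      show Odd (orderOf (x ^ 2 ^ (orderOf x).factorization 2))
      rw [orderOf_pow_of_dvd (pow_ne_zero _ two_ne_zero) (Nat.ordProj_dvd _ _)]
      exact Nat.odd_iff.2 (by
        have := Nat.not_dvd_ordCompl Nat.prime_two (orderOf_pos x).ne'
        omega)
    haveI := hp.isNilpotent
    infer_instance
  exact Group.isSolvable_of_ker_le_range O.subtype (QuotientGroup.mk' O)
    (by rw [QuotientGroup.ker_mk', Subgroup.range_subtype])

theorem normalizer_zpowers_solvable {Ω : Type*} [Fintype Ω] [DecidableEq Ω] {p : ℕ} [Fact p.Prime]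
    (hΩ : Fintype.card Ω = p) {u : Equiv.Perm Ω} (hu : orderOf u = p) :
    Group.IsSolvable ↥(Subgroup.normalizer (Subgroup.zpowers u : Set (Equiv.Perm Ω))) := by
  have hp : p.Prime := Fact.out
  obtain ⟨a, ha⟩ : ∃ a, u a ≠ a := by
    by_contra h
    rw [show u = 1 from Equiv.ext fun a => not_not.1 fun ha => h ⟨a, ha⟩, orderOf_one] at hu
    exact hp.ne_one hu.symm
  have hinj : Function.Injective fun z : Subgroup.zpowers u => (z : Equiv.Perm Ω) a := by
    intro z z' h
    by_contra hne
    have h1 : ((z'⁻¹ * z : Subgroup.zpowers u) : Equiv.Perm Ω) a = a := by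
      show ((z' : Equiv.Perm Ω))⁻¹ ((z : Equiv.Perm Ω) a) = a
      rw [show (z : Equiv.Perm Ω) a = (z' : Equiv.Perm Ω) a from h]
      exact (z' : Equiv.Perm Ω).symm_apply_apply a
    have h2 : (⟨u, Subgroup.mem_zpowers u⟩ : Subgroup.zpowers u) ∈ Subgroup.zpowers (z'⁻¹ * z) :=
      mem_zpowers_of_prime_card (p := p) (by rw [Nat.card_zpowers, hu]) (fun e => hne (inv_mul_eq_one.1 e).symm)
    obtain ⟨i, hi⟩ := Subgroup.mem_zpowers_iff.1 h2
    refine ha ?_
    rw [show u = ((z'⁻¹ * z : Subgroup.zpowers u) : Equiv.Perm Ω) ^ i from (congrArg Subtype.val hi).symm]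
    exact (zpow_mem (show ((z'⁻¹ * z : Subgroup.zpowers u) : Equiv.Perm Ω) ∈
      stabilizer (Equiv.Perm Ω) a from h1) i)
  have hsurj : Function.Surjective fun z : Subgroup.zpowers u => (z : Equiv.Perm Ω) a :=
    ((Nat.bijective_iff_injective_and_card _).2 ⟨hinj, by
      rw [Nat.card_zpowers, hu, Nat.card_eq_fintype_card, hΩ]⟩).2
  set Z := Subgroup.zpowers u with hZ
  set f := Subgroup.normalizerMonoidHom Z with hf
  haveI : IsCyclic Z := Subgroup.isCyclic_zpowers u
  haveI : Group.IsSolvable f.ker := by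
    have hcomm : ∀ c : f.ker, ((c : Subgroup.normalizer (Z : Set (Equiv.Perm Ω))) : Equiv.Perm Ω) ∈ Z := by
      intro c
      have hc : ∀ w : Z, ((c : Subgroup.normalizer (Z : Set (Equiv.Perm Ω))) : Equiv.Perm Ω) * w =
          w * ((c : Subgroup.normalizer (Z : Set (Equiv.Perm Ω))) : Equiv.Perm Ω) := fun w =>
        mul_inv_eq_iff_eq_mul.1 (congrArg Subtype.val (DFunLike.congr_fun (MonoidHom.mem_ker.1 c.2) w))
      obtain ⟨z, hz⟩ := hsurj (((c : Subgroup.normalizer (Z : Set (Equiv.Perm Ω))) : Equiv.Perm Ω) a)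
      have : ((c : Subgroup.normalizer (Z : Set (Equiv.Perm Ω))) : Equiv.Perm Ω) = z := Equiv.ext fun b => by
        obtain ⟨w, rfl⟩ := hsurj b
        have h1 := congrArg (fun g : Equiv.Perm Ω => g a) (hc w).symm
        have h2 : (w : Equiv.Perm Ω) * z = z * w := congrArg Subtype.val (mul_comm' w z)
        have h3 := congrArg (fun g : Equiv.Perm Ω => g a) h2
        simp only [Equiv.Perm.coe_mul, Function.comp_apply] at h1 h3 hz ⊢
        rw [← h1, ← h3, hz]
      rw [this]
      exact z.2
    refine isSolvable_of_comm fun c c' => Subtype.ext (Subtype.ext ?_)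
    have h5 := congrArg Subtype.val (mul_comm' (⟨_, hcomm c⟩ : Z) ⟨_, hcomm c'⟩)
    exact h5
  haveI : Group.IsSolvable (MulAut Z) := isSolvable_of_comm fun a b =>
    (IsCyclic.mulAutMulEquiv Z).injective (by rw [map_mul, map_mul, mul_comm])
  exact Group.isSolvable_of_ker_le_range f.ker.subtype f (by rw [Subgroup.range_subtype])

/-- A case of the Schreier conjecture: if a finite simple group G has a subgroup of prime index, then the outer automorphism group of G is solvable. -/
theorem result {G : Type*} [Group G] [Finite G] [IsSimpleGroup G] (H : Subgroup G) (hH : H.index.Prime) : Group.IsSolvable (Cfsg.Out G) := by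
  classical
  by_cases hsolv : Group.IsSolvable G
  · haveI := hsolv
    have hcomm : ∀ a b : G, a * b = b * a := by
      intro a b
      have h1 : commutator G = ⊥ := ((inferInstance : (commutator G).Normal).eq_bot_or_eq_top).resolve_right
        (Group.IsSolvable.commutator_lt_top_of_nontrivial G).ne
      have h2 : ⁅a, b⁆ ∈ commutator G := Subgroup.commutator_mem_commutator (Subgroup.mem_top a) (Subgroup.mem_top b)
      rw [h1, Subgroup.mem_bot, commutatorElement_eq_one_iff_mul_comm] at h2
      exact h2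
    letI : CommGroup G := { (inferInstance : Group G) with mul_comm := hcomm }
    haveI : IsCyclic G := IsSimpleGroup.isCyclic
    haveI : Group.IsSolvable (MulAut G) := isSolvable_of_comm fun a b =>
      (IsCyclic.mulAutMulEquiv G).injective (by rw [map_mul, map_mul, mul_comm])
    exact Group.isSolvable_of_surjective (QuotientGroup.mk'_surjective (Cfsg.Inn G))
  set p := H.index with hp
  haveI := Fact.mk hH
  haveI : Fintype (G ⧸ H) := Fintype.ofFinite _
  set Ω := G ⧸ H with hΩdef
  have hΩ : Fintype.card Ω = p := by rw [← Nat.card_eq_fintype_card]; rfl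
  set ρ := MulAction.toPermHom G Ω with hρ
  have hinj : Function.Injective ρ := by
    rw [← MonoidHom.ker_eq_bot_iff]
    refine ((inferInstance : ρ.ker.Normal).eq_bot_or_eq_top).resolve_right fun h => ?_
    have h1 : H = ⊤ := by
      rw [eq_top_iff]
      intro g _
      have h2 : ρ g = 1 := MonoidHom.mem_ker.1 (h ▸ Subgroup.mem_top g)
      have h3 := congrArg (fun s : Equiv.Perm Ω => s ((1 : G) : Ω)) h2
      have h4 : ((g * 1 : G) : Ω) = ((1 : G) : Ω) := h3
      rw [mul_one] at h4
      exact inv_mem_iff.1 (by simpa using QuotientGroup.eq.1 h4)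
    rw [h1, Subgroup.index_top] at hp
    exact hH.ne_one (hp ▸ rfl)
  let e : G ≃* ρ.range := MonoidHom.ofInjective hinj
  haveI htr : MulAction.IsPretransitive ρ.range Ω := ⟨fun a b => by
    obtain ⟨g, hg⟩ := MulAction.exists_smul_eq G a b
    exact ⟨e g, hg⟩⟩
  have hns : ¬ Group.IsSolvable ρ.range := fun h => hsolv (by
    haveI := h
    exact Group.isSolvable_of_isSolvable_injective (f := e.toMonoidHom) e.injective)
  have h2 : MulAction.IsMultiplyPretransitive ρ.range Ω 2 :=
    (Cfsg.Agent.S0675.result (by rw [hΩ]; exact hH) ρ.range).resolve_left hns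
  obtain ⟨o⟩ : Nonempty Ω := ⟨((1 : G) : Ω)⟩
  have hidx : (MulAction.stabilizer ρ.range o).index = p := by
    rw [MulAction.index_stabilizer_of_transitive, Nat.card_eq_fintype_card, hΩ]
  have hcard : Nat.card (MulAction.stabilizer ρ.range o) * p = Nat.card ρ.range := by
    rw [← hidx]; exact Subgroup.card_mul_index _
  have hHall : (Nat.card (MulAction.stabilizer ρ.range o)).Coprime (MulAction.stabilizer ρ.range o).index := by
    rw [hidx]
    refine ((Nat.Prime.coprime_iff_not_dvd hH).2 fun hdiv => ?_).symm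
    have h1 : Nat.card ρ.range ∣ Nat.factorial p := by
      rw [← hΩ, ← Fintype.card_perm, ← Nat.card_eq_fintype_card]
      exact Subgroup.card_subgroup_dvd_card _
    have h3 : p * p ∣ Nat.factorial p := (mul_dvd_mul_right hdiv p).trans (hcard ▸ h1)
    obtain ⟨p', hp'⟩ : ∃ p', p = p' + 1 := ⟨p - 1, by have := hH.pos; omega⟩
    rw [hp', Nat.factorial_succ, Nat.mul_dvd_mul_iff_left (Nat.succ_pos _)] at h3
    rw [← hp'] at h3
    have := (hH.dvd_factorial).1 h3
    omega
  set N := Subgroup.normalizer (ρ.range : Set (Equiv.Perm Ω)) with hN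
  let Φ : N →* MulAut G := (MulAut.congr e.symm).toMonoidHom.comp (Subgroup.normalizerMonoidHom ρ.range)
  let ψ : N →* Cfsg.Out G := (QuotientGroup.mk' (Cfsg.Inn G)).comp Φ
  have hψ : ρ.range.subgroupOf N ≤ ψ.ker := by
    intro σ hσ
    obtain ⟨g, hg⟩ := Subgroup.mem_subgroupOf.1 hσ
    rw [MonoidHom.mem_ker]
    show (QuotientGroup.mk (Φ σ) : Cfsg.Out G) = 1
    rw [QuotientGroup.eq_one_iff]
    refine ⟨g, MulEquiv.ext fun x => e.injective (Subtype.ext ?_)⟩
    show ρ (g * x * g⁻¹) = (e (Φ σ x) : Equiv.Perm Ω)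
    rw [map_mul, map_mul, map_inv, hg]
    show _ = ((e (e.symm (Subgroup.normalizerMonoidHom ρ.range σ (e x)))) : Equiv.Perm Ω)
    rw [e.apply_symm_apply]
    rfl
  obtain ⟨P⟩ : Nonempty (Sylow p (ρ.range.subgroupOf N)) := inferInstance
  haveI hRn : (ρ.range.subgroupOf N).Normal := ⟨fun x hx y => by
    rw [Subgroup.mem_subgroupOf] at hx ⊢
    exact (Subgroup.mem_normalizer_iff.1 y.2 x).1 hx⟩
  have hPc : Nat.card P = p := by
    rw [P.card_eq_multiplicity, Nat.card_congr (Subgroup.subgroupOfEquivOfLe Subgroup.le_normalizer).toEquiv,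
      ← hcard, Nat.factorization_mul (Nat.card_pos.ne') hH.ne_zero, Finsupp.add_apply, hH.factorization_self,
      Nat.factorization_eq_zero_of_not_dvd ((Nat.Prime.coprime_iff_not_dvd hH).1 (hidx ▸ hHall).symm),
      zero_add, pow_one]
  obtain ⟨u, hu⟩ := exists_prime_orderOf_dvd_card' (G := P) p (by rw [hPc])
  set Q := Subgroup.map (ρ.range.subgroupOf N).subtype (P : Subgroup (ρ.range.subgroupOf N)) with hQ
  have hPz : Q.map N.subtype = Subgroup.zpowers ((((u : ρ.range.subgroupOf N) : N) : Equiv.Perm Ω)) := by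
    refine (Subgroup.eq_of_le_of_card_ge (Subgroup.zpowers_le.2
      (Subgroup.mem_map_of_mem _ (Subgroup.mem_map_of_mem _ u.2))) ?_).symm
    rw [Nat.card_zpowers, Subgroup.subtype_apply, Subgroup.subtype_apply, Subgroup.orderOf_coe,
      Subgroup.orderOf_coe, Subgroup.orderOf_coe, hu, ← Nat.card_congr (Q.equivMapOfInjective _ N.subtype_injective).toEquiv, hQ,
      ← Nat.card_congr (Subgroup.equivMapOfInjective _ _ (Subgroup.subtype_injective _)).toEquiv, hPc]
  haveI : Group.IsSolvable (Subgroup.normalizer (Q : Set N)) := by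
    have hle : (Subgroup.normalizer (Q : Set N)).map N.subtype ≤
        Subgroup.normalizer (Subgroup.zpowers ((((u : ρ.range.subgroupOf N) : N) : Equiv.Perm Ω)) : Set (Equiv.Perm Ω)) := by
      rw [← hPz]
      exact Subgroup.le_normalizer_map _
    haveI := normalizer_zpowers_solvable hΩ (u := (((u : ρ.range.subgroupOf N) : N) : Equiv.Perm Ω))
      (by rw [Subgroup.orderOf_coe, Subgroup.orderOf_coe, Subgroup.orderOf_coe, hu])
    exact Group.isSolvable_of_isSolvable_injective (f := (Subgroup.inclusion hle).comp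
      ((Subgroup.normalizer (Q : Set N)).equivMapOfInjective N.subtype N.subtype_injective).toMonoidHom)
      ((Subgroup.inclusion_injective hle).comp (MulEquiv.injective _))
  have hD : ψ.range = (Subgroup.normalizer (Q : Set N)).map ψ := by
    have h1 : Subgroup.normalizer (Q : Set N) ⊔ ρ.range.subgroupOf N = ⊤ := Sylow.normalizer_sup_eq_top P
    rw [MonoidHom.range_eq_map, ← h1, Subgroup.map_sup, (Subgroup.map_eq_bot_iff _).2 hψ, sup_bot_eq]
  haveI : Group.IsSolvable ψ.range := by
    rw [hD]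
    exact Group.isSolvable_of_surjective (ψ.subgroupMap_surjective (Subgroup.normalizer (Q : Set N)))
  refine solvable_quotient_of_odd (Cfsg.Inn G) ψ.range fun x hx => ?_
  obtain ⟨σ, hσ, hσ'⟩ := Cfsg.Agent.S4290.result ρ.range h2 o hHall (MulAut.congr e x)
    (by rw [MulEquiv.orderOf_eq]; exact hx)
  refine ⟨⟨σ, hσ⟩, congrArg QuotientGroup.mk (MulEquiv.ext fun g => e.injective (Subtype.ext ?_))⟩
  show (e (e.symm (Subgroup.normalizerMonoidHom ρ.range ⟨σ, hσ⟩ (e g))) : Equiv.Perm Ω) = _
  rw [e.apply_symm_apply]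
  show σ * (e g : Equiv.Perm Ω) * σ⁻¹ = _
  rw [← hσ' (e g)]
  show ((e (x (e.symm (e g)))) : Equiv.Perm Ω) = _
  rw [e.symm_apply_apply]

end Cfsg.Agent.S4277
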