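import Cfsg.Statements.S4280
import Cfsg.Agent.Lib.Small.ChevInvol.Main
import Cfsg.Agent.Lib.Small.ChevInvol.DataF4

set_option autoImplicit false
open Cfsg

namespace Cfsg.Agent.S4280

/-- In the Chevalley group of type F₄ over a finite field of odd order q there are exactly two conjugacy classes of involutions; the centralizer of an involution in one class has order q¹⁶(q² − 1)(q⁴ − 1)(q⁶ − 1)(q⁸ − 1), and in the other class q¹⁰(q² − 1)²(q⁴ − 1)(q⁶ − 1). -/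
theorem result {F : Type*} [Field F] [Fintype F] (hF : Odd (Fintype.card F)) : ∃ s t : ↥(Cfsg.Lie.chevF4.group F), orderOf s = 2 ∧ orderOf t = 2 ∧ ¬ IsConj s t ∧ (∀ u : ↥(Cfsg.Lie.chevF4.group F), orderOf u = 2 → IsConj u s ∨ IsConj u t) ∧ Nat.card (Subgroup.centralizer ({s} : Set ↥(Cfsg.Lie.chevF4.group F))) = Fintype.card F ^ 16 * (Fintype.card F ^ 2 - 1) * (Fintype.card F ^ 4 - 1) * (Fintype.card F ^ 6 - 1) * (Fintype.card F ^ 8 - 1) ∧ Nat.card (Subgroup.centralizer ({t} : Set ↥(Cfsg.Lie.chevF4.group F))) = Fintype.card F ^ 10 * (Fintype.card F ^ 2 - 1) ^ 2 * (Fintype.card F ^ 4 - 1) * (Fintype.card F ^ 6 - 1) := by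
  obtain ⟨s, t, h1, h2, h3, h4, h5, h6⟩ := Cfsg.Agent.Small.ChevInvol.two_classes Cfsg.Agent.Lie.factsF4 hF
    Cfsg.Agent.Lie.kerCertF4 Cfsg.Agent.Small.ChevInvol.fastTabF4.refl Cfsg.Agent.Lie.okCorootF4
    Cfsg.Agent.Lie.okColsF4 Cfsg.Agent.Small.ChevInvol.okCombF4 Cfsg.Agent.Small.ChevInvol.okDataF4B
    Cfsg.Agent.Small.ChevInvol.okOrbitF4B Cfsg.Agent.Small.ChevInvol.okDataF4C
    Cfsg.Agent.Small.ChevInvol.okOrbitF4C Cfsg.Agent.Small.ChevInvol.okCoverF4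
    Cfsg.Agent.Small.ChevInvol.cardDataF4B Cfsg.Agent.Small.ChevInvol.cardDataF4C
    (da := [2, 4, 6, 8]) (db := [2, 2, 4, 6]) rfl rfl Cfsg.Agent.Small.ChevInvol.polyDataF4B
    Cfsg.Agent.Small.ChevInvol.polyDataF4C (by decide) (by simp) (by simp) rfl rfl
  refine ⟨s, t, h1, h2, h3, h4, ?_, ?_⟩
  · rw [h5]; simp [Cfsg.Agent.Small.ChevInvol.dataF4B]; ring
  · rw [h6]; simp [Cfsg.Agent.Small.ChevInvol.dataF4C]; ring

end Cfsg.Agent.S4280
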