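import Cfsg.Statements.S4281
import Cfsg.Agent.Lib.Small.ChevInvol.Main
import Cfsg.Agent.Lib.Small.ChevInvol.DataE8

set_option autoImplicit false
open scoped BigOperators
open Cfsg

namespace Cfsg.Agent.S4281

/-- In the Chevalley group of type E₈ over a finite field of odd order q there are exactly two conjugacy classes of involutions; the centralizer of an involution in one class has order q⁵⁶(q⁸ − 1)·∏_{i=1}^{7}(q^{2i} − 1), and in the other class q⁶⁴(q² − 1)²(q⁶ − 1)(q⁸ − 1)(q¹⁰ − 1)(q¹² − 1)(q¹⁴ − 1)(q¹⁸ − 1). -/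
theorem result {F : Type*} [Field F] [Fintype F] (hF : Odd (Fintype.card F)) : ∃ s t : ↥(Cfsg.Lie.chevE8.group F), orderOf s = 2 ∧ orderOf t = 2 ∧ ¬ IsConj s t ∧ (∀ u : ↥(Cfsg.Lie.chevE8.group F), orderOf u = 2 → IsConj u s ∨ IsConj u t) ∧ Nat.card (Subgroup.centralizer ({s} : Set ↥(Cfsg.Lie.chevE8.group F))) = Fintype.card F ^ 56 * (Fintype.card F ^ 8 - 1) * ∏ i ∈ Finset.Icc 1 7, (Fintype.card F ^ (2 * i) - 1) ∧ Nat.card (Subgroup.centralizer ({t} : Set ↥(Cfsg.Lie.chevE8.group F))) = Fintype.card F ^ 64 * (Fintype.card F ^ 2 - 1) ^ 2 * (Fintype.card F ^ 6 - 1) * (Fintype.card F ^ 8 - 1) * (Fintype.card F ^ 10 - 1) * (Fintype.card F ^ 12 - 1) * (Fintype.card F ^ 14 - 1) * (Fintype.card F ^ 18 - 1) := by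
  obtain ⟨s, t, h1, h2, h3, h4, h5, h6⟩ := Cfsg.Agent.Small.ChevInvol.two_classes Cfsg.Agent.Lie.factsE8 hF
    Cfsg.Agent.Lie.kerCertE8 Cfsg.Agent.Small.ChevInvol.fastTabE8.refl Cfsg.Agent.Lie.okCorootE8
    Cfsg.Agent.Lie.okColsE8 Cfsg.Agent.Small.ChevInvol.okCombE8 Cfsg.Agent.Small.ChevInvol.okDataE8D
    Cfsg.Agent.Small.ChevInvol.okOrbitE8D Cfsg.Agent.Small.ChevInvol.okDataE8E
    Cfsg.Agent.Small.ChevInvol.okOrbitE8E Cfsg.Agent.Small.ChevInvol.okCoverE8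
    Cfsg.Agent.Small.ChevInvol.cardDataE8D Cfsg.Agent.Small.ChevInvol.cardDataE8E
    (da := [2, 4, 6, 8, 8, 10, 12, 14]) (db := [2, 2, 6, 8, 10, 12, 14, 18]) rfl rfl
    Cfsg.Agent.Small.ChevInvol.polyDataE8D
    Cfsg.Agent.Small.ChevInvol.polyDataE8E (by decide) (by simp) (by simp) rfl rfl
  refine ⟨s, t, h1, h2, h3, h4, ?_, ?_⟩
  · rw [h5, show Finset.Icc 1 7 = ({1, 2, 3, 4, 5, 6, 7} : Finset ℕ) from by decide]
    simp [Cfsg.Agent.Small.ChevInvol.dataE8D]; ring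
  · rw [h6]; simp [Cfsg.Agent.Small.ChevInvol.dataE8E]; ring

end Cfsg.Agent.S4281
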