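import Cfsg.Statements.S4282
import Cfsg.Agent.Lib.Solv.TheoremBCore

set_option autoImplicit false
open Cfsg

namespace Cfsg.Agent.S4282

/-- A critical case behind the Hall–Higman theorem. Let p ≠ q be primes and G a finite group generated by a normal q-subgroup Q and a cyclic p-subgroup generated by x, such that the centralizer of every non-identity element of that cyclic subgroup is its product with the centre of G. Let K be an algebraically closed field of characteristic p and ρ a faithful representation of G on a nonzero finite-dimensional K-space whose restriction to Q is irreducible. If s is the least exponent with (ρ(x) − 1)^s = 0, then |⟨x⟩| − 1 ≤ s ≤ |⟨x⟩|; and if s = |⟨x⟩| − 1 then |⟨x⟩| − 1 is a power of q and Q is non-abelian. -/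
theorem result {G : Type*} [Group G] [Finite G] (p q : ℕ) [Fact p.Prime] [Fact q.Prime] (hpq : p ≠ q) (Q : Subgroup G) [Q.Normal] (hQ : IsPGroup q Q) (x : G) (hx : IsPGroup p (Subgroup.zpowers x)) (hgen : Q ⊔ Subgroup.zpowers x = ⊤) (hC : ∀ y ∈ Subgroup.zpowers x, y ≠ 1 → Subgroup.centralizer ({y} : Set G) = Subgroup.zpowers x ⊔ Subgroup.center G) {K : Type*} [Field K] [IsAlgClosed K] [CharP K p] {V : Type*} [AddCommGroup V] [Module K V] [FiniteDimensional K V] [Nontrivial V] (ρ : Representation K G V) (hfaith : Function.Injective ρ) (hirr : ∀ W : Submodule K V, (∀ g ∈ Q, Submodule.map (ρ g) W ≤ W) → W = ⊥ ∨ W = ⊤) (s : ℕ) (hs : (ρ x - 1) ^ s = 0) (hmin : ∀ k < s, (ρ x - 1) ^ k ≠ 0) : Nat.card (Subgroup.zpowers x) - 1 ≤ s ∧ s ≤ Nat.card (Subgroup.zpowers x) ∧ (s = Nat.card (Subgroup.zpowers x) - 1 → (∃ b : ℕ, Nat.card (Subgroup.zpowers x) - 1 = q ^ b) ∧ ¬ IsMulCommutative Q) := by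
  obtain ⟨n, hn⟩ := hx.exists_card_eq
  have hord : orderOf x = p ^ n := by rw [← hn, Nat.card_zpowers]
  rw [hn]
  have hP0 : 0 < p ^ n := pow_pos (Fact.out : p.Prime).pos n
  let ρ' : G →* Module.End K V := ρ
  have hsimple : Cfsg.Agent.Solv.CRep.IsSimpleRep (ρ'.comp Q.subtype) :=
    ⟨inferInstance, fun W hW => hirr W fun g hg => by
      rintro _ ⟨w, hw, rfl⟩
      exact hW ⟨g, hg⟩ w hw⟩
  have hfree : ∀ g ∈ Q, ∀ i, 0 < i → i < p ^ n → x ^ i * g * (x ^ i)⁻¹ = g →
      ∃ c : K, ρ' g = c • 1 := by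
    intro g hg i hi0 hin hfix
    have hy1 : x ^ i ≠ 1 := pow_ne_one_of_lt_orderOf hi0.ne' (hord ▸ hin)
    have hgC : g ∈ Subgroup.centralizer ({x ^ i} : Set G) :=
      Subgroup.mem_centralizer_singleton_iff.2 (mul_inv_eq_iff_eq_mul.1 hfix).symm
    rw [hC _ (Subgroup.npow_mem_zpowers x i) hy1, Subgroup.mem_sup_of_normal_right] at hgC
    obtain ⟨a, ⟨j, rfl⟩, z, hz, rfl⟩ := hgC
    have hcomm : Commute (x ^ j) z := Subgroup.mem_center_iff.1 hz _
    have hpow : (x ^ j * z) ^ p ^ n ∈ Subgroup.center G := by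
      rw [hcomm.mul_pow, ← zpow_natCast, ← zpow_mul, mul_comm, zpow_mul, zpow_natCast,
        ← hord, pow_orderOf_eq_one, one_zpow, one_mul]
      exact pow_mem hz _
    have hgz : x ^ j * z ∈ Subgroup.center G := by
      obtain ⟨k, hk⟩ : ∃ k, orderOf (x ^ j * z) = q ^ k := by
        obtain ⟨k, hk⟩ := IsPGroup.iff_orderOf.1 hQ ⟨_, hg⟩
        exact ⟨k, by rw [← hk, ← Subgroup.orderOf_coe]⟩
      have hco : Nat.Coprime (p ^ n) (orderOf (x ^ j * z)) := by
        rw [hk]
        exact ((Nat.coprime_primes Fact.out Fact.out).2 hpq).pow _ _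
      obtain ⟨m, hm⟩ := exists_pow_eq_self_of_coprime hco
      rw [← hm]
      exact pow_mem hpow _
    exact Cfsg.Agent.Solv.CRep.schur hsimple _ fun k => by
      show ρ' _ * ρ' (k : G) = ρ' (k : G) * ρ' _
      rw [← map_mul, ← map_mul, Subgroup.mem_center_iff.1 hgz k]
  obtain ⟨hle, hcase⟩ := Cfsg.Agent.Solv.ThmB.core (p := p) (q := q) hpq.symm Q hQ
    (by rw [Subgroup.normalizer_eq_top]; exact Subgroup.mem_top x) ρ' hsimple n
    (by rw [← map_pow, ← hord, pow_orderOf_eq_one, map_one]) hfree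
    (fun g _ => by rw [← hord, pow_orderOf_eq_one]; simp) s hs hmin
  have htriv : ρ' x = 1 → p ^ n = 1 := fun h => by
    rw [← hord, hfaith (h.trans (map_one ρ').symm), orderOf_one]
  refine ⟨?_, hle, fun hse => ?_⟩
  · rcases hcase with h | h | ⟨h, -⟩
    · omega
    · rw [htriv h]; omega
    · omega
  · rcases hcase with h | h | ⟨-, -, -, h⟩
    · omega
    · have := htriv h
      subst hse
      rw [this] at hs
      simp at hs
    · exact h

end Cfsg.Agent.S4282
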