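import Cfsg.Statements.S4283
import Mathlib
import Cfsg.Agent.Lib.Solv.FrobeniusGK

set_option autoImplicit false
open Cfsg

namespace Cfsg.Agent.S4283


open scoped Pointwise

theorem frob_cent {Q : Type*} [Group Q] {C : Subgroup Q} (hC : IsFrobeniusComplement C)
    {x g : Q} (hx : x ∈ C) (hx1 : x ≠ 1) (hc : g * x = x * g) : g ∈ C := by
  by_contra hg
  have h := hC.2.2 g hg
  have : x ∈ C ⊓ MulAut.conj g • C := by
    refine ⟨hx, Subgroup.mem_pointwise_smul_iff_inv_smul_mem.2 ?_⟩
    simp only [MulAut.smul_def, MulAut.conj_inv_apply]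
    rwa [mul_assoc, ← hc, inv_mul_cancel_left]
  rw [h] at this
  exact hx1 (Subgroup.mem_bot.1 this)


/-- Let G be a finite group with centre Z and let K, H be abelian subgroups of G containing Z such that G/Z is a Frobenius group with complement H/Z and kernel K/Z. Then the conjugacy class sizes of G are exactly 1, [G : K] and [G : H], and these two indices are coprime. (This is the converse half of the characterization of finite groups whose conjugacy class sizes are exactly 1, m and n with m and n coprime.) -/
theorem result {G : Type*} [Group G] [Finite G] (K H : Subgroup G) (hZK : Subgroup.center G ≤ K) (hZH : Subgroup.center G ≤ H) (hK : IsMulCommutative K) (hH : IsMulCommutative H) (hFrob : Cfsg.IsFrobeniusComplement (H.map (QuotientGroup.mk' (Subgroup.center G)))) (hker : Cfsg.frobeniusKernel (H.map (QuotientGroup.mk' (Subgroup.center G))) = (K.map (QuotientGroup.mk' (Subgroup.center G)) : Set (G ⧸ Subgroup.center G))) : Set.range (fun x : G => (Subgroup.centralizer ({x} : Set G)).index) = ({1, K.index, H.index} : Set ℕ) ∧ K.index.Coprime H.index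 := by
  classical
  set Z := Subgroup.center G
  set π := QuotientGroup.mk' Z with hπ
  have hπs : Function.Surjective π := QuotientGroup.mk'_surjective Z
  have hπ1 : ∀ g, π g = 1 ↔ g ∈ Z := fun g => QuotientGroup.eq_one_iff g
  have hcomap : ∀ T : Subgroup G, Z ≤ T → ∀ g, π g ∈ T.map π → g ∈ T := by
    intro T hT g hg
    have : g ∈ (T.map π).comap π := hg
    rwa [Subgroup.comap_map_eq_self (by rwa [QuotientGroup.ker_mk'])] at this
  have hCK : ∀ x ∈ K, x ∉ Z → Subgroup.centralizer ({x} : Set G) = K := by
    intro x hx hxZ
    refine le_antisymm (fun g hg => ?_) (fun g hg => ?_)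
    · refine hcomap K hZK g ?_
      by_contra hgK
      have hc : Commute (π x) (π g) :=
        ((show Commute g x from Subgroup.mem_centralizer_singleton_iff.1 hg).symm).map π
      exact hxZ ((hπ1 x).1 (Cfsg.Agent.Solv.frob_outside hFrob hker.symm
        (Subgroup.mem_map_of_mem π hx) hgK hc))
    · haveI := hK
      exact Subgroup.mem_centralizer_singleton_iff.2
        (congrArg Subtype.val (mul_comm' (⟨g, hg⟩ : K) ⟨x, hx⟩))
  have hCH : ∀ x ∈ H, x ∉ Z → Subgroup.centralizer ({x} : Set G) = H := by
    intro x hx hxZ
    refine le_antisymm (fun g hg => ?_) (fun g hg => ?_)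
    · refine hcomap H hZH g ?_
      refine frob_cent hFrob (Subgroup.mem_map_of_mem π hx) (fun e => hxZ ((hπ1 x).1 e)) ?_
      rw [← map_mul, ← map_mul, Subgroup.mem_centralizer_singleton_iff.1 hg]
    · haveI := hH
      exact Subgroup.mem_centralizer_singleton_iff.2
        (congrArg Subtype.val (mul_comm' (⟨g, hg⟩ : H) ⟨x, hx⟩))
  have hconj : ∀ c x : G, (Subgroup.centralizer ({c * x * c⁻¹} : Set G)).index =
      (Subgroup.centralizer ({x} : Set G)).index := by
    intro c x
    have e : Subgroup.centralizer ({c * x * c⁻¹} : Set G) =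
        (Subgroup.centralizer ({x} : Set G)).map (MulAut.conj c).toMonoidHom := by
      ext g
      rw [Subgroup.mem_map_equiv, Subgroup.mem_centralizer_singleton_iff,
        Subgroup.mem_centralizer_singleton_iff, MulAut.conj_symm_apply]
      constructor
      · intro h
        calc c⁻¹ * g * c * x = c⁻¹ * (g * (c * x * c⁻¹)) * c := by group
          _ = c⁻¹ * ((c * x * c⁻¹) * g) * c := by rw [h]
          _ = x * (c⁻¹ * g * c) := by group
      · intro h
        calc g * (c * x * c⁻¹) = c * (c⁻¹ * g * c * x) * c⁻¹ := by group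
          _ = c * (x * (c⁻¹ * g * c)) * c⁻¹ := by rw [h]
          _ = c * x * c⁻¹ * g := by group
    rw [e]
    exact Subgroup.index_map_equiv _ (MulAut.conj c)
  have hindex : ∀ T : Subgroup G, Z ≤ T → (T.map π).index = T.index := fun T hT =>
    Subgroup.index_map_eq _ hπs (by rwa [QuotientGroup.ker_mk'])
  obtain ⟨N, hN, hNn, hNc⟩ := Cfsg.Agent.Solv.frobenius_theorem hFrob
  have hNK : N = K.map π := SetLike.coe_injective (hN.trans hker)
  rw [hNK] at hNc
  obtain ⟨yK, hyK, hyK'⟩ : ∃ y ∈ K, y ∉ Z := by
    by_contra h
    push Not at h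
    refine hFrob.2.1 ?_
    have hb : K.map π = ⊥ := (Subgroup.map_eq_bot_iff K).2 (by rw [QuotientGroup.ker_mk']; exact h)
    have := hNc.sup_eq_top
    rwa [hb, bot_sup_eq] at this
  obtain ⟨yH, hyH, hyH'⟩ : ∃ y ∈ H, y ∉ Z := by
    by_contra h
    push Not at h
    exact hFrob.1 ((Subgroup.map_eq_bot_iff H).2 (by rw [QuotientGroup.ker_mk']; exact h))
  refine ⟨Set.ext fun m => ?_, ?_⟩
  · constructor
    · rintro ⟨x, rfl⟩
      by_cases hxZ : x ∈ Z
      · left
        show (Subgroup.centralizer ({x} : Set G)).index = 1
        rw [Subgroup.index_eq_one, Subgroup.centralizer_eq_top_iff_subset]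
        exact Set.singleton_subset_iff.2 hxZ
      · by_cases hxK : x ∈ K
        · right; left
          show (Subgroup.centralizer ({x} : Set G)).index = K.index
          rw [hCK x hxK hxZ]
        · right; right
          show (Subgroup.centralizer ({x} : Set G)).index = H.index
          have hnk : π x ∉ frobeniusKernel (H.map π) := by
            rw [hker]; exact fun e => hxK (hcomap K hZK x e)
          simp only [frobeniusKernel, Set.mem_setOf_eq, not_or, not_forall, not_not] at hnk
          obtain ⟨-, cb, hcb⟩ := hnk
          obtain ⟨c, rfl⟩ := hπs cb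
          rw [Subgroup.mem_pointwise_smul_iff_inv_smul_mem] at hcb
          rw [MulAut.smul_def] at hcb
          replace hcb : (π c)⁻¹ * π x * π c ∈ H.map π := by simpa using hcb
          rw [← map_inv, ← map_mul, ← map_mul] at hcb
          have hy : c⁻¹ * x * c ∈ H := hcomap H hZH _ hcb
          have hyZ : c⁻¹ * x * c ∉ Z := by
            intro e
            have := Subgroup.Normal.conj_mem (inferInstance : Z.Normal) _ e c
            exact hxZ (by simpa [mul_assoc] using this)
          rw [← congrArg Subgroup.index (hCH _ hy hyZ), ← hconj c (c⁻¹ * x * c)]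
          simp [mul_assoc]
    · rintro (rfl | rfl | rfl)
      · exact ⟨1, by
          show (Subgroup.centralizer ({(1 : G)} : Set G)).index = 1
          rw [Subgroup.index_eq_one, Subgroup.centralizer_eq_top_iff_subset]
          exact Set.singleton_subset_iff.2 (one_mem _)⟩
      · exact ⟨yK, congrArg Subgroup.index (hCK yK hyK hyK')⟩
      · exact ⟨yH, congrArg Subgroup.index (hCH yH hyH hyH')⟩
  · have h := Cfsg.Agent.Solv.frob_coprime hFrob
    rw [hindex H hZH] at h
    have e := hNc.symm.index_eq_card
    rw [hindex K hZK] at e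
    rwa [← e] at h

end Cfsg.Agent.S4283
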