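import Cfsg.Statements.S4284
import Cfsg.Agent.Lib.Perm.ThreeSizes.Structure
import Cfsg.Agent.Lib.Perm.ThreeSizes.Multi

set_option autoImplicit false
open Cfsg

namespace Cfsg.Agent.S4284

/-- Let G be a finite group with no nontrivial abelian direct factor whose conjugacy class sizes are exactly 1, m and m·n with m, n > 1 coprime. Then m is a prime p dividing n − 1; the elements whose class has size 1 or p form an abelian normal subgroup of index p; G has a normal p-complement; and the commutator subgroup of a Sylow p-subgroup of G has order p. -/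
theorem result {G : Type*} [Group G] [Finite G] (hnodf : ∀ A B : Subgroup G, A.Normal → B.Normal → A ⊓ B = ⊥ → A ⊔ B = ⊤ → IsMulCommutative A → A = ⊥) (m n : ℕ) (hm : 1 < m) (hn : 1 < n) (hcop : m.Coprime n) (h : Set.range (fun x : G => (Subgroup.centralizer ({x} : Set G)).index) = ({1, m, m * n} : Set ℕ)) : m.Prime ∧ m ∣ n - 1 ∧ (∃ M : Subgroup G, M.Normal ∧ (M : Set G) = {x : G | (Subgroup.centralizer ({x} : Set G)).index = 1 ∨ (Subgroup.centralizer ({x} : Set G)).index = m} ∧ M.index = m ∧ IsMulCommutative M) ∧ (∃ N : Subgroup G, N.Normal ∧ (Nat.card N).Coprime m ∧ ∃ a : ℕ, N.index = m ^ a) ∧ ∀ P : Sylow m G, Nat.card (commutator (P : Subgroup G)) = m := by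
  have hcl : ∀ g : G, (Subgroup.centralizer ({g} : Set G)).index = Perm.CoprimeSizes.cls g := fun g => rfl
  have H : Perm.ThreeSizes.Hyp G m n := by
    refine ⟨hm, hn, hcop, fun g => ?_, ?_, ?_⟩
    · have h1 : (Subgroup.centralizer ({g} : Set G)).index ∈ ({1, m, m * n} : Set ℕ) := h ▸ ⟨g, rfl⟩
      simpa [hcl] using h1
    · obtain ⟨g, hg⟩ : m ∈ Set.range (fun x : G => (Subgroup.centralizer ({x} : Set G)).index) := by
        rw [h]; simp
      exact ⟨g, hg⟩
    · obtain ⟨g, hg⟩ : m * n ∈ Set.range (fun x : G => (Subgroup.centralizer ({x} : Set G)).index) := by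
        rw [h]; simp
      exact ⟨g, hg⟩
  obtain ⟨q, a, hq, ha, hma⟩ := H.exists_prime_pow
  haveI := Fact.mk hq
  obtain ⟨K, hKn, hKco, hKc⟩ := H.exists_complement hma ha
  have S : Perm.ThreeSizes.Cmp G m n q a K := ⟨H, hma, ha, hKn, hKco, hKc⟩
  obtain ⟨P0⟩ : Nonempty (Sylow q G) := inferInstance
  obtain ⟨ha1, hqn, hCab, hCidx, -⟩ := S.final P0 hnodf
  obtain rfl : q = m := by rw [hma, ha1, pow_one]
  refine ⟨hq, hqn, ⟨Subgroup.centralizer (K : Set G), S.normal_centralizer, ?_, hCidx, hCab⟩,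
    ⟨K, hKn, hKco, (Nat.card G).factorization q, ?_⟩, fun P => (S.final P hnodf).2.2.2.2⟩
  · ext g
    rw [SetLike.mem_coe, Set.mem_setOf_eq, hcl]
    constructor
    · intro hg
      by_cases hgc : g ∈ Subgroup.center G
      · exact Or.inl (Perm.CoprimeSizes.cls_eq_one_iff.2 hgc)
      · exact Or.inr (S.m_of_le hgc fun k hk =>
          Perm.CoprimeSizes.mem_cent.2 (Subgroup.mem_centralizer_iff.1 hg k hk))
    · intro hg
      refine Subgroup.mem_centralizer_iff.2 fun k hk => ?_
      rcases hg with h1 | h1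
      · exact Subgroup.mem_center_iff.1 (Perm.CoprimeSizes.cls_eq_one_iff.1 h1) k
      · exact Perm.CoprimeSizes.mem_cent.1 (S.le_cent_of_m h1 hk)
  · exact Nat.eq_of_mul_eq_mul_left Nat.card_pos ((Subgroup.card_mul_index K).trans hKc.symm)

end Cfsg.Agent.S4284
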