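import Cfsg.Statements.S4292
import Cfsg.Agent.Lib.Perm.Fpf.Complement

set_option autoImplicit false
open Cfsg

namespace Cfsg.Agent.S4292

open Cfsg.Agent.Perm.Fpf in
theorem no_common {A B : Type*} [Group A] [Group B] [Finite A] [Finite B] (h : HasFpf (A × B)) :
    (Nat.card A).Coprime (Nat.card B) := by
  refine h.elim fun ρ hρ => Nat.coprime_of_dvd fun p hp ha hb => ?_
  haveI := Fact.mk hp
  obtain ⟨a, ha⟩ := exists_prime_orderOf_dvd_card' (G := A) p ha
  obtain ⟨b, hb⟩ := exists_prime_orderOf_dvd_card' (G := B) p hb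
  have hb1 : b ≠ 1 := fun e => hp.ne_one (by rw [← hb, e, orderOf_one])
  have ha1 : a ≠ 1 := fun e => hp.ne_one (by rw [← ha, e, orderOf_one])
  have hm := hρ.commute_mem_zpowers (x := ((1 : A), b)) (y := (a, (1 : B))) (p := p)
    (by ext <;> simp [← hb, pow_orderOf_eq_one]) (by ext <;> simp [← ha, pow_orderOf_eq_one])
    (fun e => ha1 (congrArg Prod.fst e)) (by ext <;> simp)
  obtain ⟨k, hk⟩ := hm
  exact hb1 (by simpa using (congrArg Prod.snd hk).symm)


/-- Let A and B be nontrivial finite groups. Then the direct product A × B occurs as a Frobenius complement if and only if A and B both occur as Frobenius complements and the orders of A and B are coprime. -/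
theorem result {A B : Type*} [Group A] [Finite A] [Nontrivial A] [Group B] [Finite B] [Nontrivial B] :
    (∃ (L : Type) (_ : Group L) (_ : Finite L) (H : Subgroup L), Cfsg.IsFrobeniusComplement H ∧ Nonempty ((A × B) ≃* H)) ↔
    ((∃ (L : Type) (_ : Group L) (_ : Finite L) (H : Subgroup L), Cfsg.IsFrobeniusComplement H ∧ Nonempty (A ≃* H)) ∧
     (∃ (L : Type) (_ : Group L) (_ : Finite L) (H : Subgroup L), Cfsg.IsFrobeniusComplement H ∧ Nonempty (B ≃* H)) ∧
     (Nat.card A).Coprime (Nat.card B)) := by
  open Cfsg.Agent.Perm.Fpf in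
  constructor
  · intro h
    have hf := hasFpf_of_iso_frobenius h
    exact ⟨(hf.comp (MonoidHom.inl A B) (fun x y e => congrArg Prod.fst e)).complement,
      (hf.comp (MonoidHom.inr A B) (fun x y e => congrArg Prod.snd e)).complement, no_common hf⟩
  · rintro ⟨hA, hB, hc⟩
    exact ((hasFpf_of_iso_frobenius hA).hasIntFpf.prod (hasFpf_of_iso_frobenius hB).hasIntFpf
      hc).complement

end Cfsg.Agent.S4292
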