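import Cfsg.Statements.S4293
import Cfsg.Agent.Lib.Perm.Fpf.Complement

set_option autoImplicit false
open Cfsg

namespace Cfsg.Agent.S4293

universe u

open Cfsg.Agent.Perm.Fpf in
theorem hasFpf_of_units {k : Type} [Field k] {D : Type*} [DivisionRing D] [Algebra k D]
    {X : Type u} [Group X] [Finite X] (f : X →* D) (hf : Function.Injective f) : HasFpf X := by
  let W : Submodule k D := Submodule.span k (Set.range f)
  haveI : FiniteDimensional k W := FiniteDimensional.span_of_finite k (Set.finite_range f)
  haveI : Nontrivial W := ⟨⟨⟨f 1, Submodule.subset_span ⟨1, rfl⟩⟩, 0, fun e =>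
    one_ne_zero (α := D) (by simpa using congrArg Subtype.val e)⟩⟩
  have hW : ∀ a : X, ∀ w ∈ W, f a * w ∈ W := by
    intro a w hw
    have : W ≤ W.comap (LinearMap.mulLeft k (f a)) := Submodule.span_le.2 (by
      rintro _ ⟨b, rfl⟩
      exact Submodule.subset_span ⟨a * b, map_mul f a b⟩)
    exact this hw
  let μ : X →* Module.End k W :=
    { toFun := fun a => (LinearMap.mulLeft k (f a)).restrict (p := W) (q := W) (fun w hw => hW a w hw)
      map_one' := LinearMap.ext fun w => Subtype.ext (by simp)
      map_mul' := fun a b => LinearMap.ext fun w => Subtype.ext (show f (a * b) * (w : D) = f a * (f b * (w : D)) by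
        rw [map_mul, mul_assoc]) }
  refine hasFpf_of_linear μ fun g hg x hx => ?_
  have e : f g * (x : D) = x := congrArg Subtype.val hx
  by_contra hx0
  have h1 := mul_right_cancel₀ (b := (x : D)) (fun h => hx0 (Subtype.ext h)) (e.trans (one_mul _).symm)
  exact hg (hf (h1.trans (map_one f).symm))


/-- A nontrivial finite subgroup of the multiplicative group of a division ring occurs as a Frobenius complement of some finite Frobenius group. -/
theorem result {D : Type*} [DivisionRing D] (H : Subgroup Dˣ) [Finite H] (hH : H ≠ ⊥) :
    ∃ (L : Type) (_ : Group L) (_ : Finite L) (C : Subgroup L), Cfsg.IsFrobeniusComplement C ∧ Nonempty (H ≃* C) := by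
  haveI : Nontrivial H := (Subgroup.nontrivial_iff_ne_bot H).2 hH
  let f : H →* D := (Units.coeHom D).comp H.subtype
  have hf : Function.Injective f := fun a b e => Subtype.ext (Units.ext e)
  rcases CharP.exists D with ⟨c, hc⟩
  rcases CharP.char_is_prime_or_zero D c with hp | hp
  · haveI := Fact.mk hp
    letI := ZMod.algebra D c
    exact (hasFpf_of_units (k := ZMod c) f hf).complement
  · subst hp
    haveI := CharP.charP_to_charZero D
    exact (hasFpf_of_units (k := ℚ) f hf).complement

end Cfsg.Agent.S4293
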