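import Cfsg.Statements.S4294
import Cfsg.Agent.S3359
import Cfsg.Agent.S4293
import Cfsg.Agent.Lib.Lie.Amitsur.Main
-- import your own Cfsg.Agent.* helpers here

set_option autoImplicit false
open Cfsg

namespace Cfsg.Agent.S4294

/-- A finite non-solvable subgroup of the multiplicative group of a division ring is isomorphic to the binary icosahedral group SL(2,5). -/
theorem result {D : Type*} [DivisionRing D] (H : Subgroup Dˣ) [Finite H] (hH : ¬ Group.IsSolvable H) :
    Nonempty (H ≃* Matrix.SpecialLinearGroup (Fin 2) (ZMod 5)) := by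
  classical
  set f : H →* D := (Units.coeHom D).comp H.subtype with hfdef
  have hf : Function.Injective f := fun a b e => Subtype.ext (Units.ext e)
  haveI : CharZero D := by
    rcases CharP.exists D with ⟨c, hc⟩
    rcases CharP.char_is_prime_or_zero D c with hp | hp
    · exfalso
      haveI := Fact.mk hp
      exact hH (Group.isSolvable_of_comm (Cfsg.Agent.Lie.Amitsur.commute_of_charP c f hf))
    · subst hp
      exact CharP.charP_to_charZero D
  have hne : H ≠ ⊥ := fun e => hH (by subst e; exact Group.isSolvable_of_comm fun a b => Subsingleton.elim _ _)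
  obtain ⟨L, iL, fL, C, hC, hiso⟩ := Cfsg.Agent.S4293.result H hne
  obtain ⟨G₀, hn, hidx, S, M, hSM, -, hcomm, ⟨e⟩, -, hcop⟩ :=
    Cfsg.Agent.S3359.result hH ⟨L, iL, fL, C, hC, hiso⟩
  set ι : Cfsg.Agent.Lie.Amitsur.SLFive →* H := S.subtype.comp e.symm.toMonoidHom with hιdef
  have hι : Function.Injective ι := fun a b h => e.symm.injective (Subtype.ext h)
  have hr : ι.range = S := by
    ext x
    constructor
    · rintro ⟨a, rfl⟩; exact (e.symm a).2
    · exact fun hx => ⟨e ⟨x, hx⟩, by simp [hιdef]⟩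
  have hM : M = ⊥ := by
    by_contra hM
    have hcard : Nat.card M ≠ 1 := fun h => hM (Subgroup.card_eq_one.1 h)
    obtain ⟨p, hp, hpd⟩ := Nat.exists_prime_and_dvd hcard
    haveI := Fact.mk hp
    obtain ⟨m, hm⟩ := exists_prime_orderOf_dvd_card' p hpd
    have h30 : ¬ p ∣ 30 := fun h => hp.one_lt.ne' (Nat.eq_one_of_dvd_coprimes hcop hpd h)
    have h7 : 7 ≤ p := by
      by_contra h
      have := hp.two_le
      interval_cases p <;> first | (norm_num at h30; done) | (norm_num at hp; done)
    have hone : f (m : H) = 1 := Cfsg.Agent.Lie.Amitsur.no_central_prime (f.comp ι) (hf.comp hι)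
      (fun X => by
        show f (m : H) * f (ι X) = f (ι X) * f (m : H)
        rw [← map_mul, ← map_mul, hcomm (ι X) (e.symm X).2 (m : H) m.2])
      hp h7 (by rw [← map_pow, ← Subgroup.coe_pow, ← hm, pow_orderOf_eq_one]; simp)
    have hm1 : m = 1 := Subtype.ext (hf (by simpa using hone))
    rw [hm1, orderOf_one] at hm
    exact hp.one_lt.ne hm
  have hG₀ : G₀ = S := by rw [← hSM, hM, sup_bot_eq]
  rcases hidx with h1 | h2
  · rw [Subgroup.index_eq_one, hG₀] at h1
    exact ⟨(Subgroup.topEquiv.symm.trans (MulEquiv.subgroupCongr h1.symm)).trans e⟩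
  · exact (Cfsg.Agent.Lie.Amitsur.no_index_two f hf ι hι (hr ▸ hG₀ ▸ hn) (hr ▸ hG₀ ▸ h2)).elim


end Cfsg.Agent.S4294
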