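import Cfsg.Statements.S4296
import Cfsg.Agent.Lib.Perm.Fpf.Complement

set_option autoImplicit false
open Cfsg

namespace Cfsg.Agent.S4296

universe u v

theorem even_finrank {r : ℕ} [Fact r.Prime] (hr : r ≠ 2) {W : Type v} [AddCommGroup W]
    [Module (ZMod r) W] [Finite W] (I J : Module.End (ZMod r) W) (hI : IsUnit I) (hJ : IsUnit J)
    (h : I * J = -(J * I)) : Even (Module.finrank (ZMod r) W) := by
  haveI : Module.Finite (ZMod r) W := Module.Finite.of_finite
  have h1 := congrArg LinearMap.det h
  rw [← neg_one_smul (ZMod r) (J * I), LinearMap.det_smul, map_mul, map_mul,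
    mul_comm (LinearMap.det J)] at h1
  have h0 : LinearMap.det I * LinearMap.det J ≠ 0 :=
    mul_ne_zero (hI.map LinearMap.det).ne_zero (hJ.map LinearMap.det).ne_zero
  have h2 : (-1 : ZMod r) ^ Module.finrank (ZMod r) W = 1 :=
    mul_right_cancel₀ h0 (h1.symm.trans (one_mul _).symm)
  haveI : NeZero (2 : ZMod r) := ⟨by
    rw [show (2 : ZMod r) = ((2 : ℕ) : ZMod r) by norm_num, Ne, ZMod.natCast_eq_zero_iff]
    intro hd
    exact hr ((Nat.prime_dvd_prime_iff_eq Fact.out Nat.prime_two).1 hd)⟩
  exact (neg_one_pow_eq_one_iff_even fun e => two_ne_zero (α := ZMod r) (by linear_combination -e)).1 h2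

theorem exponent_square {X : Type u} [Group X] {i j z : X} (hij : i * j = z * (j * i))
    {W : Type v} [CommGroup W] [Finite W] {r : ℕ} [Fact r.Prime] (hr : r ≠ 2)
    (hexp : ∀ x : W, x ^ r = 1) (φ : X →* MulAut W) (hz : ∀ x, φ z x = x⁻¹) :
    IsSquare (Nat.card W) := by
  haveI : Module (ZMod r) (Additive W) :=
    AddCommGroup.zmodModule (fun v => hexp (Additive.toMul v))
  let endOf : X →* Module.End (ZMod r) (Additive W) :=
    { toFun := fun g => (MonoidHom.toAdditive (φ g).toMonoidHom).toZModLinearMap r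
      map_one' := LinearMap.ext fun _ => by simp
      map_mul' := fun _ _ => LinearMap.ext fun _ => by simp }
  have hu : ∀ g, IsUnit (endOf g) := fun g => (Group.isUnit g).map endOf
  obtain ⟨d, hd⟩ := even_finrank hr (endOf i) (endOf j) (hu i) (hu j) (by
    rw [← map_mul, hij, map_mul, map_mul]
    refine LinearMap.ext fun x => ?_
    show endOf z (endOf j (endOf i x)) = -(endOf j (endOf i x))
    exact congrArg Additive.ofMul (hz _))
  haveI : Module.Finite (ZMod r) (Additive W) := Module.Finite.of_finite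
  refine ⟨r ^ d, ?_⟩
  have := Module.natCard_eq_pow_finrank (K := ZMod r) (V := Additive W)
  rw [Nat.card_zmod, hd, pow_add] at this
  exact this

theorem comm_square {X : Type u} [Group X] {i j z : X} (hij : i * j = z * (j * i)) (n : ℕ) :
    ∀ (W : Type v) [CommGroup W] [Finite W] (φ : X →* MulAut W), (∀ x, φ z x = x⁻¹) →
      Odd (Nat.card W) → Nat.card W = n → IsSquare n := by
  induction n using Nat.strong_induction_on with
  | _ n ih =>
    intro W _ _ φ hz hodd hn
    by_cases h1 : n = 1
    · exact h1 ▸ IsSquare.one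
    obtain ⟨r, hr, hrn⟩ := Nat.exists_prime_and_dvd h1
    haveI := Fact.mk hr
    let p : W →* W := powMonoidHom r
    have hk : ∀ g, ∀ x ∈ p.ker, φ g x ∈ p.ker := fun g x hx => by
      show φ g x ^ r = 1
      rw [← map_pow, show x ^ r = 1 from hx, map_one]
    have hR : ∀ g, ∀ x ∈ p.range, φ g x ∈ p.range := by
      rintro g _ ⟨y, rfl⟩
      exact ⟨φ g y, (map_pow (φ g) y r).symm⟩
    let res : ∀ (U : Subgroup W), (∀ g, ∀ x ∈ U, φ g x ∈ U) → (X →* MulAut U) := fun U hU =>
      { toFun := fun g =>
          { toFun := fun x => ⟨φ g x, hU g x x.2⟩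
            invFun := fun x => ⟨φ g⁻¹ x, hU g⁻¹ x x.2⟩
            left_inv := fun x => Subtype.ext (by simp)
            right_inv := fun x => Subtype.ext (by simp)
            map_mul' := fun x y => Subtype.ext (map_mul (φ g) (x : W) y) }
        map_one' := MulEquiv.ext fun x => Subtype.ext (by simp)
        map_mul' := fun a b => MulEquiv.ext fun x => Subtype.ext (by simp) }
    have hr2 : r ≠ 2 := by
      rintro rfl
      rw [← hn] at hrn
      exact (Nat.not_even_iff_odd.2 hodd) (even_iff_two_dvd.2 hrn)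
    have hK : IsSquare (Nat.card p.ker) :=
      exponent_square (W := p.ker) hij hr2 (fun x => Subtype.ext x.2) (res p.ker hk)
        (fun x => Subtype.ext (hz x))
    have hsplit : Nat.card p.ker * Nat.card p.range = n := by
      rw [← hn, ← Subgroup.index_ker, Subgroup.card_mul_index]
    have hlt : Nat.card p.range < n := by
      obtain ⟨x, hx⟩ := exists_prime_orderOf_dvd_card' (G := W) r (hn ▸ hrn)
      have h2 : 1 < Nat.card p.ker := by
        refine Finite.one_lt_card_iff_nontrivial.2 ⟨⟨x, ?_⟩, 1, fun e => hr.ne_one ?_⟩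
        · show x ^ r = 1
          rw [← hx, pow_orderOf_eq_one]
        · rw [← hx, show x = 1 from congrArg Subtype.val e, orderOf_one]
      have h3 : 0 < Nat.card p.range := Nat.card_pos
      nlinarith
    have hRs := ih _ hlt p.range (res p.range hR) (fun x => Subtype.ext (hz x))
      (hodd.of_dvd_nat (Subgroup.card_subgroup_dvd_card p.range)) rfl
    exact hsplit ▸ hK.mul hRs

/-- A fixed-point-free action of a group with an anticommuting pair. -/
theorem odd_square {X : Type u} [Group X] {i j z : X} (hz2 : z * z = 1) (hz1 : z ≠ 1)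
    (hij : i * j = z * (j * i)) {W : Type v} [Group W] [Finite W] (φ : X →* MulAut W)
    (hφ : ∀ g, g ≠ 1 → ∀ x, φ g x = x → x = 1) :
    Odd (Nat.card W) ∧ IsSquare (Nat.card W) := by
  have hf : MonoidHom.FixedPointFree (φ z) := hφ z hz1
  have hi : Function.Involutive (φ z) := fun x => by
    rw [← MulAut.mul_apply, ← map_mul, hz2, map_one]; rfl
  have hinv := hf.coe_eq_inv_of_involutive hi
  letI : CommGroup W := MonoidHom.FixedPointFree.commGroupOfInvolutive hf hi
  have hodd := hf.odd_card_of_involutive hi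
  exact ⟨hodd, comm_square hij _ W φ (fun x => congrFun hinv x) hodd rfl⟩

/-- The action of a complement on the kernel. -/
theorem kernel_square {L : Type u} [Group L] [Finite L] {H : Subgroup L}
    (hF : Cfsg.IsFrobeniusComplement H) {i j z : H} (hz2 : z * z = 1) (hz1 : z ≠ 1)
    (hij : i * j = z * (j * i)) :
    Odd (Nat.card (Cfsg.frobeniusKernel H)) ∧ IsSquare (Nat.card (Cfsg.frobeniusKernel H)) := by
  obtain ⟨N, hN, hNn, hc⟩ := Cfsg.Agent.Solv.frobenius_theorem hF
  haveI := hNn
  have hcard : Nat.card (Cfsg.frobeniusKernel H) = Nat.card N :=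
    Nat.card_congr (Equiv.setCongr hN.symm)
  rw [hcard]
  refine odd_square hz2 hz1 hij ((MulAut.conjNormal (H := N)).comp H.subtype) fun g hg x hx => ?_
  have e : (g : L) * x * (g : L)⁻¹ = x := by
    have := congrArg Subtype.val hx
    simpa using this
  have h1 : (x : L) ∈ N ⊓ Subgroup.centralizer {(g : L)} :=
    ⟨x.2, Subgroup.mem_centralizer_singleton_iff.2 (mul_inv_eq_iff_eq_mul.1 e).symm⟩
  rw [Cfsg.Agent.Solv.frob_fpf hF hc.disjoint.eq_bot g.2 (fun h => hg (Subtype.ext h)),
    Subgroup.mem_bot] at h1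
  exact Subtype.ext h1

theorem quaternion_pair {m : ℕ} [NeZero m] :
    let i : QuaternionGroup (2 * m) := .a (m : ℕ)
    let j : QuaternionGroup (2 * m) := .xa 0
    let z : QuaternionGroup (2 * m) := .a ((2 * m : ℕ))
    z * z = 1 ∧ z ≠ 1 ∧ i * j = z * (j * i) := by
  refine ⟨?_, fun h => ?_, ?_⟩
  · rw [QuaternionGroup.a_mul_a, ← Nat.cast_add, ← two_mul, ZMod.natCast_self]; rfl
  · rw [QuaternionGroup.one_def] at h
    have := QuaternionGroup.a.inj h
    rw [ZMod.natCast_eq_zero_iff] at this
    have h1 := Nat.le_of_dvd (by have := NeZero.pos m; omega) this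
    have := NeZero.pos m
    omega
  · rw [QuaternionGroup.a_mul_xa, QuaternionGroup.xa_mul_a, QuaternionGroup.a_mul_xa]
    congr 1
    push_cast
    ring


/-- Let H be a Frobenius complement in a finite group, and suppose some Sylow subgroup of H is not cyclic. Then the number of elements of the Frobenius kernel (the identity together with the elements lying in no conjugate of H) is an odd perfect square. -/
theorem result {L : Type*} [Group L] [Finite L] (H : Subgroup L) (hF : Cfsg.IsFrobeniusComplement H)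
    (hZ : ∃ (p : ℕ) (_ : Fact p.Prime) (P : Sylow p H), ¬ IsCyclic P) :
    Odd (Nat.card (Cfsg.frobeniusKernel H)) ∧ IsSquare (Nat.card (Cfsg.frobeniusKernel H)) := by
  open Cfsg.Agent.Perm.Fpf in
  obtain ⟨p, hp, P, hP⟩ := hZ
  refine (hasFpf_of_frobenius hF).elim fun ρ hρ => ?_
  by_cases h2 : p = 2
  swap
  · exact absurd (hρ.isCyclic_of_odd h2 (P : Subgroup H) P.isPGroup') hP
  subst h2
  rcases hρ.isCyclic_or_quaternion (P : Subgroup H) P.isPGroup' with hcy | ⟨-, k, ⟨e⟩⟩
  · exact absurd hcy hP
  obtain ⟨l, rfl⟩ : ∃ l, k = l + 1 := by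
    refine Nat.exists_eq_succ_of_ne_zero fun hk => hP ?_
    subst hk
    haveI : IsCyclic (QuaternionGroup (2 ^ 0)) := QuaternionGroup.quaternionGroup_one_isCyclic
    exact isCyclic_of_surjective e.symm.toMonoidHom e.symm.surjective
  let f : QuaternionGroup (2 ^ (l + 1)) →* H := (P : Subgroup H).subtype.comp e.symm.toMonoidHom
  have hf : Function.Injective f :=
    (P : Subgroup H).subtype_injective.comp e.symm.injective
  haveI : NeZero (2 ^ l) := ⟨by positivity⟩
  have key : ∀ n, n = 2 * 2 ^ l → ∀ f : QuaternionGroup n →* H, Function.Injective f →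
      Odd (Nat.card (Cfsg.frobeniusKernel H)) ∧ IsSquare (Nat.card (Cfsg.frobeniusKernel H)) := by
    rintro n rfl f hf
    obtain ⟨h1, h2, h3⟩ := quaternion_pair (m := 2 ^ l)
    exact kernel_square hF (i := f (.a (((2 ^ l : ℕ) : ZMod (2 * (2 * 2 ^ l)))))) (j := f (.xa 0))
      (z := f (.a (((2 * 2 ^ l : ℕ) : ZMod (2 * (2 * 2 ^ l))))))
      (by rw [← map_mul, h1, map_one]) ((map_ne_one_iff f hf).2 h2)
      (by rw [← map_mul, h3, map_mul, map_mul])
  exact key _ (pow_succ' 2 l) f hf

end Cfsg.Agent.S4296
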