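import Cfsg.Statements.S4295
import Cfsg.Agent.Lib.Perm.Fpf.Complement
import Cfsg.Agent.S4296

set_option autoImplicit false
open Cfsg

namespace Cfsg.Agent.S4295

open Cfsg.Agent.Perm.Fpf

/-- The quaternion group acts fixed-point-freely on a group of order `m`. -/
def Acts (m : ℕ) : Prop :=
  ∃ (V : Type) (_ : Group V) (_ : Finite V) (φ : QuaternionGroup 2 →* MulAut V),
    (∀ g, g ≠ 1 → ∀ x, φ g x = x → x = 1) ∧ Nat.card V = m

theorem Acts.mul {a b : ℕ} (ha : Acts a) (hb : Acts b) : Acts (a * b) := by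
  obtain ⟨V, _, _, φ, hφ, rfl⟩ := ha
  obtain ⟨W, _, _, ψ, hψ, rfl⟩ := hb
  refine ⟨V × W, inferInstance, inferInstance,
    { toFun := fun g => (φ g).prodCongr (ψ g)
      map_one' := MulEquiv.ext fun x => by rw [map_one, map_one]; rfl
      map_mul' := fun g h => MulEquiv.ext fun x => by rw [map_mul, map_mul]; rfl }, fun g hg x hx => ?_, Nat.card_prod _ _⟩
  exact Prod.ext (hφ g hg _ (congrArg Prod.fst hx)) (hψ g hg _ (congrArg Prod.snd hx))

theorem acts_one : Acts 1 :=
  ⟨PUnit, inferInstance, inferInstance, 1, fun _ _ _ _ => rfl, Nat.card_unique⟩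

theorem cases_facts : ∀ g : QuaternionGroup 2, g ≠ 1 →
    g = QuaternionGroup.a 2 ∨ g * g = QuaternionGroup.a 2 := by decide +kernel

theorem acts_prime {p : ℕ} [Fact p.Prime] (hp : p ≠ 2) : Acts (p * p) := by
  obtain ⟨a, b, hab⟩ := ZMod.sq_add_sq p (-1)
  let I : Matrix (Fin 2) (Fin 2) (ZMod p) := !![0, -1; 1, 0]
  let J : Matrix (Fin 2) (Fin 2) (ZMod p) := !![a, b; b, -a]
  have hI2 : I ^ 2 = -1 := by simp [I, sq, Matrix.one_fin_two]
  have hJ2 : J * J = I ^ 2 := by
    rw [hI2]
    ext i j; fin_cases i <;> fin_cases j <;> simp [J, Matrix.mul_apply, Fin.sum_univ_two] <;>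
      first | linear_combination hab | ring
  have hI4 : I ^ 4 = 1 := by rw [show 4 = 2 * 2 from rfl, pow_mul, hI2, neg_one_sq]
  have hIJ : I * J = J * I ^ 3 := by
    rw [pow_succ, hI2, neg_one_mul, mul_neg]
    ext i j; fin_cases i <;> fin_cases j <;> simp [I, J, Matrix.mul_apply, Fin.sum_univ_two]
  have hIkJ : ∀ k : ℕ, I ^ k * J = J * I ^ (3 * k) := by
    intro k
    induction k with
    | zero => simp
    | succ k ih =>
      rw [pow_succ, mul_assoc, hIJ, ← mul_assoc, ih, mul_assoc, ← pow_add]
      rfl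
  have hmod : ∀ m n : ℕ, m % 4 = n % 4 → I ^ m = I ^ n := fun m n h => by
    rw [pow_eq_pow_mod m hI4, h, ← pow_eq_pow_mod n hI4]
  have hv : ∀ (c : ℕ), ((c : ZMod (2 * 2))).val = c % 4 := fun c => ZMod.val_natCast _ c
  let μ : QuaternionGroup 2 →* Matrix (Fin 2) (Fin 2) (ZMod p) :=
    { toFun := fun g => match g with
        | .a i => I ^ i.val
        | .xa i => J * I ^ i.val
      map_one' := pow_zero I
      map_mul' := fun x y => by
        rcases x with i | i <;> rcases y with j | j <;>
          simp only [QuaternionGroup.a_mul_a, QuaternionGroup.a_mul_xa, QuaternionGroup.xa_mul_a,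
            QuaternionGroup.xa_mul_xa]
        · rw [← pow_add]; exact hmod _ _ (by rw [ZMod.val_add]; omega)
        · rw [← mul_assoc, hIkJ, mul_assoc, ← pow_add]
          congr 1
          exact hmod _ _ (by revert i j; decide)
        · rw [mul_assoc, ← pow_add]; congr 1; exact hmod _ _ (by rw [ZMod.val_add]; omega)
        · rw [mul_assoc, ← mul_assoc (I ^ _) J, hIkJ, ← mul_assoc, ← mul_assoc, hJ2, ← pow_add,
            ← pow_add]
          exact hmod _ _ (by revert i j; decide) }
  haveI : NeZero p := ⟨(Fact.out : p.Prime).ne_zero⟩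
  have hz : μ (.a 2) = -1 := hI2
  have h2 : (2 : ZMod p) ≠ 0 := by
    rw [show (2 : ZMod p) = ((2 : ℕ) : ZMod p) by norm_num, Ne, ZMod.natCast_eq_zero_iff]
    exact fun hd => hp ((Nat.prime_dvd_prime_iff_eq Fact.out Nat.prime_two).1 hd)
  have hfix : ∀ g, g ≠ 1 → ∀ x, (μ g).mulVec x = x → x = 0 := by
    intro g hg x hx
    have : (μ (.a 2)).mulVec x = x := by
      rcases cases_facts g hg with e | e
      · rw [← e]; exact hx
      · rw [← e, map_mul, ← Matrix.mulVec_mulVec, hx, hx]
    rw [hz, Matrix.neg_mulVec, Matrix.one_mulVec] at this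
    funext i
    have := congrFun this i
    simp only [Pi.neg_apply] at this
    exact (mul_eq_zero.1 (show (2 : ZMod p) * x i = 0 by linear_combination -this)).resolve_left h2
  let φ : QuaternionGroup 2 →* MulAut (Multiplicative (Fin 2 → ZMod p)) :=
    { toFun := fun g =>
        { toFun := fun x => Multiplicative.ofAdd ((μ g).mulVec x.toAdd)
          invFun := fun x => Multiplicative.ofAdd ((μ g⁻¹).mulVec x.toAdd)
          left_inv := fun x => by
            simp only [toAdd_ofAdd]
            rw [Matrix.mulVec_mulVec, ← map_mul, inv_mul_cancel, map_one, Matrix.one_mulVec]; rfl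
          right_inv := fun x => by
            simp only [toAdd_ofAdd]
            rw [Matrix.mulVec_mulVec, ← map_mul, mul_inv_cancel, map_one, Matrix.one_mulVec]; rfl
          map_mul' := fun x y => congrArg Multiplicative.ofAdd (Matrix.mulVec_add _ _ _) }
      map_one' := MulEquiv.ext fun x => by
        show Multiplicative.ofAdd ((μ 1).mulVec x.toAdd) = x
        rw [map_one, Matrix.one_mulVec]; rfl
      map_mul' := fun a b => MulEquiv.ext fun x => by
        show Multiplicative.ofAdd ((μ (a * b)).mulVec x.toAdd) =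
          Multiplicative.ofAdd ((μ a).mulVec ((μ b).mulVec x.toAdd))
        rw [map_mul, Matrix.mulVec_mulVec] }
  refine ⟨_, inferInstance, inferInstance, φ, fun g hg x hx =>
    Multiplicative.toAdd.injective (hfix g hg x.toAdd (congrArg Multiplicative.toAdd hx)), ?_⟩
  simp [sq]

theorem acts_square (s : ℕ) : Odd s → Acts (s * s) := by
  induction s using Nat.recOnMul with
  | zero => intro h; exact absurd h (by decide)
  | one => exact fun _ => acts_one
  | prime p hp =>
    intro h
    haveI := Fact.mk hp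
    exact acts_prime fun e => by rw [e] at h; exact absurd h (by decide)
  | mul a b ha hb =>
    intro h
    rw [mul_mul_mul_comm]
    exact (ha (Nat.odd_mul.1 h).1).mul (hb (Nat.odd_mul.1 h).2)


/-- For a natural number m the following are equivalent: (a) some finite group has a Frobenius complement isomorphic to the quaternion group of order 8 whose Frobenius kernel (the identity together with the elements lying in no conjugate of the complement) has exactly m elements; (b) m is an odd perfect square greater than 1. -/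
theorem result (m : ℕ) :
    (∃ (L : Type) (_ : Group L) (_ : Finite L) (H : Subgroup L), Cfsg.IsFrobeniusComplement H ∧
        Nonempty (H ≃* QuaternionGroup 2) ∧ Nat.card (Cfsg.frobeniusKernel H) = m) ↔
    (Odd m ∧ IsSquare m ∧ 1 < m) := by
  constructor
  · rintro ⟨L, _, _, H, hH, ⟨e⟩, rfl⟩
    obtain ⟨h1, h2, h3⟩ := Cfsg.Agent.S4296.quaternion_pair (m := 1)
    obtain ⟨ho, hs⟩ := Cfsg.Agent.S4296.kernel_square hH (i := e.symm (.a 1)) (j := e.symm (.xa 0))
      (z := e.symm (.a 2)) (by rw [← map_mul]; exact e.symm.map_eq_one_iff.2 h1)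
      (fun h => h2 (e.symm.map_eq_one_iff.1 h))
      (by rw [← map_mul, ← map_mul, ← map_mul]; exact congrArg e.symm h3)
    refine ⟨ho, hs, ?_⟩
    rw [Cfsg.Agent.Solv.frob_kernel_card hH]
    have := H.index_ne_zero_of_finite
    have h4 : H.index ≠ 1 := fun h => hH.2.1 (Subgroup.index_eq_one.1 h)
    omega
  · rintro ⟨ho, ⟨s, rfl⟩, h1⟩
    obtain ⟨V, _, _, φ, hφ, hc⟩ := acts_square s (Nat.odd_mul.1 ho).1
    haveI : Nontrivial V := Finite.one_lt_card_iff_nontrivial.1 (by omega)
    haveI : Nontrivial (QuaternionGroup 2) := ⟨⟨.xa 0, 1, fun e => by cases e⟩⟩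
    obtain ⟨L, i1, i2, H, hH, ⟨e⟩, hk⟩ := Cfsg.Agent.Perm.Fpf.complement_of_action φ hφ
    exact ⟨L, i1, i2, H, hH, ⟨e.symm⟩, hk.trans hc⟩

end Cfsg.Agent.S4295
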