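import Cfsg.Statements.S4297
import Cfsg.Agent.Lib.Perm.Fpf.Complement

set_option autoImplicit false
open Cfsg

namespace Cfsg.Agent.S4297

/-- A two-dimensional representation of the dicyclic group. -/
noncomputable def rep (n : ℕ) [NeZero n] : QuaternionGroup n →* Matrix (Fin 2) (Fin 2) ℂ where
  toFun
    | .a i => !![ZMod.stdAddChar i, 0; 0, ZMod.stdAddChar (-i)]
    | .xa i => !![0, ZMod.stdAddChar (-i); -ZMod.stdAddChar i, 0]
  map_one' := by
    show !![ZMod.stdAddChar (0 : ZMod (2 * n)), 0; 0, ZMod.stdAddChar (-0 : ZMod (2 * n))] = 1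
    simp [Matrix.one_fin_two]
  map_mul' x y := by
    have hne : (n : ZMod (2 * n)) ≠ 0 := by
      rw [Ne, ZMod.natCast_eq_zero_iff]
      intro h
      have := Nat.le_of_dvd (NeZero.pos n) h
      have := NeZero.pos n
      omega
    have h2 : (n : ZMod (2 * n)) + n = 0 := by rw [← two_mul, ← Nat.cast_two (R := ZMod (2 * n)), ← Nat.cast_mul, ZMod.natCast_self]
    have hn : ZMod.stdAddChar (n : ZMod (2 * n)) = (-1 : ℂ) := by
      rcases mul_self_eq_one_iff.1 (by rw [← AddChar.map_add_eq_mul, h2, AddChar.map_zero_eq_one] :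
        ZMod.stdAddChar (n : ZMod (2 * n)) * ZMod.stdAddChar (n : ZMod (2 * n)) = (1 : ℂ)) with h | h
      · exact absurd (ZMod.injective_stdAddChar (h.trans (AddChar.map_zero_eq_one _).symm)) hne
      · exact h
    have hn' : ZMod.stdAddChar (-(n : ZMod (2 * n))) = (-1 : ℂ) := by
      rw [neg_eq_of_add_eq_zero_right h2, hn]
    cases x <;> cases y <;>
      simp only [QuaternionGroup.a_mul_a, QuaternionGroup.a_mul_xa, QuaternionGroup.xa_mul_a,
        QuaternionGroup.xa_mul_xa] <;>
      ext i j <;> fin_cases i <;> fin_cases j <;>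
      simp [Matrix.mul_apply, Fin.sum_univ_two, ← AddChar.map_add_eq_mul, sub_eq_add_neg, neg_add_rev,
        add_comm] <;>
      simp [AddChar.map_add_eq_mul, hn, hn'] <;> ring


/-- For every n ≥ 2 the dicyclic group of order 4n (generated by an element a of order 2n and an element x with x² = aⁿ and x a x⁻¹ = a⁻¹) occurs as a Frobenius complement of some finite Frobenius group. -/
theorem result (n : ℕ) (hn : 2 ≤ n) :
    ∃ (L : Type) (_ : Group L) (_ : Finite L) (H : Subgroup L), Cfsg.IsFrobeniusComplement H ∧ Nonempty (H ≃* QuaternionGroup n) := by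
  haveI : NeZero n := ⟨by omega⟩
  haveI : Nontrivial (QuaternionGroup n) := ⟨⟨.xa 0, 1, fun e => by cases e⟩⟩
  obtain ⟨L, i1, i2, H, hH, ⟨e⟩⟩ := (Cfsg.Agent.Perm.Fpf.hasFpf_of_matrix (F := ℂ) (n := 2)
    (by norm_num) (rep n) fun g hg => by
      rw [Matrix.isUnit_iff_isUnit_det, isUnit_iff_ne_zero]
      cases g with
      | a i =>
        have h1 : i ≠ 0 := fun h => hg (by rw [h]; rfl)
        have h2 : ∀ j : ZMod (2 * n), j ≠ 0 → ZMod.stdAddChar j - 1 ≠ (0 : ℂ) := fun j hj h =>
          hj (ZMod.injective_stdAddChar ((sub_eq_zero.1 h).trans (AddChar.map_zero_eq_one _).symm))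
        simpa [rep, Matrix.det_fin_two] using mul_ne_zero (h2 i h1) (h2 (-i) (neg_ne_zero.2 h1))
      | xa i =>
        have h1 : ZMod.stdAddChar i * ZMod.stdAddChar (-i) = (1 : ℂ) := by
          rw [← AddChar.map_add_eq_mul, add_neg_cancel, AddChar.map_zero_eq_one]
        simp only [rep, MonoidHom.coe_mk, OneHom.coe_mk, Matrix.det_fin_two, Matrix.sub_apply,
          Matrix.one_fin_two]
        norm_num
        rw [mul_comm, h1]
        norm_num).complement
  exact ⟨L, i1, i2, H, hH, ⟨e.symm⟩⟩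

end Cfsg.Agent.S4297
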