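import Cfsg.Statements.S4298
import Cfsg.Agent.Lib.Perm.Fpf.Complement

set_option autoImplicit false
open Cfsg

namespace Cfsg.Agent.S4298

/-- The images of the matrices, in lexicographic order of their entries. -/
def table : List (ZMod 5 × ZMod 5 × ZMod 5 × ZMod 5) := [(1, 0, 0, 1), (1, 0, 0, 1), (1, 0, 0, 1), (1, 0, 0, 1), (1, 0, 0, 1), (1, 0, 0, 1), (1, 0, 0, 1), (1, 0, 0, 1), (1, 0, 0, 1), (1, 0, 0, 1), (1, 0, 0, 1), (1, 0, 0, 1), (1, 0, 0, 1), (1, 0, 0, 1), (1, 0, 0, 1), (0, 4, 1, 0), (2, 4, 3, 4), (3, 2, 1, 1), (1, 0, 0, 1), (1, 0, 0, 1), (1, 0, 0, 1), (0, 1, 4, 0), (2, 3, 4, 4), (3, 1, 2, 1), (1, 0, 0, 1), (1, 0, 0, 1), (1, 0, 0, 1), (1, 0, 0, 1), (1, 0, 0, 1), (1, 0, 0, 1), (1, 0, 0, 1), (1, 2, 1, 3), (1, 0, 0, 1), (1, 0, 0, 1), (3, 3, 4, 1), (1, 0, 0, 1), (1, 0, 0, 1), (1, 1, 2, 3), (1, 0, 0, 1), (1, 0, 0, 1), (1, 0, 0, 1), (0, 2, 2, 0), (4, 2, 1, 2), (1, 0, 0,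 1), (1, 0, 0, 1), (1, 0, 0, 1), (3, 4, 3, 1), (1, 0, 0, 1), (4, 1, 2, 2), (1, 0, 0, 1), (1, 0, 0, 1), (1, 0, 0, 1), (1, 0, 0, 1), (3, 0, 0, 2), (1, 0, 0, 1), (1, 0, 0, 1), (4, 0, 0, 4), (1, 0, 0, 1), (1, 0, 0, 1), (2, 2, 1, 4), (1, 0, 0, 1), (1, 0, 0, 1), (4, 3, 4, 2), (1, 0, 0, 1), (1, 0, 0, 1), (2, 1, 2, 4), (1, 0, 0, 1), (2, 0, 0, 3), (1, 0, 0, 1), (1, 4, 3, 3), (1, 0, 0, 1), (1, 0, 0, 1), (1, 0, 0, 1), (1, 0, 0, 1), (4, 4, 3, 2), (1, 3, 4, 3), (1, 0, 0, 1), (1, 0, 0, 1), (1, 0, 0, 1), (0, 3, 3, 0), (1, 0, 0, 1)]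

/-- The image of a matrix given by its entries. -/
def img (a b c d : ZMod 3) : ZMod 5 × ZMod 5 × ZMod 5 × ZMod 5 :=
  table.getD (27 * a.val + 9 * b.val + 3 * c.val + d.val) (1, 0, 0, 1)

/-- Multiplication of matrices given by their entries. -/
def times (x y : ZMod 5 × ZMod 5 × ZMod 5 × ZMod 5) : ZMod 5 × ZMod 5 × ZMod 5 × ZMod 5 :=
  (x.1 * y.1 + x.2.1 * y.2.2.1, x.1 * y.2.1 + x.2.1 * y.2.2.2,
   x.2.2.1 * y.1 + x.2.2.2 * y.2.2.1, x.2.2.1 * y.2.1 + x.2.2.2 * y.2.2.2)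

theorem img_mul : ∀ a b c d : ZMod 3, a * d - b * c = 1 → ∀ e f g h : ZMod 3, e * h - f * g = 1 →
    img (a * e + b * g) (a * f + b * h) (c * e + d * g) (c * f + d * h) =
      times (img a b c d) (img e f g h) := by decide +kernel

theorem img_fpf : ∀ a b c d : ZMod 3, a * d - b * c = 1 → ¬ (a = 1 ∧ b = 0 ∧ c = 0 ∧ d = 1) →
    ((img a b c d).1 - 1) * ((img a b c d).2.2.2 - 1) - (img a b c d).2.1 * (img a b c d).2.2.1 ≠ 0 := by
  decide +kernel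

theorem img_one : img 1 0 0 1 = (1, 0, 0, 1) := by decide +kernel

/-- The two-dimensional representation over the field with five elements. -/
def rep : Matrix.SpecialLinearGroup (Fin 2) (ZMod 3) →* Matrix (Fin 2) (Fin 2) (ZMod 5) where
  toFun A := let q := img (A 0 0) (A 0 1) (A 1 0) (A 1 1); !![q.1, q.2.1; q.2.2.1, q.2.2.2]
  map_one' := by simp [img_one, Matrix.one_fin_two]
  map_mul' A B := by
    have hA := A.det_coe
    have hB := B.det_coe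
    rw [Matrix.det_fin_two] at hA hB
    have := img_mul _ _ _ _ hA _ _ _ _ hB
    simp only [Matrix.SpecialLinearGroup.coe_mul, Matrix.mul_apply, Fin.sum_univ_two, this]
    simp [times, Matrix.mul_fin_two]


/-- The group SL(2,3) of order 24 (the binary tetrahedral group) occurs as a Frobenius complement of some finite Frobenius group. -/
theorem result :
    ∃ (L : Type) (_ : Group L) (_ : Finite L) (H : Subgroup L), Cfsg.IsFrobeniusComplement H ∧ Nonempty (H ≃* Matrix.SpecialLinearGroup (Fin 2) (ZMod 3)) := by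
  haveI : Fact (Nat.Prime 5) := ⟨by norm_num⟩
  haveI : Fact (Nat.Prime 3) := ⟨by norm_num⟩
  haveI : Nontrivial (Matrix.SpecialLinearGroup (Fin 2) (ZMod 3)) :=
    ⟨⟨⟨!![1, 1; 0, 1], by simp [Matrix.det_fin_two]⟩, 1, fun e => by
      have := congrArg (fun M : Matrix.SpecialLinearGroup (Fin 2) (ZMod 3) => M 0 1) e
      simp at this⟩⟩
  obtain ⟨L, i1, i2, H, hH, ⟨e⟩⟩ := (Cfsg.Agent.Perm.Fpf.hasFpf_of_matrix (F := ZMod 5) (n := 2)
    (by norm_num) rep fun A hA => by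
      rw [Matrix.isUnit_iff_isUnit_det, isUnit_iff_ne_zero]
      have hd := A.det_coe
      rw [Matrix.det_fin_two] at hd
      have := img_fpf _ _ _ _ hd fun h => hA (by
        ext i j
        fin_cases i <;> fin_cases j <;> simp [h.1, h.2.1, h.2.2.1, h.2.2.2])
      simpa [rep, Matrix.det_fin_two] using this).complement
  exact ⟨L, i1, i2, H, hH, ⟨e.symm⟩⟩

end Cfsg.Agent.S4298
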