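import Cfsg.Statements.S4299
import Cfsg.Agent.Lib.Perm.Fpf.Complement
import Cfsg.Agent.S4293

set_option autoImplicit false
open Cfsg

namespace Cfsg.Agent.S4299

/-- Every nontrivial finite cyclic group occurs as a Frobenius complement of some finite Frobenius group. -/
theorem result {C : Type*} [Group C] [Finite C] [IsCyclic C] [Nontrivial C] :
    ∃ (L : Type) (_ : Group L) (_ : Finite L) (H : Subgroup L), Cfsg.IsFrobeniusComplement H ∧ Nonempty (C ≃* H) := by
  haveI : NeZero (Nat.card C) := ⟨Nat.card_pos.ne'⟩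
  let e : C ≃* rootsOfUnity (Nat.card C) ℂ :=
    mulEquivOfCyclicCardEq (HasEnoughRootsOfUnity.natCard_rootsOfUnity ℂ (Nat.card C)).symm
  refine (Cfsg.Agent.S4293.hasFpf_of_units (k := ℚ)
    ((Units.coeHom ℂ).comp ((rootsOfUnity (Nat.card C) ℂ).subtype.comp e.toMonoidHom)) ?_).complement
  exact fun a b h => e.injective (Subtype.ext (Units.ext h))

end Cfsg.Agent.S4299
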