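import Cfsg.Statements.S4300


set_option autoImplicit false
open Cfsg

namespace Cfsg.Agent.S4300

/-- Let G act faithfully and primitively on a set X, and suppose the stabilizer of some point is a simple group. Then either G is simple, or G has a normal subgroup, neither trivial nor the whole group, that acts regularly on X (transitively with trivial point stabilizers). -/
theorem result {G : Type*} [Group G] {X : Type*} [MulAction G X] [FaithfulSMul G X]
    (hprim : MulAction.IsPreprimitive G X) (x : X) (hsimple : IsSimpleGroup (MulAction.stabilizer G x)) :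
    IsSimpleGroup G ∨ ∃ N : Subgroup G, N.Normal ∧ N ≠ ⊥ ∧ N ≠ ⊤ ∧
      MulAction.IsPretransitive N X ∧ ∀ y : X, MulAction.stabilizer N y = ⊥ := by
  haveI := hprim
  haveI := hsimple
  haveI : Nontrivial G := (Subgroup.subtype_injective (MulAction.stabilizer G x)).nontrivial
  by_contra hcon
  rw [not_or] at hcon
  obtain ⟨hns, hno⟩ := hcon
  refine hns ⟨fun N hN => ?_⟩
  by_contra hN'
  rw [not_or] at hN'
  obtain ⟨hN1, hN2⟩ := hN'
  haveI := hN
  have hfix : MulAction.fixedPoints N X ≠ Set.univ := by
    intro h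
    obtain ⟨n, hn, hn1⟩ := N.bot_or_exists_ne_one.resolve_left hN1
    refine hn1 (eq_of_smul_eq_smul fun y : X => ?_)
    rw [one_smul]
    exact (h ▸ Set.mem_univ y : y ∈ MulAction.fixedPoints N X) ⟨n, hn⟩
  have htr : MulAction.IsPretransitive N X :=
    MulAction.IsQuasiPreprimitive.isPretransitive_of_normal hfix
  have hsub : (N.subgroupOf (MulAction.stabilizer G x)) = ⊥ := by
    refine (IsSimpleGroup.eq_bot_or_eq_top_of_normal _ inferInstance).resolve_right fun h => hN2 ?_
    rw [Subgroup.subgroupOf_eq_top] at h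
    rw [eq_top_iff]
    intro g _
    obtain ⟨n, hn⟩ := MulAction.exists_smul_eq N x (g • x)
    have h1 : (n : G)⁻¹ * g ∈ MulAction.stabilizer G x := by
      rw [MulAction.mem_stabilizer_iff, mul_smul, inv_smul_eq_iff]
      exact hn.symm
    simpa using mul_mem n.2 (h h1)
  refine hno ⟨N, hN, hN1, hN2, htr, fun y => ?_⟩
  rw [eq_bot_iff]
  intro n hn
  obtain ⟨k, hk⟩ := MulAction.exists_smul_eq G x y
  have hm : k⁻¹ * (n : G) * k ∈ MulAction.stabilizer G x := by
    have hny : (n : G) • y = y := hn
    rw [MulAction.mem_stabilizer_iff, mul_smul, mul_smul, hk, hny, ← hk, inv_smul_smul]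
  have hmN : k⁻¹ * (n : G) * k ∈ N := by simpa using hN.conj_mem (n : G) n.2 k⁻¹
  have : (⟨_, hm⟩ : MulAction.stabilizer G x) ∈ N.subgroupOf (MulAction.stabilizer G x) := hmN
  rw [hsub, Subgroup.mem_bot] at this
  have e : k⁻¹ * (n : G) * k = 1 := congrArg Subtype.val this
  rw [mul_assoc, inv_mul_eq_one, eq_comm, mul_eq_right] at e
  exact Subgroup.mem_bot.2 (Subtype.ext e)

end Cfsg.Agent.S4300
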