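import Cfsg.Statements.S4303
import Mathlib
import Cfsg.Agent.Lib.Solv.Coprime

set_option autoImplicit false
open Cfsg
open scoped Pointwise

namespace Cfsg.Agent.S4303

open MulAction

universe u

variable {p : ℕ} [hp : Fact p.Prime]

/-- A Sylow number is the index of the normalizer, seen inside any subgroup containing `P`. -/
theorem card_sylow_sub {G : Type u} [Group G] [Finite G] (P : Sylow p G) {H : Subgroup G} (h : (P : Subgroup G) ≤ H) :
    Nat.card (Sylow p H) = (Subgroup.normalizer ((P : Subgroup G) : Set G)).relIndex H := by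
  rw [(P.subtype h).card_eq_index_normalizer]
  show (Subgroup.normalizer (((P.subtype h : Sylow p H) : Subgroup H) : Set H)).index = _
  rw [Sylow.coe_subtype, ← Subgroup.subgroupOf_normalizer_eq h]
  rfl

/-- If `T N = G` with `N` normal then `|N : T ∩ N| = |G : T|`. -/
theorem relIndex_of_sup_eq_top {G : Type u} [Group G] [Finite G] (T N : Subgroup G) [N.Normal] (h : T ⊔ N = ⊤) :
    T.relIndex N = T.index := by
  have h1 : N.relIndex T = N.index := by
    rw [← Subgroup.relIndex_sup_left, sup_comm, h, Subgroup.relIndex_top_right]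
  have h2 := Subgroup.relIndex_mul_index (inf_le_right : T ⊓ N ≤ N)
  have h3 := Subgroup.relIndex_mul_index (inf_le_left : T ⊓ N ≤ T)
  rw [Subgroup.inf_relIndex_left, h1] at h3
  rw [Subgroup.inf_relIndex_right, ← h3, mul_comm N.index] at h2
  exact Nat.eq_of_mul_eq_mul_right (Nat.pos_of_ne_zero Subgroup.index_ne_zero_of_finite) h2

/-- `n(G) = n(G/N) n(NP)`. -/
theorem sylow_factor {G : Type u} [Group G] [Finite G] (N : Subgroup G) [N.Normal] (P : Sylow p G) :
    Nat.card (Sylow p G) = Nat.card (Sylow p (G ⧸ N)) * Nat.card (Sylow p (N ⊔ P : Subgroup G)) := by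
  set H := N ⊔ (P : Subgroup G) with hH
  set NP := Subgroup.normalizer ((P : Subgroup G) : Set G) with hNP
  set M := Subgroup.normalizer (H : Set G) with hM
  have hle : NP ≤ M := fun g hg => Solv.mem_normalizer_of_conj_smul (by
    rw [hH, Subgroup.smul_sup, Subgroup.Normal.conj_smul_eq_self, Solv.conj_smul_of_mem_normalizer hg])
  have hidx : M.index = Nat.card (Sylow p (G ⧸ N)) := by
    rw [(P.mapSurjective (QuotientGroup.mk'_surjective N)).card_eq_index_normalizer]
    show M.index = (Subgroup.normalizer (((P : Subgroup G).map (QuotientGroup.mk' N) : Subgroup (G ⧸ N)) : Set (G ⧸ N))).index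
    rw [← Subgroup.index_comap_of_surjective _ (f := QuotientGroup.mk' N) (QuotientGroup.mk'_surjective N),
      Subgroup.comap_normalizer_eq_of_surjective _ (QuotientGroup.mk'_surjective N),
      Subgroup.comap_map_eq, QuotientGroup.ker_mk', sup_comm]
  have hrel : ∀ L : Subgroup G, NP.relIndex L = (orbit L P).ncard := fun L => by
    rw [← index_stabilizer, Subgroup.relIndex]
    congr 1
    ext x
    exact Sylow.smul_eq_iff_mem_normalizer.symm
  have horb : NP.relIndex M = NP.relIndex H := by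
    rw [hrel, hrel]
    refine congrArg Set.ncard (Set.Subset.antisymm ?_ fun Q ⟨⟨x, hx⟩, hQ⟩ => ⟨⟨x, Subgroup.le_normalizer hx⟩, hQ⟩)
    rintro _ ⟨⟨m, hm⟩, rfl⟩
    have hQ : ((m • P : Sylow p G) : Subgroup G) ≤ H := by
      rw [Sylow.smul_def, Sylow.pointwise_smul_def, ← Solv.conj_smul_of_mem_normalizer hm]
      exact Subgroup.pointwise_smul_le_pointwise_smul_iff.2 le_sup_right
    obtain ⟨x, hx⟩ := MulAction.exists_smul_eq H (P.subtype (le_sup_right : (P : Subgroup G) ≤ H)) ((m • P).subtype hQ)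
    rw [Sylow.smul_subtype] at hx
    exact ⟨x, Sylow.subtype_injective hx⟩
  rw [card_sylow_sub P (le_sup_right : (P : Subgroup G) ≤ H), ← horb, ← hidx, mul_comm,
    Subgroup.relIndex_mul_index hle]
  exact P.card_eq_index_normalizer

/-- The coprime case: Sylow number of `N ⋊ P`. -/
theorem card_sylow_coprime {G : Type u} [Group G] [Finite G] (N : Subgroup G) [N.Normal] (P : Sylow p G)
    (hsup : N ⊔ (P : Subgroup G) = ⊤) (hinf : N ⊓ (P : Subgroup G) = ⊥) :
    Nat.card (Sylow p G) = (N ⊓ Subgroup.centralizer ((P : Subgroup G) : Set G)).relIndex N := by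
  have e : N ⊓ Subgroup.centralizer ((P : Subgroup G) : Set G) =
      N ⊓ Subgroup.normalizer ((P : Subgroup G) : Set G) := by
    refine le_antisymm (inf_le_inf_left N fun x hx => Subgroup.centralizer_le_normalizer _ hx) ?_
    rintro x ⟨hxN, hxP⟩
    exact ⟨hxN, Solv.centralizer_of_normalizes (by rw [Subgroup.normalizer_eq_top]; exact le_top) hinf hxN hxP⟩
  rw [e, Subgroup.inf_relIndex_left]
  have h1 : Subgroup.normalizer ((P : Subgroup G) : Set G) ⊔ N = ⊤ :=
    top_le_iff.1 (hsup ▸ sup_le le_sup_right (Subgroup.le_normalizer.trans le_sup_left))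
  rw [relIndex_of_sup_eq_top _ N h1]
  exact P.card_eq_index_normalizer

/-- The conclusion of the theorem. -/
def Good (p : ℕ) (n : ℕ) : Prop :=
  ∃ l : List ℕ, l.prod = n ∧ ∀ m ∈ l, (IsPrimePow m ∧ m % p = 1) ∨
    ∃ (S : Type u) (_ : Group S) (_ : Finite S), IsSimpleGroup S ∧ m = Nat.card (Sylow p S)

theorem Good.one : Good.{u} p 1 := ⟨[], rfl, by simp⟩

theorem Good.mul {a b : ℕ} (ha : Good.{u} p a) (hb : Good.{u} p b) : Good.{u} p (a * b) := by
  obtain ⟨l, hl, hl'⟩ := ha
  obtain ⟨r, hr, hr'⟩ := hb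
  exact ⟨l ++ r, by rw [List.prod_append, hl, hr], fun m hm => (List.mem_append.1 hm).elim (hl' m) (hr' m)⟩

theorem good_coprime {G : Type u} [Group G] [Finite G] (N : Subgroup G) [N.Normal] (P : Sylow p G)
    (hsup : N ⊔ (P : Subgroup G) = ⊤) (hinf : N ⊓ (P : Subgroup G) = ⊥) :
    Good.{u} p (Nat.card (Sylow p G)) := by
  classical
  rw [card_sylow_coprime N P hsup hinf]
  set C := N ⊓ Subgroup.centralizer ((P : Subgroup G) : Set G) with hC
  set n := C.relIndex N with hn
  have hnN : n * Nat.card C = Nat.card N := by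
    rw [hn, mul_comm, ← Solv.card_subgroupOf (inf_le_left : C ≤ N), Subgroup.relIndex, Subgroup.card_mul_index]
  have hn0 : n ≠ 0 := fun h => by rw [h, zero_mul] at hnN; exact Nat.card_pos.ne hnN
  have hpN : ¬ p ∣ Nat.card N := fun h => by
    obtain ⟨x, hx⟩ := exists_prime_orderOf_dvd_card' p h
    obtain ⟨Q, hQ⟩ := (IsPGroup.of_card (n := 1) (by rw [Nat.card_zpowers, Subgroup.orderOf_coe, hx, pow_one]) :
      IsPGroup p (Subgroup.zpowers (x : G))).exists_le_sylow
    obtain ⟨g, hg⟩ := MulAction.exists_smul_eq G Q P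
    have h1 : g * (x : G) * g⁻¹ ∈ N ⊓ (P : Subgroup G) := by
      refine ⟨Subgroup.Normal.conj_mem inferInstance _ x.2 g, ?_⟩
      rw [← hg, Sylow.smul_def, Sylow.pointwise_smul_def, ← MulAut.conj_apply]
      exact Subgroup.smul_mem_pointwise_smul _ _ _ (hQ (Subgroup.mem_zpowers _))
    rw [hinf, Subgroup.mem_bot] at h1
    have hx1 : x = 1 := Subtype.ext (conj_eq_one_iff.1 h1)
    rw [hx1, orderOf_one] at hx
    exact hp.out.ne_one hx.symm
  have hco : (Nat.card (P : Subgroup G)).Coprime (Nat.card N) := by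
    obtain ⟨a, ha⟩ := IsPGroup.iff_card.1 P.isPGroup'
    rw [ha]; exact Nat.Coprime.pow_left _ (hp.out.coprime_iff_not_dvd.2 hpN)
  have hPN : (P : Subgroup G) ≤ Subgroup.normalizer (N : Set G) := by rw [Subgroup.normalizer_eq_top]; exact le_top
  have hsol : Group.IsSolvable (P : Subgroup G) ∨ Group.IsSolvable N := Or.inl (by
    haveI := P.isPGroup'.isNilpotent; infer_instance)
  have hmod : ∀ q ∈ n.primeFactors, q ^ n.factorization q % p = 1 := by
    intro q hq
    haveI : Fact q.Prime := ⟨Nat.prime_of_mem_primeFactors hq⟩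
    obtain ⟨U, hU⟩ := Solv.exists_isSylIn q C
    obtain ⟨Q, hQ, hUQ, hQP⟩ := Solv.exists_invariant_sylow_ge hPN hco hsol U (hU.1.trans inf_le_left) hU.isPGroup
      (fun a ha => Subgroup.centralizer_le_normalizer _ (Subgroup.mem_centralizer_iff.2 fun y hy =>
        ((Subgroup.mem_centralizer_iff.1 (Subgroup.mem_inf.1 (hU.1 hy)).2) a ha).symm))
    have hUeq : U = Q ⊓ Subgroup.centralizer ((P : Subgroup G) : Set G) :=
      hU.eq_of_le (hQ.isPGroup.to_le inf_le_left) (inf_le_inf_right _ hQ.1) (le_inf hUQ (hU.1.trans inf_le_right))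
    set H := Q ⊔ (P : Subgroup G) with hH
    haveI : (Q.subgroupOf H).Normal :=
      Subgroup.normal_subgroupOf_of_le_normalizer (sup_le Subgroup.le_normalizer hQP)
    have e := card_sylow_coprime (Q.subgroupOf H) (P.subtype (le_sup_right : (P : Subgroup G) ≤ H))
      (by rw [Sylow.coe_subtype, ← Subgroup.subgroupOf_sup le_sup_left le_sup_right, Subgroup.subgroupOf_self])
      (by
        apply Subgroup.map_injective H.subtype_injective
        rw [Sylow.coe_subtype, Solv.map_inf_of_subgroupOf le_sup_left, Subgroup.map_bot, ← le_bot_iff, ← hinf]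
        exact inf_le_inf_right _ hQ.1)
    rw [← Subgroup.relIndex_map_map_of_injective _ _ H.subtype_injective,
      Subgroup.map_subgroupOf_eq_of_le le_sup_left] at e
    have hmap : (Q.subgroupOf H ⊓ Subgroup.centralizer
        (((P.subtype (le_sup_right : (P : Subgroup G) ≤ H) : Sylow p H) : Subgroup H) : Set H)).map H.subtype = U := by
      rw [hUeq]
      ext x
      constructor
      · rintro ⟨y, ⟨hy1, hy2⟩, rfl⟩
        exact ⟨hy1, Subgroup.mem_centralizer_iff.2 fun z hz => congrArg Subtype.val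
          (Subgroup.mem_centralizer_iff.1 hy2 ⟨z, Subgroup.mem_sup_right hz⟩ hz)⟩
      · rintro ⟨hx1, hx2⟩
        exact ⟨⟨x, Subgroup.mem_sup_left hx1⟩, ⟨hx1, Subgroup.mem_centralizer_iff.2 fun z hz =>
          Subtype.ext (Subgroup.mem_centralizer_iff.1 hx2 z hz)⟩, rfl⟩
    rw [hmap] at e
    have hmul : Nat.card U * U.relIndex Q = Nat.card Q := by
      rw [← Solv.card_subgroupOf hUQ, Subgroup.relIndex, Subgroup.card_mul_index]
    rw [hU.2, hQ.2, ← hnN, Nat.factorization_mul hn0 Nat.card_pos.ne', Finsupp.add_apply, pow_add,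
      mul_comm (q ^ n.factorization q)] at hmul
    have := Nat.eq_of_mul_eq_mul_left (pow_pos (Fact.out : q.Prime).pos _) hmul
    rw [← this, ← e]
    have h := card_sylow_modEq_one p H
    rw [Nat.ModEq, Nat.one_mod_eq_one.2 hp.out.ne_one] at h
    exact h
  refine ⟨n.primeFactors.toList.map fun q => q ^ n.factorization q, ?_, ?_⟩
  · rw [Finset.prod_map_toList]
    exact Nat.prod_factorization_pow_eq_self hn0
  · intro m hm
    obtain ⟨q, hq, rfl⟩ := List.mem_map.1 hm
    rw [Finset.mem_toList] at hq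
    refine Or.inl ⟨⟨q, n.factorization q, (Nat.prime_of_mem_primeFactors hq).prime, ?_, rfl⟩, hmod q hq⟩
    exact (Nat.prime_of_mem_primeFactors hq).factorization_pos_of_dvd hn0 (Nat.dvd_of_mem_primeFactors hq)

theorem good_all (p : ℕ) [Fact p.Prime] : ∀ n : ℕ, ∀ (G : Type u) [Group G] [Finite G], Nat.card G = n →
    Good.{u} p (Nat.card (Sylow p G)) := by
  intro n
  induction n using Nat.strong_induction_on with
  | _ n ih =>
  intro G _ _ hn
  classical
  have hlt : ∀ H : Subgroup G, H ≠ ⊤ → Nat.card H < n := fun H hH => by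
    rw [← hn]
    exact lt_of_le_of_ne (Subgroup.card_le_card_group H) fun e => hH (Subgroup.eq_top_of_card_eq H e)
  have hltq : ∀ (K : Subgroup G) [K.Normal], K ≠ ⊥ → Nat.card (G ⧸ K) < n := fun K _ hK => by
    rw [← hn, Subgroup.card_eq_card_quotient_mul_card_subgroup K]
    exact lt_mul_of_one_lt_right Nat.card_pos ((Subgroup.one_lt_card_iff_ne_bot K).2 hK)
  rcases subsingleton_or_nontrivial G with hs | hnt
  · haveI : Subsingleton (Sylow p G) := ⟨fun A B => Sylow.ext (Subsingleton.elim _ _)⟩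
    rw [Nat.card_unique]; exact Good.one
  by_cases hS : IsSimpleGroup G
  · exact ⟨[Nat.card (Sylow p G)], List.prod_singleton, fun m hm => by
      rw [List.mem_singleton] at hm
      exact Or.inr ⟨G, inferInstance, inferInstance, hS, hm⟩⟩
  obtain ⟨N, hN, hNb, hNt⟩ : ∃ N : Subgroup G, N.Normal ∧ N ≠ ⊥ ∧ N ≠ ⊤ := by
    by_contra h
    push Not at h
    exact hS ⟨fun H hH => (em (H = ⊥)).imp id (h H hH)⟩
  haveI := hN
  let R : Sylow p N := default
  obtain ⟨P, hP⟩ := R.exists_comap_subtype_eq
  by_cases hsup : N ⊔ (P : Subgroup G) = ⊤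
  swap
  · rw [sylow_factor N P]
    exact (ih _ (hltq N hNb) _ rfl).mul (ih _ (hlt _ hsup) _ rfl)
  by_cases hinf : N ⊓ (P : Subgroup G) = ⊥
  · exact good_coprime N P hsup hinf
  set D := N ⊓ (P : Subgroup G) with hD
  have hRD : (R : Subgroup N) = D.subgroupOf N := by
    rw [hD, Subgroup.inf_subgroupOf_left, ← hP]; rfl
  have hDN : D ≤ N := inf_le_left
  set X := Subgroup.normalizer (D : Set G) with hX
  have hNPX : Subgroup.normalizer ((P : Subgroup G) : Set G) ≤ X := fun g hg => Solv.mem_normalizer_of_conj_smul (by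
    rw [hD, Subgroup.smul_inf, Subgroup.Normal.conj_smul_eq_self, Solv.conj_smul_of_mem_normalizer hg])
  have hPX : (P : Subgroup G) ≤ X := Subgroup.le_normalizer.trans hNPX
  have hXtop : X ⊔ N = ⊤ := by
    have := Sylow.normalizer_sup_eq_top R
    rwa [hRD, Subgroup.map_subgroupOf_eq_of_le hDN] at this
  have hnN : Nat.card (Sylow p N) = X.index := by
    rw [R.card_eq_index_normalizer]
    show (Subgroup.normalizer ((R : Subgroup N) : Set N)).index = _
    rw [hRD, ← Subgroup.subgroupOf_normalizer_eq hDN]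
    exact relIndex_of_sup_eq_top X N hXtop
  haveI : (D.subgroupOf X).Normal := Subgroup.normal_subgroupOf_of_le_normalizer le_rfl
  set K := D.subgroupOf X with hK
  have hKP : K ≤ ((P.subtype hPX : Sylow p X) : Subgroup X) := by
    rw [Sylow.coe_subtype]; exact Subgroup.comap_mono inf_le_right
  have hone : Nat.card (Sylow p (K ⊔ (P.subtype hPX : Sylow p X) : Subgroup X)) = 1 := by
    rw [card_sylow_sub _ le_sup_right, sup_eq_right.2 hKP, Subgroup.relIndex_eq_one]
    exact Subgroup.le_normalizer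
  have hfac : Nat.card (Sylow p X) = Nat.card (Sylow p (X ⧸ K)) := by
    rw [sylow_factor K (P.subtype hPX), hone, mul_one]
  have hG : Nat.card (Sylow p G) = Nat.card (Sylow p N) * Nat.card (Sylow p X) := by
    rw [hnN, card_sylow_sub P hPX, mul_comm, Subgroup.relIndex_mul_index hNPX]
    exact P.card_eq_index_normalizer
  rw [hG, hfac]
  refine (ih _ (hlt N hNt) _ rfl).mul (ih _ ?_ _ rfl)
  refine lt_of_lt_of_le ?_ (hn ▸ Subgroup.card_le_card_group X : Nat.card X ≤ n)
  rw [Subgroup.card_eq_card_quotient_mul_card_subgroup K]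
  refine lt_mul_of_one_lt_right Nat.card_pos ((Subgroup.one_lt_card_iff_ne_bot K).2 fun h => hinf ?_)
  exact (Subgroup.subgroupOf_eq_bot.1 h).eq_bot_of_le Subgroup.le_normalizer

/-- For a finite group `G` and a prime `p`, the number of Sylow `p`-subgroups of `G` is a product of natural numbers each of which is either a prime power congruent to 1 modulo `p` or the number of Sylow `p`-subgroups of some finite simple group. -/
theorem result {G : Type u} [Group G] [Finite G]
    (p : ℕ) [Fact p.Prime] :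
    ∃ l : List ℕ, l.prod = Nat.card (Sylow p G) ∧
      ∀ m ∈ l, (IsPrimePow m ∧ m % p = 1) ∨
        ∃ (S : Type u) (_ : Group S) (_ : Finite S), IsSimpleGroup S ∧ m = Nat.card (Sylow p S) := by
  exact good_all p _ G rfl

end Cfsg.Agent.S4303
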