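import Cfsg.Statements.S4304
import Cfsg.Agent.Lib.Perm.SylowCount

set_option autoImplicit false
open Cfsg

namespace Cfsg.Agent.S4304

open Cfsg.Agent.Perm.SylowCount

/-- There is no finite group with exactly 15 Sylow 7-subgroups. -/
theorem result {G : Type*} [Group G] [Finite G] : Nat.card (Sylow 7 G) ≠ 15 := by
  intro h
  haveI : Fact (Nat.Prime 7) := ⟨by norm_num⟩
  haveI : Fact (Nat.Prime 5) := ⟨by norm_num⟩
  haveI : Fact (Nat.Prime 3) := ⟨by norm_num⟩
  obtain ⟨H, _, _, hred, hn⟩ := exists_reduced G 7
  rw [h] at hn
  have P : Sylow 7 H := default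
  obtain ⟨hP, hC, e, hediv, heodd, hN, hH⟩ :=
    structure_two_p_add_one (by norm_num) hred (by rw [hn]) (by decide) P
  have he : e = 1 ∨ e = 3 := by
    have : e ∈ Nat.divisors 6 := Nat.mem_divisors.mpr ⟨hediv, by norm_num⟩
    rw [show Nat.divisors 6 = {1, 2, 3, 6} by decide] at this
    obtain ⟨t, rfl⟩ := heodd
    simp at this; omega
  have h5 : Nat.card (Sylow 5 H) ≠ 1 → e = 3 → False := fun h5 he3 => by
    subst he3
    have hcard : Nat.card H = 315 := hH
    let S : Sylow 3 H := default
    have hS : Nat.card S = 9 := by
      rw [S.card_eq_multiplicity, hcard]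
      rw [show (315 : ℕ) = 3 ^ 2 * 35 by norm_num, Nat.factorization_mul (by norm_num) (by norm_num),
        Finsupp.add_apply, Nat.Prime.factorization_pow Nat.prime_three, Finsupp.single_eq_same,
        Nat.factorization_eq_zero_of_not_dvd (by norm_num)]
      norm_num
    have h31 : Nat.card (Sylow 3 H) ≠ 1 := sylow_not_normal (by norm_num) P hC S (by rw [hS]; decide)
    have h37 : Nat.card (Sylow 3 H) = 7 := by
      have h1 := S.card_dvd_index
      have h2 := card_sylow_modEq_one 3 H
      have h3 := Subgroup.index_mul_card (S : Subgroup H)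
      rw [hS, hcard] at h3
      rw [show (S : Subgroup H).index = 35 by omega] at h1
      have : Nat.card (Sylow 3 H) ∈ Nat.divisors 35 := Nat.mem_divisors.mpr ⟨h1, by norm_num⟩
      rw [show Nat.divisors 35 = {1, 5, 7, 35} by decide] at this
      simp [Nat.ModEq] at this h2
      omega
    let M := Subgroup.normalizer ((S : Subgroup H) : Set H)
    have hM : Nat.card M = 45 := by
      have h3 := Subgroup.index_mul_card M
      rw [show M.index = 7 from S.card_eq_index_normalizer.symm.trans h37, hcard] at h3
      omega
    let T : Sylow 5 M := default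
    have hT1 : Nat.card (Sylow 5 M) = 1 := by
      refine card_sylow_eq_one_of T hM ?_
      rw [show (45 : ℕ) = 5 ^ 1 * 9 by norm_num, Nat.factorization_mul (by norm_num) (by norm_num),
        Finsupp.add_apply, Nat.Prime.factorization_pow (Nat.prime_five), Finsupp.single_eq_same,
        Nat.factorization_eq_zero_of_not_dvd (by norm_num)]
      decide
    haveI : Subsingleton (Sylow 5 M) := (Nat.card_eq_one_iff_unique.mp hT1).1
    haveI : (T : Subgroup M).Normal := T.normal_of_subsingleton
    let T' : Subgroup H := (T : Subgroup M).map M.subtype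
    have hT'c : Nat.card T' = 5 ^ (Nat.card H).factorization 5 := by
      rw [Nat.card_congr ((T : Subgroup M).equivMapOfInjective _ M.subtype_injective).toEquiv.symm,
        T.card_eq_multiplicity, hM, hcard]
      rw [show (315 : ℕ) = 45 * 7 by norm_num, Nat.factorization_mul (by norm_num) (by norm_num),
        Finsupp.add_apply, Nat.factorization_eq_zero_of_not_dvd (n := 7) (by norm_num), Nat.add_zero]
    let T₅ : Sylow 5 H := Sylow.ofCard T' hT'c
    have hle : M ≤ Subgroup.normalizer ((T₅ : Subgroup H) : Set H) := by
      rw [Sylow.coe_ofCard]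
      have := Subgroup.le_normalizer_map (H := (T : Subgroup M)) M.subtype
      rw [Subgroup.normalizer_eq_top, ← MonoidHom.range_eq_map, M.range_subtype] at this
      exact this
    have h4 := Subgroup.index_dvd_of_le hle
    replace h4 : Nat.card (Sylow 5 H) ∣ M.index := T₅.card_eq_index_normalizer.symm ▸ h4
    have h6 := Subgroup.index_mul_card M
    rw [hM, hcard] at h6
    rw [show M.index = 7 by omega] at h4
    rcases (Nat.dvd_prime (by norm_num : Nat.Prime 7)).mp h4 with h7 | h7
    · exact h5 h7
    · have := card_sylow_modEq_one 5 H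
      rw [h7] at this
      exact absurd this (by decide)
  have hT5 : ∀ T : Sylow 5 H, Nat.card (Sylow 5 H) ≠ 1 := fun T =>
    sylow_not_normal (by norm_num) P hC T (by
      rw [T.card_eq_multiplicity, hH]
      rcases he with rfl | rfl <;> norm_num [Nat.ModEq]
      · rw [show (105 : ℕ) = 5 ^ 1 * 21 by norm_num, Nat.factorization_mul (by norm_num)
          (by norm_num), Finsupp.add_apply, Nat.Prime.factorization_pow Nat.prime_five,
          Finsupp.single_eq_same, Nat.factorization_eq_zero_of_not_dvd (by norm_num)]
        norm_num
      · rw [show (315 : ℕ) = 5 ^ 1 * 63 by norm_num, Nat.factorization_mul (by norm_num)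
          (by norm_num), Finsupp.add_apply, Nat.Prime.factorization_pow Nat.prime_five,
          Finsupp.single_eq_same, Nat.factorization_eq_zero_of_not_dvd (by norm_num)]
        norm_num)
  rcases he with rfl | rfl
  · have hPN : (P : Subgroup H) = Subgroup.normalizer ((P : Subgroup H) : Set H) :=
      Subgroup.eq_of_le_of_card_ge Subgroup.le_normalizer (by rw [hP, hN])
    have hNC : Subgroup.normalizer ((P : Subgroup H) : Set H) ≤
        Subgroup.centralizer ((P : Subgroup H) : Set H) := by rw [hC]; exact hPN.ge
    have hK := MonoidHom.ker_transferSylow_isComplement' P hNC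
    set K := (MonoidHom.transferSylow P hNC).ker
    have hKc : Nat.card K = 15 := by
      have := hK.card_mul
      rw [hP, hH] at this
      omega
    have hKi : K.index = 7 := by
      have := Subgroup.index_mul_card K
      rw [hKc, hH] at this
      omega
    have h1 := card_sylow_of_normal_of_coprime_index (q := 5) K (by rw [hKi]; norm_num)
    refine hT5 default (h1 ▸ card_sylow_eq_one_of default hKc ?_)
    rw [show (15 : ℕ) = 5 ^ 1 * 3 by norm_num, Nat.factorization_mul (by norm_num) (by norm_num),
      Finsupp.add_apply, Nat.Prime.factorization_pow Nat.prime_five, Finsupp.single_eq_same,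
      Nat.factorization_eq_zero_of_not_dvd (by norm_num)]
    decide
  · exact h5 (hT5 default) rfl

end Cfsg.Agent.S4304
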