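import Cfsg.Statements.S4305
import Cfsg.Agent.Lib.Perm.S3Module

set_option autoImplicit false
set_option linter.style.haveILetI false
open Cfsg

namespace Cfsg.Agent.S4305

open scoped IsMulCommutative commutatorElement
open Cfsg.Agent.Perm Cfsg.Agent.Perm.S3Fpf Cfsg.Agent.Perm.S3Module

universe u

section Linear

variable {r : ℕ} [Fact r.Prime] {W : Type u} [CommGroup W] [Module (ZMod r) (Additive W)]

/-- An automorphism as a linear map. -/
def endOf : MulAut W →* Module.End (ZMod r) (Additive W) where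
  toFun β := (MonoidHom.toAdditive β.toMonoidHom).toZModLinearMap r
  map_one' := LinearMap.ext fun _ => rfl
  map_mul' _ _ := LinearMap.ext fun _ => rfl

theorem endOf_apply (β : MulAut W) (x : Additive W) :
    endOf (r := r) β x = Additive.ofMul (β (Additive.toMul x)) := rfl

/-- The matrices over the algebraic closure attached to linear maps. -/
noncomputable def embed [Finite W] :
    Module.End (ZMod r) (Additive W) →+*
      Matrix (Fin (Module.finrank (ZMod r) (Additive W))) (Fin (Module.finrank (ZMod r) (Additive W)))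
        (AlgebraicClosure (ZMod r)) :=
  haveI : Module.Finite (ZMod r) (Additive W) := Module.Finite.of_finite
  (algebraMap (ZMod r) (AlgebraicClosure (ZMod r))).mapMatrix.comp
    (LinearMap.toMatrixAlgEquiv (Module.finBasis (ZMod r) (Additive W))).toRingEquiv.toRingHom

theorem embed_injective [Finite W] : Function.Injective (embed (r := r) (W := W)) := by
  haveI : Module.Finite (ZMod r) (Additive W) := Module.Finite.of_finite
  rw [embed, RingHom.coe_comp]
  refine Function.Injective.comp ?_
    (LinearMap.toMatrixAlgEquiv (Module.finBasis (ZMod r) (Additive W))).injective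
  exact Matrix.map_injective (algebraMap (ZMod r) (AlgebraicClosure (ZMod r))).injective

end Linear

/-- Restriction as a homomorphism. -/
def resHom {G : Type u} [Group G] (V : Subgroup G) [V.Normal] : stab V →* MulAut V where
  toFun := res V
  map_one' := MulEquiv.ext fun _ => rfl
  map_mul' _ _ := MulEquiv.ext fun _ => rfl

theorem Data_restrict {G : Type u} [Group G] {α τ : MulAut G} (h : Data α τ) {H : Subgroup G}
    (hα : ∀ x ∈ H, α x ∈ H) (hτ : ∀ x ∈ H, τ x ∈ H) :
    (∀ x, α x ∈ H ↔ x ∈ H) ∧ (∀ x, τ x ∈ H ↔ x ∈ H) :=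
  ⟨fun x => ⟨fun hx => by
      have := hα _ (hα _ hx)
      rwa [h.cube] at this, hα x⟩,
    fun x => ⟨fun hx => by
      have := hτ _ hx
      rwa [h.sq] at this, hτ x⟩⟩

theorem map_commutator_mem {G H : Type*} [Group G] [Group H] (f : G →* H) {x : G}
    (hx : x ∈ commutator G) : f x ∈ commutator H := by
  have : (commutator G).map f ≤ commutator H := by
    rw [commutator_def, Subgroup.map_commutator]
    exact Subgroup.commutator_mono le_top le_top
  exact this ⟨x, hx, rfl⟩

/-- The commutator subgroup acts trivially on a minimal invariant subgroup, provided its image in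
the automorphisms is nilpotent. -/
theorem commutator_centralizes {G : Type u} [Group G] [Finite G] [Group.IsSolvable G]
    {α τ : MulAut G} (h : Data α τ) (V : Subgroup G) [V.Normal] [IsMulCommutative V]
    (hVα : ∀ x ∈ V, α x ∈ V) (hVτ : ∀ x ∈ V, τ x ∈ V) (hne : V ≠ ⊥)
    (hmin : ∀ W : Subgroup G, W.Normal → (∀ x ∈ W, α x ∈ W) → (∀ x ∈ W, τ x ∈ W) → W ≤ V →
      W = ⊥ ∨ W = V)
    {r : ℕ} [Fact r.Prime] (hexp : ∀ v : V, v ^ r = 1) (hr : r ∣ Nat.card V)
    (hnil : Group.IsNilpotent
      ↥(commutator (G ⧸ ((resHom V).comp (S3Module.cg V)).ker)))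
    (g k : G) : (resHom V) (S3Module.cg V ⁅g, k⁆) = 1 := by
  classical
  obtain ⟨hVα', hVτ'⟩ := Data_restrict h hVα hVτ
  let a : stab V := ⟨α, hVα'⟩
  let t : stab V := ⟨τ, hVτ'⟩
  set C : Subgroup G := ((resHom V).comp (S3Module.cg V)).ker with hC
  haveI := hnil
  have hCa : ∀ (b : stab V), ∀ n ∈ C, b.1 n ∈ C := by
    intro b n hn
    rw [hC, MonoidHom.mem_ker, MonoidHom.comp_apply] at hn ⊢
    have e := congrArg (resHom V) (stab_cg V b n)
    rw [map_mul, map_mul, hn, mul_one] at e
    exact mul_eq_right.1 e.symm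
  have hb := h.quotient C (hCa a) (hCa t)
  set α' := Data.quo α C (hCa a) with hα'
  set τ' := Data.quo τ C (hCa t) with hτ'
  -- no normal invariant subgroup of the quotient has nontrivial fixed points on `V`
  have hfix : ∀ P : Subgroup (G ⧸ C), P.Normal → (∀ x ∈ P, α' x ∈ P) → (∀ x ∈ P, τ' x ∈ P) →
      ∀ v ∈ V, (∀ x : G, (x : G ⧸ C) ∈ P → x * v = v * x) → v ≠ 1 → P = ⊥ := by
    intro P hP hPa hPt v hv hvfix hv1
    let P₀ : Subgroup G := P.comap (QuotientGroup.mk' C)
    haveI : P₀.Normal := Subgroup.Normal.comap hP _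
    let W : Subgroup G := V ⊓ Subgroup.centralizer (P₀ : Set G)
    have hWV : W = V := by
      refine (hmin W inferInstance ?_ ?_ inf_le_left).resolve_left fun hW => hv1 ?_
      · rintro x ⟨hx1, hx2⟩
        refine ⟨hVα x hx1, Subgroup.mem_centralizer_iff.2 fun y hy => ?_⟩
        have hy2 : α (α y) ∈ P₀ := by
          show ((α (α y) : G) : G ⧸ C) ∈ P
          rw [← Data.quo_mk α C (hCa a), ← Data.quo_mk α C (hCa a)]
          exact hPa _ (hPa _ hy)
        have := congrArg α (Subgroup.mem_centralizer_iff.1 hx2 _ hy2)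
        rwa [map_mul, map_mul, h.cube] at this
      · rintro x ⟨hx1, hx2⟩
        refine ⟨hVτ x hx1, Subgroup.mem_centralizer_iff.2 fun y hy => ?_⟩
        have hy2 : τ y ∈ P₀ := by
          show ((τ y : G) : G ⧸ C) ∈ P
          rw [← Data.quo_mk τ C (hCa t)]
          exact hPt _ hy
        have := congrArg τ (Subgroup.mem_centralizer_iff.1 hx2 _ hy2)
        rwa [map_mul, map_mul, h.sq] at this
      · have : v ∈ W := ⟨hv, Subgroup.mem_centralizer_iff.2 fun y hy => hvfix y hy⟩
        rwa [hW, Subgroup.mem_bot] at this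
    rw [eq_bot_iff]
    intro z hz
    obtain ⟨x, rfl⟩ := QuotientGroup.mk'_surjective C z
    rw [Subgroup.mem_bot]
    show (x : G ⧸ C) = 1
    rw [QuotientGroup.eq_one_iff, hC, MonoidHom.mem_ker]
    refine MulEquiv.ext fun w => Subtype.ext ?_
    show x * w.1 * x⁻¹ = w.1
    have hw : w.1 ∈ W := by rw [hWV]; exact w.2
    rw [Subgroup.mem_centralizer_iff.1 hw.2 x hz, mul_inv_cancel_right]
  -- the image of the commutator subgroup has order prime to `r`
  have hr' : ¬ r ∣ Nat.card (commutator (G ⧸ C)) := by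
    intro hdvd
    obtain ⟨P⟩ := (inferInstance : Nonempty (Sylow r (commutator (G ⧸ C))))
    let P' : Subgroup (G ⧸ C) := (P : Subgroup _).map (commutator (G ⧸ C)).subtype
    have hmem : ∀ x : G ⧸ C, x ∈ P' ↔ x ∈ commutator (G ⧸ C) ∧ ∃ i : ℕ, x ^ r ^ i = 1 := by
      intro x
      constructor
      · rintro ⟨y, hy, rfl⟩
        obtain ⟨i, hi⟩ := P.isPGroup' ⟨y, hy⟩
        exact ⟨y.2, i, by simpa using congrArg (fun z : (P : Subgroup _) => ((z.1 : commutator (G ⧸ C)) : G ⧸ C)) hi⟩
      · rintro ⟨hx, i, hi⟩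
        refine ⟨⟨x, hx⟩, ?_, rfl⟩
        have hz : IsPGroup r (Subgroup.zpowers (⟨x, hx⟩ : commutator (G ⧸ C))) := by
          rintro ⟨y, n, rfl⟩
          refine ⟨i, Subtype.ext (Subtype.ext ?_)⟩
          show (x ^ n) ^ r ^ i = 1
          rw [← zpow_natCast, ← zpow_mul, mul_comm, zpow_mul, zpow_natCast, hi, one_zpow]
        obtain ⟨Q, hQ⟩ := hz.exists_le_sylow
        haveI := Sylow.unique_of_normal P inferInstance
        rw [Subsingleton.elim P Q]
        exact hQ (Subgroup.mem_zpowers _)
    have hPinv : ∀ β : MulAut (G ⧸ C), ∀ x ∈ P', β x ∈ P' := by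
      intro β x hx
      rw [hmem] at hx ⊢
      obtain ⟨hx1, i, hi⟩ := hx
      exact ⟨map_commutator_mem β.toMonoidHom hx1, i, by rw [← map_pow, hi, map_one]⟩
    have hPn : P'.Normal := ⟨fun x hx y => hPinv (MulAut.conj y) x hx⟩
    have hP' : P' ≠ ⊥ := fun hbot => P.ne_bot_of_dvd_card hdvd
      ((Subgroup.map_eq_bot_iff_of_injective _ (commutator (G ⧸ C)).subtype_injective).1 hbot)
    let act : G ⧸ C →* MulAut V :=
      QuotientGroup.lift C ((resHom V).comp (S3Module.cg V)) (le_of_eq hC)
    letI : MulAction P' V := MulAction.compHom V (act.comp P'.subtype)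
    have hPp : IsPGroup r P' := P.isPGroup'.map _
    obtain ⟨b, hb1, hb2⟩ := hPp.exists_fixed_point_of_prime_dvd_card_of_fixed_point V hr
      (a := (1 : V)) (fun p => by show act p.1 1 = 1; exact map_one _)
    refine hP' (hfix P' hPn (hPinv α') (hPinv τ') b.1 b.2 ?_
      (fun e => hb2 (Subtype.ext e).symm))
    intro x hx
    have e := congrArg Subtype.val (hb1 ⟨(x : G ⧸ C), hx⟩)
    have e2 : x * b.1 * x⁻¹ = b.1 := e
    exact mul_inv_eq_iff_eq_mul.1 e2
  by_cases hd1 : commutator (G ⧸ C) = ⊥
  · have e1 : QuotientGroup.mk' C ⁅g, k⁆ = 1 := by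
      rw [← Subgroup.mem_bot, ← hd1, map_commutatorElement]
      exact Subgroup.commutator_mem_commutator (Subgroup.mem_top _) (Subgroup.mem_top _)
    exact (QuotientGroup.eq_one_iff _).1 e1
  -- the linear representation
  haveI : Module (ZMod r) (Additive V) := AddCommGroup.zmodModule (fun v => by
    exact hexp (Additive.toMul v))
  let θ : stab V →* _ :=
    ((embed (r := r) (W := V)).toMonoidHom.comp ((endOf (r := r)).comp (resHom V))).toHomUnits
  have hθval : ∀ b, ((θ b : Units _) : Matrix _ _ (AlgebraicClosure (ZMod r))) =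
      embed (endOf (resHom V b)) := fun b => rfl
  have hker : C ≤ (θ.comp (S3Module.cg V)).ker := by
    intro x hx
    rw [MonoidHom.mem_ker]
    refine Units.ext ?_
    rw [MonoidHom.comp_apply, hθval, show resHom V (S3Module.cg V x) = 1 from hx, map_one, map_one,
      Units.val_one]
  let ρ := QuotientGroup.lift C (θ.comp (S3Module.cg V)) hker
  have hρ : ∀ x : G, ρ (x : G ⧸ C) = θ (S3Module.cg V x) := fun x => rfl
  have hS : Setup α' τ' ρ (θ a) (θ t) := by
    refine
      { data := hb
        ta3 := ?_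
        tt2 := ?_
        rel := ?_
        conja := ?_
        conjt := ?_
        fixed := ?_ }
    · rw [← map_pow, show a ^ 3 = 1 from Subtype.ext (MulEquiv.ext fun x => ?_), map_one]
      rw [pow_three]
      exact h.cube x
    · rw [← map_mul, show t * t = 1 from Subtype.ext (MulEquiv.ext h.sq), map_one]
    · rw [← map_mul, ← map_mul, ← map_mul]
      congr 1
      exact Subtype.ext (MulEquiv.ext h.rel)
    · intro x
      induction x using QuotientGroup.induction_on with
      | _ x => rw [hα', Data.quo_mk, hρ, hρ, ← map_mul, ← map_mul, stab_cg]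
    · intro x
      induction x using QuotientGroup.induction_on with
      | _ x => rw [hτ', Data.quo_mk, hρ, hρ, ← map_mul, ← map_mul, stab_cg]
    · rw [hθval, hθval, ← map_mul, ← map_one embed, ← map_add, ← map_add, ← map_add, ← map_mul,
        ← map_zero embed]
      congr 1
      set A := endOf (r := r) (resHom V a) with hA
      set T := endOf (r := r) (resHom V t) with hT
      have hAAA : A * (A * A) = 1 := by
        rw [hA, ← map_mul, ← map_mul, ← map_mul, ← map_mul,
          show a * (a * a) = 1 from Subtype.ext (MulEquiv.ext h.cube), map_one, map_one]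
      have hTT : T * T = 1 := by
        rw [hT, ← map_mul, ← map_mul, show t * t = 1 from Subtype.ext (MulEquiv.ext h.sq), map_one,
          map_one]
      have hTA : T * A = A * A * T := by
        rw [hA, hT, ← map_mul, ← map_mul, ← map_mul, ← map_mul, ← map_mul, ← map_mul]
        congr 2
        exact Subtype.ext (MulEquiv.ext h.rel)
      set S := 1 + A + A * A with hSdef
      have e1 : A * (S * (1 + T)) = S * (1 + T) := by
        rw [← mul_assoc, hSdef, mul_add A, mul_add A, mul_one, hAAA]
        abel_nf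
      have e2 : T * (S * (1 + T)) = S * (1 + T) := by
        have hTS : T * S = S * T := by
          have r2 : T * (A * A) = A * T := by
            rw [← mul_assoc, hTA, mul_assoc _ T A, hTA, ← mul_assoc,
              show A * A * (A * A) = A * (A * (A * A)) by simp only [mul_assoc], hAAA, mul_one]
          rw [hSdef, mul_add, mul_add, mul_one, add_mul, add_mul, one_mul, hTA, r2]
          abel
        rw [← mul_assoc, hTS, mul_assoc, mul_add T, mul_one, hTT, add_comm T]
      refine LinearMap.ext fun v => ?_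
      set w := (S * (1 + T)) v with hw
      have w1 : A w = w := by rw [hw, ← Module.End.mul_apply, e1]
      have w2 : T w = w := by rw [hw, ← Module.End.mul_apply, e2]
      have hw1 : (Additive.toMul w : V).1 = 1 := h.fpf _
        (congrArg (fun z => (Additive.toMul z : V).1) w1)
        (congrArg (fun z => (Additive.toMul z : V).1) w2)
      rw [LinearMap.zero_apply]
      show Additive.toMul w = 1
      exact Subtype.ext hw1
  -- the centre of the image of the commutator subgroup
  let M : Subgroup (G ⧸ C) :=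
    (Subgroup.center (commutator (G ⧸ C))).map (commutator (G ⧸ C)).subtype
  have hMmem : ∀ x, x ∈ M ↔ x ∈ commutator (G ⧸ C) ∧ ∀ y ∈ commutator (G ⧸ C), y * x = x * y := by
    intro x
    constructor
    · rintro ⟨y, hy, rfl⟩
      exact ⟨y.2, fun z hz => congrArg Subtype.val (Subgroup.mem_center_iff.1 hy ⟨z, hz⟩)⟩
    · rintro ⟨hx, hc⟩
      exact ⟨⟨x, hx⟩, Subgroup.mem_center_iff.2 fun z => Subtype.ext (hc _ z.2), rfl⟩
  have hMinv : ∀ β : MulAut (G ⧸ C), ∀ x ∈ M, β x ∈ M := by
    intro β x hx
    rw [hMmem] at hx ⊢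
    refine ⟨map_commutator_mem β.toMonoidHom hx.1, fun y hy => ?_⟩
    have := congrArg β (hx.2 _ (map_commutator_mem β.symm.toMonoidHom hy))
    rwa [map_mul, map_mul, MulEquiv.coe_toMonoidHom, β.apply_symm_apply] at this
  haveI hMn : M.Normal := ⟨fun x hx y => hMinv (MulAut.conj y) x hx⟩
  haveI : IsMulCommutative M :=
    ⟨⟨fun x y => Subtype.ext (((hMmem _).1 y.2).2 _ ((hMmem _).1 x.2).1)⟩⟩
  have hMne : M ≠ ⊥ := by
    haveI : Nontrivial (commutator (G ⧸ C)) := (Subgroup.nontrivial_iff_ne_bot _).2 hd1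
    exact fun e => Group.IsNilpotent.center_ne_bot (G := commutator (G ⧸ C))
      ((Subgroup.map_eq_bot_iff_of_injective _ (commutator (G ⧸ C)).subtype_injective).1 e)
  have hMle : M ≤ commutator (G ⧸ C) := Subgroup.map_subtype_le _
  letI : Fintype (G ⧸ C) := Fintype.ofFinite _
  letI : Fintype M := Fintype.ofFinite _
  obtain ⟨hMa, hMt⟩ := Data_restrict hb (hMinv α') (hMinv τ')
  have hGne : (Nat.card (commutator (G ⧸ C)) : AlgebraicClosure (ZMod r)) ≠ 0 := by
    rw [Ne, CharP.cast_eq_zero_iff (AlgebraicClosure (ZMod r)) r]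
    exact hr'
  have hMne0 : (Fintype.card M : AlgebraicClosure (ZMod r)) ≠ 0 := by
    rw [Ne, CharP.cast_eq_zero_iff (AlgebraicClosure (ZMod r)) r, ← Nat.card_eq_fintype_card]
    exact fun d => hr' (d.trans (Subgroup.card_dvd_of_le hMle))
  let act : G ⧸ C →* MulAut V :=
    QuotientGroup.lift C ((resHom V).comp (S3Module.cg V)) (le_of_eq hC)
  have hρact : ∀ z, ((ρ z : Units _) : Matrix _ _ (AlgebraicClosure (ZMod r))) =
      embed (endOf (act z)) := by
    intro z
    induction z using QuotientGroup.induction_on with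
    | _ x => rfl
  have hsum : ∑ m : M, Units.val (ρ m.1) = 0 := by
    rw [Finset.sum_congr rfl fun m _ => hρact m.1, ← map_sum, ← map_zero embed]
    congr 1
    set T := ∑ m : M, endOf (r := r) (act m.1) with hT
    refine LinearMap.ext fun v => ?_
    rw [LinearMap.zero_apply]
    by_contra hne0
    refine hMne (hfix M hMn (hMinv α') (hMinv τ') (Additive.toMul (T v) : V).1
      (Additive.toMul (T v) : V).2 (fun x hx => ?_) fun e => hne0 ?_)
    · have e1 : endOf (r := r) (act (x : G ⧸ C)) * T = T := by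
        rw [hT, Finset.mul_sum]
        refine Fintype.sum_equiv (Equiv.mulLeft (⟨(x : G ⧸ C), hx⟩ : M)) _ _ fun m => ?_
        rw [← map_mul, ← map_mul]
        rfl
      have e2 := congrArg (fun L => (Additive.toMul (L v) : V).1) e1
      exact mul_inv_eq_iff_eq_mul.1 (show x * (Additive.toMul (T v) : V).1 * x⁻¹ = _ from e2)
    · exact congrArg Additive.ofMul (Subtype.ext e)
  have hmain := S3Module.derived_trivial (K := AlgebraicClosure (ZMod r)) M hS hGne hMa hMt hMne0
    hsum (g : G ⧸ C) (k : G ⧸ C)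
  have e1 : embed (endOf (r := r) (act ⁅(g : G ⧸ C), (k : G ⧸ C)⁆)) = embed 1 := by
    rw [← hρact, hmain, Units.val_one, map_one]
  have e2 := embed_injective e1
  refine MulEquiv.ext fun w => ?_
  have e3 := congrArg (fun L => Additive.toMul (L (Additive.ofMul w))) e2
  exact e3

theorem main : ∀ (n : ℕ) (G : Type u) [Group G] [Finite G] [Group.IsSolvable G] (α τ : MulAut G),
    Nat.card G = n → Data α τ → Group.IsNilpotent ↥(commutator G) := by
  classical
  intro n
  induction n using Nat.strong_induction_on with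
  | _ n ih =>
  intro G _ _ _ α τ hn h
  by_cases htriv : Nontrivial G
  swap
  · haveI := not_nontrivial_iff_subsingleton.1 htriv
    infer_instance
  obtain ⟨V, ⟨hVn, hVα, hVτ, hne⟩, hVmin⟩ := Set.Finite.exists_minimal
    (s := {W : Subgroup G | W.Normal ∧ (∀ x ∈ W, α x ∈ W) ∧ (∀ x ∈ W, τ x ∈ W) ∧ W ≠ ⊥})
    (Set.toFinite _) ⟨⊤, inferInstance, fun _ _ => Subgroup.mem_top _, fun _ _ => Subgroup.mem_top _,
      top_ne_bot⟩
  haveI := hVn
  have hmin : ∀ W : Subgroup G, W.Normal → (∀ x ∈ W, α x ∈ W) → (∀ x ∈ W, τ x ∈ W) → W ≤ V →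
      W = ⊥ ∨ W = V := by
    intro W hW hWa hWt hle
    by_cases hW0 : W = ⊥
    · exact Or.inl hW0
    · exact Or.inr (le_antisymm hle (hVmin ⟨hW, hWa, hWt, hW0⟩ hle))
  have hVab : ∀ x ∈ V, ∀ y ∈ V, x * y = y * x := by
    have hb : ⁅V, V⁆ = ⊥ := by
      refine (hmin _ inferInstance ?_ ?_ (Subgroup.commutator_le_self V)).resolve_right
        (CubicFpf.commutator_lt hne).ne
      all_goals intro x hx
      · refine (show ⁅V, V⁆ ≤ Subgroup.comap α.toMonoidHom ⁅V, V⁆ from ?_) hx
        rw [Subgroup.commutator_le]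
        intro p hp q hq
        rw [Subgroup.mem_comap, map_commutatorElement]
        exact Subgroup.commutator_mem_commutator (hVα p hp) (hVα q hq)
      · refine (show ⁅V, V⁆ ≤ Subgroup.comap τ.toMonoidHom ⁅V, V⁆ from ?_) hx
        rw [Subgroup.commutator_le]
        intro p hp q hq
        rw [Subgroup.mem_comap, map_commutatorElement]
        exact Subgroup.commutator_mem_commutator (hVτ p hp) (hVτ q hq)
    intro x hx y hy
    refine commutatorElement_eq_one_iff_mul_comm.1 ?_
    rw [← Subgroup.mem_bot, ← hb]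
    exact Subgroup.commutator_mem_commutator hx hy
  haveI : IsMulCommutative V := ⟨⟨fun x y => Subtype.ext (hVab _ x.2 _ y.2)⟩⟩
  have hV1 : Nat.card V ≠ 1 := fun e => hne (Subgroup.card_eq_one.1 e)
  obtain ⟨r, hrp, hr⟩ := Nat.exists_prime_and_dvd hV1
  haveI := Fact.mk hrp
  have hexp : ∀ v : V, v ^ r = 1 := by
    let W : Subgroup G :=
      { carrier := {x | x ∈ V ∧ x ^ r = 1}
        one_mem' := ⟨V.one_mem, one_pow r⟩
        mul_mem' := fun {x y} hx hy => ⟨V.mul_mem hx.1 hy.1, by
          rw [Commute.mul_pow (hVab x hx.1 y hy.1), hx.2, hy.2, one_mul]⟩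
        inv_mem' := fun {x} hx => ⟨V.inv_mem hx.1, by rw [inv_pow, hx.2, inv_one]⟩ }
    have hWn : W.Normal := ⟨fun x hx y => ⟨hVn.conj_mem x hx.1 y, by rw [conj_pow, hx.2]; group⟩⟩
    have hWV : W = V := by
      refine (hmin W hWn (fun x hx => ⟨hVα x hx.1, by rw [← map_pow, hx.2, map_one]⟩)
        (fun x hx => ⟨hVτ x hx.1, by rw [← map_pow, hx.2, map_one]⟩) (fun x hx => hx.1)).resolve_left ?_
      intro hW
      obtain ⟨v, hv⟩ := exists_prime_orderOf_dvd_card' r hr
      have : v.1 ∈ W := ⟨v.2, by
        rw [← Subgroup.coe_pow, ← hv, pow_orderOf_eq_one, Subgroup.coe_one]⟩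
      rw [hW, Subgroup.mem_bot] at this
      have hv1 : orderOf v = 1 := by rw [orderOf_eq_one_iff]; exact Subtype.ext this
      exact hrp.one_lt.ne' (hv.symm.trans hv1)
    intro v
    have : v.1 ∈ W := by rw [hWV]; exact v.2
    exact Subtype.ext this.2
  -- induction on the quotient
  have hlt : Nat.card (G ⧸ V) < n := by
    rw [← hn, ← V.card_mul_index, Subgroup.index]
    exact lt_mul_of_one_lt_left Nat.card_pos (by have := (Nat.card_pos : 0 < Nat.card V); omega)
  haveI hq : Group.IsNilpotent ↥(commutator (G ⧸ V)) :=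
    ih _ hlt (G ⧸ V) (Data.quo α V hVα) (Data.quo τ V hVτ) rfl (h.quotient V hVα hVτ)
  set C := ((resHom V).comp (S3Module.cg V)).ker with hC
  have hVC : V ≤ C := fun x hx => by
    rw [hC, MonoidHom.mem_ker]
    refine MulEquiv.ext fun w => Subtype.ext ?_
    show x * w.1 * x⁻¹ = w.1
    rw [hVab x hx w.1 w.2, mul_inv_cancel_right]
  have hnil : Group.IsNilpotent ↥(commutator (G ⧸ C)) := by
    let f : G ⧸ V →* G ⧸ C := QuotientGroup.map V C (MonoidHom.id G) (by simpa using hVC)
    have hf : Function.Surjective f := fun z => by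
      induction z using QuotientGroup.induction_on with
      | _ x => exact ⟨(x : G ⧸ V), rfl⟩
    have hmap : (commutator (G ⧸ V)).map f = commutator (G ⧸ C) := by
      rw [commutator_def, commutator_def, Subgroup.map_commutator,
        Subgroup.map_top_of_surjective f hf]
    haveI := Group.nilpotent_of_surjective (f.subgroupMap (commutator (G ⧸ V)))
      (f.subgroupMap_surjective _)
    exact Group.nilpotent_of_mulEquiv (MulEquiv.subgroupCongr hmap)
  have hcen : ∀ x ∈ commutator G, ∀ v ∈ V, v * x = x * v := by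
    intro x hx v hv
    have hle : commutator G ≤ C := by
      rw [commutator_def, Subgroup.commutator_le]
      intro g _ k _
      exact commutator_centralizes h V hVα hVτ hne hmin hexp hr hnil g k
    have e := DFunLike.congr_fun (show (resHom V) (S3Module.cg V x) = 1 from hle hx) ⟨v, hv⟩
    have e2 : x * v * x⁻¹ = v := congrArg Subtype.val e
    exact (mul_inv_eq_iff_eq_mul.1 e2).symm
  let f : commutator G →* commutator (G ⧸ V) :=
    ((QuotientGroup.mk' V).comp (commutator G).subtype).codRestrict _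
      fun x => map_commutator_mem (QuotientGroup.mk' V) x.2
  refine Subgroup.isNilpotent_of_ker_le_center f fun x hx => Subgroup.mem_center_iff.2 fun y => ?_
  have hxV : x.1 ∈ V := (QuotientGroup.eq_one_iff x.1).1 (congrArg Subtype.val hx)
  exact Subtype.ext ((hcen y.1 y.2 x.1 hxV).symm)

/-- The automorphism given by an element. -/
def autOf {Γ G : Type*} [Group Γ] [Group G] [MulDistribMulAction Γ G] (s : Γ) : MulAut G :=
  MulDistribMulAction.toMulEquiv G s

theorem perm_facts :
    (finRotate 3 : Equiv.Perm (Fin 3)) * (finRotate 3 * finRotate 3) = 1 ∧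
      (Equiv.swap 0 1 : Equiv.Perm (Fin 3)) * Equiv.swap 0 1 = 1 ∧
      (Equiv.swap 0 1 : Equiv.Perm (Fin 3)) * finRotate 3 =
        finRotate 3 * (finRotate 3 * Equiv.swap 0 1) ∧
      ∀ σ : Equiv.Perm (Fin 3), σ = 1 ∨ σ = finRotate 3 ∨ σ = finRotate 3 * finRotate 3 ∨
        σ = Equiv.swap 0 1 ∨ σ = finRotate 3 * Equiv.swap 0 1 ∨
          σ = finRotate 3 * (finRotate 3 * Equiv.swap 0 1) := by
  decide


/-- Let the symmetric group of degree 3 act by automorphisms on a finite solvable group `G` of order prime to 6, so that only the identity of `G` is fixed by all of it. Then the derived subgroup of `G` is nilpotent. -/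
theorem result {G : Type*} [Group G] [Finite G] [Group.IsSolvable G]
    [MulDistribMulAction (Equiv.Perm (Fin 3)) G] (hcop : (Nat.card G).Coprime 6)
    (hfpf : ∀ g : G, (∀ a : Equiv.Perm (Fin 3), a • g = g) → g = 1) :
    Group.IsNilpotent ↥(commutator G) := by
  obtain ⟨p1, p2, p3, p4⟩ := perm_facts
  set c : Equiv.Perm (Fin 3) := finRotate 3
  set s : Equiv.Perm (Fin 3) := Equiv.swap 0 1
  refine main (Nat.card G) G (autOf c) (autOf s) rfl
    { cube := fun g => ?_
      sq := fun g => ?_
      rel := fun g => ?_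
      fpf := fun g h1 h2 => hfpf g fun a => ?_
      cop2 := fun d => ?_
      cop3 := fun d => ?_ }
  · show c • c • c • g = g
    rw [smul_smul, smul_smul, mul_assoc, p1, one_smul]
  · show s • s • g = g
    rw [smul_smul, p2, one_smul]
  · show s • c • g = c • c • s • g
    rw [smul_smul, p3, mul_smul, mul_smul]
  · have h1' : c • g = g := h1
    have h2' : s • g = g := h2
    rcases p4 a with rfl | rfl | rfl | rfl | rfl | rfl <;>
      simp only [one_smul, mul_smul, h1', h2']
  · exact (by decide : ¬ (2 = 1)) (Nat.eq_one_of_dvd_coprimes hcop d (by norm_num))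
  · exact (by decide : ¬ (3 = 1)) (Nat.eq_one_of_dvd_coprimes hcop d (by norm_num))

end Cfsg.Agent.S4305
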