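import Cfsg.Statements.S4306
import Cfsg.Agent.Lib.Perm.PQFix.Reduce

set_option autoImplicit false
open Cfsg
open Cfsg.Agent.Solv Cfsg.Agent.Perm.PQFix

namespace Cfsg.Agent.S4306

universe u v

theorem ordered {G : Type u} {A : Type v} [Group G] [Finite G]
    [Group.IsSolvable G] [Group A] [Finite A] [MulDistribMulAction A G] {p q : ℕ} (hp : p.Prime)
    (hq : q.Prime) (hqp : q < p) (hA : Nat.card A = p * q) (hAna : ¬ IsMulCommutative A)
    (hcop : (Nat.card G).Coprime (p * q)) (hfpf : ∀ g : G, (∀ a : A, a • g = g) → g = 1) :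
    Group.IsNilpotent (G ⧸ Cfsg.fittingSubgroup G) := by
  let φ : A →* MulAut G := MulDistribMulAction.toMulAut A G
  haveI : Finite (G ⋊[φ] A) := Finite.of_equiv (G × A) SemidirectProduct.equivProd.symm
  let K : Subgroup (G ⋊[φ] A) := (SemidirectProduct.inl : G →* G ⋊[φ] A).range
  let A0 : Subgroup (G ⋊[φ] A) := (SemidirectProduct.inr : A →* G ⋊[φ] A).range
  haveI : K.Normal := by
    show (SemidirectProduct.inl : G →* G ⋊[φ] A).range.Normal
    rw [SemidirectProduct.range_inl_eq_ker_rightHom]
    infer_instance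
  let e : G ≃* K := MonoidHom.ofInjective SemidirectProduct.inl_injective
  have hK : Group.IsSolvable K := Group.isSolvable_of_surjective (f := e.toMonoidHom) e.surjective
  have hA0 : Nat.card A0 = p * q := by
    rw [← hA]
    exact Nat.card_congr (MonoidHom.ofInjective SemidirectProduct.inr_injective).toEquiv.symm
  have hna : ∃ a ∈ A0, ∃ b ∈ A0, a * b ≠ b * a := by
    by_contra h
    push Not at h
    refine hAna ⟨⟨fun a b => ?_⟩⟩
    apply SemidirectProduct.inr_injective (φ := φ)
    rw [map_mul, map_mul]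
    exact h _ ⟨a, rfl⟩ _ ⟨b, rfl⟩
  have hKc : (Nat.card K).Coprime (p * q) := by rwa [← Nat.card_congr e.toEquiv]
  have hfix : K ⊓ Subgroup.centralizer (A0 : Set (G ⋊[φ] A)) = ⊥ := by
    rw [Subgroup.eq_bot_iff_forall]
    rintro _ ⟨⟨g, rfl⟩, hg⟩
    have h1 : g = 1 := hfpf g fun a => by
      have h2 := Subgroup.mem_centralizer_iff.1 hg (SemidirectProduct.inr a) ⟨a, rfl⟩
      have h3 := congrArg SemidirectProduct.left h2
      simpa [φ] using h3
    rw [h1, map_one]
  haveI := height_two hp hq hqp K A0 hK hA0 hna hKc hfix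
  haveI := fittingSubgroup_normal (G := G)
  exact Group.nilpotent_of_mulEquiv
    (QuotientGroup.congr (Cfsg.fittingSubgroup G) (Cfsg.fittingSubgroup K) e
      (le_antisymm (fitting_map_equiv e) fun y hy =>
        ⟨e.symm y, fitting_map_equiv e.symm ⟨y, hy, rfl⟩, e.apply_symm_apply y⟩)).symm

/-- Let `A` be a non-abelian group of order `pq` with `p, q` distinct primes, acting by automorphisms on a finite solvable group `G` of order prime to `pq`, so that only the identity of `G` is fixed by all of `A`. Then `G` has Fitting height at most 2: there is a normal nilpotent subgroup `F` of `G` with `G/F` nilpotent. -/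
theorem result {G A : Type*} [Group G] [Finite G]
    [Group.IsSolvable G] [Group A] [Finite A] [MulDistribMulAction A G] (p q : ℕ) (hp : p.Prime) (hq : q.Prime) (hpq : p ≠ q)
    (hA : Nat.card A = p * q) (hAna : ¬ IsMulCommutative A) (hcop : (Nat.card G).Coprime (p * q))
    (hfpf : ∀ g : G, (∀ a : A, a • g = g) → g = 1) :
    ∃ F : Subgroup G, ∃ hF : F.Normal, Group.IsNilpotent ↥F ∧ Group.IsNilpotent (G ⧸ F) := by
  have h : Group.IsNilpotent (G ⧸ Cfsg.fittingSubgroup G) := by
    rcases lt_or_gt_of_ne hpq with h | h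
    · exact ordered hq hp h (by rw [hA, mul_comm]) hAna (by rwa [mul_comm]) hfpf
    · exact ordered hp hq h hA hAna hcop hfpf
  exact ⟨Cfsg.fittingSubgroup G, fittingSubgroup_normal, fittingSubgroup_nilpotent, h⟩

end Cfsg.Agent.S4306
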