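import Cfsg.Statements.S4314
import Mathlib
import Cfsg.Agent.Lib.Solv.Parts
import Cfsg.Agent.Lib.Perm.NilpFrattini

set_option autoImplicit false
open Cfsg

namespace Cfsg.Agent.S4314


set_option maxHeartbeats 1000000

section Aux
variable {G : Type*} [Group G] [Finite G]

abbrev cz (x : G) : Subgroup G := Subgroup.centralizer ({x} : Set G)

omit [Finite G] in
theorem cz_eq_top_iff {x : G} : (cz x).index = 1 ↔ x ∈ Subgroup.center G := by
  rw [Subgroup.index_eq_one, Subgroup.eq_top_iff', Subgroup.mem_center_iff]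
  exact forall_congr' fun y => Subgroup.mem_centralizer_singleton_iff

theorem eq_of_le_prime_index {H K : Subgroup G} (hle : H ≤ K) (hH : H.index.Prime) (hK : K ≠ ⊤) : H = K := by
  rcases (Nat.dvd_prime hH).1 (Subgroup.index_dvd_of_le hle) with h | h
  · exact absurd (Subgroup.index_eq_one.1 h) hK
  · have h1 := H.card_mul_index
    have h2 := K.card_mul_index
    rw [← h2, ← h] at h1
    refine Subgroup.eq_of_le_of_card_ge hle ?_
    exact (Nat.eq_of_mul_eq_mul_right (Nat.pos_of_ne_zero Subgroup.index_ne_zero_of_finite) h1).ge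

/-- A subgroup all of whose elements of prime power order lie in `K` lies in `K`. -/
theorem le_of_ppow {H K : Subgroup G}
    (h : ∀ (q : ℕ), q.Prime → ∀ v ∈ H, (∃ k, orderOf v = q ^ k) → v ∈ K) : H ≤ K := by
  rw [← Subgroup.subgroupOf_eq_top]
  refine Subgroup.eq_top_of_card_eq _ (Nat.dvd_antisymm (Subgroup.card_subgroup_dvd_card _) ?_)
  refine (Nat.dvd_iff_prime_pow_dvd_dvd _ _).2 fun q k hq hk => ?_
  haveI : Fact q.Prime := ⟨hq⟩
  obtain ⟨Q, hQ⟩ := Sylow.exists_subgroup_card_pow_prime q hk
  rw [← hQ]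
  refine Subgroup.card_dvd_of_le fun v hv => ?_
  rw [Subgroup.mem_subgroupOf]
  obtain ⟨j, hj⟩ := IsPGroup.iff_orderOf.1 (IsPGroup.of_card hQ) ⟨v, hv⟩
  exact h q hq v v.2 ⟨j, by rw [← hj]; exact (Subgroup.orderOf_mk (v : H) hv).symm ▸ (Subgroup.orderOf_coe v)⟩

variable (h : ∀ x : G, (cz x).index = 1 ∨ (cz x).index.Prime)
include h

omit [Finite G] in
theorem index_prime {x : G} (hx : x ∉ Subgroup.center G) : (cz x).index.Prime :=
  (h x).resolve_left fun h1 => hx (cz_eq_top_iff.1 h1)

theorem cz_eq_of_le {a b : G} (hle : cz a ≤ cz b) (ha : a ∉ Subgroup.center G)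
    (hb : b ∉ Subgroup.center G) : cz a = cz b :=
  eq_of_le_prime_index hle (index_prime h ha) fun ht => hb (cz_eq_top_iff.1 (Subgroup.index_eq_one.2 ht))

theorem cz_eq {a b : G} (hab : Commute a b) (hco : (orderOf a).Coprime (orderOf b))
    (ha : a ∉ Subgroup.center G) (hb : b ∉ Subgroup.center G) : cz a = cz b := by
  have key : ∀ u v : G, Commute u v → (orderOf u).Coprime (orderOf v) → u ∉ Subgroup.center G →
      cz (u * v) = cz u := by
    intro u v huv hc hu
    obtain ⟨i, j, hij⟩ : IsCoprime (orderOf u : ℤ) (orderOf v : ℤ) := Int.isCoprime_iff_gcd_eq_one.2 hc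
    have hmem : u ∈ Subgroup.zpowers (u * v) := ⟨j * orderOf v, by
      show (u * v) ^ (j * (orderOf v : ℤ)) = u
      have h1 : u ^ (i * (orderOf u : ℤ)) = 1 := by
        rw [mul_comm, zpow_mul, zpow_natCast, pow_orderOf_eq_one, one_zpow]
      have h2 : v ^ (j * (orderOf v : ℤ)) = 1 := by
        rw [mul_comm, zpow_mul, zpow_natCast, pow_orderOf_eq_one, one_zpow]
      rw [huv.mul_zpow, h2, mul_one]
      calc u ^ (j * (orderOf v : ℤ)) = u ^ (i * (orderOf u : ℤ)) * u ^ (j * (orderOf v : ℤ)) := by rw [h1, one_mul]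
        _ = u := by rw [← zpow_add, hij, zpow_one]⟩
    have hle : cz (u * v) ≤ cz u := fun g hg => by
      obtain ⟨k, hk⟩ := Subgroup.mem_zpowers_iff.1 hmem
      have h1 : Commute g (u * v) := Subgroup.mem_centralizer_singleton_iff.1 hg
      rw [Subgroup.mem_centralizer_singleton_iff, ← hk]
      exact (h1.zpow_right k).eq
    exact cz_eq_of_le h hle (fun hz => hu (Subgroup.zpowers_le.2 hz hmem)) hu
  rw [← key a b hab hco ha, hab.eq, key b a hab.symm hco.symm hb]

omit h [Finite G] in
theorem coprime_of_pow {a b : G} {p q : ℕ} (hp : p.Prime) (hq : q.Prime) (hne : p ≠ q)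
    (ha : ∃ k, orderOf a = p ^ k) (hb : ∃ k, orderOf b = q ^ k) : (orderOf a).Coprime (orderOf b) := by
  obtain ⟨i, hi⟩ := ha
  obtain ⟨j, hj⟩ := hb
  rw [hi, hj]
  exact Nat.Coprime.pow _ _ ((Nat.coprime_primes hp hq).2 hne)

omit h in
theorem not_dvd_center_index {q : ℕ} (hq : q.Prime) {C : Subgroup G} (hqC : ¬ q ∣ C.index)
    (hcen : ∀ y ∈ C, (∃ k, orderOf y = q ^ k) → y ∈ Subgroup.center G) :
    ¬ q ∣ (Subgroup.center G).index := by
  haveI : Fact q.Prime := ⟨hq⟩
  obtain ⟨Q⟩ : Nonempty (Sylow q C) := inferInstance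
  have hle : (Q : Subgroup C).map C.subtype ≤ Subgroup.center G := by
    rintro _ ⟨y, hy, rfl⟩
    obtain ⟨k, hk⟩ := IsPGroup.iff_orderOf.1 Q.2 ⟨y, hy⟩
    exact hcen _ y.2 ⟨k, by rw [← hk, Subgroup.orderOf_mk]; exact Subgroup.orderOf_coe y⟩
  intro hd
  have h1 := hd.trans (Subgroup.index_dvd_of_le hle)
  rw [Subgroup.index_map_subtype] at h1
  exact ((Nat.Prime.dvd_mul hq).1 h1).elim Q.not_dvd_index hqC

end Aux


/-- Let `G` be a finite group every conjugacy class of which has size 1 or a prime. Then either `G` is nilpotent of class at most 2, or `G/Z(G)` is a non-abelian group of order `pq` for distinct primes `p, q` (a Frobenius group of order `pq`). -/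
theorem result {G : Type*} [Group G] [Finite G]
    (h : ∀ x : G, (Subgroup.centralizer ({x} : Set G)).index = 1 ∨ ((Subgroup.centralizer ({x} : Set G)).index).Prime) :
    Subgroup.upperCentralSeries G 2 = ⊤ ∨
      ∃ p q : ℕ, p.Prime ∧ q.Prime ∧ p ≠ q ∧ Nat.card (G ⧸ Subgroup.center G) = p * q ∧ ¬ IsMulCommutative (G ⧸ Subgroup.center G) := by
  classical
  by_cases hcl : Subgroup.upperCentralSeries G 2 = ⊤
  · exact Or.inl hcl
  right
  set Z := Subgroup.center G with hZdef
  -- the group is not a product of a p-group and a central subgroup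
  obtain ⟨p, hp, x, hxp, hxz, hxr⟩ : ∃ p, p.Prime ∧ ∃ x : G, (∃ k, orderOf x = p ^ k) ∧ x ∉ Z ∧
      (cz x).index ≠ p := by
    by_contra hB
    push Not at hB
    apply hcl
    by_cases hall : ∀ q, q.Prime → ∀ v : G, (∃ k, orderOf v = q ^ k) → v ∈ Z
    · have : (⊤ : Subgroup G) ≤ Z := le_of_ppow fun q hq v _ hv => hall q hq v hv
      refine top_le_iff.1 (this.trans ?_)
      rw [hZdef, ← Subgroup.upperCentralSeries_one]
      exact Subgroup.upperCentralSeries_mono G (by omega)
    push Not at hall
    obtain ⟨p, hp, x, hxp, hxz⟩ := hall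
    haveI : Fact p.Prime := ⟨hp⟩
    have hxi := hB p hp x hxp hxz
    have hdiv : ∀ q, q.Prime → q ∣ Z.index → q = p := by
      intro q hq hqd
      by_contra hne
      refine not_dvd_center_index hq (C := cz x) (by rw [hxi, Nat.prime_dvd_prime_iff_eq hq hp]; exact hne)
        (fun y hy hyq => ?_) hqd
      by_contra hyz
      have := cz_eq h (show Commute y x from Subgroup.mem_centralizer_singleton_iff.1 hy)
        (coprime_of_pow hq hp hne hyq hxp) hyz hxz
      rw [← this, hB q hq y hyq hyz] at hxi
      exact hne hxi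
    have hZp : IsPGroup p (G ⧸ Z) := by
      have h0 : Z.index ≠ 0 := Subgroup.index_ne_zero_of_finite
      exact IsPGroup.of_card (n := Z.index.primeFactorsList.length) (by
        rw [← Subgroup.index_eq_card]
        exact Nat.eq_prime_pow_of_unique_prime_dvd h0 (fun {d} hd hdd => hdiv d hd hdd))
    haveI := hZp.isNilpotent
    haveI : Group.IsNilpotent G := Group.of_quotient_center_nilpotent inferInstance
    have hG' : commutator G ≤ Z := by
      intro c hc
      rw [hZdef, Subgroup.mem_center_iff]
      intro y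
      have h2 : c ∈ cz y := by
        by_cases hy : y ∈ Z
        · exact Subgroup.mem_centralizer_singleton_iff.2 (Subgroup.mem_center_iff.1 hy c)
        · have hpr := index_prime h hy
          have hco : IsCoatom (cz y) := by
            refine ⟨fun ht => hpr.ne_one (Subgroup.index_eq_one.2 ht), fun K hK => ?_⟩
            by_contra hne
            exact hK.ne (eq_of_le_prime_index hK.le hpr hne)
          haveI : (cz y).Normal :=
            Subgroup.NormalizerCondition.normal_of_coatom _ Group.normalizerCondition_of_isNilpotent hco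
          exact Cfsg.Agent.Perm.commutator_le_of_normal_coatom hco hc
      exact (Subgroup.mem_centralizer_singleton_iff.1 h2).symm
    rw [eq_top_iff]
    intro a _
    rw [show (2 : ℕ) = 1 + 1 from rfl, Subgroup.mem_upperCentralSeries_succ_iff]
    intro y
    rw [Subgroup.upperCentralSeries_one]
    have h3 := hG' (Subgroup.commutator_mem_commutator (Subgroup.mem_top a) (Subgroup.mem_top y))
    simpa [commutatorElement_def, hZdef] using h3
  haveI : Fact p.Prime := ⟨hp⟩
  set C := cz x with hC
  set r := C.index with hr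
  have hrp : r.Prime := index_prime h hxz
  haveI : Fact r.Prime := ⟨hrp⟩
  have hxC : x ∈ C := Subgroup.mem_centralizer_singleton_iff.2 rfl
  have hZC : Z ≤ C := Subgroup.center_le_centralizer _
  -- C is abelian
  have hab : ∀ a ∈ C, ∀ b ∈ C, a * b = b * a := by
    suffices hh : ∀ a ∈ C, C ≤ cz a from fun a ha b hb =>
      (Subgroup.mem_centralizer_singleton_iff.1 (hh a ha hb)).symm
    by_cases hy : ∃ s, s.Prime ∧ s ≠ p ∧ ∃ y ∈ C, (∃ k, orderOf y = s ^ k) ∧ y ∉ Z
    · obtain ⟨s, hs, hsp, y, hyC, hys, hyz⟩ := hy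
      have hCy : cz y = C := cz_eq h (show Commute y x from Subgroup.mem_centralizer_singleton_iff.1 hyC)
        (coprime_of_pow hs hp hsp hys hxp) hyz hxz
      intro a ha b hb
      have hle : C ≤ Subgroup.centralizer ((C : Subgroup G) : Set G) := by
        refine le_of_ppow fun t ht v hv hvt => ?_
        rw [Subgroup.mem_centralizer_iff]
        intro c hc
        by_cases hvz : v ∈ Z
        · exact Subgroup.mem_center_iff.1 hvz c
        have hCv : cz v = C := by
          by_cases htp : t = p
          · rw [← hCy]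
            subst htp
            exact cz_eq h (show Commute v y from Subgroup.mem_centralizer_singleton_iff.1 (hCy.symm ▸ hv : v ∈ cz y))
              (coprime_of_pow ht hs hsp.symm hvt hys) hvz hyz
          · exact cz_eq h (show Commute v x from Subgroup.mem_centralizer_singleton_iff.1 hv)
              (coprime_of_pow ht hp htp hvt hxp) hvz hxz
        exact Subgroup.mem_centralizer_singleton_iff.1 (hCv.symm ▸ hc : c ∈ cz v)
      rw [Subgroup.mem_centralizer_singleton_iff]
      exact (Subgroup.mem_centralizer_iff.1 (hle hb) a ha).symm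
    push Not at hy
    -- elements of C of order prime to p are central
    have hpreg : ∀ v ∈ C, (orderOf v).Coprime p → v ∈ Z := fun v hv hco => by
      refine le_of_ppow (H := Subgroup.zpowers v) (fun q hq w hw hwq => ?_) (Subgroup.mem_zpowers v)
      by_cases hqp : q = p
      · obtain ⟨k, hk⟩ := hwq
        rcases k with _ | k
        · rw [pow_zero, orderOf_eq_one_iff] at hk; rw [hk]; exact one_mem _
        · exfalso
          have h1 : orderOf w ∣ orderOf v := by
            rw [← Nat.card_zpowers v]; exact Subgroup.orderOf_dvd_natCard _ hw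
          rw [hk, hqp] at h1
          exact (hp.coprime_iff_not_dvd.1 hco.symm) ((dvd_pow_self p (Nat.succ_ne_zero k)).trans h1)
      · exact hy q hq hqp w (Subgroup.zpowers_le.2 hv hw) hwq
    have hpart : ∀ u ∈ C, ∃ u1 ∈ C, (∃ k, orderOf u1 = p ^ k) ∧ u1⁻¹ * u ∈ Z ∧ cz u1 = cz u := by
      intro u hu
      obtain ⟨u1, v, hu1, hv, huv, hk, hco⟩ := Cfsg.Agent.Solv.exists_ppart p u
      have hvz := hpreg v (Subgroup.zpowers_le.2 hu hv) hco
      refine ⟨u1, Subgroup.zpowers_le.2 hu hu1, hk, ?_, ?_⟩
      · rw [← huv, inv_mul_cancel_left]; exact hvz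
      · ext g
        rw [Subgroup.mem_centralizer_singleton_iff, Subgroup.mem_centralizer_singleton_iff, ← huv]
        have hgv : g * v = v * g := Subgroup.mem_center_iff.1 hvz g
        constructor
        · intro hg
          rw [← mul_assoc, hg, mul_assoc, hgv, mul_assoc]
        · intro hg
          have h3 : g * u1 * v = u1 * g * v := by rw [mul_assoc u1 g v, hgv, ← mul_assoc u1, ← hg, mul_assoc]
          exact mul_right_cancel h3
    have hZidx : Z.index = r * Z.relIndex C := by
      rw [hr, mul_comm, Subgroup.relIndex_mul_index hZC]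
    obtain ⟨b, hb⟩ : ∃ b, Z.relIndex C = p ^ b := by
      have hCp : IsPGroup p (C ⧸ Z.subgroupOf C) := by
        intro q
        obtain ⟨⟨u, hu⟩, rfl⟩ := QuotientGroup.mk_surjective q
        obtain ⟨u1, hu1, ⟨k, hk⟩, huz, -⟩ := hpart u hu
        refine ⟨k, ?_⟩
        rw [← QuotientGroup.mk_pow, QuotientGroup.eq_one_iff, Subgroup.mem_subgroupOf]
        show u ^ p ^ k ∈ Z
        have hcm : Commute u1 (u1⁻¹ * u) := Subgroup.mem_center_iff.1 huz u1
        rw [← mul_inv_cancel_left u1 u, hcm.mul_pow, ← hk, pow_orderOf_eq_one, one_mul]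
        exact pow_mem huz _
      exact IsPGroup.iff_card.1 hCp
    rw [hb] at hZidx
    set π := QuotientGroup.mk' Z with hπ
    have hker : π.ker = Z := QuotientGroup.ker_mk' Z
    have hcard : Nat.card (G ⧸ Z) = r * p ^ b := by rw [← Subgroup.index_eq_card, hZidx]
    have hback : ∀ H : Subgroup G, Z ≤ H → (H.map π).comap π = H := fun H hH => by
      rw [Subgroup.comap_map_eq, hker, sup_eq_left.2 hH]
    have hmapidx : ∀ H : Subgroup G, Z ≤ H → (H.map π).index = H.index := fun H hH => by
      exact Subgroup.index_map_eq _ (QuotientGroup.mk'_surjective Z) (by rw [hker]; exact hH)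
    have hconjH : ∀ H : Subgroup G, Z ≤ H → H.index = r → ∃ g : G, H = C.map (MulAut.conj g).toMonoidHom := by
      intro H hH hHi
      have hsyl : ∀ L : Subgroup G, Z ≤ L → L.index = r → ∃ S : Sylow p (G ⧸ Z), (S : Subgroup (G ⧸ Z)) = L.map π := by
        intro L hL hLi
        have hc := (L.map π).card_mul_index
        rw [hmapidx L hL, hLi, hcard, mul_comm r] at hc
        have hc' := Nat.eq_of_mul_eq_mul_right hrp.pos hc
        exact ⟨(IsPGroup.of_card hc').toSylow (by
          rw [hmapidx L hL, hLi, Nat.prime_dvd_prime_iff_eq hp hrp]; exact fun e => hxr e.symm), rfl⟩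
      obtain ⟨S, hS⟩ := hsyl C hZC rfl
      obtain ⟨T, hT⟩ := hsyl H hH hHi
      obtain ⟨q, hq⟩ := MulAction.exists_smul_eq (G ⧸ Z) S T
      obtain ⟨g, rfl⟩ := QuotientGroup.mk'_surjective Z q
      refine ⟨g, ?_⟩
      have h1 : H.map π = (C.map (MulAut.conj g).toMonoidHom).map π := by
        rw [Subgroup.map_map, ← hT, ← hq, Sylow.coe_subgroup_smul, hS]
        show (C.map π).map (MulAut.conj (π g)).toMonoidHom = _
        rw [Subgroup.map_map]
        congr 1
      rw [← hback H hH, h1, hback]
      intro z hz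
      exact ⟨z, hZC hz, by simp [MulAut.conj_apply, Subgroup.mem_center_iff.1 hz g]⟩
    have hconj : ∀ u ∈ C, u ∉ Z → ∃ g : G, cz u = C.map (MulAut.conj g).toMonoidHom := by
      intro u hu huz
      obtain ⟨u1, hu1, hk, hvz, hcz⟩ := hpart u hu
      have hu1z : u1 ∉ Z := fun h1 => huz (by
        have := Z.mul_mem h1 hvz
        rwa [mul_inv_cancel_left] at this)
      have ht := index_prime h hu1z
      have hdd : (cz u1).index ∣ r * p ^ b := hZidx ▸ Subgroup.index_dvd_of_le (Subgroup.center_le_centralizer _)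
      rcases (Nat.Prime.dvd_mul ht).1 hdd with h1 | h1
      · refine hconjH _ (Subgroup.center_le_centralizer _) ?_
        rw [← hcz]; exact (Nat.prime_dvd_prime_iff_eq ht hrp).1 h1
      · exfalso
        have htp : (cz u1).index = p := (Nat.prime_dvd_prime_iff_eq ht hp).1 (ht.dvd_of_dvd_pow h1)
        have hdr : r ∣ Nat.card ((cz u1).map π) := by
          have hc := ((cz u1).map π).card_mul_index
          rw [hmapidx _ (Subgroup.center_le_centralizer _), htp, hcard] at hc
          exact Nat.Coprime.dvd_of_dvd_mul_right ((Nat.coprime_primes hrp hp).2 hxr) (Dvd.intro _ hc.symm)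
        obtain ⟨⟨wb, hwb⟩, hwo⟩ := exists_prime_orderOf_dvd_card' r hdr
        rw [Subgroup.orderOf_mk] at hwo
        obtain ⟨w, hw, rfl⟩ := hwb
        obtain ⟨w1, w2, hw1, hw2, hww, hw1k, hw2c⟩ := Cfsg.Agent.Solv.exists_ppart r w
        have hw1z : w1 ∉ Z := by
          intro hz
          have h2 : π w = π w2 := by
            rw [← hww, map_mul, show π w1 = 1 from (QuotientGroup.eq_one_iff w1).2 hz, one_mul]
          rw [h2] at hwo
          have h3 : r ∣ orderOf w2 := hwo ▸ orderOf_map_dvd π w2
          exact (hrp.coprime_iff_not_dvd.1 hw2c.symm) h3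
        have hw1u : Commute w1 u1 := Subgroup.mem_centralizer_singleton_iff.1 (Subgroup.zpowers_le.2 hw hw1)
        have e1 : cz w1 = cz u1 := cz_eq h hw1u (coprime_of_pow hrp hp hxr hw1k hk) hw1z hu1z
        have hxu : x ∈ cz u1 := by
          rw [Subgroup.mem_centralizer_singleton_iff]
          exact (Subgroup.mem_centralizer_singleton_iff.1 hu1).symm
        have e2 : cz x = cz w1 := cz_eq h
          (show Commute x w1 from Subgroup.mem_centralizer_singleton_iff.1 (e1.symm ▸ hxu : x ∈ cz w1))
          (coprime_of_pow hp hrp hxr.symm hxp hw1k) hxz hw1z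
        apply hxr
        show (cz x).index = p
        rw [e2, e1, htp]
    by_cases hKC : C.normalCore = C
    · intro a ha
      by_cases haz : a ∈ Z
      · rw [show cz a = ⊤ from Subgroup.index_eq_one.1 (cz_eq_top_iff.2 haz)]; exact le_top
      · obtain ⟨g, hg⟩ := hconj a ha haz
        have : C.Normal := hKC ▸ Subgroup.normalCore_normal C
        refine fun d hd => hg ▸ ⟨g⁻¹ * d * g, ?_, by simp [mul_assoc]⟩
        simpa using this.conj_mem d hd g⁻¹
    -- intersections with other conjugates lie in the core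
    set K := C.normalCore with hK
    have hZK : Z ≤ K := fun z hz a => by
      rw [Subgroup.mem_center_iff.1 hz a, mul_inv_cancel_right]; exact hZC hz
    haveI hCnil : Group.IsNilpotent C := by
      have hle : Z.subgroupOf C ≤ Subgroup.center C := fun c hc => Subgroup.mem_center_iff.2 fun d =>
        Subtype.ext (Subgroup.mem_center_iff.1 (Subgroup.mem_subgroupOf.1 hc) d)
      have hq : IsPGroup p (C ⧸ Subgroup.center C) := by
        have hd : (Subgroup.center C).index ∣ p ^ b := hb ▸ Subgroup.index_dvd_of_le hle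
        obtain ⟨i, -, hi⟩ := (Nat.dvd_prime_pow hp).1 hd
        exact IsPGroup.of_card (by rw [← Subgroup.index_eq_card, hi])
      haveI := hq.isNilpotent
      exact Group.of_quotient_center_nilpotent inferInstance
    have hmax : ∀ g : G, C.map (MulAut.conj g).toMonoidHom ≠ C → C ⊓ C.map (MulAut.conj g).toMonoidHom ≤ K := by
      by_contra hcon
      push Not at hcon
      obtain ⟨g0, hg0⟩ := hcon
      obtain ⟨g, hgmem, hmaxg⟩ := Finset.exists_max_image
        ((Set.toFinite {g : G | C.map (MulAut.conj g).toMonoidHom ≠ C ∧ ¬ C ⊓ C.map (MulAut.conj g).toMonoidHom ≤ K}).toFinset)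
        (fun g => Nat.card (C ⊓ C.map (MulAut.conj g).toMonoidHom : Subgroup G))
        ⟨g0, (Set.Finite.mem_toFinset _).2 hg0⟩
      obtain ⟨hgne, hgK⟩ := (Set.Finite.mem_toFinset _).1 hgmem
      set C' := C.map (MulAut.conj g).toMonoidHom with hC'
      set D := C ⊓ C' with hD
      set N := Subgroup.normalizer (D : Set G) with hN
      have hne1 : D ≠ C := fun hh => hgne (Subgroup.eq_of_le_of_card_ge (hh ▸ inf_le_right)
        (by rw [hC', Subgroup.card_map_of_injective (MulAut.conj g).injective])).symm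
      have hne2 : D ≠ C' := fun hh => hgne (Subgroup.eq_of_le_of_card_ge (hh ▸ inf_le_left)
        (by rw [hC', Subgroup.card_map_of_injective (MulAut.conj g).injective]))
      have hgrow : ∀ A : Subgroup G, Group.IsNilpotent A → D ≤ A → D ≠ A → D < A ⊓ N := by
        intro A hA hDA hne
        refine lt_of_le_of_ne (le_inf hDA Subgroup.le_normalizer) fun heq => ?_
        haveI := hA
        have hlt : D.subgroupOf A < ⊤ := lt_top_iff_ne_top.2 fun ht => hne (le_antisymm hDA (Subgroup.subgroupOf_eq_top.1 ht))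
        obtain ⟨a, haN, haD⟩ := SetLike.exists_of_lt (Group.normalizerCondition_of_isNilpotent (D.subgroupOf A) hlt)
        refine haD (Subgroup.mem_subgroupOf.2 (heq.ge ⟨a.2, ?_⟩))
        rw [hN]
        refine Subgroup.mem_normalizer_iff.2 fun c => ⟨fun hc => ?_, fun hc => ?_⟩
        · have := (Subgroup.mem_normalizer_iff.1 haN ⟨c, hDA hc⟩).1 (Subgroup.mem_subgroupOf.2 hc)
          simpa [Subgroup.mem_subgroupOf] using this
        · have hcA : c ∈ A := by
            have h1 := mul_mem (mul_mem (inv_mem a.2) (hDA hc)) a.2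
            simpa [mul_assoc] using h1
          exact Subgroup.mem_subgroupOf.1
            ((Subgroup.mem_normalizer_iff.1 haN ⟨c, hcA⟩).2 (Subgroup.mem_subgroupOf.2 (by simpa using hc)))
      have hC'nil : Group.IsNilpotent C' := Group.nilpotent_of_mulEquiv
        (Subgroup.equivMapOfInjective C _ (MulAut.conj g).injective)
      have hg1 := hgrow C hCnil inf_le_left hne1
      have hg2 := hgrow C' hC'nil inf_le_right hne2
      have hZN : Z ≤ N := Subgroup.center_le_normalizer _
      by_cases hrN : r ∣ Nat.card (N.map π)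
      · apply hgK
        have horb : MulAction.orbit N ((1 : G) : G ⧸ C) = Set.univ := by
          have h1 : r ∣ (MulAction.orbit N ((1 : G) : G ⧸ C)).ncard := by
            rw [← Nat.card_coe_set_eq, Nat.card_congr (MulAction.orbitEquivQuotientStabilizer N _),
              ← Subgroup.index_eq_card]
            have hst : MulAction.stabilizer N ((1 : G) : G ⧸ C) = C.subgroupOf N := by
              ext n
              rw [MulAction.mem_stabilizer_iff]
              show (((n : G) * 1 : G) : G ⧸ C) = ((1 : G) : G ⧸ C) ↔ _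
              rw [mul_one, Subgroup.mem_subgroupOf, QuotientGroup.eq, mul_one, inv_mem_iff]
            rw [hst]
            show r ∣ C.relIndex N
            rw [← Subgroup.inf_relIndex_right]
            have h2 := Subgroup.relIndex_mul_relIndex Z (C ⊓ N) N (le_inf hZC hZN) inf_le_right
            have h3 : Nat.card (N.map π) = π.ker.relIndex N := by rw [Subgroup.relIndex_ker]
            rw [hker] at h3
            rw [h3, ← h2] at hrN
            refine ((Nat.Prime.dvd_mul hrp).1 hrN).resolve_left fun h4 => ?_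
            have h5 : Z.relIndex (C ⊓ N) ∣ p ^ b :=
              hb ▸ Dvd.intro _ (Subgroup.relIndex_mul_relIndex Z (C ⊓ N) C (le_inf hZC hZN) inf_le_left)
            exact hxr ((Nat.prime_dvd_prime_iff_eq hrp hp).1 (hrp.dvd_of_dvd_pow (h4.trans h5)))
          refine Set.eq_of_subset_of_ncard_le (Set.subset_univ _) ?_
          rw [Set.ncard_univ, ← Subgroup.index_eq_card]
          exact Nat.le_of_dvd ((Set.ncard_pos).2 (MulAction.nonempty_orbit _)) h1
        intro d hd a
        obtain ⟨⟨n, hn⟩, hna⟩ : ((a⁻¹ : G) : G ⧸ C) ∈ MulAction.orbit N ((1 : G) : G ⧸ C) := horb ▸ Set.mem_univ _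
        have h6 : n⁻¹ * a⁻¹ ∈ C := by
          have h7 : ((n * 1 : G) : G ⧸ C) = ((a⁻¹ : G) : G ⧸ C) := hna
          simpa [QuotientGroup.eq] using h7
        have h8 : n⁻¹ * d * n ∈ D := by
          simpa using (Subgroup.mem_normalizer_iff.1 (inv_mem hn) d).1 hd
        have h9 := mul_mem (mul_mem (inv_mem h6) (inf_le_left (b := C') h8)) h6
        convert h9 using 1
        group
      · have hNp : IsPGroup p (N.map π) := by
          have hd : Nat.card (N.map π) ∣ r * p ^ b := hcard ▸ Subgroup.card_subgroup_dvd_card _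
          obtain ⟨i, -, hi⟩ := (Nat.dvd_prime_pow hp).1
            (Nat.Coprime.dvd_of_dvd_mul_left (hrp.coprime_iff_not_dvd.2 hrN).symm hd)
          exact IsPGroup.of_card hi
        obtain ⟨S, hS⟩ := hNp.exists_le_sylow
        have hSi : ((S : Subgroup (G ⧸ Z)).comap π).index = r := by
          rw [Subgroup.index_comap_of_surjective _ (QuotientGroup.mk'_surjective Z)]
          have hd : (S : Subgroup (G ⧸ Z)).index ∣ r * p ^ b := hcard ▸ Subgroup.index_dvd_card _
          have hd' := Nat.Coprime.dvd_of_dvd_mul_right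
            (Nat.Coprime.pow_right b (hp.coprime_iff_not_dvd.2 S.not_dvd_index).symm) hd
          refine ((Nat.dvd_prime hrp).1 hd').resolve_left fun h1 => ?_
          obtain ⟨i, hi⟩ := IsPGroup.iff_card.1 S.2
          have := (S : Subgroup (G ⧸ Z)).card_mul_index
          rw [h1, mul_one, hi, hcard] at this
          exact hxr ((Nat.prime_dvd_prime_iff_eq hrp hp).1 (hrp.dvd_of_dvd_pow (this ▸ dvd_mul_right r (p ^ b))))
        obtain ⟨c, hc⟩ := hconjH _ (fun z hz => by
          rw [Subgroup.mem_comap, show π z = 1 from (QuotientGroup.eq_one_iff z).2 hz]; exact one_mem _) hSi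
        have hNc : N ≤ C.map (MulAut.conj c).toMonoidHom :=
          hc ▸ fun n hn => hS (Subgroup.mem_map_of_mem π hn)
        have hCc : C.map (MulAut.conj c).toMonoidHom = C := by
          by_contra hne
          have hlt : D < C ⊓ C.map (MulAut.conj c).toMonoidHom :=
            hg1.trans_le (le_inf inf_le_left (inf_le_right.trans hNc))
          have hle := hmaxg c ((Set.Finite.mem_toFinset _).2 ⟨hne, fun hk => hgK (hlt.le.trans hk)⟩)
          exact hlt.ne (Subgroup.eq_of_le_of_card_ge hlt.le hle)
        exact hg2.not_ge (le_inf (inf_le_right.trans (hNc.trans hCc.le)) inf_le_left)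
    have hout : ∀ u ∈ C, u ∉ K → C ≤ cz u := by
      intro u hu huK
      obtain ⟨g, hg⟩ := hconj u hu (fun hz => huK (hZK hz))
      by_cases hgC : C.map (MulAut.conj g).toMonoidHom = C
      · rw [hg, hgC]
      · exact absurd (hmax g hgC ⟨hu, hg ▸ Subgroup.mem_centralizer_singleton_iff.2 rfl⟩) huK
    intro a ha
    by_cases haK : a ∈ K
    · obtain ⟨w, hwC, hwK⟩ : ∃ w ∈ C, w ∉ K := by
        by_contra hall
        push Not at hall
        exact hKC (le_antisymm C.normalCore_le hall)
      intro d hd
      have h1 := Subgroup.mem_centralizer_singleton_iff.1 (hout (a * w) (mul_mem ha hwC) (fun h2 => hwK (by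
        have := mul_mem (inv_mem haK) h2; rwa [inv_mul_cancel_left] at this)) hd)
      have h2 := Subgroup.mem_centralizer_singleton_iff.1 (hout w hwC hwK hd)
      rw [Subgroup.mem_centralizer_singleton_iff]
      have h3 : d * a * w = a * d * w := by rw [mul_assoc d a w, h1, mul_assoc a w d, ← h2, ← mul_assoc]
      exact mul_right_cancel h3
    · exact hout a ha haK
  -- final count
  obtain ⟨R⟩ : Nonempty (Sylow r G) := inferInstance
  obtain ⟨w, hwR, hwC⟩ : ∃ w ∈ (R : Subgroup G), w ∉ C := by
    by_contra hall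
    push Not at hall
    exact R.not_dvd_index ((dvd_refl r).trans (Subgroup.index_dvd_of_le hall))
  have hwz : w ∉ Z := fun hz => hwC (hZC hz)
  have hinf : cz w ⊓ C ≤ Z := by
    rintro c ⟨hcw, hcC⟩
    by_contra hcz
    have hle : C ≤ cz c := fun d hd => Subgroup.mem_centralizer_singleton_iff.2 (hab d hd c hcC)
    have := eq_of_le_prime_index hle hrp fun ht => hcz (cz_eq_top_iff.1 (Subgroup.index_eq_one.2 ht))
    apply hwC
    rw [this, Subgroup.mem_centralizer_singleton_iff]
    exact (Subgroup.mem_centralizer_singleton_iff.1 hcw).symm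
  have hZw : Z ≤ cz w := Subgroup.center_le_centralizer _
  have hk : Z.relIndex (cz w) ≤ r := by
    have h1 : Z.relIndex (cz w) = C.relIndex (cz w) := by
      rw [← Subgroup.inf_relIndex_right C, le_antisymm ((inf_comm _ _).le.trans hinf) (le_inf hZC hZw)]
    rw [h1]
    refine Nat.le_trans (Subgroup.relIndex_le_of_le_right (le_top : cz w ≤ ⊤) ?_) (Subgroup.relIndex_top_right C).le
    rw [Subgroup.relIndex_top_right]; exact hrp.ne_zero
  have hkr : r ∣ Z.relIndex (cz w) := by
    obtain ⟨k, hkw⟩ := IsPGroup.iff_orderOf.1 R.2 ⟨w, hwR⟩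
    rw [Subgroup.orderOf_mk] at hkw
    have h1 : orderOf (QuotientGroup.mk' (Z.subgroupOf (cz w)) ⟨w, Subgroup.mem_centralizer_singleton_iff.2 rfl⟩) ∣ r ^ k := by
      refine orderOf_dvd_of_pow_eq_one ?_
      rw [← map_pow, show (⟨w, Subgroup.mem_centralizer_singleton_iff.2 rfl⟩ : cz w) ^ r ^ k = 1 from
        Subtype.ext (by rw [Subgroup.coe_pow, Subgroup.coe_one, ← hkw]; exact pow_orderOf_eq_one w), map_one]
    obtain ⟨i, -, hi⟩ := (Nat.dvd_prime_pow hrp).1 h1
    rcases i with _ | i
    · rw [pow_zero, orderOf_eq_one_iff, QuotientGroup.mk'_apply, QuotientGroup.eq_one_iff] at hi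
      exact absurd hi hwz
    · refine (dvd_pow_self r (Nat.succ_ne_zero i)).trans (hi ▸ ?_)
      rw [Subgroup.relIndex, Subgroup.index_eq_card]
      exact orderOf_dvd_natCard _
  have hpos : 0 < Z.relIndex (cz w) := Nat.pos_of_ne_zero fun h0 => by
    have := Subgroup.relIndex_mul_index hZw
    rw [h0, zero_mul] at this
    exact Subgroup.index_ne_zero_of_finite this.symm
  have hkeq : Z.relIndex (cz w) = r := le_antisymm hk (Nat.le_of_dvd hpos hkr)
  have hm : (cz w).index = Z.relIndex C := by
    have h1 := Subgroup.relIndex_mul_index hZw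
    rw [hkeq, ← Subgroup.relIndex_mul_index hZC, mul_comm (Z.relIndex C)] at h1
    exact Nat.eq_of_mul_eq_mul_left hrp.pos h1
  have hpm : p ∣ (cz w).index := by
    rw [hm]
    obtain ⟨k, hkx⟩ := hxp
    have h1 : orderOf (QuotientGroup.mk' (Z.subgroupOf C) ⟨x, hxC⟩) ∣ p ^ k := by
      refine orderOf_dvd_of_pow_eq_one ?_
      rw [← map_pow, show (⟨x, hxC⟩ : C) ^ p ^ k = 1 from
        Subtype.ext (by rw [Subgroup.coe_pow, Subgroup.coe_one, ← hkx]; exact pow_orderOf_eq_one x), map_one]
    obtain ⟨i, -, hi⟩ := (Nat.dvd_prime_pow hp).1 h1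
    rcases i with _ | i
    · rw [pow_zero, orderOf_eq_one_iff, QuotientGroup.mk'_apply, QuotientGroup.eq_one_iff] at hi
      exact absurd hi hxz
    · refine (dvd_pow_self p (Nat.succ_ne_zero i)).trans (hi ▸ ?_)
      rw [Subgroup.relIndex, Subgroup.index_eq_card]
      exact orderOf_dvd_natCard _
  have hmp : (cz w).index = p :=
    ((Nat.prime_dvd_prime_iff_eq hp (index_prime h hwz)).1 hpm).symm
  refine ⟨r, p, hrp, hp, hxr, ?_, fun hc => hcl ?_⟩
  · rw [← Subgroup.index_eq_card, ← Subgroup.relIndex_mul_index hZC, ← hm, hmp, mul_comm]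
  · rw [eq_top_iff]
    intro a _
    rw [show (2 : ℕ) = 1 + 1 from rfl, Subgroup.mem_upperCentralSeries_succ_iff]
    intro y
    rw [Subgroup.upperCentralSeries_one, ← QuotientGroup.eq_one_iff]
    simp only [commutatorElement_def, QuotientGroup.mk_mul, QuotientGroup.mk_inv]
    rw [mul_comm' (a : G ⧸ Subgroup.center G) y]
    group

end Cfsg.Agent.S4314
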