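import Cfsg.Statements.S4316
import Cfsg.Agent.Lib.Solv.FixedDerived
import Mathlib.GroupTheory.SemidirectProduct

set_option autoImplicit false
universe u
open Cfsg
open Cfsg.Agent.Solv
open scoped Pointwise commutatorElement

namespace Cfsg.Agent.S4316

theorem card_commutator_map {G Γ : Type*} [Group G] [Group Γ] (f : G →* Γ)
    (hf : Function.Injective f) (F : Subgroup G) :
    Nat.card ↥(⁅F.map f, F.map f⁆) = Nat.card ↥(commutator F) := by
  rw [← Subgroup.map_commutator,
    ← Nat.card_congr (Subgroup.equivMapOfInjective _ f hf).toEquiv,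
    ← Subgroup.map_subtype_commutator,
    ← Nat.card_congr (Subgroup.equivMapOfInjective _ F.subtype F.subtype_injective).toEquiv]

theorem le_of_cycQuot {Γ : Type*} [Group Γ] [Finite Γ] {q : ℕ} (hq : q.Prime) (A' B : Subgroup Γ)
    (hA : IsMulCommutative A') (hcard : Nat.card A' = q ^ 3) (hexp : ∀ a ∈ A', a ^ q = 1)
    (hB : B ∈ CycQuot A') : q ^ 2 ≤ Nat.card B := by
  obtain ⟨hBA, a, ha, hsup⟩ := hB
  have hn : Subgroup.zpowers a ≤ Subgroup.normalizer (B : Set Γ) := by
    refine Subgroup.zpowers_le.2 (mem_normalizer_of_conj_smul ?_)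
    refine Subgroup.eq_of_le_of_card_ge ?_ (by rw [card_conj_smul])
    rw [conj_smul_eq_map]
    rintro _ ⟨b, hb, rfl⟩
    have h : a * b = b * a := congrArg Subtype.val (hA.is_comm.comm ⟨a, ha⟩ ⟨b, hBA hb⟩)
    show a * b * a⁻¹ ∈ B
    rwa [h, mul_inv_cancel_right]
  have h := card_sup_mul_card_inf' B (Subgroup.zpowers a) hn
  rw [hsup, hcard] at h
  have hz : Nat.card (Subgroup.zpowers a) ≤ q := by
    rw [Nat.card_zpowers]; exact orderOf_le_of_pow_eq_one hq.pos (hexp a ha)
  have h2 : q ^ 3 ≤ Nat.card B * q :=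
    (Nat.le_mul_of_pos_right _ Nat.card_pos).trans (h.le.trans (Nat.mul_le_mul_left _ hz))
  rw [pow_succ] at h2
  exact Nat.le_of_mul_le_mul_right h2 hq.pos

/-- There is a function `f` of two natural-number arguments with the following property. Let `q` be a prime and `A` an elementary abelian group of order `q³` acting by automorphisms on a finite group `G` of order prime to `q`, and suppose that for every non-identity `a ∈ A` the derived subgroup of the fixed-point subgroup `C_G(a)` has order at most `m`. Then the derived subgroup of `G` has order at most `f(q, m)`. -/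
theorem result :
    ∃ f : ℕ → ℕ → ℕ, ∀ (q m : ℕ) (A G : Type u) [Group A] [Finite A] [Group G] [Finite G] [MulDistribMulAction A G],
      q.Prime → Nat.card A = q ^ 3 → (∀ a b : A, a * b = b * a) → (∀ a : A, a ^ q = 1) → ¬ q ∣ Nat.card G →
      (∀ a : A, a ≠ 1 → Nat.card ↥(commutator ↥(FixedPoints.subgroup (Subgroup.zpowers a) G)) ≤ m) →
      Nat.card ↥(commutator G) ≤ f q m := by
  refine ⟨fun q m => FixDer.bound (q ^ 3) m, fun q m A G _ _ _ _ _ hq hA hcomm hexp hG hm => ?_⟩
  let φ : A →* MulAut G := MulDistribMulAction.toMulAut A G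
  haveI : Finite (G ⋊[φ] A) := Finite.of_equiv _ SemidirectProduct.equivProd.symm
  set K : Subgroup (G ⋊[φ] A) := (SemidirectProduct.inl : G →* G ⋊[φ] A).range with hK
  set A' : Subgroup (G ⋊[φ] A) := (SemidirectProduct.inr : A →* G ⋊[φ] A).range with hA'
  have hcA : Nat.card A' = q ^ 3 := by
    rw [← hA]; exact (Nat.card_congr (MonoidHom.ofInjective SemidirectProduct.inr_injective).toEquiv).symm
  have hcK : Nat.card K = Nat.card G :=
    (Nat.card_congr (MonoidHom.ofInjective SemidirectProduct.inl_injective).toEquiv).symm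
  have hA'c : IsMulCommutative A' := ⟨⟨by
    rintro ⟨_, a, rfl⟩ ⟨_, b, rfl⟩
    exact Subtype.ext (by simp only [Subgroup.coe_mul, ← map_mul, hcomm a b])⟩⟩
  have hA'e : ∀ a ∈ A', a ^ q = 1 := by
    rintro _ ⟨a, rfl⟩; rw [← map_pow, hexp, map_one]
  have hKn : A' ≤ Subgroup.normalizer (K : Set (G ⋊[φ] A)) := by
    haveI : K.Normal := by rw [hK, SemidirectProduct.range_inl_eq_ker_rightHom]; infer_instance
    rw [Subgroup.normalizer_eq_top]; exact le_top
  have key := FixDer.card_commutator_le A' K hA'c hKn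
    (by rw [hcA, hcK]; exact Nat.Coprime.pow_left _ ((hq.coprime_iff_not_dvd).2 hG))
    (fun B hB B' hB' => by
      have h := card_sup_mul_card_inf' B B' (fun b hb => by
        refine mem_normalizer_of_conj_smul (Subgroup.eq_of_le_of_card_ge ?_ (by rw [card_conj_smul]))
        rw [conj_smul_eq_map]
        rintro _ ⟨x, hx, rfl⟩
        have h : b * x = x * b :=
          congrArg Subtype.val (hA'c.is_comm.comm ⟨b, hB'.1 hb⟩ ⟨x, hB.1 hx⟩)
        show b * x * b⁻¹ ∈ B
        rwa [h, mul_inv_cancel_right])
      have h1 := Nat.mul_le_mul (le_of_cycQuot hq A' B hA'c hcA hA'e hB)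
        (le_of_cycQuot hq A' B' hA'c hcA hA'e hB')
      rw [← h] at h1
      have h2 := h1.trans (Nat.mul_le_mul_right _ ((Subgroup.card_le_of_le (sup_le hB.1 hB'.1)).trans hcA.le))
      have h3 : 1 < Nat.card (B ⊓ B' : Subgroup (G ⋊[φ] A)) := by
        by_contra h0
        have h4 : q ^ 2 * q ^ 2 ≤ q ^ 3 * 1 := h2.trans (Nat.mul_le_mul_left _ (not_lt.1 h0))
        rw [mul_one, ← pow_add] at h4
        exact absurd h4 (not_le.2 (Nat.pow_lt_pow_right hq.one_lt (by norm_num)))
      haveI := Finite.one_lt_card_iff_nontrivial.1 h3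
      obtain ⟨⟨c, hcB, hcB'⟩, hc⟩ := exists_ne (1 : ↥(B ⊓ B' : Subgroup (G ⋊[φ] A)))
      exact ⟨c, hB.1 hcB, fun e => hc (Subtype.ext e), hcB, hcB'⟩) m
    (by
      rintro _ ⟨a, rfl⟩ hc
      have ha : a ≠ 1 := fun e => hc (by rw [e, map_one])
      have hF : K ⊓ Subgroup.centralizer {(SemidirectProduct.inr a : G ⋊[φ] A)} =
          (FixedPoints.subgroup (Subgroup.zpowers a) G).map SemidirectProduct.inl := by
        ext x
        rw [Subgroup.mem_inf, Subgroup.mem_centralizer_singleton_iff, Subgroup.mem_map]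
        constructor
        · rintro ⟨⟨g, rfl⟩, hg⟩
          refine ⟨g, fun b => ?_, rfl⟩
          have hga : a • g = g := by
            have := SemidirectProduct.inl_aut (φ := φ) a g
            rw [mul_assoc, map_inv] at this
            apply SemidirectProduct.inl_injective (φ := φ)
            show SemidirectProduct.inl (φ a g) = _
            rw [this, ← mul_assoc, ← hg, mul_inv_cancel_right]
          exact MulAction.mem_stabilizer_iff.1 ((Subgroup.zpowers_le.2
            (MulAction.mem_stabilizer_iff.2 hga : a ∈ MulAction.stabilizer A g)) b.2)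
        · rintro ⟨g, hg, rfl⟩
          refine ⟨⟨g, rfl⟩, ?_⟩
          have hga : a • g = g := hg ⟨a, Subgroup.mem_zpowers a⟩
          have := SemidirectProduct.inl_aut (φ := φ) a g
          rw [show φ a g = g from hga, map_inv] at this
          conv_lhs => rw [this]
          rw [inv_mul_cancel_right]
      rw [hF, card_commutator_map _ SemidirectProduct.inl_injective]
      exact hm a ha)
  rw [hcA] at key
  refine le_trans ?_ key
  rw [hK, MonoidHom.range_eq_map, ← Subgroup.map_commutator, ← commutator_def,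
    ← Nat.card_congr (Subgroup.equivMapOfInjective _ _ SemidirectProduct.inl_injective).toEquiv]

end Cfsg.Agent.S4316
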