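import Cfsg.Statements.S4320
import Mathlib

set_option autoImplicit false
set_option linter.style.haveILetI false
open Cfsg
open scoped commutatorElement

namespace Cfsg.Agent.S4320

universe u

variable (G : Type u) [Group G]

/-- Relations of the splitting module. -/
noncomputable def rel : AddSubgroup (G →₀ ℤ) :=
  AddSubgroup.closure {z | ∃ m ∈ commutator G, ∃ g : G,
    z = Finsupp.single (m * g) 1 - Finsupp.single m 1 - Finsupp.single g 1}

/-- The splitting module. -/
def X : Type u := (G →₀ ℤ) ⧸ rel G

noncomputable instance instAddCommGroupX : AddCommGroup (X G) :=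
  inferInstanceAs (AddCommGroup ((G →₀ ℤ) ⧸ rel G))

/-- The projection. -/
noncomputable def mkX : (G →₀ ℤ) →+ X G := QuotientAddGroup.mk' (rel G)

variable {G}

/-- The universal crossed homomorphism. -/
noncomputable def e (g : G) : X G := mkX G (Finsupp.single g 1)

theorem e_rel {m : G} (hm : m ∈ commutator G) (g : G) : e (m * g) = e m + e g := by
  have h : mkX G (Finsupp.single (m * g) 1 - Finsupp.single m 1 - Finsupp.single g 1) = 0 :=
    (QuotientAddGroup.eq_zero_iff _).2 (AddSubgroup.subset_closure ⟨m, hm, g, rfl⟩)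
  rw [map_sub, map_sub] at h
  have h' : e (m * g) - e m - e g = 0 := h
  linear_combination (norm := abel) h'

theorem e_one : e (1 : G) = 0 := by
  have h := e_rel (commutator G).one_mem (1 : G)
  rw [one_mul] at h
  exact left_eq_add.1 h

theorem e_inv {m : G} (hm : m ∈ commutator G) : e m⁻¹ = - e m := by
  have h := e_rel hm m⁻¹
  rw [mul_inv_cancel, e_one] at h
  exact (neg_eq_of_add_eq_zero_right h.symm).symm

/-- Lift a function additive along the commutator subgroup. -/
noncomputable def lift' {B : Type*} [AddCommGroup B] (f : G → B)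
    (hf : ∀ m ∈ commutator G, ∀ g, f (m * g) = f m + f g) : X G →+ B :=
  QuotientAddGroup.lift (rel G) (Finsupp.liftAddHom fun g => zmultiplesHom B (f g)) <| by
    refine (AddSubgroup.closure_le _).2 ?_
    rintro _ ⟨m, hm, g, rfl⟩
    show (Finsupp.liftAddHom fun g => zmultiplesHom B (f g)) _ = 0
    simp only [map_sub, Finsupp.liftAddHom_apply_single, zmultiplesHom_apply, one_smul, hf m hm g]
    abel

@[simp] theorem lift'_e {B : Type*} [AddCommGroup B] (f : G → B)
    (hf : ∀ m ∈ commutator G, ∀ g, f (m * g) = f m + f g) (g : G) : lift' f hf (e g) = f g := by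
  show (Finsupp.liftAddHom fun g => zmultiplesHom B (f g)) (Finsupp.single g 1) = f g
  simp

theorem hom_ext {B : Type*} [AddCommGroup B] {f₁ f₂ : X G →+ B} (h : ∀ g, f₁ (e g) = f₂ (e g)) : f₁ = f₂ :=
  QuotientAddGroup.addMonoidHom_ext _ (Finsupp.addHom_ext' fun g => AddMonoidHom.ext_int (h g))

/-- Translation by an element. -/
noncomputable def Tr (a : G) : X G →+ X G :=
  lift' (fun g => e (a * g) - e a) fun m hm g => by
    have hm' : a * m * a⁻¹ ∈ commutator G := Subgroup.Normal.conj_mem inferInstance m hm a
    show e (a * (m * g)) - e a = e (a * m) - e a + (e (a * g) - e a)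
    rw [show a * (m * g) = a * m * a⁻¹ * (a * g) by group, e_rel hm',
      show a * m = a * m * a⁻¹ * a by group, e_rel hm']
    simp only [mul_inv_cancel_right]
    abel

theorem Tr_e (a g : G) : Tr a (e g) = e (a * g) - e a := lift'_e _ _ g

theorem e_mul (a g : G) : e (a * g) = Tr a (e g) + e a := by rw [Tr_e]; abel

variable (G)

/-- Translations as a homomorphism. -/
noncomputable def TrHom : G →* AddMonoid.End (X G) where
  toFun := Tr
  map_one' := hom_ext fun g => by
    show Tr 1 (e g) = e g
    rw [Tr_e, one_mul, e_one, sub_zero]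
  map_mul' a b := hom_ext fun g => by
    show Tr (a * b) (e g) = Tr a (Tr b (e g))
    rw [Tr_e, Tr_e, map_sub, Tr_e, Tr_e, mul_assoc]
    abel

/-- The action of the abelianization. -/
noncomputable def act : Abelianization G →* AddMonoid.End (X G) :=
  QuotientGroup.lift (commutator G) (TrHom G) fun m hm => hom_ext fun g => by
    show Tr m (e g) = e g
    rw [Tr_e, e_rel hm]; abel

theorem act_of (a : G) : act G (Abelianization.of a) = Tr a := rfl

/-- The group ring. -/
abbrev R : Type u := MonoidAlgebra ℤ (Abelianization G)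

theorem act_commute (z : ℤ) (q : Abelianization G) :
    Commute ((Int.castRingHom (AddMonoid.End (X G))) z) (act G q) := by
  rw [eq_intCast]; exact Int.cast_commute _ _

/-- The ring homomorphism of the action. -/
noncomputable def actR : R G →+* AddMonoid.End (X G) :=
  MonoidAlgebra.liftNCRingHom (Int.castRingHom (AddMonoid.End (X G))) (act G) (act_commute G)

noncomputable instance instModuleX : Module (R G) (X G) := Module.compHom (X G) (actR G)

variable {G}

theorem single_smul (q : Abelianization G) (x : X G) : (MonoidAlgebra.single q (1 : ℤ) : R G) • x = act G q x := by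
  show (actR G (MonoidAlgebra.single q 1)) x = _
  rw [actR, MonoidAlgebra.liftNCRingHom_single, map_one, one_mul]

theorem single_of_smul (a : G) (x : X G) :
    (MonoidAlgebra.single (Abelianization.of a) (1 : ℤ) : R G) • x = Tr a x := single_smul _ x

variable (G) in
/-- Augmentation. -/
noncomputable def aug : R G →+* ℤ := (MonoidAlgebra.lift ℤ ℤ (Abelianization G) 1).toRingHom

theorem aug_single (q : Abelianization G) (b : ℤ) : aug G (MonoidAlgebra.single q b) = b := by
  show MonoidAlgebra.lift ℤ ℤ (Abelianization G) 1 (MonoidAlgebra.single q b) = b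
  rw [MonoidAlgebra.lift_single]; simp

variable (G) in
/-- `I X`. -/
noncomputable def IX : Submodule (R G) (X G) := RingHom.ker (aug G) • (⊤ : Submodule (R G) (X G))

theorem Tr_sub_mem (a : G) (x : X G) : Tr a x - x ∈ IX G := by
  have h : ((MonoidAlgebra.single (Abelianization.of a) (1 : ℤ) : R G) - 1) • x ∈ IX G :=
    Submodule.smul_mem_smul (by rw [RingHom.mem_ker, map_sub, map_one, aug_single, sub_self]) Submodule.mem_top
  rwa [sub_smul, one_smul, single_of_smul] at h

theorem e_commutator_mem (c : G) (hc : c ∈ commutator G) : c ∈ commutator G ∧ e c ∈ IX G := by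
  rw [commutator_eq_closure] at hc
  induction hc using Subgroup.closure_induction with
  | mem x hx =>
    obtain ⟨a, b, rfl⟩ := hx
    have hm : ⁅a, b⁆ ∈ commutator G := by
      rw [commutator_def]; exact Subgroup.commutator_mem_commutator (Subgroup.mem_top a) (Subgroup.mem_top b)
    refine ⟨hm, ?_⟩
    have h := e_rel hm (b * a)
    rw [show ⁅a, b⁆ * (b * a) = a * b by rw [commutatorElement_def]; group, e_mul a b, e_mul b a] at h
    have h2 : e ⁅a, b⁆ = (Tr a (e b) - e b) - (Tr b (e a) - e a) := by
      linear_combination (norm := abel) -h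
    rw [h2]
    exact Submodule.sub_mem _ (Tr_sub_mem a _) (Tr_sub_mem b _)
  | one => exact ⟨Subgroup.one_mem _, by rw [e_one]; exact Submodule.zero_mem _⟩
  | mul x y _ _ hx hy =>
    exact ⟨Subgroup.mul_mem _ hx.1 hy.1, by rw [e_rel hx.1]; exact Submodule.add_mem _ hx.2 hy.2⟩
  | inv x _ hx => exact ⟨Subgroup.inv_mem _ hx.1, by rw [e_inv hx.1]; exact Submodule.neg_mem _ hx.2⟩

theorem e_pow_mem (g : G) (n : ℕ) : e (g ^ n) - n • e g ∈ IX G := by
  induction n with
  | zero => simp [e_one]
  | succ n ih =>
    have h : e (g ^ (n + 1)) - (n + 1) • e g =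
        (e (g ^ n) - n • e g) + (Tr (g ^ n) (e g) - e g) := by
      rw [pow_succ, e_mul, succ_nsmul]; abel
    rw [h]
    exact Submodule.add_mem _ ih (Tr_sub_mem _ _)

variable (G)

/-- The map to the group ring. -/
noncomputable def proj : X G →+ R G :=
  lift' (fun g => MonoidAlgebra.single (Abelianization.of g) 1 - 1) fun m hm g => by
    have h1 : (Abelianization.of m : Abelianization G) = 1 := (QuotientGroup.eq_one_iff m).2 hm
    simp only [map_mul, h1, one_mul, MonoidAlgebra.one_def, sub_self, zero_add]

theorem proj_smul (r : R G) (x : X G) : proj G (r • x) = r * proj G x := by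
  induction r using MonoidAlgebra.induction_on with
  | of q =>
    obtain ⟨a, rfl⟩ : ∃ a : G, Abelianization.of a = q := QuotientGroup.mk'_surjective _ q
    show proj G ((MonoidAlgebra.single (Abelianization.of a) (1 : ℤ) : R G) • x) = _
    rw [single_of_smul]
    have h : (proj G).comp (Tr a) =
        (AddMonoidHom.mulLeft (MonoidAlgebra.single (Abelianization.of a) (1 : ℤ) : R G)).comp (proj G) :=
      hom_ext fun g => by
        simp only [AddMonoidHom.comp_apply, AddMonoidHom.coe_mulLeft, Tr_e, map_sub, proj, lift'_e, map_mul,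
          mul_sub, MonoidAlgebra.single_mul_single, mul_one]
        abel
    exact DFunLike.congr_fun h x
  | add r s hr hs => rw [add_smul, map_add, hr, hs, add_mul]
  | smul c r hr =>
    rw [← Int.cast_smul_eq_zsmul (R G) c r, smul_eq_mul, mul_smul, Int.cast_smul_eq_zsmul (R G) c (r • x),
      map_zsmul, hr, mul_assoc, zsmul_eq_mul]

variable [Finite G]

open scoped Classical in
theorem exists_norm [Fintype (Abelianization G)] (g : G) :
    ∑ q : Abelianization G, act G q (e g) = 0 := by
  obtain ⟨ι, _, n, hn, ⟨ψ⟩⟩ := CommGroup.equiv_prod_multiplicative_zmod_of_finite (Abelianization G)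
  haveI : ∀ i, NeZero (n i) := fun i => ⟨by have := hn i; omega⟩
  letI : Fintype (commutator G) := Fintype.ofFinite _
  choose gi hgi using fun i : ι => QuotientGroup.mk'_surjective (commutator G)
    (ψ.symm (Pi.mulSingle i (Multiplicative.ofAdd (1 : ZMod (n i)))))
  have hgi' : ∀ i, (Abelianization.of (gi i) : Abelianization G) =
      ψ.symm (Pi.mulSingle i (Multiplicative.ofAdd (1 : ZMod (n i)))) := hgi
  let v : ι ⊕ commutator G → X G := Sum.elim (fun i => e (gi i)) (fun c => e (c : G))
  let d : ι ⊕ commutator G → ℕ := Sum.elim n (fun _ => 1)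
  let W : Submodule (R G) (X G) := Submodule.span (R G) (Set.range v)
  let S : Subgroup G :=
    { carrier := {x | e x ∈ W}
      one_mem' := by show e (1 : G) ∈ W; rw [e_one]; exact W.zero_mem
      mul_mem' := fun {a b} ha hb => by
        show e (a * b) ∈ W
        rw [e_mul, ← single_of_smul]; exact W.add_mem (W.smul_mem _ hb) ha
      inv_mem' := fun {a} ha => by
        show e a⁻¹ ∈ W
        have h := e_mul a⁻¹ a
        rw [inv_mul_cancel, e_one, ← single_of_smul] at h
        rw [eq_neg_of_add_eq_zero_right h.symm]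
        exact W.neg_mem (W.smul_mem _ ha) }
  have hS : S = ⊤ := by
    refine eq_top_iff.2 fun x _ => ?_
    set S' := S.map (Abelianization.of : G →* Abelianization G)
    have hgen : ∀ i, ψ.symm (Pi.mulSingle i (Multiplicative.ofAdd (1 : ZMod (n i)))) ∈ S' := fun i =>
      ⟨gi i, Submodule.subset_span ⟨Sum.inl i, rfl⟩, hgi' i⟩
    have hxS : Abelianization.of x ∈ S' := by
      have h2 : Abelianization.of x = ψ.symm (∏ i, Pi.mulSingle i (ψ (Abelianization.of x) i)) := by
        rw [Finset.univ_prod_mulSingle, MulEquiv.symm_apply_apply]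
      rw [h2, map_prod]
      refine S'.prod_mem fun i _ => ?_
      have h3 : ψ (Abelianization.of x) i =
          (Multiplicative.ofAdd (1 : ZMod (n i))) ^ (Multiplicative.toAdd (ψ (Abelianization.of x) i)).val := by
        rw [← ofAdd_nsmul, nsmul_one, ZMod.natCast_zmod_val]; rfl
      rw [h3, Pi.mulSingle_pow, map_pow]
      exact S'.pow_mem (hgen i) _
    obtain ⟨y, hy, hyx⟩ := hxS
    have hc : x * y⁻¹ ∈ commutator G := by
      rw [← QuotientGroup.eq_one_iff]
      show Abelianization.of (x * y⁻¹) = 1
      rw [map_mul, map_inv, hyx, mul_inv_cancel]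
    have h4 : x * y⁻¹ ∈ S := Submodule.subset_span ⟨Sum.inr ⟨_, hc⟩, rfl⟩
    have h5 := S.mul_mem h4 hy
    rwa [inv_mul_cancel_right] at h5
  have hW : W = ⊤ := by
    refine eq_top_iff.2 fun z _ => ?_
    obtain ⟨z, rfl⟩ := QuotientAddGroup.mk'_surjective (rel G) z
    show mkX G z ∈ W
    induction z using Finsupp.induction_linear with
    | zero => rw [map_zero]; exact W.zero_mem
    | add a b ha hb => rw [map_add]; exact W.add_mem (ha Submodule.mem_top) (hb Submodule.mem_top)
    | single a b =>
      have h1 : a ∈ S := by rw [hS]; trivial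
      have h2 : mkX G (Finsupp.single a b) = b • e a := by
        rw [e, ← map_zsmul, Finsupp.smul_single, smul_eq_mul, mul_one]
      rw [h2]
      exact W.toAddSubgroup.zsmul_mem h1 b
  have hrel : ∀ i, ∃ a : ι ⊕ commutator G → R G, (∀ j, aug G (a j) = 0) ∧ ∑ j, a j • v j = (d i : R G) • v i := by
    intro i
    have hmem : (d i : R G) • v i ∈ IX G := by
      rw [Nat.cast_smul_eq_nsmul]
      rcases i with i | c
      · have hc : gi i ^ n i ∈ commutator G := by
          rw [← QuotientGroup.eq_one_iff]
          show (Abelianization.of (gi i ^ n i) : Abelianization G) = 1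
          rw [map_pow, hgi', ← map_pow, ← Pi.mulSingle_pow, ← ofAdd_nsmul, nsmul_one, ZMod.natCast_self, ofAdd_zero,
            Pi.mulSingle_one, map_one]
        have h := Submodule.sub_mem _ (e_commutator_mem _ hc).2 (e_pow_mem (gi i) (n i))
        rwa [sub_sub_cancel] at h
      · show (1 : ℕ) • e (c : G) ∈ IX G
        rw [one_smul]; exact (e_commutator_mem _ c.2).2
    rw [IX, ← hW] at hmem
    obtain ⟨a, ha, he⟩ := (Submodule.mem_ideal_smul_span_iff_exists_sum _ _ _).1 hmem
    refine ⟨a, fun j => RingHom.mem_ker.1 (ha j), ?_⟩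
    rw [← he]
    exact (Finsupp.sum_fintype a (fun j c => c • v j) (fun j => zero_smul (R G) (v j))).symm
  choose a ha1 ha2 using hrel
  let Δ : Matrix (ι ⊕ commutator G) (ι ⊕ commutator G) (R G) :=
    Matrix.diagonal (fun i => ((d i : ℕ) : R G)) - Matrix.of a
  have hΔ : ∀ i, ∑ j, Δ i j • v j = 0 := fun i => by
    simp only [Δ, Matrix.sub_apply, sub_smul, Finset.sum_sub_distrib, Matrix.of_apply, ha2]
    rw [Finset.sum_eq_single i (fun j _ hj => by rw [Matrix.diagonal_apply_ne _ (Ne.symm hj)]; exact zero_smul (R G) _)
      (fun h => (h (Finset.mem_univ i)).elim), Matrix.diagonal_apply_eq, sub_self]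
  set θ := Δ.det with hθ
  have hθv : ∀ k, θ • v k = 0 := fun k => by
    calc θ • v k = ∑ j, (Δ.adjugate * Δ) k j • v j := by
          rw [Matrix.adjugate_mul, ← hθ]
          simp [Matrix.smul_apply, Matrix.one_apply, ite_smul]
      _ = ∑ j, ∑ i, (Δ.adjugate k i * Δ i j) • v j := by simp only [Matrix.mul_apply, Finset.sum_smul]
      _ = ∑ i, Δ.adjugate k i • ∑ j, Δ i j • v j := by
          rw [Finset.sum_comm]; simp only [Finset.smul_sum, mul_smul]
      _ = 0 := by simp [hΔ]
  have hθX : ∀ z : X G, θ • z = 0 := fun z => by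
    have hz : z ∈ W := hW ▸ Submodule.mem_top
    induction hz using Submodule.span_induction with
    | mem z hz => obtain ⟨k, rfl⟩ := hz; exact hθv k
    | zero => exact smul_zero _
    | add a b _ _ ha hb => rw [smul_add, ha, hb, add_zero]
    | smul r z _ hz => rw [smul_comm, hz, smul_zero]
  have hcard : aug G θ = (Fintype.card (Abelianization G) : ℤ) := by
    rw [hθ, RingHom.map_det]
    have hd : (aug G).mapMatrix Δ = Matrix.diagonal fun i => (d i : ℤ) := by
      ext i j
      simp only [RingHom.mapMatrix_apply, Matrix.map_apply, Δ, Matrix.sub_apply, map_sub, Matrix.of_apply, ha1, sub_zero]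
      rcases eq_or_ne i j with rfl | h
      · rw [Matrix.diagonal_apply_eq, Matrix.diagonal_apply_eq, map_natCast]
      · rw [Matrix.diagonal_apply_ne _ h, Matrix.diagonal_apply_ne _ h, map_zero]
    rw [hd, Matrix.det_diagonal, Fintype.prod_sum_type]
    simp only [d, Sum.elim_inl, Sum.elim_inr, Nat.cast_one, Finset.prod_const_one, mul_one]
    rw [← Nat.card_eq_fintype_card, Nat.card_congr ψ.toEquiv, Nat.card_pi, Nat.cast_prod]
    refine Finset.prod_congr rfl fun i _ => ?_
    rw [Nat.card_congr Multiplicative.toAdd, Nat.card_zmod]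
  have hconst : ∀ q x : Abelianization G, θ.coeff (x * q⁻¹) = θ.coeff x := by
    intro q x
    obtain ⟨b, rfl⟩ : ∃ b : G, Abelianization.of b = q := QuotientGroup.mk'_surjective _ q
    have h := proj_smul G θ (e b)
    rw [hθX, map_zero] at h
    simp only [proj, lift'_e, mul_sub, mul_one] at h
    have h' := congrArg (fun r : R G => r.coeff x) (sub_eq_zero.1 h.symm)
    rw [MonoidAlgebra.coeff_mul_single_eq_coeff_mul (x * (Abelianization.of b)⁻¹)
      (fun m _ => ⟨fun e => eq_mul_inv_of_mul_eq e, fun e => by rw [e, inv_mul_cancel_right]⟩), mul_one] at h'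
    exact h'
  have hθsum : θ = ∑ q : Abelianization G, MonoidAlgebra.single q (1 : ℤ) := by
    have h1 : θ = ∑ q : Abelianization G, MonoidAlgebra.single q (θ.coeff 1) := by
      conv_lhs => rw [← MonoidAlgebra.sum_coeff_single θ, Finsupp.sum_fintype _ _ (fun _ => MonoidAlgebra.single_zero _)]
      refine Finset.sum_congr rfl fun q _ => ?_
      have := hconst q q
      rw [mul_inv_cancel] at this
      rw [this]
    have h2 : θ.coeff 1 = 1 := by
      have h3 := hcard
      rw [h1, map_sum] at h3
      simp only [aug_single, Finset.sum_const, Finset.card_univ, nsmul_eq_mul] at h3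
      have hne : (Fintype.card (Abelianization G) : ℤ) ≠ 0 := Nat.cast_ne_zero.2 Fintype.card_ne_zero
      exact mul_left_cancel₀ hne (h3.trans (mul_one _).symm)
    rw [h1, h2]
  have h := hθX (e g)
  rw [hθsum, Finset.sum_smul] at h
  rw [← h]
  exact Finset.sum_congr rfl fun q _ => (single_smul q _).symm

/-- The Principal Ideal Theorem of class field theory in its group-theoretic form: for every finite group `G`, the transfer homomorphism from `G` into the abelianization `G'/G''` of its derived subgroup `G'` is the trivial homomorphism. -/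
theorem result {G : Type*} [Group G] [Finite G] :
    MonoidHom.transfer (Abelianization.of : ↥(commutator G) →* Abelianization ↥(commutator G)) =
      (1 : G →* Abelianization ↥(commutator G)) := by
  classical
  letI : Fintype (Abelianization G) := Fintype.ofFinite _
  choose r hr using fun q : Abelianization G => QuotientGroup.mk'_surjective (commutator G) q
  let s : Abelianization G → G := Function.update r 1 1
  have hs : ∀ q, Abelianization.of (s q) = q := fun q => by
    rcases eq_or_ne q 1 with rfl | hq
    · simp only [s]; rw [Function.update_self, map_one]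
    · simp only [s]; rw [Function.update_of_ne hq]; exact hr q
  have hs1 : s 1 = 1 := Function.update_self _ _ _
  have hmem : ∀ g : G, g * (s (Abelianization.of g))⁻¹ ∈ commutator G := fun g => by
    rw [← QuotientGroup.eq_one_iff]
    show Abelianization.of (g * _) = 1
    rw [map_mul, map_inv, hs, mul_inv_cancel]
  let ρ : X G →+ Additive (Abelianization ↥(commutator G)) :=
    lift' (fun g => Additive.ofMul (Abelianization.of ⟨g * (s (Abelianization.of g))⁻¹, hmem g⟩)) fun m hm g => by
      have h1 : (Abelianization.of m : Abelianization G) = 1 := (QuotientGroup.eq_one_iff m).2 hm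
      rw [← ofMul_mul, ← map_mul]
      congr 2
      apply Subtype.ext
      simp only [Subgroup.coe_mul, map_mul, h1, one_mul, hs1, inv_one, mul_one, mul_assoc]
  refine MonoidHom.ext fun g => ?_
  let gb := Abelianization.of g
  have hc : ∀ q, s q * g * (s (q * gb))⁻¹ ∈ commutator G := fun q => by
    have := hmem (s q * g)
    rwa [map_mul, hs] at this
  have hN : ∑ q : Abelianization G, e (s q * g * (s (q * gb))⁻¹) = 0 := by
    have h : ∀ q : Abelianization G, act G q (e g) =
        e (s q * g * (s (q * gb))⁻¹) + (e (s (q * gb)) - e (s q)) := fun q => by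
      conv_lhs => rw [← hs q]
      rw [act_of]
      show Tr (s q) (e g) = _
      rw [Tr_e, show s q * g = s q * g * (s (q * gb))⁻¹ * s (q * gb) by group, e_rel (hc q)]
      simp only [inv_mul_cancel_right]
      abel
    have h2 := exists_norm G g
    rw [Finset.sum_congr rfl (fun q _ => h q), Finset.sum_add_distrib, Finset.sum_sub_distrib] at h2
    rwa [show ∑ q : Abelianization G, e (s (q * gb)) = ∑ q, e (s q) from Equiv.sum_comp (Equiv.mulRight gb) (fun q => e (s q)),
      sub_self, add_zero] at h2
  have hρ := congrArg ρ hN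
  rw [map_sum, map_zero] at hρ
  have hρc : ∀ (c : G) (hc : c ∈ commutator G), ρ (e c) = Additive.ofMul (Abelianization.of ⟨c, hc⟩) := fun c hc => by
    rw [lift'_e]
    congr 2
    apply Subtype.ext
    have h1 : (Abelianization.of c : Abelianization G) = 1 := (QuotientGroup.eq_one_iff c).2 hc
    simp [h1, hs1]
  rw [Finset.sum_congr rfl (fun q _ => hρc _ (hc q))] at hρ
  let f : G ⧸ commutator G → G := fun q => (s (q : Abelianization G)⁻¹)⁻¹
  have hf : ∀ q, ((f q : G) : G ⧸ commutator G) = q := fun q => by
    show Abelianization.of ((s (q : Abelianization G)⁻¹)⁻¹) = q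
    rw [map_inv, hs]; exact inv_inv _
  let T : (commutator G).LeftTransversal := ⟨Set.range f, Subgroup.isComplement_range_left hf⟩
  rw [MonoidHom.transfer_def _ T, MonoidHom.one_apply]
  unfold Subgroup.leftTransversals.diff
  simp only [Subgroup.smul_apply_eq_smul_apply_inv_smul, T, Subgroup.IsComplement.leftQuotientEquiv_apply hf, smul_eq_mul]
  apply Additive.ofMul.injective
  rw [ofMul_prod, ofMul_one, ← hρ]
  refine Finset.sum_equiv ((Equiv.inv (Abelianization G))) (fun _ => by simp) fun q _ => ?_
  congr 2
  apply Subtype.ext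
  let qa : Abelianization G := q
  show (f q)⁻¹ * (g * f (g⁻¹ • q)) = s qa⁻¹ * g * (s (qa⁻¹ * gb))⁻¹
  show ((s qa⁻¹)⁻¹)⁻¹ * (g * (s (Abelianization.of g⁻¹ * qa)⁻¹)⁻¹) = _
  rw [inv_inv, map_inv, mul_inv_rev, inv_inv, mul_assoc]

end Cfsg.Agent.S4320
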