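import Cfsg.Statements.S4321
import Cfsg.Agent.Lib.Solv.SingularClassGraph.Main

set_option autoImplicit false
open Cfsg

namespace Cfsg.Agent.S4321

/-- Let `G` be a finite group and `p` a prime not dividing the order of the centre of `G`. Consider the primes dividing the size of some conjugacy class of a `p`-singular element (an element of order divisible by `p`), two of them adjacent when their product divides such a class size. Then any two distinct such primes are joined by a path with at most 3 edges (the graph is connected of diameter at most 3). -/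
theorem result {G : Type*} [Group G] [Finite G] (p : ℕ) [Fact p.Prime]
    (hZ : ¬ p ∣ Nat.card ↥(Subgroup.center G)) (r s : ℕ) (hr : (r.Prime ∧ ∃ x : G, p ∣ orderOf x ∧ r ∣ (Subgroup.centralizer ({x} : Set G)).index)) (hs : (s.Prime ∧ ∃ x : G, p ∣ orderOf x ∧ s ∣ (Subgroup.centralizer ({x} : Set G)).index)) (hrs : r ≠ s) :
    (∃ x : G, p ∣ orderOf x ∧ r * s ∣ (Subgroup.centralizer ({x} : Set G)).index) ∨ (∃ t : ℕ, (t.Prime ∧ ∃ x : G, p ∣ orderOf x ∧ t ∣ (Subgroup.centralizer ({x} : Set G)).index) ∧ t ≠ r ∧ t ≠ s ∧ (∃ x : G, p ∣ orderOf x ∧ r * t ∣ (Subgroup.centralizer ({x} : Set G)).index) ∧ (∃ x : G, p ∣ orderOf x ∧ t * s ∣ (Subgroup.centralizer ({x} : Set G)).index)) ∨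
      (∃ t u : ℕ, (t.Prime ∧ ∃ x : G, p ∣ orderOf x ∧ t ∣ (Subgroup.centralizer ({x} : Set G)).index) ∧ (u.Prime ∧ ∃ x : G, p ∣ orderOf x ∧ u ∣ (Subgroup.centralizer ({x} : Set G)).index) ∧ t ≠ r ∧ u ≠ s ∧ t ≠ u ∧ (∃ x : G, p ∣ orderOf x ∧ r * t ∣ (Subgroup.centralizer ({x} : Set G)).index) ∧ (∃ x : G, p ∣ orderOf x ∧ t * u ∣ (Subgroup.centralizer ({x} : Set G)).index) ∧ (∃ x : G, p ∣ orderOf x ∧ u * s ∣ (Subgroup.centralizer ({x} : Set G)).index)) := by
  classical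
  obtain ⟨hrp, x, hx, hrx⟩ := hr
  obtain ⟨hsp, x', hx', hsx⟩ := hs
  have hne : ∀ g : G, (Subgroup.centralizer ({g} : Set G)).index ≠ 0 := fun g =>
    Subgroup.index_ne_zero_of_finite
  have hpow : ∀ g : G, p ∣ orderOf g → ∃ y : G, orderOf y = p ∧
      (Subgroup.centralizer ({y} : Set G)).index ∣ (Subgroup.centralizer ({g} : Set G)).index ∧
        (Subgroup.centralizer ({y} : Set G)).index ≠ 1 := by
    intro g hg
    have hy : orderOf (g ^ (orderOf g / p)) = p := by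
      rw [orderOf_pow, Nat.gcd_eq_right (Nat.div_dvd_of_dvd hg), Nat.div_div_self hg (orderOf_pos g).ne']
    exact ⟨_, hy, Subgroup.index_dvd_of_le (Cfsg.Agent.Solv.SingularClassGraph.cz_le_of_mem_zpowers
      (pow_mem (Subgroup.mem_zpowers g) _)), Cfsg.Agent.Solv.SingularClassGraph.index_cz_ne_one hZ hy⟩
  obtain ⟨y, hy, hyx, hy1⟩ := hpow x hx
  obtain ⟨z, hz, hzx, hz1⟩ := hpow x' hx'
  have hmul : ∀ a b : ℕ, a.Prime → b.Prime → a ≠ b → ∀ n : ℕ, a ∣ n → b ∣ n → a * b ∣ n :=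
    fun a b ha hb hab n h1 h2 => ((Nat.coprime_primes ha hb).2 hab).mul_dvd_of_dvd_of_dvd h1 h2
  -- primes attached to `y`, `z`, equal or adjacent
  obtain ⟨t, u, ht, htx, hu, hux, htu⟩ : ∃ t u : ℕ, t.Prime ∧
      t ∣ (Subgroup.centralizer ({x} : Set G)).index ∧ u.Prime ∧
      u ∣ (Subgroup.centralizer ({x'} : Set G)).index ∧
      (t = u ∨ ∃ w : G, p ∣ orderOf w ∧ t * u ∣ (Subgroup.centralizer ({w} : Set G)).index) := by
    by_cases hco : (Subgroup.centralizer ({y} : Set G)).index.Coprime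
        (Subgroup.centralizer ({z} : Set G)).index
    · obtain ⟨w, hw, h1, h2⟩ := Cfsg.Agent.Solv.SingularClassGraph.exists_meeting hZ hy hz hco
      obtain ⟨t, ht, hty, htw⟩ := Nat.Prime.not_coprime_iff_dvd.1 h1
      obtain ⟨u, hu, huz, huw⟩ := Nat.Prime.not_coprime_iff_dvd.1 h2
      refine ⟨t, u, ht, hty.trans hyx, hu, huz.trans hzx, Or.inr ⟨w, hw, hmul t u ht hu ?_ _ htw huw⟩⟩
      rintro rfl
      exact ht.one_lt.ne' (Nat.eq_one_of_dvd_coprimes hco hty huz)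
    · obtain ⟨t, ht, h1, h2⟩ := Nat.Prime.not_coprime_iff_dvd.1 hco
      exact ⟨t, t, ht, h1.trans hyx, ht, h2.trans hzx, Or.inl rfl⟩
  by_cases htr : t = r
  · subst htr
    by_cases hur : u = t
    · subst hur
      exact Or.inl ⟨x', hx', hmul _ _ hu hsp hrs _ hux hsx⟩
    obtain ⟨w, hw, hwd⟩ := htu.resolve_left (Ne.symm hur)
    by_cases hus : u = s
    · subst hus; exact Or.inl ⟨w, hw, hwd⟩
    · exact Or.inr (Or.inl ⟨u, ⟨hu, x', hx', hux⟩, hur, hus, ⟨w, hw, hwd⟩,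
        x', hx', hmul _ _ hu hsp hus _ hux hsx⟩)
  by_cases hts : t = s
  · subst hts; exact Or.inl ⟨x, hx, hmul _ _ hrp hsp hrs _ hrx htx⟩
  have hrt : ∃ a : G, p ∣ orderOf a ∧ r * t ∣ (Subgroup.centralizer ({a} : Set G)).index :=
    ⟨x, hx, hmul _ _ hrp ht (Ne.symm htr) _ hrx htx⟩
  by_cases htu' : t = u
  · subst htu'
    exact Or.inr (Or.inl ⟨t, ⟨ht, x, hx, htx⟩, htr, hts, hrt,
      x', hx', hmul _ _ ht hsp hts _ hux hsx⟩)
  obtain ⟨w, hw, hwd⟩ := htu.resolve_left htu'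
  by_cases hus : u = s
  · subst hus
    exact Or.inr (Or.inl ⟨t, ⟨ht, x, hx, htx⟩, htr, hts, hrt, w, hw, hwd⟩)
  exact Or.inr (Or.inr ⟨t, u, ⟨ht, x, hx, htx⟩, ⟨hu, x', hx', hux⟩, htr, hus, htu', hrt,
    ⟨w, hw, hwd⟩, x', hx', hmul _ _ hu hsp hus _ hux hsx⟩)

end Cfsg.Agent.S4321
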