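import Cfsg.Statements.S4323
import Cfsg.Agent.Lib.Solv.TwoRankAbelian.Main
import Cfsg.Agent.Lib.Solv.OddGated.ActionModel

set_option autoImplicit false
open Cfsg

namespace Cfsg.Agent.S4323

/-- Let `q` be a prime and `A` a non-cyclic group of order `q²` acting by automorphisms on a finite group `G` of order prime to `q`, such that the fixed-point subgroup `C_G(a)` is abelian for every non-identity `a ∈ A`. Then `G` is solvable. -/
theorem result {A G : Type*} [Group A] [Finite A]
    [Group G] [Finite G] [MulDistribMulAction A G] (q : ℕ) (hq : q.Prime) (hA : Nat.card A = q ^ 2) (hnc : ¬ IsCyclic A)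
    (hcop : ¬ q ∣ Nat.card G) (h : ∀ a : A, a ≠ 1 → IsMulCommutative ↥(FixedPoints.subgroup (Subgroup.zpowers a) G)) :
    Group.IsSolvable G := by
  haveI := Fact.mk hq
  obtain ⟨K, hK⟩ : ∃ K, K = Cfsg.Agent.Solv.OddGated.ActionModel.base A G := ⟨_, rfl⟩
  obtain ⟨B, hB⟩ : ∃ B, B = Cfsg.Agent.Solv.OddGated.ActionModel.top' A G := ⟨_, rfl⟩
  have hcomm : ∀ a b : A, a * b = b * a :=
    fun a b => IsPGroup.commutative_of_card_eq_prime_sq hA a b
  have hexp : ∀ a : A, a ^ q = 1 := fun a => by
    obtain ⟨k, hk, e⟩ := (Nat.dvd_prime_pow hq).1 (hA ▸ orderOf_dvd_natCard a)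
    rcases (show k ≤ 1 ∨ k = 2 by omega) with h1 | rfl
    · exact orderOf_dvd_iff_pow_eq_one.1 (e ▸ (pow_dvd_pow q h1).trans (pow_one q).dvd)
    · exact absurd (isCyclic_of_orderOf_eq_card a (e.trans hA.symm)) hnc
  have hfix : ∀ (a : A) (x : G), Commute (SemidirectProduct.inl x :
      Cfsg.Agent.Solv.OddGated.ActionModel.Amb A G) (SemidirectProduct.inr a) →
      x ∈ FixedPoints.subgroup (Subgroup.zpowers a) G := by
    intro a x hc
    have hax : a • x = x := by
      apply SemidirectProduct.inl_injective (φ := MulDistribMulAction.toMulAut A G)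
      rw [Cfsg.Agent.Solv.OddGated.ActionModel.inl_smul, ← hc.eq, mul_assoc, ← map_mul, mul_inv_cancel,
        map_one, mul_one]
    intro b
    exact MulAction.mem_stabilizer_iff.1
      ((Subgroup.zpowers_le.2 (MulAction.mem_stabilizer_iff.2 hax)) b.2)
  have hsol : Group.IsSolvable K := by
    refine Cfsg.Agent.Solv.TwoRankAbelian.solvable_aux _ K B q rfl hq ?_ ?_ ?_ ?_ ?_ ?_
    · rw [hB, Cfsg.Agent.Solv.OddGated.ActionModel.card_top', hA]
    · rw [hB]
      rintro _ ⟨a, rfl⟩
      rw [← map_pow, hexp, map_one]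
    · rw [hB]
      refine ⟨⟨?_⟩⟩
      rintro ⟨_, a, rfl⟩ ⟨_, b, rfl⟩
      refine Subtype.ext ?_
      show SemidirectProduct.inr a * SemidirectProduct.inr b = _
      rw [← map_mul, hcomm, map_mul]
      rfl
    · rw [hK, hB]
      exact Cfsg.Agent.Solv.OddGated.ActionModel.normalizes_base
    · rwa [hK, Cfsg.Agent.Solv.OddGated.ActionModel.card_base]
    · rw [hK, hB]
      rintro _ ⟨a, rfl⟩ ha _ ⟨x, -, rfl⟩ _ ⟨y, -, rfl⟩ hxa hya
      have ha1 : a ≠ 1 := fun e => ha (by rw [e, map_one])
      have := congrArg Subtype.val ((h a ha1).is_comm.comm ⟨x, hfix a x hxa⟩ ⟨y, hfix a y hya⟩)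
      show SemidirectProduct.inl x * SemidirectProduct.inl y = _
      rw [← map_mul, show x * y = y * x from this, map_mul]
  subst hK
  haveI := hsol
  exact Group.isSolvable_of_isSolvable_injective
    (f := (((Subgroup.topEquiv (G := G)).symm.trans ((⊤ : Subgroup G).equivMapOfInjective _
      (SemidirectProduct.inl_injective (φ := MulDistribMulAction.toMulAut A G)))).toMonoidHom :
        G →* Cfsg.Agent.Solv.OddGated.ActionModel.base A G))
    (MulEquiv.injective _)

end Cfsg.Agent.S4323
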