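import Cfsg.Statements.S4325
import Mathlib

set_option autoImplicit false
open Cfsg

namespace Cfsg.Agent.S4325


theorem labels {r : ℕ} (L : List (Equiv.Perm (Fin r))) (hL : ∀ t ∈ L, t.IsSwap) :
    ∃ c : Fin r → Fin r, (∀ t ∈ L, ∀ x, c (t x) = c x) ∧ r ≤ Nat.card (Set.range c) + L.length := by
  classical
  induction L with
  | nil => exact ⟨id, by simp, by simp⟩
  | cons t L ih =>
    obtain ⟨c, hc, hcard⟩ := ih fun u hu => hL u (List.mem_cons_of_mem _ hu)
    obtain ⟨a, b, hab, ht⟩ := hL t (List.mem_cons_self ..)
    let f : Fin r → Fin r := fun y => if y = c a then c b else y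
    refine ⟨f ∘ c, ?_, ?_⟩
    · intro u hu x
      rcases List.mem_cons.1 hu with rfl | hu
      · subst ht
        rcases eq_or_ne x a with rfl | hxa
        · simp [f]
        rcases eq_or_ne x b with rfl | hxb
        · simp [f]
        · simp [Equiv.swap_apply_of_ne_of_ne hxa hxb]
      · simp [hc u hu x]
    · have hsub : Set.range c ⊆ insert (c a) (Set.range (f ∘ c)) := by
        rintro _ ⟨x, rfl⟩
        by_cases hx : c x = c a
        · exact Or.inl hx
        · exact Or.inr ⟨x, by simp [f, hx]⟩
      have := Set.ncard_le_ncard hsub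
      have h2 := Set.ncard_insert_le (c a) (Set.range (f ∘ c))
      rw [List.length_cons, Nat.card_coe_set_eq] at *
      omega


/-- Let r be a prime and m a natural number with m + 1 < r, and let π be a set of primes containing every prime below r but not r itself. Then in the symmetric group of degree r any m transpositions generate a π-subgroup, while O_π of the symmetric group is trivial. (So no bound on the number of conjugates that works for all π exists in the π-radical analogue of the Baer–Suzuki Theorem.) -/
theorem result (r m : ℕ) (hr : r.Prime)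
    (hm : m + 1 < r) (π : Set ℕ) (hπ : ∀ q : ℕ, q.Prime → q < r → q ∈ π) (hrπ : r ∉ π)
    (t : Fin m → Equiv.Perm (Fin r)) (ht : ∀ i, (t i).IsSwap) :
    Cfsg.IsPiSubgroup π (Subgroup.closure (Set.range t)) ∧ Cfsg.piCore π (Equiv.Perm (Fin r)) = ⊥ := by
  classical
  haveI : Fact r.Prime := ⟨hr⟩
  have hcardS : Nat.card (Equiv.Perm (Fin r)) = r.factorial := by rw [Nat.card_perm, Nat.card_fin]
  have hprimes : ∀ q : ℕ, q.Prime → q ∣ r.factorial → q ∈ π ∨ q = r := by
    intro q hq hqd
    rcases lt_or_eq_of_le (hq.dvd_factorial.1 hqd) with h | h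
    · exact Or.inl (hπ q hq h)
    · exact Or.inr h
  have htransel : ∀ H : Subgroup (Equiv.Perm (Fin r)), r ∣ Nat.card H → MulAction.IsPretransitive H (Fin r) := by
    intro H hd
    obtain ⟨g, hg⟩ := exists_prime_orderOf_dvd_card' (G := H) r hd
    have hg' : orderOf (g : Equiv.Perm (Fin r)) = r := by rw [Subgroup.orderOf_coe]; exact hg
    have hcyc : (g : Equiv.Perm (Fin r)).IsCycle :=
      Equiv.Perm.isCycle_of_prime_order' (by rw [hg']; exact hr) (by rw [hg', Fintype.card_fin]; have := hr.pos; omega)
    have hsupp : ∀ x, (g : Equiv.Perm (Fin r)) x ≠ x := by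
      intro x
      have h1 := hcyc.orderOf
      rw [hg'] at h1
      have h2 : (g : Equiv.Perm (Fin r)).support = Finset.univ :=
        Finset.eq_univ_of_card _ (by rw [← h1, Fintype.card_fin])
      exact Equiv.Perm.mem_support.1 (h2 ▸ Finset.mem_univ x)
    refine ⟨fun x y => ?_⟩
    obtain ⟨i, hi⟩ := hcyc.exists_zpow_eq (hsupp x) (hsupp y)
    exact ⟨g ^ i, by rw [Subgroup.smul_def, Subgroup.coe_zpow]; exact hi⟩
  constructor
  · intro q hq hqd
    rcases hprimes q hq (hcardS ▸ hqd.trans (Subgroup.card_subgroup_dvd_card _)) with h | rfl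
    · exact h
    exfalso
    have := htransel _ hqd
    obtain ⟨c, hc, hcard⟩ := labels (List.ofFn t) (fun u hu => by
      obtain ⟨i, rfl⟩ := List.mem_ofFn.1 hu
      exact ht i)
    have hinv : ∀ g ∈ Subgroup.closure (Set.range t), ∀ x, c (g x) = c x := by
      intro g hg
      induction hg using Subgroup.closure_induction with
      | mem u hu => exact hc u (List.mem_ofFn.2 hu)
      | one => intro x; rfl
      | mul a b _ _ ha hb => intro x; rw [Equiv.Perm.mul_apply, ha, hb]
      | inv a _ ha => intro x; exact (ha _).symm.trans (congrArg c (a.apply_symm_apply x))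
    have hle : Nat.card (Set.range c) ≤ 1 := by
      rw [Finite.card_le_one_iff_subsingleton]
      refine ⟨fun u v => ?_⟩
      obtain ⟨u, x, rfl⟩ := u
      obtain ⟨v, y, rfl⟩ := v
      obtain ⟨g, hg⟩ := MulAction.exists_smul_eq (Subgroup.closure (Set.range t)) x y
      exact Subtype.ext ((hinv g g.2 x).symm.trans (congrArg c hg))
    rw [List.length_ofFn] at hcard
    omega
  · rw [eq_bot_iff, piCore, sSup_le_iff]
    rintro N ⟨hN, hNπ⟩
    rw [le_bot_iff]
    by_contra hne
    haveI := hN
    haveI hprim : MulAction.IsPreprimitive (Equiv.Perm (Fin r)) (Fin r) :=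
      MulAction.IsPreprimitive.of_prime_card (by rw [Nat.card_fin]; exact hr)
    have htr : MulAction.IsPretransitive N (Fin r) := by
      refine MulAction.IsQuasiPreprimitive.isPretransitive_of_normal (G := Equiv.Perm (Fin r)) fun hfix => hne ?_
      refine (Subgroup.eq_bot_iff_forall _).2 fun g hg => Equiv.ext fun x => ?_
      have : x ∈ MulAction.fixedPoints N (Fin r) := hfix ▸ Set.mem_univ x
      exact this ⟨g, hg⟩
    have hd : r ∣ Nat.card N := by
      let x : Fin r := ⟨0, hr.pos⟩
      have h := Nat.card_congr (MulAction.orbitEquivQuotientStabilizer N x)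
      rw [MulAction.orbit_eq_univ, Nat.card_univ, Nat.card_fin, ← Subgroup.index_eq_card] at h
      exact (dvd_of_eq h).trans (Subgroup.index_dvd_card _)
    exact hrπ (hNπ r hr hd)

end Cfsg.Agent.S4325
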