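import Cfsg.Statements.S4326
import Mathlib

set_option autoImplicit false
open Pointwise
open Cfsg

namespace Cfsg.Agent.S4326


open scoped Pointwise


/-- Let G be a finite group, p a prime, x an automorphism of G of p-power order and M the subgroup of fixed points of x. Suppose that p divides the index of M and that either M is self-normalizing or M has trivial center. Then some conjugate of M is mapped onto itself by x but is not fixed elementwise by x. -/
theorem result {G : Type*} [Group G] [Finite G]
    (p : ℕ) [Fact p.Prime] (x : MulAut G) (hx : ∃ k : ℕ, orderOf x = p ^ k) (M : Subgroup G)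
    (hM : ∀ g : G, g ∈ M ↔ x g = g) (hp : p ∣ M.index)
    (hself : Subgroup.normalizer (M : Set G) = M ∨ Subgroup.center M = ⊥) :
    ∃ g : G, (∀ y ∈ MulAut.conj g • M, x y ∈ MulAut.conj g • M) ∧ ∃ y ∈ MulAut.conj g • M, x y ≠ y := by
  classical
  obtain ⟨k, hk⟩ := hx
  let f : G ⧸ M → G ⧸ M := Quotient.map' x (fun a b h => by
    rw [QuotientGroup.leftRel_apply] at h ⊢
    rw [← map_inv, ← map_mul, (hM _).1 h]
    exact h)
  have hf : ∀ g : G, f (QuotientGroup.mk g) = QuotientGroup.mk (x g) := fun g => rfl
  have hiter : ∀ (j : ℕ) (g : G), (f^[j]) (QuotientGroup.mk g) = QuotientGroup.mk ((x ^ j) g) := by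
    intro j
    induction j with
    | zero => intro g; simp
    | succ j ih =>
      intro g
      rw [Function.iterate_succ_apply', ih, hf, pow_succ' x, MulAut.mul_apply]
  let F : Function.End (G ⧸ M) := f
  have hFpow : ∀ j : ℕ, (F ^ j : Function.End (G ⧸ M)) = (f^[j] : G ⧸ M → G ⧸ M) := by
    intro j
    induction j with
    | zero => rfl
    | succ j ih => rw [pow_succ' F, Function.iterate_succ', ← ih]; rfl
  have hF : F ^ p ^ k = 1 := by
    rw [hFpow]
    funext q
    induction q using QuotientGroup.induction_on with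
    | H g => rw [hiter, ← hk, pow_orderOf_eq_one]; rfl
  haveI : Fintype (G ⧸ M) := Fintype.ofFinite _
  have hmod := Equiv.Perm.card_fixedPoints_modEq hF
  rw [← Nat.card_eq_fintype_card (α := G ⧸ M), ← Subgroup.index_eq_card] at hmod
  have hdvd : p ∣ Fintype.card (Function.fixedPoints F) := (hmod.dvd_iff dvd_rfl).1 hp
  have h1 : QuotientGroup.mk (1 : G) ∈ Function.fixedPoints F := by
    show f _ = _
    rw [hf, map_one]
  have hcard : 1 < Fintype.card (Function.fixedPoints F) := by
    haveI : Nonempty (Function.fixedPoints F) := ⟨⟨_, h1⟩⟩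
    exact lt_of_lt_of_le (Fact.out : p.Prime).one_lt (Nat.le_of_dvd Fintype.card_pos hdvd)
  obtain ⟨⟨q, hq⟩, hne⟩ := Fintype.exists_ne_of_one_lt_card hcard ⟨_, h1⟩
  obtain ⟨g, rfl⟩ := QuotientGroup.mk_surjective q
  have hgM : g ∉ M := by
    intro hg
    exact hne (Subtype.ext (QuotientGroup.eq.2 (by simpa using M.inv_mem hg)))
  have hq' : (QuotientGroup.mk (x g) : G ⧸ M) = QuotientGroup.mk g := (hf g).symm.trans hq
  have hm : g⁻¹ * x g ∈ M := QuotientGroup.eq.1 hq'.symm
  set m := g⁻¹ * x g with hmdef
  have hxg : x g = g * m := by rw [hmdef]; group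
  have hmem : ∀ y, y ∈ MulAut.conj g • M ↔ g⁻¹ * y * g ∈ M := by
    intro y
    rw [Subgroup.mem_pointwise_smul_iff_inv_smul_mem]
    simp [MulAut.smul_def]
  refine ⟨g, fun y hy => ?_, ?_⟩
  · rw [hmem] at hy ⊢
    have e : g⁻¹ * x y * g = m * x (g⁻¹ * y * g) * m⁻¹ := by
      rw [map_mul, map_mul, map_inv, hxg]; group
    rw [e, (hM _).1 hy]
    exact M.mul_mem (M.mul_mem hm hy) (M.inv_mem hm)
  · by_contra hall
    push Not at hall
    have hfixc : ∀ z ∈ M, g * z * g⁻¹ ∈ M ∧ m * z = z * m := by
      intro z hz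
      have hy : g * z * g⁻¹ ∈ MulAut.conj g • M := by
        rw [hmem]; simpa [mul_assoc] using hz
      have hfx := hall _ hy
      refine ⟨(hM _).2 hfx, ?_⟩
      rw [map_mul, map_mul, map_inv, hxg, (hM z).1 hz] at hfx
      calc m * z = g⁻¹ * (g * m * z * (g * m)⁻¹) * g * m := by group
        _ = g⁻¹ * (g * z * g⁻¹) * g * m := by rw [hfx]
        _ = z * m := by group
    rcases hself with hN | hZ
    · apply hgM
      rw [← hN]
      let ψ : M → M := fun z => ⟨g * z * g⁻¹, (hfixc z z.2).1⟩
      have hψ : Function.Surjective ψ := Finite.surjective_of_injective fun u w e => by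
        have := congrArg Subtype.val e
        exact Subtype.ext (by simpa [ψ] using this)
      refine Subgroup.mem_normalizer_iff.2 fun z => ⟨fun hz => (hfixc z hz).1, fun hz => ?_⟩
      obtain ⟨w, hw⟩ := hψ ⟨_, hz⟩
      have := congrArg Subtype.val hw
      have e : (w : G) = z := by simpa [ψ] using this
      exact e ▸ w.2
    · apply hgM
      have : (⟨m, hm⟩ : M) ∈ Subgroup.center M :=
        Subgroup.mem_center_iff.2 fun z => Subtype.ext ((hfixc z z.2).2).symm
      rw [hZ, Subgroup.mem_bot] at this
      have hm1 : m = 1 := congrArg Subtype.val this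
      rw [hm1, mul_one] at hxg
      exact (hM g).2 hxg

end Cfsg.Agent.S4326
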