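import Cfsg.Statements.S4330
import Cfsg.Agent.Lib.Perm.NoFixConj.Solvable

set_option autoImplicit false
open Pointwise
open Cfsg

namespace Cfsg.Agent.S4330

/-- Let G be a finite solvable group, p an odd prime and A a p-subgroup of G such that every conjugacy class of G contains an element g for which A is subnormal in the subgroup generated by A and its conjugate by g. Then A is contained in O_p(G). (The hypothesis that p is odd is needed.) -/
theorem result {G : Type*} [Group G] [Finite G]
    (hG : Group.IsSolvable G) (p : ℕ) [Fact p.Prime] (hp : p ≠ 2) (A : Subgroup G) (hA : IsPGroup p A)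
    (h : ∀ c : G, ∃ g : G, IsConj c g ∧ (A.subgroupOf (A ⊔ MulAut.conj g • A)).IsSubnormal) :
    A ≤ Cfsg.pCore p G := by
  refine Cfsg.Agent.Perm.NoFixConj.le_pCore_aux hp _ G le_rfl hG A hA fun c => ?_
  obtain ⟨g, hg, hsn⟩ := h c
  set J := A ⊔ MulAut.conj g • A
  refine ⟨g, hg, (Cfsg.pCore p J).map J.subtype, (Cfsg.Agent.Fusion.isPGroup_pCore p J).map _, fun a ha => ?_,
    fun a ha => ?_⟩
  · exact ⟨⟨a, Subgroup.mem_sup_left ha⟩, Cfsg.Agent.Perm.subnormal_pgroup_le_pCore hsn
      (hA.comap_of_injective J.subtype J.subtype_injective) ha, rfl⟩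
  · rintro _ ⟨r, hr, rfl⟩
    have hj : g * a * g⁻¹ ∈ J :=
      Subgroup.mem_sup_right (Subgroup.smul_mem_pointwise_smul a (MulAut.conj g) A ha)
    exact ⟨_, Subgroup.Normal.conj_mem inferInstance r hr ⟨_, hj⟩, rfl⟩

end Cfsg.Agent.S4330
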