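import Cfsg.Statements.S4331
import Mathlib
import Cfsg.Agent.Lib.Fusion.Cores
import Cfsg.Agent.Lib.Solv.Subnormal

set_option autoImplicit false
open Cfsg

namespace Cfsg.Agent.S4331


open scoped Pointwise

/-- semidihedral group of order 16 -/
@[ext] structure SD where
  k : ZMod 8
  e : ZMod 2
deriving DecidableEq, Fintype

instance : Mul SD := ⟨fun a b => ⟨a.k + (if a.e = 0 then b.k else 3 * b.k), a.e + b.e⟩⟩
instance : One SD := ⟨⟨0, 0⟩⟩
instance : Inv SD := ⟨fun a => ⟨if a.e = 0 then -a.k else -(3 * a.k), a.e⟩⟩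

theorem mul_def (a b : SD) : a * b = ⟨a.k + (if a.e = 0 then b.k else 3 * b.k), a.e + b.e⟩ := rfl

set_option maxRecDepth 20000 in
theorem sd_assoc : ∀ a b c : SD, a * b * c = a * (b * c) := by
  rintro ⟨a, e⟩ ⟨b, f⟩ ⟨c, g⟩
  have h9 : (3 : ZMod 8) * 3 = 1 := by decide
  have h2 : ∀ x : ZMod 2, x = 0 ∨ x = 1 := by decide
  have h11 : (1 : ZMod 2) + 1 = 0 := by decide
  rcases h2 e with rfl | rfl <;> rcases h2 f with rfl | rfl <;>
    simp only [mul_def, h11, add_zero, zero_add, if_true, if_neg (show (1 : ZMod 2) ≠ 0 by decide), SD.mk.injEq] <;>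
    refine ⟨?_, by first | rfl | decide +revert⟩ <;>
    first | ring1 | linear_combination -c * h9

instance : Group SD := Group.ofLeftAxioms sd_assoc (by decide) (by decide)

abbrev V := ZMod 3 × ZMod 3

def M (v : V) : V := (v.2, v.1 + v.2)
def T (v : V) : V := (v.1 + v.2, -v.2)
def act (h : SD) (v : V) : V := M^[h.k.val] (if h.e = 0 then v else T v)

theorem act_one : ∀ v, act 1 v = v := by decide
set_option maxRecDepth 20000 in
theorem act_add : ∀ (h : SD) (v w : V), act h (v + w) = act h v + act h w := by decide +kernel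
set_option maxRecDepth 20000 in
theorem act_mul : ∀ (h h' : SD) (v : V), act (h * h') v = act h (act h' v) := by decide +kernel

def φ : SD →* MulAut (Multiplicative V) where
  toFun h :=
    { toFun := fun v => Multiplicative.ofAdd (act h v.toAdd)
      invFun := fun v => Multiplicative.ofAdd (act h⁻¹ v.toAdd)
      left_inv := fun v => by simp [← act_mul, act_one]
      right_inv := fun v => by simp [← act_mul, act_one]
      map_mul' := fun v w => by simp [act_add] }
  map_one' := MulEquiv.ext fun v => congrArg Multiplicative.ofAdd (act_one v.toAdd)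
  map_mul' h h' := MulEquiv.ext fun v => congrArg Multiplicative.ofAdd (act_mul h h' v.toAdd)

abbrev G144 := Multiplicative V ⋊[φ] SD

instance : Fintype G144 := Fintype.ofEquiv _ SemidirectProduct.equivProd.symm

def refl : G144 := SemidirectProduct.inr ⟨0, 1⟩

set_option maxRecDepth 20000 in
theorem meets : ∀ g : G144, ∃ x : G144,
    x * g * x⁻¹ * refl = refl * (x * g * x⁻¹) ∨ (x * g * x⁻¹).left = 1 := by
  decide +kernel

theorem isPGroup_sd : IsPGroup 2 SD := IsPGroup.of_card (n := 4) (by rw [Nat.card_eq_fintype_card]; decide +kernel)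

theorem isSolvable_g144 : Group.IsSolvable G144 := by
  have : Group.IsNilpotent SD := IsPGroup.isNilpotent isPGroup_sd
  exact Group.isSolvable_of_ker_le_range SemidirectProduct.inl SemidirectProduct.rightHom
    SemidirectProduct.range_inl_eq_ker_rightHom.ge

theorem normal_of_commute {G : Type*} [Group G] {σ g : G} (h : Commute σ g) :
    ((Subgroup.zpowers σ).subgroupOf (Subgroup.zpowers σ ⊔ Subgroup.zpowers g)).Normal := by
  have h1 : Subgroup.zpowers σ ⊔ Subgroup.zpowers g ≤ Subgroup.centralizer {σ} := by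
    refine sup_le ?_ ?_ <;> rw [Subgroup.zpowers_le, Subgroup.mem_centralizer_singleton_iff]
    exact h.eq.symm
  refine ⟨fun n hn a => ?_⟩
  rw [Subgroup.mem_subgroupOf] at hn ⊢
  obtain ⟨k, hk⟩ := Subgroup.mem_zpowers_iff.1 hn
  have h2 : Commute σ (a : G) := (Subgroup.mem_centralizer_singleton_iff.1 (h1 a.2)).symm
  rw [Subgroup.coe_mul, Subgroup.coe_mul, Subgroup.coe_inv, ← hk,
    ← (h2.zpow_left k).eq, mul_inv_cancel_right]
  exact Subgroup.mem_zpowers_iff.2 ⟨k, rfl⟩


/-- There is a finite solvable group G with a subgroup A of order 2 such that every conjugacy class of G contains an element g for which A is subnormal in the subgroup generated by A and g, and yet A is not contained in O_2(G). (So the corresponding criteria for odd primes fail at the prime 2, even for solvable groups.) -/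
theorem result :
    ∃ (G : Type) (_ : Group G) (_ : Finite G) (A : Subgroup G), Group.IsSolvable G ∧ Nat.card A = 2 ∧
      (∀ c : G, ∃ g : G, IsConj c g ∧ (A.subgroupOf (A ⊔ Subgroup.zpowers g)).IsSubnormal) ∧
      ¬ A ≤ Cfsg.pCore 2 G := by
  refine ⟨G144, inferInstance, inferInstance, Subgroup.zpowers refl, isSolvable_g144, ?_, fun c => ?_, ?_⟩
  · rw [Nat.card_zpowers]
    exact orderOf_eq_prime (by decide +kernel) (by decide +kernel)
  · obtain ⟨x, hx⟩ := meets c
    refine ⟨x * c * x⁻¹, isConj_iff.2 ⟨x, rfl⟩, ?_⟩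
    rcases hx with hx | hx
    · exact (normal_of_commute (show Commute refl (x * c * x⁻¹) from hx.symm)).isSubnormal
    · set g := x * c * x⁻¹
      have hle : Subgroup.zpowers refl ⊔ Subgroup.zpowers g ≤ (SemidirectProduct.inr (φ := φ)).range := by
        refine sup_le ?_ ?_ <;> rw [Subgroup.zpowers_le]
        · exact ⟨_, rfl⟩
        · exact ⟨g.right, by rw [← SemidirectProduct.inl_left_mul_inr_right g, hx]; simp⟩
      have h2 : IsPGroup 2 (Subgroup.zpowers refl ⊔ Subgroup.zpowers g : Subgroup G144) :=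
        IsPGroup.to_le (isPGroup_sd.of_surjective _ (SemidirectProduct.inr (φ := φ)).rangeRestrict_surjective) hle
      haveI : Fact (Nat.Prime 2) := ⟨Nat.prime_two⟩
      haveI := h2.isNilpotent
      exact Cfsg.Agent.Solv.isSubnormal_of_isNilpotent _
  · intro h
    have ht := h (Subgroup.mem_zpowers refl)
    haveI : (Cfsg.pCore 2 G144).Normal := by unfold Cfsg.pCore; exact Subgroup.sSup_normal _ fun N hN => hN.1
    let v : G144 := SemidirectProduct.inl (Multiplicative.ofAdd ((0, 1) : V))
    have hy : v * refl * v⁻¹ * refl ∈ Cfsg.pCore 2 G144 :=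
      mul_mem (Subgroup.Normal.conj_mem inferInstance refl ht v) ht
    haveI : Fact (Nat.Prime 2) := ⟨Nat.prime_two⟩
    obtain ⟨k, hk⟩ := (Cfsg.Agent.Fusion.isPGroup_pCore 2 G144) ⟨_, hy⟩
    have h3 : orderOf (v * refl * v⁻¹ * refl) = 3 :=
      orderOf_eq_prime (hp := ⟨Nat.prime_three⟩) (by decide +kernel) (by decide +kernel)
    have hk' : (v * refl * v⁻¹ * refl) ^ (2 ^ k) = 1 := by
      simpa using congrArg Subtype.val hk
    have h4 := orderOf_dvd_of_pow_eq_one hk'
    rw [h3] at h4
    exact absurd (Nat.prime_three.dvd_of_dvd_pow h4) (by decide)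

end Cfsg.Agent.S4331
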