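import Cfsg.Statements.S4332
import Mathlib
import Cfsg.Agent.Lib.Fusion.Cores

set_option autoImplicit false
open Pointwise
open Cfsg

namespace Cfsg.Agent.S4332


open scoped Pointwise
open Equiv Equiv.Perm

variable {α : Type*} [Fintype α] [DecidableEq α]

theorem exists_triple (hα : Fintype.card α = 8) (c : Perm α) :
    ∃ T : Finset α, T.card = 3 ∧ (T.map c.toEmbedding = T ∨ Disjoint (T.map c.toEmbedding) T) := by
  by_cases hm : c.support.card ≤ 5
  · have h : 3 ≤ c.supportᶜ.card := by rw [Finset.card_compl]; omega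
    obtain ⟨T, hT, hc⟩ := Finset.exists_subset_card_eq h
    refine ⟨T, hc, Or.inl (Finset.ext fun a => ?_)⟩
    have key : ∀ b ∈ T, c b = b := fun b hb => by
      have := hT hb
      simpa [Equiv.Perm.mem_support] using this
    simp only [Finset.mem_map, Equiv.coe_toEmbedding]
    exact ⟨fun ⟨b, hb, he⟩ => by rw [← he, key b hb]; exact hb, fun ha => ⟨a, ha, key a ha⟩⟩
  have six : ∀ s : Finset α, s.card ≤ 5 → ∃ z, c z ≠ z ∧ z ∉ s := fun s hs => by
    obtain ⟨z, hz, hz'⟩ := Finset.exists_mem_notMem_of_card_lt_card (s := s) (t := c.support) (by omega)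
    exact ⟨z, Equiv.Perm.mem_support.1 hz, hz'⟩
  have disj : ∀ x y z : α, x ≠ y → x ≠ z → y ≠ z →
      c x ∉ ({x, y, z} : Finset α) → c y ∉ ({x, y, z} : Finset α) →
      c z ∉ ({x, y, z} : Finset α) →
      ∃ T : Finset α, T.card = 3 ∧ (T.map c.toEmbedding = T ∨ Disjoint (T.map c.toEmbedding) T) := by
    intro x y z h1 h2 h3 hx hy hz
    refine ⟨{x, y, z}, by simp [h1, h2, h3], Or.inr (Finset.disjoint_left.2 ?_)⟩
    intro a ha
    simp only [Finset.map_insert, Finset.map_singleton, Finset.mem_insert, Finset.mem_singleton,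
      Equiv.coe_toEmbedding] at ha
    rcases ha with rfl | rfl | rfl <;> assumption
  by_cases hsq : ∀ a, c (c a) = a
  · obtain ⟨x, hx, -⟩ := six ∅ (by simp)
    obtain ⟨y, hy, hy'⟩ := six {x, c x} (Finset.card_le_two.trans (by norm_num))
    obtain ⟨z, hz, hz'⟩ := six {x, c x, y, c y} (Finset.card_le_four.trans (by norm_num))
    simp only [Finset.mem_insert, Finset.mem_singleton, not_or] at hy' hz'
    refine disj x y z (Ne.symm hy'.1) (Ne.symm hz'.1) (Ne.symm hz'.2.2.1) ?_ ?_ ?_ <;>
      simp only [Finset.mem_insert, Finset.mem_singleton, not_or] <;>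
      refine ⟨?_, ?_, ?_⟩ <;> grind
  push Not at hsq
  obtain ⟨x, hx2⟩ := hsq
  have hx : c x ≠ x := fun h => hx2 (by rw [h, h])
  have hxy : c (c x) ≠ c x := fun h => hx (c.injective h)
  by_cases hx3 : c (c (c x)) = x
  · refine ⟨{x, c x, c (c x)}, by simp [Ne.symm hx, Ne.symm hx2, Ne.symm hxy], Or.inl ?_⟩
    simp only [Finset.map_insert, Finset.map_singleton, Equiv.coe_toEmbedding, hx3]
    grind
  obtain ⟨z, hz, hz'⟩ := six {x, c x, c (c x), c (c (c x)), c.symm x} Finset.card_le_five
  simp only [Finset.mem_insert, Finset.mem_singleton, not_or] at hz'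
  have hxy3 : c (c (c x)) ≠ c (c x) := fun h => hxy (c.injective h)
  have hcz : c z ≠ x := fun h => hz'.2.2.2.2 (by rw [← h]; simp)
  have hcz2 : c z ≠ c (c x) := fun h => hz'.2.1 (c.injective h)
  refine disj x (c (c x)) z (Ne.symm hx2) (Ne.symm hz'.1) (Ne.symm hz'.2.2.1) ?_ ?_ ?_ <;>
    simp only [Finset.mem_insert, Finset.mem_singleton, not_or] <;>
    refine ⟨?_, ?_, ?_⟩ <;> grind

omit [Fintype α] [DecidableEq α] in
theorem subnormal_of_commute {G : Type*} [Group G] {σ τ : G} (h : Commute σ τ) (g : G)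
    (hg : g * σ * g⁻¹ = τ) :
    ((Subgroup.zpowers σ).subgroupOf (Subgroup.zpowers σ ⊔ MulAut.conj g • Subgroup.zpowers σ)).IsSubnormal := by
  refine Subgroup.Normal.isSubnormal ?_
  have h1 : Subgroup.zpowers σ ⊔ MulAut.conj g • Subgroup.zpowers σ ≤ Subgroup.centralizer {σ} := by
    refine sup_le ?_ ?_
    · rw [Subgroup.zpowers_le, Subgroup.mem_centralizer_singleton_iff]
    · intro a ha
      rw [Subgroup.mem_pointwise_smul_iff_inv_smul_mem] at ha
      simp only [MulAut.smul_def, MulAut.conj_inv_apply] at ha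
      obtain ⟨k, hk⟩ := Subgroup.mem_zpowers_iff.1 ha
      have ha' : a = τ ^ k := by rw [← hg, conj_zpow, hk]; group
      rw [Subgroup.mem_centralizer_singleton_iff, ha']
      exact (h.zpow_right k).symm.eq
  refine ⟨fun n hn a => ?_⟩
  rw [Subgroup.mem_subgroupOf] at hn ⊢
  obtain ⟨k, hk⟩ := Subgroup.mem_zpowers_iff.1 hn
  have h2 : Commute σ (a : G) := (Subgroup.mem_centralizer_singleton_iff.1 (h1 a.2)).symm
  rw [Subgroup.coe_mul, Subgroup.coe_mul, Subgroup.coe_inv, ← hk,
    ← (h2.zpow_left k).eq, mul_inv_cancel_right]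
  exact Subgroup.mem_zpowers_iff.2 ⟨k, rfl⟩

theorem commute_of_support_eq {σ τ : Perm α} (hσ : σ.IsThreeCycle) (hτ : τ.IsThreeCycle)
    (h : τ.support = σ.support) : Commute σ τ := by
  set S := σ.support with hS
  have hs : (⟨σ, Equiv.Perm.mem_alternatingGroup.2 hσ.sign⟩ : alternatingGroup α) ∈
      (alternatingGroup.ofSubtype S).range := by
    rw [alternatingGroup.mem_range_ofSubtype_iff]
  have ht : (⟨τ, Equiv.Perm.mem_alternatingGroup.2 hτ.sign⟩ : alternatingGroup α) ∈
      (alternatingGroup.ofSubtype S).range := by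
    rw [alternatingGroup.mem_range_ofSubtype_iff]
    exact h.le
  obtain ⟨a, ha⟩ := hs
  obtain ⟨b, hb⟩ := ht
  have : IsMulCommutative (alternatingGroup S) :=
    alternatingGroup.isMulCommutative_of_card_le_three (by rw [Nat.card_eq_fintype_card, Fintype.card_coe, hS, hσ.card_support])
  have h0 : Commute a b := mul_comm' a b
  have h1 := (h0.map (alternatingGroup.ofSubtype S)).map (alternatingGroup α).subtype
  rwa [ha, hb] at h1


/-- In the symmetric group of degree 8, let A be the subgroup generated by a 3-cycle. Then every conjugacy class contains an element g for which A is subnormal in the subgroup generated by A and its conjugate by g, although O_3 of the symmetric group of degree 8 is trivial. -/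
theorem result
    (σ : Equiv.Perm (Fin 8)) (hσ : σ.IsThreeCycle) :
    (∀ c : Equiv.Perm (Fin 8), ∃ g : Equiv.Perm (Fin 8), IsConj c g ∧
      ((Subgroup.zpowers σ).subgroupOf (Subgroup.zpowers σ ⊔ MulAut.conj g • Subgroup.zpowers σ)).IsSubnormal) ∧
    Cfsg.pCore 3 (Equiv.Perm (Fin 8)) = ⊥ := by
  classical
  refine ⟨fun c => ?_, ?_⟩
  · obtain ⟨T, hT, hc⟩ := exists_triple (Fintype.card_fin 8) c
    have hcard : σ.support.card = 3 := hσ.card_support
    let e : {x // x ∈ T} ≃ {x // x ∈ σ.support} := Fintype.equivOfCardEq (by rw [Fintype.card_coe, Fintype.card_coe, hT, hcard])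
    let τ := e.extendSubtype
    have hmap : T.map τ.toEmbedding = σ.support := by
      refine Finset.eq_of_subset_of_card_le (fun a ha => ?_) (by simp [hT, hcard])
      obtain ⟨b, hb, rfl⟩ := Finset.mem_map.1 ha
      exact e.extendSubtype_mem b hb
    refine ⟨τ * c * τ⁻¹, isConj_iff.2 ⟨τ, rfl⟩, ?_⟩
    set g := τ * c * τ⁻¹ with hg
    refine subnormal_of_commute (τ := g * σ * g⁻¹) ?_ g rfl
    have hs : (g * σ * g⁻¹).support = (T.map c.toEmbedding).map τ.toEmbedding := by
      rw [Equiv.Perm.support_conj, ← hmap, Finset.map_map, Finset.map_map]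
      congr 1
      ext a
      simp [hg]
    rcases hc with hc | hc
    · exact commute_of_support_eq hσ (show Equiv.Perm.cycleType _ = {3} by rw [Equiv.Perm.cycleType_conj]; exact hσ) (by rw [hs, hc, hmap])
    · refine (Equiv.Perm.disjoint_iff_disjoint_support.2 ?_).commute.symm
      rw [hs, ← hmap]
      exact (Finset.disjoint_map _).2 hc
  · by_contra hne
    have h1 := Equiv.Perm.alternatingGroup_le_of_normal (α := Fin 8) (by simp)
      (N := Cfsg.pCore 3 (Equiv.Perm (Fin 8))) ((Subgroup.nontrivial_iff_ne_bot _).2 hne)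
    haveI : Fact (Nat.Prime 3) := ⟨Nat.prime_three⟩
    obtain ⟨k, hk⟩ := IsPGroup.iff_card.1 (Cfsg.Agent.Fusion.isPGroup_pCore 3 (Equiv.Perm (Fin 8)))
    have h2 := Subgroup.card_dvd_of_le h1
    rw [hk, nat_card_alternatingGroup] at h2
    simp only [Nat.card_eq_fintype_card, Fintype.card_fin] at h2
    have h3 : 2 ∣ 3 ^ k := dvd_trans (by decide) h2
    exact absurd (Nat.prime_two.dvd_of_dvd_pow h3) (by decide)

end Cfsg.Agent.S4332
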