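import Cfsg.Statements.S4333
import Cfsg.Agent.Lib.Solv.Zipper

set_option autoImplicit false
open Cfsg
open scoped Pointwise

namespace Cfsg.Agent.S4333

section Aux

universe u
open Cfsg.Agent.Solv

theorem criterion : ∀ (n : ℕ) (G : Type u) [Group G] [Finite G], Nat.card G = n →
    ∀ A : Subgroup G,
      (∀ a ∈ A, ∀ g : G, (A.subgroupOf (A ⊔ MulAut.conj (g⁻¹ * a * g) • A)).IsSubnormal) →
      A.IsSubnormal := by
  intro n
  induction n using Nat.strong_induction_on with
  | _ n ih =>
    intro G _ _ hn A h
    have hb : SubnormalBelow A := by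
      intro H hH hAH
      refine ih _ (hn ▸ card_lt_of_ne_top hH) H rfl _ fun a ha g => ?_
      set x := g⁻¹ * a * g
      set J := A ⊔ MulAut.conj (x : G) • A
      have hJH : J ≤ H := sup_le hAH (
        (Subgroup.pointwise_smul_le_pointwise_smul_iff.2 hAH).trans
          (Subgroup.conj_smul_eq_self_of_mem x.2).le)
      have hJ' : A.subgroupOf H ⊔ MulAut.conj x • A.subgroupOf H = J.subgroupOf H := by
        rw [Subgroup.subgroupOf_sup hAH (le_sup_right.trans hJH)]
        congr 1
        ext y
        rw [mem_conj_smul, Subgroup.mem_subgroupOf, Subgroup.mem_subgroupOf, mem_conj_smul]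
        push_cast
        rfl
      have hJs : (A.subgroupOf J).IsSubnormal := by
        have h0 := h (a : G) ha (g : G)
        have hx : ((x : H) : G) = (g : G)⁻¹ * (a : G) * (g : G) := by simp [x]
        have key : ∀ K : Subgroup G, K = A ⊔ MulAut.conj ((g : G)⁻¹ * (a : G) * (g : G)) • A →
            (A.subgroupOf K).IsSubnormal := fun K hK => by rw [hK]; exact h0
        exact key J (by rw [← hx])
      rw [hJ']
      exact hJs.map (f := (Subgroup.subgroupOfEquivOfLe hJH).symm.toMonoidHom)
        (MulEquiv.surjective _) |> fun h2 => by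
          convert h2 using 1
          ext ⟨⟨y, hyH⟩, hy⟩
          constructor
          · intro hyA
            exact ⟨⟨y, hy⟩, hyA, rfl⟩
          · rintro ⟨⟨z, hz⟩, hzA, e⟩
            have e' : z = y := congrArg (fun w : J.subgroupOf H => ((w : H) : G)) e
            subst e'
            exact hzA
    by_contra hns
    obtain ⟨M, hM, hAM⟩ : ∃ M : Subgroup G, IsCoatom M ∧ A ≤ M := by
      refine (eq_top_or_exists_le_coatom A).resolve_left fun e => hns ?_
      rw [e]; exact Subgroup.IsSubnormal.top
    have huniq : ∀ K : Subgroup G, K ≠ ⊤ → A ≤ K → K ≤ M := fun K hK hAK => by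
      obtain ⟨M', hM', hKM⟩ := (eq_top_or_exists_le_coatom K).resolve_left hK
      rwa [zipper A hb hns M M' hM hM' hAM (hAK.trans hKM)]
    have hall : ∀ a ∈ A, ∀ g : G, g⁻¹ * a * g ∈ M := by
      intro a ha g
      by_contra hx
      set x := g⁻¹ * a * g
      by_cases htop : A ⊔ MulAut.conj x • A = ⊤
      · refine hns (Subgroup.IsSubnormal.trans le_sup_left (h a ha g) ?_)
        rw [htop]
        exact Subgroup.IsSubnormal.top
      have hAxM : MulAut.conj x • A ≤ M := le_sup_right.trans (huniq _ htop le_sup_left)
      have hle : A ≤ MulAut.conj x⁻¹ • M := by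
        have := (Subgroup.pointwise_smul_le_pointwise_smul_iff (a := MulAut.conj x⁻¹)).2 hAxM
        rwa [conj_smul_conj, inv_mul_cancel, conj_one_smul] at this
      have hne : MulAut.conj x⁻¹ • M ≠ ⊤ := fun e => hM.1 (by
        rw [← conj_one_smul M, ← mul_inv_cancel x, ← conj_smul_conj, e,
          Subgroup.Normal.conj_smul_eq_self])
      have heq : MulAut.conj x⁻¹ • M = M :=
        Subgroup.eq_of_le_of_card_ge (huniq _ hne hle) (by rw [card_conj_smul])
      have hxN : x ∈ Subgroup.normalizer (M : Set G) := by
        simpa using inv_mem (mem_normalizer_of_conj_smul heq)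
      rcases eq_or_ne (Subgroup.normalizer (M : Set G)) ⊤ with htN | htN
      · haveI : M.Normal := Subgroup.normalizer_eq_top_iff.1 htN
        exact hx (by simpa [x] using (inferInstance : M.Normal).conj_mem a (hAM ha) g⁻¹)
      · exact hx ((hM.le_iff.1 Subgroup.le_normalizer).resolve_left htN ▸ hxN)
    have hN : Subgroup.normalClosure (A : Set G) ≤ M := by
      rw [Subgroup.normalClosure, Subgroup.closure_le]
      intro y hy
      obtain ⟨a, ha, hay⟩ := Group.mem_conjugatesOfSet_iff.1 hy
      obtain ⟨c, rfl⟩ := isConj_iff.1 hay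
      simpa using hall a ha c⁻¹
    exact hns (isSubnormal_of_le_normal Subgroup.le_normalClosure
      (hb _ (fun e => hM.1 (top_le_iff.1 (e ▸ hN))) Subgroup.le_normalClosure))

end Aux

/-- Let A be a subgroup of a finite group G. If A is subnormal in the subgroup generated by A and its conjugate by g⁻¹ a g, for every a ∈ A and every g ∈ G, then A is subnormal in G. (A sharpening of Wielandt's subnormality criterion: only conjugates of A by conjugates of elements of A are needed.) -/
theorem result {G : Type*} [Group G] [Finite G]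
    (A : Subgroup G)
    (h : ∀ a ∈ A, ∀ g : G, (A.subgroupOf (A ⊔ MulAut.conj (g⁻¹ * a * g) • A)).IsSubnormal) :
    A.IsSubnormal :=
  criterion _ G rfl A h

end Cfsg.Agent.S4333
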