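import Cfsg.Statements.S4334
import Cfsg.Agent.Lib.Perm.NilpotentHall

set_option autoImplicit false
set_option linter.style.haveILetI false
open Cfsg

namespace Cfsg.Agent.S4334

open Cfsg.Agent.Perm.NilpotentHall Cfsg.Agent.Fusion

universe u

variable {G : Type u} [Group G] [Finite G]

theorem isPi_conj {π : Set ℕ} {H : Subgroup G} (hH : IsPiSubgroup π H) (g : G) :
    IsPiSubgroup π (H.map (MulAut.conj g).toMonoidHom) := fun q hq hd => hH q hq
  (Subgroup.card_map_of_injective (f := (MulAut.conj g).toMonoidHom) (MulAut.conj g).injective ▸ hd)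

theorem eq_conj_of_maximal {π : Set ℕ} {A H : Subgroup G} (hH : IsPiSubgroup π H)
    (hA : Maximal (IsPiSubgroup π) A) {g : G} (hg : ∀ a ∈ A, g * a * g⁻¹ ∈ H) :
    A = H.map (MulAut.conj g⁻¹).toMonoidHom := by
  have hle : A ≤ H.map (MulAut.conj g⁻¹).toMonoidHom := fun a ha =>
    ⟨g * a * g⁻¹, hg a ha, show g⁻¹ * (g * a * g⁻¹) * (g⁻¹)⁻¹ = a by group⟩
  exact le_antisymm hle (hA.2 (isPi_conj hH g⁻¹) hle)

set_option maxHeartbeats 1000000 in
/-- Every π-subgroup is conjugate into `H`. -/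
theorem into (σ τ : Set ℕ) (hd : Disjoint σ τ) (H Hs Ht : Subgroup G) (hH : Cfsg.IsPiHall (σ ∪ τ) H)
    (hs : Cfsg.IsPiSubgroup σ Hs) (ht : Cfsg.IsPiSubgroup τ Ht) (hsn : Group.IsNilpotent Hs)
    (hjoin : Hs ⊔ Ht = H) (hcomm : ∀ a ∈ Hs, ∀ b ∈ Ht, a * b = b * a) (hD : Cfsg.IsDPiGroup τ G) :
    ∀ (n : ℕ) (U : Subgroup G), Nat.card U = n → IsPiSubgroup (σ ∪ τ) U → Into U H := by
  classical
  have hsplit := split_mem hd hs ht hjoin hcomm
  have hHs : Hs ≤ H := hjoin ▸ le_sup_left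
  have hHt : Ht ≤ H := hjoin ▸ le_sup_right
  have hcom : ∀ p : ℕ, p.Prime → p ∈ σ → ∀ x ∈ H, ∀ y ∈ H, (∃ k, orderOf x = p ^ k) →
      (orderOf y).Coprime p → x * y = y * x := by
    intro p hp hpσ x hx y hy hxk hyp
    obtain ⟨k, hxk⟩ := hxk
    obtain ⟨s, hs1, t, ht1, rfl, -, -, hsd, htd⟩ := hsplit x hx
    have ht0 : t = 1 := by
      by_contra hne
      obtain ⟨q, hq, hqt⟩ := Nat.exists_prime_and_dvd (mt orderOf_eq_one_iff.1 hne)
      have h1 : q ∈ τ := ht q hq (hqt.trans (Subgroup.orderOf_dvd_natCard Ht ht1))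
      have h2 : q = p := (Nat.prime_dvd_prime_iff_eq hq hp).1 (hq.dvd_of_dvd_pow (hxk ▸ hqt.trans htd))
      exact Set.disjoint_left.1 hd (h2 ▸ hpσ) h1
    subst ht0
    rw [mul_one] at hxk hsd ⊢
    obtain ⟨s', hs1', t', ht1', rfl, -, -, hsd', -⟩ := hsplit y hy
    have h3 : s * s' = s' * s := comm_nilpotent hsn hs1 hs1' (by
      rw [hxk]
      exact (Nat.Coprime.coprime_dvd_left hsd' hyp).symm.pow_left k)
    calc s * (s' * t') = (s * s') * t' := (mul_assoc _ _ _).symm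
      _ = s' * (s * t') := by rw [h3, mul_assoc]
      _ = s' * (t' * s) := by rw [hcomm s hs1 t' ht1']
      _ = (s' * t') * s := (mul_assoc _ _ _).symm
  have hidxs : ∀ q : ℕ, q.Prime → q ∈ σ → ¬ q ∣ Hs.index := by
    intro q hq hqσ hdvd
    haveI : Fact q.Prime := ⟨hq⟩
    rw [← Subgroup.relIndex_mul_index hHs] at hdvd
    rcases hq.dvd_mul.1 hdvd with h1 | h1
    · obtain ⟨x, hx⟩ := exists_prime_orderOf_dvd_card' (G := H) q (h1.trans (Subgroup.index_dvd_card _))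
      -- every element of q-power order lies in Hs
      have hQ : ∀ y ∈ H, (∃ k, orderOf y = q ^ k) → y ∈ Hs := by
        intro y hy hyk
        obtain ⟨k, hyk⟩ := hyk
        obtain ⟨s, hs1, t, ht1, rfl, -, -, -, htd⟩ := hsplit y hy
        suffices t = 1 by rw [this, mul_one]; exact hs1
        by_contra hne
        obtain ⟨r, hr, hrt⟩ := Nat.exists_prime_and_dvd (mt orderOf_eq_one_iff.1 hne)
        have h2 : r ∈ τ := ht r hr (hrt.trans (Subgroup.orderOf_dvd_natCard Ht ht1))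
        have h3 : r = q := (Nat.prime_dvd_prime_iff_eq hr hq).1 (hr.dvd_of_dvd_pow (hyk ▸ hrt.trans htd))
        exact Set.disjoint_left.1 hd (h3 ▸ hqσ) h2
      obtain ⟨P⟩ : Nonempty (Sylow q H) := inferInstance
      refine P.not_dvd_index (h1.trans (Subgroup.index_dvd_of_le fun y hy => ?_))
      obtain ⟨k, hk⟩ := IsPGroup.iff_orderOf.1 P.2 ⟨y, hy⟩
      rw [Subgroup.orderOf_mk] at hk
      exact hQ y y.2 ⟨k, by rw [Subgroup.orderOf_coe, hk]⟩
    · exact hH.2 q hq (Or.inl hqσ) h1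
  intro n
  induction n using Nat.strong_induction_on with
  | _ n ih =>
  intro U hn hU
  by_contra hnot
  have hproper : ∀ V : Subgroup G, V ≤ U → V ≠ U → Into V H := fun V hVU hne =>
    ih _ (hn ▸ lt_of_le_of_ne (Subgroup.card_le_of_le hVU) fun h => hne (Subgroup.eq_of_le_of_card_ge hVU h.ge))
      V rfl fun q hq hd => hU q hq (hd.trans (Subgroup.card_dvd_of_le hVU))
  by_cases hτ : IsPiSubgroup τ U
  · obtain ⟨M, hUM, hM⟩ := Finite.exists_le_maximal (p := IsPiSubgroup τ) hτ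
    obtain ⟨M', hHM, hM'⟩ := Finite.exists_le_maximal (p := IsPiSubgroup τ) ht
    have hM'H : M' ≤ Ht := by
      refine (Subgroup.eq_of_le_of_card_ge hHM (Nat.le_of_dvd Nat.card_pos ?_)).ge
      have h2 : (Ht.relIndex M') * Nat.card Ht = Nat.card M' := by
        have h := Subgroup.relIndex_mul_relIndex (⊥ : Subgroup G) Ht M' bot_le hHM
        rwa [Subgroup.relIndex_bot_left, Subgroup.relIndex_bot_left, mul_comm] at h
      suffices h3 : Ht.relIndex M' = 1 by rw [← h2, h3, one_mul]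
      by_contra h3
      obtain ⟨r, hr, hrd⟩ := Nat.exists_prime_and_dvd h3
      have hrτ : r ∈ τ := hM'.1 r hr (hrd.trans ⟨_, h2.symm⟩)
      have hrHs : ¬ r ∣ Nat.card Hs := fun h => Set.disjoint_left.1 hd (hs r hr h) hrτ
      have h4 : r ∣ Ht.index := hrd.trans (Subgroup.relIndex_dvd_index_of_le hHM)
      rw [← Subgroup.relIndex_mul_index hHt] at h4
      rcases hr.dvd_mul.1 h4 with h5 | h5
      · have hcp : ∀ (a : Hs) (b : Ht), Commute (Hs.subtype a) (Ht.subtype b) := fun a b => hcomm a a.2 b b.2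
        have h7 : Nat.card H ∣ Nat.card (Hs × Ht) := by
          have h := Subgroup.card_range_dvd (MonoidHom.noncommCoprod Hs.subtype Ht.subtype hcp)
          rwa [MonoidHom.noncommCoprod_range, Subgroup.range_subtype, Subgroup.range_subtype, hjoin] at h
        have h6 : Ht.relIndex H ∣ Nat.card Hs := by
          have h := Subgroup.relIndex_mul_relIndex (⊥ : Subgroup G) Ht H bot_le hHt
          rw [Subgroup.relIndex_bot_left, Subgroup.relIndex_bot_left] at h
          rw [Nat.card_prod, ← h, mul_comm (Nat.card Hs)] at h7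
          exact Nat.dvd_of_mul_dvd_mul_left Nat.card_pos h7
        exact hrHs (h5.trans h6)
      · exact hH.2 r hr (Or.inr hrτ) h5
    obtain ⟨g, hg⟩ := hD M M' hM hM'
    exact hnot ⟨g, fun u hu => hHt (hM'H (hg ▸ ⟨u, hUM hu, rfl⟩))⟩
  obtain ⟨p, hp, hpU, hpτ⟩ : ∃ p, p.Prime ∧ p ∣ Nat.card U ∧ p ∉ τ := by
    simp only [IsPiSubgroup, not_forall] at hτ
    obtain ⟨p, hp, hpU, hpτ⟩ := hτ
    exact ⟨p, hp, hpU, hpτ⟩
  have hpσ : p ∈ σ := (hU p hp hpU).resolve_right hpτ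
  haveI : Fact p.Prime := ⟨hp⟩
  -- a p-element and a commuting partner
  have hcommV : ∀ V : Subgroup G, V ≤ U → V ≠ U → ∀ x ∈ V, ∀ y ∈ V, (∃ k, orderOf x = p ^ k) →
      (orderOf y).Coprime p → x * y = y * x := by
    intro V hVU hne x hx y hy hxk hyp
    obtain ⟨g, hg⟩ := hproper V hVU hne
    have h := hcom p hp hpσ _ (hg x hx) _ (hg y hy)
      (by rwa [← MulAut.conj_apply, MulEquiv.orderOf_eq]) (by rwa [← MulAut.conj_apply, MulEquiv.orderOf_eq])
    rw [← MulAut.conj_apply, ← MulAut.conj_apply, ← map_mul, ← map_mul] at h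
    exact (MulAut.conj g).injective h
  obtain ⟨P⟩ : Nonempty (Sylow p U) := inferInstance
  by_cases hnpc : HasNormalPComplement p U
  swap
  · refine hnpc (hnpc_of_centralize (sylIn_top P) fun Q hQ g hg hgp => ?_)
    by_contra hgC
    obtain ⟨y, q, k, hq, hqp, hyo, hyg, hyC⟩ := exists_primePow p _ _ g rfl hgp hgC
    haveI : Fact q.Prime := ⟨hq⟩
    set X := Q.map U.subtype
    set Y := (Subgroup.zpowers y).map U.subtype
    have hXU : X ⊔ Y ≤ U := sup_le (Subgroup.map_subtype_le _) (Subgroup.map_subtype_le _)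
    have hQp : IsPGroup p Q := P.2.to_le hQ
    have hXp : IsPGroup p X := hQp.map _
    rcases ne_or_eq (X ⊔ Y) U with hne | heq
    · refine hyC (Subgroup.mem_centralizer_iff.2 fun a ha => ?_)
      obtain ⟨j, hj⟩ := IsPGroup.iff_orderOf.1 hQp ⟨a, ha⟩
      rw [Subgroup.orderOf_mk] at hj
      refine Subtype.ext (hcommV _ hXU hne (a : G) (le_sup_left (b := Y) ⟨a, ha, rfl⟩) (y : G)
        (le_sup_right (a := X) ⟨y, Subgroup.mem_zpowers y, rfl⟩) ⟨j, by rw [Subgroup.orderOf_coe, hj]⟩ ?_)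
      rw [Subgroup.orderOf_coe, hyo]
      exact Nat.Coprime.pow_left k ((Nat.coprime_primes hq hp).2 hqp)
    · have hk0 : k ≠ 0 := fun h => hyC (by
        rw [orderOf_eq_one_iff.1 (show orderOf y = 1 by rw [hyo, h, pow_zero])]; exact Subgroup.one_mem _)
      have hqU : q ∈ σ ∪ τ := hU q hq
        ((dvd_pow_self q hk0).trans (hyo ▸ orderOf_dvd_natCard y))
      refine hnot (heq ▸ two_part (σ ∪ τ) H hH.2 (a := p) (b := q) (Or.inl hpσ) hqU
        (fun a ha b hb hak hbk => hcom p hp hpσ a ha b hb hak ?_) X Y hXp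
        ((IsPGroup.of_card (G := Subgroup.zpowers y) (by rw [Nat.card_zpowers, hyo])).map _) ?_)
      · obtain ⟨j, hj⟩ := hbk
        rw [hj]
        exact Nat.Coprime.pow_left j ((Nat.coprime_primes hq hp).2 hqp)
      · rintro _ ⟨z, hz, rfl⟩
        exact Subgroup.le_normalizer_map (H := Q) U.subtype
          ⟨z, (Subgroup.zpowers_le.2 hg) ((Subgroup.zpowers_le.2 hyg) hz), rfl⟩
  obtain ⟨N, hNn, hNc⟩ := hnpc_exists_complement hnpc P
  haveI := hNn
  set N' := N.map U.subtype with hN'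
  set P' := (P : Subgroup U).map U.subtype with hP'
  have hN'U : N' ≤ U := Subgroup.map_subtype_le _
  have hP'U : P' ≤ U := Subgroup.map_subtype_le _
  have hP'p : IsPGroup p P' := P.2.map _
  have hcardN : Nat.card N' = Nat.card N := Subgroup.card_map_of_injective U.subtype_injective
  have hcop : (Nat.card N').Coprime p := hcardN ▸ coprime_card_of_isComplement' hNc
  have hcop' : (Nat.card P').Coprime (Nat.card N') := by
    obtain ⟨k, hk⟩ := IsPGroup.iff_card.1 hP'p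
    rw [hk]
    exact hcop.symm.pow_left k
  have hPN : P' ≤ Subgroup.normalizer (N' : Set G) := by
    rintro _ ⟨z, -, rfl⟩
    exact Subgroup.le_normalizer_map (H := N) U.subtype
      ⟨z, by rw [Subgroup.normalizer_eq_top_iff.2 hNn]; trivial, rfl⟩
  haveI : Group.IsNilpotent P' := hP'p.isNilpotent
  -- the complement is centralised
  have hcen : N' ≤ Subgroup.centralizer (P' : Set G) := by
    suffices h : Nat.card N' ∣ Nat.card (N' ⊓ Subgroup.centralizer (P' : Set G) : Subgroup G) by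
      exact inf_eq_left.1 (Subgroup.eq_of_le_of_card_ge inf_le_left (Nat.le_of_dvd Nat.card_pos h))
    refine (Nat.dvd_iff_prime_pow_dvd_dvd _ _).2 fun r k hr hrk => ?_
    haveI : Fact r.Prime := ⟨hr⟩
    obtain ⟨R, hR, hRn⟩ := Cfsg.Agent.Solv.exists_invariant_sylow hPN hcop' (Or.inl inferInstance) r
    refine (pow_dvd_pow r ((hr.pow_dvd_iff_le_factorization Nat.card_pos.ne').1 hrk)).trans
      (hR.2 ▸ Subgroup.card_dvd_of_le (le_inf hR.1 fun v hv => ?_))
    refine Subgroup.mem_centralizer_iff.2 fun u hu => ?_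
    by_contra hne'
    have hv1 : v ≠ 1 := fun h => hne' (by rw [h, mul_one, one_mul])
    obtain ⟨j, hj⟩ := IsPGroup.iff_orderOf.1 hR.isPGroup ⟨v, hv⟩
    rw [Subgroup.orderOf_mk] at hj
    have hj0 : j ≠ 0 := fun h => hv1 (orderOf_eq_one_iff.1 (by rw [hj, h, pow_zero]))
    have hrN : r ∣ Nat.card N' :=
      (dvd_pow_self r hj0).trans (hj ▸ Subgroup.orderOf_dvd_natCard N' (hR.1 hv))
    have hrp : r ≠ p := fun h => hr.ne_one (Nat.eq_one_of_dvd_coprimes hcop hrN (h ▸ dvd_rfl))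
    have hRU : R ⊔ P' ≤ U := sup_le (hR.1.trans hN'U) hP'U
    rcases ne_or_eq (R ⊔ P') U with hne | heq
    · obtain ⟨i, hi⟩ := IsPGroup.iff_orderOf.1 hP'p ⟨u, hu⟩
      rw [Subgroup.orderOf_mk] at hi
      exact hne' (hcommV _ hRU hne u (le_sup_right (a := R) hu) v (le_sup_left (b := P') hv) ⟨i, hi⟩
        (hcop.coprime_dvd_left (Subgroup.orderOf_dvd_natCard N' (hR.1 hv))))
    · have hrU : r ∈ σ ∪ τ := hU r hr (hrN.trans (Subgroup.card_dvd_of_le hN'U))
      refine hnot (heq ▸ two_part (σ ∪ τ) H hH.2 (a := r) (b := p) hrU (Or.inl hpσ)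
        (fun a ha b hb hak hbk => (hcom p hp hpσ b hb a ha hbk ?_).symm) R P' hR.isPGroup hP'p hRn)
      obtain ⟨i, hi⟩ := hak
      rw [hi]
      exact Nat.Coprime.pow_left i ((Nat.coprime_primes hr hp).2 hrp)
  have hN'ne : N' ≠ U := fun h => by
    have := hcop
    rw [h] at this
    exact hp.ne_one (Nat.eq_one_of_dvd_coprimes this hpU dvd_rfl)
  obtain ⟨g, hg⟩ := hproper N' hN'U hN'ne
  set V := N'.map (MulAut.conj g).toMonoidHom
  set P1 := P'.map (MulAut.conj g).toMonoidHom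
  have hVH : V ≤ H := by rintro _ ⟨v, hv, rfl⟩; exact hg v hv
  have hP1V : ∀ a ∈ P1, ∀ v ∈ V, a * v = v * a := by
    rintro _ ⟨a, ha, rfl⟩ _ ⟨v, hv, rfl⟩
    rw [← map_mul, ← map_mul]
    exact congrArg _ (Subgroup.mem_centralizer_iff.1 (hcen hv) a ha)
  set S := P1 ⊔ (V ⊓ Hs) with hS
  have hP1p : IsPGroup p P1 := hP'p.map _
  haveI : Group.IsNilpotent P1 := hP1p.isNilpotent
  haveI : Group.IsNilpotent ↥(V ⊓ Hs : Subgroup G) :=
    Group.nilpotent_of_mulEquiv (Subgroup.subgroupOfEquivOfLe (inf_le_right : V ⊓ Hs ≤ Hs))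
  have hcprod : ∀ (a : P1) (b : (V ⊓ Hs : Subgroup G)), Commute (P1.subtype a) ((V ⊓ Hs).subtype b) :=
    fun a b => hP1V a a.2 b (Subgroup.mem_inf.1 b.2).1
  have hrange : (MonoidHom.noncommCoprod P1.subtype (V ⊓ Hs).subtype hcprod).range = S := by
    rw [MonoidHom.noncommCoprod_range, Subgroup.range_subtype, Subgroup.range_subtype]
  have hSn : Group.IsNilpotent S := by
    haveI := Group.nilpotent_of_surjective _ (MonoidHom.rangeRestrict_surjective
      (MonoidHom.noncommCoprod P1.subtype (V ⊓ Hs).subtype hcprod))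
    exact Group.nilpotent_of_mulEquiv (MulEquiv.subgroupCongr hrange)
  set T := V ⊓ Ht
  have hSC : S ≤ Subgroup.centralizer (T : Set G) := sup_le
    (fun a ha => Subgroup.mem_centralizer_iff.2 fun t ht' => (hP1V a ha t (Subgroup.mem_inf.1 ht').1).symm)
    fun a ha => Subgroup.mem_centralizer_iff.2 fun t ht' =>
      (hcomm a (Subgroup.mem_inf.1 ha).2 t (Subgroup.mem_inf.1 ht').2).symm
  have hHsC : Hs ≤ Subgroup.centralizer (T : Set G) := fun a ha =>
    Subgroup.mem_centralizer_iff.2 fun t ht' => (hcomm a ha t (Subgroup.mem_inf.1 ht').2).symm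
  obtain ⟨c, hc, hcS⟩ := nilpotent_conj _ S _ Hs rfl hSC hHsC hsn hSn fun q hq hqS => by
    refine hidxs q hq ?_
    have h1 : Nat.card S ∣ Nat.card (P1 × (V ⊓ Hs : Subgroup G)) :=
      hrange ▸ Subgroup.card_range_dvd _
    rw [Nat.card_prod] at h1
    rcases hq.dvd_mul.1 (hqS.trans h1) with h2 | h2
    · obtain ⟨k, hk⟩ := IsPGroup.iff_card.1 hP1p
      rw [hk] at h2
      exact ((Nat.prime_dvd_prime_iff_eq hq hp).1 (hq.dvd_of_dvd_pow h2)).symm ▸ hpσ
    · exact hs q hq (h2.trans (Subgroup.card_dvd_of_le inf_le_right))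
  refine hnot ⟨c * g, fun u hu => ?_⟩
  obtain ⟨v, hv, a, ha, e⟩ := Subgroup.mem_sup_of_normal_left.1 (hNc.sup_eq_top.ge (Subgroup.mem_top (⟨u, hu⟩ : U)))
  have hu' : u = (v : G) * (a : G) := (congrArg Subtype.val e).symm
  have hvV : g * (v : G) * g⁻¹ ∈ V := ⟨v, ⟨v, hv, rfl⟩, rfl⟩
  obtain ⟨s, hs1, t, ht1, hst, hsz, htz, -, -⟩ := hsplit _ (hVH hvV)
  have hzV : Subgroup.zpowers (g * (v : G) * g⁻¹) ≤ V := Subgroup.zpowers_le.2 hvV
  have htT : t ∈ T := Subgroup.mem_inf.2 ⟨hzV htz, ht1⟩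
  have haP : g * (a : G) * g⁻¹ ∈ S := le_sup_left (b := V ⊓ Hs) ⟨a, ⟨a, ha, rfl⟩, rfl⟩
  have hsS : s ∈ S := le_sup_right (a := P1) (Subgroup.mem_inf.2 ⟨hzV hsz, hs1⟩)
  have e1 : c * g * u * (c * g)⁻¹ = (c * s * c⁻¹) * (c * t * c⁻¹) * (c * (g * (a : G) * g⁻¹) * c⁻¹) := by
    rw [hu']
    calc c * g * ((v : G) * a) * (c * g)⁻¹ = (c * (g * (v : G) * g⁻¹) * c⁻¹) * (c * (g * (a : G) * g⁻¹) * c⁻¹) := by group
      _ = _ := by rw [hst]; group
  rw [e1]
  refine H.mul_mem (H.mul_mem (hHs (hcS s hsS)) ?_) (hHs (hcS _ haP))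
  rw [← Subgroup.mem_centralizer_iff.1 hc t htT, mul_inv_cancel_right]
  exact hHt ht1

/-- Let σ and τ be disjoint sets of primes with union π. Suppose a finite group G has a Hall π-subgroup H which is the direct product of a nilpotent σ-subgroup and a τ-subgroup (two elementwise-commuting subgroups generating H), and that the maximal τ-subgroups of G are pairwise conjugate. Then the maximal π-subgroups of G are pairwise conjugate. -/
theorem result {G : Type*} [Group G] [Finite G]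
    (σ τ π : Set ℕ) (hπ : π = σ ∪ τ) (hd : Disjoint σ τ) (H Hs Ht : Subgroup G) (hH : Cfsg.IsPiHall π H)
    (hs : Cfsg.IsPiSubgroup σ Hs) (ht : Cfsg.IsPiSubgroup τ Ht) (hsn : Group.IsNilpotent Hs)
    (hjoin : Hs ⊔ Ht = H) (hcomm : ∀ a ∈ Hs, ∀ b ∈ Ht, a * b = b * a) (hD : Cfsg.IsDPiGroup τ G) :
    Cfsg.IsDPiGroup π G := by
  subst hπ
  intro A B hA hB
  obtain ⟨g, hg⟩ := into σ τ hd H Hs Ht hH hs ht hsn hjoin hcomm hD _ A rfl hA.1
  obtain ⟨g', hg'⟩ := into σ τ hd H Hs Ht hH hs ht hsn hjoin hcomm hD _ B rfl hB.1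
  have e1 := eq_conj_of_maximal hH.1 hA hg
  have e2 := eq_conj_of_maximal hH.1 hB hg'
  refine ⟨g'⁻¹ * g, ?_⟩
  rw [e2, e1, Subgroup.map_map]
  congr 1
  ext x
  show g'⁻¹ * x * (g'⁻¹)⁻¹ = (g'⁻¹ * g) * (g⁻¹ * x * (g⁻¹)⁻¹) * (g'⁻¹ * g)⁻¹
  group

end Cfsg.Agent.S4334
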