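import Cfsg.Statements.S4337
import Mathlib
import Cfsg.Agent.Lib.Char.Burnside

set_option autoImplicit false
open Cfsg

namespace Cfsg.Agent.S4337


theorem labels {r : ℕ} (L : List (Equiv.Perm (Fin r))) (hL : ∀ t ∈ L, t.IsSwap) :
    ∃ c : Fin r → Fin r, (∀ t ∈ L, ∀ x, c (t x) = c x) ∧ r ≤ (Set.range c).ncard + L.length := by
  classical
  induction L with
  | nil => exact ⟨id, by simp, by simp⟩
  | cons t L ih =>
    obtain ⟨c, hc, hcard⟩ := ih fun u hu => hL u (List.mem_cons_of_mem _ hu)
    obtain ⟨a, b, hab, ht⟩ := hL t (List.mem_cons_self ..)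
    let f : Fin r → Fin r := fun y => if y = c a then c b else y
    refine ⟨f ∘ c, ?_, ?_⟩
    · intro u hu x
      rcases List.mem_cons.1 hu with rfl | hu
      · subst ht
        rcases eq_or_ne x a with rfl | hxa
        · simp [f]
        rcases eq_or_ne x b with rfl | hxb
        · simp [f]
        · simp [Equiv.swap_apply_of_ne_of_ne hxa hxb]
      · simp [hc u hu x]
    · have hsub : Set.range c ⊆ insert (c a) (Set.range (f ∘ c)) := by
        rintro _ ⟨x, rfl⟩
        by_cases hx : c x = c a
        · exact Or.inl hx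
        · exact Or.inr ⟨x, by simp [f, hx]⟩
      have := Set.ncard_le_ncard hsub
      have h2 := Set.ncard_insert_le (c a) (Set.range (f ∘ c))
      rw [List.length_cons]
      omega


/-- In a finite symmetric group, any three transpositions generate a solvable subgroup. -/
theorem result (n : ℕ) (a b c : Equiv.Perm (Fin n))
    (ha : a.IsSwap) (hb : b.IsSwap) (hc : c.IsSwap) :
    Group.IsSolvable (Subgroup.closure ({a, b, c} : Set (Equiv.Perm (Fin n)))) := by
  classical
  obtain ⟨col, hcol, hcard⟩ := labels [a, b, c] (by simp [ha, hb, hc])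
  refine Cfsg.Agent.Char.isSolvable_of_two_primes Nat.prime_two Nat.prime_three _ rfl fun q hq hqd => ?_
  by_contra hne
  push Not at hne
  haveI : Fact q.Prime := ⟨hq⟩
  obtain ⟨g, hg⟩ := exists_prime_orderOf_dvd_card' (G := Subgroup.closure ({a, b, c} : Set (Equiv.Perm (Fin n)))) q hqd
  set σ : Equiv.Perm (Fin n) := (g : Equiv.Perm (Fin n)) with hσ
  have hσq : orderOf σ = q := by rw [hσ, Subgroup.orderOf_coe]; exact hg
  have hinv : ∀ u ∈ Subgroup.closure ({a, b, c} : Set (Equiv.Perm (Fin n))), ∀ x, col (u x) = col x := by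
    intro u hu
    induction hu using Subgroup.closure_induction with
    | mem u hu => exact hcol u (by simpa using hu)
    | one => intro x; rfl
    | mul u v _ _ hu hv => intro x; rw [Equiv.Perm.mul_apply, hu, hv]
    | inv u _ hu => intro x; exact (hu _).symm.trans (congrArg col (u.apply_symm_apply x))
  obtain ⟨x, hx⟩ : ∃ x, σ x ≠ x := by
    by_contra hall
    push Not at hall
    rw [show σ = 1 from Equiv.ext hall, orderOf_one] at hσq
    exact hq.ne_one hσq.symm
  -- the orbit of x has q elements in one fibre
  have hinj : Function.Injective (fun i : Fin q => (σ ^ (i : ℕ)) x) := by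
    intro i j e
    by_contra hij
    wlog hlt : (i : ℕ) < j generalizing i j
    · exact this e.symm (Ne.symm hij) (lt_of_le_of_ne (not_lt.1 hlt) (fun h => hij (Fin.ext h.symm)))
    obtain ⟨d, hd⟩ := Nat.exists_eq_add_of_lt hlt
    have h1 : (σ ^ (d + 1)) x = x := by
      have e' : (σ ^ (i : ℕ)) ((σ ^ (d + 1)) x) = (σ ^ (i : ℕ)) x := by
        rw [← Equiv.Perm.mul_apply, ← pow_add, show (i : ℕ) + (d + 1) = j by omega]; exact e.symm
      exact (σ ^ (i : ℕ)).injective e'
    have hco : (d + 1).Coprime q :=
      (hq.coprime_iff_not_dvd.2 (fun h => by have := Nat.le_of_dvd (by omega) h; have := j.isLt; omega)).symm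
    obtain ⟨m, hm⟩ := exists_pow_eq_self_of_coprime (x := σ) (n := d + 1) (by rw [hσq]; exact hco)
    apply hx
    have key : ∀ k : ℕ, ((σ ^ (d + 1)) ^ k) x = x := by
      intro k
      induction k with
      | zero => rfl
      | succ k ih => rw [pow_succ, Equiv.Perm.mul_apply, h1, ih]
    conv_lhs => rw [← hm]
    exact key m
  have hfib : q ≤ {y | col y = col x}.ncard := by
    have hsub : Set.range (fun i : Fin q => (σ ^ (i : ℕ)) x) ⊆ {y | col y = col x} := by
      rintro _ ⟨i, rfl⟩
      exact hinv _ (Subgroup.pow_mem _ g.2 _) x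
    have := Set.ncard_le_ncard hsub
    rwa [Set.ncard_range_of_injective hinj, Nat.card_fin] at this
  have hrange : (Set.range col).ncard + {y | col y = col x}.ncard ≤ n + 1 := by
    have hsub : Set.range col ⊆ insert (col x) (col '' {y | col y ≠ col x}) := by
      rintro _ ⟨y, rfl⟩
      by_cases hy : col y = col x
      · exact Or.inl hy
      · exact Or.inr ⟨y, hy, rfl⟩
    have h1 := Set.ncard_le_ncard hsub
    have h2 := Set.ncard_insert_le (col x) (col '' {y | col y ≠ col x})
    have h3 : (col '' {y | col y ≠ col x}).ncard ≤ {y | col y ≠ col x}.ncard := Set.ncard_image_le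
    have h4 := Set.ncard_add_ncard_compl {y | col y = col x}
    rw [Nat.card_fin, show {y | col y = col x}ᶜ = {y | col y ≠ col x} from rfl] at h4
    omega
  simp only [List.length_cons, List.length_nil] at hcard
  rcases le_or_gt q 4 with h | h
  · interval_cases q <;> first | omega | exact absurd hq (by norm_num)
  · omega

end Cfsg.Agent.S4337
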