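import Cfsg.Statements.S4341
import Mathlib

set_option autoImplicit false
open Cfsg

namespace Cfsg.Agent.S4341


open scoped Pointwise

theorem count_split {G : Type*} [Group G] [Finite G] {p : ℕ} [Fact p.Prime] (P : Sylow p G)
    (K : Subgroup G) [K.Normal] :
    Nat.card (Sylow p G) = Nat.card (Sylow p (G ⧸ K)) *
      (Subgroup.normalizer ((P : Subgroup G) : Set G)).relIndex ((P : Subgroup G) ⊔ K) := by
  set π := QuotientGroup.mk' K
  have hπs : Function.Surjective π := QuotientGroup.mk'_surjective K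
  set M := Subgroup.normalizer ((((P : Subgroup G) ⊔ K : Subgroup G)) : Set G) with hM
  set NP := Subgroup.normalizer ((P : Subgroup G) : Set G) with hNP
  have hNM : NP ≤ M := fun g hg => by
    rw [hNP, Subgroup.mem_normalizer_iff] at hg
    rw [hM, Subgroup.mem_normalizer_iff]
    intro z
    have key : ∀ g : G, (∀ u, u ∈ (P : Subgroup G) → g * u * g⁻¹ ∈ (P : Subgroup G)) → ∀ z ∈ (P : Subgroup G) ⊔ K, g * z * g⁻¹ ∈ (P : Subgroup G) ⊔ K := by
      intro g hg z hz
      rw [← SetLike.mem_coe, Subgroup.mul_normal] at hz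
      obtain ⟨u, hu, k, hk, rfl⟩ := Set.mem_mul.1 hz
      rw [show g * (u * k) * g⁻¹ = (g * u * g⁻¹) * (g * k * g⁻¹) by group]
      exact Subgroup.mul_mem _ (Subgroup.mem_sup_left (hg u hu)) (Subgroup.mem_sup_right (Subgroup.Normal.conj_mem inferInstance k hk g))
    refine ⟨key g (fun u hu => (hg u).1 hu) z, fun hz => ?_⟩
    have h := key g⁻¹ (fun u hu => (hg _).2 (by simpa [mul_assoc] using hu)) _ hz
    simpa [mul_assoc] using h
  have hPKM : (P : Subgroup G) ⊔ K ≤ M := Subgroup.le_normalizer
  have hq : Nat.card (Sylow p (G ⧸ K)) = M.index := by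
    rw [Sylow.card_eq_index_normalizer (P.mapSurjective hπs)]
    show (Subgroup.normalizer (((P.mapSurjective hπs : Sylow p (G ⧸ K)) : Subgroup (G ⧸ K)) : Set (G ⧸ K))).index = _
    rw [← Subgroup.index_comap_of_surjective _ hπs, Subgroup.comap_normalizer_eq_of_surjective _ hπs]
    congr 2
    rw [Sylow.coe_mapSurjective, Subgroup.comap_map_eq, QuotientGroup.ker_mk']
  have hrel : NP.relIndex M = NP.relIndex ((P : Subgroup G) ⊔ K) := by
    -- Frattini: M = (PK) N(P)
    have hfr : ∀ g ∈ M, ∃ a ∈ (P : Subgroup G) ⊔ K, a⁻¹ * g ∈ NP := by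
      intro g hg
      have hle : ((g • P : Sylow p G) : Subgroup G) ≤ (P : Subgroup G) ⊔ K := by
        rw [Sylow.coe_subgroup_smul]
        intro u hu
        rw [Subgroup.mem_pointwise_smul_iff_inv_smul_mem] at hu
        simp only [MulAut.smul_def, MulAut.conj_inv_apply] at hu
        have := (Subgroup.mem_normalizer_iff.1 hg _).1 (Subgroup.mem_sup_left (T := K) hu)
        simpa [mul_assoc] using this
      obtain ⟨d, hd⟩ := MulAction.exists_smul_eq ↥((P : Subgroup G) ⊔ K) (P.subtype le_sup_left) ((g • P).subtype hle)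
      refine ⟨d, d.2, ?_⟩
      rw [Sylow.smul_subtype] at hd
      have e := Sylow.subtype_injective hd
      rw [hNP]
      refine Sylow.smul_eq_iff_mem_normalizer.1 ?_
      rw [mul_smul, ← e, Subgroup.smul_def, inv_smul_smul]
    rw [Subgroup.relIndex, Subgroup.relIndex, Subgroup.index_eq_card, Subgroup.index_eq_card]
    refine (Nat.card_eq_of_bijective
      (Quotient.map' (fun a : ↥((P : Subgroup G) ⊔ K) => (⟨(a : G), hPKM a.2⟩ : M)) fun a b h => by
        rw [QuotientGroup.leftRel_apply] at h ⊢
        exact h) ⟨?_, ?_⟩).symm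
    · intro u v
      induction u using Quotient.inductionOn' with | _ a
      induction v using Quotient.inductionOn' with | _ b
      intro h
      rw [Quotient.map'_mk'', Quotient.map'_mk''] at h
      exact QuotientGroup.eq.2 (QuotientGroup.eq.1 h : _)
    · intro u
      induction u using Quotient.inductionOn' with | _ g
      obtain ⟨a, ha, hag⟩ := hfr g g.2
      exact ⟨Quotient.mk'' ⟨a, ha⟩, QuotientGroup.eq.2 hag⟩
  rw [Sylow.card_eq_index_normalizer P, hq, ← hrel, mul_comm]
  exact (Subgroup.relIndex_mul_index hNM).symm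

theorem card_sylow_quotient_normal_p {G : Type*} [Group G] [Finite G] {p : ℕ} [Fact p.Prime]
    (D : Subgroup G) [D.Normal] (hD : IsPGroup p D) :
    Nat.card (Sylow p (G ⧸ D)) = Nat.card (Sylow p G) := by
  refine (Nat.card_eq_of_bijective (Sylow.mapSurjective (QuotientGroup.mk'_surjective D)) ⟨fun A B h => ?_,
    Sylow.mapSurjective_surjective _ p⟩).symm
  have h' := congrArg (fun S : Sylow p (G ⧸ D) => (S : Subgroup (G ⧸ D)).comap (QuotientGroup.mk' D)) h
  simp only [Sylow.coe_mapSurjective, Subgroup.comap_map_eq, QuotientGroup.ker_mk'] at h'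
  rw [sup_eq_left.2 (hD.le_sylow_of_normal A), sup_eq_left.2 (hD.le_sylow_of_normal B)] at h'
  exact Sylow.ext h'


/-- Let K be a normal subgroup of a finite group G, p a prime and P a Sylow p-subgroup of G; let N be the normalizer of P ∩ K inside the subgroup PK. Then the number of Sylow p-subgroups of G equals the product of the numbers of Sylow p-subgroups of G/K, of K, and of N/(P ∩ K). (The normality of P ∩ K in N, which always holds, is assumed as a hypothesis so that the quotient can be formed.) -/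
theorem result {G : Type*} [Group G] [Finite G]
    (p : ℕ) [Fact p.Prime] (K : Subgroup G) [K.Normal] (P : Sylow p G) (N : Subgroup G)
    (hN : N = ((P : Subgroup G) ⊔ K) ⊓ Subgroup.normalizer (((P : Subgroup G) ⊓ K : Subgroup G) : Set G))
    [hn : (((P : Subgroup G) ⊓ K).subgroupOf N).Normal] :
    Nat.card (Sylow p G) =
      Nat.card (Sylow p (G ⧸ K)) * Nat.card (Sylow p K) * Nat.card (Sylow p (N ⧸ ((P : Subgroup G) ⊓ K).subgroupOf N)) := by
  classical
  set NP := Subgroup.normalizer ((P : Subgroup G) : Set G) with hNP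
  set X := (P : Subgroup G) ⊔ K with hX
  set D := (P : Subgroup G) ⊓ K with hD
  have hPN : (P : Subgroup G) ≤ N := by
    rw [hN]
    refine le_inf le_sup_left fun u hu => ?_
    rw [Subgroup.mem_normalizer_iff]
    intro z
    constructor
    · rintro ⟨h1, h2⟩
      exact ⟨(P : Subgroup G).mul_mem ((P : Subgroup G).mul_mem hu h1) ((P : Subgroup G).inv_mem hu), Subgroup.Normal.conj_mem inferInstance z h2 u⟩
    · rintro ⟨h1, h2⟩
      have a1 := (P : Subgroup G).mul_mem ((P : Subgroup G).mul_mem ((P : Subgroup G).inv_mem hu) h1) hu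
      have a2 := Subgroup.Normal.conj_mem (inferInstance : K.Normal) _ h2 u⁻¹
      refine ⟨?_, ?_⟩
      · rwa [show u⁻¹ * (u * z * u⁻¹) * u = z by group] at a1
      · have : u⁻¹ * (u * z * u⁻¹) * u⁻¹⁻¹ = z := by group
        rwa [this] at a2
  have hNX : N ≤ X := hN ▸ inf_le_left
  have hNPX : NP ⊓ X ≤ N := by
    rw [hN]
    refine le_inf inf_le_right fun u hu => ?_
    have h := Subgroup.mem_normalizer_iff.1 hu.1
    rw [Subgroup.mem_normalizer_iff]
    intro z
    refine ⟨fun hz => ⟨(h z).1 hz.1, Subgroup.Normal.conj_mem inferInstance z hz.2 u⟩, fun hz => ⟨(h z).2 hz.1, ?_⟩⟩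
    have := Subgroup.Normal.conj_mem (inferInstance : K.Normal) _ hz.2 u⁻¹
    simpa [mul_assoc] using this
  rw [count_split P K, mul_assoc]
  congr 1
  have hsplit : NP.relIndex X = N.relIndex X * NP.relIndex N := by
    rw [← Subgroup.inf_relIndex_right, ← Subgroup.relIndex_mul_relIndex (NP ⊓ X) N X hNPX hNX, mul_comm]
    congr 1
    rw [← Subgroup.inf_relIndex_right (NP ⊓ X) N, inf_assoc, inf_eq_right.2 hNX, Subgroup.inf_relIndex_right]
  have hQs : Nat.card (Sylow p K) = N.relIndex X := by
    -- P ⊓ K is a Sylow subgroup of K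
    obtain ⟨Q⟩ := (inferInstance : Nonempty (Sylow p K))
    obtain ⟨R, hR⟩ := (Q.2.map K.subtype).exists_le_sylow
    obtain ⟨c, hc⟩ := MulAction.exists_smul_eq G R P
    have hK' : IsPGroup p ↥((P : Subgroup G).subgroupOf K) := P.2.comap_of_injective K.subtype K.subtype_injective
    obtain ⟨Q', hQ'⟩ := hK'.exists_le_sylow
    have hQ'eq : (P : Subgroup G).subgroupOf K = Q' := by
      refine Subgroup.eq_of_le_of_card_ge hQ' ?_
      rw [Q'.card_eq_multiplicity, ← Q.card_eq_multiplicity,
        ← Subgroup.card_map_of_injective K.subtype_injective (K := (Q : Subgroup K))]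
      refine Nat.card_le_card_of_injective (fun z => ⟨⟨c * z.1 * c⁻¹, Subgroup.Normal.conj_mem inferInstance _ (Subgroup.map_subtype_le _ z.2) c⟩, ?_⟩) ?_
      · show c * z.1 * c⁻¹ ∈ (P : Subgroup G)
        rw [← hc, Sylow.coe_subgroup_smul]
        exact ⟨z.1, hR z.2, rfl⟩
      · intro u v e
        have := congrArg (fun w : (P : Subgroup G).subgroupOf K => ((w : K) : G)) e
        exact Subtype.ext (by simpa using this)
    rw [Sylow.card_eq_index_normalizer Q']
    show (Subgroup.normalizer ((Q' : Subgroup K) : Set K)).index = _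
    rw [← hQ'eq, ← Subgroup.inf_subgroupOf_right, ← Subgroup.subgroupOf_normalizer_eq inf_le_right]
    -- N_K(D) inside K, and X = K N
    show (Subgroup.normalizer ((D : Subgroup G) : Set G)).relIndex K = _
    rw [hN, Subgroup.inf_relIndex_left]
    have hDn : (P : Subgroup G) ≤ Subgroup.normalizer ((D : Subgroup G) : Set G) := hPN.trans (hN ▸ inf_le_right)
    rw [hX, sup_comm, Subgroup.relIndex, Subgroup.relIndex, Subgroup.index_eq_card, Subgroup.index_eq_card]
    refine Nat.card_eq_of_bijective
      (Quotient.map' (fun a : K => (⟨(a : G), Subgroup.mem_sup_left a.2⟩ : ↥(K ⊔ (P : Subgroup G)))) fun a b h => by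
        rw [QuotientGroup.leftRel_apply] at h ⊢
        exact h) ⟨?_, ?_⟩
    · intro u v
      induction u using Quotient.inductionOn' with | _ a
      induction v using Quotient.inductionOn' with | _ b
      intro h
      rw [Quotient.map'_mk'', Quotient.map'_mk''] at h
      exact QuotientGroup.eq.2 (QuotientGroup.eq.1 h : _)
    · intro u
      induction u using Quotient.inductionOn' with | _ g
      obtain ⟨⟨g, hg⟩⟩ : Nonempty {z : ↥(K ⊔ (P : Subgroup G)) // z = g} := ⟨⟨g, rfl⟩⟩
      have hg' : (g : G) ∈ ((K ⊔ (P : Subgroup G) : Subgroup G) : Set G) := g.2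
      rw [Subgroup.normal_mul] at hg'
      obtain ⟨k, hk, u, hu, hku⟩ := Set.mem_mul.1 hg'
      subst hg
      refine ⟨Quotient.mk'' ⟨k, hk⟩, QuotientGroup.eq.2 ?_⟩
      show k⁻¹ * (g : G) ∈ Subgroup.normalizer ((D : Subgroup G) : Set G)
      rw [← hku, inv_mul_cancel_left]
      exact hDn hu
  rw [hsplit, ← hQs]
  congr 1
  haveI := hn
  rw [card_sylow_quotient_normal_p (D.subgroupOf N) ((P.2.to_le inf_le_left).of_equiv
      (Subgroup.subgroupOfEquivOfLe ((inf_le_left : D ≤ P).trans hPN)).symm),
    Sylow.card_eq_index_normalizer (P.subtype hPN)]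
  show _ = (Subgroup.normalizer (((P.subtype hPN : Sylow p N) : Subgroup N) : Set N)).index
  rw [Sylow.coe_subtype, ← Subgroup.subgroupOf_normalizer_eq hPN]
  rfl

end Cfsg.Agent.S4341
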