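import Cfsg.Statements.S4343
import Mathlib

set_option autoImplicit false
open Cfsg
open scoped Pointwise

namespace Cfsg.Agent.S4343

variable {G : Type*} [Group G] [Finite G] {p : ℕ} [Fact p.Prime]

theorem smul_inf (x : G) (A B : Sylow p G) :
    ((x • A : Sylow p G) : Subgroup G) ⊓ ((x • B : Sylow p G) : Subgroup G) =
      MulAut.conj x • ((A : Subgroup G) ⊓ (B : Subgroup G)) := by
  rw [Sylow.smul_def, Sylow.smul_def, Sylow.pointwise_smul_def, Sylow.pointwise_smul_def, Subgroup.smul_inf]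

theorem mem_stab (A B : Sylow p G) (u : (A : Subgroup G)) : (u : G) • B = B ↔ (u : G) ∈ (B : Subgroup G) := by
  refine ⟨fun h => ?_, fun h => Sylow.smul_eq_iff_mem_normalizer.2 (Subgroup.le_normalizer h)⟩
  have h1 : (u : G) ∈ (A : Subgroup G) ⊓ Subgroup.normalizer (B : Set G) :=
    Subgroup.mem_inf.2 ⟨u.2, Sylow.smul_eq_iff_mem_normalizer.1 h⟩
  rw [A.isPGroup'.inf_normalizer_sylow B] at h1
  exact (Subgroup.mem_inf.1 h1).2

theorem relIndex_inf (hn : Nat.card (Sylow p G) < p ^ 2) {A B : Sylow p G} (hAB : A ≠ B) :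
    ((B : Subgroup G) ⊓ A).relIndex A = p ∧
      Nat.card (MulAction.orbit (A : Subgroup G) B) = p := by
  have hst : MulAction.stabilizer (A : Subgroup G) B = ((B : Subgroup G) ⊓ A).subgroupOf A := by
    ext u
    rw [MulAction.mem_stabilizer_iff, Subgroup.mem_subgroupOf, Subgroup.mem_inf]
    exact (mem_stab A B u).trans ⟨fun h => ⟨h, u.2⟩, fun h => h.1⟩
  have ho : Nat.card (MulAction.orbit (A : Subgroup G) B) = ((B : Subgroup G) ⊓ A).relIndex A := by
    rw [Subgroup.relIndex, ← hst, MulAction.index_stabilizer, Nat.card_coe_set_eq]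
  have hlt : Nat.card (MulAction.orbit (A : Subgroup G) B) < p ^ 2 :=
    lt_of_le_of_lt (Nat.card_le_card_of_injective _ Subtype.val_injective) hn
  obtain ⟨k, hk⟩ := A.isPGroup'.card_orbit B
  have hk1 : k = 1 := by
    have h2 : k < 2 := (Nat.pow_lt_pow_iff_right (Fact.out : p.Prime).one_lt).1 (hk ▸ hlt)
    have h0 : k ≠ 0 := by
      rintro rfl
      rw [ho, pow_zero, Subgroup.relIndex_eq_one] at hk
      exact hAB (Sylow.ext (A.is_maximal' B.isPGroup' (le_trans hk inf_le_left)).symm)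
    omega
  rw [hk1, pow_one] at hk
  exact ⟨ho ▸ hk, hk⟩

theorem card_inf_mul (hn : Nat.card (Sylow p G) < p ^ 2) {A B : Sylow p G} (hAB : A ≠ B) :
    Nat.card ((B : Subgroup G) ⊓ A : Subgroup G) * p = Nat.card (A : Subgroup G) := by
  conv_lhs => arg 2; rw [← (relIndex_inf hn hAB).1]
  rw [← Nat.card_congr (Subgroup.subgroupOfEquivOfLe (inf_le_right : (B : Subgroup G) ⊓ A ≤ A)).toEquiv,
    Subgroup.relIndex, Subgroup.card_mul_index]

/-- The intersection of two distinct Sylow subgroups is normal in each. -/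
theorem conj_inf (hn : Nat.card (Sylow p G) < p ^ 2) {A B : Sylow p G} (hAB : A ≠ B)
    {x : G} (hx : x ∈ (A : Subgroup G)) :
    MulAut.conj x • ((B : Subgroup G) ⊓ A) = (B : Subgroup G) ⊓ A := by
  obtain ⟨a, ha⟩ := IsPGroup.iff_card.1 A.isPGroup'
  have hi := (relIndex_inf hn hAB).1
  have ha0 : a ≠ 0 := by
    rintro rfl
    have h1 := card_inf_mul hn hAB
    rw [ha, pow_zero] at h1
    exact (Fact.out : p.Prime).ne_one (Nat.eq_one_of_mul_eq_one_left h1)
  haveI hN : (((B : Subgroup G) ⊓ A).subgroupOf A).Normal := Subgroup.normal_of_index_eq_minFac_card (by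
    rw [show (((B : Subgroup G) ⊓ A).subgroupOf A).index = p from hi, ha, Nat.pow_minFac ha0,
      (Fact.out : p.Prime).minFac_eq])
  refine Subgroup.eq_of_le_of_card_ge ?_ (le_of_eq (Nat.card_congr (Subgroup.equivSMul (MulAut.conj x) _).toEquiv))
  intro y hy
  rw [Subgroup.mem_pointwise_smul_iff_inv_smul_mem, MulAut.smul_def, MulAut.inv_def, MulAut.conj_symm_apply] at hy
  have hm : x⁻¹ * y * x ∈ (A : Subgroup G) := (Subgroup.mem_inf.1 hy).2
  have := hN.conj_mem ⟨x⁻¹ * y * x, hm⟩ hy ⟨x, hx⟩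
  refine Subgroup.mem_inf.2 ⟨?_, ?_⟩
  · simpa [Subgroup.mem_subgroupOf, mul_assoc] using this
  · simpa [mul_assoc] using mul_mem (mul_mem hx hm) (inv_mem hx)

theorem two_intersections (hn : Nat.card (Sylow p G) < p ^ 2) {P Q₁ Q₂ : Sylow p G} (h1 : P ≠ Q₁) (h2 : P ≠ Q₂)
    (hD : (Q₁ : Subgroup G) ⊓ P ≠ (Q₂ : Subgroup G) ⊓ P) : False := by
  classical
  have hQ : Q₁ ≠ Q₂ := fun h => hD (by rw [h])
  have hcP : ∀ A : Sylow p G, Nat.card (A : Subgroup G) = Nat.card (P : Subgroup G) := fun A => by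
    rw [A.card_eq_multiplicity, P.card_eq_multiplicity]
  have hceq : ∀ A B C D : Sylow p G, A ≠ B → C ≠ D →
      Nat.card ((B : Subgroup G) ⊓ A : Subgroup G) = Nat.card ((D : Subgroup G) ⊓ C : Subgroup G) :=
    fun A B C D hAB hCD => Nat.eq_of_mul_eq_mul_right (Fact.out : p.Prime).pos (by
      rw [card_inf_mul hn hAB, card_inf_mul hn hCD, hcP A, hcP C])
  have hD1le : ¬ (Q₁ : Subgroup G) ⊓ P ≤ Q₂ := fun h => hD (Subgroup.eq_of_le_of_card_ge
    (le_inf h inf_le_right) (hceq P Q₂ P Q₁ h2 h1).le)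
  have hD2le : ¬ (Q₂ : Subgroup G) ⊓ P ≤ Q₁ := fun h => hD (Subgroup.eq_of_le_of_card_ge
    (le_inf h inf_le_right) (hceq P Q₁ P Q₂ h1 h2).le).symm
  obtain ⟨d, hd2, hd1⟩ := SetLike.not_le_iff_exists.1 hD2le
  have hdP : d ∈ (P : Subgroup G) := (Subgroup.mem_inf.1 hd2).2
  have hdQ : d ∈ (Q₂ : Subgroup G) := (Subgroup.mem_inf.1 hd2).1
  have hfixQ : ∀ k : ℕ, d ^ k • Q₂ = Q₂ := fun k =>
    Sylow.smul_eq_iff_mem_normalizer.2 (Subgroup.le_normalizer (pow_mem hdQ k))
  have hfixP : ∀ k : ℕ, d ^ k • P = P := fun k =>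
    Sylow.smul_eq_iff_mem_normalizer.2 (Subgroup.le_normalizer (pow_mem hdP k))
  -- the hyperplanes of Q₂
  let f : Option (Fin p) → Subgroup G := fun o => o.elim ((P : Subgroup G) ⊓ Q₂)
    fun k => ((d ^ (k : ℕ) • Q₁ : Sylow p G) : Subgroup G) ⊓ Q₂
  have hD1 : ∀ k : ℕ, (Q₁ : Subgroup G) ⊓ P ≤ ((d ^ k • Q₁ : Sylow p G) : Subgroup G) := fun k => by
    have e := smul_inf (d ^ k) Q₁ P
    rw [conj_inf hn h1 (pow_mem hdP k), hfixP] at e
    exact e ▸ inf_le_left
  have hdist : ∀ k l : ℕ, k < l → l < p → d ^ k • Q₁ ≠ d ^ l • Q₁ := by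
    intro k l hkl hlp e
    obtain ⟨m, rfl⟩ := Nat.exists_eq_add_of_lt hkl
    rw [show k + m + 1 = k + (m + 1) by omega, pow_add, mul_smul] at e
    have e' := smul_left_cancel _ e
    have hm : d ^ (m + 1) ∈ (Q₁ : Subgroup G) := (mem_stab P Q₁ ⟨d ^ (m + 1), pow_mem hdP _⟩).1 e'.symm
    obtain ⟨a, ha⟩ := IsPGroup.iff_orderOf.1 P.isPGroup' ⟨d, hdP⟩
    have hcop : Nat.Coprime (m + 1) (orderOf d) := by
      rw [show orderOf d = p ^ a from (Subgroup.orderOf_coe (⟨d, hdP⟩ : (P : Subgroup G))).trans ha]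
      exact Nat.Coprime.pow_right a (((Fact.out : p.Prime).coprime_iff_not_dvd.2 fun h =>
        absurd (Nat.le_of_dvd (by omega) h) (by omega)).symm)
    obtain ⟨j, hj⟩ := exists_pow_eq_self_of_coprime hcop
    exact hd1 (hj ▸ pow_mem hm j)
  have hf : Function.Injective f := by
    have hsome : ∀ k : Fin p, f (some k) ≠ f none := by
      intro k e
      apply hD2le
      have h3 : (Q₂ : Subgroup G) ⊓ P ≤ ((d ^ (k : ℕ) • Q₁ : Sylow p G) : Subgroup G) := by
        rw [inf_comm, show (P : Subgroup G) ⊓ Q₂ = f (some k) from e.symm]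
        exact inf_le_left
      have e3 := conj_inf hn h2 (pow_mem hdP (k : ℕ))
      intro y hy
      have hy' : MulAut.conj (d ^ (k : ℕ)) • y ∈ (Q₂ : Subgroup G) ⊓ P := by
        rw [← e3]; exact Subgroup.smul_mem_pointwise_smul y _ _ hy
      have hy'' := h3 hy'
      rw [Sylow.smul_def, Sylow.pointwise_smul_def] at hy''
      exact Subgroup.smul_mem_pointwise_smul_iff.1 hy''
    have hss : ∀ k l : Fin p, (k : ℕ) < l → f (some k) ≠ f (some l) := by
      intro k l hkl e
      set A := d ^ (k : ℕ) • Q₁ with hA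
      set B := d ^ (l : ℕ) • Q₁ with hB
      have hne : B ≠ A := fun h => hdist k l hkl l.2 h.symm
      have hAQ : Q₂ ≠ A := fun h => hQ (smul_left_cancel _ (show d ^ (k : ℕ) • Q₁ = d ^ (k : ℕ) • Q₂ by rw [hfixQ, ← hA, ← h]))
      have h3 : (A : Subgroup G) ⊓ Q₂ = (A : Subgroup G) ⊓ B := by
        refine Subgroup.eq_of_le_of_card_ge (le_inf inf_le_left ?_) (hceq B A Q₂ A hne hAQ).le
        rw [show (A : Subgroup G) ⊓ Q₂ = (B : Subgroup G) ⊓ Q₂ from e]
        exact inf_le_left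
      exact hD1le ((le_inf (hD1 k) (hD1 l)).trans (h3 ▸ inf_le_right))
    rintro (_ | k) (_ | l) h
    · rfl
    · exact (hsome l h.symm).elim
    · exact (hsome k h).elim
    · rcases lt_trichotomy (k : ℕ) (l : ℕ) with h' | h' | h'
      · exact (hss k l h' h).elim
      · exact congrArg some (Fin.ext h')
      · exact (hss l k h' h.symm).elim
  haveI := Fintype.ofFinite (Sylow p G)
  let T : Option (Fin p) → Finset (Sylow p G) := fun o =>
    (Finset.univ.erase Q₂).filter fun R => (R : Subgroup G) ⊓ Q₂ = f o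
  have hbig : ∀ o, p ≤ (T o).card := by
    intro o
    obtain ⟨R, hR, hRf⟩ : ∃ R : Sylow p G, Q₂ ≠ R ∧ (R : Subgroup G) ⊓ Q₂ = f o := by
      cases o with
      | none => exact ⟨P, h2.symm, rfl⟩
      | some k =>
        refine ⟨d ^ (k : ℕ) • Q₁, fun h => hQ (smul_left_cancel (d ^ (k : ℕ)) ?_), rfl⟩
        rw [hfixQ]; exact h.symm
    conv_lhs => rw [← (relIndex_inf hn hR).2]
    rw [Nat.card_coe_set_eq, Set.ncard_eq_toFinset_card']
    refine Finset.card_le_card fun S hS => ?_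
    obtain ⟨⟨x, hx⟩, rfl⟩ := Set.mem_toFinset.1 hS
    have hxQ : x • Q₂ = Q₂ := Sylow.smul_eq_iff_mem_normalizer.2 (Subgroup.le_normalizer hx)
    refine Finset.mem_filter.2 ⟨Finset.mem_erase.2 ⟨fun h => hR (smul_left_cancel x (hxQ.trans h.symm)), Finset.mem_univ _⟩, ?_⟩
    show ((x • R : Sylow p G) : Subgroup G) ⊓ Q₂ = f o
    conv_lhs => rw [← hxQ]
    rw [smul_inf, conj_inf hn hR hx, hRf]
  have hdisj : ((Finset.univ : Finset (Option (Fin p))) : Set (Option (Fin p))).PairwiseDisjoint T := by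
    intro o _ o' _ hoo
    refine Finset.disjoint_left.2 fun R hR hR' => hoo (hf ?_)
    rw [← (Finset.mem_filter.1 hR).2, (Finset.mem_filter.1 hR').2]
  have hle : ((Finset.univ : Finset (Option (Fin p))).biUnion T).card ≤ (Finset.univ.erase Q₂).card :=
    Finset.card_le_card (Finset.biUnion_subset.2 fun o _ => Finset.filter_subset _ _)
  rw [Finset.card_biUnion hdisj, Finset.card_erase_of_mem (Finset.mem_univ _), Finset.card_univ,
    ← Nat.card_eq_fintype_card] at hle
  have := Finset.sum_le_sum (s := (Finset.univ : Finset (Option (Fin p)))) fun o _ => hbig o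
  simp only [Finset.sum_const, Finset.card_univ, Fintype.card_option, Fintype.card_fin, smul_eq_mul] at this
  have h3 : (p + 1) * p ≤ Nat.card (Sylow p G) - 1 := this.trans hle
  rw [add_mul, one_mul, ← pow_two] at h3
  omega

/-- Let S be a finite non-abelian simple group and p a prime dividing its order. If S has fewer than p² Sylow p-subgroups, then its Sylow p-subgroups have order p. -/
theorem result {S : Type*} [Group S] [Finite S]
    [IsSimpleGroup S] (hS : ¬ IsMulCommutative S) (p : ℕ) [Fact p.Prime] (hp : p ∣ Nat.card S)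
    (hn : Nat.card (Sylow p S) < p ^ 2) (P : Sylow p S) : Nat.card P = p := by
  classical
  have hcore : ∀ D : Subgroup S, D.Normal → D ≤ P → D = ⊥ := fun D hD hDP => by
    rcases hD.eq_bot_or_eq_top with h | h
    · exact h
    · exfalso
      have hP : (P : Subgroup S) = ⊤ := top_le_iff.1 (h ▸ hDP)
      haveI : Nontrivial S := IsSimpleGroup.toNontrivial
      have hSp : IsPGroup p S := by
        have := P.isPGroup'
        rw [hP] at this
        exact this.of_equiv Subgroup.topEquiv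
      haveI := hSp.center_nontrivial
      rcases (inferInstance : (Subgroup.center S).Normal).eq_bot_or_eq_top with h' | h'
      · exact (Subgroup.nontrivial_iff_ne_bot _).1 this h'
      · exact hS ⟨⟨fun x y => (Subgroup.mem_center_iff.1 (h' ▸ Subgroup.mem_top y) x)⟩⟩
  obtain ⟨Q₁, hQ₁⟩ : ∃ Q : Sylow p S, P ≠ Q := by
    by_contra h
    push Not at h
    have hPn : (P : Subgroup S).Normal := Subgroup.normalizer_eq_top_iff.1 (eq_top_iff.2 fun g _ =>
      Sylow.smul_eq_iff_mem_normalizer.1 (h (g • P)).symm)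
    exact P.ne_bot_of_dvd_card hp (hcore _ hPn le_rfl)
  have hall : ∀ Q : Sylow p S, P ≠ Q → (Q : Subgroup S) ⊓ P = (Q₁ : Subgroup S) ⊓ P := fun Q hQ => by
    by_contra h
    exact two_intersections hn hQ hQ₁ h
  set D := (Q₁ : Subgroup S) ⊓ P with hD
  have hDall : ∀ Q : Sylow p S, D ≤ Q := fun Q => by
    rcases eq_or_ne P Q with rfl | hQ
    · exact inf_le_right
    · rw [← hall Q hQ]; exact inf_le_left
  have hcl : Subgroup.normalClosure (D : Set S) ≤ P := by
    refine (Subgroup.closure_le _).2 fun y hy => ?_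
    obtain ⟨x, hx, hxy⟩ := Group.mem_conjugatesOfSet_iff.1 hy
    obtain ⟨g, hg⟩ := isConj_iff.1 hxy
    have h1 : x ∈ ((g⁻¹ • P : Sylow p S) : Subgroup S) := hDall _ hx
    rw [Sylow.smul_def, Sylow.pointwise_smul_def, Subgroup.mem_pointwise_smul_iff_inv_smul_mem,
      MulAut.smul_def, map_inv, inv_inv, MulAut.conj_apply] at h1
    rw [← hg]; exact h1
  have hDb : D = ⊥ := le_bot_iff.1 ((Subgroup.le_normalClosure (H := D)).trans_eq
    (hcore (Subgroup.normalClosure (D : Set S)) Subgroup.normalClosure_normal hcl))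
  have := card_inf_mul hn hQ₁
  rw [← hD, hDb, Subgroup.card_bot, one_mul] at this
  exact this.symm

end Cfsg.Agent.S4343
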