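import Cfsg.Statements.S4339
import Cfsg.Agent.S4341
import Cfsg.Agent.S4343
import Cfsg.Agent.Lib.Solv.BrauerReynoldsIdent
import Cfsg.Agent.Lib.Solv.BrauerReynoldsReduce
import Cfsg.Agent.Lib.Solv.Coprime
import Cfsg.Agent.Lib.Solv.PSolvExtension
import Cfsg.Agent.Lib.Solv.PSolvHall

set_option autoImplicit false
open Cfsg

namespace Cfsg.Agent.S4339

universe u

section Count

variable {G : Type*} [Group G] [Finite G] {p : ℕ} [Fact p.Prime]

theorem relIndex_sup_coprime {P K : Subgroup G} (hPK : P ≤ Subgroup.normalizer (K : Set G))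
    (hco : (Nat.card P).Coprime (Nat.card K)) :
    (Subgroup.normalizer (P : Set G)).relIndex (K ⊔ P) *
      Nat.card ↥(K ⊓ Subgroup.centralizer (P : Set G)) = Nat.card K := by
  set NP := Subgroup.normalizer (P : Set G)
  have hbot : K ⊓ P = ⊥ := Solv.coprime_inf hco.symm
  have hC : K ⊓ Subgroup.centralizer (P : Set G) = K ⊓ NP := by
    refine le_antisymm (fun x hx => ⟨hx.1, ?_⟩) fun x hx => ⟨hx.1,
      Solv.centralizer_of_normalizes hPK hbot hx.1 hx.2⟩
    show x ∈ Subgroup.normalizer (P : Set G)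
    rw [Subgroup.mem_normalizer_iff]
    intro y
    have hcomm : ∀ z ∈ P, x * z * x⁻¹ = z := fun z hz => by
      rw [← Subgroup.mem_centralizer_iff.mp hx.2 z hz, mul_inv_cancel_right]
    refine ⟨fun hy => (hcomm y hy).symm ▸ hy, fun hy => ?_⟩
    have h1 := hcomm _ hy
    have h2 : x * y * x⁻¹ = y := by
      have := congrArg (fun w => x⁻¹ * w * x) h1
      simpa [mul_assoc] using this
    exact h2 ▸ hy
  rw [hC]
  have hKR : NP ⊓ (K ⊔ P) = (K ⊓ NP) ⊔ P := by
    refine le_antisymm (fun x hx => ?_) (sup_le (le_inf inf_le_right (inf_le_left.trans le_sup_left))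
      (le_inf Subgroup.le_normalizer le_sup_right))
    have hx2 : x ∈ ((K ⊔ P : Subgroup G) : Set G) := hx.2
    rw [Subgroup.coe_mul_of_right_le_normalizer_left K P hPK] at hx2
    obtain ⟨k, hk, y, hy, rfl⟩ := Set.mem_mul.mp hx2
    refine mul_mem (Subgroup.mem_sup_left ⟨hk, ?_⟩) (Subgroup.mem_sup_right hy)
    have := NP.mul_mem (hx.1 : k * y ∈ NP) (NP.inv_mem (Subgroup.le_normalizer hy : y ∈ NP))
    rwa [mul_inv_cancel_right] at this
  have hPn : P ≤ Subgroup.normalizer ((K ⊓ NP : Subgroup G) : Set G) := fun y hy => by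
    rw [Subgroup.mem_normalizer_iff]
    intro z
    have h1 := Subgroup.mem_normalizer_iff.mp (hPK hy) z
    have h2 := Subgroup.mem_normalizer_iff.mp (Subgroup.le_normalizer (Subgroup.le_normalizer hy) :
      y ∈ Subgroup.normalizer (NP : Set G)) z
    exact and_congr h1 h2
  have e1 := Solv.card_sup_mul_card_inf' K P hPK
  have e2 := Solv.card_sup_mul_card_inf' (K ⊓ NP) P hPn
  rw [hbot, Subgroup.card_bot, mul_one] at e1
  rw [show K ⊓ NP ⊓ P = ⊥ from le_bot_iff.mp (hbot ▸ inf_le_inf_right P inf_le_left),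
    Subgroup.card_bot, mul_one, ← hKR] at e2
  have e3 := Subgroup.card_mul_index ((NP ⊓ (K ⊔ P)).subgroupOf (K ⊔ P))
  rw [Nat.card_congr (Subgroup.subgroupOfEquivOfLe (inf_le_right : NP ⊓ (K ⊔ P) ≤ K ⊔ P)).toEquiv,
    show ((NP ⊓ (K ⊔ P)).subgroupOf (K ⊔ P)).index = (NP ⊓ (K ⊔ P)).relIndex (K ⊔ P) from rfl,
    Subgroup.inf_relIndex_right, e1, e2] at e3
  refine Nat.eq_of_mul_eq_mul_right (Nat.card_pos (α := P)) ?_
  linarith [e3]

theorem relIndex_mod_p {P Q : Subgroup G} (hP : IsPGroup p P) (hPQ : P ≤ Subgroup.normalizer (Q : Set G))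
    (hQ : ¬ p ∣ Nat.card Q) :
    (Subgroup.normalizer (P : Set G)).relIndex (Q ⊔ P) % p = 1 := by
  have hp : p.Prime := Fact.out
  obtain ⟨a, ha⟩ := IsPGroup.iff_card.mp hP
  have hco : (Nat.card P).Coprime (Nat.card Q) := by
    rw [ha]; exact (hp.coprime_iff_not_dvd.mpr hQ).pow_left a
  have e := Solv.card_sup_mul_card_inf' Q P hPQ
  rw [Solv.coprime_inf hco.symm, Subgroup.card_bot, mul_one] at e
  have hfac : (Nat.card ↥(Q ⊔ P : Subgroup G)).factorization p = a := by
    rw [e, ha, Nat.factorization_mul Nat.card_pos.ne' (pow_ne_zero _ hp.ne_zero), Finsupp.add_apply,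
      Nat.factorization_eq_zero_of_not_dvd hQ, hp.factorization_pow, Finsupp.single_eq_same, zero_add]
  set R := Q ⊔ P
  have hle : P ≤ R := le_sup_right
  let S : Sylow p R := Sylow.ofCard (P.subgroupOf R) (by
    rw [Nat.card_congr (Subgroup.subgroupOfEquivOfLe hle).toEquiv, ha, hfac])
  have h := card_sylow_modEq_one p R
  have hS : Nat.card (Sylow p R) = (Subgroup.normalizer ((P.subgroupOf R : Subgroup R) : Set R)).index :=
    Sylow.card_eq_index_normalizer S
  rw [hS, ← Subgroup.subgroupOf_normalizer_eq hle,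
    Nat.ModEq, Nat.mod_eq_of_lt hp.one_lt] at h
  exact h

/-- A coprime centralizer index that is smaller than `p²` is a prime power. -/
theorem isPrimePow_index {P K : Subgroup G} (hP : IsPGroup p P) (hPK : P ≤ Subgroup.normalizer (K : Set G))
    (hK : ¬ p ∣ Nat.card K) {m : ℕ} (hm : m * Nat.card ↥(K ⊓ Subgroup.centralizer (P : Set G)) = Nat.card K)
    (hlt : m < p ^ 2) : ∃ q k : ℕ, q.Prime ∧ m = q ^ k := by
  have hp : p.Prime := Fact.out
  obtain ⟨a, ha⟩ := IsPGroup.iff_card.mp hP
  have hco : (Nat.card P).Coprime (Nat.card K) := by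
    rw [ha]; exact (hp.coprime_iff_not_dvd.mpr hK).pow_left a
  have hsol : Group.IsSolvable P := by
    haveI := hP.isNilpotent
    infer_instance
  set C := K ⊓ Subgroup.centralizer (P : Set G) with hC
  have hm0 : m ≠ 0 := fun h => by rw [h, zero_mul] at hm; exact Nat.card_pos.ne' hm.symm
  have hpart : ∀ q : ℕ, q.Prime → (q ^ m.factorization q) % p = 1 := by
    intro q hq
    haveI := Fact.mk hq
    obtain ⟨T, hT⟩ := Solv.exists_isSylIn q C
    obtain ⟨Q, hQ, hTQ, hQP⟩ := Solv.exists_invariant_sylow_ge (A := P) (K := K) hPK hco (Or.inl hsol)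
      T (hT.1.trans inf_le_left) hT.isPGroup (fun y hy => by
        rw [Subgroup.mem_normalizer_iff]
        intro z
        constructor
        · intro hz
          rwa [Subgroup.mem_centralizer_iff.mp (hT.1 hz).2 y hy, mul_inv_cancel_right]
        · intro hz
          have h1 := Subgroup.mem_centralizer_iff.mp (hT.1 hz).2 y hy
          have h3 : y * z * y⁻¹ = z := by
            calc y * z * y⁻¹ = y⁻¹ * (y * (y * z * y⁻¹)) := by group
              _ = y⁻¹ * ((y * z * y⁻¹) * y) := by rw [h1]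
              _ = z := by group
          have h2 := h3
          rwa [h2] at hz)
    have hQp : ¬ p ∣ Nat.card Q := fun h => hK (h.trans (Subgroup.card_dvd_of_le hQ.1))
    have hQC : Q ⊓ Subgroup.centralizer (P : Set G) = T := by
      refine le_antisymm ?_ (le_inf hTQ (hT.1.trans inf_le_right))
      have hle : Q ⊓ Subgroup.centralizer (P : Set G) ≤ C := inf_le_inf_right _ hQ.1
      exact (hT.eq_of_le (hQ.isPGroup.to_le inf_le_left) hle
        (le_inf hTQ (hT.1.trans inf_le_right))).ge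
    have h1 := relIndex_sup_coprime hQP (hco.coprime_dvd_right (Subgroup.card_dvd_of_le hQ.1))
    rw [hQC, hT.2, hQ.2, ← hm, Nat.factorization_mul hm0 Nat.card_pos.ne', Finsupp.add_apply,
      pow_add] at h1
    rw [← Nat.eq_of_mul_eq_mul_right (pow_pos hq.pos _) h1]
    exact relIndex_mod_p hP hQP hQp
  by_cases hm1 : m = 1
  · exact ⟨2, 0, Nat.prime_two, by rw [hm1, pow_zero]⟩
  set q := m.minFac with hqdef
  have hq : q.Prime := Nat.minFac_prime hm1
  refine ⟨q, m.factorization q, hq, ?_⟩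
  by_contra hne
  have hsplit : q ^ m.factorization q * (m / q ^ m.factorization q) = m :=
    Nat.mul_div_cancel' (Nat.ordProj_dvd m q)
  set b := m / q ^ m.factorization q with hb
  have hb1 : b ≠ 1 := fun h => hne (by rw [h, mul_one] at hsplit; exact hsplit.symm)
  set r := b.minFac
  have hr : r.Prime := Nat.minFac_prime hb1
  have hrq : r ≠ q := fun h => Nat.not_dvd_ordCompl hq hm0 (by
    rw [← h]
    exact (Nat.minFac_dvd b).trans (by rw [hb, h]))
  have hbig : ∀ s : ℕ, s.Prime → s ∣ m → p + 1 ≤ s ^ m.factorization s := by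
    intro s hs hsm
    have h1 : 1 < s ^ m.factorization s :=
      Nat.one_lt_pow (hs.factorization_pos_of_dvd hm0 hsm).ne' hs.one_lt
    have h2 := hpart s hs
    have h3 := Nat.div_add_mod (s ^ m.factorization s) p
    rcases Nat.eq_zero_or_pos (s ^ m.factorization s / p) with h | h
    · rw [h, mul_zero] at h3; omega
    · have : p ≤ p * (s ^ m.factorization s / p) := Nat.le_mul_of_pos_right p h
      omega
  have hrm : r ∣ m := (Nat.minFac_dvd b).trans ⟨q ^ m.factorization q, by rw [mul_comm]; exact hsplit.symm⟩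
  have hdvd : q ^ m.factorization q * r ^ m.factorization r ∣ m :=
    Nat.Coprime.mul_dvd_of_dvd_of_dvd (((Nat.coprime_primes hq hr).mpr (Ne.symm hrq)).pow _ _)
      (Nat.ordProj_dvd m q) (Nat.ordProj_dvd m r)
  have := Nat.le_of_dvd (Nat.pos_of_ne_zero hm0) hdvd
  have := Nat.mul_le_mul (hbig q hq (Nat.minFac_dvd m)) (hbig r hr hrm)
  nlinarith

theorem card_quot_dvd (K : Subgroup G) [K.Normal] :
    Nat.card (Sylow p (G ⧸ K)) ∣ Nat.card (Sylow p G) ∧ Nat.card (Sylow p K) ∣ Nat.card (Sylow p G) := by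
  obtain ⟨P⟩ := (inferInstance : Nonempty (Sylow p G))
  haveI : (((P : Subgroup G) ⊓ K).subgroupOf (((P : Subgroup G) ⊔ K) ⊓
      Subgroup.normalizer (((P : Subgroup G) ⊓ K : Subgroup G) : Set G))).Normal :=
    Subgroup.normal_subgroupOf_of_le_normalizer inf_le_right
  have h := Cfsg.Agent.S4341.result p K P _ rfl
  exact ⟨⟨_, by rw [h, mul_assoc]⟩, ⟨Nat.card (Sylow p (G ⧸ K)) * Nat.card (Sylow p (_ ⧸
    ((P : Subgroup G) ⊓ K).subgroupOf (((P : Subgroup G) ⊔ K) ⊓
      Subgroup.normalizer (((P : Subgroup G) ⊓ K : Subgroup G) : Set G)))), by rw [h]; ring⟩⟩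

end Count

/-- A prime power is not exceptional below `p`. -/
theorem not_exceptional_primePow {p n q k : ℕ} (hq : q.Prime) (hN : n * p + 1 = q ^ k) (hn : n < p) :
    ¬ Solv.BReyn.Exceptional p n := by
  rintro ⟨h, u, hh, hu, he⟩
  have hh1 : h = 1 := by
    by_contra hne
    have h2 : 2 ≤ h := by omega
    have : 2 * u * p ≤ h * u * p := Nat.mul_le_mul_right p (Nat.mul_le_mul_right u h2)
    have : n * (u + 1) ≤ (p - 1) * (u + 1) := Nat.mul_le_mul_right _ (by omega)
    have : (p - 1) * (u + 1) ≤ p * (u + 1) := Nat.mul_le_mul_right _ (by omega)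
    nlinarith
  subst hh1
  obtain ⟨c, hc⟩ : ∃ c, n + c + 1 = p := ⟨p - n - 1, by omega⟩
  obtain ⟨w, hw⟩ : ∃ w, w = c + 1 + u := ⟨_, rfl⟩
  have hp : p = (u + 1) * w + 1 := by subst hc hw; nlinarith
  have huw : u + 1 ≤ w := by
    by_contra hlt
    push Not at hlt
    have : n * (u + 1) + (u + 1) ≤ p * (u + 1) := by
      have := Nat.mul_le_mul_right (u + 1) (show n + 1 ≤ p by omega); linarith
    nlinarith
  have hprod : n * p + 1 = (u * w + 1) * (p + (u + 1)) := by
    have hn' : n = u + u * w + 1 := by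
      refine Nat.eq_of_mul_eq_mul_right (show 0 < u + 1 by omega) ?_
      rw [he, hp]; ring
    rw [hn', hp]; ring
  rw [hN] at hprod
  obtain ⟨i, -, hi⟩ := (Nat.dvd_prime_pow hq).mp ⟨_, hprod⟩
  obtain ⟨j, -, hj⟩ := (Nat.dvd_prime_pow hq).mp (⟨u * w + 1, by rw [hprod]; ring⟩ : p + (u + 1) ∣ q ^ k)
  have hij : i ≤ j := by
    refine (Nat.pow_le_pow_iff_right hq.one_lt).mp ?_
    rw [← hi, ← hj, hp]
    nlinarith
  have hAB : u * w + 1 ∣ p + (u + 1) := by rw [hi, hj]; exact pow_dvd_pow q hij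
  have hd : u * w + 1 ∣ w + u + 1 := by
    have h1 : p + (u + 1) = (u * w + 1) + (w + u + 1) := by rw [hp]; ring
    rw [h1] at hAB
    exact (Nat.dvd_add_right dvd_rfl).mp hAB
  have hle := Nat.le_of_dvd (by omega) hd
  rcases (show u = 1 ∨ 2 ≤ u by omega) with rfl | hu2
  · have h1 : 1 * w + 1 ∣ 1 := by
      have e : w + 1 + 1 = (1 * w + 1) + 1 := by ring
      rw [e] at hd
      exact (Nat.dvd_add_right dvd_rfl).mp hd
    have := Nat.le_of_dvd one_pos h1
    omega
  · nlinarith

/-- In the simple case the number is not a prime power. -/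
theorem simple_case {G : Type u} [Group G] [Finite G] [IsSimpleGroup G] (hG : ¬ IsMulCommutative G)
    {p : ℕ} [Fact p.Prime] (hmer : ¬ (3 < p ∧ ∃ k : ℕ, p + 1 = 2 ^ k)) (hdvd : p ∣ Nat.card G)
    (hn : Nat.card (Sylow p G) < p ^ 2) {q k : ℕ} (hq : q.Prime) (hqk : Nat.card (Sylow p G) = q ^ k) :
    False := by
  have hp : p.Prime := Fact.out
  have hperf : commutator G = ⊤ := by
    rcases IsSimpleGroup.eq_bot_or_eq_top_of_normal (commutator G) inferInstance with h | h
    · refine absurd ⟨⟨fun a b => ?_⟩⟩ hG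
      rw [← commutatorElement_eq_one_iff_mul_comm, ← Subgroup.mem_bot, ← h]
      exact Subgroup.commutator_mem_commutator (Subgroup.mem_top a) (Subgroup.mem_top b)
    · exact h
  obtain ⟨P⟩ := (inferInstance : Nonempty (Sylow p G))
  have hP : Nat.card P = p := Cfsg.Agent.S4343.result hG p hdvd hn P
  obtain ⟨n, hN⟩ := Solv.BReyn.exists_count (G := G) (p := p)
  have hnp : n < p := by
    by_contra h
    push Not at h
    have := Nat.mul_le_mul_right p h
    rw [hN] at hn
    nlinarith
  have hn0 : n ≠ 0 := by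
    rintro rfl
    rw [zero_mul, zero_add] at hN
    haveI : Subsingleton (Sylow p G) := Finite.card_le_one_iff_subsingleton.mp hN.le
    have hPn : (P : Subgroup G).Normal := Subgroup.normalizer_eq_top_iff.mp (eq_top_iff.mpr fun g _ =>
      Sylow.smul_eq_iff_mem_normalizer.mp (Subsingleton.elim _ _))
    rcases hPn.eq_bot_or_eq_top with h | h
    · rw [h, Subgroup.card_bot] at hP
      exact hp.one_lt.ne hP
    · haveI : IsCyclic G := by
        refine isCyclic_of_prime_card (p := p) ?_
        rw [← Subgroup.card_top (G := G), ← h, hP]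
      exact hG IsCyclic.commutative
  obtain ⟨hKp, hmax⟩ := Solv.BReyn.core_spec (G := G) (p := p)
  have hK : pPrimeCore p G = ⊥ :=
    (IsSimpleGroup.eq_bot_or_eq_top_of_normal _ inferInstance).resolve_right fun h => hKp (by
      rw [h, Subgroup.card_top]; exact hdvd)
  obtain ⟨hc, -⟩ := Solv.BReyn.reduce hperf P hP hN
    (not_exceptional_primePow hq (hN ▸ hqk) hnp) (pPrimeCore p G) hKp hmax
  have hc' := hc.congr ((QuotientGroup.quotientBot (G := G)).symm.trans
    (QuotientGroup.quotientMulEquivOfEq hK.symm))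
  obtain ⟨c, hcG⟩ : ∃ c, Nat.card G = p * ((n * p + 1) * c) := by
    have hle : (P : Subgroup G) ≤ Subgroup.normalizer ((P : Subgroup G) : Set G) := Subgroup.le_normalizer
    obtain ⟨c, hc⟩ := Subgroup.card_dvd_of_le hle
    refine ⟨c, ?_⟩
    have hidx : (Subgroup.normalizer ((P : Subgroup G) : Set G)).index = n * p + 1 :=
      (Sylow.card_eq_index_normalizer P).symm.trans hN
    rw [← Subgroup.card_mul_index (Subgroup.normalizer ((P : Subgroup G) : Set G)), hidx, hc, show Nat.card ↥(P : Subgroup G) = p from hP]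
    ring
  have hpow : n * p + 1 = q ^ k := hN ▸ hqk
  have hfin : ∀ a, a ∣ q ^ k → a.Prime → a = q := fun a ha hap =>
    (Nat.prime_dvd_prime_iff_eq hap hq).mp (hap.dvd_of_dvd_pow ha)
  have hN1 : p + 1 ≤ n * p + 1 := by
    have := Nat.le_mul_of_pos_left p (Nat.pos_of_ne_zero hn0); omega
  have hp3 : 3 < p := by
    rcases hc with ⟨F, iF, iF', hF, h, hi⟩ | ⟨m, F, iF, iF', hF, hpm, h, hi⟩ <;> exact h
  rcases hc'.card with h | h
  · rw [hcG] at h
    have hp2 : 1 ≤ p ^ 2 := Nat.one_le_pow _ _ hp.pos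
    have h1 : 2 * ((n * p + 1) * c) = p ^ 2 - 1 := Nat.eq_of_mul_eq_mul_left hp.pos (by rw [← h]; ring)
    have h2 : 2 * ((n * p + 1) * c) + 1 = p ^ 2 := by omega
    have h3 : p ∣ 2 * c + 1 := by
      refine (Nat.dvd_add_right (show p ∣ 2 * (n * c) * p from dvd_mul_left p _)).mp ?_
      rw [show 2 * (n * c) * p + (2 * c + 1) = p ^ 2 by rw [← h2]; ring]
      exact dvd_pow_self p two_ne_zero
    obtain ⟨j, hj⟩ := h3
    rcases (show j = 0 ∨ j = 1 ∨ 2 ≤ j by omega) with rfl | rfl | hj2
    · omega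
    · rw [mul_one] at hj
      have hN2 : n * p + 1 = p + 1 := by
        refine Nat.eq_of_mul_eq_mul_right (show 0 < 2 * c by omega) ?_
        have : (p + 1) * (2 * c) + 1 = p ^ 2 := by rw [← hj]; ring
        nlinarith
      have h2d : 2 ∣ q ^ k := by
        rw [← hpow, hN2]
        exact ⟨c + 1, by omega⟩
      refine hmer ⟨hp3, k, ?_⟩
      rw [← hN2, hpow, ← hfin 2 h2d Nat.prime_two]
    · have := Nat.mul_le_mul hN1 (show p ≤ c from by
        have := Nat.mul_le_mul_left p hj2; omega)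
      nlinarith
  · rw [hcG] at h
    obtain ⟨d, rfl⟩ : ∃ d, p = d + 2 := ⟨p - 2, by omega⟩
    simp only [Nat.add_sub_cancel, show d + 2 - 1 = d + 1 by omega] at h
    have h1 : (n * (d + 2) + 1) * c = (d + 1) * d :=
      Nat.eq_of_mul_eq_mul_left hp.pos (by rw [h]; ring)
    have hc2 : c = 2 := by
      have h3 : ((d + 2 : ℕ) : ℤ) ∣ (c : ℤ) - 2 := by
        refine ⟨(d : ℤ) - 1 - n * c, ?_⟩
        have : ((n : ℤ) * (d + 2) + 1) * c = ((d : ℤ) + 1) * d := by exact_mod_cast h1
        push_cast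
        linear_combination this
      have hlt : c ≤ d := by
        by_contra hlt
        push Not at hlt
        have := Nat.mul_le_mul hN1 (show d + 1 ≤ c by omega)
        nlinarith
      obtain ⟨z, hz⟩ := h3
      push_cast at hz
      rcases lt_trichotomy z 0 with hz0 | hz0 | hz0
      · nlinarith
      · subst hz0
        rw [mul_zero] at hz
        omega
      · nlinarith
    subst hc2
    have hdodd : d % 2 = 1 := by
      rcases hp.eq_two_or_odd with h2 | h2 <;> omega
    obtain ⟨e, rfl⟩ : ∃ e, d = 2 * e + 1 := ⟨d / 2, by omega⟩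
    have h2N : q ^ k = (e + 1) * (2 * e + 1) := by rw [← hpow]; nlinarith
    obtain ⟨r, hr, hrd⟩ := Nat.exists_prime_and_dvd (show e + 1 ≠ 1 by omega)
    obtain ⟨r', hr', hrd'⟩ := Nat.exists_prime_and_dvd (show 2 * e + 1 ≠ 1 by omega)
    have e1 := hfin r (h2N ▸ hrd.mul_right _) hr
    have e2 := hfin r' (h2N ▸ hrd'.mul_left _) hr'
    rw [e1] at hrd
    rw [e2] at hrd'
    have h4 : q ∣ 1 := by
      refine (Nat.dvd_add_right hrd').mp ?_
      rw [show 2 * e + 1 + 1 = 2 * (e + 1) by ring]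
      exact hrd.mul_left 2
    exact hq.one_lt.ne' (Nat.dvd_one.mp h4)

theorem converse_aux {p : ℕ} [Fact p.Prime] (hmer : ¬ (3 < p ∧ ∃ k : ℕ, p + 1 = 2 ^ k)) :
    ∀ (N : ℕ) (G : Type u) [Group G] [Finite G], Nat.card G ≤ N → Nat.card (Sylow p G) < p ^ 2 →
      (∃ q k : ℕ, q.Prime ∧ Nat.card (Sylow p G) = q ^ k) → Cfsg.IsPSolvable p G := by
  have hp : p.Prime := Fact.out
  intro N
  induction N with
  | zero => intro G _ _ h; exact absurd h (Nat.not_le.mpr Nat.card_pos)
  | succ N ih =>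
    intro G _ _ hcard hn ⟨q, k, hq, hqk⟩
    by_cases htriv : ∀ K : Subgroup G, K.Normal → K = ⊥ ∨ K = ⊤
    · by_cases hdvd : p ∣ Nat.card G
      · haveI : Nontrivial G := Finite.one_lt_card_iff_nontrivial.mp
          (lt_of_lt_of_le hp.one_lt (Nat.le_of_dvd Nat.card_pos hdvd))
        haveI : IsSimpleGroup G := ⟨htriv⟩
        by_cases hab : IsMulCommutative G
        · haveI : IsCyclic G := by
            let i : CommGroup G := { (inferInstance : Group G) with mul_comm := hab.is_comm.comm }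
            exact @IsSimpleGroup.isCyclic G i inferInstance
          have hpr : (Nat.card G).Prime := by
            let i : CommGroup G := { (inferInstance : Group G) with mul_comm := hab.is_comm.comm }
            exact @IsSimpleGroup.prime_card G i inferInstance
          refine Solv.isPSolvable_top_step (Or.inl (IsPGroup.of_card (n := 1) ?_))
          rw [pow_one]
          exact ((Nat.prime_dvd_prime_iff_eq hp hpr).mp hdvd).symm
        · exact (simple_case hab hmer hdvd hn hq hqk).elim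
      · exact Solv.isPSolvable_top_step (Or.inr (hp.coprime_iff_not_dvd.mpr hdvd).symm)
    · push Not at htriv
      obtain ⟨K, hK, hKb, hKt⟩ := htriv
      haveI := hK
      obtain ⟨hd1, hd2⟩ := card_quot_dvd (p := p) K
      have hmul := Subgroup.card_eq_card_quotient_mul_card_subgroup K
      have hK1 : 1 < Nat.card K := K.one_lt_card_iff_ne_bot.mpr hKb
      have hQ1 : 1 < Nat.card (G ⧸ K) := by
        rw [← Subgroup.index_eq_card]
        exact K.one_lt_index_of_ne_top hKt
      have hpos : 0 < Nat.card (Sylow p G) := Nat.card_pos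
      have hpp : ∀ d, d ∣ Nat.card (Sylow p G) → ∃ r j : ℕ, r.Prime ∧ d = r ^ j := fun d hd => by
        obtain ⟨i, -, hi⟩ := (Nat.dvd_prime_pow hq).mp (hqk ▸ hd)
        exact ⟨q, i, hq, hi⟩
      refine Solv.isPSolvable_of_extension K
        (ih K (by nlinarith) (lt_of_le_of_lt (Nat.le_of_dvd hpos hd2) hn) (hpp _ hd2))
        (ih (G ⧸ K) (by nlinarith) (lt_of_le_of_lt (Nat.le_of_dvd hpos hd1) hn) (hpp _ hd1))

theorem forward_aux {p : ℕ} [Fact p.Prime] :
    ∀ (N : ℕ) (G : Type u) [Group G] [Finite G], Nat.card G ≤ N → Nat.card (Sylow p G) < p ^ 2 →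
      Cfsg.IsPSolvable p G → ∃ q k : ℕ, q.Prime ∧ Nat.card (Sylow p G) = q ^ k := by
  have hp : p.Prime := Fact.out
  intro N
  induction N with
  | zero => intro G _ _ h; exact absurd h (Nat.not_le.mpr Nat.card_pos)
  | succ N ih =>
    intro G _ _ hcard hn hsolv
    by_cases hone : Nat.card G = 1
    · haveI : Subsingleton G := (Nat.card_eq_one_iff_unique.mp hone).1
      refine ⟨2, 0, Nat.prime_two, ?_⟩
      haveI : Subsingleton (Sylow p G) := ⟨fun A B => Sylow.ext (Subsingleton.elim _ _)⟩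
      rw [pow_zero, Nat.card_of_subsingleton (Classical.arbitrary (Sylow p G))]
    haveI : Nontrivial G := Finite.one_lt_card_iff_nontrivial.mp (by
      have := Nat.card_pos (α := G); omega)
    obtain ⟨K, hK, hKb, hKt⟩ := Solv.exists_normal_pgroup_or_coprime hsolv
    haveI := hK
    have hlt : Nat.card (G ⧸ K) ≤ N := by
      have := Subgroup.card_eq_card_quotient_mul_card_subgroup K
      have : 1 < Nat.card K := K.one_lt_card_iff_ne_bot.mpr hKb
      have : 0 < Nat.card (G ⧸ K) := Nat.card_pos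
      nlinarith
    have hpos : 0 < Nat.card (Sylow p G) := Nat.card_pos
    obtain ⟨P⟩ := (inferInstance : Nonempty (Sylow p G))
    obtain ⟨q, k, hq, hqk⟩ := ih (G ⧸ K) hlt
      (lt_of_le_of_lt (Nat.le_of_dvd hpos (card_quot_dvd K).1) hn)
      (Solv.isPSolvable_map hp hsolv (QuotientGroup.mk' K) (QuotientGroup.mk'_surjective K))
    rcases hKt with hKp | hKc
    · exact ⟨q, k, hq, by rw [← Cfsg.Agent.S4341.card_sylow_quotient_normal_p K hKp]; exact hqk⟩
    · have hKn : ¬ p ∣ Nat.card K := hp.coprime_iff_not_dvd.mp hKc.symm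
      set m := (Subgroup.normalizer ((P : Subgroup G) : Set G)).relIndex ((P : Subgroup G) ⊔ K) with hm
      have hsplit := Cfsg.Agent.S4341.count_split P K
      have hPK : (P : Subgroup G) ≤ Subgroup.normalizer (K : Set G) := by
        rw [Subgroup.normalizer_eq_top_iff.mpr hK]; exact le_top
      obtain ⟨a, ha⟩ := IsPGroup.iff_card.mp P.2
      have hco : (Nat.card (P : Subgroup G)).Coprime (Nat.card K) := by
        rw [ha]; exact hKc.symm.pow_left a
      have hm1 : m % p = 1 := by rw [hm, sup_comm]; exact relIndex_mod_p P.2 hPK hKn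
      have hmlt : m < p ^ 2 := lt_of_le_of_lt (Nat.le_of_dvd hpos ⟨_, by rw [hsplit]; ring⟩) hn
      obtain ⟨r, j, hr, hrj⟩ := isPrimePow_index P.2 hPK hKn (m := m)
        (by rw [hm, sup_comm]; exact relIndex_sup_coprime hPK hco) hmlt
      have hQmod : Nat.card (Sylow p (G ⧸ K)) % p = 1 := by
        have h := card_sylow_modEq_one p (G ⧸ K)
        rwa [Nat.ModEq, Nat.mod_eq_of_lt hp.one_lt] at h
      rw [← hm] at hsplit
      by_cases h1 : m = 1
      · exact ⟨q, k, hq, by rw [hsplit, h1, mul_one, hqk]⟩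
      by_cases h2 : Nat.card (Sylow p (G ⧸ K)) = 1
      · exact ⟨r, j, hr, by rw [hsplit, h2, one_mul, hrj]⟩
      exfalso
      have hbig : ∀ x, x % p = 1 → x ≠ 1 → p + 1 ≤ x := fun x hx hx1 => by
        have h3 := Nat.div_add_mod x p
        rcases Nat.eq_zero_or_pos (x / p) with h | h
        · rw [h, mul_zero] at h3; omega
        · have : p ≤ p * (x / p) := Nat.le_mul_of_pos_right p h
          omega
      have := Nat.mul_le_mul (hbig _ hQmod h2) (hbig m hm1 h1)
      rw [← hsplit] at this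
      nlinarith

/-- Let G be a finite group and p a prime such that it is not the case that p > 3 with p + 1 a power of 2. If the number of Sylow p-subgroups of G is less than p², then G is p-solvable if and only if that number is a power of a prime (possibly 1). -/
theorem result {G : Type*} [Group G] [Finite G]
    (p : ℕ) [Fact p.Prime] (hp : ¬ (3 < p ∧ ∃ k : ℕ, p + 1 = 2 ^ k)) (hn : Nat.card (Sylow p G) < p ^ 2) :
    Cfsg.IsPSolvable p G ↔ ∃ q k : ℕ, q.Prime ∧ Nat.card (Sylow p G) = q ^ k :=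
  ⟨fun h => forward_aux _ G le_rfl hn h, fun h => converse_aux hp _ G le_rfl hn h⟩

end Cfsg.Agent.S4339
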