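import Cfsg.Statements.S4342
import Cfsg.Agent.Lib.Fusion.Cores

set_option autoImplicit false
open Cfsg

namespace Cfsg.Agent.S4342

universe u

theorem card_quotient_center {H : Type u} [Group H] [Finite H] (p : ℕ) [Fact p.Prime] :
    Nat.card (Sylow p (H ⧸ Subgroup.center H)) = Nat.card (Sylow p H) := by
  have hπ : Function.Surjective (QuotientGroup.mk' (Subgroup.center H)) := QuotientGroup.mk'_surjective _
  refine (Nat.card_eq_of_bijective (fun P : Sylow p H => P.mapSurjective hπ)
    ⟨fun P Q h => ?_, Sylow.mapSurjective_surjective hπ p⟩).symm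
  have h' : (P : Subgroup H).map (QuotientGroup.mk' (Subgroup.center H)) =
      (Q : Subgroup H).map (QuotientGroup.mk' (Subgroup.center H)) := congrArg Sylow.toSubgroup h
  have hsub : ∀ q ∈ (Q : Subgroup H), q ∈ Subgroup.normalizer ((P : Subgroup H) : Set H) := by
    intro q hq
    have : q ∈ ((P : Subgroup H).map (QuotientGroup.mk' (Subgroup.center H))).comap
        (QuotientGroup.mk' (Subgroup.center H)) := h' ▸ ⟨q, hq, rfl⟩
    rw [Subgroup.comap_map_eq, QuotientGroup.ker_mk'] at this
    exact (sup_le Subgroup.le_normalizer (fun z hz => by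
      rw [Subgroup.mem_normalizer_iff]
      intro y
      have hzy : z * y * z⁻¹ = y := by rw [← Subgroup.mem_center_iff.1 hz y, mul_inv_cancel_right]
      rw [hzy]) : _ ≤ Subgroup.normalizer ((P : Subgroup H) : Set H)) this
  have hsup := IsPGroup.to_sup_of_normal_right' Q.isPGroup' P.isPGroup' hsub
  exact Sylow.ext ((P.is_maximal' hsup le_sup_right).symm.trans (Q.is_maximal' hsup le_sup_left))


/-- Let H be a normal subgroup of a finite group G and p a prime not dividing the index of H. Then the number of Sylow p-subgroups of H/Z(H) equals the number of Sylow p-subgroups of G. -/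
theorem result {G : Type*} [Group G] [Finite G]
    (p : ℕ) [Fact p.Prime] (H : Subgroup G) [H.Normal] (hp : ¬ p ∣ H.index) :
    Nat.card (Sylow p (H ⧸ Subgroup.center H)) = Nat.card (Sylow p G) := by
  rw [card_quotient_center]
  refine Nat.card_eq_of_bijective (fun P : Sylow p H => (Classical.choose
    (P.isPGroup'.map H.subtype).exists_le_sylow : Sylow p G)) ⟨fun P Q hPQ => ?_, fun R => ?_⟩
  · have h1 := Classical.choose_spec (P.isPGroup'.map H.subtype).exists_le_sylow
    have h2 := Classical.choose_spec (Q.isPGroup'.map H.subtype).exists_le_sylow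
    simp only at hPQ
    rw [← hPQ] at h2
    set R := Classical.choose (P.isPGroup'.map H.subtype).exists_le_sylow
    have hRp : IsPGroup p ((R : Subgroup G).subgroupOf H) :=
      R.isPGroup'.comap_of_injective H.subtype H.subtype_injective
    exact Sylow.ext ((P.is_maximal' hRp (Subgroup.map_le_iff_le_comap.1 h1)).symm.trans
      (Q.is_maximal' hRp (Subgroup.map_le_iff_le_comap.1 h2)))
  · have hRH : (R : Subgroup G) ≤ H := by
      intro r hr
      rw [← QuotientGroup.eq_one_iff, ← orderOf_eq_one_iff]
      obtain ⟨k, hk⟩ := R.isPGroup' ⟨r, hr⟩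
      have h1 : r ^ p ^ k = 1 := congrArg Subtype.val hk
      refine Nat.eq_one_of_dvd_coprimes
        ((((Fact.out : p.Prime).coprime_iff_not_dvd).2 hp).pow_left k) (orderOf_dvd_of_pow_eq_one ?_)
        (H.index_eq_card ▸ orderOf_dvd_natCard _)
      rw [← QuotientGroup.mk_pow, h1]; rfl
    let R' : Sylow p H := R.subtype hRH
    refine ⟨R', Sylow.ext ?_⟩
    have h1 := Classical.choose_spec (R'.isPGroup'.map H.subtype).exists_le_sylow
    refine R.is_maximal' (Sylow.isPGroup' _) (le_trans (fun r hr => ?_) h1)
    exact ⟨⟨r, hRH hr⟩, hr, rfl⟩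

end Cfsg.Agent.S4342
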