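import Cfsg.Statements.S4344


set_option autoImplicit false
open Cfsg
open scoped Pointwise

namespace Cfsg.Agent.S4344

/-- Let S be a finite non-abelian simple group, M a maximal subgroup of S and C a cyclic normal subgroup of M. If a Sylow p-subgroup P of S (for a prime p dividing the order of S) is contained in C, then the number of Sylow p-subgroups of S equals the index of M. -/
theorem result {S : Type*} [Group S] [Finite S]
    [IsSimpleGroup S] (hS : ¬ IsMulCommutative S) (p : ℕ) [Fact p.Prime] (hp : p ∣ Nat.card S)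
    (M : Subgroup S) (hM : IsCoatom M) (C : Subgroup S) (hCM : C ≤ M) (hCn : (C.subgroupOf M).Normal)
    (hC : IsCyclic C) (P : Sylow p S) (hP : (P : Subgroup S) ≤ C) :
    Nat.card (Sylow p S) = M.index := by
  have hPC : ((P : Subgroup S).subgroupOf M).Normal := by
    refine ⟨fun x hx m => ?_⟩
    have hx' : (x : S) ∈ (P : Subgroup S) := hx
    have hconj : MulAut.conj (m : S) • (P : Subgroup S) ≤ C := by
      intro y hy
      rw [Subgroup.mem_pointwise_smul_iff_inv_smul_mem, ← map_inv, MulAut.smul_def, MulAut.conj_apply,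
        inv_inv] at hy
      have hz := hP hy
      have := hCn.conj_mem ⟨_, hCM hz⟩ hz m
      show y ∈ C
      simpa [Subgroup.mem_subgroupOf, mul_assoc] using this
    letI : CommGroup C := IsCyclic.commGroup
    have hnorm : ∀ c ∈ MulAut.conj (m : S) • (P : Subgroup S), c ∈ Subgroup.normalizer ((P : Subgroup S) : Set S) := by
      intro c hc
      rw [Subgroup.mem_normalizer_iff]
      intro y
      constructor
      · intro hy
        have : c * y = y * c := congrArg Subtype.val (mul_comm (⟨c, hconj hc⟩ : C) ⟨y, hP hy⟩)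
        rwa [this, mul_inv_cancel_right]
      · intro hy
        have : c⁻¹ * (c * y * c⁻¹) = (c * y * c⁻¹) * c⁻¹ :=
          congrArg Subtype.val (mul_comm (⟨c⁻¹, C.inv_mem (hconj hc)⟩ : C) ⟨_, hP hy⟩)
        have e : y = c * y * c⁻¹ := by
          calc y = c⁻¹ * (c * y * c⁻¹) * c := by group
            _ = c * y * c⁻¹ := by rw [this, inv_mul_cancel_right]
        rwa [e]
    have hp' : IsPGroup p (MulAut.conj (m : S) • (P : Subgroup S) : Subgroup S) :=
      (m • P : Sylow p S).isPGroup'
    have hsup := IsPGroup.to_sup_of_normal_right' hp' P.isPGroup' hnorm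
    have hle : MulAut.conj (m : S) • (P : Subgroup S) ≤ (P : Subgroup S) :=
      (P.is_maximal' hsup le_sup_right).le.trans' le_sup_left
    show (m : S) * x * (m : S)⁻¹ ∈ (P : Subgroup S)
    exact hle ⟨x, hx', rfl⟩
  have hMN : M ≤ Subgroup.normalizer ((P : Subgroup S) : Set S) :=
    (Subgroup.normal_subgroupOf_iff_le_normalizer (hP.trans hCM)).1 hPC
  rw [P.card_eq_index_normalizer]
  congr 1
  refine ((eq_or_lt_of_le hMN).resolve_right fun hlt => ?_).symm
  have htop := hM.2 _ hlt
  haveI : (P : Subgroup S).Normal := Subgroup.normalizer_eq_top_iff.1 htop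
  rcases IsSimpleGroup.eq_bot_or_eq_top_of_normal (P : Subgroup S) inferInstance with h | h
  · exact P.ne_bot_of_dvd_card hp h
  · refine hS ⟨⟨fun a b => ?_⟩⟩
    letI : CommGroup C := IsCyclic.commGroup
    exact congrArg Subtype.val (mul_comm (⟨a, hP (h ▸ Subgroup.mem_top a)⟩ : C)
      ⟨b, hP (h ▸ Subgroup.mem_top b)⟩)

end Cfsg.Agent.S4344
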