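import Cfsg.Statements.S4345
import Mathlib
import Cfsg.Agent.S4341
import Cfsg.Agent.Lib.Solv.Basic

set_option autoImplicit false
open Cfsg

namespace Cfsg.Agent.S4345


universe u

theorem hall : ∀ (n : ℕ) {G : Type u} [Group G] [Finite G], Nat.card G = n → Group.IsSolvable G →
    ∀ (p ℓ : ℕ) [Fact p.Prime], ℓ.Prime → ℓ ^ (Nat.card (Sylow p G)).factorization ℓ ≡ 1 [MOD p] := by
  intro n
  induction n using Nat.strong_induction_on with
  | _ n ih =>
    intro G _ _ hn hG p ℓ _ hℓ
    by_cases h1 : Nat.card (Sylow p G) = 1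
    · rw [h1]; simp [Nat.ModEq]
    obtain ⟨P⟩ := (inferInstance : Nonempty (Sylow p G))
    haveI : Nontrivial G := by
      refine not_subsingleton_iff_nontrivial.1 fun h => h1 ?_
      haveI : Subsingleton (Sylow p G) :=
        ⟨fun A B => Sylow.ext (by
          haveI := h
          exact SetLike.ext fun x => by
            rw [Subsingleton.elim x 1]; exact iff_of_true (one_mem _) (one_mem _))⟩
      exact Nat.card_eq_one_iff_unique.2 ⟨inferInstance, inferInstance⟩
    obtain ⟨K, hK, hKne, hKmin⟩ := Cfsg.Agent.Solv.exists_minimal_normal (G := G)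
    haveI := hK
    haveI := hG
    obtain ⟨-, q, hq, -, hKq⟩ := Cfsg.Agent.Solv.minimal_normal_elementaryAbelian K inferInstance hKne hKmin
    haveI : Fact q.Prime := ⟨hq⟩
    rw [Cfsg.Agent.S4341.count_split P K]
    set NP := Subgroup.normalizer ((P : Subgroup G) : Set G) with hNP
    set r := NP.relIndex ((P : Subgroup G) ⊔ K) with hr
    have hrmod : r ≡ 1 [MOD p] := by
      have e : r = (Subgroup.normalizer (((P.subtype le_sup_left : Sylow p ↥((P : Subgroup G) ⊔ K)) :
          Subgroup ↥((P : Subgroup G) ⊔ K)) : Set ↥((P : Subgroup G) ⊔ K))).index := by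
        rw [Sylow.coe_subtype, ← Subgroup.subgroupOf_normalizer_eq le_sup_left]
        rfl
      rw [e]
      have h0 := card_sylow_modEq_one p ↥((P : Subgroup G) ⊔ K)
      rw [Sylow.card_eq_index_normalizer (P.subtype (le_sup_left : (P : Subgroup G) ≤ (P : Subgroup G) ⊔ K))] at h0
      exact h0
    obtain ⟨k, hk⟩ := hKq.exists_card_eq
    have hrdvd : r ∣ q ^ k := by
      refine (Subgroup.relIndex_dvd_of_le_left _ (Subgroup.le_normalizer : (P : Subgroup G) ≤ NP)).trans ?_
      rw [← hk]
      refine Nat.dvd_of_mul_dvd_mul_left (k := Nat.card (P : Subgroup G)) Nat.card_pos ?_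
      have hX : Nat.card (P : Subgroup G) * (P : Subgroup G).relIndex ((P : Subgroup G) ⊔ K) =
          Nat.card K * K.relIndex ((P : Subgroup G) ⊔ K) := by
        have e1 := Subgroup.relIndex_mul_relIndex (⊥ : Subgroup G) (P : Subgroup G) ((P : Subgroup G) ⊔ K) bot_le le_sup_left
        have e2 := Subgroup.relIndex_mul_relIndex (⊥ : Subgroup G) K ((P : Subgroup G) ⊔ K) bot_le le_sup_right
        rw [Subgroup.relIndex_bot_left] at e1 e2
        rw [e1, e2]
      rw [hX, Subgroup.relIndex_sup_right, mul_comm (Nat.card (P : Subgroup G))]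
      exact mul_dvd_mul_left _ (Subgroup.relIndex_dvd_card _ _)
    obtain ⟨j, -, hj⟩ := (Nat.dvd_prime_pow hq).1 hrdvd
    have hlt : Nat.card (G ⧸ K) < n := by
      rw [← hn, Subgroup.card_eq_card_quotient_mul_card_subgroup K]
      exact lt_mul_right Nat.card_pos ((Subgroup.one_lt_card_iff_ne_bot K).2 hKne)
    have hq' := ih _ hlt (G := G ⧸ K) rfl inferInstance p ℓ hℓ
    rw [Nat.factorization_mul Nat.card_pos.ne' (by rw [hj]; exact pow_ne_zero _ hq.ne_zero), Finsupp.add_apply, pow_add]
    have hr' : ℓ ^ r.factorization ℓ ≡ 1 [MOD p] := by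
      rw [hj, Nat.Prime.factorization_pow hq]
      by_cases hql : q = ℓ
      · subst hql
        rw [Finsupp.single_eq_same, ← hj]
        exact hrmod
      · rw [Finsupp.single_eq_of_ne (Ne.symm hql), pow_zero]
    exact (hq'.mul hr').trans (by rw [one_mul])


/-- Let G be a finite solvable group and p, ℓ primes. Then the largest power of ℓ dividing the number of Sylow p-subgroups of G is congruent to 1 modulo p. -/
theorem result {G : Type*} [Group G] [Finite G]
    (hG : Group.IsSolvable G) (p ℓ : ℕ) [Fact p.Prime] (hℓ : ℓ.Prime) :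
    ℓ ^ (Nat.card (Sylow p G)).factorization ℓ ≡ 1 [MOD p] := by
  exact hall _ rfl hG p ℓ hℓ

end Cfsg.Agent.S4345
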