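import Cfsg.Statements.S4346
import Cfsg.Agent.Lib.Perm.TwentyTwo

set_option autoImplicit false
open Cfsg

namespace Cfsg.Agent.S4346

/-- No finite group has exactly 22 Sylow 3-subgroups. -/
theorem result {G : Type*} [Group G] [Finite G] : Nat.card (Sylow 3 G) ≠ 22 := by
  intro h
  haveI : Fact (Nat.Prime 3) := ⟨Nat.prime_three⟩
  obtain ⟨H, _, _, hred, hcard⟩ := Cfsg.Agent.Perm.SylowCount.exists_reduced G 3
  have hc : Cfsg.Agent.Perm.TwentyTwo.Cfg H := ⟨hred, hcard.trans h⟩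
  by_cases hP : ∃ P : Sylow 3 H, Nat.card P = 3
  · obtain ⟨P, hP⟩ := hP
    exact Cfsg.Agent.Perm.TwentyTwo.no_three hc hP
  · exact Cfsg.Agent.Perm.TwentyTwo.no_big hc fun P hP' => hP ⟨P, hP'⟩

end Cfsg.Agent.S4346
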