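import Cfsg.Statements.S4347


set_option autoImplicit false
open Cfsg

namespace Cfsg.Agent.S4347

/-- Let G be a finite group and p a prime. Say a Sylow p-subgroup Q is redundant when every element of p-power order lies in some Sylow p-subgroup other than Q. Then G has no redundant Sylow p-subgroup if and only if some element of p-power order lies in exactly one Sylow p-subgroup. -/
theorem result {G : Type*} [Group G] [Finite G]
    (p : ℕ) [Fact p.Prime] :
    (¬ ∃ Q : Sylow p G, ∀ x : G, (∃ k : ℕ, orderOf x = p ^ k) → ∃ P : Sylow p G, P ≠ Q ∧ x ∈ P) ↔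
      ∃ x : G, (∃ k : ℕ, orderOf x = p ^ k) ∧ ∃! P : Sylow p G, x ∈ P := by
  constructor
  · intro h
    by_contra hcon
    push Not at hcon
    obtain ⟨Q⟩ : Nonempty (Sylow p G) := inferInstance
    refine h ⟨Q, fun x hx => ?_⟩
    obtain ⟨k, hk⟩ := hx
    obtain ⟨P, hP⟩ := (IsPGroup.of_card (n := k) (p := p) (G := Subgroup.zpowers x)
      (by rw [Nat.card_zpowers, hk])).exists_le_sylow
    by_cases hPQ : P = Q
    · obtain ⟨P', hP'⟩ : ∃ P' : Sylow p G, P' ≠ Q ∧ x ∈ P' := by
        by_contra hno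
        push Not at hno
        refine hcon x ⟨k, hk⟩ ⟨P, hP (Subgroup.mem_zpowers x), fun R hR => ?_⟩
        by_contra hne
        exact hno R (fun e => hne (e.trans hPQ.symm)) hR
      exact ⟨P', hP'⟩
    · exact ⟨P, hPQ, hP (Subgroup.mem_zpowers x)⟩
  · rintro ⟨x, ⟨k, hk⟩, P, hxP, hu⟩ ⟨Q, hQ⟩
    obtain ⟨g, hg⟩ := MulAction.exists_smul_eq G P Q
    obtain ⟨R, hR, hxR⟩ := hQ (g * x * g⁻¹) ⟨k, by
      rw [← hk]; exact orderOf_injective (MulAut.conj g).toMonoidHom (MulAut.conj g).injective x⟩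
    refine hR ?_
    have h1 : g⁻¹ • R = P := hu _ (by
      show x ∈ ((g⁻¹ • R : Sylow p G) : Subgroup G)
      rw [Sylow.coe_subgroup_smul]
      exact ⟨g * x * g⁻¹, hxR, by simp [mul_assoc]⟩)
    rw [← hg, ← h1, smul_inv_smul]

end Cfsg.Agent.S4347
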