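import Cfsg.Statements.S4348
import Cfsg.Agent.Lib.Fusion.Cores

set_option autoImplicit false
open Cfsg

namespace Cfsg.Agent.S4348

/-- Let G be a finite group, p a prime and P a Sylow p-subgroup of G, and let O_p(G) be the largest normal p-subgroup of G. If P/O_p(G) is cyclic, then some element of p-power order of G lies in exactly one Sylow p-subgroup. -/
theorem result {G : Type*} [Group G] [Finite G]
    (p : ℕ) [Fact p.Prime] (P : Sylow p G)
    [hn : ((Cfsg.pCore p G).subgroupOf (P : Subgroup G)).Normal]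
    (hc : IsCyclic ((P : Subgroup G) ⧸ (Cfsg.pCore p G).subgroupOf (P : Subgroup G))) :
    ∃ x : G, (∃ k : ℕ, orderOf x = p ^ k) ∧ ∃! Q : Sylow p G, x ∈ Q := by
  haveI := hc
  obtain ⟨q, hq⟩ := hc.exists_generator
  induction q using QuotientGroup.induction_on with
  | H x =>
    have hgen : (P : Subgroup G) ≤ Cfsg.pCore p G ⊔ Subgroup.zpowers (x : G) := by
      intro y hy
      obtain ⟨n, hn⟩ := hq (QuotientGroup.mk ⟨y, hy⟩)
      have hn' : ((x ^ n : (P : Subgroup G)) :
          (P : Subgroup G) ⧸ (Cfsg.pCore p G).subgroupOf (P : Subgroup G)) = QuotientGroup.mk ⟨y, hy⟩ := by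
        rw [QuotientGroup.mk_zpow]; exact hn
      have h1 : ((x : G) ^ n)⁻¹ * y ∈ Cfsg.pCore p G := by
        have := QuotientGroup.eq.1 hn'
        simpa [Subgroup.mem_subgroupOf] using this
      rw [show y = (x : G) ^ n * (((x : G) ^ n)⁻¹ * y) by group]
      exact mul_mem (Subgroup.mem_sup_right (zpow_mem (Subgroup.mem_zpowers _) n))
        (Subgroup.mem_sup_left h1)
    obtain ⟨k, hk⟩ := P.isPGroup' x
    obtain ⟨j, -, hj⟩ := (Nat.dvd_prime_pow Fact.out).1
      (orderOf_dvd_of_pow_eq_one (congrArg Subtype.val hk : (x : G) ^ p ^ k = 1))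
    refine ⟨(x : G), ⟨j, hj⟩, P, x.2, fun Q hQ => ?_⟩
    have hle : (P : Subgroup G) ≤ (Q : Subgroup G) :=
      hgen.trans (sup_le (Cfsg.Agent.Fusion.pCore_le_sylow Q) (Subgroup.zpowers_le.2 hQ))
    exact Sylow.ext (P.is_maximal' Q.isPGroup' hle)

end Cfsg.Agent.S4348
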