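import Cfsg.Statements.S4349
-- import your own Cfsg.Agent.* helpers here

set_option autoImplicit false
open Cfsg

namespace Cfsg.Agent.S4349

open Equiv

variable {α : Type} [Fintype α] [DecidableEq α]

/-- The points `a`, `b` are fixed by the same powers of `x`. -/
def SP (x : Perm α) (a b : α) : Prop := ∀ k : ℕ, (x ^ k) a = a ↔ (x ^ k) b = b

/-- At most two fixed points, and distinct cycle lengths. -/
def Dis (x : Perm α) : Prop :=
  (∀ a b c : α, x a = a → x b = b → x c = c → a = b ∨ a = c ∨ b = c) ∧
    ∀ a b : α, x a ≠ a → SP x a b → x.SameCycle a b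

def Un (x : Perm α) : Prop :=
  ∀ R₁ R₂ : Subgroup (Perm α), IsPGroup 2 R₁ → IsPGroup 2 R₂ → x ∈ R₁ → x ∈ R₂ →
    IsPGroup 2 ↥(R₁ ⊔ R₂)

def FI (α : Type) [Fintype α] [DecidableEq α] : Type :=
  {z : Perm α // (∀ a, z (z a) = a) ∧ ∀ a, z a ≠ a}

theorem odd_card_FI : ∀ (m : ℕ) (α : Type) [Fintype α] [DecidableEq α],
    Fintype.card α = 2 * m → Odd (Nat.card (FI α)) := by
  intro m
  induction m with
  | zero =>
    intro α _ _ h
    have : IsEmpty α := Fintype.card_eq_zero_iff.1 (by omega)
    have hu : Nat.card (FI α) = 1 := by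
      rw [Nat.card_eq_one_iff_unique]
      exact ⟨⟨fun u v => Subtype.ext (Subsingleton.elim _ _)⟩,
        ⟨⟨1, fun a => isEmptyElim a, fun a => isEmptyElim a⟩⟩⟩
    rw [hu]; exact odd_one
  | succ m ih =>
    intro α _ _ h
    obtain ⟨a, b, hab⟩ := Fintype.exists_pair_of_one_lt_card (α := α) (by omega)
    let t : Perm α := Equiv.swap a b
    have htt : ∀ c, t (t c) = c := fun c => Equiv.swap_apply_self a b c
    let conj : FI α → FI α := fun z => ⟨t * z.1 * t, fun c => by
      simp only [Perm.mul_apply, htt, z.2.1], fun c => by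
      intro hc
      simp only [Perm.mul_apply] at hc
      have := congrArg t hc
      rw [htt] at this
      exact z.2.2 _ this⟩
    have hinv : Function.Involutive conj := fun z => Subtype.ext (Equiv.ext fun c => by
      simp only [conj, Perm.mul_apply, htt])
    have hfx : ∀ z : FI α, conj z = z ↔ z.1 a = b := by
      intro z
      constructor
      · intro hz
        have h1 : ∀ c, t (z.1 (t c)) = z.1 c := fun c => by
          have := Equiv.ext_iff.1 (congrArg Subtype.val hz) c
          simpa [conj] using this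
        by_contra hzb
        have h2 := h1 a
        have hza := z.2.2 a
        have h3 : t (z.1 b) = z.1 a := by simpa [t] using h2
        have h4 := congrArg t h3
        rw [htt] at h4
        rw [show t (z.1 a) = z.1 a from Equiv.swap_apply_of_ne_of_ne hza hzb] at h4
        exact hab (z.1.injective h4.symm)
      · intro hz
        have hzb : z.1 b = a := by rw [← hz, z.2.1]
        apply Subtype.ext; apply Equiv.ext; intro c
        simp only [conj, Perm.mul_apply]
        rcases eq_or_ne c a with rfl | hca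
        · simp [t, hz, hzb]
        rcases eq_or_ne c b with rfl | hcb
        · simp [t, hz, hzb]
        rw [show t c = c from Equiv.swap_apply_of_ne_of_ne hca hcb]
        refine Equiv.swap_apply_of_ne_of_ne ?_ ?_
        · intro e; exact hcb (z.1.injective (e.trans hzb.symm))
        · intro e; exact hca (z.1.injective (e.trans hz.symm))
    let β := {c : α // c ≠ a ∧ c ≠ b}
    have hcardβ : Fintype.card β = 2 * m := by
      rw [Fintype.card_subtype]
      have : (Finset.univ.filter fun c => c ≠ a ∧ c ≠ b) = Finset.univ \ {a, b} := by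
        ext c; simp
      rw [this, Finset.card_univ_diff, Finset.card_pair hab]
      omega
    let e : {z : FI α // conj z = z} ≃ FI β :=
      { toFun := fun z =>
          have hz : z.1.1 a = b := (hfx z.1).1 z.2
          ⟨z.1.1.subtypePerm (p := fun c => c ≠ a ∧ c ≠ b) (fun c => by
              have hzb : z.1.1 b = a := by rw [← hz, z.1.2.1]
              constructor
              · rintro ⟨h1, h2⟩
                exact ⟨fun e => h2 (by rw [e, hz]), fun e => h1 (by rw [e, hzb])⟩
              · rintro ⟨h1, h2⟩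
                exact ⟨fun e => h2 (z.1.1.injective (e.trans hzb.symm)),
                  fun e => h1 (z.1.1.injective (e.trans hz.symm))⟩),
            fun c => Subtype.ext (z.1.2.1 _), fun c e => z.1.2.2 _ (congrArg Subtype.val e)⟩
        invFun := fun w =>
          ⟨⟨t * Perm.ofSubtype w.1, fun c => by
              by_cases hc : c ≠ a ∧ c ≠ b
              · have h1 := (w.1 ⟨c, hc⟩).2
                simp [Perm.ofSubtype_apply_of_mem w.1 hc,
                  show t (w.1 ⟨c, hc⟩) = _ from Equiv.swap_apply_of_ne_of_ne h1.1 h1.2,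
                  Perm.ofSubtype_apply_of_mem w.1 h1, w.2.1, t,
                  Equiv.swap_apply_of_ne_of_ne hc.1 hc.2]
              · have h1 : ∀ d, ¬(d ≠ a ∧ d ≠ b) → Perm.ofSubtype w.1 d = d :=
                  fun d hd => Perm.ofSubtype_apply_of_not_mem w.1 hd
                have hc2 : ¬(t c ≠ a ∧ t c ≠ b) := by
                  rcases not_and_or.1 hc with h | h <;> (rw [not_ne_iff] at h; subst h; simp [t])
                simp only [Perm.mul_apply, h1 c hc, h1 _ hc2, htt],
            fun c => by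
              by_cases hc : c ≠ a ∧ c ≠ b
              · have h1 := (w.1 ⟨c, hc⟩).2
                simp only [Perm.mul_apply, Perm.ofSubtype_apply_of_mem w.1 hc,
                  show t (w.1 ⟨c, hc⟩) = _ from Equiv.swap_apply_of_ne_of_ne h1.1 h1.2]
                exact fun e => w.2.2 ⟨c, hc⟩ (Subtype.ext e)
              · simp only [Perm.mul_apply, Perm.ofSubtype_apply_of_not_mem w.1 hc]
                rcases not_and_or.1 hc with h | h <;> (rw [not_ne_iff] at h; subst h)
                · simp [t, hab.symm]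
                · simp [t, hab]⟩,
           (hfx _).2 (by
              show t (Perm.ofSubtype w.1 a) = b
              rw [Perm.ofSubtype_apply_of_not_mem (p := fun c => c ≠ a ∧ c ≠ b) w.1 (by simp)]
              simp [t])⟩
        left_inv := fun z => by
          have hz : z.1.1 a = b := (hfx z.1).1 z.2
          have hzb : z.1.1 b = a := by rw [← hz, z.1.2.1]
          apply Subtype.ext; apply Subtype.ext; apply Equiv.ext; intro c
          by_cases hc : c ≠ a ∧ c ≠ b
          · simp only [Perm.mul_apply]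
            rw [Perm.ofSubtype_apply_of_mem (p := fun c => c ≠ a ∧ c ≠ b) _ hc]
            exact Equiv.swap_apply_of_ne_of_ne (fun e => hc.2 (z.1.1.injective (e.trans hzb.symm)))
              (fun e => hc.1 (z.1.1.injective (e.trans hz.symm)))
          · simp only [Perm.mul_apply]
            rw [Perm.ofSubtype_apply_of_not_mem (p := fun c => c ≠ a ∧ c ≠ b) _ hc]
            rcases not_and_or.1 hc with h | h <;> (rw [not_ne_iff] at h; subst h; simp [t, hz, hzb])
        right_inv := fun w => by
          apply Subtype.ext; apply Equiv.ext; intro c; apply Subtype.ext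
          show t (Perm.ofSubtype w.1 c.1) = (w.1 c).1
          rw [Perm.ofSubtype_apply_coe]
          exact Equiv.swap_apply_of_ne_of_ne (w.1 c).2.1 (w.1 c).2.2 }
    have : Finite (FI α) := by unfold FI; infer_instance
    have hodd : Odd (Nat.card {z : FI α // conj z = z}) := by
      rw [Nat.card_congr e]; exact ih β hcardβ
    let f : Perm (FI α) := hinv.toPerm conj
    have hf2 : f ^ 2 = 1 := Equiv.ext fun z => hinv z
    have hp : IsPGroup 2 ↥(Subgroup.zpowers f) := by
      intro g
      refine ⟨1, ?_⟩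
      obtain ⟨k, hk⟩ := g.2
      apply Subtype.ext
      rw [pow_one, SubmonoidClass.coe_pow, ← hk, OneMemClass.coe_one]
      show (f ^ k) ^ 2 = 1
      rw [← zpow_natCast, ← zpow_mul, mul_comm, zpow_mul]
      simp [hf2]
    have hmod := hp.card_modEq_card_fixedPoints (p := 2) (FI α)
    have hfe : Nat.card (MulAction.fixedPoints ↥(Subgroup.zpowers f) (FI α)) =
        Nat.card {z : FI α // conj z = z} := by
      refine Nat.card_congr (Equiv.subtypeEquivRight fun z => ?_)
      constructor
      · intro hz; exact hz ⟨f, Subgroup.mem_zpowers f⟩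
      · rintro hz ⟨g, k, rfl⟩
        show (f ^ k) z = z
        exact Perm.zpow_apply_eq_self_of_apply_eq_self hz k
    rw [hfe] at hmod
    rw [Nat.odd_iff] at hodd ⊢
    rw [hmod, hodd]

theorem exists_FI_comm {m : ℕ} (hm : Fintype.card α = 2 * m) {R : Subgroup (Perm α)}
    (hR : IsPGroup 2 R) : ∃ z : FI α, ∀ g ∈ R, ∀ a, g (z.1 a) = z.1 (g a) := by
  let act : MulAction ↥R (FI α) :=
    { smul := fun g z => ⟨g.1 * z.1 * g.1⁻¹, fun c => by simp [z.2.1], fun c hc => by
        simp only [Perm.mul_apply] at hc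
        apply z.2.2 (g.1⁻¹ c)
        apply g.1.injective
        rw [hc]; simp⟩
      one_smul := fun z => Subtype.ext (by
        show (1 : Perm α) * z.1 * 1⁻¹ = z.1
        simp)
      mul_smul := fun g g' z => Subtype.ext (by
        show (g.1 * g'.1) * z.1 * (g.1 * g'.1)⁻¹ = g.1 * (g'.1 * z.1 * g'.1⁻¹) * g.1⁻¹
        group) }
  have : Finite (FI α) := by unfold FI; infer_instance
  have hne := hR.nonempty_fixed_point_of_prime_not_dvd_card (p := 2) (FI α) (by
    have := odd_card_FI m α hm
    rw [Nat.odd_iff] at this; omega)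
  obtain ⟨z, hz⟩ := hne
  refine ⟨z, fun g hg a => ?_⟩
  have h : g * z.1 * g⁻¹ = z.1 := congrArg Subtype.val (hz ⟨g, hg⟩)
  have h2 := Equiv.ext_iff.1 h (g a)
  simpa using h2

theorem SP_apply {x z : Perm α} (hc : ∀ a, x (z a) = z (x a)) (a : α) : SP x a (z a) := by
  intro k
  have : ∀ k : ℕ, (x ^ k) (z a) = z ((x ^ k) a) := by
    intro k
    induction k with
    | zero => rfl
    | succ k ih => simp only [pow_succ', Perm.mul_apply, ih, hc]
  rw [this k]
  exact ⟨fun h => by rw [h], fun h => z.injective h⟩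

theorem pow_fix_iff {x : Perm α} {a : α} (k : ℕ) :
    (x ^ k) a = a ↔ Function.minimalPeriod x a ∣ k := by
  rw [← Function.isPeriodicPt_iff_minimalPeriod_dvd, Function.IsPeriodicPt,
    Function.IsFixedPt, Perm.coe_pow]

/-- A point moved by `x`, of which `z` is a commuting fixed-point-free involution. -/
theorem z_val {x z : Perm α} (hD : Dis x) (hc : ∀ a, x (z a) = z (x a)) (hzz : ∀ a, z (z a) = a)
    (hzf : ∀ a, z a ≠ a) {a : α} (ha : x a ≠ a) :
    ∃ j : ℕ, (x ^ j) a = z a ∧ (x ^ (2 * j)) a = a := by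
  obtain ⟨j, -, hj⟩ := (hD.2 a (z a) ha (SP_apply hc a)).exists_pow_eq'
  refine ⟨j, hj, ?_⟩
  have : ∀ k : ℕ, (x ^ k) (z a) = z ((x ^ k) a) := by
    intro k
    induction k with
    | zero => rfl
    | succ k ih => simp only [pow_succ', Perm.mul_apply, ih, hc]
  rw [two_mul, pow_add, Perm.mul_apply, hj, this, hj, hzz]

theorem half_unique {x : Perm α} {a : α} {i j : ℕ} (hi : (x ^ (2 * i)) a = a)
    (hj : (x ^ (2 * j)) a = a) (hi' : (x ^ i) a ≠ a) (hj' : (x ^ j) a ≠ a) :
    (x ^ i) a = (x ^ j) a := by
  rw [ne_eq, pow_fix_iff] at hi' hj'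
  rw [pow_fix_iff] at hi hj
  set L := Function.minimalPeriod x a with hL
  obtain ⟨u, hu⟩ := hi
  obtain ⟨v, hv⟩ := hj
  have hu' : Odd u := by
    by_contra h
    rw [Nat.not_odd_iff_even] at h
    obtain ⟨w, rfl⟩ := h
    exact hi' ⟨w, by rw [Nat.mul_add] at hu; omega⟩
  have hv' : Odd v := by
    by_contra h
    rw [Nat.not_odd_iff_even] at h
    obtain ⟨w, rfl⟩ := h
    exact hj' ⟨w, by rw [Nat.mul_add] at hv; omega⟩
  obtain ⟨w, hw⟩ := hu'.add_odd hv'
  have hdvd : L ∣ i + j := ⟨w, by
    have : L * u + L * v = L * w + L * w := by rw [← Nat.mul_add, hw, Nat.mul_add]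
    omega⟩
  rw [hL, ← pow_fix_iff, pow_add, Perm.mul_apply] at hdvd
  have h2 : (x ^ i) ((x ^ i) a) = a := by
    rw [← Perm.mul_apply, ← pow_add, pow_fix_iff, ← hL]
    exact ⟨u, by omega⟩
  exact (x ^ i).injective (h2.trans hdvd.symm)

theorem z_unique {x : Perm α} (hD : Dis x) (z w : FI α) (hz : ∀ a, x (z.1 a) = z.1 (x a))
    (hw : ∀ a, x (w.1 a) = w.1 (x a)) : z = w := by
  apply Subtype.ext; apply Equiv.ext; intro a
  by_cases ha : x a = a
  · have h1 : x (z.1 a) = z.1 a := by rw [hz, ha]
    have h2 : x (w.1 a) = w.1 a := by rw [hw, ha]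
    rcases hD.1 a (z.1 a) (w.1 a) ha h1 h2 with e | e | e
    · exact absurd e.symm (z.2.2 a)
    · exact absurd e.symm (w.2.2 a)
    · exact e
  · obtain ⟨i, hi, hi2⟩ := z_val hD hz z.2.1 z.2.2 ha
    obtain ⟨j, hj, hj2⟩ := z_val hD hw w.2.1 w.2.2 ha
    rw [← hi, ← hj]
    exact half_unique hi2 hj2 (by rw [hi]; exact z.2.2 a) (by rw [hj]; exact w.2.2 a)

/-- A homomorphism with 2-group kernel to a group where the join is a 2-group. -/
theorem join_of_hom {β : Type} [Fintype β] [DecidableEq β] (C : Subgroup (Perm α))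
    (φ : ↥C →* Perm β) (hker : IsPGroup 2 φ.ker) (x : Perm α) (hxC : x ∈ C)
    (hU : Un (φ ⟨x, hxC⟩)) {R₁ R₂ : Subgroup (Perm α)} (h₁ : IsPGroup 2 R₁) (h₂ : IsPGroup 2 R₂)
    (hx₁ : x ∈ R₁) (hx₂ : x ∈ R₂) (hC₁ : R₁ ≤ C) (hC₂ : R₂ ≤ C) :
    IsPGroup 2 ↥(R₁ ⊔ R₂) := by
  have key : ∀ {R : Subgroup (Perm α)}, IsPGroup 2 R → R ≤ C →
      IsPGroup 2 ↥((R.subgroupOf C).map φ) := fun hR hle =>
    (hR.of_equiv (Subgroup.subgroupOfEquivOfLe hle).symm).map φ
  have hJ := hU _ _ (key h₁ hC₁) (key h₂ hC₂) ⟨⟨x, hxC⟩, hx₁, rfl⟩ ⟨⟨x, hxC⟩, hx₂, rfl⟩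
  have hJ' := hJ.comap_of_ker_isPGroup φ hker
  have hle : R₁ ⊔ R₂ ≤ (((R₁.subgroupOf C).map φ ⊔ (R₂.subgroupOf C).map φ).comap φ).map C.subtype := by
    refine sup_le ?_ ?_
    · intro g hg
      exact ⟨⟨g, hC₁ hg⟩, Subgroup.mem_sup_left ⟨⟨g, hC₁ hg⟩, hg, rfl⟩, rfl⟩
    · intro g hg
      exact ⟨⟨g, hC₂ hg⟩, Subgroup.mem_sup_right ⟨⟨g, hC₂ hg⟩, hg, rfl⟩, rfl⟩
  exact (hJ'.map C.subtype).to_le hle

theorem dis_un : ∀ (n : ℕ) (α : Type) [Fintype α] [DecidableEq α], Fintype.card α = n →
    ∀ x : Perm α, Dis x → Un x := by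
  intro n
  induction n using Nat.strong_induction_on with
  | _ n ih =>
  intro α _ _ hn x hD R₁ R₂ h₁ h₂ hx₁ hx₂
  rcases Nat.eq_zero_or_pos n with rfl | hpos
  · have : IsEmpty α := Fintype.card_eq_zero_iff.1 hn
    intro g
    exact ⟨0, Subsingleton.elim _ _⟩
  rcases Nat.even_or_odd' n with ⟨m, hm | hm⟩
  · -- even degree
    have hcard : Fintype.card α = 2 * m := hn.trans hm
    obtain ⟨z, hz⟩ := exists_FI_comm hcard h₁
    obtain ⟨w, hw⟩ := exists_FI_comm hcard h₂
    obtain rfl : z = w := z_unique hD z w (hz x hx₁) (hw x hx₂)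
    obtain ⟨z, hzz, hzf⟩ := z
    simp only at hz hw
    let s : Setoid α :=
      { r := fun a b => b = a ∨ b = z a
        iseqv := ⟨fun a => Or.inl rfl, by
          rintro a b (rfl | rfl)
          · exact Or.inl rfl
          · exact Or.inr (hzz a).symm, by
          rintro a b c (rfl | rfl) (rfl | rfl)
          · exact Or.inl rfl
          · exact Or.inr rfl
          · exact Or.inr rfl
          · exact Or.inl (hzz a)⟩ }
    let C : Subgroup (Perm α) := Subgroup.centralizer {z}
    have hC : ∀ {g : Perm α}, g ∈ C → ∀ a, g (z a) = z (g a) := by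
      intro g hg a
      exact (Equiv.ext_iff.1 (Subgroup.mem_centralizer_iff.1 hg z rfl) a).symm
    have hC' : ∀ {g : Perm α}, (∀ a, g (z a) = z (g a)) → g ∈ C := by
      intro g hg
      refine Subgroup.mem_centralizer_iff.2 fun h hh => ?_
      rw [Set.mem_singleton_iff] at hh; subst hh
      exact Equiv.ext fun a => (hg a).symm
    classical
    let β := Quotient s
    let fm : ↥C → β → β := fun g => Quotient.map' g.1 (fun a b (hab : b = a ∨ b = z a) => by
      show g.1 b = g.1 a ∨ g.1 b = z (g.1 a)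
      rcases hab with rfl | rfl
      · exact Or.inl rfl
      · exact Or.inr (hC g.2 a))
    let φ : ↥C →* Perm β :=
      { toFun := fun g => ⟨fm g, fm g⁻¹, fun q => Quotient.inductionOn' q fun a => by
            show Quotient.mk'' (g.1⁻¹ (g.1 a)) = Quotient.mk'' a
            simp, fun q => Quotient.inductionOn' q fun a => by
            show Quotient.mk'' (g.1 (g.1⁻¹ a)) = Quotient.mk'' a
            simp⟩
        map_one' := Equiv.ext fun q => Quotient.inductionOn' q fun a => rfl
        map_mul' := fun g g' => Equiv.ext fun q => Quotient.inductionOn' q fun a => rfl }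
    have hker : IsPGroup 2 φ.ker := by
      intro g
      refine ⟨1, ?_⟩
      have hg : ∀ a, g.1.1 a = a ∨ g.1.1 a = z a := fun a => by
        have := Equiv.ext_iff.1 g.2 (Quotient.mk'' a)
        rcases (Quotient.eq'' (s₁ := s)).1 this.symm with h | h
        · exact Or.inl h
        · exact Or.inr h
      apply Subtype.ext; apply Subtype.ext; apply Equiv.ext; intro a
      show ((g.1.1) ^ (2 ^ 1)) a = a
      rw [pow_one, pow_two, Perm.mul_apply]
      rcases hg a with h | h
      · rw [h, h]
      · rw [h, hC g.1.2, h, hzz]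
    have hxC : x ∈ C := hC' (hz x hx₁)
    refine join_of_hom C φ hker x hxC ?_ h₁ h₂ hx₁ hx₂ (fun g hg => hC' (hz g hg))
      (fun g hg => hC' (hw g hg))
    have hβ : Fintype.card β < n := by
      rw [← hn]
      obtain ⟨a⟩ : Nonempty α := Fintype.card_pos_iff.1 (by omega)
      refine Fintype.card_lt_of_surjective_not_injective (Quotient.mk'' : α → β)
        Quotient.mk''_surjective fun hinj => hzf a ?_
      exact (hinj (Quotient.eq''.2 (Or.inr rfl : z a = a ∨ z a = z a))).symm
    refine ih _ hβ β rfl _ ?_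
    have hxz : ∀ a, x (z a) = z (x a) := hC hxC
    have hpow : ∀ (k : ℕ) (a : α), ((φ ⟨x, hxC⟩) ^ k) (Quotient.mk'' a) =
        Quotient.mk'' ((x ^ k) a) := by
      intro k a
      induction k with
      | zero => rfl
      | succ k ih => rw [pow_succ', Perm.mul_apply, ih, pow_succ', Perm.mul_apply]; rfl
    have hcls : ∀ (k : ℕ) (a : α), x a ≠ a →
        (((φ ⟨x, hxC⟩) ^ k) (Quotient.mk'' a) = Quotient.mk'' a ↔ (x ^ (2 * k)) a = a) := by
      intro k a ha
      obtain ⟨j, hj, hj2⟩ := z_val hD hxz hzz hzf ha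
      rw [hpow, eq_comm, Quotient.eq'']
      show ((x ^ k) a = a ∨ (x ^ k) a = z a) ↔ _
      constructor
      · rintro (h | h)
        · rw [pow_fix_iff] at h ⊢; exact dvd_mul_of_dvd_right h 2
        · have hpz : ∀ i : ℕ, (x ^ i) (z a) = z ((x ^ i) a) := by
            intro i
            induction i with
            | zero => rfl
            | succ i ih => simp only [pow_succ', Perm.mul_apply, ih, hxz]
          rw [two_mul, pow_add, Perm.mul_apply, h, hpz, h, hzz]
      · intro h
        by_cases hk : (x ^ k) a = a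
        · exact Or.inl hk
        · exact Or.inr ((half_unique h hj2 hk (by rw [hj]; exact hzf a)).trans hj)
    have hfix : ∀ a, x a ≠ a → φ ⟨x, hxC⟩ (Quotient.mk'' a) = Quotient.mk'' a →
        (x ^ 2) a = a := fun a ha h => (hcls 1 a ha).1 (by rwa [pow_one])
    refine ⟨?_, ?_⟩
    · intro q₁ q₂ q₃ f₁ f₂ f₃
      induction q₁ using Quotient.inductionOn' with | _ a => ?_
      induction q₂ using Quotient.inductionOn' with | _ b => ?_
      induction q₃ using Quotient.inductionOn' with | _ c => ?_
      have hA : ∀ a b, x a = a → x b = b →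
          (Quotient.mk'' a : β) = Quotient.mk'' b := by
        intro a b ha hb
        rcases hD.1 a (z a) b ha (by rw [hxz, ha]) hb with e | e | e
        · exact absurd e.symm (hzf a)
        · rw [e]
        · exact Quotient.eq''.2 (Or.inr e.symm)
      have hB : ∀ a b, x a ≠ a → x b ≠ b → (x ^ 2) a = a → (x ^ 2) b = b →
          φ ⟨x, hxC⟩ (Quotient.mk'' a) = Quotient.mk'' a →
          (Quotient.mk'' a : β) = Quotient.mk'' b := by
        intro a b ha hb ha2 hb2 hfa
        have hsp : SP x a b := fun k => by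
          have ha1 : Function.minimalPeriod x a ∣ 2 := (pow_fix_iff 2).1 ha2
          have hb1 : Function.minimalPeriod x b ∣ 2 := (pow_fix_iff 2).1 hb2
          have hane : Function.minimalPeriod x a ≠ 1 := fun h =>
            ha (Function.minimalPeriod_eq_one_iff_isFixedPt.1 h)
          have hbne : Function.minimalPeriod x b ≠ 1 := fun h =>
            hb (Function.minimalPeriod_eq_one_iff_isFixedPt.1 h)
          rw [pow_fix_iff, pow_fix_iff, ((Nat.dvd_prime Nat.prime_two).1 ha1).resolve_left hane,
            ((Nat.dvd_prime Nat.prime_two).1 hb1).resolve_left hbne]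
        obtain ⟨j, -, hj⟩ := (hD.2 a b ha hsp).exists_pow_eq'
        rw [← hj, ← hpow]
        exact (Perm.pow_apply_eq_self_of_apply_eq_self hfa j).symm
      by_cases ha : x a = a <;> by_cases hb : x b = b <;> by_cases hc : x c = c
      · exact Or.inl (hA a b ha hb)
      · exact Or.inl (hA a b ha hb)
      · exact Or.inr (Or.inl (hA a c ha hc))
      · exact Or.inr (Or.inr (hB b c hb hc (hfix b hb f₂) (hfix c hc f₃) f₂))
      · exact Or.inr (Or.inr (hA b c hb hc))
      · exact Or.inr (Or.inl (hB a c ha hc (hfix a ha f₁) (hfix c hc f₃) f₁))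
      · exact Or.inl (hB a b ha hb (hfix a ha f₁) (hfix b hb f₂) f₁)
      · exact Or.inl (hB a b ha hb (hfix a ha f₁) (hfix b hb f₂) f₁)
    · intro q₁ q₂
      induction q₁ using Quotient.inductionOn' with | _ a => ?_
      induction q₂ using Quotient.inductionOn' with | _ b => ?_
      intro hq hsp
      have ha : x a ≠ a := fun h => hq (congrArg Quotient.mk'' h)
      have hb : x b ≠ b := fun h => by
        apply hq
        have := (hsp 1).2 (by rw [pow_one]; exact congrArg Quotient.mk'' h)
        rwa [pow_one] at this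
      have h2 : ∀ k, (x ^ (2 * k)) a = a ↔ (x ^ (2 * k)) b = b := fun k => by
        rw [← hcls k a ha, ← hcls k b hb]; exact hsp k
      have hev : ∀ c, x c ≠ c → 2 ∣ Function.minimalPeriod x c := by
        intro c hc
        obtain ⟨j, hj, hj2⟩ := z_val hD hxz hzz hzf hc
        rw [pow_fix_iff] at hj2
        by_contra h
        have : Function.minimalPeriod x c ∣ j :=
          ((Nat.prime_two.coprime_iff_not_dvd.2 h).symm).dvd_of_dvd_mul_left hj2
        rw [← pow_fix_iff, hj] at this
        exact hzf c this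
      have hsp' : SP x a b := fun k => by
        rw [pow_fix_iff, pow_fix_iff]
        have : Function.minimalPeriod x a = Function.minimalPeriod x b := by
          apply Nat.dvd_antisymm
          · obtain ⟨w, hw⟩ := hev b hb
            rw [hw, ← pow_fix_iff, h2, pow_fix_iff, hw]
          · obtain ⟨w, hw⟩ := hev a ha
            rw [hw, ← pow_fix_iff, ← h2, pow_fix_iff, hw]
        rw [this]
      obtain ⟨j, -, hj⟩ := (hD.2 a b ha hsp').exists_pow_eq'
      exact ⟨j, by rw [zpow_natCast, hpow, hj]⟩
  · -- odd degree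
    have fixed : ∀ {R : Subgroup (Perm α)}, IsPGroup 2 R → x ∈ R →
        ∃ p, (∀ g ∈ R, g p = p) ∧ x p = p := by
      intro R hR hxR
      obtain ⟨p, hp⟩ := hR.nonempty_fixed_point_of_prime_not_dvd_card (p := 2) α (by
        rw [Nat.card_eq_fintype_card, hn, hm]; omega)
      exact ⟨p, fun g hg => hp ⟨g, hg⟩, hp ⟨x, hxR⟩⟩
    obtain ⟨p, hp, hxp⟩ := fixed h₁ hx₁
    obtain ⟨p', hp', hxp'⟩ := fixed h₂ hx₂
    obtain rfl : p = p' := by
      by_contra hne
      have hfin : (Finset.univ.filter fun c => x c = c) = {p, p'} := by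
        ext c
        simp only [Finset.mem_filter, Finset.mem_univ, true_and, Finset.mem_insert,
          Finset.mem_singleton]
        constructor
        · intro hc
          rcases hD.1 p p' c hxp hxp' hc with e | e | e
          · exact absurd e hne
          · exact Or.inl e.symm
          · exact Or.inr e.symm
        · rintro (rfl | rfl) <;> assumption
      let γ := {c : α // x c ≠ c}
      have hγ : Fintype.card γ = n - 2 := by
        rw [Fintype.card_subtype_compl, Fintype.card_subtype, hfin, Finset.card_pair hne, hn]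
      have hS : IsPGroup 2 ↥(Subgroup.zpowers x) :=
        h₁.to_le ((Subgroup.zpowers_le).2 hx₁)
      have hmod := hS.card_modEq_card_fixedPoints (p := 2) α
      have hfe : Nat.card (MulAction.fixedPoints ↥(Subgroup.zpowers x) α) = 2 := by
        rw [Nat.card_congr (Equiv.subtypeEquivRight (q := fun c => x c = c) fun c => ?_),
          Nat.card_eq_fintype_card, Fintype.card_subtype, hfin, Finset.card_pair hne]
        constructor
        · intro hc; exact hc ⟨x, Subgroup.mem_zpowers x⟩
        · rintro hc ⟨g, k, rfl⟩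
          exact Perm.zpow_apply_eq_self_of_apply_eq_self hc k
      rw [hfe, Nat.card_eq_fintype_card, hn, hm] at hmod
      rw [Nat.ModEq] at hmod; omega
    let C : Subgroup (Perm α) := MulAction.stabilizer (Perm α) p
    have hmove : ∀ g : ↥C, ∀ c, g.1 c ≠ p ↔ c ≠ p := fun g c => by
      have hgp : g.1 p = p := g.2
      exact not_congr ⟨fun h => g.1.injective (h.trans hgp.symm), fun h => by rw [h, hgp]⟩
    let φ : ↥C →* Perm {c : α // c ≠ p} :=
      { toFun := fun g => g.1.subtypePerm (hmove g)
        map_one' := Equiv.ext fun c => rfl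
        map_mul' := fun g g' => Equiv.ext fun c => rfl }
    have hker : IsPGroup 2 φ.ker := by
      intro g
      refine ⟨0, ?_⟩
      rw [pow_zero, pow_one]
      apply Subtype.ext; apply Subtype.ext; apply Equiv.ext; intro c
      rcases eq_or_ne c p with rfl | hc
      · exact g.1.2
      · exact congrArg Subtype.val (Equiv.ext_iff.1 g.2 ⟨c, hc⟩)
    refine join_of_hom C φ hker x hxp ?_ h₁ h₂ hx₁ hx₂ (fun g hg => hp g hg)
      (fun g hg => hp' g hg)
    refine ih (n - 1) (by omega) _ ?_ _ ?_
    · rw [Fintype.card_subtype_compl, Fintype.card_subtype_eq, hn]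
    have hpow : ∀ (k : ℕ) (c : {c : α // c ≠ p}),
        (((φ ⟨x, hxp⟩) ^ k) c).1 = (x ^ k) c.1 := by
      intro k c
      induction k with
      | zero => rfl
      | succ k ih =>
        rw [pow_succ', Perm.mul_apply, pow_succ', Perm.mul_apply, ← ih]; rfl
    refine ⟨fun a b c ha hb hc => ?_, fun a b ha hsp => ?_⟩
    · rcases hD.1 a.1 b.1 c.1 (congrArg Subtype.val ha) (congrArg Subtype.val hb)
        (congrArg Subtype.val hc) with e | e | e
      · exact Or.inl (Subtype.ext e)
      · exact Or.inr (Or.inl (Subtype.ext e))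
      · exact Or.inr (Or.inr (Subtype.ext e))
    · have hsp' : SP x a.1 b.1 := fun k => by
        rw [← hpow k a, ← hpow k b, ← Subtype.ext_iff, ← Subtype.ext_iff]; exact hsp k
      obtain ⟨j, -, hj⟩ :=
        (hD.2 a.1 b.1 (fun h => ha (Subtype.ext h)) hsp').exists_pow_eq'
      exact ⟨j, Subtype.ext (by rw [zpow_natCast, hpow, hj])⟩

theorem swap_join {x : Perm α} (hx : IsPGroup 2 ↥(Subgroup.zpowers x)) {a b : α}
    (hab : ¬ x.SameCycle a b) (hsp : SP x a b) :
    ∃ R : Subgroup (Perm α), IsPGroup 2 R ∧ x ∈ R ∧ Equiv.swap a b ∈ R := by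
  let T : Set (Perm α) := {g | ∃ k : ℕ, g = Equiv.swap ((x ^ k) a) ((x ^ k) b)}
  let E := Subgroup.closure T
  have hne : ∀ i j : ℕ, (x ^ i) a ≠ (x ^ j) b := fun i j e => hab <| by
    have h1 : x.SameCycle a ((x ^ i) a) := Perm.SameCycle.pow_right (Perm.SameCycle.refl x a)
    rw [e] at h1
    exact Perm.SameCycle.of_pow_right h1
  have hsame : ∀ i j : ℕ, (x ^ i) a = (x ^ j) a ↔ (x ^ i) b = (x ^ j) b := by
    intro i j
    wlog h : i ≤ j generalizing i j
    · rw [eq_comm, this j i (by omega), eq_comm]
    obtain ⟨d, rfl⟩ := Nat.exists_eq_add_of_le h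
    simp only [pow_add, Perm.mul_apply, (x ^ i).injective.eq_iff]
    rw [eq_comm, hsp d, eq_comm]
  have hTcomm : ∀ g ∈ T, ∀ g' ∈ T, g * g' = g' * g := by
    rintro g ⟨i, rfl⟩ g' ⟨j, rfl⟩
    by_cases h : (x ^ i) a = (x ^ j) a
    · rw [h, (hsame i j).1 h]
    · have h' : (x ^ i) b ≠ (x ^ j) b := fun e => h ((hsame i j).2 e)
      refine (Perm.Disjoint.commute ?_).eq
      intro c
      by_contra hc
      rw [not_or] at hc
      obtain ⟨h1, h2⟩ := hc
      have e1 : c = (x ^ i) a ∨ c = (x ^ i) b := by
        by_contra e; rw [not_or] at e; exact h1 (Equiv.swap_apply_of_ne_of_ne e.1 e.2)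
      have e2 : c = (x ^ j) a ∨ c = (x ^ j) b := by
        by_contra e; rw [not_or] at e; exact h2 (Equiv.swap_apply_of_ne_of_ne e.1 e.2)
      rcases e1 with rfl | rfl <;> rcases e2 with e | e
      · exact h e
      · exact hne i j e
      · exact hne j i e.symm
      · exact h' e
  have hEc : IsMulCommutative ↥E := Subgroup.isMulCommutative_closure hTcomm
  have hE2 : ∀ g ∈ E, g * g = 1 := by
    intro g hg
    induction hg using Subgroup.closure_induction with
    | mem g hg => obtain ⟨i, rfl⟩ := hg; exact Equiv.swap_mul_self _ _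
    | one => simp
    | mul g g' hg hg' h h' =>
      have hc : g * g' = g' * g := congrArg Subtype.val
        (IsMulCommutative.is_comm.comm (⟨g, hg⟩ : ↥E) ⟨g', hg'⟩)
      calc g * g' * (g * g') = g * g' * (g' * g) := by rw [← hc]
        _ = g * (g' * g') * g := by group
        _ = 1 := by rw [h', mul_one, h]
    | inv g _ h => rw [← mul_inv_rev, h, inv_one]
  have hEp : IsPGroup 2 ↥E := fun g => ⟨1, Subtype.ext (by
    rw [pow_one, pow_two]; exact hE2 g.1 g.2)⟩
  let N : Subgroup (Perm α) := Subgroup.normalizer (E : Set (Perm α))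
  have hxN : x ∈ N := by
    have hsub : E ≤ E.comap (MulAut.conj x).toMonoidHom := (Subgroup.closure_le _).2 (by
      rintro g ⟨i, rfl⟩
      refine Subgroup.subset_closure ⟨i + 1, ?_⟩
      show x * Equiv.swap _ _ * x⁻¹ = _
      rw [← Equiv.swap_apply_apply, pow_succ', Perm.mul_apply, Perm.mul_apply])
    refine Subgroup.mem_normalizer_iff.2 fun h => ⟨fun hh => hsub hh, fun hh => ?_⟩
    have hmap : E.map (MulAut.conj x).toMonoidHom ≤ E := Subgroup.map_le_iff_le_comap.2 hsub
    have hceq : Nat.card ↥E ≤ Nat.card ↥(E.map (MulAut.conj x).toMonoidHom) :=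
      (Nat.card_congr ((Subgroup.equivMapOfInjective E _ (MulAut.conj x).injective).toEquiv)).le
    rw [← Subgroup.eq_of_le_of_card_ge hmap hceq] at hh
    obtain ⟨w, hw, hwe⟩ := hh
    rwa [(MulAut.conj x).injective (hwe : MulAut.conj x w = MulAut.conj x h)] at hw
  refine ⟨Subgroup.zpowers x ⊔ E, IsPGroup.to_sup_of_normal_right' hx hEp
    ((Subgroup.zpowers_le).2 hxN), Subgroup.mem_sup_left (Subgroup.mem_zpowers x),
    Subgroup.mem_sup_right (Subgroup.subset_closure ⟨0, by simp⟩)⟩


/-- Let n ≥ 2 and let x be an element of 2-power order of the symmetric group of degree n. Then x lies in exactly one Sylow 2-subgroup if and only if x has at most two fixed points and the nontrivial cycles of x have pairwise different lengths. -/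
theorem result (n : ℕ) (hn : 2 ≤ n)
    (x : Equiv.Perm (Fin n)) (hx : ∃ k : ℕ, orderOf x = 2 ^ k) :
    (∃! P : Sylow 2 (Equiv.Perm (Fin n)), x ∈ P) ↔ (n ≤ x.support.card + 2 ∧ x.cycleType.Nodup) := by
  obtain ⟨k, hk⟩ := hx
  have hxp : IsPGroup 2 ↥(Subgroup.zpowers x) :=
    IsPGroup.of_card (n := k) (by rw [Nat.card_zpowers, hk])
  have hfix : Finset.univ.filter (fun c => x c = c) = x.supportᶜ := by ext c; simp
  have hcnt : n ≤ x.support.card + 2 ↔
      ∀ a b c : Fin n, x a = a → x b = b → x c = c → a = b ∨ a = c ∨ b = c := by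
    have h1 : n ≤ x.support.card + 2 ↔ x.supportᶜ.card ≤ 2 := by
      have := x.support.card_le_univ
      rw [Fintype.card_fin] at this
      rw [Finset.card_compl, Fintype.card_fin]; omega
    rw [h1, ← not_iff_not]
    simp only [not_le, Finset.two_lt_card_iff, ← hfix, Finset.mem_filter, Finset.mem_univ,
      true_and]
    push Not
    constructor
    · rintro ⟨a, b, c, ha, hb, hc, h⟩; exact ⟨a, b, c, ha, hb, hc, h⟩
    · rintro ⟨a, b, c, ha, hb, hc, h⟩; exact ⟨a, b, c, ha, hb, hc, h⟩
  have hper : ∀ a, x a ≠ a → (x.cycleOf a).support.card = Function.minimalPeriod x a := by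
    intro a ha
    have hc := Equiv.Perm.isCycle_cycleOf x ha
    have hmem : x.cycleOf a a ≠ a := by rwa [Equiv.Perm.cycleOf_apply_self]
    rw [← hc.orderOf]
    refine Nat.dvd_antisymm (orderOf_dvd_of_pow_eq_one ?_) ?_
    · rw [hc.pow_eq_one_iff' hmem, Equiv.Perm.cycleOf_pow_apply_self, pow_fix_iff]
    · rw [← pow_fix_iff, ← Equiv.Perm.cycleOf_pow_apply_self, pow_orderOf_eq_one,
        Equiv.Perm.one_apply]
  have hnd : x.cycleType.Nodup ↔ ∀ a b, x a ≠ a → SP x a b → x.SameCycle a b := by
    rw [Equiv.Perm.cycleType_def, Multiset.nodup_map_iff_inj_on x.cycleFactorsFinset.nodup]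
    simp only [Finset.mem_val, Function.comp]
    constructor
    · intro h a b ha hsp
      have hb : x b ≠ b := fun e => ha (by
        have := (hsp 1).2 (by rwa [pow_one]); rwa [pow_one] at this)
      have hmp : Function.minimalPeriod x a = Function.minimalPeriod x b :=
        Nat.dvd_antisymm (by rw [← pow_fix_iff, hsp, pow_fix_iff])
          (by rw [← pow_fix_iff, ← hsp, pow_fix_iff])
      have he := h (x.cycleOf a)
        (Equiv.Perm.cycleOf_mem_cycleFactorsFinset_iff.2 (Equiv.Perm.mem_support.2 ha))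
        (x.cycleOf b)
        (Equiv.Perm.cycleOf_mem_cycleFactorsFinset_iff.2 (Equiv.Perm.mem_support.2 hb))
        (by rw [hper a ha, hper b hb, hmp])
      by_contra hns
      have := Equiv.ext_iff.1 he b
      rw [Equiv.Perm.cycleOf_apply_self, Equiv.Perm.cycleOf_apply_of_not_sameCycle hns] at this
      exact hb this.symm
    · intro h c hc d hd hcd
      obtain ⟨a, ha⟩ := (Equiv.Perm.mem_cycleFactorsFinset_iff.1 hc).1.nonempty_support
      obtain ⟨b, hb⟩ := (Equiv.Perm.mem_cycleFactorsFinset_iff.1 hd).1.nonempty_support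
      have hca := Equiv.Perm.cycle_is_cycleOf ha hc
      have hdb := Equiv.Perm.cycle_is_cycleOf hb hd
      have ha' : x a ≠ a :=
        Equiv.Perm.mem_support.1 (Equiv.Perm.mem_cycleFactorsFinset_support_le hc ha)
      have hb' : x b ≠ b :=
        Equiv.Perm.mem_support.1 (Equiv.Perm.mem_cycleFactorsFinset_support_le hd hb)
      have hmp : Function.minimalPeriod x a = Function.minimalPeriod x b := by
        rw [← hper a ha', ← hper b hb', ← hca, ← hdb]; exact hcd
      rw [hca, hdb]
      exact (h a b ha' fun k => by rw [pow_fix_iff, pow_fix_iff, hmp]).cycleOf_eq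
  rw [hcnt, hnd]
  constructor
  · rintro ⟨P, hxP, huniq⟩
    have key : ∀ a b c : Fin n, a ≠ c → ¬ x.SameCycle a b → ¬ x.SameCycle c b → SP x a b →
        SP x c b → False := by
      intro a b c hac hab hcb h1 h2
      have hmem : ∀ a, ¬ x.SameCycle a b → SP x a b → Equiv.swap a b ∈ (P : Subgroup _) := by
        intro a hab hsp
        obtain ⟨R, hR, hxR, htR⟩ := swap_join hxp hab hsp
        obtain ⟨Q, hQ⟩ := hR.exists_le_sylow
        have := huniq Q (hQ hxR)
        subst this
        exact hQ htR
      have hm := mul_mem (hmem a hab h1) (hmem c hcb h2)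
      have h3 : Equiv.Perm.IsThreeCycle (Equiv.swap b a * Equiv.swap b c) :=
        Equiv.Perm.isThreeCycle_swap_mul_swap_same
          (fun e => hab (e ▸ Equiv.Perm.SameCycle.refl x _))
          (fun e => hcb (e ▸ Equiv.Perm.SameCycle.refl x _)) hac
      rw [Equiv.swap_comm a b, Equiv.swap_comm c b] at hm
      obtain ⟨e, he⟩ := P.2 ⟨_, hm⟩
      have hdvd := orderOf_dvd_of_pow_eq_one (congrArg Subtype.val he)
      rw [h3.orderOf] at hdvd
      exact absurd (Nat.le_of_dvd (by norm_num) (Nat.prime_three.dvd_of_dvd_pow hdvd)) (by norm_num)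
    refine ⟨fun a b c ha hb hc => ?_, fun a b ha hsp => ?_⟩
    · by_contra h
      push Not at h
      have hs : ∀ u v, x u = u → u ≠ v → ¬ x.SameCycle u v := by
        rintro u v hu huv ⟨i, hi⟩
        exact huv (by rw [← hi, Equiv.Perm.zpow_apply_eq_self_of_apply_eq_self hu i])
      exact key a b c h.2.1 (hs a b ha h.1) (hs c b hc h.2.2.symm)
        (fun k => by simp [Equiv.Perm.pow_apply_eq_self_of_apply_eq_self ha k,
          Equiv.Perm.pow_apply_eq_self_of_apply_eq_self hb k])
        (fun k => by simp [Equiv.Perm.pow_apply_eq_self_of_apply_eq_self hc k,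
          Equiv.Perm.pow_apply_eq_self_of_apply_eq_self hb k])
    · by_contra hns
      refine key a b (x a) (Ne.symm ha) hns (fun h => hns ?_) hsp fun k => ?_
      · exact Equiv.Perm.SameCycle.of_apply_left h
      · rw [← Equiv.Perm.mul_apply, ← pow_succ, pow_succ', Equiv.Perm.mul_apply,
          x.injective.eq_iff]
        exact hsp k
  · intro hD
    obtain ⟨P, hP⟩ := hxp.exists_le_sylow
    refine ⟨P, hP (Subgroup.mem_zpowers x), fun Q hQ => ?_⟩
    have hJ := dis_un n (Fin n) (Fintype.card_fin n) x hD Q P Q.2 P.2 hQ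
      (hP (Subgroup.mem_zpowers x))
    have e1 := Q.3 hJ le_sup_left
    have e2 := P.3 hJ le_sup_right
    exact Sylow.ext (e1.symm.trans e2)

end Cfsg.Agent.S4349
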