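import Cfsg.Statements.S4351
import Cfsg.Agent.Lib.Lie.FPFTop.Top
import Cfsg.Agent.Lib.Lie.FPFTop.CNRadical
import Cfsg.Agent.Lib.Lie.FPFTop.CNAlmost

set_option autoImplicit false
open Cfsg

namespace Cfsg.Agent.S4351

/-- Let G be a finite non-solvable group in which the centralizer of every non-identity element is nilpotent. Then G is a non-abelian simple group; or G has a normal subgroup of index 2 isomorphic to PSL(2, 9); or G has a nontrivial normal elementary abelian 2-subgroup N such that G/N is isomorphic to PSL(2, q) for some q = 2ⁿ ≥ 4 or is a simple group of Suzuki type (simple, of the order of a Suzuki group). -/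
theorem result {G : Type*} [Group G] [Finite G] (hG : ¬ Group.IsSolvable G)
    (hCN : ∀ x : G, x ≠ 1 → Group.IsNilpotent (Subgroup.centralizer ({x} : Set G))) :
    (IsSimpleGroup G ∧ ¬ IsMulCommutative G) ∨
    (∃ (N : Subgroup G), N.Normal ∧ N.index = 2 ∧ ∃ (F : Type) (_ : Field F) (_ : Fintype F), Fintype.card F = 9 ∧
        Nonempty (N ≃* Matrix.ProjectiveSpecialLinearGroup (Fin 2) F)) ∨
    (∃ (N : Subgroup G) (_ : N.Normal), N ≠ ⊥ ∧ IsPGroup 2 N ∧ IsMulCommutative N ∧ (∀ x ∈ N, x * x = 1) ∧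
        ((∃ (F : Type) (_ : Field F) (_ : Fintype F), CharP F 2 ∧ 4 ≤ Fintype.card F ∧
            Nonempty (G ⧸ N ≃* Matrix.ProjectiveSpecialLinearGroup (Fin 2) F)) ∨ Cfsg.IsSuzuki (G ⧸ N))) := by
  classical
  by_cases hrad : ∀ K : Subgroup G, K.Normal → Group.IsSolvable K → K = ⊥
  · exact (Lie.CNTop.almost_simple hCN hG hrad).imp id Or.inl
  push Not at hrad
  obtain ⟨K, hK, hKs, hK1⟩ := hrad
  haveI := hK
  haveI := Fact.mk Nat.prime_two
  have hcore := Lie.CNTop.core_ne_bot hG hCN hKs hK1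
  haveI hn : (Cfsg.pCore 2 G).Normal := Solv.pCore_normal 2
  obtain ⟨h1, h2, h3⟩ := Lie.FPFTop.core_structure (Lie.CNTop.cit_of_core hG hCN hcore) hG hcore
  exact Or.inr (Or.inr ⟨Cfsg.pCore 2 G, hn, hcore, Solv.pCore_isPGroup 2, h1, h2, h3⟩)

end Cfsg.Agent.S4351
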