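import Cfsg.Statements.S4354
import Cfsg.Agent.Lib.Perm.CoprimeClassSizes
import Cfsg.Agent.Lib.Solv.ClassPow
import Cfsg.Agent.Lib.Solv.Parts

set_option autoImplicit false
set_option linter.style.haveILetI false
open Cfsg

namespace Cfsg.Agent.S4354

open Cfsg.Agent.Perm.CoprimeSizes

universe u

/-- Every element of `p`-power order has class size prime to `p`. -/
def PClass (p : ℕ) (G : Type u) [Group G] : Prop :=
  ∀ x : G, (∃ k : ℕ, orderOf x = p ^ k) → ¬ p ∣ (Subgroup.centralizer ({x} : Set G)).index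

variable {G : Type u} [Group G] [Finite G] {p : ℕ} [hp : Fact p.Prime]

theorem pclass_normal (h : PClass p G) (N : Subgroup G) [N.Normal] : PClass p N := by
  intro x hx
  obtain ⟨k, hk⟩ := hx
  have h1 : Subgroup.centralizer ({x} : Set N) = (cent (x : G)).subgroupOf N := by
    ext y
    rw [Subgroup.mem_centralizer_singleton_iff, Subgroup.mem_subgroupOf, mem_cent, Subtype.ext_iff]
    rfl
  rw [h1]
  exact fun hd => h (x : G) ⟨k, by rw [Subgroup.orderOf_coe, hk]⟩
    (hd.trans (Solv.relIndex_dvd_index_normal (cent (x : G)) N))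

theorem exists_lift (N : Subgroup G) [N.Normal] {x : G ⧸ N} (hx : ∃ k : ℕ, orderOf x = p ^ k) :
    ∃ g : G, (∃ k : ℕ, orderOf g = p ^ k) ∧ (g : G ⧸ N) = x := by
  obtain ⟨g, rfl⟩ := QuotientGroup.mk_surjective x
  obtain ⟨a, b, ha, hb, hab, hak, hbk⟩ := Solv.exists_ppart p g
  refine ⟨a, hak, ?_⟩
  obtain ⟨k, hk⟩ := hx
  obtain ⟨j, hj⟩ := Subgroup.mem_zpowers_iff.1 hb
  have hb1 : (b : G ⧸ N) = 1 := by
    rw [← orderOf_eq_one_iff]
    refine Nat.eq_one_of_dvd_coprimes (hbk.pow_right k) (orderOf_map_dvd (QuotientGroup.mk' N) b) ?_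
    rw [← hk, ← hj, QuotientGroup.mk_zpow]
    exact orderOf_dvd_of_mem_zpowers ⟨j, rfl⟩
  rw [← hab, QuotientGroup.mk_mul, hb1, mul_one]

theorem pclass_quotient (h : PClass p G) (N : Subgroup G) [N.Normal] : PClass p (G ⧸ N) := by
  intro x hx hd
  obtain ⟨g, hg, rfl⟩ := exists_lift N hx
  refine h g hg (hd.trans ?_)
  have hle : (cent g).map (QuotientGroup.mk' N) ≤ Subgroup.centralizer ({(g : G ⧸ N)} : Set (G ⧸ N)) := by
    rintro _ ⟨c, hc, rfl⟩
    rw [Subgroup.mem_centralizer_singleton_iff, QuotientGroup.mk'_apply, ← QuotientGroup.mk_mul,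
      ← QuotientGroup.mk_mul, mem_cent.1 hc]
  exact (Subgroup.index_dvd_of_le hle).trans (Subgroup.index_map_dvd _ (QuotientGroup.mk'_surjective N))

theorem exists_sylow_le (h : PClass p G) {x : G} (hx : ∃ k : ℕ, orderOf x = p ^ k) :
    ∃ P : Sylow p G, (P : Subgroup G) ≤ cent x := by
  obtain ⟨T⟩ : Nonempty (Sylow p (cent x)) := inferInstance
  refine ⟨Sylow.ofCard ((T : Subgroup (cent x)).map (cent x).subtype) ?_, Subgroup.map_subtype_le _⟩
  rw [Subgroup.card_subtype, T.card_eq_multiplicity, ← Subgroup.card_mul_index (cent x),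
    Nat.factorization_mul Nat.card_pos.ne' (cls_pos x).ne', Finsupp.add_apply,
    Nat.factorization_eq_zero_of_not_dvd (h x hx), add_zero]

/-- If the Sylow `p`-subgroups of `N` and of `G ⧸ N` are abelian, so are those of `G`. -/
theorem abelian_of_normal (h : PClass p G) (N : Subgroup G) [hN : N.Normal]
    (hNab : ∀ T : Sylow p N, IsMulCommutative T) (hQab : ∀ T : Sylow p (G ⧸ N), IsMulCommutative T)
    (P : Sylow p G) : IsMulCommutative P := by
  classical
  set R := (P : Subgroup G) ⊓ N with hR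
  -- `R` is an abelian Sylow subgroup of `N`
  have hRcard : Nat.card R = p ^ (Nat.card N).factorization p := by
    obtain ⟨j, hj⟩ := IsPGroup.iff_card.1 (P.2.to_le (inf_le_left : R ≤ P))
    have h1 := Subgroup.card_mul_index (R.subgroupOf N)
    rw [Nat.card_congr (Subgroup.subgroupOfEquivOfLe (inf_le_right : R ≤ N)).toEquiv, hj] at h1
    have h2 : ¬ p ∣ (R.subgroupOf N).index := by
      rw [hR, Subgroup.inf_subgroupOf_right]
      exact fun hd => P.not_dvd_index (hd.trans (Solv.relIndex_dvd_index_normal (P : Subgroup G) N))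
    rw [hj, ← h1, Nat.factorization_mul (pow_ne_zero _ hp.out.ne_zero) Subgroup.index_ne_zero_of_finite,
      Finsupp.add_apply, Nat.factorization_eq_zero_of_not_dvd h2, hp.out.factorization_pow,
      Finsupp.single_eq_same, add_zero]
  have hRab : ∀ a ∈ R, ∀ b ∈ R, a * b = b * a := by
    intro a ha b hb
    let T : Sylow p N := Sylow.ofCard (R.subgroupOf N)
      (by rw [Nat.card_congr (Subgroup.subgroupOfEquivOfLe (inf_le_right : R ≤ N)).toEquiv, hRcard])
    have := (hNab T).is_comm.comm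
      ⟨⟨a, (Subgroup.mem_inf.1 ha).2⟩, Subgroup.mem_subgroupOf.2 ha⟩
      ⟨⟨b, (Subgroup.mem_inf.1 hb).2⟩, Subgroup.mem_subgroupOf.2 hb⟩
    exact congrArg (fun z : (T : Subgroup N) => ((z : N) : G)) this
  set C := Subgroup.centralizer (R : Set G) with hC
  set M := Subgroup.normalizer (R : Set G) with hM
  have hRn : ∀ a ∈ (P : Subgroup G), ∀ r ∈ R, a * r * a⁻¹ ∈ R := fun a ha r hr => Subgroup.mem_inf.2
    ⟨mul_mem (mul_mem ha (Subgroup.mem_inf.1 hr).1) (inv_mem ha), hN.conj_mem r (Subgroup.mem_inf.1 hr).2 a⟩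
  have hconjC : ∀ g ∈ M, ∀ c ∈ C, g * c * g⁻¹ ∈ C := by
    intro g hg c hc
    refine Subgroup.mem_centralizer_iff.2 fun r hr => ?_
    have h1 := Subgroup.mem_centralizer_iff.1 hc _
      ((Subgroup.mem_normalizer_iff''.1 hg r).1 hr)
    calc r * (g * c * g⁻¹) = g * (g⁻¹ * r * g * c) * g⁻¹ := by group
      _ = g * c * g⁻¹ * r := by rw [h1]; group
  -- Frattini
  have hfrat : ∀ g : G, ∃ k ∈ N, ∃ m ∈ M, g = k * m := by
    intro g
    have hgR : ∀ r ∈ R, g * r * g⁻¹ ∈ N := fun r hr => hN.conj_mem r (Subgroup.mem_inf.1 hr).2 g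
    let T1 : Sylow p N := Sylow.ofCard (R.subgroupOf N)
      (by rw [Nat.card_congr (Subgroup.subgroupOfEquivOfLe (inf_le_right : R ≤ N)).toEquiv, hRcard])
    let T2 : Sylow p N := Sylow.ofCard ((R.map (MulAut.conj g).toMonoidHom).subgroupOf N) (by
      rw [Nat.card_congr (Subgroup.subgroupOfEquivOfLe (by
          rintro _ ⟨r, hr, rfl⟩; exact hgR r hr)).toEquiv,
        ← Nat.card_congr (Subgroup.equivMapOfInjective R _ (MulAut.conj g).injective).toEquiv, hRcard])
    obtain ⟨k, hk⟩ := MulAction.exists_smul_eq N T1 T2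
    have hk' : (R.subgroupOf N).map (MulAut.conj k).toMonoidHom =
        (R.map (MulAut.conj g).toMonoidHom).subgroupOf N :=
      congrArg (fun T : Sylow p N => (T : Subgroup N)) hk
    refine ⟨k, k.2, (k : G)⁻¹ * g, ?_, (mul_inv_cancel_left _ _).symm⟩
    refine Subgroup.mem_normalizer_iff_map_conj_eq.2 (Subgroup.eq_of_le_of_card_ge ?_
      (Subgroup.card_map_of_injective (MulEquiv.injective _)).ge)
    rintro _ ⟨r, hr, rfl⟩
    have h1 : (⟨g * r * g⁻¹, hgR r hr⟩ : N) ∈ (R.map (MulAut.conj g).toMonoidHom).subgroupOf N :=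
      Subgroup.mem_subgroupOf.2 ⟨r, hr, rfl⟩
    rw [← hk'] at h1
    obtain ⟨y, hy, hye⟩ := h1
    have h2 : (k : G) * y * (k : G)⁻¹ = g * r * g⁻¹ := congrArg Subtype.val hye
    show (k : G)⁻¹ * g * r * ((k : G)⁻¹ * g)⁻¹ ∈ R
    rw [show (k : G)⁻¹ * g * r * ((k : G)⁻¹ * g)⁻¹ = (k : G)⁻¹ * (g * r * g⁻¹) * k by group, ← h2,
      show (k : G)⁻¹ * ((k : G) * y * (k : G)⁻¹) * k = y by group]
    exact Subgroup.mem_subgroupOf.1 hy
  -- `C N` contains all `p`-elements
  have hCN : ∀ x : G, (∃ k : ℕ, orderOf x = p ^ k) → x ∈ C ⊔ N := by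
    intro x hx
    obtain ⟨P', hP'⟩ := exists_sylow_le h hx
    obtain ⟨g, hg⟩ := MulAction.exists_smul_eq G P P'
    obtain ⟨k, hk, m, hm, rfl⟩ := hfrat g
    have h1 : k⁻¹ * x * k ∈ C := by
      refine Subgroup.mem_centralizer_iff.2 fun r hr => ?_
      have hr' : m⁻¹ * r * m ∈ R := (Subgroup.mem_normalizer_iff''.1 hm r).1 hr
      have h2 : (k * m) * (m⁻¹ * r * m) * (k * m)⁻¹ ∈ (P' : Subgroup G) := by
        rw [← hg, Sylow.coe_subgroup_smul]
        exact ⟨_, (Subgroup.mem_inf.1 hr').1, rfl⟩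
      have h3 := mem_cent.1 (hP' h2)
      rw [show (k * m) * (m⁻¹ * r * m) * (k * m)⁻¹ = k * r * k⁻¹ by group] at h3
      calc r * (k⁻¹ * x * k) = k⁻¹ * (k * r * k⁻¹ * x) * k := by group
        _ = k⁻¹ * x * k * r := by rw [h3]; group
    have h4 : x = k * (k⁻¹ * x * k) * k⁻¹ := by group
    rw [h4]
    exact mul_mem (mul_mem (Subgroup.mem_sup_right hk) (Subgroup.mem_sup_left h1))
      (inv_mem (Subgroup.mem_sup_right hk))
  have hPCN : (P : Subgroup G) ≤ C ⊔ N := fun x hx => hCN x (by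
    obtain ⟨k, hk⟩ := IsPGroup.iff_orderOf.1 P.2 ⟨x, hx⟩
    exact ⟨k, by rw [← hk, Subgroup.orderOf_mk]⟩)
  -- so a Sylow subgroup of `G` centralizes `R`, and `R` is central in `P`
  have hfacC : (Nat.card G).factorization p ≤ (Nat.card C).factorization p := by
    have h1 := Solv.card_sup_mul_card_inf N C
    have hRC : R ≤ N ⊓ C := le_inf inf_le_right
      fun a ha => Subgroup.mem_centralizer_iff.2 fun b hb => hRab b hb a ha
    have h2 : (Nat.card N).factorization p ≤ (Nat.card (N ⊓ C : Subgroup G)).factorization p := by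
      rw [← hp.out.pow_dvd_iff_le_factorization Nat.card_pos.ne', ← hRcard]
      exact Subgroup.card_dvd_of_le hRC
    have h3 : (Nat.card G).factorization p ≤ (Nat.card (N ⊔ C : Subgroup G)).factorization p := by
      rw [← hp.out.pow_dvd_iff_le_factorization Nat.card_pos.ne', ← P.card_eq_multiplicity]
      exact Subgroup.card_dvd_of_le (hPCN.trans (sup_comm C N).le)
    have h4 := congrArg (fun a => a.factorization p) h1
    simp only [Nat.factorization_mul Nat.card_pos.ne' Nat.card_pos.ne', Finsupp.add_apply] at h4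
    omega
  have hRcen : ∀ r ∈ R, ∀ a ∈ (P : Subgroup G), a * r = r * a := by
    obtain ⟨T⟩ : Nonempty (Sylow p C) := inferInstance
    have hTc : Nat.card ((T : Subgroup C).map C.subtype) = p ^ (Nat.card G).factorization p := by
      rw [Subgroup.card_subtype, T.card_eq_multiplicity]
      congr 1
      exact le_antisymm ((Nat.factorization_le_iff_dvd Nat.card_pos.ne' Nat.card_pos.ne').2
        (Subgroup.card_subgroup_dvd_card C) p) hfacC
    have hTM : (T : Subgroup C).map C.subtype ≤ M := by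
      rintro _ ⟨c, -, rfl⟩
      refine Subgroup.mem_normalizer_iff.2 fun r => ⟨fun hr => ?_, fun hr => ?_⟩
      · rw [C.subtype_apply, ← Subgroup.mem_centralizer_iff.1 c.2 r hr, mul_inv_cancel_right]; exact hr
      · have h1 := Subgroup.mem_centralizer_iff.1 c.2 _ hr
        have h2 : (C.subtype c) * r * (C.subtype c)⁻¹ = r := by
          rw [C.subtype_apply] at h1 ⊢
          rw [inv_mul_cancel_right] at h1
          exact (mul_left_cancel h1).symm
        rwa [h2] at hr
    have hPM : (P : Subgroup G) ≤ M := fun a ha => Subgroup.mem_normalizer_iff.2 fun r =>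
      ⟨hRn a ha r, fun hr => by
        have := hRn a⁻¹ (inv_mem ha) _ hr
        simpa [mul_assoc] using this⟩
    have hMc : p ^ (Nat.card G).factorization p = p ^ (Nat.card M).factorization p := by
      congr 1
      refine le_antisymm ?_ ((Nat.factorization_le_iff_dvd Nat.card_pos.ne' Nat.card_pos.ne').2
        (Subgroup.card_subgroup_dvd_card M) p)
      rw [← hp.out.pow_dvd_iff_le_factorization Nat.card_pos.ne', ← P.card_eq_multiplicity]
      exact Subgroup.card_dvd_of_le hPM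
    let P1 : Sylow p M := Sylow.ofCard ((P : Subgroup G).subgroupOf M)
      (by rw [Nat.card_congr (Subgroup.subgroupOfEquivOfLe hPM).toEquiv, P.card_eq_multiplicity, hMc])
    let T1 : Sylow p M := Sylow.ofCard (((T : Subgroup C).map C.subtype).subgroupOf M)
      (by rw [Nat.card_congr (Subgroup.subgroupOfEquivOfLe hTM).toEquiv, hTc, hMc])
    obtain ⟨m, hm⟩ := MulAction.exists_smul_eq M T1 P1
    intro r hr a ha
    have h1 : (⟨a, hPM ha⟩ : M) ∈ ((m • T1 : Sylow p M) : Subgroup M) := by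
      rw [hm]; exact Subgroup.mem_subgroupOf.2 ha
    rw [Sylow.coe_subgroup_smul] at h1
    obtain ⟨y, hy, hye⟩ := h1
    have hye' : (m : G) * y * (m : G)⁻¹ = a := congrArg Subtype.val hye
    obtain ⟨c, -, hc⟩ := Subgroup.mem_subgroupOf.1 hy
    have haC : a ∈ C := hye' ▸ hc ▸ hconjC _ m.2 _ c.2
    exact (Subgroup.mem_centralizer_iff.1 haC r hr).symm
  refine ⟨⟨fun a b => Subtype.ext ?_⟩⟩
  -- every element of `P` is central in `P`
  have hcenP : ∀ x ∈ (P : Subgroup G), ∀ y ∈ (P : Subgroup G), y * x = x * y := by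
    intro x hx
    have hxp : ∃ k : ℕ, orderOf x = p ^ k := by
      obtain ⟨k, hk⟩ := IsPGroup.iff_orderOf.1 P.2 ⟨x, hx⟩
      exact ⟨k, by rw [← hk, Subgroup.orderOf_mk]⟩
    obtain ⟨P', hP'⟩ := exists_sylow_le h hxp
    obtain ⟨g, hg⟩ := MulAction.exists_smul_eq G P P'
    -- `x' = g⁻¹ x g` is central in `P`
    have hx' : ∀ y ∈ (P : Subgroup G), y * (g⁻¹ * x * g) = (g⁻¹ * x * g) * y := by
      intro y hy
      have h1 := mem_cent.1 (hP' (show g * y * g⁻¹ ∈ (P' : Subgroup G) by
        rw [← hg, Sylow.coe_subgroup_smul]; exact ⟨y, hy, rfl⟩))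
      calc y * (g⁻¹ * x * g) = g⁻¹ * (g * y * g⁻¹ * x) * g := by group
        _ = g⁻¹ * x * g * y := by rw [h1]; group
    have hx'P : g⁻¹ * x * g ∈ (P : Subgroup G) := by
      have hp' : IsPGroup p ((P : Subgroup G) ⊔ Subgroup.zpowers (g⁻¹ * x * g) : Subgroup G) := by
        refine IsPGroup.to_sup_of_normal_left' P.2 ?_ (Subgroup.zpowers_le.2 ?_)
        · obtain ⟨k, hk⟩ := hxp
          refine Solv.isPGroup_zpowers (k := k) ?_
          rw [show g⁻¹ * x * g = MulAut.conj g⁻¹ x by rw [MulAut.conj_apply, inv_inv],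
            MulEquiv.orderOf_eq, hk]
        · refine Subgroup.mem_normalizer_iff.2 fun y => ⟨fun hy => ?_, fun hy => ?_⟩
          · rw [← hx' y hy, mul_inv_cancel_right]; exact hy
          · have h1 := hx' _ hy
            have h2 : y = (g⁻¹ * x * g) * y * (g⁻¹ * x * g)⁻¹ := by
              rw [inv_mul_cancel_right] at h1
              exact mul_left_cancel h1
            rw [h2]; exact hy
      exact (P.3 hp' le_sup_left).le (Subgroup.mem_sup_right (Subgroup.mem_zpowers _))
    -- fusion in `G ⧸ N` is controlled by the normalizer of the image of `P`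
    set f := QuotientGroup.mk' N
    set Pb := P.mapSurjective (QuotientGroup.mk'_surjective N)
    have hPb : ∀ {a : G}, a ∈ (P : Subgroup G) → f a ∈ (Pb : Subgroup (G ⧸ N)) := fun {a} ha => by
      rw [Sylow.coe_mapSurjective]; exact Subgroup.mem_map_of_mem _ ha
    have hPbc := hQab Pb
    obtain ⟨z, hz, hzeq⟩ := Sylow.conj_eq_normalizer_conj_of_mem Pb (f x) (f g) (hPb hx)
      (by rw [← map_inv, ← map_mul, ← map_mul]; exact hPb hx'P)
    obtain ⟨z, rfl⟩ := QuotientGroup.mk'_surjective N z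
    -- move `z` into the normalizer of `P`
    have hzP : ∀ a ∈ (P : Subgroup G), z * a * z⁻¹ ∈ (P : Subgroup G) ⊔ N := by
      intro a ha
      have h1 := (Subgroup.mem_normalizer_iff.1 hz (f a)).1 (hPb ha)
      rw [← map_inv, ← map_mul, ← map_mul, Sylow.coe_mapSurjective] at h1
      obtain ⟨b, hb, hbe⟩ := Subgroup.mem_map.1 h1
      have h2 : b⁻¹ * (z * a * z⁻¹) ∈ N := QuotientGroup.eq.1 hbe
      rw [show z * a * z⁻¹ = b * (b⁻¹ * (z * a * z⁻¹)) by group]
      exact Subgroup.mul_mem_sup hb h2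
    set L := (P : Subgroup G) ⊔ N
    have hzmap : (P : Subgroup G).map (MulAut.conj z).toMonoidHom ≤ L := by
      rintro _ ⟨a, ha, rfl⟩; exact hzP a ha
    have hLc : p ^ (Nat.card G).factorization p = p ^ (Nat.card L).factorization p := by
      congr 1
      refine le_antisymm ?_ ((Nat.factorization_le_iff_dvd Nat.card_pos.ne' Nat.card_pos.ne').2
        (Subgroup.card_subgroup_dvd_card L) p)
      rw [← hp.out.pow_dvd_iff_le_factorization Nat.card_pos.ne', ← P.card_eq_multiplicity]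
      exact Subgroup.card_dvd_of_le le_sup_left
    let P1 : Sylow p L := Sylow.ofCard ((P : Subgroup G).subgroupOf L)
      (by rw [Nat.card_congr (Subgroup.subgroupOfEquivOfLe le_sup_left).toEquiv, P.card_eq_multiplicity, hLc])
    let P2 : Sylow p L := Sylow.ofCard (((P : Subgroup G).map (MulAut.conj z).toMonoidHom).subgroupOf L)
      (by rw [Nat.card_congr (Subgroup.subgroupOfEquivOfLe hzmap).toEquiv,
        ← Nat.card_congr (Subgroup.equivMapOfInjective (P : Subgroup G) _ (MulAut.conj z).injective).toEquiv,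
        P.card_eq_multiplicity, hLc])
    obtain ⟨l, hl⟩ := MulAction.exists_smul_eq L P2 P1
    obtain ⟨q, hq, k, hk, hqk⟩ := Subgroup.mem_sup_of_normal_right.1 l.2
    have hw : ∀ a ∈ (P : Subgroup G), ((l : G) * z) * a * ((l : G) * z)⁻¹ ∈ (P : Subgroup G) := by
      intro a ha
      have h1 : (⟨z * a * z⁻¹, hzP a ha⟩ : L) ∈ (P2 : Subgroup L) :=
        Subgroup.mem_subgroupOf.2 ⟨a, ha, rfl⟩
      have h2 : l * ⟨z * a * z⁻¹, hzP a ha⟩ * l⁻¹ ∈ ((l • P2 : Sylow p L) : Subgroup L) := by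
        rw [Sylow.coe_subgroup_smul]; exact ⟨_, h1, rfl⟩
      rw [hl] at h2
      have h3 : (l : G) * (z * a * z⁻¹) * (l : G)⁻¹ ∈ (P : Subgroup G) := h2
      rwa [show (l : G) * z * a * ((l : G) * z)⁻¹ = (l : G) * (z * a * z⁻¹) * (l : G)⁻¹ by group]
    -- `f ((l z) x' (l z)⁻¹) = f x`
    have hfl : f (((l : G) * z) * (g⁻¹ * x * g) * ((l : G) * z)⁻¹) = f x := by
      have hfk : f k = 1 := (QuotientGroup.eq_one_iff k).2 hk
      have h1 : f (g⁻¹ * x * g) = (f z)⁻¹ * f x * f z := by rw [map_mul, map_mul, map_inv]; exact hzeq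
      have h2 : f q * f x = f x * f q :=
        congrArg Subtype.val (hPbc.is_comm.comm ⟨f q, hPb hq⟩ ⟨f x, hPb hx⟩)
      rw [map_mul, map_mul, map_inv, map_mul, h1, ← hqk, map_mul, hfk, mul_one]
      calc f q * f z * ((f z)⁻¹ * f x * f z) * (f q * f z)⁻¹ = f q * f x * (f q)⁻¹ := by group
        _ = f x := by rw [h2, mul_inv_cancel_right]
    set v := ((l : G) * z) * (g⁻¹ * x * g) * ((l : G) * z)⁻¹ with hv
    have hvP : v ∈ (P : Subgroup G) := hw _ hx'P
    have hvc : ∀ y ∈ (P : Subgroup G), y * v = v * y := by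
      intro y hy
      have hmap : (P : Subgroup G).map (MulAut.conj ((l : G) * z)).toMonoidHom = (P : Subgroup G) :=
        Subgroup.eq_of_le_of_card_ge (by rintro _ ⟨a, ha, rfl⟩; exact hw a ha)
          (Subgroup.card_map_of_injective (MulEquiv.injective _)).ge
      obtain ⟨a, ha, rfl⟩ := hmap.symm ▸ hy
      show ((l : G) * z) * a * ((l : G) * z)⁻¹ * v = v * (((l : G) * z) * a * ((l : G) * z)⁻¹)
      calc ((l : G) * z) * a * ((l : G) * z)⁻¹ * v
          = ((l : G) * z) * (a * (g⁻¹ * x * g)) * ((l : G) * z)⁻¹ := by rw [hv]; group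
        _ = _ := by rw [hx' a ha, hv]; group
    have hr : v⁻¹ * x ∈ R := Subgroup.mem_inf.2
      ⟨mul_mem (inv_mem hvP) hx, QuotientGroup.eq.1 hfl⟩
    intro y hy
    rw [show x = v * (v⁻¹ * x) by group]
    exact ((show Commute y v from hvc y hy).mul_right (hRcen _ hr y hy)).eq
  exact hcenP b b.2 a a.2


/-- Let G be a finite group and p a prime such that the Sylow p-subgroups of G are non-abelian while every element of p-power order has conjugacy class size prime to p, and suppose no nontrivial proper normal subgroup N of G has this property and no quotient G/N by such an N has it. Then G is simple. -/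
theorem result {G : Type*} [Group G] [Finite G]
    (p : ℕ) [Fact p.Prime] (h : ((∃ P : Sylow p G, ¬ IsMulCommutative P) ∧ ∀ x : G, (∃ k : ℕ, orderOf x = p ^ k) → ¬ p ∣ (Subgroup.centralizer ({x} : Set G)).index))
    (hmin : ∀ (N : Subgroup G) [N.Normal], N ≠ ⊥ → N ≠ ⊤ →
      ¬ ((∃ P : Sylow p N, ¬ IsMulCommutative P) ∧ ∀ x : N, (∃ k : ℕ, orderOf x = p ^ k) → ¬ p ∣ (Subgroup.centralizer ({x} : Set N)).index) ∧
      ¬ ((∃ P : Sylow p (G ⧸ N), ¬ IsMulCommutative P) ∧ ∀ x : (G ⧸ N), (∃ k : ℕ, orderOf x = p ^ k) → ¬ p ∣ (Subgroup.centralizer ({x} : Set (G ⧸ N))).index)) :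
    IsSimpleGroup G := by
  obtain ⟨⟨P, hP⟩, hcl⟩ := h
  haveI : Nontrivial G := by
    by_contra hn
    rw [not_nontrivial_iff_subsingleton] at hn
    exact hP ⟨⟨fun a b => Subsingleton.elim _ _⟩⟩
  refine { eq_bot_or_eq_top_of_normal := fun N hN => ?_ }
  by_contra hne
  rw [not_or] at hne
  haveI := hN
  obtain ⟨h1, h2⟩ := hmin N hne.1 hne.2
  refine hP (abelian_of_normal hcl N (fun T => ?_) (fun T => ?_) P)
  · by_contra hT
    exact h1 ⟨⟨T, hT⟩, pclass_normal hcl N⟩
  · by_contra hT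
    exact h2 ⟨⟨T, hT⟩, pclass_quotient hcl N⟩

end Cfsg.Agent.S4354
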