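import Cfsg.Statements.S4357
import Mathlib
import Cfsg.Agent.Lib.Classical.SL2FourSylow

set_option autoImplicit false
set_option linter.unusedSectionVars false
open Cfsg

namespace Cfsg.Agent.S4357

open Cfsg.Agent.Small Cfsg.Agent.Small.SL2C Cfsg.Agent.Classical.SL2Four

section Abstract

variable {G : Type*} [Group G] [Finite G] {p : ℕ} [Fact p.Prime]

theorem mem_of_normalizes (P : Sylow p G) {R : Subgroup G} (hR : IsPGroup p R)
    (hn : R ≤ Subgroup.normalizer ((P : Subgroup G) : Set G)) : R ≤ (P : Subgroup G) := by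
  have h : IsPGroup p ↥((P : Subgroup G) ⊔ R) := P.2.to_sup_of_normal_left' hR hn
  exact le_sup_right.trans (P.3 h le_sup_left).le

theorem eq_of_le_comm {H : Subgroup G} (hc : ∀ a ∈ H, ∀ b ∈ H, a * b = b * a) {P Q : Sylow p G}
    (hP : (P : Subgroup G) ≤ H) (hQ : (Q : Subgroup G) ≤ H) : P = Q := by
  refine (Sylow.ext (Q.3 P.2 (mem_of_normalizes P Q.2 fun a ha => ?_))).trans rfl
  rw [Subgroup.mem_normalizer_iff]
  intro h
  constructor
  · intro hh
    rw [hc a (hQ ha) h (hP hh), mul_inv_cancel_right]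
    exact hh
  · intro hh
    have e : h = a * h * a⁻¹ := by
      have := hc a (hQ ha) _ (hP hh)
      simp [mul_assoc] at this
      simpa [mul_assoc] using this.symm
    rw [e]
    exact hh

/-- Groups with abelian centralisers of non-central elements and central `p'`-part. -/
theorem not_redundant (hcomm : ∀ z : G, z ∉ Subgroup.center G →
      ∀ a ∈ Subgroup.centralizer ({z} : Set G), ∀ b ∈ Subgroup.centralizer ({z} : Set G), a * b = b * a)
    (hZ : ¬ p ∣ Nat.card (Subgroup.center G)) :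
    ¬ ∃ Q : Sylow p G, ∀ x : G, (∃ k : ℕ, orderOf x = p ^ k) → ∃ P : Sylow p G, P ≠ Q ∧ x ∈ P := by
  rintro ⟨Q, hQ⟩
  have hzc : ∀ (P : Sylow p G) (z : G), z ∈ P → z ≠ 1 → z ∉ Subgroup.center G := by
    intro P z hz h1 hc
    obtain ⟨k, hk⟩ := IsPGroup.iff_orderOf.1 P.2 ⟨z, hz⟩
    rw [← Subgroup.orderOf_coe] at hk
    have hd : orderOf z ∣ Nat.card (Subgroup.center G) := by
      rw [← Subgroup.orderOf_mk z hc]; exact orderOf_dvd_natCard _
    cases k with
    | zero => exact h1 (orderOf_eq_one_iff.1 (by simpa using hk))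
    | succ k => exact hZ ((dvd_pow_self p (Nat.succ_ne_zero k)).trans (hk ▸ hd))
  have habel : ∀ P : Sylow p G, (P : Subgroup G) ≠ ⊥ → ∃ z, z ∈ (P : Subgroup G) ∧ z ≠ 1 ∧
      (P : Subgroup G) ≤ Subgroup.centralizer ({z} : Set G) := by
    intro P hP
    haveI : Nontrivial (P : Subgroup G) := (Subgroup.nontrivial_iff_ne_bot _).2 hP
    haveI := P.2.center_nontrivial
    obtain ⟨z, hz⟩ := exists_ne (1 : Subgroup.center (P : Subgroup G))
    refine ⟨(z : (P : Subgroup G)), (z : (P : Subgroup G)).2, fun e => hz (Subtype.ext (Subtype.ext e)), fun a ha => ?_⟩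
    rw [Subgroup.mem_centralizer_singleton_iff]
    exact congrArg Subtype.val (Subgroup.mem_center_iff.1 z.2 ⟨a, ha⟩)
  by_cases hQb : (Q : Subgroup G) = ⊥
  · obtain ⟨P, hP, -⟩ := hQ 1 ⟨0, by simp⟩
    exact hP (Sylow.ext (Q.3 (Q := (P : Subgroup G)) P.2 (hQb ▸ bot_le)))
  obtain ⟨z, hzQ, hz1, hQz⟩ := habel Q hQb
  obtain ⟨P, hPQ, hzP⟩ := hQ z (by
    obtain ⟨k, hk⟩ := IsPGroup.iff_orderOf.1 Q.2 ⟨z, hzQ⟩
    exact ⟨k, by rw [← hk, ← Subgroup.orderOf_coe]⟩)
  have hPb : (P : Subgroup G) ≠ ⊥ := fun e => hz1 (Subgroup.mem_bot.1 (e ▸ hzP))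
  obtain ⟨w, hwP, hw1, hPw⟩ := habel P hPb
  have hc := hcomm w (hzc P w hwP hw1)
  refine hPQ (eq_of_le_comm (hcomm z (hzc Q z hzQ hz1)) (fun a ha => ?_) hQz)
  rw [Subgroup.mem_centralizer_singleton_iff]
  exact hc a (hPw ha) z (hPw hzP)

end Abstract

variable {F : Type*} [Field F] [Fintype F]

local notation "SL2" => Matrix.SpecialLinearGroup (Fin 2) F

theorem comm_centralizer {z : SL2} (hz : z ∉ Subgroup.center SL2) :
    ∀ a ∈ tor z, ∀ b ∈ tor z, a * b = b * a :=
  tor_comm (fun h => hz (mem_center_iff.2 h))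

/-- The number `q ∓ 1` divisible by four. -/
theorem sol_cases (h2 : (2 : F) ≠ 0) :
    (Fintype.card F % 4 = 1 ∧ sol (0 : F) 1 = Fintype.card F - 1) ∨
      (Fintype.card F % 4 = 3 ∧ sol (0 : F) 1 = Fintype.card F + 1) := by
  have := card_odd_of_two_ne_zero (F := F) h2
  rcases (show Fintype.card F % 4 = 1 ∨ Fintype.card F % 4 = 3 by omega) with h | h
  · exact Or.inl ⟨h, (sol_zero h2).1 h⟩
  · exact Or.inr ⟨h, (sol_zero h2).2 h⟩

theorem card_SL_two_part (h2 : (2 : F) ≠ 0) : (Nat.card SL2).factorization 2 =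
    (2 * sol (0 : F) 1).factorization 2 := by
  have hq1 := Fintype.one_lt_card (α := F)
  obtain ⟨m, hm, hc⟩ : ∃ m, Odd m ∧ Nat.card SL2 = 2 * sol (0 : F) 1 * m := by
    rcases sol_cases (F := F) h2 with ⟨h, e⟩ | ⟨h, e⟩ <;> rw [e, q_mul_sq]
    · obtain ⟨j, hj⟩ : 2 ∣ Fintype.card F + 1 := by omega
      exact ⟨Fintype.card F * j, Odd.mul (Nat.odd_iff.2 (by omega)) (Nat.odd_iff.2 (by omega)),
        by rw [hj]; ring⟩
    · obtain ⟨j, hj⟩ : 2 ∣ Fintype.card F - 1 := by omega
      exact ⟨Fintype.card F * j, Odd.mul (Nat.odd_iff.2 (by omega)) (Nat.odd_iff.2 (by omega)),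
        by rw [hj]; ring⟩
  have h0 : 2 * sol (0 : F) 1 ≠ 0 := by
    rcases sol_cases (F := F) h2 with ⟨_, e⟩ | ⟨_, e⟩ <;> omega
  rw [hc, Nat.factorization_mul h0 (by rintro rfl; simp at hm), Finsupp.add_apply,
    Nat.factorization_eq_zero_of_not_dvd (fun h => (Nat.not_even_iff_odd.2 hm) (even_iff_two_dvd.2 h)),
    add_zero]

/-- Every `2`-element lies in the torus of an element of order four. -/
theorem exists_tor (h2 : (2 : F) ≠ 0) {x : SL2} {k : ℕ} (hx : orderOf x = 2 ^ k) :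
    ∃ y : SL2, y.1.trace = 0 ∧ x ∈ tor y := by
  by_cases hk : k ≤ 1
  · obtain ⟨y, hy⟩ := exists_trace_zero (F := F) h2
    refine ⟨y, hy, ?_⟩
    have he : x * x = 1 := by
      have h := pow_orderOf_eq_one x
      rw [hx] at h
      interval_cases k
      · simp at h; simp [h]
      · simpa [pow_two] using h
    rw [mem_tor]
    rcases sq_one_cases h2 he with h | h <;> simp [h]
  · obtain ⟨j, rfl⟩ : ∃ j, k = j + 2 := ⟨k - 2, by omega⟩
    refine ⟨x ^ 2 ^ j, ?_, ?_⟩
    · set y := x ^ 2 ^ j with hy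
      have hy4 : orderOf y = 4 := by
        rw [hy, orderOf_pow' _ (by positivity), hx, pow_add,
          Nat.gcd_eq_right (dvd_mul_right _ _), Nat.mul_div_cancel_left _ (by positivity)]
        norm_num
      have h4 : y * y * (y * y) = 1 := by
        rw [← pow_two, ← pow_two, ← pow_mul]
        norm_num
        rw [← hy4]
        exact pow_orderOf_eq_one y
      have hne : y * y ≠ 1 := by
        rw [← pow_two]
        exact pow_ne_one_of_lt_orderOf two_ne_zero (by omega)
      rcases sq_one_cases h2 h4 with h | h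
      · exact absurd (Subtype.ext h) hne
      · rw [Matrix.SpecialLinearGroup.coe_mul, sq_eq] at h
        have h' : y.1.trace • y.1 = 0 := by
          linear_combination (norm := module) h
        refine (smul_eq_zero.1 h').resolve_right fun e => ?_
        have := y.2
        rw [e] at this
        simp at this
    · rw [Subgroup.mem_centralizer_singleton_iff]
      exact (Commute.self_pow x _).eq

/-- If `q ∓ 1` is not a power of two, every `2`-element lies in two Sylow `2`-subgroups. -/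
theorem redundant (h2 : (2 : F) ≠ 0) (hn : ¬ ∃ k : ℕ, sol (0 : F) 1 = 2 ^ k) (Q : Sylow 2 SL2)
    (x : SL2) (hx : ∃ k : ℕ, orderOf x = 2 ^ k) : ∃ P : Sylow 2 SL2, P ≠ Q ∧ x ∈ P := by
  classical
  obtain ⟨k, hk⟩ := hx
  obtain ⟨y, hy, hxy⟩ := exists_tor h2 hk
  have ht := trace_sq_ne_four h2 hy
  have hns := not_isSc_of_trace_zero h2 hy
  have hN := (card_normalizer ht).1
  rw [hy] at hN
  set N := Subgroup.normalizer (tor y : Set SL2) with hNdef
  have hn0 : sol (0 : F) 1 ≠ 0 := by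
    have := Fintype.one_lt_card (α := F)
    rcases sol_cases (F := F) h2 with ⟨_, e⟩ | ⟨_, e⟩ <;> omega
  let R' : Sylow 2 N := Classical.arbitrary _
  have hRc : Nat.card ((R' : Subgroup N).map N.subtype) = 2 ^ (Nat.card SL2).factorization 2 := by
    rw [Subgroup.card_map_of_injective N.subtype_injective, R'.card_eq_multiplicity, hN, card_SL_two_part h2]
  let R : Sylow 2 SL2 := Sylow.ofCard _ hRc
  have hRN : (R : Subgroup SL2) ≤ N := by
    rw [Sylow.coe_ofCard]; exact Subgroup.map_subtype_le _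
  have hxN : x ∈ N := Subgroup.le_normalizer hxy
  have hxR : x ∈ (R : Subgroup SL2) := by
    refine mem_of_normalizes R (R := Subgroup.zpowers x) (IsPGroup.of_card (n := k)
      (by rw [Nat.card_zpowers, hk])) ?_ (Subgroup.mem_zpowers x)
    rw [Subgroup.zpowers_le, Subgroup.mem_normalizer_iff]
    intro h
    have key : ∀ h ∈ (R : Subgroup SL2), ∀ a ∈ Subgroup.zpowers x, h * a * h⁻¹ ∈ Subgroup.zpowers x := by
      intro h hh a ha
      rcases normalizer_cases ht (hRN hh) with hc | hc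
      · rw [tor_comm hns h hc a (Subgroup.zpowers_le.2 hxy ha), mul_inv_cancel_right]
        exact ha
      · rw [inverts hns hc (Subgroup.zpowers_le.2 hxy ha), mul_inv_cancel_right]
        exact inv_mem ha
    have conjR : ∀ a ∈ Subgroup.zpowers x, ∀ h ∈ (R : Subgroup SL2), a * h * a⁻¹ ∈
        Subgroup.zpowers x ⊔ (R : Subgroup SL2) := fun a ha h hh =>
      mul_mem (mul_mem (Subgroup.mem_sup_left ha) (Subgroup.mem_sup_right hh))
        (Subgroup.mem_sup_left (inv_mem ha))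
    have hnorm : (R : Subgroup SL2) ≤ Subgroup.normalizer (Subgroup.zpowers x : Set SL2) := by
      intro a ha
      rw [Subgroup.mem_normalizer_iff]
      refine fun h => ⟨key a ha h, fun hh => ?_⟩
      simpa [mul_assoc] using key a⁻¹ (inv_mem ha) _ hh
    have hsup : (R : Subgroup SL2) ⊔ Subgroup.zpowers x = (R : Subgroup SL2) :=
      R.3 (R.2.to_sup_of_normal_right' (IsPGroup.of_card (n := k) (by rw [Nat.card_zpowers, hk]))
        hnorm) le_sup_left
    have hxR : x ∈ (R : Subgroup SL2) := hsup ▸ Subgroup.mem_sup_right (Subgroup.mem_zpowers x)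
    exact ⟨fun hh => mul_mem (mul_mem hxR hh) (inv_mem hxR), fun hh => by
      simpa [mul_assoc] using mul_mem (mul_mem (inv_mem hxR) hh) hxR⟩
  obtain ⟨ℓ, hℓ, hℓd⟩ : ∃ ℓ, ℓ.Prime ∧ ℓ ∣ sol (0 : F) 1 ∧ ℓ ≠ 2 := by
    by_contra hc
    push Not at hc
    exact hn ⟨_, Nat.eq_prime_pow_of_unique_prime_dvd hn0 fun {d} hd hdd => hc d hd hdd⟩
  haveI := Fact.mk hℓ
  obtain ⟨u, hu⟩ := exists_prime_orderOf_dvd_card' (G := tor y) ℓ (by
    rw [card_centralizer y hns, hy]; exact hℓd.1)
  rw [← Subgroup.orderOf_coe] at hu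
  let P := (u : SL2) • R
  have hxP : x ∈ (P : Subgroup SL2) := by
    show x ∈ (((u : SL2) • R : Sylow 2 SL2) : Subgroup SL2)
    rw [Sylow.coe_subgroup_smul, Subgroup.mem_pointwise_smul_iff_inv_smul_mem, ← map_inv,
      MulAut.smul_def, MulAut.conj_apply, inv_inv, ← tor_comm hns x hxy _ (inv_mem u.2),
      inv_mul_cancel_right]
    exact hxR
  by_cases hRQ : R = Q
  · refine ⟨P, fun e => ?_, hxP⟩
    have hu' : (u : SL2) ∈ Subgroup.normalizer ((R : Subgroup SL2) : Set SL2) :=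
      Sylow.smul_eq_iff_mem_normalizer.1 (e.trans hRQ.symm)
    obtain ⟨s, hsR, hst⟩ : ∃ s, s ∈ (R : Subgroup SL2) ∧ s ∉ tor y := by
      by_contra hc
      push Not at hc
      have h := Subgroup.card_dvd_of_le (K := tor y) hc
      rw [R.card_eq_multiplicity, card_SL_two_part h2, card_centralizer y hns, hy,
        Nat.factorization_mul two_ne_zero hn0, Finsupp.add_apply, Nat.prime_two.factorization_self] at h
      have := (Nat.Prime.pow_dvd_iff_le_factorization Nat.prime_two hn0).1 h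
      omega
    have hs := inverts hns ((normalizer_cases ht (hRN hsR)).resolve_left hst) u.2
    have h1 : (u : SL2) * (u : SL2) ∈ (R : Subgroup SL2) := by
      have h3 := (Subgroup.mem_normalizer_iff.1 hu' s).1 hsR
      have h4 : (u : SL2) * s * (u : SL2)⁻¹ = (u : SL2) * (u : SL2) * s := by
        have := inverts hns ((normalizer_cases ht (hRN hsR)).resolve_left hst) (inv_mem u.2)
        rw [inv_inv] at this
        rw [mul_assoc, this, ← mul_assoc]
      rw [h4] at h3
      simpa using mul_mem h3 (inv_mem hsR)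
    obtain ⟨j, hj⟩ := IsPGroup.iff_orderOf.1 R.2 ⟨_, h1⟩
    rw [← Subgroup.orderOf_coe] at hj
    have hco : (ℓ).Coprime 2 := (Nat.coprime_primes hℓ Nat.prime_two).2 hℓd.2
    have : orderOf ((u : SL2) * (u : SL2)) = ℓ := by
      rw [← pow_two, Nat.Coprime.orderOf_pow (by rw [hu]; exact hco), hu]
    have hd : ℓ ∣ 2 ^ j := by
      simp only at hj
      rw [← hj, this]
    exact hℓd.2 ((Nat.prime_dvd_prime_iff_eq hℓ Nat.prime_two).1 (hℓ.dvd_of_dvd_pow hd))
  · exact ⟨R, hRQ, hxR⟩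

/-- If `q ∓ 1` is a power of two, a generator of the torus lies in one Sylow `2`-subgroup. -/
theorem not_redundant_two (h2 : (2 : F) ≠ 0) {N : ℕ} (hn : sol (0 : F) 1 = 2 ^ N) :
    ¬ ∃ Q : Sylow 2 SL2, ∀ x : SL2, (∃ k : ℕ, orderOf x = 2 ^ k) → ∃ P : Sylow 2 SL2, P ≠ Q ∧ x ∈ P := by
  rintro ⟨Q, hQ⟩
  obtain ⟨g, k, -, hk, -, hQc, ⟨x, hxQ, -, hxo⟩, -, -⟩ := sylow_two_setup h2 Q
  obtain ⟨y, hy, hxy⟩ := exists_tor h2 hxo
  have ht := trace_sq_ne_four h2 hy
  have hxs : ¬ IsSc x.1 := fun h => by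
    rcases isSc_SL h with e | e <;>
    · have he : x ^ 2 = 1 := Subtype.ext (by rw [pow_two, Matrix.SpecialLinearGroup.coe_mul, e]; simp)
      have := Nat.le_of_dvd two_pos (hxo ▸ orderOf_dvd_of_pow_eq_one he)
      have : 2 ^ 2 ≤ 2 ^ k := Nat.pow_le_pow_right two_pos hk
      omega
  have hN : Nat.card (Subgroup.normalizer (tor y : Set SL2)) = 2 ^ (N + 1) := by
    rw [(card_normalizer ht).1, hy, hn, pow_succ, mul_comm]
  have hall : ∀ P : Sylow 2 SL2, x ∈ P → (P : Subgroup SL2) = Subgroup.normalizer (tor y : Set SL2) := by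
    intro P hP
    refine (P.3 (IsPGroup.of_card hN) fun a ha => ?_).symm
    have hidx : ((Subgroup.zpowers x).subgroupOf (P : Subgroup SL2)).index = 2 := by
      have h := ((Subgroup.zpowers x).subgroupOf (P : Subgroup SL2)).card_mul_index
      rw [Nat.card_congr (Subgroup.subgroupOfEquivOfLe (Subgroup.zpowers_le.2 hP)).toEquiv,
        Nat.card_zpowers, hxo, Nat.card_congr (Sylow.equiv P Q).toEquiv, hQc, pow_succ] at h
      exact Nat.eq_of_mul_eq_mul_left (Nat.two_pow_pos k) h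
    have ha' : a ∈ Subgroup.normalizer (Subgroup.zpowers x : Set SL2) :=
      (Subgroup.normal_subgroupOf_iff_le_normalizer (Subgroup.zpowers_le.2 hP)).1
        (Subgroup.normal_of_index_eq_two hidx) ha
    rw [← (tor_eq ht hxy hxs).1]
    rw [Subgroup.mem_normalizer_iff]
    have hkey : ∀ a' ∈ Subgroup.normalizer (Subgroup.zpowers x : Set SL2), ∀ h ∈ tor x,
        a' * h * a'⁻¹ ∈ tor x := by
      intro a' ha' h hh
      rw [Subgroup.mem_centralizer_singleton_iff] at hh ⊢
      have hm : a'⁻¹ * x * a'⁻¹⁻¹ ∈ Subgroup.zpowers x :=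
        (Subgroup.mem_normalizer_iff.1 (inv_mem ha') x).1 (Subgroup.mem_zpowers x)
      obtain ⟨i, hi⟩ := Subgroup.mem_zpowers_iff.1 hm
      have hc : Commute h (a'⁻¹ * x * a'⁻¹⁻¹) := hi ▸ (show Commute h x from hh).zpow_right i
      have := (Commute.conj_iff a').2 hc
      simpa [mul_assoc] using this.eq
    refine fun h => ⟨hkey a ha' h, fun hh => ?_⟩
    simpa [mul_assoc] using hkey a⁻¹ (inv_mem ha') _ hh
  obtain ⟨P, hPQ, hxP⟩ := hQ x ⟨k, hxo⟩
  exact hPQ (Sylow.ext ((hall P hxP).trans (hall Q hxQ).symm))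

theorem sol_power_iff (h2 : (2 : F) ≠ 0) : (∃ k : ℕ, sol (0 : F) 1 = 2 ^ k) ↔
    (∃ k : ℕ, Fintype.card F + 1 = 2 ^ k) ∨ ∃ k : ℕ, Fintype.card F = 2 ^ k + 1 := by
  have hq1 := Fintype.one_lt_card (α := F)
  have h4 : ∀ k : ℕ, 2 ≤ k → 4 ∣ 2 ^ k := fun k hk => (pow_dvd_pow 2 hk)
  rcases sol_cases (F := F) h2 with ⟨h, e⟩ | ⟨h, e⟩ <;> rw [e]
  · constructor
    · rintro ⟨k, hk⟩; exact Or.inr ⟨k, by omega⟩
    · rintro (⟨k, hk⟩ | ⟨k, hk⟩)
      · exfalso
        by_cases h2k : 2 ≤ k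
        · have := h4 k h2k; omega
        · interval_cases k <;> omega
      · exact ⟨k, by omega⟩
  · constructor
    · rintro ⟨k, hk⟩; exact Or.inl ⟨k, by omega⟩
    · rintro (⟨k, hk⟩ | ⟨k, hk⟩)
      · exact ⟨k, by omega⟩
      · by_cases h2k : 2 ≤ k
        · have := h4 k h2k; omega
        · interval_cases k
          · omega
          · exact ⟨2, by omega⟩

/-- Let F be a finite field with q elements, p a prime and G = SL(2, F). Say a Sylow p-subgroup Q of G is redundant when every element of p-power order lies in some Sylow p-subgroup other than Q. Then G has a redundant Sylow p-subgroup if and only if p = 2 and q is not of any of the forms 2ᵏ - 1, 2ᵏ, 2ᵏ + 1. -/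
theorem result {F : Type*} [Field F] [Fintype F] (p : ℕ) [Fact p.Prime] :
    (∃ Q : Sylow p (Matrix.SpecialLinearGroup (Fin 2) F), ∀ x : Matrix.SpecialLinearGroup (Fin 2) F,
        (∃ k : ℕ, orderOf x = p ^ k) → ∃ P : Sylow p (Matrix.SpecialLinearGroup (Fin 2) F), P ≠ Q ∧ x ∈ P) ↔
      (p = 2 ∧ (¬ ∃ k : ℕ, Fintype.card F + 1 = 2 ^ k) ∧ (¬ ∃ k : ℕ, Fintype.card F = 2 ^ k) ∧
        ¬ ∃ k : ℕ, Fintype.card F = 2 ^ k + 1) := by
  have hq1 := Fintype.one_lt_card (α := F)
  by_cases hp : p = 2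
  swap
  · refine iff_of_false (not_redundant (fun z hz => comm_centralizer hz) fun h => ?_) fun h => hp h.1
    rw [center_card_eq] at h
    exact hp ((Nat.prime_dvd_prime_iff_eq Fact.out Nat.prime_two).1 (h.trans (Nat.gcd_dvd_left _ _)))
  subst hp
  by_cases h2 : (2 : F) = 0
  · refine iff_of_false (not_redundant (fun z hz => comm_centralizer hz) (by
      rw [center_card_even h2]; norm_num)) fun h => h.2.2.1 ?_
    haveI : CharP F 2 := CharTwo.of_one_ne_zero_of_two_eq_zero one_ne_zero h2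
    obtain ⟨n, -, hn⟩ := FiniteField.card F 2
    exact ⟨n, hn⟩
  have hodd := card_odd_of_two_ne_zero (F := F) h2
  have hne : ¬ ∃ k : ℕ, Fintype.card F = 2 ^ k := by
    rintro ⟨k, hk⟩
    cases k with
    | zero => omega
    | succ k => rw [pow_succ] at hk; omega
  constructor
  · intro hr
    refine ⟨rfl, fun h => ?_, hne, fun h => ?_⟩
    · obtain ⟨N, hN⟩ := (sol_power_iff h2).2 (Or.inl h)
      exact not_redundant_two h2 hN hr
    · obtain ⟨N, hN⟩ := (sol_power_iff h2).2 (Or.inr h)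
      exact not_redundant_two h2 hN hr
  · rintro ⟨-, ha, -, hb⟩
    exact ⟨Classical.arbitrary _, fun x hx => redundant h2
      (fun h => ((sol_power_iff h2).1 h).elim ha hb) _ x hx⟩

end Cfsg.Agent.S4357
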