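import Cfsg.Statements.S4356
import Mathlib
import Cfsg.Agent.S4357

set_option autoImplicit false
open Cfsg

namespace Cfsg.Agent.S4356

/-- Redundant Sylow subgroups correspond under central quotients. -/
theorem redundant_iff {G H : Type*} [Group G] [Finite G] [Group H] {p : ℕ} [Fact p.Prime]
    (φ : G →* H) (hφ : Function.Surjective φ) (hker : φ.ker ≤ Subgroup.center G) :
    (∃ Q : Sylow p G, ∀ x : G, (∃ k : ℕ, orderOf x = p ^ k) → ∃ P : Sylow p G, P ≠ Q ∧ x ∈ P) ↔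
      ∃ Q : Sylow p H, ∀ x : H, (∃ k : ℕ, orderOf x = p ^ k) → ∃ P : Sylow p H, P ≠ Q ∧ x ∈ P := by
  haveI : Finite H := Finite.of_surjective φ hφ
  have hm : ∀ P : Sylow p G, ((P.mapSurjective hφ : Sylow p H) : Subgroup H) = (P : Subgroup G).map φ :=
    fun P => rfl
  have key : ∀ (P : Sylow p G) (R : Subgroup G), IsPGroup p R → R.map φ ≤ (P : Subgroup G).map φ →
      R ≤ (P : Subgroup G) := by
    intro P R hR h
    refine S4357.mem_of_normalizes P hR (le_trans (Subgroup.map_le_map_iff.1 h) (sup_le Subgroup.le_normalizer ?_))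
    exact hker.trans (fun a ha => Subgroup.mem_normalizer_iff.2 fun h => by
      rw [show a * h * a⁻¹ = h by rw [← Subgroup.mem_center_iff.1 ha h, mul_inv_cancel_right]])
  have hinj : ∀ P P' : Sylow p G, P.mapSurjective hφ = P'.mapSurjective hφ → P = P' := by
    intro P P' e
    have e' : (P : Subgroup G).map φ = (P' : Subgroup G).map φ := by rw [← hm, ← hm, e]
    exact Sylow.ext (le_antisymm (key P' _ P.2 e'.le) (key P _ P'.2 e'.ge))
  constructor
  · rintro ⟨Q, hQ⟩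
    refine ⟨Q.mapSurjective hφ, fun y hy => ?_⟩
    obtain ⟨k, hk⟩ := hy
    obtain ⟨P', hP'⟩ := (IsPGroup.of_card (G := Subgroup.zpowers y) (p := p) (n := k)
      (by rw [Nat.card_zpowers, hk])).exists_le_sylow
    obtain ⟨P, rfl⟩ := Sylow.mapSurjective_surjective hφ p P'
    obtain ⟨x, hx, rfl⟩ := Subgroup.mem_map.1 (hm P ▸ hP' (Subgroup.mem_zpowers y))
    obtain ⟨j, hj⟩ := IsPGroup.iff_orderOf.1 P.2 ⟨x, hx⟩
    obtain ⟨R, hRQ, hxR⟩ := hQ x ⟨j, by rw [← hj, ← Subgroup.orderOf_coe]⟩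
    refine ⟨R.mapSurjective hφ, fun e => hRQ (hinj _ _ e), ?_⟩
    show φ x ∈ ((R.mapSurjective hφ : Sylow p H) : Subgroup H)
    rw [hm]
    exact Subgroup.mem_map_of_mem φ hxR
  · rintro ⟨Q', hQ'⟩
    obtain ⟨Q, rfl⟩ := Sylow.mapSurjective_surjective hφ p Q'
    refine ⟨Q, fun x hx => ?_⟩
    obtain ⟨k, hk⟩ := hx
    have hxp : IsPGroup p (Subgroup.zpowers x) := IsPGroup.of_card (n := k) (by rw [Nat.card_zpowers, hk])
    obtain ⟨j, -, hj⟩ := (Nat.dvd_prime_pow Fact.out).1 (hk ▸ orderOf_map_dvd φ x)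
    obtain ⟨P', hPQ, hxP⟩ := hQ' (φ x) ⟨j, hj⟩
    obtain ⟨P, rfl⟩ := Sylow.mapSurjective_surjective hφ p P'
    refine ⟨P, fun e => hPQ (e ▸ rfl), key P _ hxp ?_ (Subgroup.mem_zpowers x)⟩
    rw [MonoidHom.map_zpowers, Subgroup.zpowers_le, ← hm]
    exact hxP

/-- Let F be a finite field with q elements, p a prime and G = PSL(2, F). Say a Sylow p-subgroup Q of G is redundant when every element of p-power order lies in some Sylow p-subgroup other than Q. Then G has a redundant Sylow p-subgroup if and only if p = 2 and q is not of any of the forms 2ᵏ - 1, 2ᵏ, 2ᵏ + 1. -/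
theorem result {F : Type*} [Field F] [Fintype F] (p : ℕ) [Fact p.Prime] :
    (∃ Q : Sylow p (Matrix.ProjectiveSpecialLinearGroup (Fin 2) F), ∀ x : Matrix.ProjectiveSpecialLinearGroup (Fin 2) F,
        (∃ k : ℕ, orderOf x = p ^ k) → ∃ P : Sylow p (Matrix.ProjectiveSpecialLinearGroup (Fin 2) F), P ≠ Q ∧ x ∈ P) ↔
      (p = 2 ∧ (¬ ∃ k : ℕ, Fintype.card F + 1 = 2 ^ k) ∧ (¬ ∃ k : ℕ, Fintype.card F = 2 ^ k) ∧
        ¬ ∃ k : ℕ, Fintype.card F = 2 ^ k + 1) := by
  rw [← S4357.result (F := F) p]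
  exact (redundant_iff (Cfsg.Agent.Small.PSL2.pr (F := F)) Cfsg.Agent.Small.PSL2.pr_surjective
    (le_of_eq Cfsg.Agent.Classical.SL2Four.ker_pr)).symm

end Cfsg.Agent.S4356
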