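import Cfsg.Statements.S4358
import Mathlib
-- import your own Cfsg.Agent.* helpers here

set_option autoImplicit false
open Cfsg

namespace Cfsg.Agent.S4358

open Matrix

variable {F : Type*} [Field F] [Fintype F] {p : ℕ} [hp : Fact p.Prime]

local instance neZero_of_fact_prime {n : ℕ} [h : Fact n.Prime] : NeZero n := ⟨h.out.ne_zero⟩

/-- A monomial matrix with cyclic permutation part. -/
def mat (a : Fin p → F) (l : Fin p) : Matrix (Fin p) (Fin p) F :=
  Matrix.of fun i j => if j = i + l then a i else 0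

omit [Fintype F] in
theorem mat_mul_apply (a : Fin p → F) (l : Fin p) (M : Matrix (Fin p) (Fin p) F) (i j : Fin p) :
    (mat a l * M) i j = a i * M (i + l) j := by
  simp [Matrix.mul_apply, mat, ite_mul]

omit [Fintype F] in
theorem mul_mat_apply (a : Fin p → F) (l : Fin p) (M : Matrix (Fin p) (Fin p) F) (i j : Fin p) :
    (M * mat a l) i j = M i (j - l) * a (j - l) := by
  haveI : NeZero p := ⟨hp.out.ne_zero⟩
  rw [Matrix.mul_apply, Finset.sum_eq_single (j - l)]
  · simp [mat]
  · intro k _ hk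
    simp only [mat, Matrix.of_apply]
    rw [if_neg, mul_zero]
    rintro rfl
    simp at hk
  · simp

omit [Fintype F] in
theorem mat_mul (a b : Fin p → F) (l m : Fin p) :
    mat a l * mat b m = mat (fun i => a i * b (i + l)) (l + m) := by
  ext i j
  rw [mat_mul_apply]
  simp only [mat, Matrix.of_apply]
  rw [show i + (l + m) = i + l + m by abel, mul_ite, mul_zero]

omit [Fintype F] in
theorem mat_one : mat (fun _ => (1 : F)) (0 : Fin p) = 1 := by
  haveI : NeZero p := ⟨hp.out.ne_zero⟩
  ext i j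
  simp [mat, Matrix.one_apply, eq_comm]

/-- The monomial unit. -/
def mon (a : Fin p → Fˣ) (l : Fin p) : GL (Fin p) F :=
  haveI : NeZero p := ⟨hp.out.ne_zero⟩
  { val := mat (fun i => (a i : F)) l
    inv := mat (fun i => (((a (i - l))⁻¹ : Fˣ) : F)) (-l)
    val_inv := by
      rw [mat_mul, show l + -l = (0 : Fin p) by simp]
      convert mat_one (F := F) (p := p) using 2
      simp
    inv_val := by
      rw [mat_mul, show -l + l = (0 : Fin p) by simp]
      convert mat_one (F := F) (p := p) using 2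
      simp [← sub_eq_add_neg] }

omit [Fintype F] in
theorem mon_val (a : Fin p → Fˣ) (l : Fin p) :
    ((mon a l : GL (Fin p) F) : Matrix (Fin p) (Fin p) F) = mat (fun i => (a i : F)) l := rfl

omit [Fintype F] in
theorem mon_mul (a b : Fin p → Fˣ) (l m : Fin p) :
    mon a l * mon b m = mon (fun i => a i * b (i + l)) (l + m) := by
  refine Units.ext ?_
  rw [Units.val_mul, mon_val, mon_val, mon_val, mat_mul]
  rfl

omit [Fintype F] in
theorem mon_injective {a b : Fin p → Fˣ} {l m : Fin p} (h : mon a l = mon b m) : a = b ∧ l = m := by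
  have e := fun i j => congrFun (congrFun (congrArg (fun g : GL (Fin p) F => (g : Matrix (Fin p) (Fin p) F)) h) i) j
  simp only [mon_val, mat, Matrix.of_apply] at e
  have hlm : l = m := by
    haveI : NeZero p := ⟨hp.out.ne_zero⟩
    have := e 0 (0 + l)
    rw [if_pos rfl] at this
    by_contra hne
    rw [if_neg (fun k => hne (by simpa using k))] at this
    exact (a 0).ne_zero this
  subst hlm
  refine ⟨funext fun i => Units.ext ?_, rfl⟩
  simpa using e i (i + l)

/-- The monomial `p`-group over the subgroup `K` of the multiplicative group. -/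
def monGroup (K : Subgroup Fˣ) : Subgroup (GL (Fin p) F) :=
  haveI : NeZero p := ⟨hp.out.ne_zero⟩
  { carrier := {g | ∃ a l, (∀ i, a i ∈ K) ∧ g = mon a l}
    one_mem' := ⟨fun _ => 1, (0 : Fin p), fun _ => K.one_mem, Units.ext (by
      rw [mon_val]; exact (mat_one).symm)⟩
    mul_mem' := by
      rintro _ _ ⟨a, l, ha, rfl⟩ ⟨b, m, hb, rfl⟩
      exact ⟨_, _, fun i => K.mul_mem (ha i) (hb _), mon_mul a b l m⟩
    inv_mem' := by
      rintro _ ⟨a, l, ha, rfl⟩
      exact ⟨fun i => (a (i - l))⁻¹, -l, fun i => K.inv_mem (ha _), Units.ext rfl⟩ }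

omit [Fintype F] in
theorem mem_monGroup {K : Subgroup Fˣ} {g : GL (Fin p) F} :
    g ∈ monGroup K ↔ ∃ a l, (∀ i, a i ∈ K) ∧ g = mon a l := Iff.rfl

theorem card_monGroup (K : Subgroup Fˣ) :
    Nat.card (monGroup (p := p) K) = Nat.card K ^ p * p := by
  have e : Nat.card ((Fin p → K) × Fin p) = Nat.card K ^ p * p := by
    rw [Nat.card_prod, Nat.card_fun, Nat.card_fin]
  rw [← e]
  refine (Nat.card_congr (Equiv.ofBijective
    (fun x : (Fin p → K) × Fin p =>
      (⟨mon (fun i => (x.1 i : Fˣ)) x.2, _, _, fun i => (x.1 i).2, rfl⟩ : monGroup (p := p) K))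
    ⟨fun x y h => ?_, ?_⟩)).symm
  · obtain ⟨h1, h2⟩ := mon_injective (congrArg Subtype.val h)
    exact Prod.ext (funext fun i => Subtype.ext (congrFun h1 i)) h2
  · rintro ⟨_, a, l, ha, rfl⟩
    exact ⟨(fun i => ⟨a i, ha i⟩, l), rfl⟩

omit [Fintype F] in
theorem commute_iff {a b : Fin p → Fˣ} {l m : Fin p} :
    Commute (mon a l) (mon b m) ↔ ∀ i, a i * b (i + l) = b i * a (i + m) := by
  rw [commute_iff_eq, mon_mul, mon_mul]
  refine ⟨fun h i => congrFun (mon_injective h).1 i, fun h => ?_⟩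
  rw [funext h, add_comm l m]

omit [Fintype F] in
theorem exists_index (l : Fin p) (hl : l ≠ (0 : Fin p)) :
    ∃ σ : Equiv.Perm (Fin p), ∀ k : Fin p, σ k + l =
      σ ⟨((k : ℕ) + 1) % p, Nat.mod_lt _ hp.out.pos⟩ := by
  haveI : NeZero p := ⟨hp.out.ne_zero⟩
  have hl' : l ≠ 0 := by simpa using hl
  have hord : addOrderOf l = p := addOrderOf_eq_prime (by simpa using card_nsmul_eq_zero' (G := Fin p) (x := l)) hl'
  have hinj : Function.Injective (fun k : Fin p => (k : ℕ) • l) := by
    intro u v h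
    exact Fin.ext (nsmul_injOn_Iio_addOrderOf (by simp [hord]) (by simp [hord]) h)
  refine ⟨Equiv.ofBijective _ ⟨hinj, Finite.surjective_of_injective hinj⟩, fun k => ?_⟩
  show (k : ℕ) • l + l = (((k : ℕ) + 1) % p) • l
  rw [← succ_nsmul]
  have := mod_addOrderOf_nsmul l ((k : ℕ) + 1)
  rw [hord] at this
  exact this.symm

theorem centralizer_small (K : Subgroup Fˣ) {a : Fin p → Fˣ} {l : Fin p}
    (hl : l ≠ (0 : Fin p)) :
    Nat.card {q : monGroup (p := p) K // Commute (mon a l) (q : GL (Fin p) F)} ≤ Nat.card K * p := by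
  haveI : NeZero p := ⟨hp.out.ne_zero⟩
  obtain ⟨σ, hσ⟩ := exists_index l hl
  choose b m hb hq using fun q : monGroup (p := p) K => mem_monGroup.1 q.2
  have e : Nat.card (K × Fin p) = Nat.card K * p := by rw [Nat.card_prod, Nat.card_fin]
  rw [← e]
  refine Nat.card_le_card_of_injective
    (fun q => ((⟨b q.1 (σ 0), hb q.1 _⟩ : K), m q.1)) fun q r h => ?_
  simp only [Prod.mk.injEq, Subtype.mk.injEq] at h
  obtain ⟨h0, hm⟩ := h
  have cq := commute_iff.1 (hq q.1 ▸ q.2)
  have cr := commute_iff.1 (hq r.1 ▸ r.2)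
  have hall : ∀ n : ℕ, (hn : n < p) → b q.1 (σ ⟨n, hn⟩) = b r.1 (σ ⟨n, hn⟩) := by
    intro n
    induction n with
    | zero => intro _; exact h0
    | succ n ih =>
      intro hn
      have h1 := cq (σ ⟨n, by omega⟩)
      have h2 := cr (σ ⟨n, by omega⟩)
      have hs : (⟨(n + 1) % p, Nat.mod_lt _ hp.out.pos⟩ : Fin p) = ⟨n + 1, hn⟩ :=
        Fin.ext (Nat.mod_eq_of_lt hn)
      rw [hσ, hs] at h1 h2
      rw [ih (by omega), hm] at h1
      exact mul_left_cancel (h1.trans h2.symm)
  refine Subtype.ext (Subtype.ext ?_)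
  rw [hq q.1, hq r.1, hm]
  congr 1
  funext i
  obtain ⟨⟨n, hn⟩, rfl⟩ := σ.surjective i
  exact hall n hn

theorem centralizer_big (K : Subgroup Fˣ) (d : Fin p → Fˣ) :
    Nat.card K ^ p ≤
      Nat.card {q : monGroup (p := p) K // Commute (mon d (0 : Fin p)) (q : GL (Fin p) F)} := by
  haveI : NeZero p := ⟨hp.out.ne_zero⟩
  have e : Nat.card (Fin p → K) = Nat.card K ^ p := by rw [Nat.card_fun, Nat.card_fin]
  rw [← e]
  refine Nat.card_le_card_of_injective (fun b =>
    ⟨⟨mon (fun i => (b i : Fˣ)) (0 : Fin p), _, _, fun i => (b i).2, rfl⟩,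
      commute_iff.2 fun i => by simp [mul_comm]⟩) fun b c h => ?_
  have h' := mon_injective (congrArg (fun q : {q : monGroup (p := p) K //
    Commute (mon d (0 : Fin p)) (q : GL (Fin p) F)} => ((q : monGroup (p := p) K) : GL (Fin p) F)) h)
  exact funext fun i => Subtype.ext (congrFun h'.1 i)

/-- A conjugator between a diagonal and a non-diagonal element does not normalise the group. -/
theorem not_mem_normalizer (hp2 : p ≠ 2) (K : Subgroup Fˣ) (hK : Nat.card K = p) {g : GL (Fin p) F}
    {a d : Fin p → Fˣ} {l : Fin p} (hl : l ≠ (0 : Fin p))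
    (hg : g * mon d (0 : Fin p) * g⁻¹ = mon a l) :
    g ∉ Subgroup.normalizer ((monGroup K : Subgroup (GL (Fin p) F)) : Set (GL (Fin p) F)) := by
  intro hn
  have hle : Nat.card {q : monGroup (p := p) K // Commute (mon d (0 : Fin p)) (q : GL (Fin p) F)} ≤
      Nat.card {q : monGroup (p := p) K // Commute (mon a l) (q : GL (Fin p) F)} := by
    refine Nat.card_le_card_of_injective (fun q =>
      ⟨⟨g * (q.1 : GL (Fin p) F) * g⁻¹, (Subgroup.mem_normalizer_iff.1 hn _).1 q.1.2⟩, ?_⟩) fun q r h => ?_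
    · show Commute (mon a l) (g * (q.1 : GL (Fin p) F) * g⁻¹)
      rw [← hg]
      exact (Commute.conj_iff g).2 q.2
    · have h' := congrArg (fun q : {q : monGroup (p := p) K // Commute (mon a l) (q : GL (Fin p) F)} =>
        ((q : monGroup (p := p) K) : GL (Fin p) F)) h
      exact Subtype.ext (Subtype.ext (by simpa using h'))
  have h := ((centralizer_big K d).trans hle).trans (centralizer_small K hl)
  rw [hK] at h
  have h3 : 3 ≤ p := by
    have := hp.out.two_le
    omega
  have : p ^ 3 ≤ p ^ p := Nat.pow_le_pow_right hp.out.pos h3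
  nlinarith [hp.out.two_le, show p ^ 3 = p * p * p by ring]

omit [Fintype F] in
theorem gl_apply_ext {g h : GL (Fin p) F}
    (e : ∀ i j, (g : Matrix (Fin p) (Fin p) F) i j = (h : Matrix (Fin p) (Fin p) F) i j) : g = h :=
  Units.ext (Matrix.ext e)

/-- A non-diagonal element with product one is conjugate to a diagonal element with distinct
eigenvalues. -/
theorem exists_eigen {a d : Fin p → Fˣ} {l : Fin p} (hl : l ≠ (0 : Fin p))
    (hprod : ∏ i, a i = 1) (hd : Function.Injective d) (hdp : ∀ i, d i ^ p = 1) :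
    ∃ g : GL (Fin p) F, g * mon d (0 : Fin p) * g⁻¹ = mon a l := by
  classical
  haveI : NeZero p := ⟨hp.out.ne_zero⟩
  obtain ⟨σ, hσ⟩ := exists_index l hl
  let A : ℕ → Fˣ := fun n => ∏ r ∈ Finset.range n, a (σ ⟨r % p, Nat.mod_lt _ hp.out.pos⟩)
  have hAp : A p = 1 := by
    show ∏ r ∈ Finset.range p, _ = 1
    rw [← hprod, ← Equiv.prod_comp σ a, Finset.prod_range]
    exact Finset.prod_congr rfl fun r _ => by
      rw [show (⟨(r : ℕ) % p, Nat.mod_lt _ hp.out.pos⟩ : Fin p) = r from Fin.ext (Nat.mod_eq_of_lt r.2)]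
  let V : Fin p → Fin p → Fˣ := fun i k => d k ^ ((σ.symm i : Fin p) : ℕ) / A (σ.symm i : Fin p)
  let Mm : Matrix (Fin p) (Fin p) F := Matrix.of fun i k => (V i k : F)
  have hdet : Mm.det ≠ 0 := by
    have e : Mm = Matrix.diagonal (fun i => (((A (σ.symm i : Fin p))⁻¹ : Fˣ) : F)) *
        ((Matrix.vandermonde fun k => (d k : F)).transpose.submatrix σ.symm id) := by
      ext i k
      rw [Matrix.diagonal_mul]
      simp [Mm, V, div_eq_inv_mul, Matrix.vandermonde]
    rw [e, Matrix.det_mul, Matrix.det_diagonal, Matrix.det_permute, Matrix.det_transpose]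
    refine mul_ne_zero (Finset.prod_ne_zero_iff.2 fun i _ => Units.ne_zero _) (mul_ne_zero ?_ ?_)
    · rcases Int.units_eq_one_or (Equiv.Perm.sign σ.symm) with h | h <;> simp [h]
    · exact Matrix.det_vandermonde_ne_zero_iff.2 fun i j h => hd (Units.ext h)
  refine ⟨Matrix.GeneralLinearGroup.mkOfDetNeZero Mm hdet, ?_⟩
  rw [mul_inv_eq_iff_eq_mul]
  refine gl_apply_ext fun i k => ?_
  rw [Units.val_mul, Units.val_mul, mon_val, mon_val, mul_mat_apply, mat_mul_apply]
  simp only [Nat.cast_zero, sub_zero]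
  show (V i k : F) * (d k : F) = (a i : F) * (V (i + l) k : F)
  rw [← Units.val_mul, ← Units.val_mul]
  congr 1
  obtain ⟨n, rfl⟩ := σ.surjective i
  simp only [V, hσ n, Equiv.symm_apply_apply]
  have hA1 : A ((n : ℕ) + 1) = A n * a (σ n) := by
    show ∏ r ∈ Finset.range ((n : ℕ) + 1), _ = _
    rw [Finset.prod_range_succ, show (⟨(n : ℕ) % p, Nat.mod_lt _ hp.out.pos⟩ : Fin p) = n from
      Fin.ext (Nat.mod_eq_of_lt n.2)]
  rcases Nat.lt_or_ge ((n : ℕ) + 1) p with hlt | hge
  · rw [Nat.mod_eq_of_lt hlt, hA1, pow_succ, div_eq_mul_inv, div_eq_mul_inv, mul_inv]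
    simp [mul_comm, mul_left_comm, mul_assoc]
  · have hn : (n : ℕ) + 1 = p := by have := n.2; omega
    rw [hn, Nat.mod_self]
    rw [show A 0 = 1 from Finset.prod_range_zero _, pow_zero, div_one, mul_one]
    rw [hn, hAp] at hA1
    have hinv : a (σ n) = (A n)⁻¹ := eq_inv_of_mul_eq_one_right hA1.symm
    rw [hinv, div_eq_mul_inv, mul_right_comm, ← pow_succ, hn, hdp, one_mul]

theorem transvection_case (K : Subgroup Fˣ) {ζ : Fˣ} (hζ : ζ ∈ K) (hζ1 : ζ ≠ 1) {a : Fin p → Fˣ}
    {i₀ j₀ : Fin p} (hne : i₀ ≠ j₀) (ha : a i₀ = a j₀) :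
    ∃ g : GL (Fin p) F, g ∉ Subgroup.normalizer ((monGroup K : Subgroup (GL (Fin p) F)) : Set (GL (Fin p) F)) ∧
      Commute g (mon a (0 : Fin p)) := by
  classical
  haveI : NeZero p := ⟨hp.out.ne_zero⟩
  let T : Matrix (Fin p) (Fin p) F := Matrix.transvection i₀ j₀ 1
  have hdet : T.det ≠ 0 := by
    show (Matrix.transvection i₀ j₀ (1 : F)).det ≠ 0
    rw [Matrix.det_transvection_of_ne _ _ hne]
    exact one_ne_zero
  have hT : ∀ i j, T i j = (if i = j then 1 else 0) + (if i = i₀ ∧ j = j₀ then 1 else 0) := by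
    intro i j
    simp [T, Matrix.transvection, Matrix.one_apply, Matrix.single_apply, eq_comm]
  refine ⟨Matrix.GeneralLinearGroup.mkOfDetNeZero T hdet, fun hn => ?_, ?_⟩
  · let δ : Fin p → Fˣ := Function.update (fun _ => 1) i₀ ζ
    have hδ : mon δ (0 : Fin p) ∈ monGroup K := ⟨_, _, fun i => by
      by_cases e : i = i₀
      · simp [δ, e, hζ]
      · simp [δ, e], rfl⟩
    obtain ⟨b, s, -, hbs⟩ := mem_monGroup.1 ((Subgroup.mem_normalizer_iff.1 hn _).1 hδ)
    rw [mul_inv_eq_iff_eq_mul] at hbs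
    have e := fun i j => congrFun (congrFun (congrArg (fun g : GL (Fin p) F => (g : Matrix (Fin p) (Fin p) F)) hbs) i) j
    simp only [Units.val_mul, mon_val, mul_mat_apply, mat_mul_apply, Nat.cast_zero, sub_zero] at e
    change ∀ i j, T i j * (δ j : F) = (b i : F) * T (i + s) j at e
    have e1 := e i₀ i₀
    have e2 := e i₀ j₀
    simp only [hT, hne, Ne.symm hne, if_true, if_false, and_true, and_false, add_zero, zero_add,
      true_and, false_and] at e1 e2
    simp only [δ, Function.update_self, Function.update_of_ne (Ne.symm hne), Units.val_one, one_mul] at e1 e2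
    have hs : i₀ + s = i₀ := by
      by_contra hs
      rw [if_neg hs, mul_zero] at e1
      exact ζ.ne_zero e1
    rw [hs] at e1 e2
    simp [hne] at e1 e2
    exact hζ1 (Units.ext (by rw [Units.val_one, e1, ← e2]))
  · refine gl_apply_ext fun i j => ?_
    rw [Units.val_mul, Units.val_mul, mon_val, mul_mat_apply, mat_mul_apply]
    simp only [Nat.cast_zero, sub_zero, add_zero]
    show T i j * (a j : F) = (a i : F) * T i j
    rw [hT]
    by_cases hij : i = j
    · subst hij; rw [mul_comm]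
    · by_cases h' : i = i₀ ∧ j = j₀
      · obtain ⟨rfl, rfl⟩ := h'
        rw [ha, mul_comm]
      · simp [hij, h']

theorem affine_case (hp2 : p ≠ 2) (K : Subgroup Fˣ) (hKp : ∀ c ∈ K, c ^ p = 1) {ζ : Fˣ}
    (hζ : ζ ∈ K) (hζ1 : ζ ≠ 1) {a : Fin p → Fˣ} (ha : ∀ i, a i ∈ K) {l : Fin p}
    (hl : l ≠ (0 : Fin p)) (hprod : ∏ i, a i ≠ 1) :
    ∃ g : GL (Fin p) F, g ∉ Subgroup.normalizer ((monGroup K : Subgroup (GL (Fin p) F)) : Set (GL (Fin p) F)) ∧
      Commute g (mon a l) := by
  classical
  haveI : NeZero p := ⟨hp.out.ne_zero⟩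
  have hl0 : l ≠ 0 := by simpa using hl
  obtain ⟨σ, hσ⟩ := exists_index l hl
  set x : Matrix (Fin p) (Fin p) F := mat (fun i => (a i : F)) l with hx
  let M : Matrix (Fin p) (Fin p) F := 1 + x
  have hM : ∀ i j, M i j = (if i = j then 1 else 0) + (if j = i + l then (a i : F) else 0) := by
    intro i j
    simp [M, x, mat, Matrix.one_apply]
  have hdet : M.det ≠ 0 := by
    intro h0
    obtain ⟨v, hv0, hv⟩ := Matrix.exists_mulVec_eq_zero_iff.2 h0
    have hrec : ∀ i, v i + (a i : F) * v (i + l) = 0 := by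
      intro i
      have := congrFun hv i
      simp only [M, Matrix.add_mulVec, Matrix.one_mulVec, Pi.add_apply, Pi.zero_apply] at this
      rw [← this]
      simp [x, mat, Matrix.mulVec, dotProduct, ite_mul]
    let w : ℕ → F := fun n => v (σ ⟨n % p, Nat.mod_lt _ hp.out.pos⟩)
    let A : ℕ → F := fun n => ∏ r ∈ Finset.range n, (a (σ ⟨r % p, Nat.mod_lt _ hp.out.pos⟩) : F)
    have hw : ∀ n, w 0 = (-1) ^ n * A n * w n := by
      intro n
      induction n with
      | zero => simp [A]
      | succ n ih =>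
        rw [ih]
        have h1 := hrec (σ ⟨n % p, Nat.mod_lt _ hp.out.pos⟩)
        rw [hσ] at h1
        have e : (⟨(n % p + 1) % p, Nat.mod_lt _ hp.out.pos⟩ : Fin p) = ⟨(n + 1) % p, Nat.mod_lt _ hp.out.pos⟩ :=
          Fin.ext (by simp)
        simp only at h1
        rw [e] at h1
        show (-1) ^ n * A n * w n = _
        rw [show w n = -((a (σ ⟨n % p, Nat.mod_lt _ hp.out.pos⟩) : F) * w (n + 1)) from
          eq_neg_of_add_eq_zero_left h1, show A (n + 1) = A n * (a (σ ⟨n % p, Nat.mod_lt _ hp.out.pos⟩) : F) from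
          Finset.prod_range_succ _ _, pow_succ]
        ring
    have hAp : A p = ((∏ i, a i : Fˣ) : F) := by
      show ∏ r ∈ Finset.range p, _ = _
      rw [Units.coe_prod, ← Equiv.prod_comp σ (fun i => (a i : F)), Finset.prod_range]
      exact Finset.prod_congr rfl fun r _ => by
        rw [show (⟨(r : ℕ) % p, Nat.mod_lt _ hp.out.pos⟩ : Fin p) = r from Fin.ext (Nat.mod_eq_of_lt r.2)]
    have hw0 : w 0 ≠ 0 := by
      intro e0
      refine hv0 (funext fun i => ?_)
      obtain ⟨n, rfl⟩ := σ.surjective i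
      have := hw n
      rw [e0] at this
      have hA : A n ≠ 0 := Finset.prod_ne_zero_iff.2 fun r _ => Units.ne_zero _
      rcases mul_eq_zero.1 this.symm with k | k
      · rcases mul_eq_zero.1 k with k | k
        · exact absurd k (pow_ne_zero _ (neg_ne_zero.2 one_ne_zero))
        · exact absurd k hA
      · simp only [w] at k
        rwa [show (⟨(n : ℕ) % p, Nat.mod_lt _ hp.out.pos⟩ : Fin p) = n from Fin.ext (Nat.mod_eq_of_lt n.2)] at k
    have hwp := hw p
    have hodd : Odd p := hp.out.odd_of_ne_two hp2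
    rw [show w p = w 0 by simp [w], hAp, Odd.neg_one_pow hodd] at hwp
    have hc : ((∏ i, a i : Fˣ) : F) = -1 := by
      have h1 : (((∏ i, a i : Fˣ) : F) + 1) * w 0 = 0 := by linear_combination hwp
      exact eq_neg_of_add_eq_zero_left ((mul_eq_zero.1 h1).resolve_right hw0)
    have hcp : ((∏ i, a i : Fˣ) : F) ^ p = 1 := by
      rw [← Units.val_pow_eq_pow_val, hKp _ (K.prod_mem fun i _ => ha i), Units.val_one]
    rw [hc, Odd.neg_one_pow hodd] at hcp
    exact hprod (Units.ext (by rw [hc, hcp, Units.val_one]))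
  refine ⟨Matrix.GeneralLinearGroup.mkOfDetNeZero M hdet, fun hn => ?_, ?_⟩
  · let δ : Fin p → Fˣ := Function.update (fun _ => 1) 0 ζ
    have hδ : mon δ (0 : Fin p) ∈ monGroup K := ⟨_, _, fun i => by
      by_cases e : i = 0
      · simp [δ, e, hζ]
      · simp [δ, e], rfl⟩
    obtain ⟨b, s, -, hbs⟩ := mem_monGroup.1 ((Subgroup.mem_normalizer_iff.1 hn _).1 hδ)
    rw [mul_inv_eq_iff_eq_mul] at hbs
    have e := fun i j => congrFun (congrFun (congrArg (fun g : GL (Fin p) F => (g : Matrix (Fin p) (Fin p) F)) hbs) i) j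
    simp only [Units.val_mul, mon_val, mul_mat_apply, mat_mul_apply, Nat.cast_zero, sub_zero] at e
    change ∀ i j, M i j * (δ j : F) = (b i : F) * M (i + s) j at e
    have hs : s = 0 := by
      by_contra hs0
      have e1 := e 0 0
      have e2 := e 0 (0 + l)
      simp only [hM, zero_add] at e1 e2
      rw [if_neg (fun h : s = 0 => hs0 h), zero_add, if_neg (fun h : (0 : Fin p) = l => hl0 h.symm), add_zero] at e1
      rw [if_neg (fun h : (0 : Fin p) = l => hl0 h.symm), zero_add] at e2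
      simp only [if_true, one_mul] at e1 e2
      by_cases h1 : (0 : Fin p) = s + l
      · by_cases h2 : s = l
        · subst h2
          have h4 : 2 • s = 0 := by rw [two_nsmul]; exact h1.symm
          have h5 : addOrderOf s = p := addOrderOf_eq_prime (by simpa using card_nsmul_eq_zero' (G := Fin p) (x := s)) hl0
          have h6 := (h5 ▸ addOrderOf_dvd_of_nsmul_eq_zero h4 : p ∣ 2)
          exact hp2 ((Nat.prime_dvd_prime_iff_eq hp.out Nat.prime_two).1 h6)
        · rw [if_neg h2, if_neg (fun h : l = s + l => hs0 (by simpa using h.symm)), add_zero, mul_zero] at e2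
          exact mul_ne_zero (a 0).ne_zero (δ l).ne_zero e2
      · rw [if_neg h1, mul_zero] at e1
        exact (δ 0).ne_zero e1
    subst hs
    have e1 := e 0 0
    have e2 := e 0 (0 + l)
    simp only [hM, zero_add, add_zero] at e1 e2
    rw [if_neg (fun h : (0 : Fin p) = l => hl0 h.symm), add_zero] at e1
    rw [if_neg (fun h : (0 : Fin p) = l => hl0 h.symm), zero_add] at e2
    simp only [if_true, δ, Function.update_self, Function.update_of_ne hl0, Units.val_one, one_mul,
      mul_one] at e1 e2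
    refine hζ1 (Units.ext ?_)
    rw [Units.val_one, e1]
    exact mul_right_cancel₀ (a 0).ne_zero (by rw [one_mul]; exact e2.symm)
  · refine Units.ext ?_
    rw [Units.val_mul, Units.val_mul, mon_val]
    show M * x = x * M
    simp [M, add_mul, mul_add]

theorem padic_card_GL (hp2 : p ≠ 2) (h1 : p ∣ Fintype.card F - 1)
    (h2 : ¬ p ^ 2 ∣ Fintype.card F - 1) : padicValNat p (Nat.card (GL (Fin p) F)) = p + 1 := by
  set q := Fintype.card F with hq
  have hq1 : 1 < q := Fintype.one_lt_card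
  have hodd : Odd p := hp.out.odd_of_ne_two hp2
  have hpq : ¬ p ∣ q := by
    intro h
    have := Nat.dvd_sub h h1
    rw [show q - (q - 1) = 1 by omega] at this
    exact hp.out.one_lt.ne' (Nat.dvd_one.1 this)
  have hv1 : padicValNat p (q - 1) = 1 := by
    have h0 : q - 1 ≠ 0 := by omega
    have ha : 1 ≤ padicValNat p (q - 1) := one_le_padicValNat_of_dvd h0 h1
    have hb : ¬ 2 ≤ padicValNat p (q - 1) := fun h => h2 ((padicValNat_dvd_iff_le h0).2 h)
    omega
  have hterm : ∀ i : Fin p, q ^ p - q ^ (i : ℕ) ≠ 0 ∧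
      padicValNat p (q ^ p - q ^ (i : ℕ)) = if (i : ℕ) = 0 then 2 else 1 := by
    intro i
    have hi := i.2
    have e : q ^ p - q ^ (i : ℕ) = q ^ (i : ℕ) * (q ^ (p - i) - 1) := by
      rw [Nat.mul_sub, mul_one, ← pow_add, show (i : ℕ) + (p - i) = p by omega]
    have hne : q ^ (p - (i : ℕ)) - 1 ≠ 0 := by
      have := Nat.one_lt_pow (by omega : p - (i : ℕ) ≠ 0) hq1
      omega
    have hq0 : q ^ (i : ℕ) ≠ 0 := pow_ne_zero _ (by omega)
    refine ⟨e ▸ mul_ne_zero hq0 hne, ?_⟩
    have hlte := padicValNat.pow_sub_pow (p := p) hodd (x := q) (y := 1) hq1 h1 hpq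
      (n := p - (i : ℕ)) (by omega)
    rw [one_pow, hv1] at hlte
    rw [e, padicValNat.mul hq0 hne, hlte, padicValNat.eq_zero_of_not_dvd
      (fun h => hpq (hp.out.dvd_of_dvd_pow h)), zero_add]
    by_cases h0 : (i : ℕ) = 0
    · rw [if_pos h0, h0, Nat.sub_zero, padicValNat.self hp.out.one_lt]
    · rw [if_neg h0, padicValNat.eq_zero_of_not_dvd (fun h => by
        have := Nat.le_of_dvd (by omega) h
        omega)]
  have hsum : ∀ s : Finset (Fin p), padicValNat p (∏ i ∈ s, (q ^ p - q ^ (i : ℕ))) =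
      ∑ i ∈ s, padicValNat p (q ^ p - q ^ (i : ℕ)) := by
    classical
    intro s
    induction s using Finset.induction_on with
    | empty => simp
    | insert a s ha ih =>
      rw [Finset.prod_insert ha, Finset.sum_insert ha, padicValNat.mul (hterm a).1
        (Finset.prod_ne_zero_iff.2 fun i _ => (hterm i).1), ih]
  rw [Matrix.card_GL_field, hsum, Finset.sum_congr rfl fun i _ => (hterm i).2]
  haveI : NeZero p := ⟨hp.out.ne_zero⟩
  rw [← Finset.add_sum_erase _ _ (Finset.mem_univ (0 : Fin p)), Finset.sum_congr rfl (g := fun _ => 1)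
    (fun i hi => if_neg fun h => Finset.ne_of_mem_erase hi (Fin.ext (by simpa using h))),
    Finset.sum_const, Finset.card_erase_of_mem (Finset.mem_univ _), Finset.card_univ, Fintype.card_fin]
  have := hp.out.two_le
  simp
  omega

/-- Let p be an odd prime and F a finite field with q elements such that p divides q - 1 but p² does not. Then GL(p, F) has a Sylow p-subgroup Q such that every element of p-power order lies in some Sylow p-subgroup other than Q (a redundant Sylow p-subgroup). -/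
theorem result {F : Type*} [Field F] [Fintype F] (p : ℕ) [Fact p.Prime]
    (hp : p ≠ 2) (h1 : p ∣ Fintype.card F - 1) (h2 : ¬ p ^ 2 ∣ Fintype.card F - 1) :
    ∃ Q : Sylow p (Matrix.GeneralLinearGroup (Fin p) F), ∀ x : Matrix.GeneralLinearGroup (Fin p) F,
      (∃ k : ℕ, orderOf x = p ^ k) → ∃ P : Sylow p (Matrix.GeneralLinearGroup (Fin p) F), P ≠ Q ∧ x ∈ P := by
  classical
  haveI : NeZero p := ⟨(Fact.out : p.Prime).ne_zero⟩
  obtain ⟨ζ, hζ⟩ : ∃ ζ : Fˣ, orderOf ζ = p := by
    refine exists_prime_orderOf_dvd_card' p ?_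
    rw [Nat.card_units, Nat.card_eq_fintype_card]
    exact h1
  set K := Subgroup.zpowers ζ with hK
  have hKc : Nat.card K = p := by rw [hK, Nat.card_zpowers, hζ]
  have hKp : ∀ c ∈ K, c ^ p = 1 := fun c hc => by
    have := pow_card_eq_one' (G := K) (x := ⟨c, hc⟩)
    rw [hKc] at this
    exact congrArg Subtype.val this
  have hζK : ζ ∈ K := Subgroup.mem_zpowers ζ
  have hζ1 : ζ ≠ 1 := fun e => by
    rw [e, orderOf_one] at hζ
    exact (Fact.out : p.Prime).one_lt.ne hζ
  have hcard : Nat.card (monGroup (p := p) K) = p ^ (Nat.card (GL (Fin p) F)).factorization p := by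
    rw [card_monGroup, hKc, Nat.factorization_def _ Fact.out, padic_card_GL hp h1 h2, pow_succ]
  let Q : Sylow p (GL (Fin p) F) := Sylow.ofCard (monGroup K) hcard
  have hQ : (Q : Subgroup (GL (Fin p) F)) = monGroup K := Sylow.coe_ofCard _ hcard
  let d : Fin p → Fˣ := fun k => ζ ^ (k : ℕ)
  have hd : Function.Injective d := fun u v h =>
    Fin.ext (pow_injOn_Iio_orderOf (by simp [hζ]) (by simp [hζ]) h)
  have hdp : ∀ i, d i ^ p = 1 := fun i => hKp _ (Subgroup.pow_mem _ hζK _)
  refine ⟨Q, fun x hx => ?_⟩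
  have hxp : IsPGroup p (Subgroup.zpowers x) := by
    obtain ⟨k, hk⟩ := hx
    exact IsPGroup.of_card (n := k) (by rw [Nat.card_zpowers, hk])
  by_cases hxQ : x ∈ monGroup K
  swap
  · obtain ⟨P, hP⟩ := hxp.exists_le_sylow
    exact ⟨P, fun e => hxQ (hQ ▸ e ▸ hP (Subgroup.mem_zpowers x)), hP (Subgroup.mem_zpowers x)⟩
  -- it is enough to find a conjugator outside the normaliser
  have finish : ∀ g : GL (Fin p) F, g ∉ Subgroup.normalizer ((monGroup K : Subgroup (GL (Fin p) F)) : Set (GL (Fin p) F)) →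
      g⁻¹ * x * g ∈ monGroup K →
      ∃ P : Sylow p (GL (Fin p) F), P ≠ Q ∧ x ∈ P := by
    intro g hg hgx
    refine ⟨g • Q, fun e => hg ?_, ?_⟩
    · rw [← hQ]
      exact Sylow.smul_eq_iff_mem_normalizer.1 e
    · show x ∈ ((g • Q : Sylow p (GL (Fin p) F)) : Subgroup (GL (Fin p) F))
      rw [Sylow.coe_subgroup_smul, hQ, Subgroup.mem_pointwise_smul_iff_inv_smul_mem]
      simpa [MulAut.smul_def, mul_assoc] using hgx
  obtain ⟨a, l, ha, rfl⟩ := hxQ
  by_cases hl : l = (0 : Fin p)
  · subst hl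
    by_cases hinj : Function.Injective a
    · have hne : (1 : Fin p) ≠ (0 : Fin p) := by
        intro e
        have := congrArg Fin.val e
        simp [Fin.val_one', Nat.mod_eq_of_lt (Fact.out : p.Prime).one_lt] at this
      obtain ⟨g, hg⟩ := exists_eigen (a := fun _ => 1) (d := a) hne (by simp) hinj
        (fun i => hKp _ (ha i))
      refine finish g⁻¹ (fun h => not_mem_normalizer hp K hKc hne hg (by simpa using Subgroup.inv_mem _ h)) ?_
      rw [inv_inv, hg]
      exact ⟨_, _, fun _ => K.one_mem, rfl⟩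
    · obtain ⟨i₀, j₀, hij, hne⟩ : ∃ i j, a i = a j ∧ i ≠ j := by
        unfold Function.Injective at hinj
        push Not at hinj
        exact hinj
      obtain ⟨g, hg, hc⟩ := transvection_case K hζK hζ1 hne hij
      refine finish g hg ?_
      rw [mul_assoc, ← hc.eq, inv_mul_cancel_left]
      exact ⟨a, _, ha, rfl⟩
  by_cases hprod : ∏ i, a i = 1
  · obtain ⟨g, hg⟩ := exists_eigen hl hprod hd hdp
    refine finish g (not_mem_normalizer hp K hKc hl hg) ?_
    rw [← hg]
    refine ⟨d, (0 : Fin p), fun i => Subgroup.pow_mem _ hζK _, ?_⟩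
    group
  · obtain ⟨g, hg, hc⟩ := affine_case hp K hKp hζK hζ1 ha hl hprod
    refine finish g hg ?_
    rw [mul_assoc, ← hc.eq, inv_mul_cancel_left]
    exact ⟨a, l, ha, rfl⟩

end Cfsg.Agent.S4358
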