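import Cfsg.Statements.S4359
import Cfsg.Agent.Lib.Solv.SimsChain
-- import your own Cfsg.Agent.* helpers here

set_option autoImplicit false
open Pointwise
open Cfsg

namespace Cfsg.Agent.S4359

/-- Let P be a subgroup of a finite group G and g an element such that P ∩ g⁻¹Pg is a normal subgroup of prime index p in g⁻¹Pg. Let n ≥ 1 and let K be the subgroup generated by P and its conjugates g⁻ⁱPgⁱ for i ≤ n. Suppose that g normalizes no non-identity normal subgroup of P and that P meets the center of K trivially. Then the order of P is pᵗ for some t with 1 ≤ t ≤ 3n and t ≠ 3n - 1. -/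
theorem result {G : Type*} [Group G] [Finite G]
    (P : Subgroup G) (g : G) (p : ℕ) (hp : p.Prime)
    (hN : ((P ⊓ MulAut.conj g⁻¹ • P).subgroupOf (MulAut.conj g⁻¹ • P)).Normal)
    (hidx : (P ⊓ MulAut.conj g⁻¹ • P).relIndex (MulAut.conj g⁻¹ • P) = p)
    (n : ℕ) (hn : 1 ≤ n) (K : Subgroup G) (hK : K = ⨆ i ∈ Finset.range (n + 1), MulAut.conj (g ^ i)⁻¹ • P)
    (h1 : ∀ Q : Subgroup G, Q ≤ P → (Q.subgroupOf P).Normal → MulAut.conj g • Q = Q → Q = ⊥)
    (h2 : P ⊓ (Subgroup.center K).map K.subtype = ⊥) :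
    ∃ t : ℕ, Nat.card P = p ^ t ∧ 1 ≤ t ∧ t ≤ 3 * n ∧ t ≠ 3 * n - 1 := by
  haveI : Fact p.Prime := ⟨hp⟩
  have e : ∀ (a : G) (H : Subgroup G), MulAut.conj a • H = H.map (MulAut.conj a).toMonoidHom := fun a H => rfl
  have e1 : MulAut.conj g⁻¹ • P = Cfsg.Agent.Solv.Window.cj g (-1) P := by
    rw [e, Cfsg.Agent.Solv.Window.cj, zpow_neg_one]
  have e2 : ∀ Q : Subgroup G, MulAut.conj g • Q = Cfsg.Agent.Solv.Window.cj g 1 Q := fun Q => by
    rw [e, Cfsg.Agent.Solv.Window.cj, zpow_one]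
  have e3 : ∀ i : ℕ, MulAut.conj (g ^ i)⁻¹ • P = Cfsg.Agent.Solv.Window.cj g (-(i : ℤ)) P := fun i => by
    rw [e, Cfsg.Agent.Solv.Window.cj, zpow_neg, zpow_natCast]
  rw [e1] at hN hidx
  have hPK : P ≤ K := by
    rw [hK]
    refine le_trans ?_ (le_iSup₂ (f := fun i (_ : i ∈ Finset.range (n + 1)) => MulAut.conj (g ^ i)⁻¹ • P) 0
      (Finset.mem_range.2 (by omega)))
    rw [e3, Nat.cast_zero, neg_zero, Cfsg.Agent.Solv.Window.cj_zero]
  refine Cfsg.Agent.Solv.Window.sims P g hN hidx hn K ?_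
    (fun Q hQ hQn hQg => h1 Q hQ hQn (by rw [e2, hQg])) (fun z hzP hzK hz => ?_) hPK
  · rw [hK]
    exact le_of_eq (iSup_congr fun i => iSup_congr fun _ => e3 i)
  · have hmem : z ∈ P ⊓ (Subgroup.center K).map K.subtype :=
      ⟨hzP, ⟨z, hzK⟩, Subgroup.mem_center_iff.2 fun k => Subtype.ext (hz k.1 k.2), rfl⟩
    rwa [h2, Subgroup.mem_bot] at hmem

end Cfsg.Agent.S4359
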