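import Cfsg.Statements.S4363
import Cfsg.Agent.Lib.Solv.FHeight.Climb
-- import your own Cfsg.Agent.* helpers here

set_option autoImplicit false
open Cfsg

namespace Cfsg.Agent.S4363

/-- Let G be a finite solvable group and σ an automorphism of G of prime order r not dividing the order of G, with fixed-point subgroup C. Then the Fitting height of G exceeds that of C by at most 2: if C has a chain of normal subgroups 1 = C₀ ≤ ⋯ ≤ Cₙ = C with nilpotent factors, then G has such a chain of length n + 2. -/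
theorem result {G : Type*} [Group G] [Finite G]
    (hG : Group.IsSolvable G) (σ : MulAut G) (r : ℕ) (hr : r.Prime) (hσ : orderOf σ = r) (hcop : ¬ r ∣ Nat.card G)
    (C : Subgroup G) (hC : ∀ g : G, g ∈ C ↔ σ g = g) (n : ℕ) (hn : (∃ F : Fin (n + 1) → Subgroup ↥C, F 0 = ⊥ ∧ F (Fin.last n) = ⊤ ∧ Monotone F ∧ (∀ i, (F i).Normal) ∧ ∀ i : Fin n, ∃ k : ℕ, (F i.succ).lowerCentralSeries k ≤ F i.castSucc)) :
    (∃ F : Fin ((n + 2) + 1) → Subgroup G, F 0 = ⊥ ∧ F (Fin.last (n + 2)) = ⊤ ∧ Monotone F ∧ (∀ i, (F i).Normal) ∧ ∀ i : Fin (n + 2), ∃ k : ℕ, (F i.succ).lowerCentralSeries k ≤ F i.castSucc) := by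
  haveI : Fact r.Prime := ⟨hr⟩
  let φ : Subgroup.zpowers σ →* MulAut G := (Subgroup.zpowers σ).subtype
  haveI : Finite (Subgroup.zpowers σ) :=
    Nat.finite_of_card_ne_zero (by rw [Nat.card_zpowers, hσ]; exact hr.ne_zero)
  haveI : Finite (G ⋊[φ] Subgroup.zpowers σ) := Finite.of_equiv _ SemidirectProduct.equivProd.symm
  obtain ⟨s, hsdef⟩ : ∃ s : G ⋊[φ] Subgroup.zpowers σ,
      s = SemidirectProduct.inr ⟨σ, Subgroup.mem_zpowers σ⟩ := ⟨_, rfl⟩
  obtain ⟨X, hX⟩ : ∃ X, X = (SemidirectProduct.inl : G →* G ⋊[φ] Subgroup.zpowers σ).range := ⟨_, rfl⟩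
  have hXn : X.Normal := by
    rw [hX, SemidirectProduct.range_inl_eq_ker_rightHom]; infer_instance
  have hXc : Nat.card X = Nat.card G :=
    hX ▸ (Nat.card_congr (MonoidHom.ofInjective SemidirectProduct.inl_injective).toEquiv).symm
  have hsr : s ^ r = 1 := by
    rw [hsdef, ← map_pow, show (⟨σ, Subgroup.mem_zpowers σ⟩ : Subgroup.zpowers σ) ^ r = 1 from
      Subtype.ext (by rw [SubmonoidClass.coe_pow, ← hσ]; exact pow_orderOf_eq_one σ), map_one]
  have hfix : X ⊓ Subgroup.centralizer ({s} : Set (G ⋊[φ] Subgroup.zpowers σ)) =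
      C.map SemidirectProduct.inl := by
    have key : ∀ x : G, SemidirectProduct.inl x ∈
        Subgroup.centralizer ({s} : Set (G ⋊[φ] Subgroup.zpowers σ)) ↔ σ x = x := fun x => by
      rw [hsdef, Subgroup.mem_centralizer_singleton_iff,
        show σ x = φ ⟨σ, Subgroup.mem_zpowers σ⟩ x from rfl, ← SemidirectProduct.inl_inj (φ := φ),
        SemidirectProduct.inl_aut, map_inv, mul_inv_eq_iff_eq_mul, eq_comm]
    ext y
    rw [Subgroup.mem_inf, Subgroup.mem_map, hX]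
    constructor
    · rintro ⟨⟨x, rfl⟩, hy⟩
      exact ⟨x, (hC x).2 ((key x).1 hy), rfl⟩
    · rintro ⟨x, hx, rfl⟩
      exact ⟨⟨x, rfl⟩, (key x).2 ((hC x).1 hx)⟩
  have hR : Cfsg.Agent.Solv.FitTower.R n
      (X ⊓ Subgroup.centralizer ({s} : Set (G ⋊[φ] Subgroup.zpowers σ))) = ⊥ := by
    have h := Cfsg.Agent.Solv.FitTower.R_eq_bot_of_chain hn
    have h1 : C.map SemidirectProduct.inl = (⊤ : Subgroup ↥C).map
        ((SemidirectProduct.inl : G →* G ⋊[φ] Subgroup.zpowers σ).comp C.subtype) := by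
      rw [← Subgroup.map_map, ← MonoidHom.range_eq_map, Subgroup.range_subtype]
    rw [hfix, h1, ← Cfsg.Agent.Solv.FitTower.map_R, h, Subgroup.map_bot]
  have hco : (Nat.card (Subgroup.zpowers s)).Coprime (Nat.card X) := by
    refine Nat.Coprime.coprime_dvd_left ?_ ((Nat.Prime.coprime_iff_not_dvd hr).2 (hXc ▸ hcop))
    rw [Nat.card_zpowers]
    exact orderOf_dvd_of_pow_eq_one hsr
  have hsolA : Group.IsSolvable (Subgroup.zpowers s) := Group.isSolvable_of_comm fun a b => by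
    obtain ⟨i, hi⟩ := a.2
    obtain ⟨l, hl⟩ := b.2
    exact Subtype.ext (by rw [Subgroup.coe_mul, Subgroup.coe_mul, ← hi, ← hl]; exact (Commute.zpow_zpow_self s i l).eq)
  have hsolX : Group.IsSolvable X := by
    haveI := hG
    rw [hX]
    exact Group.isSolvable_of_surjective
      (f := (SemidirectProduct.inl : G →* G ⋊[φ] Subgroup.zpowers σ).rangeRestrict)
      (MonoidHom.rangeRestrict_surjective _)
  have hXR : Cfsg.Agent.Solv.FitTower.R (n + 2) X = ⊥ := by
    by_contra hne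
    obtain ⟨q, P, K, S, t⟩ := Cfsg.Agent.Solv.FitTower.exists_tower _ _ (Subgroup.zpowers s) X rfl hXn
      hsolA hco hsolX (n + 2) hne
    obtain ⟨Pf, Kf, pf, -, -, -, hseq, -⟩ :=
      Cfsg.Agent.Solv.FHeight.exists_seq (Cfsg.Agent.Solv.FitTower.R_le _ _) t
    obtain ⟨T, F, K', hch⟩ := Cfsg.Agent.Solv.FHeight.exists_chain hseq
    exact Cfsg.Agent.Solv.FHeight.Clb.false ⟨hr, hsr, hXc ▸ hcop, hch, hR⟩
  refine Cfsg.Agent.Solv.FitTower.chain_of_R_eq_bot ?_
  rw [hX, MonoidHom.range_eq_map, ← Cfsg.Agent.Solv.FitTower.map_R] at hXR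
  exact (Subgroup.map_eq_bot_iff_of_injective _ SemidirectProduct.inl_injective).1 hXR

end Cfsg.Agent.S4363
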