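import Cfsg.Statements.S4364
import Cfsg.Agent.Lib.Perm.Kazarin
import Cfsg.Agent.Lib.Fusion.Cores
import Cfsg.Agent.Lib.Solv.Subnormal

set_option autoImplicit false
set_option linter.style.haveILetI false
open Cfsg
open Cfsg.Agent.Perm.Kazarin

namespace Cfsg.Agent.S4364

/-- With trivial `O_p`, conjugates of an element of `p`-power class size commute. -/
theorem conj_commute {Q : Type*} [Group Q] [Finite Q] {p : ℕ} [hp : Fact p.Prime]
    (h0 : pCore p Q = ⊥) {x : Q} {a : ℕ}
    (hx : (Subgroup.centralizer ({x} : Set Q)).index = p ^ a) (g h : Q) :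
    (g * x * g⁻¹) * (h * x * h⁻¹) = (h * x * h⁻¹) * (g * x * g⁻¹) := by
  classical
  have hR := mem_rad hx
  haveI := rad_normal (G := Q)
  haveI hRs := rad_solvable (G := Q)
  set F := Cfsg.fittingSubgroup Q with hF
  haveI := Solv.fittingSubgroup_normal (G := Q)
  haveI hFn : Group.IsNilpotent F := Solv.fittingSubgroup_nilpotent (G := Q)
  have hpF : ¬ p ∣ Nat.card F := by
    intro hd
    let P : Sylow p F := default
    haveI hPn : (P : Subgroup F).Normal := by
      have hnc : NormalizerCondition F := Group.normalizerCondition_of_isNilpotent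
      exact Sylow.normal_of_normalizerCondition hnc P
    haveI := P.characteristic_of_normal hPn
    have h1 : (P : Subgroup F).map F.subtype ≤ pCore p Q :=
      Solv.normal_le_pCore (P.isPGroup'.map F.subtype)
    rw [h0, le_bot_iff, Subgroup.map_eq_bot_iff_of_injective _ F.subtype_injective] at h1
    exact P.ne_bot_of_dvd_card hd h1
  have hxC : x ∈ Subgroup.centralizer (F : Set Q) := by
    have hd := relIndex_centralizer_dvd F x
    rw [hx, Nat.dvd_prime_pow hp.out] at hd
    obtain ⟨b, -, hb⟩ := hd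
    have hdF : (Subgroup.centralizer ({x} : Set Q)).relIndex F ∣ Nat.card F :=
      Subgroup.relIndex_dvd_card _ _
    rw [hb] at hdF
    rcases Nat.eq_zero_or_pos b with rfl | hb0
    · rw [pow_zero, Subgroup.relIndex_eq_one] at hb
      rw [Subgroup.mem_centralizer_iff]
      exact fun f hf => Subgroup.mem_centralizer_singleton_iff.1 (hb hf)
    · exact absurd ((dvd_pow_self p hb0.ne').trans hdF) hpF
  have hxF : x ∈ F := by
    set R := solvableRadical Q
    haveI := Solv.fittingSubgroup_normal (G := R)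
    haveI := Solv.fittingSubgroup_nilpotent (G := R)
    have hsub : (Cfsg.fittingSubgroup R).map R.subtype ≤ F :=
      Solv.normal_le_fitting (@Group.nilpotent_of_mulEquiv _ _ _ _ (Solv.fittingSubgroup_nilpotent)
        (Subgroup.equivMapOfInjective _ R.subtype R.subtype_injective))
    have h1 : (⟨x, hR⟩ : R) ∈ Subgroup.centralizer (Cfsg.fittingSubgroup R : Set R) := by
      rw [Subgroup.mem_centralizer_iff] at hxC ⊢
      exact fun f hf => Subtype.ext (hxC f (hsub ⟨f, hf, rfl⟩))
    exact hsub ⟨_, Solv.centralizer_fitting_le hRs h1, rfl⟩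
  have hg : g * x * g⁻¹ ∈ F := ‹F.Normal›.conj_mem x hxF g
  haveI : (Subgroup.centralizer (F : Set Q)).Normal := inferInstance
  have hh : h * x * h⁻¹ ∈ Subgroup.centralizer (F : Set Q) := Subgroup.Normal.conj_mem inferInstance x hxC h
  exact Subgroup.mem_centralizer_iff.1 hh _ hg

/-- Let G be a finite group, p a prime and x an element whose conjugacy class has p-power size. Then for any two conjugates y and z of x, the commutator y z y⁻¹ z⁻¹ lies in O_p(G), the largest normal p-subgroup of G. -/
theorem result {G : Type*} [Group G] [Finite G] (p : ℕ) [Fact p.Prime]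
    (x : G) (hx : ∃ a : ℕ, (Subgroup.centralizer ({x} : Set G)).index = p ^ a) (g h : G) :
    (g * x * g⁻¹) * (h * x * h⁻¹) * (g * x * g⁻¹)⁻¹ * (h * x * h⁻¹)⁻¹ ∈ Cfsg.pCore p G := by
  obtain ⟨a, ha⟩ := hx
  set N := Cfsg.pCore p G
  haveI : N.Normal := Solv.pCore_normal p
  let f := QuotientGroup.mk' N
  have hle : (Subgroup.centralizer ({x} : Set G)).map f ≤ Subgroup.centralizer ({f x} : Set (G ⧸ N)) := by
    rintro _ ⟨c, hc, rfl⟩
    rw [Subgroup.mem_centralizer_singleton_iff]
    rw [SetLike.mem_coe, Subgroup.mem_centralizer_singleton_iff] at hc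
    rw [← map_mul, ← map_mul, hc]
  have hd : (Subgroup.centralizer ({f x} : Set (G ⧸ N))).index ∣ p ^ a :=
    ha ▸ (Subgroup.index_dvd_of_le hle).trans (Subgroup.index_map_dvd _ (QuotientGroup.mk'_surjective N))
  obtain ⟨b, -, hb⟩ := (Nat.dvd_prime_pow Fact.out).1 hd
  have hcm := conj_commute Fusion.pCore_quotient_eq_bot hb (f g) (f h)
  rw [← map_inv, ← map_inv, ← map_mul, ← map_mul, ← map_mul, ← map_mul, ← map_mul, ← map_mul] at hcm
  rw [← QuotientGroup.eq_one_iff]
  have h' : f (g * x * g⁻¹) * f (h * x * h⁻¹) * (f (g * x * g⁻¹))⁻¹ * (f (h * x * h⁻¹))⁻¹ = 1 := by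
    rw [← map_mul, hcm, map_mul, mul_inv_cancel_right, mul_inv_cancel]
  simpa only [f, QuotientGroup.mk'_apply, ← QuotientGroup.mk_inv, ← QuotientGroup.mk_mul] using h'

end Cfsg.Agent.S4364
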