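import Cfsg.Statements.S4370
import Mathlib
import Cfsg.Agent.Lib.Solv.UniqueSub
import Cfsg.Agent.Lib.Perm.Schmidt

set_option autoImplicit false
open Cfsg

namespace Cfsg.Agent.S4370


open Cfsg.Agent.Solv QuaternionGroup

section Aux

theorem le_of_ppow' {G : Type*} [Group G] [Finite G] {H K : Subgroup G}
    (h : ∀ (q : ℕ), q.Prime → ∀ v ∈ H, (∃ k, orderOf v = q ^ k) → v ∈ K) : H ≤ K := by
  rw [← Subgroup.subgroupOf_eq_top]
  refine Subgroup.eq_top_of_card_eq _ (Nat.dvd_antisymm (Subgroup.card_subgroup_dvd_card _) ?_)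
  refine (Nat.dvd_iff_prime_pow_dvd_dvd _ _).2 fun q k hq hk => ?_
  haveI : Fact q.Prime := ⟨hq⟩
  obtain ⟨Q, hQ⟩ := Sylow.exists_subgroup_card_pow_prime q hk
  rw [← hQ]
  refine Subgroup.card_dvd_of_le fun v hv => ?_
  rw [Subgroup.mem_subgroupOf]
  obtain ⟨j, hj⟩ := IsPGroup.iff_orderOf.1 (IsPGroup.of_card hQ) ⟨v, hv⟩
  exact h q hq v v.2 ⟨j, by rw [← hj]; exact (Subgroup.orderOf_mk (v : H) hv).symm ▸ (Subgroup.orderOf_coe v)⟩


theorem uniqueOrderP_mono {G : Type*} [Group G] {p : ℕ} (h : UniqueOrderP p G) (H : Subgroup G) :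
    UniqueOrderP p H := by
  intro a b ha hb hb1
  obtain ⟨i, hi⟩ := h (a : G) (b : G) (by rw [← SubmonoidClass.coe_pow, ha]; rfl)
    (by rw [← SubmonoidClass.coe_pow, hb]; rfl) (fun e => hb1 (Subtype.ext e))
  exact ⟨i, Subtype.ext (by simpa using hi)⟩

theorem mem_zpowers_of_cyclic {C : Type*} [Group C] [Finite C] [IsCyclic C] {p : ℕ} [hp : Fact p.Prime]
    {y w : C} (hy : y ^ p = 1) (hy1 : y ≠ 1) (hw : w ^ p = 1) : w ∈ Subgroup.zpowers y := by
  classical
  letI : Fintype C := Fintype.ofFinite C
  have ho : orderOf y = p := orderOf_eq_prime hy hy1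
  have hsub : (Subgroup.zpowers y : Set C).toFinset ⊆ Finset.univ.filter fun a : C => a ^ p = 1 := by
    intro a ha
    rw [Set.mem_toFinset, SetLike.mem_coe] at ha
    rw [Finset.mem_filter]
    obtain ⟨i, rfl⟩ := Subgroup.mem_zpowers_iff.1 ha
    exact ⟨Finset.mem_univ _, by
      rw [← zpow_natCast, ← zpow_mul, mul_comm, zpow_mul, zpow_natCast, hy, one_zpow]⟩
  have hcard : (Finset.univ.filter fun a : C => a ^ p = 1).card ≤
      ((Subgroup.zpowers y : Set C).toFinset).card := by
    refine (IsCyclic.card_pow_eq_one_le hp.out.pos).trans (le_of_eq ?_)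
    rw [Set.toFinset_card]
    show p = Fintype.card (Subgroup.zpowers y)
    rw [← Nat.card_eq_fintype_card, Nat.card_zpowers, ho]
  have hw' : w ∈ (Subgroup.zpowers y : Set C).toFinset := by
    rw [Finset.eq_of_subset_of_card_le hsub hcard, Finset.mem_filter]; exact ⟨Finset.mem_univ _, hw⟩
  simpa using hw'

theorem quat_unique (k : ℕ) : UniqueOrderP 2 (QuaternionGroup (2 ^ k)) := by
  haveI : NeZero (2 ^ k) := ⟨pow_ne_zero _ two_ne_zero⟩
  have key : ∀ x : QuaternionGroup (2 ^ k), x ^ 2 = 1 → x = 1 ∨ x = a ((2 ^ k : ℕ) : ZMod (2 * 2 ^ k)) := by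
    intro x hx
    rcases x with i | i
    · rw [sq, a_mul_a, one_def, a.injEq, ← ZMod.natCast_zmod_val i, ← Nat.cast_add,
        ZMod.natCast_eq_zero_iff] at hx
      obtain ⟨c, hc⟩ := hx
      have hlt := i.val_lt
      rcases c with _ | _ | c
      · left
        rw [one_def, a.injEq, ← ZMod.natCast_zmod_val i, show i.val = 0 by omega, Nat.cast_zero]
      · right
        rw [a.injEq, ← ZMod.natCast_zmod_val i]
        congr 1
        omega
      · exfalso
        rw [Nat.mul_add, Nat.mul_add] at hc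
        omega
    · exfalso
      rw [xa_sq, one_def, a.injEq, ZMod.natCast_eq_zero_iff] at hx
      have h1 := Nat.le_of_dvd (pow_pos two_pos k) hx
      have h2 : 0 < 2 ^ k := pow_pos two_pos k
      omega
  intro x y hx hy hy1
  rcases key x hx with rfl | rfl
  · exact one_mem _
  · rw [(key y hy).resolve_left hy1]; exact Subgroup.mem_zpowers _

theorem quat_center {k : ℕ} (hk : 1 ≤ k) (x : QuaternionGroup (2 ^ k))
    (hx : ∀ y, x * y = y * x) : x ^ 2 = 1 := by
  haveI : NeZero (2 ^ k) := ⟨pow_ne_zero _ two_ne_zero⟩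
  rcases x with i | i
  · have h := hx (xa 0)
    rw [a_mul_xa, xa_mul_a, xa.injEq] at h
    rw [sq, a_mul_a, one_def, a.injEq]
    linear_combination -h
  · exfalso
    have h := hx (a 1)
    rw [xa_mul_a, a_mul_xa, xa.injEq] at h
    have h2 : ((2 : ℕ) : ZMod (2 * 2 ^ k)) = 0 := by push_cast; linear_combination h
    rw [ZMod.natCast_eq_zero_iff] at h2
    have := Nat.le_of_dvd two_pos h2
    have : 2 ≤ 2 ^ k := Nat.le_self_pow (by omega) 2
    omega

theorem quat_not_comm {k : ℕ} (hk : 1 ≤ k) : ¬ ∀ x y : QuaternionGroup (2 ^ k), x * y = y * x := by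
  haveI : NeZero (2 ^ k) := ⟨pow_ne_zero _ two_ne_zero⟩
  intro h
  have h4 := orderOf_xa (n := 2 ^ k) 0
  have h2 := orderOf_dvd_of_pow_eq_one (quat_center hk (xa 0) (h _))
  rw [h4] at h2
  exact absurd (Nat.le_of_dvd two_pos h2) (by norm_num)

theorem quat_centralizer_cyclic {k : ℕ} (hk : 1 ≤ k) {x : QuaternionGroup (2 ^ k)}
    (hx : x ∉ Subgroup.center (QuaternionGroup (2 ^ k))) :
    IsCyclic (Subgroup.centralizer ({x} : Set (QuaternionGroup (2 ^ k)))) := by
  haveI : Fact (Nat.Prime 2) := ⟨Nat.prime_two⟩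
  haveI : NeZero (2 ^ k) := ⟨pow_ne_zero _ two_ne_zero⟩
  have hQ : IsPGroup 2 (QuaternionGroup (2 ^ k)) := IsPGroup.of_card (n := k + 2) (by
    rw [Nat.card_eq_fintype_card, QuaternionGroup.card, pow_add]; ring)
  set C := Subgroup.centralizer ({x} : Set (QuaternionGroup (2 ^ k))) with hC
  rcases cyclic_or_quaternion (hQ.to_subgroup C) (uniqueOrderP_mono (quat_unique k) C) with h | ⟨-, j, ⟨e⟩⟩
  · exact h
  rcases Nat.eq_zero_or_pos j with rfl | hj
  · haveI : IsCyclic (QuaternionGroup (2 ^ 0)) := by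
      rw [pow_zero]; exact QuaternionGroup.quaternionGroup_one_isCyclic
    exact isCyclic_of_surjective e.symm e.symm.surjective
  exfalso
  apply hx
  have hxC : x ∈ C := Subgroup.mem_centralizer_singleton_iff.2 rfl
  have h1 := quat_center hj (e ⟨x, hxC⟩) (fun y => by
    obtain ⟨⟨c, hc⟩, rfl⟩ := e.surjective y
    rw [← map_mul, ← map_mul]
    exact congrArg e (Subtype.ext (Subgroup.mem_centralizer_singleton_iff.1 hc).symm))
  rw [← map_pow, ← map_one e, e.injective.eq_iff] at h1
  have h2 : x ^ 2 = 1 := congrArg Subtype.val h1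
  by_cases hx1 : x = 1
  · rw [hx1]; exact one_mem _
  rw [Subgroup.mem_center_iff]
  intro g
  have hy : (g * x * g⁻¹) ^ 2 = 1 := by rw [conj_pow, h2, mul_one, mul_inv_cancel]
  obtain ⟨i, hi⟩ := quat_unique k (g * x * g⁻¹) x hy h2 hx1
  have hi' : x ^ i = g * x * g⁻¹ := hi
  rcases Int.even_or_odd i with ⟨s, hs⟩ | ⟨s, hs⟩
  · exfalso
    rw [hs, ← two_mul, zpow_mul, zpow_two, ← sq, h2, one_zpow] at hi'
    exact hx1 (conj_eq_one_iff.1 hi'.symm)
  · rw [hs, zpow_add_one, zpow_mul, zpow_two, ← sq, h2, one_zpow, one_mul] at hi'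
    exact (mul_inv_eq_iff_eq_mul.1 hi'.symm)

end Aux


/-- Let G be a finite non-abelian nilpotent group. Then the centralizer of every non-central element of G is cyclic if and only if G is isomorphic to the direct product of a generalized quaternion group and a cyclic group of odd order. -/
theorem result {G : Type*} [Group G] [Finite G] (hG : Group.IsNilpotent G)
    (hna : ¬ IsMulCommutative G) :
    (∀ x : G, x ∉ Subgroup.center G → IsCyclic (Subgroup.centralizer ({x} : Set G))) ↔
      ∃ (k m : ℕ), 1 ≤ k ∧ Odd m ∧ Nonempty (G ≃* QuaternionGroup (2 ^ k) × Multiplicative (ZMod m)) := by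
  classical
  constructor
  · intro h
    -- a prime whose Sylow subgroup is non-abelian
    obtain ⟨p, hp, P, hPna⟩ : ∃ p, p.Prime ∧ ∃ P : Subgroup G, (∃ n, Nat.card P = p ^ n) ∧
        ∃ a ∈ P, ∃ b ∈ P, a * b ≠ b * a := by
      by_contra hcon
      push Not at hcon
      apply hna
      refine ⟨⟨fun a b => ?_⟩⟩
      have key : ∀ q, q.Prime → ∀ v : G, (∃ k, orderOf v = q ^ k) → ∀ r, r.Prime → ∀ w : G,
          (∃ k, orderOf w = r ^ k) → v * w = w * v := by
        intro q hq v ⟨i, hi⟩ r hr w ⟨j, hj⟩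
        haveI : Fact q.Prime := ⟨hq⟩
        haveI : Fact r.Prime := ⟨hr⟩
        have h1 : IsPGroup q (Subgroup.zpowers v) := IsPGroup.of_card (by rw [Nat.card_zpowers, hi])
        have h2 : IsPGroup r (Subgroup.zpowers w) := IsPGroup.of_card (by rw [Nat.card_zpowers, hj])
        by_cases hqr : q = r
        · subst hqr
          obtain ⟨Q, hQ⟩ := h1.exists_le_sylow
          obtain ⟨R, hR⟩ := h2.exists_le_sylow
          haveI := Cfsg.Agent.Perm.sylow_normal_of_nilpotent hG Q
          haveI : Subsingleton (Sylow q G) := (Sylow.unique_of_normal Q inferInstance).instSubsingleton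
          obtain ⟨n, hn⟩ := IsPGroup.iff_card.1 Q.2
          exact hcon q hq Q ⟨n, hn⟩ v (hQ (Subgroup.mem_zpowers v)) w
            (Subsingleton.elim R Q ▸ hR (Subgroup.mem_zpowers w))
        · exact (Subgroup.mem_centralizer_iff.1 (Cfsg.Agent.Perm.commute_of_le_nilpotent (H := ⊤)
            (Group.nilpotent_of_mulEquiv Subgroup.topEquiv.symm) hqr h1 h2 le_top le_top
            (Subgroup.mem_zpowers v)) w (Subgroup.mem_zpowers w)).symm
      have htop : ∀ v : G, ∀ q, q.Prime → (∃ k, orderOf v = q ^ k) → v ∈ Subgroup.center G := by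
        intro v q hq hv
        rw [Subgroup.mem_center_iff]
        intro g
        have hle : (⊤ : Subgroup G) ≤ Subgroup.centralizer {v} := by
          refine le_of_ppow' fun r hr w _ hw => ?_
          exact Subgroup.mem_centralizer_singleton_iff.2 (key q hq v hv r hr w hw).symm
        exact Subgroup.mem_centralizer_singleton_iff.1 (hle (Subgroup.mem_top g))
      have hle : (⊤ : Subgroup G) ≤ Subgroup.center G := le_of_ppow' fun q hq v _ hv => htop v q hq hv
      exact (Subgroup.mem_center_iff.1 (hle (Subgroup.mem_top b)) a)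
    obtain ⟨⟨n0, hn0⟩, u, hu, v, hv, huv⟩ := hPna
    haveI : Fact p.Prime := ⟨hp⟩
    obtain ⟨S, hS⟩ := (IsPGroup.of_card hn0).exists_le_sylow
    have hSn := Cfsg.Agent.Perm.sylow_normal_of_nilpotent hG S
    have huz : u ∉ Subgroup.center G := fun hz => huv ((Subgroup.mem_center_iff.1 hz v).symm)
    -- S has a unique subgroup of order p
    have hU : UniqueOrderP p (S : Subgroup G) := by
      intro x y hx hy hy1
      by_contra hxy
      have hx' : (x : G) ^ p = 1 := by rw [← SubmonoidClass.coe_pow, hx]; rfl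
      have hy' : (y : G) ^ p = 1 := by rw [← SubmonoidClass.coe_pow, hy]; rfl
      have hy1' : (y : G) ≠ 1 := fun e => hy1 (Subtype.ext e)
      have hxy' : (x : G) ∉ Subgroup.zpowers (y : G) := by
        rintro ⟨i, hi⟩
        exact hxy ⟨i, Subtype.ext (by simpa using hi)⟩
      have hcyc : ∀ C : Subgroup G, IsCyclic C → (x : G) ∈ C → (y : G) ∈ C → False := by
        intro C hC hxC hyC
        haveI := hC
        have hle : ∀ w : C, w ^ p = 1 → w ∈ Subgroup.zpowers (⟨y, hyC⟩ : C) := fun w hw =>
          mem_zpowers_of_cyclic (Subtype.ext (by simpa using hy')) (fun e => hy1' (congrArg Subtype.val e)) hw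
        obtain ⟨i, hi⟩ := hle ⟨x, hxC⟩ (Subtype.ext (by simpa using hx'))
        exact hxy' ⟨i, by simpa using congrArg Subtype.val hi⟩
      by_cases hyz : (y : G) ∈ Subgroup.center G
      · by_cases hxz : (x : G) ∈ Subgroup.center G
        · exact hcyc _ (h u huz) (Subgroup.center_le_centralizer _ hxz) (Subgroup.center_le_centralizer _ hyz)
        · exact hcyc _ (h x hxz) (Subgroup.mem_centralizer_singleton_iff.2 rfl) (Subgroup.center_le_centralizer _ hyz)
      · by_cases hxy2 : Commute (x : G) y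
        · exact hcyc _ (h y hyz) (Subgroup.mem_centralizer_singleton_iff.2 hxy2.eq) (Subgroup.mem_centralizer_singleton_iff.2 rfl)
        · -- a central element of order p
          haveI : Nontrivial (S : Subgroup G) := ⟨⟨y, 1, hy1⟩⟩
          haveI := S.2.center_nontrivial
          obtain ⟨z0, hz0⟩ := exists_prime_orderOf_dvd_card' (G := Subgroup.center (S : Subgroup G)) p (by
            obtain ⟨i, hi⟩ := IsPGroup.iff_card.1 (S.2.to_subgroup (Subgroup.center (S : Subgroup G)))
            rw [hi]
            refine dvd_pow_self p ?_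
            rintro rfl
            exact absurd (Subgroup.card_eq_one.1 (by rw [hi, pow_zero])) ((Subgroup.nontrivial_iff_ne_bot _).1 inferInstance))
          set z : G := ((z0 : (S : Subgroup G)) : G)
          have hzo : orderOf z = p := by rw [Subgroup.orderOf_coe, Subgroup.orderOf_coe, hz0]
          have hzc : ∀ s ∈ (S : Subgroup G), Commute z s := fun s hs =>
            (congrArg Subtype.val (Subgroup.mem_center_iff.1 z0.2 ⟨s, hs⟩)).symm
          have hcycy := h y hyz
          haveI := hcycy
          have hzy : z ∈ Subgroup.centralizer ({(y : G)} : Set G) :=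
            Subgroup.mem_centralizer_singleton_iff.2 (hzc y y.2).eq
          letI : Fintype (Subgroup.centralizer ({(y : G)} : Set G)) := Fintype.ofFinite _
          set yC : Subgroup.centralizer ({(y : G)} : Set G) := ⟨y, Subgroup.mem_centralizer_singleton_iff.2 rfl⟩
          set zC : Subgroup.centralizer ({(y : G)} : Set G) := ⟨z, hzy⟩
          have hyo : orderOf yC = p := by rw [Subgroup.orderOf_mk]; exact orderOf_eq_prime hy' hy1'
          have hzo' : orderOf zC = p := by rw [Subgroup.orderOf_mk]; exact hzo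
          obtain ⟨i, hi⟩ := Subgroup.mem_zpowers_iff.1 (mem_zpowers_of_cyclic (w := yC) (y := zC) (p := p)
            (orderOf_dvd_iff_pow_eq_one.1 (dvd_of_eq hzo'))
            (fun e => by rw [e, orderOf_one] at hzo'; exact hp.one_lt.ne hzo') (orderOf_dvd_iff_pow_eq_one.1 (dvd_of_eq hyo)))
          have hi' : z ^ i = (y : G) := congrArg Subtype.val hi
          exact hxy2 (hi' ▸ ((hzc x x.2).symm.zpow_right i))
    have hSnc : ¬ IsCyclic (S : Subgroup G) := fun hc => by
      haveI := hc
      open scoped IsMulCommutative in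
      exact huv (congrArg Subtype.val (mul_comm (⟨u, hS hu⟩ : (S : Subgroup G)) ⟨v, hS hv⟩))
    obtain ⟨hp2, k, ⟨e⟩⟩ := (cyclic_or_quaternion S.2 hU).resolve_left hSnc
    subst hp2
    have hk : 1 ≤ k := by
      by_contra hk0
      have : k = 0 := by omega
      subst this
      haveI : IsCyclic (QuaternionGroup (2 ^ 0)) := by
        rw [pow_zero]; exact QuaternionGroup.quaternionGroup_one_isCyclic
      exact hSnc (isCyclic_of_surjective e.symm e.symm.surjective)
    haveI := hSn
    obtain ⟨R, hR⟩ := Subgroup.exists_right_complement'_of_coprime (N := (S : Subgroup G))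
      S.card_coprime_index
    have hRcard : Nat.card R = (S : Subgroup G).index := hR.symm.index_eq_card.symm
    have hRcop : (Nat.card R).Coprime 2 := by
      rw [hRcard, Nat.coprime_comm, Nat.prime_two.coprime_iff_not_dvd]; exact S.not_dvd_index
    have hcomm : ∀ s ∈ (S : Subgroup G), ∀ r ∈ R, s * r = r * s := by
      intro s hs r hr
      have hle : R ≤ Subgroup.centralizer ((S : Subgroup G) : Set G) := by
        refine le_of_ppow' fun q hq w hw ⟨j, hj⟩ => ?_
        haveI : Fact q.Prime := ⟨hq⟩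
        rcases j with _ | j
        · rw [pow_zero, orderOf_eq_one_iff] at hj; rw [hj]; exact one_mem _
        have hq2 : q ≠ 2 := fun e2 => by
          have h1 : q ∣ Nat.card R := (dvd_pow_self q (Nat.succ_ne_zero j)).trans (hj ▸ Subgroup.orderOf_dvd_natCard _ hw)
          exact Nat.prime_two.coprime_iff_not_dvd.1 hRcop.symm (e2 ▸ h1)
        exact Cfsg.Agent.Perm.commute_of_le_nilpotent (H := ⊤) (Group.nilpotent_of_mulEquiv Subgroup.topEquiv.symm)
          hq2 (IsPGroup.of_card (by rw [Nat.card_zpowers, hj])) S.2 le_top le_top (Subgroup.mem_zpowers w)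
      exact Subgroup.mem_centralizer_iff.1 (hle hr) s hs
    have hRc : IsCyclic R := by
      have hle : R ≤ Subgroup.centralizer ({u} : Set G) := fun r hr =>
        Subgroup.mem_centralizer_singleton_iff.2 (hcomm u (hS hu) r hr).symm
      haveI := h u huz
      exact isCyclic_of_injective _ (Subgroup.inclusion_injective hle)
    let f : ↥(S : Subgroup G) × R →* G := MonoidHom.noncommCoprod (S : Subgroup G).subtype R.subtype
      (fun s r => hcomm s s.2 r r.2)
    have hf : Function.Bijective f := hR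
    refine ⟨k, Nat.card R, hk, ?_, ⟨(MulEquiv.ofBijective f hf).symm.trans (MulEquiv.prodCongr e (zmodCyclicMulEquiv hRc).symm)⟩⟩
    rw [← Nat.coprime_two_right]; exact hRcop
  · rintro ⟨k, m, hk, hm, ⟨e⟩⟩ x hx
    haveI : NeZero (2 ^ k) := ⟨pow_ne_zero _ two_ne_zero⟩
    obtain ⟨⟨q, c⟩, hqc⟩ : ∃ w, e x = w := ⟨_, rfl⟩
    have hq : q ∉ Subgroup.center (QuaternionGroup (2 ^ k)) := fun hq => hx (by
      rw [Subgroup.mem_center_iff]
      intro g
      apply e.injective
      rw [map_mul, map_mul, hqc]
      exact Prod.ext (Subgroup.mem_center_iff.1 hq _) (mul_comm _ _))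
    have hC := quat_centralizer_cyclic hk hq
    set C := Subgroup.centralizer ({x} : Set G)
    let f : C →* (Subgroup.centralizer ({q} : Set (QuaternionGroup (2 ^ k)))) × Multiplicative (ZMod m) :=
      { toFun := fun g => (⟨(e g).1, Subgroup.mem_centralizer_singleton_iff.2 (by
            have h1 := congrArg (fun t => (e t).1) (Subgroup.mem_centralizer_singleton_iff.1 g.2)
            simpa [hqc] using h1)⟩, (e g).2)
        map_one' := by ext <;> simp
        map_mul' := fun a b => by ext <;> simp }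
    have hf : Function.Injective f := fun a b hab => by
      apply Subtype.ext
      apply e.injective
      exact Prod.ext (show (e a.1).1 = (e b.1).1 from congrArg (fun t => Subtype.val t.1) hab) (show (e a.1).2 = (e b.1).2 from congrArg (fun t => t.2) hab)
    have hcop : Nat.Coprime (Nat.card (Subgroup.centralizer ({q} : Set (QuaternionGroup (2 ^ k)))))
        (Nat.card (Multiplicative (ZMod m))) := by
      refine Nat.Coprime.coprime_dvd_left (Subgroup.card_subgroup_dvd_card _) ?_
      rw [Nat.card_eq_fintype_card, QuaternionGroup.card, Nat.card_congr Multiplicative.toAdd, Nat.card_zmod]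
      have h2 : Nat.Coprime 2 m := (Nat.coprime_two_left).2 hm
      rw [show 4 * 2 ^ k = 2 ^ (k + 2) by rw [pow_add]; ring]
      exact h2.pow_left _
    haveI := hC
    haveI : IsCyclic ((Subgroup.centralizer ({q} : Set (QuaternionGroup (2 ^ k)))) × Multiplicative (ZMod m)) :=
      Group.isCyclic_prod_iff.2 ⟨hC, inferInstance, hcop⟩
    exact isCyclic_of_injective f hf

end Cfsg.Agent.S4370
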