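import Cfsg.Statements.S4376
import Cfsg.Agent.Lib.Perm.OrderTypeData
import Cfsg.Agent.Lib.Perm.OrderTypeGL

set_option autoImplicit false
open Cfsg

namespace Cfsg.Agent.S4376

open Cfsg.Agent.Perm.OrderType

/-- The solvable group. -/
abbrev GS : Type := ∀ p : Σ i : Fin 20, Fin (expP i), (blkP p.1).G

/-- The non-solvable group. -/
abbrev GN : Type := (Fin 6 → L32) × (∀ p : Σ i : Fin 22, Fin (expN i), (blkN p.1).G)

theorem solvable_pi : ∀ (ι : Type) [Fintype ι] (F : ι → Type) [∀ i, Group (F i)],
    (∀ i, Group.IsSolvable (F i)) → Group.IsSolvable (∀ i, F i) := by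
  classical
  intro ι _ F _ hF
  -- derived length bounded by the sum
  have hn : ∀ i, ∃ n, derivedSeries (F i) n = ⊥ := fun i => (Group.isSolvable_def _).1 (hF i)
  choose n hn using hn
  refine (Group.isSolvable_def _).2 ⟨∑ i, n i, ?_⟩
  rw [eq_bot_iff]
  intro g hg
  rw [Subgroup.mem_bot]
  funext i
  have h1 := map_derivedSeries_le_derivedSeries (Pi.evalMonoidHom F i) (∑ i, n i)
    (Subgroup.mem_map_of_mem _ hg)
  have h2 := derivedSeries_antitone (F i) (Finset.single_le_sum (fun j _ => Nat.zero_le (n j)) (Finset.mem_univ i)) h1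
  rw [hn i, Subgroup.mem_bot] at h2
  exact h2

theorem sol_GS (n : ℕ) :
    sol GS n = ∏ i, (Blk.solFormula (blkP i).m (blkP i).data n) ^ expP i := by
  refine (sol_pi (fun p : Σ i : Fin 20, Fin (expP i) => (blkP p.1).G) n).trans ?_
  rw [Fintype.prod_sigma]
  refine Finset.prod_congr rfl fun i _ => ?_
  simp only [Finset.prod_const, Finset.card_univ, Fintype.card_fin, Blk.sol_eq]

theorem sol_GN {n : ℕ} (hn : 0 < n) :
    sol GN n = (tab.filter fun M => encPow M n = (1, 2, 4)).card ^ 6 *
      ∏ i, (Blk.solFormula (blkN i).m (blkN i).data n) ^ expN i := by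
  refine (sol_prod (Fin 6 → L32) (∀ p : Σ i : Fin 22, Fin (expN i), (blkN p.1).G) n).trans ?_
  rw [sol_pi (fun _ : Fin 6 => L32), sol_pi (fun p : Σ i : Fin 22, Fin (expN i) => (blkN p.1).G),
    Fintype.prod_sigma, Finset.prod_const, Finset.card_univ, Fintype.card_fin, sol_L32 hn]
  simp only [Finset.prod_const, Finset.card_univ, Fintype.card_fin, Blk.sol_eq]

set_option maxHeartbeats 4000000 in
theorem data_eq (d : ℕ) (hd : d ∈ Nat.divisors 84) :
    (∏ i, (Blk.solFormula (blkP i).m (blkP i).data d) ^ expP i) =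
      (tab.filter fun M => encPow M d = (1, 2, 4)).card ^ 6 *
        ∏ i, (Blk.solFormula (blkN i).m (blkN i).data d) ^ expN i := by
  revert d
  decide +kernel

theorem full_P : ∀ i, Blk.solFormula (blkP i).m (blkP i).data 84 =
    (∏ j, ((blkP i).M j).k ^ ((blkP i).M j).d) * (blkP i).m := by decide +kernel

theorem full_N : ∀ i, Blk.solFormula (blkN i).m (blkN i).data 84 =
    (∏ j, ((blkN i).M j).k ^ ((blkN i).M j).d) * (blkN i).m := by decide +kernel

theorem card_L32 : sol L32 84 = Nat.card L32 := by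
  rw [sol_L32 (by norm_num), Matrix.card_GL_field]
  simp only [ZMod.card]
  decide +kernel

theorem sol_eq (n : ℕ) (hn : 0 < n) : sol GS n = sol GN n := by
  have hS : sol GS 84 = Nat.card GS := by
    rw [sol_GS]
    refine Eq.trans ?_ (Nat.card_pi (β := fun p : Σ i : Fin 20, Fin (expP i) => (blkP p.1).G)).symm
    rw [Fintype.prod_sigma]
    refine Finset.prod_congr rfl fun i _ => ?_
    simp only [Finset.prod_const, Finset.card_univ, Fintype.card_fin, Blk.card_G, full_P]
  have hN : sol GN 84 = Nat.card GN := by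
    rw [sol_GN (by norm_num)]
    refine Eq.trans ?_ (Nat.card_prod _ _).symm
    refine congrArg₂ (· * ·) ?_ ?_
    · refine Eq.trans ?_ (Nat.card_pi (β := fun _ : Fin 6 => L32)).symm
      rw [Finset.prod_const, Finset.card_univ, Fintype.card_fin]
      exact congrArg (· ^ 6) ((sol_L32 (by norm_num)).symm.trans card_L32)
    · refine Eq.trans ?_ (Nat.card_pi (β := fun p : Σ i : Fin 22, Fin (expN i) => (blkN p.1).G)).symm
      rw [Fintype.prod_sigma]
      refine Finset.prod_congr rfl fun i _ => ?_
      simp only [Finset.prod_const, Finset.card_univ, Fintype.card_fin, Blk.card_G, full_N]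
  rw [sol_gcd hS n, sol_gcd hN n, sol_GS, sol_GN (Nat.gcd_pos_of_pos_left _ hn)]
  exact data_eq _ (Nat.mem_divisors.2 ⟨Nat.gcd_dvd_right _ _, by norm_num⟩)

/-- There are finite groups G and H having the same number of elements of each order (the same order type) with G solvable and H not solvable. -/
theorem result :
    ∃ (G : Type) (_ : Group G) (_ : Finite G) (H : Type) (_ : Group H) (_ : Finite H),
      Group.IsSolvable G ∧ ¬ Group.IsSolvable H ∧ ∀ n : ℕ, Nat.card {g : G // orderOf g = n} = Nat.card {h : H // orderOf h = n} := by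
  open Cfsg.Agent.Perm.OrderType in
  refine ⟨GS, inferInstance, inferInstance, GN, inferInstance, inferInstance,
    solvable_pi _ _ fun p => Blk.isSolvableG _, fun h => ?_, fun n => card_orderOf_eq sol_eq n⟩
  haveI := h
  have h1 : Group.IsSolvable L32 :=
    Group.isSolvable_of_surjective (f := (Pi.evalMonoidHom (fun _ : Fin 6 => L32) 0).comp (MonoidHom.fst (Fin 6 → L32) (∀ p : Σ i : Fin 22, Fin (expN i), (blkN p.1).G)))
      (fun x => ⟨(fun _ => x, 1), rfl⟩)
  exact not_isSolvable_L32 h1

end Cfsg.Agent.S4376
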