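import Cfsg.Statements.S4377


set_option autoImplicit false
open Cfsg

namespace Cfsg.Agent.S4377

universe u

theorem hdiv {A : Type u} [Group A] [Finite A] (n : ℕ) (hn : 0 < n) :
    Nat.card {g : A // g ^ n = 1} = ∑ d ∈ n.divisors, Nat.card {g : A // orderOf g = d} := by
  classical
  haveI := Fintype.ofFinite A
  rw [Nat.card_eq_fintype_card, Fintype.card_subtype, Finset.card_eq_sum_card_fiberwise
    (f := fun g : A => orderOf g) (t := n.divisors)]
  · refine Finset.sum_congr rfl fun d hd => ?_
    rw [Nat.card_eq_fintype_card, Fintype.card_subtype, Finset.filter_filter]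
    refine congrArg Finset.card (Finset.filter_congr fun g _ => ⟨And.right, fun h => ⟨?_, h⟩⟩)
    exact orderOf_dvd_iff_pow_eq_one.1 (h ▸ Nat.dvd_of_mem_divisors hd)
  · intro g hg
    have hg' := (Finset.mem_filter.1 hg).2
    exact Nat.mem_divisors.2 ⟨orderOf_dvd_of_pow_eq_one hg', hn.ne'⟩


/-- Two finite groups have the same number of elements of each order if and only if, for every n, they have the same number of elements g with gⁿ = 1. -/
theorem result {G H : Type*} [Group G] [Finite G] [Group H] [Finite H] :
    (∀ n : ℕ, Nat.card {g : G // orderOf g = n} = Nat.card {h : H // orderOf h = n}) ↔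
      ∀ n : ℕ, Nat.card {g : G // g ^ n = 1} = Nat.card {h : H // h ^ n = 1} := by
  classical
  constructor
  · intro h n
    rcases Nat.eq_zero_or_pos n with rfl | hn
    · have hcard : Nat.card G = Nat.card H := by
        have h1 := h
        haveI := Fintype.ofFinite G
        haveI := Fintype.ofFinite H
        have e1 : Nat.card {g : G // g ^ (Nat.card G * Nat.card H) = 1} = Nat.card G :=
          Nat.card_congr (Equiv.subtypeUnivEquiv fun g => by rw [pow_mul, pow_card_eq_one', one_pow])
        have e2 : Nat.card {g : H // g ^ (Nat.card G * Nat.card H) = 1} = Nat.card H :=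
          Nat.card_congr (Equiv.subtypeUnivEquiv fun g => by
            rw [mul_comm, pow_mul, pow_card_eq_one', one_pow])
        have hpos : 0 < Nat.card G * Nat.card H := Nat.mul_pos Nat.card_pos Nat.card_pos
        refine e1.symm.trans (((hdiv _ hpos).trans ((Finset.sum_congr rfl fun d _ => h d).trans
          (hdiv _ hpos).symm)).trans e2)
      rw [Nat.card_congr (Equiv.subtypeUnivEquiv fun g : G => pow_zero g),
        Nat.card_congr (Equiv.subtypeUnivEquiv fun g : H => pow_zero g)]
      exact hcard
    · rw [hdiv n hn, hdiv n hn]
      exact Finset.sum_congr rfl fun d _ => h d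
  · intro h n
    induction n using Nat.strong_induction_on with
    | _ n ih =>
      rcases Nat.eq_zero_or_pos n with rfl | hn
      · haveI : IsEmpty {g : G // orderOf g = 0} := ⟨fun g => (orderOf_pos g.1).ne' g.2⟩
        haveI : IsEmpty {g : H // orderOf g = 0} := ⟨fun g => (orderOf_pos g.1).ne' g.2⟩
        rw [Nat.card_of_isEmpty, Nat.card_of_isEmpty]
      have := h n
      rw [hdiv n hn, hdiv n hn, ← Nat.cons_self_properDivisors hn.ne', Finset.sum_cons,
        Finset.sum_cons, Finset.sum_congr rfl (fun d hd => ih d (Nat.mem_properDivisors.1 hd).2)] at this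
      exact Nat.add_right_cancel this

end Cfsg.Agent.S4377
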