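import Cfsg.Statements.S4381
import Cfsg.Agent.Lib.Solv.Coprime
import Cfsg.Agent.Lib.Solv.PGroupPhi

set_option autoImplicit false
set_option linter.style.haveILetI false
open Cfsg
open scoped Pointwise commutatorElement

namespace Cfsg.Agent.S4381

section Aux

universe u v
variable {A : Type u} [Group A] [Finite A] {G : Type v} [Group G] [Finite G]
  [MulDistribMulAction A G]

/-- Invariant subgroups. -/
def Inv (A : Type u) [Group A] {G : Type v} [Group G] [MulDistribMulAction A G]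
    (M : Subgroup G) : Prop := ∀ a : A, ∀ x ∈ M, a • x ∈ M

/-- Maximal invariant subgroups. -/
def IMax (A : Type u) [Group A] {G : Type v} [Group G] [MulDistribMulAction A G]
    (M : Subgroup G) : Prop :=
  M ≠ ⊤ ∧ (∀ a : A, ∀ x ∈ M, a • x ∈ M) ∧
    ∀ L : Subgroup G, M < L → (∀ a : A, ∀ x ∈ L, a • x ∈ L) → L = ⊤

omit [Finite A] in
theorem exists_imax {L : Subgroup G} (hL : Inv A L) (hne : L ≠ ⊤) :
    ∃ M : Subgroup G, IMax A M ∧ L ≤ M := by
  obtain ⟨M, ⟨h1, h2, h3⟩, hmax⟩ := Set.exists_max_image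
    {M : Subgroup G | Inv A M ∧ M ≠ ⊤ ∧ L ≤ M} (fun M : Subgroup G => Nat.card M) (Set.toFinite _)
    ⟨L, hL, hne, le_rfl⟩
  refine ⟨M, ⟨h2, h1, fun K hK hKi => ?_⟩, h3⟩
  by_contra hKne
  exact hK.ne (Subgroup.eq_of_le_of_card_ge hK.le (hmax K ⟨hKi, hKne, h3.trans hK.le⟩))

theorem exists_inv_sylow (hcop : (Nat.card A).Coprime (Nat.card G))
    (hsol : Group.IsSolvable A ∨ Group.IsSolvable G) (p : ℕ) [Fact p.Prime] :
    ∃ P : Subgroup G, Inv A P ∧ IsPGroup p P ∧ ¬ p ∣ P.index := by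
  let φ : A →* MulAut G := MulDistribMulAction.toMulAut A G
  haveI : Finite (SemidirectProduct G A φ) := Finite.of_equiv _ SemidirectProduct.equivProd.symm
  set K := (SemidirectProduct.inl (φ := φ)).range with hK
  set A' := (SemidirectProduct.inr (φ := φ)).range with hA'
  have hn : ∀ (a : A) (x : G), (SemidirectProduct.inr a : SemidirectProduct G A φ) *
      SemidirectProduct.inl x * (SemidirectProduct.inr a)⁻¹ = SemidirectProduct.inl (a • x) := by
    intro a x
    rw [← map_inv, ← SemidirectProduct.inl_aut]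
    rfl
  have hAK : A' ≤ Subgroup.normalizer (K : Set (SemidirectProduct G A φ)) := by
    rintro _ ⟨a, rfl⟩
    refine Subgroup.mem_normalizer_fintype ?_
    rintro _ ⟨x, rfl⟩
    exact ⟨a • x, (hn a x).symm⟩
  have hcA : Nat.card A' = Nat.card A :=
    (Nat.card_congr (MonoidHom.ofInjective SemidirectProduct.inr_injective).toEquiv).symm
  have hcK : Nat.card K = Nat.card G :=
    (Nat.card_congr (MonoidHom.ofInjective SemidirectProduct.inl_injective).toEquiv).symm
  have hsol' : Group.IsSolvable A' ∨ Group.IsSolvable K := hsol.imp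
    (fun h => @Group.isSolvable_of_surjective _ _ _ _
      (SemidirectProduct.inr (φ := φ)).rangeRestrict (MonoidHom.rangeRestrict_surjective _) h)
    (fun h => @Group.isSolvable_of_surjective _ _ _ _
      (SemidirectProduct.inl (φ := φ)).rangeRestrict (MonoidHom.rangeRestrict_surjective _) h)
  obtain ⟨P, hP, hPn⟩ := Solv.exists_invariant_sylow hAK (by rwa [hcA, hcK]) hsol' p
  have hPp := hP.isPGroup
  refine ⟨P.comap SemidirectProduct.inl, fun a x hx => ?_,
    hPp.comap_of_injective _ SemidirectProduct.inl_injective, fun hd => ?_⟩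
  · rw [Subgroup.mem_comap, ← hn]
    exact (Subgroup.mem_normalizer_iff.1 (hPn ⟨a, rfl⟩) _).1 hx
  · obtain ⟨S, hS⟩ := hP.exists_sylow
    refine S.not_dvd_index (hd.trans (dvd_of_eq ?_))
    rw [Subgroup.index_comap, ← hK]
    show _ = (S : Subgroup ↥K).index
    rw [← hS, Subgroup.relIndex, Subgroup.subgroupOf,
      Subgroup.comap_map_eq_self_of_injective K.subtype_injective]

theorem exists_inv_complement {V : Type v} [CommGroup V] [Finite V] [MulDistribMulAction A V]
    {p : ℕ} [hp : Fact p.Prime] (hexp : ∀ v : V, v ^ p = 1) (hcop : (Nat.card A).Coprime p)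
    (M : Subgroup V) (hM : Inv A M) : ∃ C : Subgroup V, Inv A C ∧ M ⊓ C = ⊥ ∧ M ⊔ C = ⊤ := by
  classical
  haveI := Fintype.ofFinite A
  obtain ⟨C, hC, hCmax⟩ := Set.exists_max_image {C : Subgroup V | M ⊓ C = ⊥}
    (fun C : Subgroup V => Nat.card C) (Set.toFinite _) ⟨⊥, inf_bot_eq M⟩
  have hsup : M ⊔ C = ⊤ := by
    rw [eq_top_iff]
    intro x _
    by_contra hx
    have hlt : C < C ⊔ Subgroup.zpowers x := lt_of_le_of_ne le_sup_left fun e =>
      hx (Subgroup.mem_sup_right (e ▸ Subgroup.mem_sup_right (Subgroup.mem_zpowers x)))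
    refine hlt.ne (Subgroup.eq_of_le_of_card_ge hlt.le (hCmax _ ?_))
    show M ⊓ (C ⊔ Subgroup.zpowers x) = ⊥
    rw [Subgroup.eq_bot_iff_forall]
    intro y hy
    obtain ⟨hyM, hy2⟩ := Subgroup.mem_inf.1 hy
    obtain ⟨c, hc, z, hz, rfl⟩ := Subgroup.mem_sup_of_normal_left.1 hy2
    obtain ⟨i, rfl⟩ := Subgroup.mem_zpowers_iff.1 hz
    have hxi : x ^ i ∈ M ⊔ C := by
      rw [show x ^ i = c⁻¹ * (c * x ^ i) by group]
      exact mul_mem (Subgroup.mem_sup_right (inv_mem hc)) (Subgroup.mem_sup_left hyM)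
    have hpi : (p : ℤ) ∣ i := by
      by_contra hpi
      obtain ⟨a, b, hab⟩ := ((Prime.coprime_iff_not_dvd (Nat.prime_iff_prime_int.1 hp.out)).2 hpi :
        IsCoprime (p : ℤ) i)
      apply hx
      have h1 : x = (x ^ i) ^ b := by
        conv_lhs => rw [← zpow_one x, ← hab, zpow_add, mul_comm a, zpow_mul, zpow_natCast, hexp,
          one_zpow, one_mul, mul_comm b, zpow_mul]
      rw [h1]
      exact zpow_mem hxi b
    obtain ⟨j, rfl⟩ := hpi
    rw [zpow_mul, zpow_natCast, hexp, one_zpow, mul_one] at hyM ⊢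
    exact Subgroup.mem_bot.1 (hC ▸ Subgroup.mem_inf.2 ⟨hyM, hc⟩)
  let f : ↥M × ↥C →* V :=
    { toFun := fun z => (z.1 : V) * z.2
      map_one' := by simp
      map_mul' := fun a b => by push_cast; exact mul_mul_mul_comm _ _ _ _ }
  have hf : Function.Bijective f := by
    constructor
    · rw [injective_iff_map_eq_one]
      rintro ⟨m, c⟩ h
      have h' : (m : V) * c = 1 := h
      have hm : (m : V) ∈ M ⊓ C := Subgroup.mem_inf.2 ⟨m.2, by rw [eq_inv_of_mul_eq_one_left h']; exact inv_mem c.2⟩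
      rw [hC, Subgroup.mem_bot] at hm
      rw [hm, one_mul] at h'
      exact Prod.ext (Subtype.ext hm) (Subtype.ext h')
    · intro v
      obtain ⟨m, hm, c, hc, rfl⟩ := Subgroup.mem_sup_of_normal_left.1
        (show v ∈ M ⊔ C from hsup ▸ Subgroup.mem_top v)
      exact ⟨(⟨m, hm⟩, ⟨c, hc⟩), rfl⟩
  let e := MulEquiv.ofBijective f hf
  let r : V →* V := M.subtype.comp ((MonoidHom.fst ↥M ↥C).comp e.symm.toMonoidHom)
  have hrM : ∀ v, r v ∈ M := fun v => (e.symm v).1.2
  have hrid : ∀ v ∈ M, r v = v := fun v hv => by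
    have : e.symm v = (⟨v, hv⟩, 1) := e.symm_apply_eq.2 (by
      show v = f (⟨v, hv⟩, 1)
      exact (mul_one v).symm)
    show ((e.symm v).1 : V) = v
    rw [this]
  let s : V →* V := ∏ a : A, ((MulDistribMulAction.toMonoidHom V a).comp
    (r.comp (MulDistribMulAction.toMonoidHom V a⁻¹)))
  have hs : ∀ v, s v = ∏ a : A, a • r (a⁻¹ • v) := fun v => by
    simp only [s, MonoidHom.finsetProd_apply]; rfl
  have hsM : ∀ v, s v ∈ M := fun v => by
    rw [hs]; exact Subgroup.prod_mem _ fun a _ => hM a _ (hrM _)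
  have hsid : ∀ v ∈ M, s v = v ^ Nat.card A := fun v hv => by
    rw [hs, Finset.prod_congr rfl (fun a _ => by rw [hrid _ (hM a⁻¹ v hv), smul_inv_smul]),
      Finset.prod_const, Finset.card_univ, Nat.card_eq_fintype_card]
  obtain ⟨a, b, hab⟩ := Nat.Coprime.isCoprime hcop
  have hpow : ∀ v : V, (v ^ Nat.card A) ^ a = v := fun v => by
    conv_rhs => rw [← zpow_one v, ← hab, zpow_add, mul_comm b, zpow_mul v (p : ℤ), zpow_natCast,
      hexp, one_zpow, mul_one, mul_comm a, zpow_mul, zpow_natCast]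
  refine ⟨s.ker, fun c v hv => ?_, ?_, ?_⟩
  · rw [MonoidHom.mem_ker] at hv ⊢
    rw [hs] at hv ⊢
    calc ∏ x : A, x • r (x⁻¹ • c • v) = ∏ x : A, c • ((c⁻¹ * x) • r ((c⁻¹ * x)⁻¹ • v)) := by
          refine Finset.prod_congr rfl fun x _ => ?_
          rw [← mul_smul c, mul_inv_cancel_left, mul_inv_rev, inv_inv, mul_smul]
      _ = c • ∏ x : A, (c⁻¹ * x) • r ((c⁻¹ * x)⁻¹ • v) := by
          rw [Finset.smul_prod']
      _ = c • ∏ x : A, x • r (x⁻¹ • v) := by
          congr 1
          exact Fintype.prod_equiv (Equiv.mulLeft c⁻¹) _ _ fun x => rfl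
      _ = 1 := by rw [hv, smul_one]
  · rw [Subgroup.eq_bot_iff_forall]
    intro v hv
    obtain ⟨h1, h2⟩ := Subgroup.mem_inf.1 hv
    rw [MonoidHom.mem_ker, hsid v h1] at h2
    rw [← hpow v, h2, one_zpow]
  · rw [eq_top_iff]
    intro v _
    have h1 : (s v) ^ a ∈ M := zpow_mem (hsM v) a
    have h2 : ((s v) ^ a)⁻¹ * v ∈ s.ker := by
      have e1 : ((s v) ^ a) ^ Nat.card A = s v := by
        rw [← zpow_natCast, ← zpow_mul, mul_comm a, zpow_mul, zpow_natCast, hpow]
      rw [MonoidHom.mem_ker, map_mul, map_inv, hsid _ h1, e1, inv_mul_cancel]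
    have := mul_mem (Subgroup.mem_sup_left h1 : _ ∈ M ⊔ s.ker) (Subgroup.mem_sup_right h2)
    rwa [mul_inv_cancel_left] at this

omit [Finite A] [Finite G] in
theorem frattini_inv : Inv A (frattini G) := fun a x hx => by
  rw [← Subgroup.characteristic_iff_map_eq.1 (inferInstance : (frattini G).Characteristic)
    (MulDistribMulAction.toMulEquiv G a)]
  exact ⟨x, hx, rfl⟩

omit [Finite A] in
theorem frattini_le_imax {M : Subgroup G} (hM : IMax A M) : frattini G ≤ M := by
  by_contra hne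
  refine hM.1 (frattini_nongenerating (hM.2.2 _ (lt_of_le_of_ne le_sup_left fun e =>
    hne (le_sup_right.trans e.ge)) fun a x hx => ?_))
  obtain ⟨m, hm, z, hz, rfl⟩ := Subgroup.mem_sup_of_normal_right.1 hx
  rw [smul_mul']
  exact mul_mem (Subgroup.mem_sup_left (hM.2.1 a m hm)) (Subgroup.mem_sup_right (frattini_inv a z hz))

omit [Finite A] in
theorem imax_normal {p : ℕ} [Fact p.Prime] (hG : IsPGroup p G) {M : Subgroup G} (hM : IMax A M) :
    M.Normal := by
  haveI : Group.IsNilpotent G := hG.isNilpotent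
  have hlt : M < Subgroup.normalizer (M : Set G) :=
    Group.normalizerCondition_of_isNilpotent M (lt_top_iff_ne_top.2 hM.1)
  refine Subgroup.normalizer_eq_top_iff.1 (hM.2.2 _ hlt fun a x hx => ?_)
  refine Subgroup.mem_normalizer_fintype fun n hn => ?_
  have h1 := (Subgroup.mem_normalizer_iff.1 hx (a⁻¹ • n)).1 (hM.2.1 a⁻¹ n hn)
  have h2 := hM.2.1 a _ h1
  rwa [smul_mul', smul_mul', smul_inv', smul_inv_smul] at h2

theorem only_frattini {p : ℕ} [Fact p.Prime] (hG : IsPGroup p G)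
    (hcop : (Nat.card A).Coprime (Nat.card G))
    (hconj : ∀ M N : Subgroup G, IMax A M → IMax A N →
      ∃ c : G, (∀ a : A, a • c = c) ∧ N = MulAut.conj c • M)
    {L : Subgroup G} (hlt : frattini G < L) (hL : Inv A L) : L = ⊤ := by
  by_contra hne
  set Φ := frattini G
  haveI : Φ.Normal := inferInstance
  letI : CommGroup (G ⧸ Φ) :=
    { (inferInstance : Group (G ⧸ Φ)) with
      mul_comm := Solv.quotient_mul_comm Φ (Solv.commutatorElement_mem_frattini hG) }
  letI : MulDistribMulAction A (G ⧸ Φ) :=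
    { smul := fun a => QuotientGroup.map Φ Φ (MulDistribMulAction.toMonoidHom G a)
        (fun x hx => frattini_inv a x hx)
      one_smul := fun v => by
        induction v using QuotientGroup.induction_on with
        | _ x => exact congrArg QuotientGroup.mk (one_smul A x)
      mul_smul := fun a b v => by
        induction v using QuotientGroup.induction_on with
        | _ x => exact congrArg QuotientGroup.mk (mul_smul a b x)
      smul_mul := fun a v w => map_mul _ v w
      smul_one := fun a => map_one _ }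
  set π := QuotientGroup.mk' Φ
  have hπs : ∀ (a : A) (x : G), a • π x = π (a • x) := fun a x => rfl
  have hexp : ∀ v : G ⧸ Φ, v ^ p = 1 := fun v => by
    induction v using QuotientGroup.induction_on with
    | _ x => exact (QuotientGroup.eq_one_iff _).2 (Solv.pow_mem_frattini hG x)
  have hcop' : (Nat.card A).Coprime p := by
    obtain ⟨n, hn⟩ := hG.exists_card_eq
    refine hcop.coprime_dvd_right (hn ▸ dvd_pow_self p ?_)
    rintro rfl
    rw [pow_zero] at hn
    haveI := (Nat.card_eq_one_iff_unique.1 hn).1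
    exact hne (Subsingleton.elim _ _)
  obtain ⟨C, hC, hinf, hsup⟩ := exists_inv_complement hexp hcop' (L.map π) (by
    rintro a _ ⟨x, hx, rfl⟩
    exact ⟨a • x, hL a x hx, (hπs a x).symm⟩)
  set C' := C.comap π
  have hC'i : Inv A C' := fun a x hx => by
    rw [Subgroup.mem_comap, ← hπs]; exact hC a _ hx
  have hC'ne : C' ≠ ⊤ := fun e => by
    have hCt : C = ⊤ := by
      rw [← Subgroup.map_comap_eq_self_of_surjective (QuotientGroup.mk'_surjective Φ) C]
      show C'.map π = ⊤
      rw [e, Subgroup.map_top_of_surjective _ (QuotientGroup.mk'_surjective Φ)]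
    rw [hCt, inf_top_eq, Subgroup.map_eq_bot_iff, QuotientGroup.ker_mk'] at hinf
    exact not_le_of_gt hlt hinf
  obtain ⟨M₁, hM₁, hLM⟩ := exists_imax hL hne
  obtain ⟨M₂, hM₂, hCM⟩ := exists_imax hC'i hC'ne
  haveI := imax_normal hG hM₁
  obtain ⟨c, -, hc⟩ := hconj M₁ M₂ hM₁ hM₂
  rw [Subgroup.Normal.conj_smul_eq_self] at hc
  subst hc
  refine hM₁.1 (eq_top_iff.2 fun x _ => ?_)
  have hx : π x ∈ L.map π ⊔ C := hsup ▸ Subgroup.mem_top _
  rw [← Subgroup.map_comap_eq_self_of_surjective (QuotientGroup.mk'_surjective Φ) C,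
    ← Subgroup.map_sup] at hx
  obtain ⟨y, hy, hyx⟩ := hx
  have h1 : y⁻¹ * x ∈ Φ := QuotientGroup.eq.1 hyx
  have h2 := mul_mem ((sup_le hLM hCM) hy) (frattini_le_imax hM₁ h1)
  rwa [mul_inv_cancel_left] at h2

theorem pgroup_of_conj (hcop : (Nat.card A).Coprime (Nat.card G))
    (hsol : Group.IsSolvable A ∨ Group.IsSolvable G)
    (hconj : ∀ M N : Subgroup G, IMax A M → IMax A N →
      ∃ c : G, (∀ a : A, a • c = c) ∧ N = MulAut.conj c • M) :
    ∃ p : ℕ, p.Prime ∧ IsPGroup p G := by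
  by_contra hno
  push Not at hno
  rcases subsingleton_or_nontrivial G with hs | hs
  · exact hno 2 Nat.prime_two fun x => ⟨0, Subsingleton.elim _ _⟩
  obtain ⟨M, hM, -⟩ := exists_imax (A := A) (L := (⊥ : Subgroup G))
    (fun a x hx => by rw [Subgroup.mem_bot.1 hx, smul_one]; exact one_mem _) bot_ne_top
  obtain ⟨q, hq, hqd⟩ := Nat.exists_prime_and_dvd (n := M.index)
    (fun h => hM.1 (Subgroup.index_eq_one.1 h))
  haveI := Fact.mk hq
  obtain ⟨P, hP, hPp, hPi⟩ := exists_inv_sylow hcop hsol q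
  have hPne : P ≠ ⊤ := fun e => hno q hq fun x => by
    obtain ⟨k, hk⟩ := hPp ⟨x, e ▸ Subgroup.mem_top x⟩
    exact ⟨k, congrArg Subtype.val hk⟩
  obtain ⟨M', hM', hPM⟩ := exists_imax hP hPne
  obtain ⟨c, -, hc⟩ := hconj M M' hM hM'
  have hidx : M'.index = M.index := by
    have h1 := M.card_mul_index
    have h2 := M'.card_mul_index
    rw [hc, Solv.card_conj_smul, ← h1] at h2
    rw [hc]
    exact Nat.eq_of_mul_eq_mul_left Nat.card_pos h2
  exact hPi ((hidx ▸ hqd).trans (Subgroup.index_dvd_of_le hPM))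

end Aux

/-- Let the finite group A act by automorphisms on the finite group G with the orders of A and G coprime, and assume that A or G is solvable. Call a proper A-invariant subgroup of G maximal A-invariant when no A-invariant subgroup lies strictly between it and G. Then all maximal A-invariant subgroups of G are conjugate under elements of the fixed-point subgroup C_G(A) if and only if G is a p-group for some prime p and A leaves invariant no subgroup strictly between the Frattini subgroup of G and G. In that case, if G is nontrivial, the Frattini subgroup is the only maximal A-invariant subgroup (a trivial G has none). -/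
theorem result {A G : Type*} [Group A] [Finite A]
    [Group G] [Finite G] [MulDistribMulAction A G] (hcop : (Nat.card A).Coprime (Nat.card G)) (hsol : Group.IsSolvable A ∨ Group.IsSolvable G) :
    ((∀ M N : Subgroup G, (M ≠ ⊤ ∧ (∀ a : A, ∀ x ∈ M, a • x ∈ M) ∧ ∀ L : Subgroup G, M < L → (∀ a : A, ∀ x ∈ L, a • x ∈ L) → L = ⊤) → (N ≠ ⊤ ∧ (∀ a : A, ∀ x ∈ N, a • x ∈ N) ∧ ∀ L : Subgroup G, N < L → (∀ a : A, ∀ x ∈ L, a • x ∈ L) → L = ⊤) →
        ∃ c : G, (∀ a : A, a • c = c) ∧ N = MulAut.conj c • M) ↔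
      ((∃ p : ℕ, p.Prime ∧ IsPGroup p G) ∧ ∀ L : Subgroup G, frattini G < L → (∀ a : A, ∀ x ∈ L, a • x ∈ L) → L = ⊤)) ∧
    (((∃ p : ℕ, p.Prime ∧ IsPGroup p G) ∧ ∀ L : Subgroup G, frattini G < L → (∀ a : A, ∀ x ∈ L, a • x ∈ L) → L = ⊤) →
      ∀ M : Subgroup G, (M ≠ ⊤ ∧ (∀ a : A, ∀ x ∈ M, a • x ∈ M) ∧ ∀ L : Subgroup G, M < L → (∀ a : A, ∀ x ∈ L, a • x ∈ L) → L = ⊤) ↔ (M = frattini G ∧ M ≠ ⊤)) := by
  have part2 : ((∃ p : ℕ, p.Prime ∧ IsPGroup p G) ∧
      ∀ L : Subgroup G, frattini G < L → Inv A L → L = ⊤) →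
      ∀ M : Subgroup G, IMax A M ↔ (M = frattini G ∧ M ≠ ⊤) := by
    rintro ⟨-, h⟩ M
    constructor
    · intro hM
      refine ⟨le_antisymm ?_ (frattini_le_imax hM), hM.1⟩
      by_contra hne
      exact hM.1 (h M (lt_of_le_not_ge (frattini_le_imax hM) hne) hM.2.1)
    · rintro ⟨rfl, hne⟩
      exact ⟨hne, frattini_inv, h⟩
  refine ⟨⟨fun hconj => ?_, fun h M N hM hN => ?_⟩, fun h M => part2 h M⟩
  · obtain ⟨p, hp, hG⟩ := pgroup_of_conj hcop hsol hconj
    haveI := Fact.mk hp
    exact ⟨⟨p, hp, hG⟩, fun L h1 h2 => only_frattini hG hcop hconj h1 h2⟩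
  · refine ⟨1, fun a => smul_one a, ?_⟩
    rw [((part2 h M).1 hM).1, ((part2 h N).1 hN).1, Solv.conj_one_smul]

end Cfsg.Agent.S4381
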