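import Cfsg.Statements.S4387


set_option autoImplicit false
open Pointwise
open Cfsg
open scoped Pointwise

namespace Cfsg.Agent.S4387

/-- Let G be a non-trivial finite group in which any two maximal subgroups are conjugate. Then G is cyclic of prime-power order. -/
theorem result {G : Type*} [Group G] [Finite G] [Nontrivial G]
    (h : ∀ M N : Subgroup G, IsCoatom M → IsCoatom N → ∃ g : G, N = MulAut.conj g • M) :
    IsCyclic G ∧ IsPrimePow (Nat.card G) := by
  classical
  obtain ⟨M, hM⟩ : ∃ M : Subgroup G, IsCoatom M := by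
    obtain ⟨M, hM, -⟩ := (eq_top_or_exists_le_coatom (⊥ : Subgroup G)).resolve_left bot_ne_top
    exact ⟨M, hM⟩
  haveI := Fintype.ofFinite G
  haveI := Fintype.ofFinite (G ⧸ M)
  obtain ⟨g, hg⟩ : ∃ g : G, ∀ q : G ⧸ M, g • q ≠ q := by
    by_contra hcon
    push Not at hcon
    have hb := MulAction.sum_card_fixedBy_eq_card_orbits_mul_card_group G (G ⧸ M)
    haveI : Subsingleton (Quotient (MulAction.orbitRel G (G ⧸ M))) := ⟨fun a b => by
      induction a using Quotient.inductionOn with
      | h a =>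
        induction b using Quotient.inductionOn with
        | h b => exact Quotient.sound (MulAction.exists_smul_eq G b a)⟩
    haveI : Nonempty (Quotient (MulAction.orbitRel G (G ⧸ M))) := ⟨Quotient.mk'' ((1 : G) : G ⧸ M)⟩
    rw [Fintype.card_eq_one_iff_nonempty_unique.2 ⟨uniqueOfSubsingleton (Classical.arbitrary _)⟩,
      one_mul] at hb
    have h2 : ∑ g : G, Fintype.card (MulAction.fixedBy (G ⧸ M) g) > ∑ g : G, 1 := by
      refine Finset.sum_lt_sum (fun g _ => ?_) ⟨1, Finset.mem_univ _, ?_⟩
      · obtain ⟨q, hq⟩ := hcon g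
        exact Fintype.card_pos_iff.2 ⟨⟨q, hq⟩⟩
      · rw [Fintype.one_lt_card_iff_nontrivial]
        haveI : Nontrivial (G ⧸ M) := QuotientGroup.nontrivial_iff.2 hM.1
        obtain ⟨a, b, hab⟩ := exists_pair_ne (G ⧸ M)
        exact ⟨⟨a, one_smul G a⟩, ⟨b, one_smul G b⟩, fun e => hab (congrArg Subtype.val e)⟩
    simp only [Finset.sum_const, Finset.card_univ, smul_eq_mul, mul_one] at h2
    omega
  have hgen : Subgroup.zpowers g = ⊤ := by
    refine (eq_top_or_exists_le_coatom _).resolve_right ?_
    rintro ⟨N, hN, hgN⟩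
    obtain ⟨x, rfl⟩ := h M N hM hN
    have h1 : g ∈ MulAut.conj x • M := hgN (Subgroup.mem_zpowers g)
    rw [Subgroup.mem_pointwise_smul_iff_inv_smul_mem, ← map_inv, MulAut.smul_def, MulAut.conj_apply,
      inv_inv] at h1
    refine hg (x : G ⧸ M) ?_
    rw [MulAction.Quotient.smul_mk, QuotientGroup.eq, smul_eq_mul]
    simpa [mul_assoc] using M.inv_mem h1
  have hcyc : IsCyclic G := ⟨g, fun y => by
    have : y ∈ Subgroup.zpowers g := hgen.symm ▸ Subgroup.mem_top y
    exact this⟩
  refine ⟨hcyc, ?_⟩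
  letI : CommGroup G := IsCyclic.commGroup
  have hMuniq : ∀ N : Subgroup G, IsCoatom N → N = M := fun N hN => by
    obtain ⟨x, rfl⟩ := h M N hM hN
    rw [show MulAut.conj x = 1 from MulEquiv.ext fun w => by simp [mul_comm x w], one_smul]
  rw [isPrimePow_iff_unique_prime_dvd]
  obtain ⟨p, hp, hpd⟩ := Nat.exists_prime_and_dvd (Finite.one_lt_card (α := G)).ne'
  refine ⟨p, ⟨hp, hpd⟩, ?_⟩
  rintro q ⟨hq, hqd⟩
  by_contra hne
  haveI := Fact.mk hp
  have key : ∀ r : ℕ, r.Prime → r ∣ Nat.card G → M.index = r := by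
    intro r hr hrd
    obtain ⟨d, hd⟩ := hrd
    let N : Subgroup G := Subgroup.zpowers (g ^ r)
    have hgo : orderOf g = Nat.card G := by
      rw [← Nat.card_zpowers, hgen, Subgroup.card_top]
    have hNc : Nat.card N = d := by
      rw [Nat.card_zpowers, orderOf_pow, hgo, hd, Nat.gcd_eq_right (Dvd.intro d rfl), Nat.mul_div_cancel_left d hr.pos]
    have hNi : N.index = r := by
      have := N.card_mul_index
      rw [hNc, hd, mul_comm r] at this
      exact Nat.eq_of_mul_eq_mul_left (Nat.pos_of_ne_zero fun h0 => by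
        rw [h0, mul_zero] at hd; exact Nat.card_pos.ne' hd) this
    have hNc' : IsCoatom N := by
      refine ⟨fun h0 => hr.ne_one (by rw [← hNi, h0, Subgroup.index_top]), fun L hL => ?_⟩
      have hdvd := Subgroup.index_dvd_of_le hL.le
      rw [hNi, Nat.dvd_prime hr] at hdvd
      rcases hdvd with e | e
      · exact Subgroup.index_eq_one.1 e
      · refine absurd ?_ hL.ne
        refine Subgroup.eq_of_le_of_card_ge hL.le (le_of_eq ?_)
        have h1 := N.card_mul_index
        have h2 := L.card_mul_index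
        rw [hNi] at h1
        rw [e] at h2
        exact (Nat.eq_of_mul_eq_mul_right hr.pos (h2.trans h1.symm))
    rw [← hMuniq N hNc', hNi]
  exact hne ((key q hq hqd).symm.trans (key p hp hpd))

end Cfsg.Agent.S4387
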