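import Cfsg.Statements.S4394
import Cfsg.Agent.Lib.Solv.SpecialSylow.Main
import Cfsg.Agent.Lib.Perm.Schmidt

set_option autoImplicit false
open Cfsg

namespace Cfsg.Agent.S4394

/-- Let X be a finite minimal non-nilpotent group (not nilpotent, every proper subgroup nilpotent) with a nontrivial normal Sylow p-subgroup P. If G is a finite p-solvable group whose Sylow p-subgroups are isomorphic to P, then G has p-length at most 1. -/
theorem result {G X : Type*} [Group G] [Finite G] [Group X] [Finite X] (p : ℕ) [Fact p.Prime]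
    (hX : Cfsg.IsMinimalNonNilpotent X) (P : Sylow p X) (hPn : (P : Subgroup X).Normal) (hP1 : (P : Subgroup X) ≠ ⊥)
    (hG : Cfsg.IsPSolvable p G) (Q : Sylow p G) (hQ : Nonempty (↥(Q : Subgroup G) ≃* ↥(P : Subgroup X))) : Cfsg.PLengthLE p 1 G := by
  obtain ⟨e⟩ := hQ
  refine Cfsg.Agent.Solv.SpecialSylow.pLengthLE_one hG Q e ?_
  by_cases hab : ∀ x y : ↥(P : Subgroup X), x * y = y * x
  · exact Or.inl hab
  obtain ⟨a, b, ha, hb, hne, Pa, Qb, hcyc, hQbn, hsup, hPan⟩ := Cfsg.Agent.Perm.schmidt hX.2 hX.1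
  haveI := Fact.mk ha
  haveI := Fact.mk hb
  haveI := hQbn
  have hmul : ∀ x : X, ∃ s ∈ (Pa : Subgroup X), ∃ u ∈ (Qb : Subgroup X), s * u = x := fun x => by
    have hx : x ∈ (Pa : Subgroup X) ⊔ Qb := hsup ▸ Subgroup.mem_top x
    exact Subgroup.mem_sup_of_normal_right.1 hx
  have hpb : p = b := by
    by_contra hpb
    obtain ⟨⟨x, hx⟩, hx1⟩ : ∃ x : (P : Subgroup X), x ≠ 1 := by
      haveI := (Subgroup.nontrivial_iff_ne_bot _).2 hP1
      exact exists_ne 1
    by_cases hpa : p = a
    · subst hpa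
      haveI : Subsingleton (Sylow p X) :=
        haveI := hPn
        (Sylow.unique_of_normal P hPn).instSubsingleton
      exact hPan (Subsingleton.elim P Pa ▸ hPn)
    · have hcard : Nat.card X ∣ Nat.card (Pa : Subgroup X) * Nat.card (Qb : Subgroup X) := by
        rw [← Subgroup.card_top (G := X), ← hsup, sup_comm, mul_comm]
        exact Cfsg.Agent.Solv.card_sup_dvd _ _
      obtain ⟨j, hj⟩ := IsPGroup.iff_orderOf.1 P.2 ⟨x, hx⟩
      rw [Subgroup.orderOf_mk] at hj
      have h1 : orderOf x ∣ Nat.card (Pa : Subgroup X) * Nat.card (Qb : Subgroup X) :=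
        (orderOf_dvd_natCard x).trans hcard
      obtain ⟨i, hi⟩ := Pa.2.exists_card_eq
      obtain ⟨k, hk⟩ := Qb.2.exists_card_eq
      rw [hi, hk, hj] at h1
      have h2 : (p ^ j).Coprime (a ^ i * b ^ k) :=
        (Nat.Coprime.mul_right ((Nat.coprime_primes Fact.out ha).2 hpa |>.pow_right i)
          ((Nat.coprime_primes Fact.out hb).2 hpb |>.pow_right k)).pow_left j
      exact hx1 (Subtype.ext (orderOf_eq_one_iff.1 (hj.trans (Nat.eq_one_of_dvd_coprimes h2 dvd_rfl h1))))
  subst hpb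
  have hQP : (Qb : Subgroup X) = P := by
    haveI : Subsingleton (Sylow p X) := (Sylow.unique_of_normal P hPn).instSubsingleton
    rw [Subsingleton.elim Qb P]
  obtain ⟨⟨s, hs⟩, hgen⟩ := hcyc.exists_zpow_surjective
  haveI := hPn
  have hgen' : ∀ u ∈ (Pa : Subgroup X), u ∈ Subgroup.zpowers s := fun u hu => by
    obtain ⟨i, hi⟩ := hgen ⟨u, hu⟩
    exact ⟨i, congrArg Subtype.val hi⟩
  -- a proper subgroup containing a power of `s` and a subgroup of `P` is nilpotent
  have key : ∀ (K : Subgroup X), K ≠ ⊤ → ∀ u ∈ (Pa : Subgroup X), u ∈ K →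
      ∀ y ∈ (P : Subgroup X), y ∈ K → u * y = y * u := by
    intro K hK u hu huK y hy hyK
    exact (Subgroup.mem_centralizer_iff.1 (Cfsg.Agent.Perm.commute_of_le_nilpotent (hX.2 K hK) hne
      (Pa.2.to_le (inf_le_left (b := K))) (P.2.to_le (inf_le_left (b := K))) inf_le_right inf_le_right
      (Subgroup.mem_inf.2 ⟨hu, huK⟩)) y (Subgroup.mem_inf.2 ⟨hy, hyK⟩)).symm
  right
  refine ⟨MulAut.conjNormal s, a, ha, hne, ?_, ?_, ?_⟩
  · -- the `a`-th power of `s` is in a proper subgroup over `P`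
    set K := Subgroup.zpowers (s ^ a) ⊔ (P : Subgroup X) with hKdef
    have hsK : s ∉ K := by
      intro h
      obtain ⟨u, hu, y, hy, huy⟩ := Subgroup.mem_sup_of_normal_right.1 h
      have hy' : y ∈ (Pa : Subgroup X) := by
        have : y = u⁻¹ * s := by rw [← huy, inv_mul_cancel_left]
        rw [this]
        exact mul_mem (inv_mem (Subgroup.zpowers_le.2 (pow_mem hs a) hu)) hs
      have hy1 : y = 1 := Subgroup.mem_bot.1 ((IsPGroup.disjoint_of_ne a p hne _ _ Pa.2 P.2).le_bot
        (Subgroup.mem_inf.2 ⟨hy', hy⟩))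
      rw [hy1, mul_one] at huy
      subst huy
      obtain ⟨j, hj⟩ := IsPGroup.iff_orderOf.1 Pa.2 ⟨u, hs⟩
      rw [Subgroup.orderOf_mk] at hj
      have h1 := orderOf_dvd_of_mem_zpowers hu
      rcases j with _ | j
      · rw [pow_zero, orderOf_eq_one_iff] at hj
        refine hPan ?_
        rw [show (Pa : Subgroup X) = ⊥ from (Subgroup.eq_bot_iff_forall _).2 fun v hv =>
          Subgroup.mem_bot.1 (by simpa [hj] using hgen' v hv)]
        infer_instance
      · rw [orderOf_pow_of_dvd ha.ne_zero (hj ▸ dvd_pow_self a j.succ_ne_zero), hj, pow_succ,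
          Nat.mul_div_cancel _ ha.pos, ← pow_succ] at h1
        have := (Nat.pow_dvd_pow_iff_le_right ha.one_lt).1 h1
        omega
    have hK : K ≠ ⊤ := fun h => hsK (h ▸ Subgroup.mem_top s)
    refine MulEquiv.ext fun y => Subtype.ext ?_
    rw [← map_pow, MulAut.conjNormal_apply, MulAut.one_apply,
      key K hK (s ^ a) (pow_mem hs a) (Subgroup.mem_sup_left (Subgroup.mem_zpowers _)) y y.2 (Subgroup.mem_sup_right y.2),
      mul_inv_cancel_right]
  · intro h
    refine hPan ?_
    have hc : ∀ y ∈ (P : Subgroup X), s * y = y * s := fun y hy => by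
      have := congrArg (fun f : MulAut (P : Subgroup X) => ((f ⟨y, hy⟩ : (P : Subgroup X)) : X)) h
      simp only [MulAut.conjNormal_apply, MulAut.one_apply] at this
      exact mul_inv_eq_iff_eq_mul.1 this
    refine ⟨fun v hv g => ?_⟩
    obtain ⟨u, hu, y, hy, rfl⟩ := hmul g
    rw [hQP] at hy
    have hvy : Commute y v := by
      obtain ⟨i, rfl⟩ := Subgroup.mem_zpowers_iff.1 (hgen' v hv)
      exact (show Commute y s from (hc y hy).symm).zpow_right i
    rw [show u * y * v * (u * y)⁻¹ = u * (y * v * y⁻¹) * u⁻¹ by group, hvy.eq, mul_inv_cancel_right]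
    exact mul_mem (mul_mem hu hv) (inv_mem hu)
  · intro U hU hinv x hx
    have hU' : ∀ y ∈ U.map (P : Subgroup X).subtype, s * y * s⁻¹ ∈ U.map (P : Subgroup X).subtype := by
      rintro _ ⟨y, hy, rfl⟩
      exact ⟨_, hinv y hy, MulAut.conjNormal_apply s y⟩
    set K := Subgroup.zpowers s ⊔ U.map (P : Subgroup X).subtype with hKdef
    have hsn : Subgroup.zpowers s ≤ Subgroup.normalizer ((U.map (P : Subgroup X).subtype : Subgroup X) : Set X) := by
      rw [Subgroup.zpowers_le]
      refine Cfsg.Agent.Solv.mem_normalizer_of_conj_smul ((Cfsg.Agent.Solv.conj_smul_eq_map s _).trans ?_)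
      refine Subgroup.eq_of_le_of_card_ge ?_ (Subgroup.card_map_of_injective (MulAut.conj s).injective).ge
      rintro _ ⟨y, hy, rfl⟩
      exact hU' y hy
    have hK : K ≠ ⊤ := by
      intro h
      refine hU (eq_top_iff.2 fun y _ => ?_)
      have hy : (y : X) ∈ ((K : Subgroup X) : Set X) := by rw [h]; trivial
      rw [hKdef, Subgroup.coe_mul_of_left_le_normalizer_right _ _ hsn] at hy
      obtain ⟨u, hu, w, hw, huw⟩ := hy
      have hu' : u ∈ (P : Subgroup X) := by
        have : u = (y : X) * w⁻¹ := by rw [← huw, mul_inv_cancel_right]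
        rw [this]
        exact mul_mem y.2 (inv_mem (Subgroup.map_subtype_le _ hw))
      have hu1 : u = 1 := Subgroup.mem_bot.1 ((IsPGroup.disjoint_of_ne a p hne _ _ Pa.2 P.2).le_bot
        (Subgroup.mem_inf.2 ⟨Subgroup.zpowers_le.2 hs hu, hu'⟩))
      subst hu1
      simp only [one_mul] at huw
      obtain ⟨w', hw', rfl⟩ := hw
      rwa [← Subtype.ext huw]
    refine Subtype.ext ?_
    rw [MulAut.conjNormal_apply, key K hK s hs (Subgroup.mem_sup_left (Subgroup.mem_zpowers s)) x x.2
      (Subgroup.mem_sup_right ⟨x, hx, rfl⟩), mul_inv_cancel_right]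

end Cfsg.Agent.S4394
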