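import Cfsg.Statements.S4396
import Cfsg.Agent.Lib.Perm.FreeSemilinear

set_option autoImplicit false
open Cfsg
open scoped Pointwise commutatorElement
open Cfsg.Agent.Perm

namespace Cfsg.Agent.S4396

universe u v w

variable {k : Type u} [Field k] {A : Type w} [Group A] [Finite A]

def Free {V : Type v} [AddCommGroup V] [Module k V] (ρ : Representation k A V) (Hc : Subgroup A)
    [Fintype ↥Hc] : Prop :=
  ∃ W : Submodule k V, ∀ x : V, ∃! c : ↥Hc → V, (∀ h, c h ∈ W) ∧ ∑ h : ↥Hc, ρ (h : A) (c h) = x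

theorem free_ext {V : Type v} [AddCommGroup V] [Module k V] (ρ : Representation k A V)
    (Hc : Subgroup A) [Fintype ↥Hc] (U : Submodule k V) (ρU : Representation k A ↥U)
    (hρU : ∀ a (x : ↥U), (ρU a x : V) = ρ a x) (ρQ : Representation k A (V ⧸ U))
    (hρQ : ∀ a (x : V), ρQ a (U.mkQ x) = U.mkQ (ρ a x))
    (hU : Free ρU Hc) (hQ : Free ρQ Hc) : Free ρ Hc := by
  obtain ⟨WU, hWU⟩ := hU
  obtain ⟨WQ, hWQ⟩ := hQ
  obtain ⟨s, hs⟩ := U.mkQ.exists_rightInverse_of_surjective (Submodule.range_mkQ U)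
  have hs' : ∀ q, U.mkQ (s q) = q := fun q => LinearMap.congr_fun hs q
  refine ⟨WU.map U.subtype ⊔ WQ.map s, fun x => ?_⟩
  obtain ⟨cQ, ⟨hcQ, hsQ⟩, huQ⟩ := hWQ (U.mkQ x)
  have hmem : x - ∑ h : ↥Hc, ρ (h : A) (s (cQ h)) ∈ U := by
    refine (Submodule.Quotient.mk_eq_zero U).1 ?_
    show U.mkQ (x - _) = 0
    rw [map_sub, map_sum]
    simp only [← hρQ, hs', hsQ, sub_self]
  obtain ⟨cU, ⟨hcU, hsU⟩, huU⟩ := hWU ⟨_, hmem⟩
  have hsU' : ∑ h : ↥Hc, ρ (h : A) (cU h : V) = x - ∑ h : ↥Hc, ρ (h : A) (s (cQ h)) := by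
    have := congrArg U.subtype hsU
    rw [map_sum] at this
    simpa [hρU] using this
  refine ⟨fun h => (cU h : V) + s (cQ h), ⟨fun h => Submodule.add_mem_sup
    (Submodule.mem_map_of_mem (f := U.subtype) (hcU h)) (Submodule.mem_map_of_mem (hcQ h)), ?_⟩, ?_⟩
  · simp only [map_add, Finset.sum_add_distrib, hsU', sub_add_cancel]
  · rintro d ⟨hd, hds⟩
    have hsplit : ∀ h, ∃ a ∈ WU, ∃ q ∈ WQ, d h = (a : V) + s q := by
      intro h
      obtain ⟨y, hy, z, hz, e⟩ := Submodule.mem_sup.1 (hd h)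
      obtain ⟨a, ha, rfl⟩ := Submodule.mem_map.1 hy
      obtain ⟨q, hq, rfl⟩ := Submodule.mem_map.1 hz
      exact ⟨a, ha, q, hq, e.symm⟩
    choose a ha q hq e using hsplit
    have hq' : q = cQ := huQ q ⟨hq, by
      rw [← hds, map_sum]
      refine Finset.sum_congr rfl fun h _ => ?_
      rw [← hρQ, e h, map_add, hs', show U.mkQ (a h : V) = 0 from
        (Submodule.Quotient.mk_eq_zero U).2 (a h).2, zero_add]⟩
    subst hq'
    have ha' : a = cU := huU a ⟨ha, by
      apply Subtype.ext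
      show U.subtype (∑ h : ↥Hc, ρU (h : A) (a h)) = _
      rw [map_sum]
      simp only [Submodule.subtype_apply, hρU]
      rw [← hds, eq_sub_iff_add_eq, ← Finset.sum_add_distrib]
      refine Finset.sum_congr rfl fun h _ => ?_
      rw [e h, map_add]⟩
    subst ha'
    exact funext e

/-- The series `Fk, [Fk, Fk], [[Fk, Fk], Fk], …` inside `A`. -/
def Ls (Fk : Subgroup A) : ℕ → Subgroup A
  | 0 => Fk
  | n + 1 => ⁅Ls Fk n, Fk⁆

theorem Ls_normal (Fk : Subgroup A) [Fk.Normal] : ∀ n, (Ls Fk n).Normal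
  | 0 => inferInstanceAs Fk.Normal
  | n + 1 => by
    have := Ls_normal Fk n
    exact Subgroup.commutator_normal (Ls Fk n) Fk

theorem Ls_le (Fk : Subgroup A) [Fk.Normal] : ∀ n, Ls Fk n ≤ Fk
  | 0 => le_rfl
  | _ + 1 => Subgroup.commutator_le_right _ _

theorem Ls_bot (Fk : Subgroup A) (hnil : Group.IsNilpotent ↥Fk) : ∃ n, Ls Fk n = ⊥ := by
  obtain ⟨n, hn⟩ := (Subgroup.isNilpotent_iff_lowerCentralSeries Fk).1 hnil
  have key : ∀ j, Ls Fk j = Fk.lowerCentralSeries j := by
    intro j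
    induction j with
    | zero => rfl
    | succ j ih => rw [Ls, ih, Subgroup.lowerCentralSeries_succ]
  exact ⟨n, by rw [key, hn]⟩

set_option maxHeartbeats 2000000 in
theorem main (Fk Hc : Subgroup A) [Fk.Normal] [Fintype ↥Hc] (hnil : Group.IsNilpotent ↥Fk)
    (hfpf : ∀ h ∈ Hc, h ≠ 1 → ∀ f ∈ Fk, h * f = f * h → f = 1) :
    ∀ (d : ℕ) (V : Type v) [AddCommGroup V] [Module k V] [FiniteDimensional k V]
      (ρ : Representation k A V), Module.finrank k V = d →
      (∀ x : V, (∀ f ∈ Fk, ρ f x = x) → x = 0) → Free ρ Hc := by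
  intro d
  induction d using Nat.strong_induction_on with
  | _ d ih =>
  intro V _ _ _ ρ hd hCF
  classical
  have act : ∀ (a b : A) (x : V), ρ (a * b) x = ρ a (ρ b x) := fun a b x => by rw [map_mul]; rfl
  rcases subsingleton_or_nontrivial V with hV | hV
  · exact ⟨⊥, fun x => ⟨0, ⟨fun _ => zero_mem _, Subsingleton.elim _ _⟩,
      fun c _ => Subsingleton.elim _ _⟩⟩
  obtain ⟨U, ⟨hUinv, hU0⟩, hUmin⟩ := wellFounded_lt.has_min
    {U : Submodule k V | (∀ a, ∀ x ∈ U, ρ a x ∈ U) ∧ U ≠ ⊥}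
    ⟨⊤, fun _ _ _ => Submodule.mem_top, bot_ne_top.symm⟩
  let ρU : Representation k A ↥U :=
    { toFun := fun a => (ρ a).restrict (hUinv a)
      map_one' := LinearMap.ext fun x => Subtype.ext (by simp)
      map_mul' := fun a b => LinearMap.ext fun x => Subtype.ext (act a b x.1) }
  have hρU : ∀ a (x : ↥U), (ρU a x : V) = ρ a x := fun a x => rfl
  have hirr : ∀ J : Submodule k ↥U, (∀ a, ∀ x ∈ J, ρU a x ∈ J) → J ≠ ⊥ → J = ⊤ := by
    intro J hJ hJ0
    have h1 : J.map U.subtype = U := by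
      by_contra hne
      refine hUmin _ ⟨?_, fun h => hJ0 (Submodule.map_injective_of_injective
        U.injective_subtype (h.trans (Submodule.map_bot _).symm))⟩
        (lt_of_le_of_ne (Submodule.map_subtype_le U J) hne)
      rintro a _ ⟨x, hx, rfl⟩
      exact ⟨ρU a x, hJ a x hx, rfl⟩
    refine Submodule.map_injective_of_injective U.injective_subtype ?_
    rw [h1, Submodule.map_top, Submodule.range_subtype]
  have hmoves : ∃ f ∈ Fk, ρU f ≠ 1 := by
    by_contra h
    push Not at h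
    refine hU0 ((Submodule.eq_bot_iff U).2 fun x hx => hCF x fun f hf => ?_)
    exact congrArg Subtype.val (LinearMap.congr_fun (h f hf) ⟨x, hx⟩)
  obtain ⟨N0, hN0⟩ := Ls_bot Fk hnil
  have hex : ∃ n, ∀ c ∈ Ls Fk n, ρU c = 1 := ⟨N0, fun c hc => by
    rw [hN0, Subgroup.mem_bot] at hc; rw [hc, map_one]⟩
  obtain ⟨i, hi⟩ : ∃ i, Nat.find hex = i + 1 := by
    refine Nat.exists_eq_succ_of_ne_zero fun h0 => ?_
    obtain ⟨f, hf, hf1⟩ := hmoves
    have := Nat.find_spec hex
    rw [h0] at this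
    exact hf1 (this f hf)
  have htriv : ∀ c ∈ Ls Fk (i + 1), ρU c = 1 := by
    have := Nat.find_spec hex; rwa [hi] at this
  have hnt : ∃ c ∈ Ls Fk i, ρU c ≠ 1 := by
    have := Nat.find_min hex (show i < Nat.find hex by omega)
    push Not at this; exact this
  have hNn : (Ls Fk i).Normal := Ls_normal Fk i
  -- the commutative algebra generated by the layer on `U`
  have hcomm : ∀ a ∈ Ls Fk i, ∀ b ∈ Ls Fk i, ρU a * ρU b = ρU b * ρU a := by
    intro a ha b hb
    have hc : a * b * a⁻¹ * b⁻¹ ∈ Ls Fk (i + 1) :=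
      Subgroup.commutator_mem_commutator ha (Ls_le Fk i hb)
    calc ρU a * ρU b = ρU (a * b * a⁻¹ * b⁻¹) * (ρU b * ρU a) := by
          rw [← map_mul, ← map_mul, ← map_mul]; congr 1; group
      _ = _ := by rw [htriv _ hc, one_mul]
  let T : Set (Module.End k ↥U) := {e | ∃ a ∈ Ls Fk i, e = ρU a}
  let Bs : Subalgebra k (Module.End k ↥U) := Algebra.adjoin k T
  letI : CommRing ↥Bs := Algebra.adjoinCommRingOfComm k (by
    rintro _ ⟨a, ha, rfl⟩ _ ⟨b, hb, rfl⟩; exact hcomm a ha b hb)
  let gB : ↥(Ls Fk i) → ↥Bs := fun a => ⟨ρU a.1, Algebra.subset_adjoin ⟨a.1, a.2, rfl⟩⟩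
  let J : Submodule k ↥U :=
    Submodule.span k {y | ∃ (a : ↥(Ls Fk i)) (x : ↥U), y = ρU a.1 x - x}
  have hJtop : J = ⊤ := by
    refine hirr J (fun b y hy => ?_) ?_
    · induction hy using Submodule.span_induction with
      | mem y hy =>
        obtain ⟨a, x, rfl⟩ := hy
        refine Submodule.subset_span ⟨⟨b * a.1 * b⁻¹, hNn.conj_mem _ a.2 b⟩, ρU b x, ?_⟩
        rw [map_sub, ← Module.End.mul_apply, ← map_mul, ← Module.End.mul_apply, ← map_mul,
          inv_mul_cancel_right]
      | zero => rw [map_zero]; exact zero_mem _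
      | add y z _ _ h1 h2 => rw [map_add]; exact add_mem h1 h2
      | smul r y _ h1 => rw [map_smul]; exact Submodule.smul_mem _ r h1
    · intro hbot
      obtain ⟨c, hc, hc1⟩ := hnt
      refine hc1 (LinearMap.ext fun x => ?_)
      have hm : ρU c x - x ∈ J := Submodule.subset_span ⟨⟨c, hc⟩, x, rfl⟩
      rw [hbot, Submodule.mem_bot, sub_eq_zero] at hm
      rw [hm]; rfl
  let I : Ideal ↥Bs := Ideal.span {e | ∃ a : ↥(Ls Fk i), e = gB a - 1}
  have hfinB : Module.Finite ↥Bs ↥U := Module.Finite.of_restrictScalars_finite k ↥Bs ↥U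
  have hIone : (1 : ↥Bs) ∈ I := by
    obtain ⟨r, hr, hr0⟩ := Submodule.exists_sub_one_mem_and_smul_eq_zero_of_fg_of_le_smul I
      (⊤ : Submodule ↥Bs ↥U) hfinB.fg_top (by
        intro x _
        have hx : x ∈ J := by rw [hJtop]; exact Submodule.mem_top
        refine Submodule.span_le (p := (I • (⊤ : Submodule ↥Bs ↥U)).restrictScalars k) |>.2 ?_ hx
        rintro _ ⟨a, y, rfl⟩
        have := Submodule.smul_mem_smul (I := I) (N := (⊤ : Submodule ↥Bs ↥U))
          (Ideal.subset_span ⟨a, rfl⟩) (Submodule.mem_top (x := y))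
        rw [sub_smul, one_smul] at this
        exact this)
    have : r = 0 := Subtype.ext (LinearMap.ext fun x => hr0 x Submodule.mem_top)
    rw [this, zero_sub] at hr
    exact (Ideal.neg_mem_iff I).1 hr
  have hUfix : ∀ y : ↥U, (∀ a : ↥(Ls Fk i), ρU a.1 y = y) → y = 0 := by
    intro y hy
    have : I ≤ Submodule.comap (LinearMap.toSpanSingleton ↥Bs ↥U y) ⊥ := Ideal.span_le.2 (by
      rintro _ ⟨a, rfl⟩
      show (gB a - 1) • y ∈ (⊥ : Submodule ↥Bs ↥U)
      rw [Submodule.mem_bot, sub_smul, one_smul, sub_eq_zero]; exact hy a)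
    have h1 := this hIone
    simpa using h1
  -- no fixed points on the quotient
  have hH1 : ∀ x : V, (∀ f ∈ Fk, ρ f x - x ∈ U) → x ∈ U := by
    intro x hx
    have hfixd : ∀ e j, j + e = N0 → i + 1 ≤ j → ∀ c ∈ Ls Fk j, ρ c x = x := by
      intro e
      induction e with
      | zero =>
        intro j hj _ c hc
        obtain rfl : j = N0 := by omega
        rw [hN0, Subgroup.mem_bot] at hc; simp [hc]
      | succ e ihe =>
        intro j hj hij c hc
        have hnext := ihe (j + 1) (by omega) (by omega)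
        have hcF := Ls_le Fk j hc
        have hmono : ∀ l, Ls Fk (i + 1 + l) ≤ Ls Fk (i + 1) := by
          intro l
          induction l with
          | zero => exact le_rfl
          | succ l ihl =>
            refine le_trans ?_ ihl
            have := Ls_normal Fk (i + 1 + l)
            exact Subgroup.commutator_le_left _ _
        have hUtriv : ∀ j', i + 1 ≤ j' → ∀ c' ∈ Ls Fk j', ∀ y : ↥U, ρ c' (y : V) = y := by
          intro j' hj' c' hc' y
          obtain ⟨l, rfl⟩ := Nat.exists_eq_add_of_le hj'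
          rw [← hρU, htriv c' (hmono l hc')]; rfl
        let φ : ↥U := ⟨ρ c x - x, hx c hcF⟩
        have : φ = 0 := by
          refine hUfix φ fun a => ?_
          have haF := Ls_le Fk i a.2
          apply Subtype.ext
          rw [hρU]
          show ρ a.1 (ρ c x - x) = ρ c x - x
          let y : ↥U := ⟨ρ a.1⁻¹ x - x, hx _ (inv_mem haF)⟩
          have hcomm' : (c * a.1 * c⁻¹ * a.1⁻¹)⁻¹ ∈ Ls Fk (j + 1) :=
            inv_mem (Subgroup.commutator_mem_commutator hc haF)
          have e1 : ρ (a.1 * c * a.1⁻¹) x = ρ c x := by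
            have e : a.1 * c * a.1⁻¹ = (c * a.1 * c⁻¹ * a.1⁻¹)⁻¹ * c := by group
            rw [e, act, show ρ c x = x + (φ : V) by simp [φ], map_add, hnext _ hcomm',
              hUtriv (j + 1) (by omega) _ hcomm' φ]
          have e2 : ρ c (ρ a.1⁻¹ x) = ρ a.1⁻¹ x - x + ρ c x := by
            have := hUtriv j hij c hc y
            simp only [y, map_sub, sub_eq_iff_eq_add] at this
            exact this
          calc ρ a.1 (ρ c x - x) = ρ a.1 (ρ c (ρ a.1⁻¹ x) - ρ a.1⁻¹ x) := by
                rw [e2]; congr 1; abel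
            _ = ρ c x - x := by
                rw [map_sub, ← act, ← act, e1, ← act, mul_inv_cancel, map_one]; rfl
        exact sub_eq_zero.1 (congrArg Subtype.val this)
    have hfix1 : ∀ c ∈ Ls Fk (i + 1), ρ c x = x := fun c hc => by
      rcases Nat.le_or_ge (i + 1) N0 with h | h
      · exact hfixd (N0 - (i + 1)) (i + 1) (by omega) le_rfl c hc
      · obtain ⟨l, hl⟩ := Nat.exists_eq_add_of_le h
        have hb : ∀ l, Ls Fk (N0 + l) = ⊥ := fun l => by
          induction l with
          | zero => exact hN0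
          | succ l ihl => show ⁅Ls Fk (N0 + l), Fk⁆ = ⊥; rw [ihl, Subgroup.commutator_bot_left]
        rw [hl, hb l, Subgroup.mem_bot] at hc; simp [hc]
    let dd : ↥(Ls Fk i) → ↥U := fun a => ⟨ρ a.1 x - x, hx _ (Ls_le Fk i a.2)⟩
    have hcoc : ∀ a b, (gB a - 1) • dd b = (gB b - 1) • dd a := by
      intro a b
      rw [sub_smul, sub_smul, one_smul, one_smul]
      apply Subtype.ext
      show ρ a.1 (ρ b.1 x - x) - (ρ b.1 x - x) = ρ b.1 (ρ a.1 x - x) - (ρ a.1 x - x)
      have hc : a.1 * b.1 * a.1⁻¹ * b.1⁻¹ ∈ Ls Fk (i + 1) :=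
        Subgroup.commutator_mem_commutator a.2 (Ls_le Fk i b.2)
      let y : ↥U := ⟨ρ (b.1 * a.1) x - x, hx _ (mul_mem (Ls_le Fk i b.2) (Ls_le Fk i a.2))⟩
      have : ρ (a.1 * b.1) x = ρ (b.1 * a.1) x := by
        have e : a.1 * b.1 = a.1 * b.1 * a.1⁻¹ * b.1⁻¹ * (b.1 * a.1) := by group
        rw [e, act, show ρ (b.1 * a.1) x = x + (y : V) by simp [y], map_add, hfix1 _ hc,
          ← hρU, htriv _ hc]
        rfl
      rw [act, act] at this
      rw [map_sub, map_sub, this]; abel
    let J0 : Ideal ↥Bs :=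
      { carrier := {e | ∃ y : ↥U, ∀ a, e • dd a = (gB a - 1) • y}
        zero_mem' := ⟨0, fun a => by simp⟩
        add_mem' := fun {e e'} ⟨y, hy⟩ ⟨y', hy'⟩ =>
          ⟨y + y', fun a => by rw [add_smul, hy, hy', smul_add]⟩
        smul_mem' := fun r e ⟨y, hy⟩ => ⟨r • y, fun a => by
          rw [smul_eq_mul, mul_smul, hy, ← mul_smul, ← mul_smul, mul_comm]⟩ }
    obtain ⟨y, hy⟩ : (1 : ↥Bs) ∈ J0 := (Ideal.span_le.2 (by
      rintro _ ⟨b, rfl⟩; exact ⟨dd b, fun a => hcoc b a⟩) : I ≤ J0) hIone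
    have hv : ∀ a ∈ Ls Fk i, ρ a (x - y) = x - y := fun a ha => by
      have := congrArg Subtype.val (hy ⟨a, ha⟩)
      rw [one_smul, sub_smul, one_smul] at this
      have e : ρ a x - x = ρ a (y : V) - y := this
      rw [map_sub, sub_eq_sub_iff_sub_eq_sub, e]
    have hF : ∀ f ∈ Fk, ρ f (x - y) = x - y := by
      intro f hf
      let z : ↥U := ⟨ρ f (x - y) - (x - y), by
        have : ρ f (x - y) - (x - y) = (ρ f x - x) - (ρ f (y : V) - y) := by rw [map_sub]; abel
        rw [this]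
        exact sub_mem (hx f hf) (sub_mem (hUinv f _ y.2) y.2)⟩
      have : z = 0 := hUfix z fun a => by
        apply Subtype.ext
        show ρ a.1 (ρ f (x - y) - (x - y)) = ρ f (x - y) - (x - y)
        have e : a.1 * f = f * (f⁻¹ * a.1 * f) := by group
        rw [map_sub, hv _ a.2, ← act, e, act, hv _ (by simpa using hNn.conj_mem _ a.2 f⁻¹)]
      exact sub_eq_zero.1 (congrArg Subtype.val this)
    rw [sub_eq_zero.1 (hCF _ hF)]; exact y.2
  -- the quotient
  let ρQ : Representation k A (V ⧸ U) :=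
    { toFun := fun a => U.mapQ U (ρ a) (hUinv a)
      map_one' := Submodule.linearMap_qext _ (LinearMap.ext fun x => by simp)
      map_mul' := fun a b => Submodule.linearMap_qext _ (LinearMap.ext fun x => by simp [act]) }
  refine free_ext ρ Hc U ρU hρU ρQ (fun a x => rfl) ?_ (ih _ ?_ (V ⧸ U) ρQ rfl ?_)
  · -- freeness on `U`
    have hsmul : ∀ (e : ↥Bs) (y : ↥U), e • y = (e : Module.End k ↥U) y := fun e y => rfl
    let cj : A → (Module.End k ↥U) → Module.End k ↥U := fun g e => ρU g * e * ρU g⁻¹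
    have cj1 : ∀ g, ρU g * ρU g⁻¹ = 1 ∧ ρU g⁻¹ * ρU g = 1 := fun g => by
      rw [← map_mul, ← map_mul, mul_inv_cancel, inv_mul_cancel, map_one]; exact ⟨rfl, rfl⟩
    have cjmem : ∀ g, ∀ e ∈ Bs, cj g e ∈ Bs := by
      intro g e he
      induction he using Algebra.adjoin_induction with
      | mem e he =>
        obtain ⟨a, ha, rfl⟩ := he
        refine Algebra.subset_adjoin ⟨g * a * g⁻¹, hNn.conj_mem a ha g, ?_⟩
        simp [cj]
      | algebraMap r =>
        have : cj g (algebraMap k _ r) = algebraMap k _ r := by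
          show ρU g * _ * _ = _
          rw [← Algebra.commutes, mul_assoc, (cj1 g).1, mul_one]
        rw [this]; exact Subalgebra.algebraMap_mem Bs r
      | add e e' _ _ h1 h2 =>
        have : cj g (e + e') = cj g e + cj g e' := by simp [cj, mul_add, add_mul]
        rw [this]; exact add_mem h1 h2
      | mul e e' _ _ h1 h2 =>
        have : cj g (e * e') = cj g e * cj g e' := by
          show _ = ρU g * e * ρU g⁻¹ * (ρU g * e' * ρU g⁻¹)
          calc ρU g * (e * e') * ρU g⁻¹ = ρU g * e * 1 * (e' * ρU g⁻¹) := by noncomm_ring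
            _ = ρU g * e * (ρU g⁻¹ * ρU g) * (e' * ρU g⁻¹) := by rw [(cj1 g).2]
            _ = _ := by noncomm_ring
        rw [this]; exact mul_mem h1 h2
    let actB : ↥Hc →* (↥Bs ≃+* ↥Bs) :=
      { toFun := fun h =>
          { toFun := fun e => ⟨cj h e, cjmem _ _ e.2⟩
            invFun := fun e => ⟨cj (h : A)⁻¹ e, cjmem _ _ e.2⟩
            left_inv := fun e => Subtype.ext (by
              show ρU (h : A)⁻¹ * (ρU h * e * ρU (h : A)⁻¹) * ρU ((h : A)⁻¹)⁻¹ = e
              rw [inv_inv, ← mul_assoc, ← mul_assoc, (cj1 _).2, one_mul, mul_assoc, (cj1 _).2,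
                mul_one])
            right_inv := fun e => Subtype.ext (by
              show ρU h * (ρU (h : A)⁻¹ * e * ρU ((h : A)⁻¹)⁻¹) * ρU (h : A)⁻¹ = e
              rw [inv_inv, ← mul_assoc, ← mul_assoc, (cj1 _).1, one_mul, mul_assoc, (cj1 _).1,
                mul_one])
            map_mul' := fun e e' => Subtype.ext (by
              show ρU h * (e.1 * e'.1) * ρU (h : A)⁻¹ =
                ρU h * e * ρU (h : A)⁻¹ * (ρU h * e' * ρU (h : A)⁻¹)
              calc ρU h * (e.1 * e'.1) * ρU (h : A)⁻¹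
                  = ρU h * e * 1 * (e' * ρU (h : A)⁻¹) := by noncomm_ring
                _ = ρU h * e * (ρU (h : A)⁻¹ * ρU h) * (e' * ρU (h : A)⁻¹) := by rw [(cj1 _).2]
                _ = _ := by noncomm_ring)
            map_add' := fun e e' => Subtype.ext (by
              show ρU h * (e.1 + e'.1) * ρU (h : A)⁻¹ = _
              rw [mul_add, add_mul]; rfl) }
        map_one' := RingEquiv.ext fun e => Subtype.ext (by
          show ρU ((1 : ↥Hc) : A) * e * ρU ((1 : ↥Hc) : A)⁻¹ = e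
          simp)
        map_mul' := fun g h => RingEquiv.ext fun e => Subtype.ext (by
          show ρU ((g * h : ↥Hc) : A) * e * ρU ((g * h : ↥Hc) : A)⁻¹ =
            ρU g * (ρU h * e * ρU (h : A)⁻¹) * ρU (g : A)⁻¹
          simp [mul_assoc]) }
    have hfinB' : Module.Finite k ↥Bs := Module.Finite.of_injective Bs.val.toLinearMap
      Subtype.val_injective
    have hart : IsArtinianRing ↥Bs := IsArtinianRing.of_finite k ↥Bs
    have hfree : ∀ m : Ideal ↥Bs, m.IsMaximal → ∀ h : ↥Hc, h ≠ 1 → ∃ b, actB h b - b ∉ m := by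
      intro m hm h hne
      by_contra hcon
      push Not at hcon
      refine hm.ne_top ((Ideal.eq_top_iff_one m).2 ((Ideal.span_le.2 ?_ : I ≤ m) hIone))
      rintro _ ⟨a, rfl⟩
      let κ : ↥(Ls Fk i) → ↥(Ls Fk i) := fun b =>
        ⟨h.1 * b.1 * h.1⁻¹ * b.1⁻¹, mul_mem (hNn.conj_mem _ b.2 _) (inv_mem b.2)⟩
      have hκi : Function.Injective κ := by
        intro b b' e
        have e' : h.1 * b.1 * h.1⁻¹ * b.1⁻¹ = h.1 * b'.1 * h.1⁻¹ * b'.1⁻¹ := congrArg Subtype.val e
        apply Subtype.ext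
        have := hfpf h.1 h.2 (fun e => hne (Subtype.ext e)) (b'.1⁻¹ * b.1)
          (mul_mem (inv_mem (Ls_le Fk i b'.2)) (Ls_le Fk i b.2)) (by
            calc h.1 * (b'.1⁻¹ * b.1)
                = h.1 * b'.1⁻¹ * h.1⁻¹ * ((h.1 * b.1 * h.1⁻¹ * b.1⁻¹) * b.1) * h.1 := by group
              _ = h.1 * b'.1⁻¹ * h.1⁻¹ * ((h.1 * b'.1 * h.1⁻¹ * b'.1⁻¹) * b.1) * h.1 := by rw [e']
              _ = b'.1⁻¹ * b.1 * h.1 := by group)
        exact (inv_mul_eq_one.1 this).symm
      obtain ⟨b, hb⟩ := (Finite.injective_iff_surjective.1 hκi) a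
      have key : gB a - 1 = (actB h (gB b) - gB b) * gB b⁻¹ := by
        subst hb
        apply Subtype.ext
        show ρU (h.1 * b.1 * h.1⁻¹ * b.1⁻¹) - 1 = (ρU h.1 * ρU b.1 * ρU h.1⁻¹ - ρU b.1) * ρU b.1⁻¹
        simp [sub_mul, ← map_mul]
      rw [SetLike.mem_coe, key]
      exact m.mul_mem_right _ (hcon _)
    obtain ⟨θ, hθ⟩ := FreeSemilinear.exists_theta actB hfree
    let ρH : ↥Hc →* AddMonoid.End ↥U :=
      { toFun := fun h => (ρU h).toAddMonoidHom
        map_one' := AddMonoidHom.ext fun y => LinearMap.congr_fun (map_one ρU) y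
        map_mul' := fun g h => AddMonoidHom.ext fun y => LinearMap.congr_fun (map_mul ρU (g : A) h) y }
    have hsemi : ∀ h b y, ρH h (b • y) = actB h b • ρH h y := by
      intro h b y
      show ρU h.1 (b.1 y) = ρU h.1 (b.1 (ρU h.1⁻¹ (ρU h.1 y)))
      rw [← Module.End.mul_apply (ρU h.1⁻¹), (cj1 _).2]; rfl
    have hdesc := FreeSemilinear.descent actB ρH hsemi θ hθ
    let Fx : Submodule k ↥U :=
      { carrier := {y | ∀ h : ↥Hc, ρU h y = y}
        zero_mem' := fun h => map_zero _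
        add_mem' := fun {y z} hy hz h => by rw [map_add, hy h, hz h]
        smul_mem' := fun r y hy h => by rw [map_smul, hy h] }
    refine ⟨Fx.map (θ : Module.End k ↥U), fun x => ?_⟩
    have conv : ∀ (h : ↥Hc) (y : ↥U), (∀ h : ↥Hc, ρU h y = y) →
        ρU h ((θ : Module.End k ↥U) y) = actB h θ • y := fun h y hy => by
      refine (hsemi h θ y).trans ?_
      rw [show ρH h y = y from hy h]
    obtain ⟨c, ⟨hc, hcs⟩, hu⟩ := hdesc x
    refine ⟨fun h => θ • c h, ⟨fun h => ⟨c h, fun g => hc h g, rfl⟩, ?_⟩, ?_⟩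
    · rw [← hcs]; exact Finset.sum_congr rfl fun h _ => conv h _ fun g => hc h g
    · rintro e ⟨he, hes⟩
      choose c' hc' hce using he
      have : c' = c := hu c' ⟨fun g h => hc' g h, by
        rw [← hes]; exact Finset.sum_congr rfl fun h _ => by rw [← conv h _ (hc' h), hce h]⟩
      funext h
      rw [← hce h, this]; rfl
  · rw [← hd, ← Submodule.finrank_quotient_add_finrank U]
    have : 0 < Module.finrank k ↥U := by
      rw [Module.finrank_pos_iff]; exact Submodule.nontrivial_iff_ne_bot.2 hU0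
    omega
  · intro q hq
    obtain ⟨x, rfl⟩ := U.mkQ_surjective q
    refine (Submodule.Quotient.mk_eq_zero U).2 (hH1 x fun f hf => ?_)
    have := hq f hf
    rw [← Submodule.Quotient.eq]
    exact this

set_option maxHeartbeats 2000000 in
/-- Let the finite group A act faithfully and linearly on a finite-dimensional vector space V over a field k, and suppose A is a Frobenius group with nilpotent kernel F (every Frobenius kernel is nilpotent) and complement H such that F fixes no nonzero vector. Then V is free as a module for H: there is a subspace W with V the direct sum of the translates hW, h ∈ H. (No assumption on the characteristic of k.) -/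
theorem result {k V A : Type*} [Field k] [AddCommGroup V] [Module k V] [FiniteDimensional k V] [Group A] [Finite A] [DecidableEq A]
    (ρ : Representation k A V) (hρ : Function.Injective ρ)
    (Fk Hc : Subgroup A) [Fk.Normal] (hHc : Cfsg.IsFrobeniusComplement Hc) (hker : Cfsg.frobeniusKernel Hc = (Fk : Set A)) (hnil : Group.IsNilpotent ↥Fk)
    (hCF : ∀ v : V, (∀ f ∈ Fk, ρ f v = v) → v = 0) :
    ∃ W : Submodule k V, DirectSum.IsInternal (fun h : ↥Hc => W.map (ρ (h : A))) := by
  classical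
  have : Fintype ↥Hc := Fintype.ofFinite _
  have hfpf : ∀ h ∈ Hc, h ≠ 1 → ∀ f ∈ Fk, h * f = f * h → f = 1 := by
    intro h hh h1 f hf hcom
    by_contra hf1
    have hfH : f ∉ Hc := fun hH => by
      have : f ∈ Cfsg.frobeniusKernel Hc := by rw [hker]; exact hf
      rcases this with h2 | h2
      · exact hf1 h2
      · exact h2 1 (by simpa using hH)
    have h3 : h ∈ Hc ⊓ (MulAut.conj f • Hc) := ⟨hh,
      Subgroup.mem_pointwise_smul_iff_inv_smul_mem.2 (by
        show (MulAut.conj f)⁻¹ h ∈ Hc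
        rw [MulAut.inv_apply, MulAut.conj_symm_apply, mul_assoc, hcom, inv_mul_cancel_left]
        exact hh)⟩
    rw [hHc.2.2 f hfH, Subgroup.mem_bot] at h3
    exact h1 h3
  obtain ⟨W, hW⟩ := main Fk Hc hnil hfpf _ V ρ rfl hCF
  refine ⟨W, ?_⟩
  have hinj : ∀ h : ↥Hc, Function.Injective (ρ (h : A)) := fun h x y e => by
    have := congrArg (ρ (h : A)⁻¹) e
    simpa [← Module.End.mul_apply, ← map_mul] using this
  have coe_sum : ∀ d : DirectSum ↥Hc (fun h => ↥(W.map (ρ (h : A)))),
      DirectSum.coeLinearMap (fun h : ↥Hc => W.map (ρ (h : A))) d = ∑ h, (d h : V) := fun d => by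
    conv_lhs => rw [← DirectSum.sum_univ_of d]
    rw [map_sum]
    exact Finset.sum_congr rfl fun h _ => DirectSum.coeLinearMap_of (fun h : ↥Hc => W.map (ρ (h : A))) h (d h)
  constructor
  · intro d d' e
    replace e : DirectSum.coeLinearMap (fun h : ↥Hc => W.map (ρ (h : A))) d =
        DirectSum.coeLinearMap (fun h : ↥Hc => W.map (ρ (h : A))) d' := e
    rw [coe_sum, coe_sum] at e
    choose c hc hcd using fun h => Submodule.mem_map.1 (d h).2
    choose c' hc' hcd' using fun h => Submodule.mem_map.1 (d' h).2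
    have h1 := (hW (∑ h, (d h : V))).unique (y₁ := c) (y₂ := c')
      ⟨hc, Finset.sum_congr rfl fun h _ => hcd h⟩
      ⟨hc', by rw [e]; exact Finset.sum_congr rfl fun h _ => hcd' h⟩
    refine DFinsupp.ext fun h => Subtype.ext ?_
    rw [← hcd h, ← hcd' h, h1]
  · intro x
    obtain ⟨c, ⟨hc, hcs⟩, -⟩ := hW x
    refine ⟨∑ h, DirectSum.of (fun h : ↥Hc => ↥(W.map (ρ (h : A)))) h
      ⟨_, Submodule.mem_map_of_mem (hc h)⟩, ?_⟩
    rw [map_sum, ← hcs]
    exact Finset.sum_congr rfl fun h _ => DirectSum.coeAddMonoidHom_of _ h _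

end Cfsg.Agent.S4396
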