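import Cfsg.Statements.S4399
import Mathlib
import Cfsg.Agent.Lib.Fusion.MaxClassTwo
import Cfsg.Agent.Lib.Solv.UniqueSub

set_option autoImplicit false
open Cfsg

namespace Cfsg.Agent.S4399

/-- Let S be a finite 2-group whose commutator quotient S/[S,S] is a Klein four-group (order 4 and exponent 2). Then S itself has order 4, or S is dihedral of order at least 8, semidihedral of order at least 16 (order 2^(k+4) with an element a of order 2^(k+3) and an involution b with b a b⁻¹ = a^(2^(k+2)−1)), or generalized quaternion of order at least 8. -/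
theorem result {S : Type*} [Group S] [Finite S] (h2 : IsPGroup 2 S) (hab : Nat.card (Abelianization S) = 4)
    (hexp : ∀ x : Abelianization S, x ^ 2 = 1) :
    Nat.card S = 4 ∨
    ((∃ k : ℕ, Nonempty (S ≃* DihedralGroup (2 ^ (k + 2)))) ∨
      (∃ k : ℕ, Nat.card S = 2 ^ (k + 4) ∧ ∃ a b : S, orderOf a = 2 ^ (k + 3) ∧ orderOf b = 2 ∧ b * a * b⁻¹ = a ^ (2 ^ (k + 2) - 1)) ∨
      (∃ k : ℕ, Nonempty (S ≃* QuaternionGroup (2 ^ (k + 1))))) := by
  classical
  haveI : Fact (Nat.Prime 2) := ⟨Nat.prime_two⟩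
  obtain ⟨e, he⟩ := h2.exists_card_eq
  have hidx : (commutator S).index = 4 := by rw [Subgroup.index_eq_card]; exact hab
  have hdvd : 4 ∣ Nat.card S := hidx ▸ (commutator S).index_dvd_card
  rw [he] at hdvd
  have he2 : 2 ≤ e := (Nat.pow_dvd_pow_iff_le_right (by norm_num : 1 < 2)).1 (by simpa using hdvd : 2 ^ 2 ∣ 2 ^ e)
  rcases eq_or_lt_of_le he2 with rfl | he3
  · left; simpa using he
  obtain ⟨n, rfl⟩ : ∃ n, e = n + 3 := ⟨e - 3, by omega⟩
  right
  have hne := Cfsg.Agent.Fusion.lcs_ne_bot_of_commutator_index_four n he hidx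
  obtain ⟨x, hx⟩ := Cfsg.Agent.Solv.exists_cyclic_index_two n he hne
  have hX : (Subgroup.zpowers x).index = 2 := by
    have h := (Subgroup.zpowers x).card_mul_index
    rw [Nat.card_zpowers, hx, he, pow_succ 2 (n + 2)] at h
    exact Nat.eq_of_mul_eq_mul_left (pow_pos two_pos _) h
  haveI := Subgroup.normal_of_index_eq_two hX
  set z := x ^ 2 ^ (n + 1) with hz
  have hzo : orderOf z = 2 := by
    rw [hz, orderOf_pow' x (pow_ne_zero _ two_ne_zero), hx, Nat.gcd_eq_right (pow_dvd_pow 2 (by omega)),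
      Nat.pow_div (by omega) two_pos, show n + 2 - (n + 1) = 1 by omega, pow_one]
  have hz2 : z * z = 1 := by rw [← sq, ← hzo, pow_orderOf_eq_one]
  have hinvol : ∀ j : ℤ, (x ^ j) ^ 2 = 1 → x ^ j = 1 ∨ x ^ j = z := by
    intro j hj
    rw [← zpow_natCast, ← zpow_mul, ← orderOf_dvd_iff_zpow_eq_one, hx] at hj
    obtain ⟨c, hc⟩ := hj
    have hc' : j = 2 ^ (n + 1) * c := by push_cast at hc; rw [pow_succ] at hc; linarith
    subst hc'
    rw [zpow_mul, show ((2 : ℤ) ^ (n + 1)) = ((2 ^ (n + 1) : ℕ) : ℤ) by push_cast; rfl, zpow_natCast, ← hz]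
    rcases Int.even_or_odd c with ⟨s, rfl⟩ | ⟨s, rfl⟩
    · left; rw [← two_mul, zpow_mul, zpow_two, hz2, one_zpow]
    · right; rw [zpow_add_one, zpow_mul, zpow_two, hz2, one_zpow, one_mul]
  have hfix : ∀ g : S, g ∉ Subgroup.zpowers x →
      (g * g = 1 ∨ g * g = z) ∧ (g * x * g⁻¹ = x⁻¹ ∨ g * x * g⁻¹ = x⁻¹ * z) := by
    intro g hg
    have hsq : g * g ∈ Subgroup.zpowers x := (Subgroup.mul_mem_iff_of_index_two hX).2 Iff.rfl
    obtain ⟨s, hs⟩ := Subgroup.mem_zpowers_iff.1 hsq
    have hgg : g * g = 1 ∨ g * g = z := by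
      rw [← hs]
      exact hinvol s (Cfsg.Agent.Solv.sq_eq_one_of_commute he hne hx hg s
        (hs ▸ (Commute.refl g).mul_right (Commute.refl g)))
    have hgx : g * x * g⁻¹ ∈ Subgroup.zpowers x :=
      Subgroup.Normal.conj_mem inferInstance _ (Subgroup.mem_zpowers x) g
    obtain ⟨r, hr⟩ := Subgroup.mem_zpowers_iff.1 hgx
    refine ⟨hgg, ?_⟩
    have hc : Commute g (x ^ (r + 1)) := by
      have h1 : x ^ (r + 1) = g * x * g⁻¹ * x := by rw [zpow_add_one, hr]
      have h2 : g * g * x = x * (g * g) := by rw [← hs]; group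
      show g * x ^ (r + 1) = x ^ (r + 1) * g
      rw [h1]
      calc g * (g * x * g⁻¹ * x) = g * g * x * g⁻¹ * x := by group
        _ = x * (g * g) * g⁻¹ * x := by rw [h2]
        _ = x * (g * x * g⁻¹) * g := by group
        _ = g * x * g⁻¹ * x * g := by rw [← hr]; group
    have h3 : x⁻¹ * x ^ (r + 1) = g * x * g⁻¹ := by rw [← hr]; group
    rcases hinvol _ (Cfsg.Agent.Solv.sq_eq_one_of_commute he hne hx hg _ hc) with h | h
    · left; rw [← h3, h, mul_one]
    · right; rw [← h3, h]
  obtain ⟨g₀, hg₀⟩ : ∃ g, g ∉ Subgroup.zpowers x := by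
    by_contra h
    have : Subgroup.zpowers x = ⊤ := (Subgroup.eq_top_iff' _).2 fun y => by_contra fun hy => h ⟨y, hy⟩
    rw [this, Subgroup.index_top] at hX; omega
  have hout : ∀ a : S, a ∉ Subgroup.zpowers x → ∃ i : ℤ, a = x ^ i * g₀ := fun a ha => by
    obtain ⟨i, hi⟩ := Subgroup.mem_zpowers_iff.1 ((Subgroup.mul_mem_iff_of_index_two hX).2
      (iff_of_false ha fun h' => hg₀ (inv_mem_iff.1 h')) : a * g₀⁻¹ ∈ Subgroup.zpowers x)
    exact ⟨i, by rw [hi]; group⟩
  obtain ⟨hgg, hgx⟩ := hfix g₀ hg₀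
  rcases hgx with hgx | hgx
  · rcases hgg with hgg | hgg
    · left
      have hg1 : g₀ ≠ 1 := fun h => hg₀ (h ▸ one_mem _)
      have ho1 : orderOf g₀ = 2 := orderOf_eq_prime (by rw [sq]; exact hgg) hg1
      have ho2 : orderOf (g₀ * x) = 2 := orderOf_eq_prime
        (by
          rw [sq]
          calc g₀ * x * (g₀ * x) = g₀ * x * g₀⁻¹ * (g₀ * g₀) * x := by group
            _ = 1 := by rw [hgx, hgg, mul_one, inv_mul_cancel])
        (fun h => hg₀ (by rw [eq_inv_of_mul_eq_one_left h]; exact inv_mem (Subgroup.mem_zpowers x)))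
      have hne' : g₀ ≠ g₀ * x := fun h => by
        have hx1 : x = 1 := by simpa using h.symm
        rw [hx1, orderOf_one] at hx
        exact absurd hx (Nat.one_lt_pow (by omega) (by norm_num)).ne
      obtain ⟨d⟩ := Cfsg.Agent.Fusion.closure_pair_equiv_dihedral ho1 ho2 hne'
      have htop : Subgroup.closure ({g₀, g₀ * x} : Set S) = ⊤ := by
        have hgm : g₀ ∈ Subgroup.closure ({g₀, g₀ * x} : Set S) := Subgroup.subset_closure (by simp)
        have hxm : x ∈ Subgroup.closure ({g₀, g₀ * x} : Set S) := by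
          have := mul_mem (inv_mem hgm) (Subgroup.subset_closure (by simp : g₀ * x ∈ ({g₀, g₀ * x} : Set S)))
          rwa [inv_mul_cancel_left] at this
        refine (Subgroup.eq_top_iff' _).2 fun a => ?_
        by_cases ha : a ∈ Subgroup.zpowers x
        · exact Subgroup.zpowers_le.2 hxm ha
        · obtain ⟨i, rfl⟩ := hout a ha
          exact mul_mem (zpow_mem hxm i) hgm
      rw [show g₀ * (g₀ * x) = x by rw [← mul_assoc, hgg, one_mul], hx] at d
      exact ⟨n, ⟨((MulEquiv.subgroupCongr htop).trans Subgroup.topEquiv).symm.trans d⟩⟩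
    · right; right
      have hinv : ∀ a : S, a ^ 2 = 1 → a = 1 ∨ a = z := by
        intro a ha
        by_cases hax : a ∈ Subgroup.zpowers x
        · obtain ⟨j, rfl⟩ := Subgroup.mem_zpowers_iff.1 hax
          exact hinvol j ha
        · exfalso
          obtain ⟨i, rfl⟩ := hout a hax
          have h1 : g₀ * x ^ i * g₀⁻¹ = x ^ (-i) := by rw [← conj_zpow, hgx, inv_zpow, zpow_neg]
          have h4 : (x ^ i * g₀) ^ 2 = z := by
            rw [sq]
            calc x ^ i * g₀ * (x ^ i * g₀) = x ^ i * (g₀ * x ^ i * g₀⁻¹) * (g₀ * g₀) := by group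
              _ = z := by rw [h1, hgg]; group
          rw [ha] at h4
          exact absurd (h4.symm ▸ hzo : orderOf (1 : S) = 2) (by simp)
      have hu : Cfsg.Agent.Solv.UniqueOrderP 2 S := by
        intro a b ha hb hb1
        rcases hinv a ha with rfl | rfl
        · exact one_mem _
        · rw [(hinv b hb).resolve_left hb1]; exact Subgroup.mem_zpowers _
      rcases Cfsg.Agent.Solv.cyclic_or_quaternion h2 hu with hc | ⟨-, k, ⟨d⟩⟩
      · exfalso
        obtain ⟨t, ht⟩ := hc.exists_generator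
        obtain ⟨i, hi⟩ := Subgroup.mem_zpowers_iff.1 (ht g₀)
        obtain ⟨j, hj⟩ := Subgroup.mem_zpowers_iff.1 (ht x)
        have hcomm : g₀ * x * g₀⁻¹ = x := by rw [← hi, ← hj]; group
        rw [hcomm] at hgx
        have h1 : x ^ 2 = 1 := by rw [sq]; exact mul_eq_one_iff_eq_inv.2 hgx
        have h3 := Nat.le_of_dvd two_pos (hx ▸ orderOf_dvd_of_pow_eq_one h1)
        have : 2 ^ 2 ≤ 2 ^ (n + 2) := Nat.pow_le_pow_right two_pos (by omega)
        omega
      · rcases k with _ | k
        · exfalso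
          have hcard := Nat.card_congr d.toEquiv
          rw [he, Nat.card_eq_fintype_card, QuaternionGroup.card] at hcard
          have : 2 ^ 3 ≤ 2 ^ (n + 3) := Nat.pow_le_pow_right two_pos (by omega)
          simp at hcard
          omega
        · exact ⟨k, ⟨d⟩⟩
  · right; left
    rcases n with _ | m
    · exfalso
      have hzx : x⁻¹ * z = x := by rw [hz]; group
      rw [hzx] at hgx
      have hcomm : ∀ a b : S, a * b = b * a := by
        have hgc : Commute g₀ x := mul_inv_eq_iff_eq_mul.1 hgx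
        have key : ∀ a : S, Commute a x ∧ Commute a g₀ := by
          intro a
          by_cases ha : a ∈ Subgroup.zpowers x
          · obtain ⟨j, rfl⟩ := Subgroup.mem_zpowers_iff.1 ha
            exact ⟨(Commute.refl x).zpow_left j, hgc.symm.zpow_left j⟩
          · obtain ⟨i, rfl⟩ := hout a ha
            exact ⟨((Commute.refl x).zpow_left i).mul_left hgc, (hgc.symm.zpow_left i).mul_left (Commute.refl g₀)⟩
        intro a b
        by_cases hb : b ∈ Subgroup.zpowers x
        · obtain ⟨j, rfl⟩ := Subgroup.mem_zpowers_iff.1 hb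
          exact ((key a).1.zpow_right j).eq
        · obtain ⟨i, rfl⟩ := hout b hb
          exact (((key a).1.zpow_right i).mul_right (key a).2).eq
      have hbot : commutator S = ⊥ := by
        rw [commutator_def, Subgroup.commutator_eq_bot_iff_le_centralizer]
        exact fun a _ b _ => hcomm b a
      rw [hbot, Subgroup.index_bot, he] at hidx
      norm_num at hidx
    · obtain ⟨g, hg, hgg', hgx'⟩ : ∃ g, g ∉ Subgroup.zpowers x ∧ g * g = 1 ∧ g * x * g⁻¹ = x⁻¹ * z := by
        rcases hgg with h | h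
        · exact ⟨g₀, hg₀, h, hgx⟩
        · have hzc : x * z = z * x := by rw [hz, ← pow_succ', ← pow_succ]
          refine ⟨g₀ * x, fun h' => hg₀ ?_, ?_, ?_⟩
          · have := mul_mem h' (inv_mem (Subgroup.mem_zpowers x))
            rwa [mul_inv_cancel_right] at this
          · calc g₀ * x * (g₀ * x) = g₀ * x * g₀⁻¹ * (g₀ * g₀) * x := by group
              _ = x⁻¹ * (z * z) * x := by rw [hgx, h]; group
              _ = 1 := by rw [hz2]; group
          · calc g₀ * x * x * (g₀ * x)⁻¹ = g₀ * x * g₀⁻¹ := by group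
              _ = _ := hgx
      refine ⟨m, he, x, g, hx, orderOf_eq_prime (by rw [sq]; exact hgg') (fun h => hg (h ▸ one_mem _)), ?_⟩
      rw [hgx', hz]
      calc x⁻¹ * x ^ 2 ^ (m + 1 + 1) = x⁻¹ * x ^ ((2 ^ (m + 2) - 1) + 1) := by
            rw [Nat.sub_add_cancel Nat.one_le_two_pow]
        _ = x ^ (2 ^ (m + 2) - 1) := by rw [pow_succ']; group

end Cfsg.Agent.S4399
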