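import Cfsg.Statements.S4398
import Cfsg.Agent.S4399
import Cfsg.Agent.Lib.Perm.SectionalTwo
import Cfsg.Agent.Lib.Fusion.MaxClassTwo

set_option autoImplicit false
open Cfsg
open scoped commutatorElement

namespace Cfsg.Agent.S4398

/-- In a nonabelian group of order eight: a normal cyclic subgroup with cyclic quotient has order
four and is inverted. -/
theorem small {H : Type*} [Group H] [Finite H] (hH : Nat.card H = 8)
    (hna : ∃ x y : H, x * y ≠ y * x) (M : Subgroup H) [M.Normal] (hM : IsCyclic ↥M)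
    (hQ : IsCyclic (H ⧸ M)) :
    ∃ i h : H, M = Subgroup.zpowers i ∧ orderOf i = 4 ∧ h ∉ M ∧ h * i * h⁻¹ = i⁻¹ ∧ h ^ 2 ∈ M := by
  obtain ⟨i, hi⟩ := (Subgroup.isCyclic_iff_exists_zpowers_eq_top _).1 hM
  obtain ⟨q, hq⟩ := hQ.exists_generator
  obtain ⟨h, rfl⟩ := QuotientGroup.mk'_surjective M q
  have hdec : ∀ x : H, ∃ j k : ℤ, x = h ^ j * i ^ k := by
    intro x
    obtain ⟨j, hj⟩ := Subgroup.mem_zpowers_iff.1 (hq x)
    have hj' : (QuotientGroup.mk (h ^ j) : H ⧸ M) = QuotientGroup.mk x := hj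
    rw [QuotientGroup.eq] at hj'
    have hm : (h ^ j)⁻¹ * x ∈ Subgroup.zpowers i := by rw [hi]; exact hj'
    obtain ⟨k, hk⟩ := Subgroup.mem_zpowers_iff.1 hm
    exact ⟨j, k, by rw [hk]; group⟩
  have hnc : h * i ≠ i * h := by
    intro e
    obtain ⟨x, y, hxy⟩ := hna
    obtain ⟨j, k, rfl⟩ := hdec x
    obtain ⟨j', k', rfl⟩ := hdec y
    have c : Commute h i := e
    exact hxy ((((Commute.refl h).zpow_zpow j j').mul_right (c.zpow_zpow j k')).mul_left
      ((c.symm.zpow_zpow k j').mul_right ((Commute.refl i).zpow_zpow k k'))).eq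
  have hiM : i ∈ M := by rw [← hi]; exact Subgroup.mem_zpowers i
  have hconj : h * i * h⁻¹ ∈ Subgroup.zpowers i := by
    rw [hi]; exact Subgroup.Normal.conj_mem inferInstance i hiM h
  have hd : orderOf i ∣ 2 ^ 3 := by
    rw [show 2 ^ 3 = Nat.card H from hH.symm]; exact orderOf_dvd_natCard i
  obtain ⟨e, he, heq⟩ := (Nat.dvd_prime_pow Nat.prime_two).1 hd
  obtain ⟨t, ht⟩ := Subgroup.mem_zpowers_iff.1 hconj
  have hordc : orderOf (h * i * h⁻¹) = orderOf i :=
    orderOf_injective (MulAut.conj h).toMonoidHom (MulAut.conj h).injective i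
  have hmodi := zpow_mod_orderOf i t
  rw [ht, heq] at hmodi
  interval_cases e
  · exact absurd (by simp [orderOf_eq_one_iff.1 heq]) hnc
  · exfalso
    rcases Int.emod_two_eq_zero_or_one t with e | e <;> simp [e] at hmodi
    · rw [← hmodi, orderOf_one, heq] at hordc; norm_num at hordc
    · exact hnc (mul_inv_eq_iff_eq_mul.1 hmodi.symm)
  · have h4 : t % 4 = 0 ∨ t % 4 = 1 ∨ t % 4 = 2 ∨ t % 4 = 3 := by omega
    have hi4 : i ^ (4 : ℕ) = 1 := by rw [show (4 : ℕ) = 2 ^ 2 by norm_num, ← heq, pow_orderOf_eq_one]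
    have hhM : h ∉ M := fun hh => by
      rw [← hi] at hh
      obtain ⟨k, hk⟩ := Subgroup.mem_zpowers_iff.1 hh
      exact hnc (hk ▸ ((Commute.refl i).zpow_left k).eq)
    have hidx : M.index = 2 := by
      have hh := M.card_mul_index
      rw [hH, ← hi, Nat.card_zpowers, heq] at hh
      rw [← hi]
      norm_num at hh ⊢
      omega
    refine ⟨i, h, hi.symm, by rw [heq]; norm_num, hhM, ?_, ?_⟩
    · norm_num at hmodi
      rcases h4 with e | e | e | e <;> simp [e] at hmodi
      · rw [← hmodi, orderOf_one, heq] at hordc; norm_num at hordc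
      · exact absurd (mul_inv_eq_iff_eq_mul.1 hmodi.symm) hnc
      · rw [← hmodi] at hordc
        have : orderOf (i ^ 2) ∣ 2 := orderOf_dvd_of_pow_eq_one (by rw [← pow_mul]; exact hi4)
        rw [hordc, heq] at this
        norm_num at this
      · rw [← hmodi, eq_inv_iff_mul_eq_one, ← pow_succ]
        exact hi4
    · exact Subgroup.sq_mem_of_index_two hidx h
  · exfalso
    have : M = ⊤ := Subgroup.eq_top_of_card_eq _ (by rw [← hi, Nat.card_zpowers, heq, hH]; norm_num)
    have hh : h ∈ Subgroup.zpowers i := by rw [hi, this]; exact Subgroup.mem_top h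
    obtain ⟨k, hk⟩ := Subgroup.mem_zpowers_iff.1 hh
    exact hnc (hk ▸ ((Commute.refl i).zpow_left k).eq)

theorem abelianization_four {S : Type*} [Group S] [Finite S] (h2 : IsPGroup 2 S)
    (hr : Cfsg.SectionalPRankLE 2 2 S) (H : Subgroup S) (hH : Nat.card ↥H = 8)
    (hna : ∃ x y : ↥H, x * y ≠ y * x) :
    Nat.card (Abelianization S) = 4 ∧ ∀ x : Abelianization S, x ^ 2 = 1 := by
  classical
  have hprime : Fact (Nat.Prime 2) := ⟨Nat.prime_two⟩
  obtain ⟨A, hAn, hAc, hQc⟩ := Cfsg.Agent.Perm.SectionalTwo.metacyclic _ S rfl h2 hr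
  obtain ⟨a, ha⟩ := (Subgroup.isCyclic_iff_exists_zpowers_eq_top _).1 hAc
  let f : ↥H →* S ⧸ A := (QuotientGroup.mk' A).comp H.subtype
  have hker : f.ker = A.subgroupOf H := by
    ext x
    simp [f, MonoidHom.mem_ker, Subgroup.mem_subgroupOf]
  have hMc : IsCyclic ↥f.ker := by
    rw [hker]
    exact isCyclic_of_injective (f := ((H.subtype).comp (A.subgroupOf H).subtype).codRestrict A
      (fun x => x.2)) (fun x y e => Subtype.ext (Subtype.ext (congrArg Subtype.val e :)))
  have hQc' : IsCyclic (↥H ⧸ f.ker) :=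
    isCyclic_of_injective (f := QuotientGroup.kerLift f) (QuotientGroup.kerLift_injective f)
  obtain ⟨i, h, hM, hi4, hhM, hinv, hhsq⟩ := small hH hna f.ker hMc hQc'
  have hiA : (i : S) ∈ A := by
    have : i ∈ f.ker := by rw [hM]; exact Subgroup.mem_zpowers i
    rw [hker] at this; exact this
  have hhA : (h : S) ∉ A := fun e => hhM (by rw [hker]; exact e)
  have hh2A : (h : S) ^ 2 ∈ A := by rw [hker] at hhsq; exact hhsq
  have hinvS : (h : S) * i * (h : S)⁻¹ = (i : S)⁻¹ := congrArg Subtype.val hinv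
  have hi4S : orderOf (i : S) = 4 := by
    rw [Subgroup.orderOf_coe]; exact hi4
  have hii : (i : S)⁻¹ ≠ i := fun e => by
    have : (i : S) ^ 2 = 1 := by rw [pow_two]; nth_rewrite 1 [← e]; exact inv_mul_cancel _
    have := orderOf_dvd_of_pow_eq_one this
    rw [hi4S] at this; norm_num at this
  have hAab : ∀ x ∈ A, ∀ y ∈ A, Commute x y := fun x hx y hy => by
    rw [← ha] at hx hy
    obtain ⟨j, rfl⟩ := Subgroup.mem_zpowers_iff.1 hx
    obtain ⟨k, rfl⟩ := Subgroup.mem_zpowers_iff.1 hy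
    exact (Commute.refl a).zpow_zpow j k
  -- the cyclic quotient has order two
  obtain ⟨q, hq⟩ := hQc.exists_generator
  obtain ⟨b, rfl⟩ := QuotientGroup.mk'_surjective A q
  have hordq : orderOf (QuotientGroup.mk' A b) = Nat.card (S ⧸ A) := by
    rw [← Nat.card_zpowers]
    rw [(Subgroup.eq_top_iff' _).2 hq, Subgroup.card_top]
  obtain ⟨n, hn⟩ := (IsPGroup.iff_orderOf.1 (h2.to_quotient A)) (QuotientGroup.mk' A b)
  have hpreserve : ∀ g : S, g * i * g⁻¹ = i ∨ g * i * g⁻¹ = (i : S)⁻¹ := by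
    intro g
    have hiA' := hiA
    rw [← ha] at hiA'
    obtain ⟨k, hk⟩ := Subgroup.mem_zpowers_iff.1 hiA'
    have hga : g * a * g⁻¹ ∈ Subgroup.zpowers a := by
      rw [ha]; exact hAn.conj_mem a (by rw [← ha]; exact Subgroup.mem_zpowers a) g
    obtain ⟨r, hr⟩ := Subgroup.mem_zpowers_iff.1 hga
    have e : g * i * g⁻¹ = (i : S) ^ r := by
      rw [← hk, ← conj_zpow, ← hr, ← zpow_mul, ← zpow_mul, mul_comm]
    have hord : orderOf ((i : S) ^ r) = 4 := by
      rw [← e, ← hi4S]
      exact orderOf_injective (MulAut.conj g).toMonoidHom (MulAut.conj g).injective _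
    rw [e, ← zpow_mod_orderOf (i : S) r, hi4S]
    have hi4' : (i : S) ^ (4 : ℕ) = 1 := by rw [← hi4S, pow_orderOf_eq_one]
    have h4 : r % 4 = 0 ∨ r % 4 = 1 ∨ r % 4 = 2 ∨ r % 4 = 3 := by omega
    rw [← zpow_mod_orderOf (i : S) r, hi4S] at hord
    rw [show ((4 : ℕ) : ℤ) = 4 by norm_num] at hord ⊢
    rcases h4 with h | h | h | h <;> rw [h] at hord ⊢
    · rw [zpow_zero, orderOf_one] at hord; norm_num at hord
    · left; exact zpow_one _
    · exfalso
      have : orderOf ((i : S) ^ (2 : ℤ)) ∣ 2 := orderOf_dvd_of_pow_eq_one (by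
        rw [zpow_ofNat, ← pow_mul]; exact hi4')
      rw [hord] at this; norm_num at this
    · right
      rw [zpow_ofNat, eq_inv_iff_mul_eq_one, ← pow_succ]; exact hi4'
  have hsq : ∀ g : S, Commute (g ^ 2) (i : S) := by
    intro g
    have key : g ^ 2 * i * (g ^ 2)⁻¹ = i := by
      rcases hpreserve g with e | e
      · calc g ^ 2 * i * (g ^ 2)⁻¹ = g * (g * i * g⁻¹) * g⁻¹ := by rw [pow_two]; group
          _ = g * (i : S) * g⁻¹ := congrArg (fun w => g * w * g⁻¹) e
          _ = i := e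
      · calc g ^ 2 * i * (g ^ 2)⁻¹ = g * (g * i * g⁻¹) * g⁻¹ := by rw [pow_two]; group
          _ = g * (i : S)⁻¹ * g⁻¹ := congrArg (fun w => g * w * g⁻¹) e
          _ = (g * i * g⁻¹)⁻¹ := by group
          _ = i := by rw [e, inv_inv]
    exact mul_inv_eq_iff_eq_mul.1 key
  have hn1 : n = 1 := by
    rcases n with _ | _ | n
    · exfalso
      rw [pow_zero, hordq, Nat.card_eq_one_iff_unique] at hn
      exact hhA ((QuotientGroup.eq_one_iff _).1 (hn.1.elim _ _))
    · rfl
    · exfalso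
      obtain ⟨j, hj⟩ := Subgroup.mem_zpowers_iff.1 (hq (QuotientGroup.mk' A h))
      have hj2 : QuotientGroup.mk' A b ^ (j * 2) = 1 := by
        rw [zpow_mul, hj, zpow_ofNat, ← map_pow]
        exact (QuotientGroup.eq_one_iff _).2 hh2A
      rw [← orderOf_dvd_iff_zpow_eq_one, hn] at hj2
      push_cast at hj2
      rw [pow_succ] at hj2
      have hje : (2 : ℤ) ∣ j :=
        (dvd_pow_self 2 (Nat.succ_ne_zero n)).trans (Int.dvd_of_mul_dvd_mul_right two_ne_zero hj2)
      obtain ⟨k, rfl⟩ := hje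
      have hd : (b ^ k) ^ 2 * ((b ^ k) ^ 2)⁻¹ = 1 := mul_inv_cancel _
      have hdiff : ((b ^ k) ^ 2)⁻¹ * (h : S) ∈ A := by
        have e : (QuotientGroup.mk ((b ^ k) ^ 2) : S ⧸ A) = QuotientGroup.mk (h : S) := by
          show QuotientGroup.mk' A ((b ^ k) ^ 2) = QuotientGroup.mk' A (h : S)
          rw [← hj, map_pow, map_zpow, ← zpow_ofNat, ← zpow_mul, mul_comm]
        exact QuotientGroup.eq.1 e
      have hc : Commute (h : S) (i : S) := by
        have : (h : S) = (b ^ k) ^ 2 * (((b ^ k) ^ 2)⁻¹ * h) := by group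
        rw [this]
        exact (hsq _).mul_left (hAab _ hdiff _ hiA)
      exact hii (by rw [← hinvS, hc.eq, mul_inv_cancel_right])
  have hidx : A.index = 2 := by rw [Subgroup.index, ← hordq, hn, hn1, pow_one]
  -- a small centralizer
  have hAh : ∀ x : S, x ∈ A → Commute (h : S) x → x ^ 2 = 1 := by
    intro x hx hcx
    rw [← ha] at hx
    obtain ⟨k, rfl⟩ := Subgroup.mem_zpowers_iff.1 hx
    have hiA' := hiA
    rw [← ha] at hiA'
    obtain ⟨l, hl⟩ := Subgroup.mem_zpowers_iff.1 hiA'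
    have hga : (h : S) * a * (h : S)⁻¹ ∈ Subgroup.zpowers a := by
      rw [ha]; exact hAn.conj_mem a (by rw [← ha]; exact Subgroup.mem_zpowers a) _
    obtain ⟨r, hr⟩ := Subgroup.mem_zpowers_iff.1 hga
    obtain ⟨M, hM2⟩ := (IsPGroup.iff_orderOf.1 h2) a
    have e1 : a ^ (r * k - k) = 1 := by
      rw [zpow_sub, zpow_mul, hr, conj_zpow, hcx.eq, mul_inv_cancel_right, mul_inv_cancel]
    have e2 : (i : S) ^ (r + 1) = 1 := by
      have : (h : S) * i * (h : S)⁻¹ = (i : S) ^ r := by
        rw [← hl, ← conj_zpow, ← hr, ← zpow_mul, ← zpow_mul, mul_comm]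
      rw [zpow_add_one, ← this, hinvS, inv_mul_cancel]
    rw [← orderOf_dvd_iff_zpow_eq_one, hi4S] at e2
    obtain ⟨r', hr'⟩ := e2
    rw [← orderOf_dvd_iff_zpow_eq_one, hM2] at e1
    push_cast at e1 hr'
    rw [show r * k - k = (2 * r' - 1) * (2 * k) by linear_combination k * hr'] at e1
    have hcop : IsCoprime ((2 : ℤ) ^ M) (2 * r' - 1) :=
      IsCoprime.pow_left ⟨r', -1, by ring⟩
    have hfin := hcop.dvd_of_dvd_mul_left e1
    rw [← zpow_natCast, ← zpow_mul, ← orderOf_dvd_iff_zpow_eq_one, hM2]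
    push_cast
    rwa [mul_comm k 2]
  have hcent : Nat.card (Subgroup.centralizer ({(h : S)} : Set S)) ≤ 2 ^ 2 := by
    have hle : Nat.card ↥(A ⊓ Subgroup.centralizer ({(h : S)} : Set S)) ≤ 2 := by
      have hcy : IsCyclic ↥(A ⊓ Subgroup.centralizer ({(h : S)} : Set S)) :=
        isCyclic_of_injective (f := Subgroup.inclusion (inf_le_left (a := A)))
          (Subgroup.inclusion_injective _)
      rw [← hcy.exponent_eq_card]
      refine Nat.le_of_dvd two_pos (Monoid.exponent_dvd_of_forall_pow_eq_one fun x => Subtype.ext ?_)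
      exact hAh x.1 x.2.1 (Subgroup.mem_centralizer_singleton_iff.1 x.2.2).symm
    have hmul := Subgroup.relIndex_mul_relIndex (⊥ : Subgroup S)
      (A ⊓ Subgroup.centralizer ({(h : S)} : Set S)) (Subgroup.centralizer ({(h : S)} : Set S))
      bot_le inf_le_right
    rw [Subgroup.relIndex_bot_left, Subgroup.relIndex_bot_left, Subgroup.inf_relIndex_right] at hmul
    rw [← hmul]
    have h2' : A.relIndex (Subgroup.centralizer ({(h : S)} : Set S)) ≤ 2 := by
      refine Nat.le_of_dvd two_pos ?_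
      rw [← hidx]
      exact Subgroup.relIndex_dvd_index_of_normal A _
    exact Nat.mul_le_mul hle h2'
  obtain ⟨T, hT⟩ := (IsPGroup.iff_card (p := 2) (G := S)).1 h2
  obtain ⟨m, rfl⟩ : ∃ m, T = m + 2 := ⟨T - 2, by
    have h8 : Nat.card ↥H ≤ 2 ^ T :=
      hT ▸ Nat.le_of_dvd Nat.card_pos (Subgroup.card_subgroup_dvd_card H)
    rw [hH] at h8
    rcases T with _ | _ | T
    · norm_num at h8
    · norm_num at h8
    · omega⟩
  have hne := Cfsg.Agent.Solv.lcs_ne_bot_of_small_centralizer (p := 2) m hT ⟨_, hcent⟩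
  have hidx' := Cfsg.Agent.Fusion.commutator_index_of_maxClass h2 hT hne
  have hncyc := Cfsg.Agent.Fusion.not_isCyclic_abelianization_of_noncomm h2
    ⟨h, i, fun e => hii (by rw [← hinvS, e, mul_inv_cancel_right])⟩
  refine ⟨?_, fun x => ?_⟩
  · show Nat.card (S ⧸ commutator S) = 4
    rw [← Subgroup.index, hidx']; norm_num
  · show (x : S ⧸ commutator S) ^ 2 = 1
    have hcard : Nat.card (S ⧸ commutator S) = 2 ^ 2 := by rw [← Subgroup.index, hidx']
    obtain ⟨j, hj, hje⟩ := (Nat.dvd_prime_pow Nat.prime_two).1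
      (hcard ▸ orderOf_dvd_natCard (x : S ⧸ commutator S))
    rw [← orderOf_dvd_iff_pow_eq_one, hje]
    interval_cases j
    · norm_num
    · norm_num
    · exact absurd (isCyclic_of_orderOf_eq_card _ (hje.trans hcard.symm)) hncyc

/-- Let S be a finite 2-group of sectional 2-rank at most 2 that contains a subgroup isomorphic to the dihedral group of order 8 or to the quaternion group of order 8. Then S is dihedral of order at least 8, semidihedral of order at least 16 (order 2^(k+4) with an element a of order 2^(k+3) and an involution b with b a b⁻¹ = a^(2^(k+2)−1)), or generalized quaternion of order at least 8. -/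
theorem result {S : Type*} [Group S] [Finite S] (h2 : IsPGroup 2 S) (hr : Cfsg.SectionalPRankLE 2 2 S)
    (hsub : ∃ H : Subgroup S, Nonempty (↥H ≃* DihedralGroup 4) ∨ Nonempty (↥H ≃* QuaternionGroup 2)) :
    ((∃ k : ℕ, Nonempty (S ≃* DihedralGroup (2 ^ (k + 2)))) ∨
      (∃ k : ℕ, Nat.card S = 2 ^ (k + 4) ∧ ∃ a b : S, orderOf a = 2 ^ (k + 3) ∧ orderOf b = 2 ∧ b * a * b⁻¹ = a ^ (2 ^ (k + 2) - 1)) ∨
      (∃ k : ℕ, Nonempty (S ≃* QuaternionGroup (2 ^ (k + 1))))) := by
  obtain ⟨H, hHe⟩ := hsub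
  have hH : Nat.card ↥H = 8 ∧ ∃ x y : ↥H, x * y ≠ y * x := by
    rcases hHe with ⟨⟨e⟩⟩ | ⟨⟨e⟩⟩
    · refine ⟨by rw [Nat.card_congr e.toEquiv, DihedralGroup.nat_card], e.symm (DihedralGroup.r 1),
        e.symm (DihedralGroup.sr 0), fun h => ?_⟩
      rw [← map_mul, ← map_mul] at h
      have := e.symm.injective h
      revert this; decide
    · refine ⟨by rw [Nat.card_congr e.toEquiv, Nat.card_eq_fintype_card, QuaternionGroup.card],
        e.symm (QuaternionGroup.a 1), e.symm (QuaternionGroup.xa 0), fun h => ?_⟩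
      rw [← map_mul, ← map_mul] at h
      have := e.symm.injective h
      revert this; decide
  obtain ⟨hab, hexp⟩ := abelianization_four h2 hr H hH.1 hH.2
  rcases Cfsg.Agent.S4399.result h2 hab hexp with h4 | h
  · exfalso
    have := Subgroup.card_le_card_group H
    rw [h4, hH.1] at this
    omega
  · exact h

end Cfsg.Agent.S4398
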