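import Cfsg.Statements.S4400
import Cfsg.Agent.Lib.Perm.SectionalFour

set_option autoImplicit false
open Cfsg
open Cfsg.Agent.Perm

namespace Cfsg.Agent.S4400

/-- Let S be a finite 2-group of sectional 2-rank at most 4, and let P and Q be normal non-abelian subgroups of S whose centres have order 2 and are different. Then P and Q commute elementwise and intersect trivially, and PQ contains its own centralizer in S. -/
theorem result {S : Type*} [Group S] [Finite S] (h2 : IsPGroup 2 S) (hr : Cfsg.SectionalPRankLE 2 4 S)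
    (P Q : Subgroup S) [P.Normal] [Q.Normal] (hP : ¬ IsMulCommutative ↥P) (hQ : ¬ IsMulCommutative ↥Q)
    (hZP : Nat.card ↥(Subgroup.center ↥P) = 2) (hZQ : Nat.card ↥(Subgroup.center ↥Q) = 2)
    (hne : (Subgroup.center ↥P).map P.subtype ≠ (Subgroup.center ↥Q).map Q.subtype) :
    ⁅P, Q⁆ = ⊥ ∧ P ⊓ Q = ⊥ ∧ Subgroup.centralizer ((P ⊔ Q : Subgroup S) : Set S) ≤ P ⊔ Q := by
  obtain ⟨zP, hsP, heP⟩ := SectionalFour.smallCentre_of_card P hP hZP
  obtain ⟨zQ, hsQ, heQ⟩ := SectionalFour.smallCentre_of_card Q hQ hZQ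
  obtain ⟨hc, hd, hcent⟩ := SectionalFour.pair h2 hr ⊤ P Q le_top le_top
    (fun t _ x hx => Subgroup.Normal.conj_mem inferInstance x hx t)
    (fun t _ x hx => Subgroup.Normal.conj_mem inferInstance x hx t) hsP hsQ
    (fun e => hne (by rw [heP, heQ, e]))
  refine ⟨?_, hd, fun x hx => ?_⟩
  · rw [eq_bot_iff, Subgroup.commutator_le]
    intro a ha b hb
    rw [Subgroup.mem_bot, commutatorElement_eq_one_iff_mul_comm]
    exact hc a ha b hb
  · rw [Subgroup.mem_centralizer_iff] at hx
    exact hcent x (Subgroup.mem_top x)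
      (fun y hy => (hx y (Subgroup.mem_sup_left hy)).symm)
      (fun y hy => (hx y (Subgroup.mem_sup_right hy)).symm)

end Cfsg.Agent.S4400
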