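import Cfsg.Statements.S4401
import Cfsg.Agent.Lib.Perm.SectionalFour

set_option autoImplicit false
open Cfsg
open Cfsg.Agent.Perm
open Cfsg.Agent.Perm.SectionalFour

namespace Cfsg.Agent.S4401

variable {S : Type*} [Group S] [Finite S]

/-- The conjugate of `P` by `s`. -/
abbrev cP (s : S) (P : Subgroup S) : Subgroup S := P.map (MulAut.conj s).toMonoidHom

omit [Finite S] in
theorem mem_cP {s x : S} {P : Subgroup S} : x ∈ cP s P ↔ s⁻¹ * x * s ∈ P := by
  constructor
  · rintro ⟨y, hy, rfl⟩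
    simpa [mul_assoc] using hy
  · intro h
    exact ⟨s⁻¹ * x * s, h, by simp [mul_assoc]⟩

omit [Finite S] in
theorem conj_mem_cP {s y : S} {P : Subgroup S} (hy : y ∈ P) : s * y * s⁻¹ ∈ cP s P := ⟨y, hy, rfl⟩

omit [Finite S] in
theorem smallCentre_conj {P : Subgroup S} {z : S} (h : SmallCentre P z) (s : S) :
    SmallCentre (cP s P) (s * z * s⁻¹) := by
  obtain ⟨⟨x, hx, y, hy, hxy⟩, hz, hz1, hzc, hu⟩ := h
  have inj : ∀ a b : S, s * a * s⁻¹ = s * b * s⁻¹ → a = b := fun a b e =>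
    mul_left_cancel (mul_right_cancel e)
  refine ⟨⟨_, conj_mem_cP hx, _, conj_mem_cP hy, fun e => hxy (inj _ _ (by
    calc s * (x * y) * s⁻¹ = s * x * s⁻¹ * (s * y * s⁻¹) := by group
      _ = s * y * s⁻¹ * (s * x * s⁻¹) := e
      _ = _ := by group))⟩, conj_mem_cP hz, fun e => hz1 (conj_eq_one_iff.1 e), ?_, ?_⟩
  · intro a ha
    obtain ⟨b, hb, rfl⟩ := ha
    show s * b * s⁻¹ * (s * z * s⁻¹) = s * z * s⁻¹ * (s * b * s⁻¹)
    calc s * b * s⁻¹ * (s * z * s⁻¹) = s * (b * z) * s⁻¹ := by group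
      _ = s * (z * b) * s⁻¹ := by rw [hzc b hb]
      _ = _ := by group
  · intro a ha hc
    obtain ⟨b, hb, rfl⟩ := ha
    rcases hu b hb (fun w hw => inj _ _ (by
      have := hc _ (conj_mem_cP hw)
      show s * (w * b) * s⁻¹ = s * (b * w) * s⁻¹
      calc s * (w * b) * s⁻¹ = s * w * s⁻¹ * (s * b * s⁻¹) := by group
        _ = s * b * s⁻¹ * (s * w * s⁻¹) := this
        _ = _ := by group)) with rfl | rfl
    · left; simp
    · right; rfl

/-- Two commuting disjoint conjugates force rank at most two. -/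
theorem rank_two (hr : Cfsg.SectionalPRankLE 2 4 S) (P : Subgroup S) (s : S)
    (hc : ∀ x ∈ P, ∀ y ∈ cP s P, x * y = y * x) (hd : P ⊓ cP s P = ⊥) :
    Cfsg.SectionalPRankLE 2 2 ↥P := by
  intro H N hN A hA h2
  let B : Subgroup ↥H := A.comap (QuotientGroup.mk' N)
  let ι : ↥B →* S := P.subtype.comp (H.subtype.comp B.subtype)
  have hι : Function.Injective ι :=
    P.subtype_injective.comp (H.subtype_injective.comp B.subtype_injective)
  let ι' : ↥B →* S := (MulAut.conj s).toMonoidHom.comp ι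
  have hιP : ∀ b, ι b ∈ P := fun b => (b.1.1 : ↥P).2
  let f : ↥B × ↥B →* S := MonoidHom.noncommCoprod ι ι'
    (fun a b => hc _ (hιP a) _ (conj_mem_cP (hιP b)))
  have hf : Function.Injective f := by
    rw [injective_iff_map_eq_one]
    rintro ⟨a, b⟩ e
    have e' : ι a * (s * ι b * s⁻¹) = 1 := e
    have hm : ι a ∈ P ⊓ cP s P := Subgroup.mem_inf.2 ⟨hιP a, by
      rw [eq_inv_of_mul_eq_one_left e']; exact inv_mem (conj_mem_cP (hιP b))⟩
    rw [hd, Subgroup.mem_bot] at hm
    rw [hm, one_mul, conj_eq_one_iff] at e'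
    exact Prod.ext (hι (hm.trans (map_one ι).symm)) (hι (e'.trans (map_one ι).symm))
  let π : ↥B →* ↥A :=
    ((QuotientGroup.mk' N).comp B.subtype).codRestrict A (fun b => b.2)
  have hπ : Function.Surjective π := fun a => by
    obtain ⟨b, hb⟩ := QuotientGroup.mk'_surjective N a.1
    exact ⟨⟨b, show QuotientGroup.mk' N b ∈ A by rw [hb]; exact a.2⟩, Subtype.ext hb⟩
  let e := MonoidHom.ofInjective hf
  let g : ↥f.range →* ↥A × ↥A := (MonoidHom.prodMap π π).comp e.symm.toMonoidHom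
  have hg : Function.Surjective g := (Function.Surjective.prodMap hπ hπ).comp e.symm.surjective
  have hrank := SectionalTwo.pRankLE_congr (QuotientGroup.quotientKerEquivOfSurjective g hg)
    (hr f.range g.ker)
  have h := hrank ⊤ ⟨⟨fun x y => Subtype.ext (Prod.ext (hA.is_comm.comm _ _) (hA.is_comm.comm _ _))⟩⟩
    (fun x _ => Prod.ext (Subtype.ext (h2 _ x.1.2)) (Subtype.ext (h2 _ x.2.2)))
  rw [Subgroup.card_top, Nat.card_prod] at h
  by_contra hlt
  have : 5 ≤ Nat.card ↥A := by norm_num at hlt; omega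
  nlinarith

/-- Let S be a finite 2-group of sectional 2-rank at most 4 and P a proper non-abelian subgroup whose centre has order 2. Let S₀ be the centralizer in S of Z(P) and suppose P is normal in S₀. Then either S₀ = S, or P has sectional 2-rank at most 2 and S₀ has index 2 in S. -/
theorem result {S : Type*} [Group S] [Finite S] (h2 : IsPGroup 2 S) (hr : Cfsg.SectionalPRankLE 2 4 S)
    (P : Subgroup S) (hPlt : P ≠ ⊤) (hP : ¬ IsMulCommutative ↥P) (hZP : Nat.card ↥(Subgroup.center ↥P) = 2)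
    (S₀ : Subgroup S) (hS₀ : S₀ = Subgroup.centralizer (((Subgroup.center ↥P).map P.subtype : Subgroup S) : Set S))
    (hPn : ∀ s ∈ S₀, ∀ x ∈ P, s * x * s⁻¹ ∈ P) :
    S₀ = ⊤ ∨ (Cfsg.SectionalPRankLE 2 2 ↥P ∧ S₀.index = 2) := by
  obtain ⟨z, hsz, hez⟩ := smallCentre_of_card P hP hZP
  have hS₀' : ∀ g, g ∈ S₀ ↔ g * z = z * g := by
    intro g
    rw [hS₀, hez, Subgroup.mem_centralizer_iff]
    refine ⟨fun h => (h z (Subgroup.mem_zpowers z)).symm, fun h y hy => ?_⟩
    obtain ⟨j, rfl⟩ := Subgroup.mem_zpowers_iff.1 hy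
    exact (Commute.zpow_right h j).symm.eq
  rcases eq_or_ne S₀ ⊤ with htop | htop
  · exact Or.inl htop
  right
  have hPS₀ : P ≤ S₀ := fun x hx => (hS₀' x).2 (hsz.2.2.2.1 x hx)
  have : Group.IsNilpotent S := h2.isNilpotent
  have hgrow : ∀ H : Subgroup S, H ≠ ⊤ → ∃ g ∈ Subgroup.normalizer (H : Set S), g ∉ H := fun H hH =>
    SetLike.exists_of_lt (Group.normalizerCondition_of_isNilpotent H (lt_top_iff_ne_top.2 hH))
      |>.imp fun g hg => hg
  obtain ⟨s, hsN, hs⟩ := hgrow S₀ htop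
  have hN0 : ∀ g, g ∈ Subgroup.normalizer (S₀ : Set S) → ∀ x, (x ∈ S₀ ↔ g * x * g⁻¹ ∈ S₀) := fun g hg =>
    Subgroup.mem_normalizer_iff.1 hg
  have hnormal : ∀ g ∈ Subgroup.normalizer (S₀ : Set S), cP g P ≤ S₀ ∧
      ∀ t ∈ S₀, ∀ x ∈ cP g P, t * x * t⁻¹ ∈ cP g P := by
    intro g hg
    refine ⟨fun x hx => ?_, fun t ht x hx => ?_⟩
    · obtain ⟨y, hy, rfl⟩ := hx
      exact (hN0 g hg y).1 (hPS₀ hy)
    · obtain ⟨y, hy, rfl⟩ := hx
      rw [mem_cP]
      have ht' : g⁻¹ * t * g ∈ S₀ := by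
        rw [hN0 g hg]; simpa [mul_assoc] using ht
      have := hPn _ ht' y hy
      show g⁻¹ * (t * (g * y * g⁻¹) * t⁻¹) * g ∈ P
      simpa [mul_assoc] using this
  have hzne : ∀ g, g ∉ S₀ → g * z * g⁻¹ ≠ z := fun g hg e =>
    hg ((hS₀' g).2 (mul_inv_eq_iff_eq_mul.1 e))
  obtain ⟨hcm, hdj, hcent⟩ := pair h2 hr S₀ P (cP s P) hPS₀ (hnormal s hsN).1 hPn (hnormal s hsN).2
    hsz (smallCentre_conj hsz s) (hzne s hs).symm
  refine ⟨rank_two hr P s hcm hdj, ?_⟩
  set z' := s * z * s⁻¹ with hz'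
  have hsz' := smallCentre_conj hsz s
  -- only two conjugates of `P` below the normalizer
  have horb : ∀ g ∈ Subgroup.normalizer (S₀ : Set S), g * z * g⁻¹ = z ∨ g * z * g⁻¹ = z' := by
    intro g hg
    by_contra hcon
    rw [not_or] at hcon
    have h1 := pair h2 hr S₀ P (cP g P) hPS₀ (hnormal g hg).1 hPn (hnormal g hg).2
      hsz (smallCentre_conj hsz g) (Ne.symm hcon.1)
    have h2' := pair h2 hr S₀ (cP s P) (cP g P) (hnormal s hsN).1 (hnormal g hg).1 (hnormal s hsN).2
      (hnormal g hg).2 hsz' (smallCentre_conj hsz g) (Ne.symm hcon.2)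
    obtain ⟨⟨x, hx, y, hy, hxy⟩, -⟩ := smallCentre_conj hsz g
    have hin : ∀ w ∈ cP g P, ∃ a b, (a = 1 ∨ a = z) ∧ (b = 1 ∨ b = z') ∧ w = a * b := by
      intro w hw
      have hwc1 : ∀ y ∈ P, w * y = y * w := fun y hy => (h1.1 y hy w hw).symm
      have hwc2 : ∀ y ∈ cP s P, w * y = y * w := fun y hy => (h2'.1 y hy w hw).symm
      obtain ⟨a, ha, b, hb, rfl⟩ := (card_sup_of_commute P (cP s P) hcm hdj).2 w
        (hcent w ((hnormal g hg).1 hw) hwc1 hwc2)
      refine ⟨a, b, hsz.2.2.2.2 a ha fun v hv => ?_, hsz'.2.2.2.2 b hb fun v hv => ?_, rfl⟩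
      · have c : Commute v (a * b) := (hwc1 v hv).symm
        have := c.mul_right (Commute.inv_right (hcm v hv b hb))
        rwa [mul_inv_cancel_right] at this
      · have c : Commute v (a * b) := (hwc2 v hv).symm
        have := (Commute.inv_right (hcm a ha v hv).symm).mul_right c
        rwa [inv_mul_cancel_left] at this
    have hzz : Commute z z' := hcm z hsz.2.1 z' hsz'.2.1
    obtain ⟨a, b, ha, hb, rfl⟩ := hin x hx
    obtain ⟨a', b', ha', hb', rfl⟩ := hin y hy
    apply hxy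
    rcases ha with rfl | rfl <;> rcases hb with rfl | rfl <;> rcases ha' with rfl | rfl <;>
      rcases hb' with rfl | rfl <;>
      simp [hzz.eq, mul_assoc, hzz.left_comm]
  set N := Subgroup.normalizer (S₀ : Set S) with hN
  have hidx2 : ∀ g ∈ N, g ∈ S₀ ∨ s⁻¹ * g ∈ S₀ := by
    intro g hg
    rcases horb g hg with e | e
    · exact Or.inl ((hS₀' g).2 (mul_inv_eq_iff_eq_mul.1 e))
    · refine Or.inr ((hS₀' _).2 (mul_inv_eq_iff_eq_mul.1 ?_))
      calc s⁻¹ * g * z * (s⁻¹ * g)⁻¹ = s⁻¹ * (g * z * g⁻¹) * s := by group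
        _ = z := by rw [e, hz']; group
  have hgz' : ∀ g ∈ N, g * z' * g⁻¹ = z ∨ g * z' * g⁻¹ = z' := by
    intro g hg
    have e : g * z' * g⁻¹ = g * s * z * (g * s)⁻¹ := by rw [hz']; group
    rw [e]; exact horb _ (mul_mem hg hsN)
  have hNtop : N = ⊤ := by
    by_contra hNne
    obtain ⟨t, htN, ht⟩ := hgrow N hNne
    have htN' := Subgroup.mem_normalizer_iff.1 htN
    have htinv : ∀ g ∈ N, t⁻¹ * g * t ∈ N := fun g hg => by
      rw [htN']; simpa [mul_assoc] using hg
    have hzN : z ∈ N := Subgroup.le_normalizer (hPS₀ hsz.2.1)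
    have hz'N : z' ∈ N := Subgroup.le_normalizer ((hnormal s hsN).1 hsz'.2.1)
    set w := z * z' with hw
    have hzz : Commute z z' := hcm z hsz.2.1 z' hsz'.2.1
    have hgw : ∀ g ∈ N, g * w * g⁻¹ = w := by
      intro g hg
      have e : g * w * g⁻¹ = g * z * g⁻¹ * (g * z' * g⁻¹) := by rw [hw]; group
      have hne : g * z * g⁻¹ ≠ g * z' * g⁻¹ := fun h =>
        (hzne s hs) (mul_left_cancel (mul_right_cancel h)).symm
      rw [e]
      rcases horb g hg with e1 | e1 <;> rcases hgz' g hg with e2 | e2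
      · exact absurd (e1.trans e2.symm) hne
      · rw [e1, e2]
      · rw [e1, e2, hw]; exact hzz.eq.symm
      · exact absurd (e1.trans e2.symm) hne
    -- the conjugate pair
    let u := t * z * t⁻¹
    let u' := t * z' * t⁻¹
    have huu : ∀ g ∈ N, g * u * g⁻¹ = u ∨ g * u * g⁻¹ = u' := by
      intro g hg
      have e : g * u * g⁻¹ = t * (t⁻¹ * g * t * z * (t⁻¹ * g * t)⁻¹) * t⁻¹ := by
        simp only [u]; group
      rw [e]
      rcases horb _ (htinv g hg) with h | h <;> rw [h]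
      · exact Or.inl rfl
      · exact Or.inr rfl
    -- `t` fixes `w`
    have hz2 : z ^ 2 = 1 := (phi_facts h2 hsz).2.2
    have hz'2 : z' ^ 2 = 1 := (phi_facts h2 hsz').2.2
    have hfixw : t * w * t⁻¹ = w := by
      have hc : ∀ g ∈ N, g * (t * w * t⁻¹) = t * w * t⁻¹ * g := by
        intro g hg
        have h' := mul_inv_eq_iff_eq_mul.1 (hgw _ (htinv g hg))
        calc g * (t * w * t⁻¹) = t * (t⁻¹ * g * t * w) * t⁻¹ := by group
          _ = t * (w * (t⁻¹ * g * t)) * t⁻¹ := by rw [h']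
          _ = t * w * t⁻¹ * g := by group
      have hmem : t * w * t⁻¹ ∈ N := (htN' w).1 (mul_mem hzN hz'N)
      set v := t * w * t⁻¹ with hv
      have hv1 : v ≠ 1 := fun e => (hzne s hs) (by
        have h1 : z * z' = 1 := conj_eq_one_iff.1 e
        have h3 : z * z' = z * z := by rw [h1, ← pow_two, hz2]
        exact mul_left_cancel h3)
      have hvS₀ : v ∈ S₀ := (hS₀' v).2 (hc z hzN).symm
      have hvP : ∀ y ∈ P, v * y = y * v := fun y hy => (hc y (Subgroup.le_normalizer (hPS₀ hy))).symm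
      have hvQ : ∀ y ∈ cP s P, v * y = y * v := fun y hy =>
        (hc y (Subgroup.le_normalizer ((hnormal s hsN).1 hy))).symm
      obtain ⟨a, ha, b, hb, hab⟩ := (card_sup_of_commute P (cP s P) hcm hdj).2 v (hcent v hvS₀ hvP hvQ)
      have ha' := hsz.2.2.2.2 a ha fun y hy => by
        have c : Commute y (a * b) := hab ▸ (hvP y hy).symm
        have := c.mul_right (Commute.inv_right (hcm y hy b hb))
        rwa [mul_inv_cancel_right] at this
      have hb' := hsz'.2.2.2.2 b hb fun y hy => by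
        have c : Commute y (a * b) := hab ▸ (hvQ y hy).symm
        have := (Commute.inv_right (hcm a ha y hy).symm).mul_right c
        rwa [inv_mul_cancel_left] at this
      have hsv : s * v * s⁻¹ = v := mul_inv_eq_iff_eq_mul.2 (hc s hsN)
      rcases ha' with rfl | rfl <;> rcases hb' with rfl | rfl
      · exact absurd (hab.trans (one_mul 1)) hv1
      · exfalso
        rw [one_mul] at hab
        rw [hab] at hsv
        have : s * z' * s⁻¹ = s * z * s⁻¹ := hsv
        exact hzne s hs (mul_left_cancel (mul_right_cancel this)).symm.symm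
      · exfalso
        rw [mul_one] at hab
        rw [hab] at hsv
        exact hzne s hs hsv
      · exact hab
    have huu' : u * u' = w := by
      simp only [u, u']; rw [show t * z * t⁻¹ * (t * z' * t⁻¹) = t * w * t⁻¹ by rw [hw]; group, hfixw]
    have hu2 : u * u = 1 := by
      rw [← pow_two]; simp only [u]; rw [conj_pow, hz2, mul_one, mul_inv_cancel]
    have hu' : u' = u * w := by rw [← huu', ← mul_assoc, hu2, one_mul]
    have huN : u ∈ N := (htN' z).1 hzN
    have hcomw : ∀ x ∈ N, x * u * x⁻¹ * u⁻¹ = 1 ∨ x * u * x⁻¹ * u⁻¹ = w := by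
      intro x hx
      rcases huu x hx with e | e
      · left; rw [e, mul_inv_cancel]
      · right
        rw [e, hu', (mul_inv_eq_iff_eq_mul.1 (hgw u huN)), mul_inv_cancel_right]
    -- `u` normalises `P`
    have hwPQ : w ∉ P := fun h => by
      have h' : z' ∈ P ⊓ cP s P := Subgroup.mem_inf.2 ⟨by simpa [hw] using mul_mem (inv_mem hsz.2.1) h, hsz'.2.1⟩
      rw [hdj, Subgroup.mem_bot] at h'
      exact hsz'.2.2.1 h'
    have huS₀ : u ∈ S₀ := by
      by_contra hu
      obtain ⟨x, hx, hx1, hxw⟩ : ∃ x ∈ P, x ≠ 1 ∧ x ≠ z := by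
        obtain ⟨x, hx, y, hy, hxy⟩ := hsz.1
        refine ⟨x, hx, fun e => hxy (by rw [e]; simp), fun e => hxy (by rw [e, hsz.2.2.2.1 y hy])⟩
      have huz : u * z * u⁻¹ = z' := (horb u huN).resolve_left (hzne u hu)
      have hq : u * x⁻¹ * u⁻¹ ∈ cP s P := by
        have hs' : s⁻¹ * u ∈ S₀ := (hidx2 u huN).resolve_left hu
        rw [mem_cP]
        have := hPn _ hs' x⁻¹ (inv_mem hx)
        simpa [mul_assoc] using this
      have hm : x * (u * x⁻¹ * u⁻¹) = x * u * x⁻¹ * u⁻¹ := by group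
      rcases hcomw x (Subgroup.le_normalizer (hPS₀ hx)) with e | e
      · rw [← hm] at e
        have : x ∈ P ⊓ cP s P := Subgroup.mem_inf.2 ⟨hx, by rw [eq_inv_of_mul_eq_one_left e]; exact inv_mem hq⟩
        rw [hdj, Subgroup.mem_bot] at this
        exact hx1 this
      · rw [← hm, hw] at e
        have h3 : z⁻¹ * x = z' * (u * x⁻¹ * u⁻¹)⁻¹ := by
          rw [eq_mul_inv_iff_mul_eq, mul_assoc, e, inv_mul_cancel_left]
        have : z⁻¹ * x ∈ P ⊓ cP s P :=
          Subgroup.mem_inf.2 ⟨mul_mem (inv_mem hsz.2.1) hx, by rw [h3]; exact mul_mem hsz'.2.1 (inv_mem hq)⟩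
        rw [hdj, Subgroup.mem_bot, inv_mul_eq_one] at this
        exact hxw this.symm
    have hcP : ∀ y ∈ P, u * y = y * u := by
      intro y hy
      rcases hcomw y (Subgroup.le_normalizer (hPS₀ hy)) with e | e
      · exact (mul_inv_eq_iff_eq_mul.1 (mul_inv_eq_one.1 e)).symm
      · exfalso
        refine hwPQ ?_
        rw [← e, show y * u * y⁻¹ * u⁻¹ = y * (u * y⁻¹ * u⁻¹) by group]
        exact mul_mem hy (hPn u huS₀ _ (inv_mem hy))
    have hwQ : w ∉ cP s P := fun h => by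
      have h' : z ∈ P ⊓ cP s P := Subgroup.mem_inf.2 ⟨hsz.2.1, by
        have h3 := mul_mem h (inv_mem hsz'.2.1)
        rwa [hw, mul_inv_cancel_right] at h3⟩
      rw [hdj, Subgroup.mem_bot] at h'
      exact hsz.2.2.1 h'
    have hcQ : ∀ y ∈ cP s P, u * y = y * u := by
      intro y hy
      rcases hcomw y (Subgroup.le_normalizer ((hnormal s hsN).1 hy)) with e | e
      · exact (mul_inv_eq_iff_eq_mul.1 (mul_inv_eq_one.1 e)).symm
      · exfalso
        refine hwQ ?_
        rw [← e, show y * u * y⁻¹ * u⁻¹ = y * (u * y⁻¹ * u⁻¹) by group]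
        exact mul_mem hy ((hnormal s hsN).2 u huS₀ _ (inv_mem hy))
    obtain ⟨a, ha, b, hb, hab⟩ := (card_sup_of_commute P (cP s P) hcm hdj).2 u (hcent u huS₀ hcP hcQ)
    have ha' := hsz.2.2.2.2 a ha fun y hy => by
      have c : Commute y (a * b) := hab ▸ (hcP y hy).symm
      have := c.mul_right (Commute.inv_right (hcm y hy b hb))
      rwa [mul_inv_cancel_right] at this
    have hb' := hsz'.2.2.2.2 b hb fun y hy => by
      have c : Commute y (a * b) := hab ▸ (hcQ y hy).symm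
      have := (Commute.inv_right (hcm a ha y hy).symm).mul_right c
      rwa [inv_mul_cancel_left] at this
    have hut : u = z ∨ u = z' := by
      rcases ha' with ea | ea <;> rcases hb' with eb | eb <;> rw [ea, eb] at hab
      · exact absurd (conj_eq_one_iff.1 (hab.trans (one_mul 1))) hsz.2.2.1
      · exact Or.inr (hab.trans (one_mul _))
      · exact Or.inl (hab.trans (mul_one _))
      · exfalso
        have : z = w := mul_left_cancel (mul_right_cancel (hab.trans hfixw.symm))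
        have : z * 1 = z * z' := by rw [mul_one]; exact this
        exact hsz'.2.2.1 (mul_left_cancel this).symm
    apply ht
    rcases hut with e | e
    · exact Subgroup.le_normalizer ((hS₀' t).2 (mul_inv_eq_iff_eq_mul.1 e))
    · have : s⁻¹ * t ∈ S₀ := (hS₀' _).2 (mul_inv_eq_iff_eq_mul.1 (by
        calc s⁻¹ * t * z * (s⁻¹ * t)⁻¹ = s⁻¹ * u * s := by simp only [u]; group
          _ = z := by rw [e, hz']; group))
      simpa using mul_mem hsN (Subgroup.le_normalizer this)
  have hs2 : ∀ g, g ∈ S₀ ∨ s⁻¹ * g ∈ S₀ := fun g => hidx2 g (hNtop ▸ Subgroup.mem_top g)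
  rw [Subgroup.index_eq_two_iff]
  refine ⟨s, fun b => ?_⟩
  rcases hs2 b with h | h
  · refine Or.inr ⟨h, fun h' => hs ?_⟩
    simpa using mul_mem (inv_mem h) h'
  · have hb : b ∉ S₀ := fun hb => hs (by simpa using mul_mem hb (inv_mem h))
    refine Or.inl ⟨?_, hb⟩
    rcases hs2 (b * s) with h' | h'
    · exact h'
    · exfalso
      have := mul_mem (inv_mem h) h'
      have hss : s ∈ S₀ := by simpa [mul_assoc] using this
      exact hs hss

end Cfsg.Agent.S4401
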