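import Cfsg.Statements.S4404
import Mathlib
import Cfsg.Agent.Lib.Solv.Hall
import Cfsg.Agent.Lib.Solv.Generation
import Cfsg.Agent.Lib.Local.ElemAb
import Cfsg.Agent.Lib.SSF.AutCard
import Cfsg.Agent.S0100
import Cfsg.Agent.S4057

set_option autoImplicit false
open Cfsg
open scoped Pointwise commutatorElement

namespace Cfsg.Agent.S4404

universe u

variable {S : Type u} [Group S] [Finite S]

/-! ### Elementary facts -/

theorem elem_conj {r : ℕ} {A : Subgroup S} (hA : Cfsg.IsElementaryAbelian r A) (g : S) :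
    Cfsg.IsElementaryAbelian r (MulAut.conj g • A) := by
  constructor
  · refine ⟨⟨fun a b => Subtype.ext ?_⟩⟩
    obtain ⟨x, hx, hx'⟩ := a.2
    obtain ⟨y, hy, hy'⟩ := b.2
    show (a : S) * b = b * a
    rw [← hx', ← hy']
    simp only [MulDistribMulAction.toMonoidEnd_apply, MulDistribMulAction.toMonoidHom_apply, MulAut.smul_def]
    rw [← map_mul, ← map_mul, Local.elemAb_commute hA hx hy]
  · rintro _ ⟨x, hx, rfl⟩
    simp only [MulDistribMulAction.toMonoidEnd_apply, MulDistribMulAction.toMonoidHom_apply, MulAut.smul_def]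
    rw [← map_pow, hA.2 x hx, map_one]

theorem card_conj (A : Subgroup S) (g : S) : Nat.card ↥(MulAut.conj g • A) = Nat.card A :=
  (Nat.card_congr (Subgroup.equivSMul (MulAut.conj g) A).toEquiv).symm

theorem le_normalizer_of_conj {A X : Subgroup S} (h : ∀ a ∈ A, ∀ v ∈ X, a * v * a⁻¹ ∈ X) :
    A ≤ Subgroup.normalizer (X : Set S) := by
  intro a ha
  rw [Subgroup.mem_normalizer_iff]
  refine fun v => ⟨h a ha v, fun hv => ?_⟩
  simpa [mul_assoc] using h a⁻¹ (inv_mem ha) _ hv

theorem sup_conj_mem {U V : Subgroup S} {a : S} (hU : ∀ u ∈ U, a * u * a⁻¹ ∈ U ⊔ V)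
    (hV : ∀ u ∈ V, a * u * a⁻¹ ∈ U ⊔ V) : ∀ u ∈ U ⊔ V, a * u * a⁻¹ ∈ U ⊔ V := by
  have : U ⊔ V ≤ (U ⊔ V).comap (MulAut.conj a).toMonoidHom :=
    sup_le (fun u hu => hU u hu) (fun u hu => hV u hu)
  exact fun u hu => this hu

theorem conj_inf_mem {A B : Subgroup S} {a : S} (hA : ∀ v ∈ A, a * v * a⁻¹ ∈ A)
    (hB : ∀ v ∈ B, a * v * a⁻¹ ∈ B) : ∀ v ∈ A ⊓ B, a * v * a⁻¹ ∈ A ⊓ B := fun v hv =>
  Subgroup.mem_inf.2 ⟨hA v (Subgroup.mem_inf.1 hv).1, hB v (Subgroup.mem_inf.1 hv).2⟩

/-- An element of odd order modulo a centraliser fixes a commutator only if it is trivial. -/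
theorem fix_of_odd {a v c : S} {m : ℕ} (hm : Odd m) (h1 : a * v * a⁻¹ = v * c)
    (h2 : a * c * a⁻¹ = c) (hc : c ^ 2 = 1) (h3 : a ^ m * v * (a ^ m)⁻¹ = v) : c = 1 := by
  have key : ∀ n : ℕ, a ^ n * v * (a ^ n)⁻¹ = v * c ^ n := by
    intro n
    induction n with
    | zero => simp
    | succ n ih =>
      have e : a ^ n * c * (a ^ n)⁻¹ = c := by
        have hcc : Commute (a ^ n) c := (show Commute a c from mul_inv_eq_iff_eq_mul.1 h2).pow_left n
        rw [hcc.eq, mul_inv_cancel_right]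
      calc a ^ (n + 1) * v * (a ^ (n + 1))⁻¹ = a ^ n * (a * v * a⁻¹) * (a ^ n)⁻¹ := by
            rw [pow_succ]; group
        _ = (a ^ n * v * (a ^ n)⁻¹) * (a ^ n * c * (a ^ n)⁻¹) := by rw [h1]; group
        _ = v * c ^ (n + 1) := by rw [ih, e, pow_succ, mul_assoc]
  have h := key m
  rw [h3] at h
  obtain ⟨k, rfl⟩ := hm
  rw [pow_succ, pow_mul, hc, one_pow, one_mul] at h
  exact mul_left_cancel (h.symm.trans (mul_one v).symm)

/-! ### Elementary abelian bounds -/

theorem card_closure_le {G : Type u} [Group G] [Finite G] {r : ℕ} (hr : 0 < r) (s : Finset G)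
    (hc : ∀ a ∈ s, ∀ b ∈ s, a * b = b * a) (hp : ∀ a ∈ s, a ^ r = 1) :
    Nat.card (Subgroup.closure (s : Set G)) ≤ r ^ s.card := by
  classical
  induction s using Finset.induction_on with
  | empty => simp
  | insert a t ha ih =>
    have ih' := ih (fun x hx y hy => hc x (Finset.mem_insert_of_mem hx) y (Finset.mem_insert_of_mem hy))
      (fun x hx => hp x (Finset.mem_insert_of_mem hx))
    rw [Finset.coe_insert, Set.insert_eq, Subgroup.closure_union, ← Subgroup.zpowers_eq_closure,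
      Finset.card_insert_of_notMem ha, pow_succ']
    set A := Subgroup.zpowers a
    set B := Subgroup.closure (t : Set G)
    have hn : A ≤ Subgroup.normalizer (B : Set G) := by
      refine le_trans ?_ (Subgroup.centralizer_le_normalizer _)
      rw [Subgroup.zpowers_le, Subgroup.centralizer_closure, Subgroup.mem_centralizer_iff]
      exact fun b hb => hc b (Finset.mem_insert_of_mem hb) a (Finset.mem_insert_self a t)
    have hcard : Nat.card ↥(A ⊔ B) ≤ Nat.card A * Nat.card B := by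
      rw [← Nat.card_prod]
      refine Nat.card_le_card_of_surjective
        (fun x : A × B => (⟨x.1.1 * x.2.1, mul_mem (Subgroup.mem_sup_left x.1.2) (Subgroup.mem_sup_right x.2.2)⟩ :
          ↥(A ⊔ B))) fun z => ?_
      have hz : (z : G) ∈ ((A ⊔ B : Subgroup G) : Set G) := z.2
      rw [Subgroup.coe_mul_of_left_le_normalizer_right A B hn] at hz
      obtain ⟨x, hx, y, hy, hxy⟩ := hz
      exact ⟨(⟨x, hx⟩, ⟨y, hy⟩), Subtype.ext hxy⟩
    refine hcard.trans (Nat.mul_le_mul ?_ ih')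
    rw [Nat.card_zpowers]
    exact Nat.le_of_dvd hr (orderOf_dvd_of_pow_eq_one (hp a (Finset.mem_insert_self a t)))

/-- Without elementary abelian subgroups of order `r³`, three generators suffice. -/
theorem exists_three_gens {T : Type u} [Group T] [Finite T] {r : ℕ} [Fact r.Prime] (hr2 : r ≠ 2)
    (hT : IsPGroup r T) (hrank : ∀ A : Subgroup T, Cfsg.IsElementaryAbelian r A → Nat.card A ≠ r ^ 3) :
    ∃ s : Finset T, s.card ≤ 3 ∧ Subgroup.closure (s : Set T) = ⊤ := by
  classical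
  have hE : ∀ E : Subgroup T, Cfsg.IsElementaryAbelian r E → Nat.card E ≤ r ^ 2 := fun E hE =>
    S0100.result hr2 hT (fun A _ hA hAe => hrank A ⟨hA, hAe⟩) E hE.1 hE.2
  suffices hab : ∀ A : Subgroup T, A.Normal → IsMulCommutative A →
      ∃ S : Finset T, S.card ≤ 2 ∧ Subgroup.closure (S : Set T) = A by
    obtain ⟨s, hs, hgen⟩ := S4057.result hr2 hT 2 hab ⊤
    exact ⟨s, hs, hgen⟩
  · intro A _ hA
    have hcomm : ∀ a b : A, a * b = b * a := hA.1.comm
    have h2 : Nat.card {x : A // x ^ r = 1} ≤ r ^ 2 := by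
      let E : Subgroup T :=
        { carrier := {x | x ∈ A ∧ x ^ r = 1}
          one_mem' := ⟨A.one_mem, one_pow r⟩
          mul_mem' := fun {a b} ha hb => ⟨A.mul_mem ha.1 hb.1, by
            rw [(show Commute a b from congrArg Subtype.val (hcomm ⟨a, ha.1⟩ ⟨b, hb.1⟩)).mul_pow, ha.2, hb.2, one_mul]⟩
          inv_mem' := fun {a} ha => ⟨A.inv_mem ha.1, by rw [inv_pow, ha.2, inv_one]⟩ }
      have hEe : Cfsg.IsElementaryAbelian r E :=
        ⟨⟨⟨fun a b => Subtype.ext (show (a : T) * b = b * a from congrArg (fun z : A => (z : T)) (hcomm ⟨a.1, a.2.1⟩ ⟨b.1, b.2.1⟩))⟩⟩, fun a ha => ha.2⟩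
      refine le_trans (Nat.card_le_card_of_injective
        (fun x : {x : A // x ^ r = 1} => (⟨x.1.1, x.1.2, congrArg Subtype.val x.2⟩ : E))
        fun x y h => Subtype.ext (Subtype.ext (congrArg (fun e : E => (e : T)) h))) (hE E hEe)
    have hidx : (frattini A).index ≤ r ^ 2 :=
      le_trans (S4057.frattini_index_le hr2 _ A rfl (hT.to_subgroup A) (fun x _ g => hcomm x g)) h2
    obtain ⟨t, ht, hgen⟩ := S4057.exists_gens_mod (hT.to_subgroup A) 2 (frattini A) hidx
    rw [sup_comm] at hgen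
    have htop : Subgroup.closure (t : Set A) = ⊤ := frattini_nongenerating hgen
    refine ⟨t.image Subtype.val, Finset.card_image_le.trans ht, ?_⟩
    rw [Finset.coe_image]
    show Subgroup.closure (A.subtype '' (t : Set A)) = A
    rw [← MonoidHom.map_closure, htop, ← MonoidHom.range_eq_map, A.subtype_range]

theorem card_image_le {G : Type u} [Group G] [Finite G] {r : ℕ} [Fact r.Prime] (hr2 : r ≠ 2)
    (φ : S →* G) (T : Subgroup S) (hT : IsPGroup r T)
    (hrank : ∀ A : Subgroup S, A ≤ T → Cfsg.IsElementaryAbelian r A → Nat.card A ≠ r ^ 3)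
    (hD : Cfsg.IsElementaryAbelian r (T.map φ)) : Nat.card (T.map φ) ≤ r ^ 3 := by
  classical
  obtain ⟨s, hs, hgen⟩ := exists_three_gens hr2 hT (fun A hA => by
    rw [← Subgroup.card_map_of_injective (f := T.subtype) T.subtype_injective]
    refine hrank _ (Subgroup.map_subtype_le A) ⟨⟨⟨fun a b => Subtype.ext ?_⟩⟩, ?_⟩
    · obtain ⟨x, hx, hx'⟩ := a.2
      obtain ⟨y, hy, hy'⟩ := b.2
      show (a : S) * b = b * a
      rw [← hx', ← hy', ← map_mul, ← map_mul, Local.elemAb_commute hA hx hy]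
    · rintro _ ⟨x, hx, rfl⟩
      rw [← map_pow, hA.2 x hx, map_one])
  let t : Finset G := s.image (fun x : T => φ (x : S))
  have hmem : ∀ a ∈ t, a ∈ T.map φ := by
    intro a ha
    obtain ⟨x, -, rfl⟩ := Finset.mem_image.1 ha
    exact Subgroup.mem_map_of_mem φ x.2
  have heq : T.map φ = Subgroup.closure (t : Set G) := by
    rw [Finset.coe_image, show (fun x : T => φ (x : S)) = (φ.comp T.subtype) from rfl,
      ← MonoidHom.map_closure, hgen, ← Subgroup.map_map, ← MonoidHom.range_eq_map, T.subtype_range]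
  rw [heq]
  exact (card_closure_le (Fact.out : r.Prime).pos t (fun a ha b hb => Local.elemAb_commute hD (hmem a ha) (hmem b hb))
    (fun a ha => hD.2 a (hmem a ha))).trans
    (Nat.pow_le_pow_right (Fact.out : r.Prime).pos (Finset.card_image_le.trans hs))

/-- An `r`-subgroup of an image is the image of an `r`-subgroup. -/
theorem exists_lift {G : Type u} [Group G] {r : ℕ} [Fact r.Prime] (φ : S →* G) (H : Subgroup S)
    (D : Subgroup G) (hDH : D ≤ H.map φ) (hD : IsPGroup r D) :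
    ∃ T : Subgroup S, T ≤ H ∧ IsPGroup r T ∧ T.map φ = D := by
  set L := H ⊓ D.comap φ with hL
  let ψ : L →* D := (φ.comp L.subtype).codRestrict D (fun x => (Subgroup.mem_inf.1 x.2).2)
  have hψ : Function.Surjective ψ := by
    rintro ⟨d, hd⟩
    obtain ⟨h, hh, rfl⟩ := Subgroup.mem_map.1 (hDH hd)
    exact ⟨⟨h, Subgroup.mem_inf.2 ⟨hh, hd⟩⟩, rfl⟩
  haveI : Finite D := Finite.of_surjective ψ hψ
  let P : Sylow r L := Classical.arbitrary _
  refine ⟨(P : Subgroup L).map L.subtype, (Subgroup.map_subtype_le _).trans inf_le_left, P.2.map _, ?_⟩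
  have hP : (P : Subgroup L).map ψ = ⊤ := by
    have h1 : ((P.mapSurjective hψ : Sylow r D) : Subgroup D) = ⊤ :=
      ((P.mapSurjective hψ).3 (hD.of_equiv Subgroup.topEquiv.symm) le_top).symm
    exact h1
  rw [Subgroup.map_map, show φ.comp L.subtype = D.subtype.comp ψ from rfl, ← Subgroup.map_map, hP,
    ← MonoidHom.range_eq_map, D.subtype_range]

/-- Subgroups with independent fixed-point-free elements. -/
theorem pow_card_le {G : Type u} [Group G] [Finite G] {α : Type} [DecidableEq α] {r : ℕ}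
    (hr : r.Prime) (D : Subgroup G) (hcomm : ∀ a ∈ D, ∀ b ∈ D, a * b = b * a)
    (Ω : Finset α) (x : α → G) (hx : ∀ Y ∈ Ω, x Y ∈ D) (hxr : ∀ Y ∈ Ω, x Y ^ r = 1)
    (P : α → G → Prop) (hP1 : ∀ Y ∈ Ω, P Y 1) (hPm : ∀ Y ∈ Ω, ∀ a b, P Y a → P Y b → P Y (a * b))
    (hne : ∀ Y ∈ Ω, ∀ n : ℕ, P Y (x Y ^ n) → r ∣ n) (hfix : ∀ Y ∈ Ω, ∀ Z ∈ Ω, Z ≠ Y → P Y (x Z)) :
    r ^ Ω.card ≤ Nat.card D := by
  classical
  induction Ω using Finset.induction_on generalizing D with
  | empty => simp; exact Nat.card_pos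
  | insert Y t hY ih =>
    let D' : Subgroup G := Subgroup.closure (x '' (t : Set α))
    have hD'D : D' ≤ D := (Subgroup.closure_le _).2 (by
      rintro _ ⟨Z, hZ, rfl⟩
      exact hx Z (Finset.mem_insert_of_mem hZ))
    have ih' := ih D' (fun a ha b hb => hcomm a (hD'D ha) b (hD'D hb))
      (fun Z hZ => Subgroup.subset_closure ⟨Z, hZ, rfl⟩) (fun Z hZ => hxr Z (Finset.mem_insert_of_mem hZ))
      (fun Z hZ => hP1 Z (Finset.mem_insert_of_mem hZ)) (fun Z hZ => hPm Z (Finset.mem_insert_of_mem hZ))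
      (fun Z hZ => hne Z (Finset.mem_insert_of_mem hZ))
      (fun A hA B hB => hfix A (Finset.mem_insert_of_mem hA) B (Finset.mem_insert_of_mem hB))
    have hY' := Finset.mem_insert_self Y t
    have hnot : x Y ∉ D' := by
      intro h
      have hP : ∀ a ∈ D', P Y a := by
        intro a ha
        have ha' : a ∈ Submonoid.closure (x '' (t : Set α)) := by
          rw [← Subgroup.closure_toSubmonoid_of_finite]
          exact ha
        clear ha
        induction ha' using Submonoid.closure_induction with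
        | mem z hz =>
          obtain ⟨Z, hZ, rfl⟩ := hz
          exact hfix Y hY' Z (Finset.mem_insert_of_mem hZ) (fun e => hY (e ▸ hZ))
        | one => exact hP1 Y hY'
        | mul a b ha hb iha ihb =>
          exact hPm Y hY' a b iha ihb
      have := hne Y hY' 1 (by rw [pow_one]; exact hP _ h)
      exact hr.ne_one (Nat.dvd_one.1 this)
    have hlt : D' < D := lt_of_le_of_ne hD'D (fun e => hnot (e ▸ hx Y hY'))
    set D'' : Subgroup G := D' ⊔ Subgroup.zpowers (x Y) with hD''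
    have hle : D'' ≤ D := sup_le hD'D (Subgroup.zpowers_le.2 (hx Y hY'))
    have hxo : orderOf (x Y) = r :=
      haveI := Fact.mk hr
      orderOf_eq_prime (hxr Y hY') (fun e => hnot (e ▸ D'.one_mem))
    have hinj : Nat.card (D' × Fin r) ≤ Nat.card D := by
      refine Nat.card_le_card_of_injective (fun z => (⟨z.1.1 * x Y ^ (z.2 : ℕ),
        mul_mem (hD'D z.1.2) (pow_mem (hx Y hY') _)⟩ : D)) fun z z' h => ?_
      have h' : (z.1 : G) * x Y ^ (z.2 : ℕ) = (z'.1 : G) * x Y ^ (z'.2 : ℕ) := congrArg Subtype.val h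
      have key : ∀ i j : ℕ, i ≤ j → j < r → x Y ^ (j - i) ∈ D' → i = j := by
        intro i j hij hj hm
        by_contra hne'
        have hco : (j - i).Coprime (orderOf (x Y)) := by
          rw [hxo]
          exact ((hr.coprime_iff_not_dvd).2 (fun hd => absurd (Nat.le_of_dvd (by omega) hd) (by omega))).symm
        obtain ⟨m, hm'⟩ := exists_pow_eq_self_of_coprime hco
        exact hnot (hm' ▸ pow_mem hm m)
      have hij : (z.2 : ℕ) = (z'.2 : ℕ) := by
        rcases le_total (z.2 : ℕ) (z'.2 : ℕ) with hle' | hle'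
        · refine key _ _ hle' z'.2.2 ?_
          rw [← Nat.sub_add_cancel hle', pow_add, ← mul_assoc] at h'
          have := mul_right_cancel h'
          rw [show x Y ^ ((z'.2 : ℕ) - z.2) = (z'.1 : G)⁻¹ * z.1 by rw [this]; group]
          exact mul_mem (inv_mem z'.1.2) z.1.2
        · refine (key _ _ hle' z.2.2 ?_).symm
          rw [← Nat.sub_add_cancel hle', pow_add, ← mul_assoc] at h'
          have := mul_right_cancel h'
          rw [show x Y ^ ((z.2 : ℕ) - z'.2) = (z.1 : G)⁻¹ * z'.1 by rw [← this]; group]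
          exact mul_mem (inv_mem z.1.2) z'.1.2
      rw [hij] at h'
      exact Prod.ext (Subtype.ext (mul_right_cancel h')) (Fin.ext hij)
    rw [Nat.card_prod, Nat.card_fin] at hinj
    rw [Finset.card_insert_of_notMem hY, pow_succ]
    exact (Nat.mul_le_mul_right r ih').trans hinj

/-- A group whose order divides `45` is commutative. -/
theorem comm_of_dvd {G : Type u} [Group G] [Finite G] (h : Nat.card G ∣ 45) : ∀ a b : G, a * b = b * a := by
  have hn : ∀ (l : ℕ) [Fact l.Prime] (P : Sylow l G), (P : Subgroup G).Normal := by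
    intro l hl P
    have h1 : Nat.card (Sylow l G) = 1 := by
      have hd : Nat.card (Sylow l G) ∣ (P : Subgroup G).index := P.card_dvd_index
      have hm := card_sylow_modEq_one l G
      have hdG : Nat.card (Sylow l G) ∣ 45 := (hd.trans (Subgroup.index_dvd_card _)).trans h
      have hnl : ¬ l ∣ Nat.card (Sylow l G) := fun hh => by
        have h0 := (Nat.modEq_zero_iff_dvd.2 hh).symm.trans hm
        have := Nat.le_of_dvd one_pos (Nat.modEq_zero_iff_dvd.1 h0.symm)
        have := hl.out.two_le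
        omega
      by_cases hl45 : l ∣ 45
      · have : l = 3 ∨ l = 5 := by
          have := Nat.le_of_dvd (by norm_num) hl45
          have := hl.out
          interval_cases l <;> first | omega | norm_num at *
        unfold Nat.ModEq at hm
        have := Nat.le_of_dvd (by norm_num) hdG
        rcases this.eq_or_lt with e | e
        all_goals rcases ‹l = 3 ∨ l = 5› with rfl | rfl
        all_goals (interval_cases Nat.card (Sylow _ G) <;> omega)
      · have hb : (P : Subgroup G) = ⊥ := by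
          obtain ⟨k, hk⟩ := IsPGroup.iff_card.1 P.2
          cases k with
          | zero => exact Subgroup.card_eq_one.1 (by simpa using hk)
          | succ k => exact absurd ((hk ▸ dvd_pow_self l (Nat.succ_ne_zero k)).trans
              ((Subgroup.card_subgroup_dvd_card _).trans h)) hl45
        haveI : Subsingleton (Sylow l G) := ⟨fun A B => by
          have : ∀ A : Sylow l G, (A : Subgroup G) = ⊥ := fun A => Subgroup.card_eq_one.1 (by
            rw [A.card_eq_multiplicity, ← P.card_eq_multiplicity, hb, Subgroup.card_bot])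
          exact Sylow.ext ((this A).trans (this B).symm)⟩
        exact Nat.card_unique
    haveI : Subsingleton (Sylow l G) := (Nat.card_eq_one_iff_unique.1 h1).1
    exact P.normal_of_subsingleton
  have e := (isNilpotent_of_finite_tfae (G := G)).out 3 4
  obtain ⟨φ⟩ := e.1 (fun l hl P => hn l P)
  have hab : ∀ (l : (Nat.card G).primeFactors) (P : Sylow (l : ℕ) G) (a b : (P : Subgroup G)), a * b = b * a := by
    intro l P
    haveI := Fact.mk (Nat.prime_of_mem_primeFactors l.2)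
    obtain ⟨k, hk⟩ := IsPGroup.iff_card.1 P.2
    have hd : (l : ℕ) ^ k ∣ 45 := hk ▸ (Subgroup.card_subgroup_dvd_card _).trans h
    have hk2 : k ≤ 2 := by
      by_contra hc
      have h3 : (l : ℕ) ^ 3 ∣ 45 := (pow_dvd_pow _ (by omega : 3 ≤ k)).trans hd
      have hl := (Nat.prime_of_mem_primeFactors l.2)
      have : (l : ℕ) ≤ 3 := by
        by_contra hl3
        have := Nat.le_of_dvd (by norm_num) h3
        have : 4 ^ 3 ≤ (l : ℕ) ^ 3 := Nat.pow_le_pow_left (by omega) 3
        omega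
      have := hl.two_le
      interval_cases (l : ℕ) <;> norm_num at h3
    interval_cases k
    · intro a b
      haveI : Subsingleton (P : Subgroup G) := (Nat.card_eq_one_iff_unique.1 (by simpa using hk)).1
      exact Subsingleton.elim _ _
    · haveI : IsCyclic (P : Subgroup G) := isCyclic_of_prime_card (by simpa using hk)
      exact fun a b => (IsCyclic.commGroup (α := (P : Subgroup G))).mul_comm a b
    · exact IsPGroup.commutative_of_card_eq_prime_sq hk
  intro a b
  obtain ⟨a', rfl⟩ := φ.surjective a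
  obtain ⟨b', rfl⟩ := φ.surjective b
  rw [← map_mul, ← map_mul]
  exact congrArg φ (funext fun l => funext fun P => hab l P _ _)

/-! ### The configuration -/

/-- `q` acts on the elementary `2`-group `M` with commutator four-group `W`. -/
structure Cfg (M : Subgroup S) (q : S) (W : Subgroup S) : Prop where
  elem : Cfsg.IsElementaryAbelian 2 M
  le : W ≤ M
  card : Nat.card W = 4
  comm : ∀ v ∈ M, ⁅q, v⁆ ∈ W
  cube : q ^ 3 ∈ Subgroup.centralizer (M : Set S)
  fpf : ∀ w ∈ W, q * w * q⁻¹ = w → w = 1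

variable {M : Subgroup S} [hMn : M.Normal] {q : S} {W : Subgroup S}

omit [Finite S] in
theorem sq_one (hM : Cfsg.IsElementaryAbelian 2 M) {v : S} (hv : v ∈ M) : v * v = 1 := by
  rw [← pow_two]; exact hM.2 v hv

omit [Finite S] in
theorem inv_self (hM : Cfsg.IsElementaryAbelian 2 M) {v : S} (hv : v ∈ M) : v⁻¹ = v :=
  inv_eq_of_mul_eq_one_right (sq_one hM hv)

omit [Finite S] in
theorem conj_mem (g : S) {v : S} (hv : v ∈ M) : g * v * g⁻¹ ∈ M := hMn.conj_mem v hv g

omit [Finite S] in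
theorem conj_eq (hM : Cfsg.IsElementaryAbelian 2 M) (g : S) {v : S} (hv : v ∈ M) :
    g * v * g⁻¹ = v * ⁅g, v⁆ := by
  have h1 : ⁅g, v⁆ = g * v * g⁻¹ * v := by rw [commutatorElement_def, inv_self hM hv]
  have hm := conj_mem g hv
  rw [h1]
  generalize g * v * g⁻¹ = A at hm ⊢
  rw [← mul_assoc, Local.elemAb_commute hM hv hm, mul_assoc, sq_one hM hv, mul_one]

omit [Finite S] in
theorem cube_fix (hc : Cfg M q W) {v : S} (hv : v ∈ M) : q * (q * (q * v * q⁻¹) * q⁻¹) * q⁻¹ = v := by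
  have h := Subgroup.mem_centralizer_iff.1 hc.cube v hv
  calc q * (q * (q * v * q⁻¹) * q⁻¹) * q⁻¹ = q ^ 3 * v * (q ^ 3)⁻¹ := by simp [pow_succ, mul_assoc]
    _ = v := by rw [← h, mul_inv_cancel_right]

omit [Finite S] in
theorem W_conj (hc : Cfg M q W) {w : S} (hw : w ∈ W) : q * w * q⁻¹ ∈ W := by
  rw [conj_eq hc.elem q (hc.le hw)]
  exact W.mul_mem hw (hc.comm w (hc.le hw))

/-- A `q`-invariant subgroup containing a non-trivial element of `W` contains `W`. -/
theorem W_le (hc : Cfg M q W) (X : Subgroup S) (hX : ∀ x ∈ X, q * x * q⁻¹ ∈ X) {w : S} (hw : w ∈ W)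
    (hw1 : w ≠ 1) (hwX : w ∈ X) : W ≤ X := by
  have h3 : 3 ≤ Nat.card ↥(W ⊓ X) := by
    classical
    have hw' : q * w * q⁻¹ ≠ w := fun e => hw1 (hc.fpf w hw e)
    have hw1' : q * w * q⁻¹ ≠ 1 := fun e => hw1 (conj_eq_one_iff.1 e)
    have hsub : (({1, w, q * w * q⁻¹} : Finset S) : Set S) ⊆ ((W ⊓ X : Subgroup S) : Set S) := by
      intro y hy
      simp only [Finset.coe_insert, Finset.coe_singleton, Set.mem_insert_iff, Set.mem_singleton_iff] at hy
      rcases hy with rfl | rfl | rfl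
      · exact one_mem _
      · exact Subgroup.mem_inf.2 ⟨hw, hwX⟩
      · exact Subgroup.mem_inf.2 ⟨W_conj hc hw, hX _ hwX⟩
    have h := Set.ncard_le_ncard hsub
    rw [Set.ncard_coe_finset, Finset.card_insert_of_notMem (by simp [Ne.symm hw1, Ne.symm hw1']),
      Finset.card_pair hw'.symm, ← Nat.card_coe_set_eq] at h
    exact h
  have hd : Nat.card ↥(W ⊓ X) ∣ 4 := hc.card ▸ Subgroup.card_dvd_of_le inf_le_left
  have h4 : Nat.card ↥(W ⊓ X) = 4 := by
    have := Nat.le_of_dvd (by norm_num) hd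
    interval_cases (Nat.card ↥(W ⊓ X))
    · norm_num at hd
    · rfl
  exact (Subgroup.eq_of_le_of_card_ge inf_le_left (by rw [h4, hc.card])).ge.trans inf_le_right

/-- The action of `S` on `M`. -/
abbrev act (M : Subgroup S) [M.Normal] : S →* MulAut M := MulAut.conjNormal

omit [Finite S] in
theorem act_coe (g : S) (v : M) : ((act M g v : M) : S) = g * v * g⁻¹ := MulAut.conjNormal_apply g v

omit [Finite S] in
theorem act_one_iff {g : S} : act M g = 1 ↔ ∀ v ∈ M, g * v * g⁻¹ = v := by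
  refine ⟨fun h v hv => ?_, fun h => MulEquiv.ext fun v => Subtype.ext ((act_coe g v).trans (h v v.2))⟩
  rw [← act_coe g ⟨v, hv⟩, h]
  rfl

omit [Finite S] in
theorem act_eq {a b : S} (h : act M a = act M b) {v : S} (hv : v ∈ M) :
    a * v * a⁻¹ = b * v * b⁻¹ := by
  rw [← act_coe a ⟨v, hv⟩, h, act_coe]

omit hMn in
theorem card_sup_le_of {r : ℕ} {A U V : Subgroup S} (hA : Cfsg.IsElementaryAbelian r A) (hU : U ≤ A) (hV : V ≤ A) :
    Nat.card ↥(U ⊔ V) ≤ Nat.card U * Nat.card V := by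
  have hn : U ≤ Subgroup.normalizer (V : Set S) := le_normalizer_of_conj fun a ha v hv => by
    rw [Local.elemAb_commute hA (hU ha) (hV hv), mul_inv_cancel_right]
    exact hv
  rw [← Nat.card_prod]
  refine Nat.card_le_card_of_surjective (fun x : U × V =>
    (⟨x.1.1 * x.2.1, mul_mem (Subgroup.mem_sup_left x.1.2) (Subgroup.mem_sup_right x.2.2)⟩ : ↥(U ⊔ V))) fun z => ?_
  have hz : (z : S) ∈ ((U ⊔ V : Subgroup S) : Set S) := z.2
  rw [Subgroup.coe_mul_of_left_le_normalizer_right U V hn] at hz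
  obtain ⟨x, hx, y, hy, hxy⟩ := hz
  exact ⟨(⟨x, hx⟩, ⟨y, hy⟩), Subtype.ext hxy⟩

omit [hMn : M.Normal] in
theorem exists_pow_card {U : Subgroup S} (hM : Cfsg.IsElementaryAbelian 2 M) (hU : U ≤ M) :
    ∃ n, Nat.card U = 2 ^ n ∧ Nat.card (MulAut U) ∣ ∏ i : Fin n, (2 ^ n - 2 ^ (i : ℕ)) := by
  haveI : Fact (Nat.Prime 2) := ⟨Nat.prime_two⟩
  obtain ⟨n, hn⟩ := Local.elemAb_card_pow (Local.elemAb_mono hM hU)
  exact ⟨n, hn, SSF.card_mulAut_dvd (Local.elemAb_mono hM hU) hn⟩

omit [hMn : M.Normal] in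
theorem aut_bounds {U : Subgroup S} (hM : Cfsg.IsElementaryAbelian 2 M) (hU : U ≤ M) :
    (Nat.card U ≤ 64 → ¬ 7 ^ 3 ∣ Nat.card (MulAut U)) ∧ (Nat.card U ≤ 16 → Nat.card (MulAut U) ∣ 20160) ∧
      (Nat.card U = 8 → Nat.card (MulAut U) ∣ 168) ∧ (Nat.card U = 4 → Nat.card (MulAut U) ∣ 6) := by
  obtain ⟨n, hn, hd⟩ := exists_pow_card hM hU
  refine ⟨fun h => ?_, fun h => ?_, fun h => ?_, fun h => ?_⟩
  · have h6 : n ≤ 6 := (Nat.pow_le_pow_iff_right (by norm_num : 1 < 2)).1 (hn ▸ h : 2 ^ n ≤ 2 ^ 6)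
    intro h7
    have h7' := h7.trans hd
    interval_cases n <;> simp [Fin.prod_univ_succ] at h7' <;> norm_num at h7'
  · have h4 : n ≤ 4 := (Nat.pow_le_pow_iff_right (by norm_num : 1 < 2)).1 (hn ▸ h : 2 ^ n ≤ 2 ^ 4)
    refine hd.trans ?_
    interval_cases n <;> simp [Fin.prod_univ_succ]
  · obtain rfl : n = 3 := Nat.pow_right_injective le_rfl (hn.symm.trans h : 2 ^ n = 2 ^ 3)
    refine hd.trans ?_
    simp [Fin.prod_univ_succ]
  · obtain rfl : n = 2 := Nat.pow_right_injective le_rfl (hn.symm.trans h : 2 ^ n = 2 ^ 2)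
    refine hd.trans ?_
    simp [Fin.prod_univ_succ]

/-- Elements preserving `U` and trivial on `M / U`. -/
def stab (hM : Cfsg.IsElementaryAbelian 2 M) (U : Subgroup S) : Subgroup S :=
  let T : Submonoid S :=
    { carrier := {a | (∀ u ∈ U, a * u * a⁻¹ ∈ U) ∧ ∀ v ∈ M, a * v * a⁻¹ * v ∈ U}
      one_mem' := ⟨fun u hu => by simpa using hu, fun v hv => by
        simp [sq_one hM hv]⟩
      mul_mem' := fun {a b} ha hb => ⟨fun u hu => by
          rw [show a * b * u * (a * b)⁻¹ = a * (b * u * b⁻¹) * a⁻¹ by group]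
          exact ha.1 _ (hb.1 u hu),
        fun v hv => by
          have e : a * b * v * (a * b)⁻¹ * v = (a * (b * v * b⁻¹ * v) * a⁻¹) * (a * v * a⁻¹ * v) := by
            calc a * b * v * (a * b)⁻¹ * v = a * (b * v * b⁻¹) * (v * v) * a⁻¹ * v := by
                  rw [sq_one hM hv]; group
              _ = _ := by group
          rw [e]
          exact mul_mem (ha.1 _ (hb.2 v hv)) (ha.2 v hv)⟩ }
  { T with
    inv_mem' := fun {a} ha => by
      have h := T.pow_mem ha (orderOf a - 1)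
      rwa [pow_sub a (orderOf_pos a), pow_orderOf_eq_one, pow_one, one_mul] at h }

theorem mem_stab {hM : Cfsg.IsElementaryAbelian 2 M} {U : Subgroup S} {a : S} :
    a ∈ stab hM U ↔ (∀ u ∈ U, a * u * a⁻¹ ∈ U) ∧ ∀ v ∈ M, a * v * a⁻¹ * v ∈ U := Iff.rfl

/-- Odd subgroups of the stabiliser act faithfully on `U`. -/
theorem card_act_dvd (hM : Cfsg.IsElementaryAbelian 2 M) {U : Subgroup S} (hU : U ≤ M)
    {A : Subgroup S} (hA : A ≤ stab hM U) (hodd : Odd (Nat.card A)) :
    Nat.card (A.map (act M)) ∣ Nat.card (MulAut U) := by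
  have hn : A ≤ Subgroup.normalizer (U : Set S) := le_normalizer_of_conj fun a ha => (mem_stab.1 (hA ha)).1
  let ψ : A →* MulAut U := U.normalizerMonoidHom.comp (Subgroup.inclusion hn)
  have hψ : ∀ (a : A) (u : U), ((ψ a u : U) : S) = a * u * (a : S)⁻¹ := fun a u => rfl
  have hker : ψ.ker = ((act M).comp A.subtype).ker := by
    ext a
    rw [MonoidHom.mem_ker, MonoidHom.mem_ker]
    show ψ a = 1 ↔ act M (a : S) = 1
    rw [act_one_iff]
    refine ⟨fun h v hv => ?_, fun h => MulEquiv.ext fun u => Subtype.ext ((hψ a u).trans (h u (hU u.2)))⟩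
    have hfix : ∀ u ∈ U, (a : S) * u * (a : S)⁻¹ = u := fun u hu => by
      rw [← hψ a ⟨u, hu⟩, h]; rfl
    have hc : ⁅(a : S), v⁆ ∈ U := by
      rw [commutatorElement_def, inv_self hM hv]
      exact (mem_stab.1 (hA a.2)).2 v hv
    have h1 := conj_eq hM (a : S) hv
    show (a : S) * v * (a : S)⁻¹ = v
    rw [h1, fix_of_odd (m := orderOf (a : S)) ?_ h1 (hfix _ hc) (hM.2 _ (hU hc)) (by rw [pow_orderOf_eq_one]; group),
      mul_one]
    refine Odd.of_dvd_nat hodd ?_
    rw [Subgroup.orderOf_coe]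
    exact orderOf_dvd_natCard a
  have e : A.map (act M) = ((act M).comp A.subtype).range := by
    rw [MonoidHom.range_comp, A.subtype_range]
  rw [e, ← Subgroup.index_ker, ← hker, Subgroup.index_ker]
  exact Subgroup.card_subgroup_dvd_card _

/-- A block: `x` has order `r` on `M`, with commutators in `U`, irreducible on `U`. -/
structure Blk (M : Subgroup S) [M.Normal] (r : ℕ) (x : S) (U : Subgroup S) : Prop where
  elem : Cfsg.IsElementaryAbelian 2 M
  le : U ≤ M
  ne : U ≠ ⊥
  comm : ∀ v ∈ M, ⁅x, v⁆ ∈ U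
  pow : act M x ^ r = 1
  fpf : ∀ w ∈ U, x * w * x⁻¹ = w → w = 1
  irr : ∀ X : Subgroup S, (∀ v ∈ X, x * v * x⁻¹ ∈ X) → ∀ w ∈ U, w ≠ 1 → w ∈ X → U ≤ X

theorem Cfg.blk (hc : Cfg M q W) : Blk M 3 q W where
  elem := hc.elem
  le := hc.le
  ne := fun e => by
    have := hc.card
    rw [e, Subgroup.card_bot] at this
    norm_num at this
  comm := hc.comm
  pow := by
    rw [← map_pow, act_one_iff]
    intro v hv
    rw [← Subgroup.mem_centralizer_iff.1 hc.cube v hv, mul_inv_cancel_right]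
  fpf := hc.fpf
  irr := fun X hX w hw h1 hwX => W_le hc X hX hw h1 hwX

omit [Finite S] hMn in
theorem mem_conj_smul {U : Subgroup S} {g y : S} : y ∈ MulAut.conj g • U ↔ g⁻¹ * y * g ∈ U := by
  rw [Subgroup.mem_pointwise_smul_iff_inv_smul_mem, ← map_inv, MulAut.smul_def, MulAut.conj_apply, inv_inv]

omit [Finite S] in
theorem conj_le_M {U : Subgroup S} (hU : U ≤ M) (g : S) : MulAut.conj g • U ≤ M := fun y hy => by
  have := conj_mem g (hU (mem_conj_smul.1 hy))
  simpa [mul_assoc] using this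

omit [Finite S] in
theorem commutator_conj (g x v : S) : ⁅g * x * g⁻¹, g * v * g⁻¹⁆ = g * ⁅x, v⁆ * g⁻¹ := by
  simp only [commutatorElement_def]; group

theorem Blk.conj {r : ℕ} {x : S} {U : Subgroup S} (hb : Blk M r x U) (g : S) :
    Blk M r (g * x * g⁻¹) (MulAut.conj g • U) where
  elem := hb.elem
  le := conj_le_M hb.le g
  ne := fun e => hb.ne (Subgroup.card_eq_one.1 (by rw [← card_conj U g, e, Subgroup.card_bot]))
  comm := fun v hv => by
    rw [mem_conj_smul, show v = g * (g⁻¹ * v * g) * g⁻¹ by group, commutator_conj]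
    have hv' : g⁻¹ * v * g ∈ M := by simpa using conj_mem g⁻¹ hv
    simpa [mul_assoc] using hb.comm _ hv'
  pow := by rw [map_mul, map_mul, map_inv, conj_pow, hb.pow]; simp
  fpf := fun w hw h => by
    have h' : x * (g⁻¹ * w * g) * x⁻¹ = g⁻¹ * w * g := by
      calc x * (g⁻¹ * w * g) * x⁻¹ = g⁻¹ * (g * x * g⁻¹ * w * (g * x * g⁻¹)⁻¹) * g := by group
        _ = _ := by rw [h]
    have := hb.fpf _ (mem_conj_smul.1 hw) h'
    calc w = g * (g⁻¹ * w * g) * g⁻¹ := by group
      _ = 1 := by rw [this]; group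
  irr := fun X hX w hw h1 hwX => by
    have h := hb.irr (MulAut.conj g⁻¹ • X) (fun v hv => ?_) (g⁻¹ * w * g) (mem_conj_smul.1 hw)
      (fun e => h1 (by rw [show w = g * (g⁻¹ * w * g) * g⁻¹ by group, e]; group))
      (mem_conj_smul.2 (by simpa [mul_assoc] using hwX))
    · intro y hy
      have := mem_conj_smul.1 (h (mem_conj_smul.1 hy))
      simpa [mul_assoc] using this
    · rw [mem_conj_smul] at hv ⊢
      have := hX _ hv
      simpa [mul_assoc] using this

/-- An element commuting with `x` on `M` normalises the block of `x`. -/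
theorem Blk.stable {r : ℕ} {x : S} {U : Subgroup S} (hb : Blk M r x U) {g : S}
    (hg : act M g * act M x = act M x * act M g) : ∀ w ∈ U, g * w * g⁻¹ ∈ U := by
  intro w hw
  have hf : Function.Surjective (fun v : U => (⟨⁅x, (v : S)⁆, hb.comm _ (hb.le v.2)⟩ : U)) := by
    refine Finite.surjective_of_injective fun a b h => ?_
    have h' : ⁅x, (a : S)⁆ = ⁅x, (b : S)⁆ := congrArg Subtype.val h
    have h1 := conj_eq hb.elem x (hb.le a.2)
    have h2 := conj_eq hb.elem x (hb.le b.2)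
    rw [h'] at h1
    have h3 := hb.fpf ((a : S) * (b : S)⁻¹) (U.mul_mem a.2 (U.inv_mem b.2)) (by
      calc x * ((a : S) * (b : S)⁻¹) * x⁻¹ = (x * a * x⁻¹) * (x * b * x⁻¹)⁻¹ := by group
        _ = _ := by rw [h1, h2]; group)
    exact Subtype.ext (mul_inv_eq_one.1 h3)
  obtain ⟨v, hv⟩ := hf ⟨w, hw⟩
  have hw' : ⁅x, (v : S)⁆ = w := congrArg Subtype.val hv
  have hmap : act M (g * x * g⁻¹) = act M x := by
    rw [map_mul, map_mul, map_inv, hg, mul_inv_cancel_right]
  have hv' : g * v * g⁻¹ ∈ M := conj_mem g (hb.le v.2)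
  rw [← hw', ← commutator_conj, commutatorElement_def, act_eq hmap hv', ← commutatorElement_def]
  exact hb.comm _ hv'

set_option maxHeartbeats 1000000 in
/-- If a `p`-element moves a block and all conjugate elements commute, there are many blocks. -/
theorem moved_bound {r p : ℕ} (hr : r.Prime) (hp : p.Prime) {x : S} {U : Subgroup S} (hb : Blk M r x U)
    (L : Subgroup S) (hL : ∀ g ∈ L, ∀ h ∈ L,
      act M (g * x * g⁻¹) * act M (h * x * h⁻¹) = act M (h * x * h⁻¹) * act M (g * x * g⁻¹))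
    {e : S} (heL : e ∈ L) {k : ℕ} (he : orderOf e = p ^ k) (hm : MulAut.conj e • U ≠ U) :
    ∃ D : Subgroup (MulAut M), Cfsg.IsElementaryAbelian r D ∧
      D = Subgroup.closure ((fun g => act M (g * x * g⁻¹)) '' (L : Set S)) ∧ r ^ p ≤ Nat.card D := by
  classical
  set D := Subgroup.closure ((fun g => act M (g * x * g⁻¹)) '' (L : Set S)) with hD
  have hDe : Cfsg.IsElementaryAbelian r D := by
    refine Local.elemAb_closure _ ?_ ?_
    · rintro _ ⟨g, hg, rfl⟩ _ ⟨h, hh, rfl⟩
      exact hL g hg h hh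
    · rintro _ ⟨g, hg, rfl⟩
      exact (hb.conj g).pow
  refine ⟨D, hDe, rfl, ?_⟩
  have hper : p ≤ MulAction.period (MulAut.conj e) U := by
    have hd : MulAction.period (MulAut.conj e) U ∣ p ^ k := by
      rw [← he]
      exact (MulAction.period_dvd_orderOf _ _).trans (orderOf_map_dvd _ e)
    obtain ⟨j, -, hj⟩ := (Nat.dvd_prime_pow hp).1 hd
    cases j with
    | zero => exact absurd (MulAction.period_eq_one_iff.1 (by simpa using hj)) hm
    | succ j => rw [hj]; exact Nat.le_self_pow (Nat.succ_ne_zero j) p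
  have hY : ∀ i j : Fin p, MulAut.conj (e ^ (i : ℕ)) • U = MulAut.conj (e ^ (j : ℕ)) • U → i = j := by
    have key : ∀ i j : ℕ, i ≤ j → j < p → MulAut.conj (e ^ i) • U = MulAut.conj (e ^ j) • U → i = j := by
      intro i j hij hj h
      have h2 : MulAut.conj e ^ (j - i) • U = U := by
        rw [map_pow, map_pow, ← Nat.add_sub_cancel' hij, pow_add, mul_smul] at h
        exact (smul_left_cancel _ h).symm
      have h3 := MulAction.pow_smul_eq_iff_period_dvd.1 h2
      by_contra hne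
      have := Nat.le_of_dvd (by omega) h3
      omega
    intro i j h
    rcases le_total (i : ℕ) (j : ℕ) with hl | hl
    · exact Fin.ext (key _ _ hl j.2 h)
    · exact Fin.ext (key _ _ hl i.2 h.symm).symm
  have hcard : (Finset.univ : Finset (Fin p)).card = p := by simp
  conv_lhs => rw [← hcard]
  refine pow_card_le hr D (fun a ha b hb => Local.elemAb_commute hDe ha hb) Finset.univ
    (fun i : Fin p => act M (e ^ (i : ℕ) * x * (e ^ (i : ℕ))⁻¹))
    (fun i _ => Subgroup.subset_closure ⟨_, pow_mem heL _, rfl⟩) (fun i _ => (hb.conj _).pow)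
    (fun i a => ∀ y : M, (y : S) ∈ MulAut.conj (e ^ (i : ℕ)) • U → a y = y)
    (fun i _ y _ => rfl) (fun i _ a b ha hb' y hy => by rw [MulAut.mul_apply, hb' y hy, ha y hy]) ?_ ?_
  · intro i _ n hn
    obtain ⟨w, hw, hw1⟩ : ∃ w ∈ MulAut.conj (e ^ (i : ℕ)) • U, w ≠ 1 := by
      by_contra hc
      push Not at hc
      exact (hb.conj (e ^ (i : ℕ))).ne (Subgroup.eq_bot_iff_forall _ |>.2 hc)
    by_contra hrn
    set a := act M (e ^ (i : ℕ) * x * (e ^ (i : ℕ))⁻¹) with ha
    have hbi := hb.conj (e ^ (i : ℕ))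
    have hco : n.Coprime (orderOf a) := (Nat.Coprime.coprime_dvd_left (orderOf_dvd_of_pow_eq_one hbi.pow)
      ((hr.coprime_iff_not_dvd).2 hrn)).symm
    obtain ⟨m, hm'⟩ := exists_pow_eq_self_of_coprime hco
    have hP : ∀ t : ℕ, ((a ^ n) ^ t) ⟨w, hbi.le hw⟩ = ⟨w, hbi.le hw⟩ := by
      intro t
      induction t with
      | zero => rfl
      | succ t iht => rw [pow_succ, MulAut.mul_apply, hn _ hw, iht]
    refine hw1 (hbi.fpf w hw ?_)
    have := congrArg Subtype.val (hP m)
    rw [hm', ha, act_coe] at this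
    exact this
  · intro i _ j _ hne y hy
    set xi := e ^ (i : ℕ) * x * (e ^ (i : ℕ))⁻¹
    set xj := e ^ (j : ℕ) * x * (e ^ (j : ℕ))⁻¹
    have hij := hL _ (pow_mem heL i) _ (pow_mem heL j)
    have hbi := hb.conj (e ^ (i : ℕ))
    have hbj := hb.conj (e ^ (j : ℕ))
    by_contra hne'
    have hc1 : ⁅xj, (y : S)⁆ ≠ 1 := by
      intro h
      apply hne'
      apply Subtype.ext
      show ((act M xj y : M) : S) = y
      rw [act_coe, conj_eq hb.elem xj y.2, h, mul_one]
    have hci : ⁅xj, (y : S)⁆ ∈ MulAut.conj (e ^ (i : ℕ)) • U := by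
      rw [commutatorElement_def, inv_self hb.elem y.2]
      exact mul_mem (hbi.stable hij.symm _ hy) hy
    have hle : MulAut.conj (e ^ (i : ℕ)) • U ≤ MulAut.conj (e ^ (i : ℕ)) • U ⊓ MulAut.conj (e ^ (j : ℕ)) • U := by
      refine hbi.irr _ (conj_inf_mem (fun v hv => ?_) (hbj.stable hij)) _ hci hc1
        (Subgroup.mem_inf.2 ⟨hci, hbj.comm _ y.2⟩)
      rw [conj_eq hb.elem xi (hbi.le hv)]
      exact mul_mem hv (hbi.comm _ (hbi.le hv))
    exact hne (hY j i (Subgroup.eq_of_le_of_card_ge (hle.trans inf_le_right) (by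
      rw [card_conj, card_conj])).symm)

/-- The conclusion for a subgroup `W`. -/
def Good (W : Subgroup S) : Prop :=
  ∃ (r : ℕ) (F : Subgroup S), r.Prime ∧ r ≠ 2 ∧ Cfsg.IsElementaryAbelian r F ∧ Nat.card ↥F = r ^ 3 ∧
    ¬ IsCyclic ↥(F ⊓ Subgroup.centralizer (W : Set S))

omit hMn in
/-- Enough to find a large subgroup of an elementary abelian group centralising `W`. -/
theorem good_of {r : ℕ} (hr : r.Prime) (hr2 : r ≠ 2) (g : S) {W W' : Subgroup S}
    (hW : MulAut.conj g • W ≤ W') {F Y : Subgroup S} (hF : Cfsg.IsElementaryAbelian r F) (hYF : Y ≤ F)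
    (hY : r ^ 2 ≤ Nat.card Y) (hF3 : r ^ 3 ≤ Nat.card F) (hYW : ∀ y ∈ Y, ∀ w ∈ W', y * w = w * y) :
    Good W := by
  haveI := Fact.mk hr
  obtain ⟨a, ha⟩ := Local.elemAb_card_pow (Local.elemAb_mono hF hYF)
  obtain ⟨b, hb⟩ := Local.elemAb_card_pow hF
  have ha2 : 2 ≤ a := (Nat.pow_le_pow_iff_right hr.one_lt).1 (ha ▸ hY)
  have hb3 : 3 ≤ b := (Nat.pow_le_pow_iff_right hr.one_lt).1 (hb ▸ hF3)
  obtain ⟨Y2, hY2, -⟩ := Sylow.exists_subgroup_card_pow_prime_le (G := Y) r (n := 0) (m := 2)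
    (ha ▸ pow_dvd_pow r ha2) ⊥ (by simp) (Nat.zero_le _)
  set Y2' : Subgroup F := (Y2.map Y.subtype).subgroupOf F
  have hY2le : Y2.map Y.subtype ≤ Y := Subgroup.map_subtype_le _
  have hY2c : Nat.card Y2' = r ^ 2 := by
    rw [Nat.card_congr (Subgroup.subgroupOfEquivOfLe (hY2le.trans hYF)).toEquiv,
      Subgroup.card_map_of_injective Y.subtype_injective, hY2]
  obtain ⟨F3, hF3c, hle⟩ := Sylow.exists_subgroup_card_pow_prime_le (G := F) r (n := 2) (m := 3)
    (hb ▸ pow_dvd_pow r hb3) Y2' hY2c (by norm_num)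
  set F' := MulAut.conj g⁻¹ • F3.map F.subtype
  have hF3e := Local.elemAb_mono hF (Subgroup.map_subtype_le F3)
  refine ⟨r, F', hr, hr2, elem_conj hF3e g⁻¹, ?_, fun hcyc => ?_⟩
  · rw [card_conj, Subgroup.card_map_of_injective F.subtype_injective, hF3c]
  · have hle' : MulAut.conj g⁻¹ • (Y2.map Y.subtype) ≤ F' ⊓ Subgroup.centralizer (W : Set S) := by
      intro y hy
      have hy' := mem_conj_smul.1 hy
      refine Subgroup.mem_inf.2 ⟨mem_conj_smul.2 ?_, Subgroup.mem_centralizer_iff.2 fun w hw => ?_⟩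
      · exact ⟨⟨_, hYF (hY2le hy')⟩, hle (Subgroup.mem_subgroupOf.2 hy'), rfl⟩
      · have hc := hYW _ (hY2le hy') _ (hW (Subgroup.smul_mem_pointwise_smul w (MulAut.conj g) W hw))
        rw [MulAut.smul_def, MulAut.conj_apply, inv_inv] at hc
        calc w * y = g⁻¹ * ((g * w * g⁻¹) * (g * y * g⁻¹)) * g := by group
          _ = g⁻¹ * ((g * y * g⁻¹) * (g * w * g⁻¹)) * g := by rw [hc]
          _ = y * w := by group
    have hc2 : Nat.card ↥(MulAut.conj g⁻¹ • (Y2.map Y.subtype)) = r ^ 2 := by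
      rw [card_conj, Subgroup.card_map_of_injective Y.subtype_injective, hY2]
    obtain ⟨c, hc⟩ := hcyc.exists_generator
    have hcr : (c : S) ^ r = 1 := (elem_conj hF3e g⁻¹).2 _ (Subgroup.mem_inf.1 c.2).1
    have hcard : Nat.card ↥(F' ⊓ Subgroup.centralizer (W : Set S)) ≤ r := by
      rw [← orderOf_eq_card_of_forall_mem_zpowers hc, ← Subgroup.orderOf_coe]
      exact Nat.le_of_dvd hr.pos (orderOf_dvd_of_pow_eq_one hcr)
    have h2 := hc2 ▸ (Subgroup.card_le_of_le hle').trans hcard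
    exact absurd h2 (not_le.2 (by rw [pow_two]; exact lt_mul_self hr.one_lt))

/-- An elementary abelian group normalising a small `U` centralises it with small index. -/
theorem good_of_normalize {r : ℕ} (hr : r.Prime) (hr2 : r ≠ 2) (g : S) {W U : Subgroup S}
    (hW : MulAut.conj g • W ≤ U) {E : Subgroup S} (hE : Cfsg.IsElementaryAbelian r E)
    (hE3 : r ^ 3 ≤ Nat.card E) (hn : ∀ e ∈ E, ∀ w ∈ U, e * w * e⁻¹ ∈ U)
    (haut : ¬ r ^ 2 ∣ Nat.card (MulAut U)) : Good W := by
  haveI := Fact.mk hr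
  have hn' : E ≤ Subgroup.normalizer (U : Set S) := le_normalizer_of_conj hn
  let ψ : E →* MulAut U := U.normalizerMonoidHom.comp (Subgroup.inclusion hn')
  have hψ : ∀ (a : E) (u : U), ((ψ a u : U) : S) = a * u * (a : S)⁻¹ := fun a u => rfl
  obtain ⟨b, hb⟩ := Local.elemAb_card_pow hE
  have hb3 : 3 ≤ b := (Nat.pow_le_pow_iff_right hr.one_lt).1 (hb ▸ hE3)
  refine good_of hr hr2 g hW (Y := ψ.ker.map E.subtype) hE (Subgroup.map_subtype_le _) ?_ hE3 ?_
  · rw [Subgroup.card_map_of_injective E.subtype_injective]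
    have h := ψ.ker.card_mul_index
    rw [Subgroup.index_ker, hb] at h
    obtain ⟨i, hi⟩ : ∃ i, Nat.card ψ.range = r ^ i := by
      obtain ⟨i, -, hi⟩ := (Nat.dvd_prime_pow hr).1 (⟨_, (mul_comm _ _).trans h |>.symm⟩ : Nat.card ψ.range ∣ r ^ b)
      exact ⟨i, hi⟩
    have hi1 : i ≤ 1 := by
      by_contra hc
      exact haut (((pow_dvd_pow r (by omega : 2 ≤ i)).trans (dvd_of_eq hi.symm)).trans (Subgroup.card_subgroup_dvd_card _))
    by_contra hlt
    push Not at hlt
    have h1 : r ^ 3 ≤ Nat.card ψ.ker * r ^ i := by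
      rw [← hi, h]; exact Nat.pow_le_pow_right hr.pos hb3
    have h2 : r ^ i ≤ r := by
      conv_rhs => rw [← pow_one r]
      exact Nat.pow_le_pow_right hr.pos hi1
    have h3 : Nat.card ψ.ker * r ^ i < r ^ 2 * r :=
      lt_of_le_of_lt (Nat.mul_le_mul_left _ h2) (Nat.mul_lt_mul_of_pos_right hlt hr.pos)
    rw [← pow_succ] at h3
    norm_num at h3 h1
    omega
  · rintro _ ⟨y, hy, rfl⟩ w hw
    have := hψ y ⟨w, hw⟩
    rw [MonoidHom.mem_ker.1 hy] at this
    exact mul_inv_eq_iff_eq_mul.1 this.symm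

set_option maxHeartbeats 1000000 in
/-- If `q` normalises `F`, a large subgroup of `F` centralises `W`. -/
theorem good_of_normal (hc : Cfg M q W) {r : ℕ} (hr : r.Prime) (hr2 : r ≠ 2) {F : Subgroup S}
    (hF : Cfsg.IsElementaryAbelian r F) (hF3 : r ^ 3 ≤ Nat.card F)
    (hqF : ∀ f ∈ F, q * f * q⁻¹ ∈ F) : Good W := by
  haveI := Fact.mk hr
  haveI : Fact (Nat.Prime 2) := ⟨Nat.prime_two⟩
  have hodd : ∀ f ∈ F, Odd (orderOf f) := fun f hf =>
    Odd.of_dvd_nat (hr.odd_of_ne_two hr2) (orderOf_dvd_of_pow_eq_one (hF.2 f hf))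
  have hFM : F ≤ Subgroup.normalizer (M : Set S) := le_normalizer_of_conj fun a _ v hv => conj_mem a hv
  have hco : (Nat.card F).Coprime (Nat.card M) := by
    obtain ⟨a, ha⟩ := Local.elemAb_card_pow hF
    obtain ⟨b, hb⟩ := Local.elemAb_card_pow hc.elem
    rw [ha, hb]
    exact Nat.Coprime.pow a b ((Nat.coprime_primes hr Nat.prime_two).2 hr2)
  obtain ⟨B, hB, v, hv, hvB, hv1⟩ : ∃ B ∈ Solv.CycQuot F, ∃ v ∈ M, v ∈ Subgroup.centralizer (B : Set S) ∧ ⁅q, v⁆ ≠ 1 := by
    by_contra hcon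
    push Not at hcon
    have hle : M ≤ Subgroup.centralizer ({q} : Set S) := by
      rw [← Solv.gen_eq F M hF.1 hFM hco]
      refine iSup₂_le fun B hB v hv => ?_
      rw [Subgroup.mem_centralizer_singleton_iff]
      exact (commutatorElement_eq_one_iff_mul_comm.1 (hcon B hB v (Subgroup.mem_inf.1 hv).1 (Subgroup.mem_inf.1 hv).2)).symm
    obtain ⟨w, hw, hw1⟩ : ∃ w ∈ W, w ≠ 1 := by
      by_contra hcon'
      push Not at hcon'
      exact hc.blk.ne (Subgroup.eq_bot_iff_forall _ |>.2 hcon')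
    refine hw1 (hc.fpf w hw ?_)
    rw [← Subgroup.mem_centralizer_singleton_iff.1 (hle (hc.le hw)), mul_inv_cancel_right]
  obtain ⟨hBF, a, haF, hBa⟩ := hB
  have hBcard : r ^ 2 ≤ Nat.card B := by
    have h : Nat.card ↥(B ⊔ Subgroup.zpowers a) ≤ Nat.card B * r :=
      (card_sup_le_of hF hBF (Subgroup.zpowers_le.2 haF)).trans (Nat.mul_le_mul_left _ (by
        rw [Nat.card_zpowers]; exact Nat.le_of_dvd hr.pos (orderOf_dvd_of_pow_eq_one (hF.2 a haF))))
    rw [hBa] at h
    exact Nat.le_of_mul_le_mul_right (((pow_succ r 2).symm.le.trans hF3).trans h) hr.pos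
  have done : ∀ Y : Subgroup S, Y ≤ F → r ^ 2 ≤ Nat.card Y → (∀ y ∈ Y, y * v = v * y) →
      (∀ y ∈ Y, q * y * q⁻¹ ∈ Y) → Good W := by
    intro Y hY hYc hYv hqY
    refine good_of hr hr2 1 (W' := W) (by simp) hF hY hYc hF3 ?_
    have hX : W ≤ M ⊓ Subgroup.centralizer (Y : Set S) := by
      have hqi : ∀ x ∈ M ⊓ Subgroup.centralizer (Y : Set S), q * x * q⁻¹ ∈ M ⊓ Subgroup.centralizer (Y : Set S) := by
        intro x hx
        refine Subgroup.mem_inf.2 ⟨conj_mem q (Subgroup.mem_inf.1 hx).1, Subgroup.mem_centralizer_iff.2 fun y hy => ?_⟩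
        have hqn : q⁻¹ ∈ Subgroup.normalizer (Y : Set S) :=
          inv_mem (le_normalizer_of_conj (A := Subgroup.zpowers q) (fun b hb y hy => ?_) (Subgroup.mem_zpowers q))
        · have hy' := (Subgroup.mem_normalizer_iff.1 hqn y).1 hy
          rw [inv_inv] at hy'
          have h := Subgroup.mem_centralizer_iff.1 (Subgroup.mem_inf.1 hx).2 _ hy'
          calc y * (q * x * q⁻¹) = q * ((q⁻¹ * y * q) * x) * q⁻¹ := by group
            _ = q * (x * (q⁻¹ * y * q)) * q⁻¹ := by rw [h]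
            _ = q * x * q⁻¹ * y := by group
        · have hb' : b ∈ Submonoid.powers q := (mem_powers_iff_mem_zpowers).2 hb
          obtain ⟨n, rfl⟩ := hb'
          clear hb
          induction n with
          | zero => simpa using hy
          | succ n ih =>
            have := hqY _ ih
            rwa [show q * (q ^ n * y * (q ^ n)⁻¹) * q⁻¹ = q ^ (n + 1) * y * (q ^ (n + 1))⁻¹ by
              rw [pow_succ']; group] at this
      have hvX : v ∈ M ⊓ Subgroup.centralizer (Y : Set S) :=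
        Subgroup.mem_inf.2 ⟨hv, Subgroup.mem_centralizer_iff.2 fun y hy => hYv y hy⟩
      exact W_le hc _ hqi (hc.comm v hv) hv1 (by
        rw [commutatorElement_def]; exact mul_mem (hqi v hvX) (inv_mem hvX))
    exact fun y hy w hw => Subgroup.mem_centralizer_iff.1 (Subgroup.mem_inf.1 (hX hw)).2 y hy
  have hBv : ∀ b ∈ B, b * v = v * b := fun b hb => Subgroup.mem_centralizer_iff.1 hvB b hb
  by_cases hvF : ∀ f ∈ F, f * v = v * f
  · exact done F le_rfl (le_trans (Nat.pow_le_pow_right hr.pos (by norm_num)) hF3) hvF hqF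
  have hnf : ∀ x ∈ M, ∀ (f : S), f ∈ F → ∀ d : S, f * x * f⁻¹ = x * d → (∀ g ∈ F, g * d = d * g) → d ∈ M → d = 1 :=
    fun x hx f hf d h hd hdM => fix_of_odd (hodd f hf) h
      (by rw [hd f hf, mul_inv_cancel_right]) (hc.elem.2 d hdM) (by simp [pow_orderOf_eq_one])
  -- conjugate hyperplanes
  set B' := MulAut.conj q • B with hB'
  set B'' := MulAut.conj q • B' with hB''
  have hB'F : B' ≤ F := by
    intro y hy
    have := hqF _ (hBF (mem_conj_smul.1 hy))
    simpa [mul_assoc] using this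
  have hB''F : B'' ≤ F := by
    intro y hy
    have := hqF _ (hB'F (mem_conj_smul.1 hy))
    simpa [mul_assoc] using this
  have hfix : ∀ (C D : Subgroup S), C ≤ F → D ≤ F → Nat.card C = Nat.card B → Nat.card D = Nat.card B → C ≠ D →
      ∀ x : S, (∀ y ∈ C, y * x = x * y) → (∀ y ∈ D, y * x = x * y) → ∀ f ∈ F, f * x = x * f := by
    intro C D hC hD hCc hDc hne x hxC hxD
    have htop : C ⊔ D = F := by
      refine Subgroup.eq_of_le_of_card_ge (sup_le hC hD) ?_
      have hlt : C < C ⊔ D := lt_of_le_of_ne le_sup_left fun e =>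
        hne (Subgroup.eq_of_le_of_card_ge (e ▸ le_sup_right : D ≤ C) (by rw [hCc, hDc])).symm
      obtain ⟨i, hi⟩ := Local.elemAb_card_pow (Local.elemAb_mono hF hBF)
      obtain ⟨j, hj⟩ := Local.elemAb_card_pow (Local.elemAb_mono hF (sup_le hC hD))
      have hFB : Nat.card F ≤ Nat.card B * r := by
        rw [← hBa]
        have h : Nat.card ↥(B ⊔ Subgroup.zpowers a) ≤ Nat.card B * Nat.card (Subgroup.zpowers a) := by
          exact card_sup_le_of hF hBF (Subgroup.zpowers_le.2 haF)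
        refine h.trans (Nat.mul_le_mul_left _ ?_)
        rw [Nat.card_zpowers]; exact Nat.le_of_dvd hr.pos (orderOf_dvd_of_pow_eq_one (hF.2 a haF))
      have h1 : Nat.card C < Nat.card ↥(C ⊔ D) := Set.Finite.card_lt_card (Set.toFinite _) hlt
      rw [hCc, hi, hj] at h1
      rw [hi] at hFB
      rw [hj]
      refine hFB.trans ?_
      rw [← pow_succ]
      exact Nat.pow_le_pow_right hr.pos ((Nat.pow_lt_pow_iff_right hr.one_lt).1 h1)
    have hle : F ≤ Subgroup.centralizer ({x} : Set S) := htop ▸ sup_le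
      (fun y hy => Subgroup.mem_centralizer_singleton_iff.2 (hxC y hy))
      (fun y hy => Subgroup.mem_centralizer_singleton_iff.2 (hxD y hy))
    exact fun f hf => Subgroup.mem_centralizer_singleton_iff.1 (hle hf)
  have hcB' : Nat.card B' = Nat.card B := card_conj B q
  have hcB'' : Nat.card B'' = Nat.card B := (card_conj B' q).trans hcB'
  have move : ∀ (C : Subgroup S) (x : S), (∀ y ∈ C, y * x = x * y) →
      ∀ y ∈ MulAut.conj q • C, y * (q * x * q⁻¹) = q * x * q⁻¹ * y := by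
    intro C x hx y hy
    have h := hx _ (mem_conj_smul.1 hy)
    calc y * (q * x * q⁻¹) = q * ((q⁻¹ * y * q) * x) * q⁻¹ := by group
      _ = q * (x * (q⁻¹ * y * q)) * q⁻¹ := by rw [h]
      _ = q * x * q⁻¹ * y := by group
  by_cases hBB' : B' = B
  · refine done B hBF hBcard hBv fun y hy => ?_
    rw [← hBB']
    exact mem_conj_smul.2 (by simpa [mul_assoc] using hy)
  have hq3B : MulAut.conj q • B'' = B := by
    by_contra hne
    refine hvF (hfix _ B (fun y hy => ?_) hBF ((card_conj B'' q).trans hcB'') rfl hne v (fun y hy => ?_) hBv)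
    · have := hqF _ (hB''F (mem_conj_smul.1 hy))
      simpa [mul_assoc] using this
    · have := move B'' _ (move B' _ (move B v hBv)) y hy
      rwa [cube_fix hc hv] at this
  have hne2 : B'' ≠ B := by
    intro e
    apply hBB'
    calc B' = MulAut.conj q • B'' := by rw [e]
      _ = B := hq3B
  have hne3 : B'' ≠ B' := fun e => hBB' (smul_left_cancel (MulAut.conj q) e)
  have hf0 : ∃ f ∈ F, f * v ≠ v * f := by
    push Not at hvF; exact hvF
  obtain ⟨f₀, hf₀, hf₀v⟩ := hf0
  have hadd : ∀ x ∈ M, ∀ y ∈ M, ⁅q, x⁆ * ⁅q, y⁆ = ⁅q, x * y⁆ := by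
    intro x hx y hy
    have h1 := hc.le (hc.comm x hx)
    have h2 := hc.le (hc.comm y hy)
    have hxy := conj_eq hc.elem q (mul_mem hx hy)
    rw [show q * (x * y) * q⁻¹ = (q * x * q⁻¹) * (q * y * q⁻¹) by group, conj_eq hc.elem q hx,
      conj_eq hc.elem q hy] at hxy
    refine mul_left_cancel (a := x * y) ?_
    rw [← hxy]
    calc x * y * (⁅q, x⁆ * ⁅q, y⁆) = x * (y * ⁅q, x⁆) * ⁅q, y⁆ := by group
      _ = x * (⁅q, x⁆ * y) * ⁅q, y⁆ := by rw [Local.elemAb_commute hc.elem hy h1]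
      _ = _ := by group
  set N := M ⊓ Subgroup.centralizer (B : Set S)
  have hNmem : v ∈ N := Subgroup.mem_inf.2 ⟨hv, hvB⟩
  have hv2 : f₀ * v * f₀⁻¹ ∈ N := by
    refine Subgroup.mem_inf.2 ⟨conj_mem f₀ hv, Subgroup.mem_centralizer_iff.2 fun b hb => ?_⟩
    calc b * (f₀ * v * f₀⁻¹) = f₀ * (b * v) * f₀⁻¹ := by
          rw [← mul_assoc, ← mul_assoc, Local.elemAb_commute hF (hBF hb) hf₀]; group
      _ = f₀ * (v * b) * f₀⁻¹ := by rw [hBv b hb]
      _ = f₀ * v * (b * f₀⁻¹) := by group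
      _ = f₀ * v * (f₀⁻¹ * b) := by rw [Local.elemAb_commute hF (hBF hb) (inv_mem hf₀)]
      _ = f₀ * v * f₀⁻¹ * b := by group
  let I : Subgroup S :=
    { carrier := {w | ∃ x ∈ N, ⁅q, x⁆ = w}
      one_mem' := ⟨1, one_mem _, commutatorElement_one_right q⟩
      mul_mem' := fun {a b} ha hb => by
        obtain ⟨x, hx, rfl⟩ := ha
        obtain ⟨y, hy, rfl⟩ := hb
        exact ⟨x * y, mul_mem hx hy, (hadd x (Subgroup.mem_inf.1 hx).1 y (Subgroup.mem_inf.1 hy).1).symm⟩
      inv_mem' := fun {a} ha => by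
        obtain ⟨x, hx, rfl⟩ := ha
        exact ⟨x, hx, (inv_self hc.elem (hc.le (hc.comm x (Subgroup.mem_inf.1 hx).1))).symm⟩ }
  have hIW : I ≤ W := by rintro _ ⟨x, hx, rfl⟩; exact hc.comm x (Subgroup.mem_inf.1 hx).1
  have hI : I = W := by
    refine Subgroup.eq_of_le_of_card_ge hIW ?_
    have hd : Nat.card I ∣ 4 := hc.card ▸ Subgroup.card_dvd_of_le hIW
    have h3 : 3 ≤ Nat.card I := by
      classical
      have hne : ⁅q, v⁆ ≠ ⁅q, f₀ * v * f₀⁻¹⁆ := by
        intro e
        set d := v * (f₀ * v * f₀⁻¹) with hd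
        have hdN : d ∈ N := mul_mem hNmem hv2
        have hdM := (Subgroup.mem_inf.1 hdN).1
        have hq : ⁅q, d⁆ = 1 := by
          rw [hd, ← hadd v hv _ (Subgroup.mem_inf.1 hv2).1, ← e]
          exact sq_one hc.elem (hc.le (hc.comm v hv))
        have hdB : ∀ b ∈ B, b * d = d * b := fun b hb => Subgroup.mem_centralizer_iff.1 (Subgroup.mem_inf.1 hdN).2 b hb
        have hdF : ∀ f ∈ F, f * d = d * f := by
          refine hfix B B' hBF hB'F rfl hcB' (Ne.symm hBB') d hdB fun y hy => ?_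
          have := move B d hdB y hy
          rwa [conj_eq hc.elem q hdM, hq, mul_one] at this
        have he : f₀ * v * f₀⁻¹ = v * d := by rw [hd, ← mul_assoc, sq_one hc.elem hv, one_mul]
        rw [hnf v hv f₀ hf₀ d he hdF hdM, mul_one] at he
        exact hf₀v (mul_inv_eq_iff_eq_mul.1 he)
      have hsub : (({1, ⁅q, v⁆, ⁅q, f₀ * v * f₀⁻¹⁆} : Finset S) : Set S) ⊆ (I : Set S) := by
        intro y hy
        simp only [Finset.coe_insert, Finset.coe_singleton, Set.mem_insert_iff, Set.mem_singleton_iff] at hy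
        rcases hy with rfl | rfl | rfl
        · exact one_mem _
        · exact ⟨v, hNmem, rfl⟩
        · exact ⟨_, hv2, rfl⟩
      have hv21 : ⁅q, f₀ * v * f₀⁻¹⁆ ≠ 1 := by
        intro e
        have hdM := (Subgroup.mem_inf.1 hv2).1
        have hdB : ∀ b ∈ B, b * (f₀ * v * f₀⁻¹) = (f₀ * v * f₀⁻¹) * b := fun b hb =>
          Subgroup.mem_centralizer_iff.1 (Subgroup.mem_inf.1 hv2).2 b hb
        have hdF : ∀ f ∈ F, f * (f₀ * v * f₀⁻¹) = (f₀ * v * f₀⁻¹) * f := by
          refine hfix B B' hBF hB'F rfl hcB' (Ne.symm hBB') _ hdB fun y hy => ?_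
          have := move B _ hdB y hy
          rwa [conj_eq hc.elem q hdM, e, mul_one] at this
        have := hdF f₀ hf₀
        apply hf₀v
        have : f₀ * v * f₀⁻¹ = v := by
          exact mul_left_cancel (a := f₀) (this.trans (by group))
        exact mul_inv_eq_iff_eq_mul.1 this
      have h := Set.ncard_le_ncard hsub
      rw [Set.ncard_coe_finset, Finset.card_insert_of_notMem (by simp [Ne.symm hv1, Ne.symm hv21]),
        Finset.card_pair hne, ← Nat.card_coe_set_eq] at h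
      exact h
    have := Nat.le_of_dvd (by norm_num) hd
    rw [hc.card]
    interval_cases (Nat.card I)
    · norm_num at hd
    · exact le_rfl
  -- the commutator lies in two other hyperplane centralisers
  have hwI : q⁻¹ * ⁅q, v⁆ * q ∈ I := by
    rw [hI]
    have h3 := cube_fix hc (hc.le (hc.comm v hv))
    have h' : q⁻¹ * ⁅q, v⁆ * q = q * (q * ⁅q, v⁆ * q⁻¹) * q⁻¹ := by
      conv_lhs => rw [← h3]
      group
    rw [h']
    exact W_conj hc (W_conj hc (hc.comm v hv))
  obtain ⟨x, hxN, hx⟩ := hwI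
  have hxM := (Subgroup.mem_inf.1 hxN).1
  have hxB : ∀ b ∈ B, b * x = x * b := fun b hb => Subgroup.mem_centralizer_iff.1 (Subgroup.mem_inf.1 hxN).2 b hb
  set v' := q * v * q⁻¹ with hv'
  set x' := q * x * q⁻¹ with hx'
  set x'' := q * x' * q⁻¹ with hx''
  have hv'M : v' ∈ M := conj_mem q hv
  have hx'M : x' ∈ M := conj_mem q hxM
  have hx''M : x'' ∈ M := conj_mem q hx'M
  have hveq : v = (v' * x') * x'' := by
    have h1 : ⁅q, v⁆ = q * ⁅q, x⁆ * q⁻¹ := by rw [hx]; group
    have e1 : ⁅q, v⁆ = v' * v := by rw [commutatorElement_def, inv_self hc.elem hv]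
    have e2 : q * ⁅q, x⁆ * q⁻¹ = x'' * x' := by
      rw [commutatorElement_def, inv_self hc.elem hxM, hx'', hx']; group
    rw [e1, e2, Local.elemAb_commute hc.elem hx''M hx'M] at h1
    calc v = v' * (v' * v) := by rw [← mul_assoc, sq_one hc.elem hv'M, one_mul]
      _ = _ := by rw [h1]; exact (mul_assoc _ _ _).symm
  have hvB' : ∀ y ∈ B', y * v = v * y := by
    intro f hf
    have hfF := hB'F hf
    have hv'f : f * v' * f⁻¹ = v' := by rw [move B v hBv f hf, mul_inv_cancel_right]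
    have hx'f : f * x' * f⁻¹ = x' := by rw [move B x hxB f hf, mul_inv_cancel_right]
    set d := x'' * (f * x'' * f⁻¹) with hd
    have hdM : d ∈ M := mul_mem hx''M (conj_mem f hx''M)
    have hfd : f * v * f⁻¹ = v * d := by
      calc f * v * f⁻¹ = (f * v' * f⁻¹) * (f * x' * f⁻¹) * (f * x'' * f⁻¹) := by rw [hveq]; group
        _ = v' * x' * (f * x'' * f⁻¹) := by rw [hv'f, hx'f]
        _ = v' * x' * (x'' * x'') * (f * x'' * f⁻¹) := by rw [sq_one hc.elem hx''M, mul_one]
        _ = v * d := by rw [hveq, hd]; group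
    have hx''B : ∀ y ∈ B'', y * x'' = x'' * y := move B' x' (move B x hxB)
    have hdB'' : ∀ y ∈ B'', y * d = d * y := by
      intro y hy
      have hyf := Local.elemAb_commute hF (hB''F hy) hfF
      have hyf' := Local.elemAb_commute hF (hB''F hy) (inv_mem hfF)
      calc y * d = (y * x'') * f * x'' * f⁻¹ := by rw [hd]; group
        _ = x'' * (y * f) * x'' * f⁻¹ := by rw [hx''B y hy]; group
        _ = x'' * f * (y * x'') * f⁻¹ := by rw [hyf]; group
        _ = x'' * f * x'' * (y * f⁻¹) := by rw [hx''B y hy]; group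
        _ = d * y := by rw [hyf', hd]; group
    have hdB : ∀ y ∈ B, y * d = d * y := by
      intro y hy
      have hyf := Local.elemAb_commute hF (hBF hy) hfF
      have hyf' := Local.elemAb_commute hF (hBF hy) (inv_mem hfF)
      have e : d = v⁻¹ * (f * v * f⁻¹) := by rw [hfd]; group
      rw [e, inv_self hc.elem hv]
      calc y * (v * (f * v * f⁻¹)) = (y * v) * f * v * f⁻¹ := by group
        _ = v * (y * f) * v * f⁻¹ := by rw [hBv y hy]; group
        _ = v * f * (y * v) * f⁻¹ := by rw [hyf]; group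
        _ = v * f * v * (y * f⁻¹) := by rw [hBv y hy]; group
        _ = v * (f * v * f⁻¹) * y := by rw [hyf']; group
    rw [hnf v hv f hfF d hfd (hfix B B'' hBF hB''F rfl hcB'' (Ne.symm hne2) d hdB hdB'') hdM, mul_one] at hfd
    exact mul_inv_eq_iff_eq_mul.1 hfd
  exact absurd (hfix B B' hBF hB'F rfl hcB' (Ne.symm hBB') v hBv hvB') hvF

theorem mem_stab_of_blk {r : ℕ} {x : S} {U V : Subgroup S} (hb : Blk M r x U) (hV : V ≤ M) (hUV : U ≤ V) :
    x ∈ stab hb.elem V := by
  refine mem_stab.2 ⟨fun u hu => ?_, fun v hv => ?_⟩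
  · rw [conj_eq hb.elem x (hV hu)]
    exact V.mul_mem hu (hUV (hb.comm u (hV hu)))
  · rw [show x * v * x⁻¹ * v = ⁅x, v⁆ by rw [commutatorElement_def, inv_self hb.elem hv]]
    exact hUV (hb.comm v hv)

omit [Finite S] hMn in
theorem dvd_fortyfive {n : ℕ} (h1 : n ∣ 20160) (hodd : Odd n) (h7 : ¬ 7 ∣ n) : n ∣ 45 := by
  have hco : n.Coprime (2 ^ 6 * 7) := Nat.Coprime.mul_right
    ((Nat.coprime_two_right.2 hodd).pow_right 6) ((Nat.prime_seven.coprime_iff_not_dvd.2 h7).symm)
  exact hco.dvd_of_dvd_mul_left (by simpa using h1)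

/-- Two conjugates commute on `M` unless there is a block of order seven. -/
theorem pair_cases {q₁ q₂ : S} {W₁ W₂ : Subgroup S} (hb1 : Blk M 3 q₁ W₁) (hb2 : Blk M 3 q₂ W₂)
    (hc1 : Nat.card W₁ = 4) (hc2 : Nat.card W₂ = 4) {p : ℕ} (hp : p.Prime) (H : Subgroup S)
    (hH : ∀ l : ℕ, l.Prime → l ∣ Nat.card H → l = 3 ∨ l = p) (hHodd : Odd (Nat.card H))
    (h1 : q₁ ∈ H) (h2 : q₂ ∈ H) :
    act M q₁ * act M q₂ = act M q₂ * act M q₁ ∨
      p = 7 ∧ ∃ (u : S) (U : Subgroup S), W₁ ≤ U ∧ Nat.card U = 8 ∧ Blk M 7 u U ∧ IsPGroup 7 (Subgroup.zpowers u) := by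
  classical
  haveI : Fact (Nat.Prime 7) := ⟨Nat.prime_seven⟩
  set U := W₁ ⊔ W₂ with hU
  have hUM : U ≤ M := sup_le hb1.le hb2.le
  have hU16 : Nat.card U ≤ 16 := (card_sup_le_of hb1.elem hb1.le hb2.le).trans (by rw [hc1, hc2])
  set A := Subgroup.closure ({q₁, q₂} : Set S) with hA
  have hAH : A ≤ H := (Subgroup.closure_le _).2 (Set.pair_subset h1 h2)
  have hq1A : q₁ ∈ A := Subgroup.subset_closure (by simp)
  have hq2A : q₂ ∈ A := Subgroup.subset_closure (by simp)
  have hAs : A ≤ stab hb1.elem U := (Subgroup.closure_le _).2 (Set.pair_subset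
    (mem_stab_of_blk hb1 hUM le_sup_left) (mem_stab_of_blk hb2 hUM le_sup_right))
  have hAodd : Odd (Nat.card A) := Odd.of_dvd_nat hHodd (Subgroup.card_dvd_of_le hAH)
  set Q := A.map (act M) with hQ
  have hd : Nat.card Q ∣ 20160 := (card_act_dvd hb1.elem hUM hAs hAodd).trans ((aut_bounds hb1.elem hUM).2.1 hU16)
  have hQA : Nat.card Q ∣ Nat.card A := Subgroup.card_map_dvd _ _
  have hQodd : Odd (Nat.card Q) := Odd.of_dvd_nat hAodd hQA
  by_cases h7 : 7 ∣ Nat.card Q
  swap
  · refine Or.inl ?_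
    exact congrArg Subtype.val (comm_of_dvd (dvd_fortyfive hd hQodd h7)
      ⟨act M q₁, Subgroup.mem_map_of_mem _ hq1A⟩ ⟨act M q₂, Subgroup.mem_map_of_mem _ hq2A⟩)
  have hp7 : p = 7 := by
    rcases hH 7 Nat.prime_seven (h7.trans (hQA.trans (Subgroup.card_dvd_of_le hAH))) with h | h
    · norm_num at h
    · exact h.symm
  refine Or.inr ⟨hp7, ?_⟩
  have hprimes : ∀ l : ℕ, l.Prime → l ∣ Nat.card Q → l = 3 ∨ l = 7 := fun l hl hlQ =>
    hp7 ▸ hH l hl (hlQ.trans (hQA.trans (Subgroup.card_dvd_of_le hAH)))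
  have hd63 : Nat.card Q ∣ 63 := by
    have hco : (Nat.card Q).Coprime (2 ^ 6 * 5) := Nat.Coprime.mul_right
      ((Nat.coprime_two_right.2 hQodd).pow_right 6)
      ((Nat.prime_five.coprime_iff_not_dvd.2 fun h => by
        have := hprimes 5 Nat.prime_five h
        omega).symm)
    exact hco.dvd_of_dvd_mul_left (by simpa using hd)
  let P : Sylow 7 Q := Classical.arbitrary _
  have hP7 : 7 ∣ Nat.card P := P.dvd_card_of_dvd_card h7
  have hidx : (P : Subgroup Q).index ∣ 9 := by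
    have h := (P : Subgroup Q).card_mul_index
    obtain ⟨c, hc⟩ := hP7
    have h' : 7 * (c * (P : Subgroup Q).index) ∣ 7 * 9 := by
      rw [← mul_assoc, ← hc, h]; exact hd63
    exact (dvd_mul_left _ _).trans (Nat.dvd_of_mul_dvd_mul_left (by norm_num) h')
  haveI hPn : (P : Subgroup Q).Normal := by
    have hone : Nat.card (Sylow 7 Q) = 1 := by
      have hd9 := P.card_dvd_index.trans hidx
      have hm := card_sylow_modEq_one 7 Q
      have := Nat.le_of_dvd (by norm_num) hd9
      unfold Nat.ModEq at hm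
      interval_cases (Nat.card (Sylow 7 Q)) <;> omega
    haveI : Subsingleton (Sylow 7 Q) := (Nat.card_eq_one_iff_unique.1 hone).1
    exact P.normal_of_subsingleton
  set Pm := (P : Subgroup Q).map Q.subtype with hPm
  have hPmQ : Pm ≤ Q := Subgroup.map_subtype_le _
  have hPmc : Nat.card Pm = 7 := by
    rw [hPm, Subgroup.card_map_of_injective Q.subtype_injective]
    obtain ⟨i, hi⟩ := IsPGroup.iff_card.1 P.2
    have hdd : 7 ^ i ∣ 63 := hi ▸ (Subgroup.card_subgroup_dvd_card _).trans hd63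
    have h7' : 7 ∣ 7 ^ i := hi ▸ hP7
    rw [hi]
    have hi2 : i < 2 := by
      by_contra hc
      have := Nat.le_of_dvd (by norm_num) ((pow_dvd_pow 7 (by omega : 2 ≤ i)).trans hdd)
      norm_num at this
      exact absurd ((pow_dvd_pow 7 (by omega : 2 ≤ i)).trans hdd) (by norm_num)
    interval_cases i
    · norm_num at h7'
    · norm_num
  obtain ⟨T, hTA, hT7, hTmap⟩ := exists_lift (act M) A Pm hPmQ (IsPGroup.of_card (n := 1) (by rw [hPmc, pow_one]))
  haveI : IsCyclic Pm := isCyclic_of_prime_card (p := 7) hPmc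
  obtain ⟨g0, hg0⟩ := IsCyclic.exists_generator (α := Pm)
  obtain ⟨u, huT, hu⟩ := Subgroup.mem_map.1 (show (g0 : MulAut M) ∈ T.map (act M) by rw [hTmap]; exact g0.2)
  have huA := hTA huT
  have hgen : ∀ a ∈ Pm, ∃ k : ℕ, a = act M u ^ k := by
    intro a ha
    obtain ⟨k, hk⟩ := (mem_powers_iff_mem_zpowers).2 (hg0 ⟨a, ha⟩)
    exact ⟨k, by rw [hu]; exact (congrArg Subtype.val hk).symm⟩
  have hu7 : act M u ^ 7 = 1 := by
    have := pow_card_eq_one' (G := Pm) (x := g0)
    rw [hPmc] at this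
    rw [hu]; exact congrArg Subtype.val this
  have hu1 : act M u ≠ 1 := by
    intro e
    have hbot : Pm = ⊥ := (Subgroup.eq_bot_iff_forall _).2 fun a ha => by
      obtain ⟨k, rfl⟩ := hgen a ha
      rw [e, one_pow]
    rw [hbot, Subgroup.card_bot] at hPmc
    norm_num at hPmc
  have hnorm : ∀ a ∈ A, ∃ k : ℕ, act M (a⁻¹ * u * a) = act M u ^ k := by
    intro a ha
    refine hgen _ ?_
    obtain ⟨z, hz, hz'⟩ := (hPm ▸ (hu ▸ g0.2) : act M u ∈ (P : Subgroup Q).map Q.subtype)
    refine ⟨(⟨act M a, Subgroup.mem_map_of_mem _ ha⟩ : Q)⁻¹ * z * ⟨act M a, Subgroup.mem_map_of_mem _ ha⟩, ?_, ?_⟩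
    · have := hPn.conj_mem z hz (⟨act M a, Subgroup.mem_map_of_mem _ ha⟩ : Q)⁻¹
      rwa [inv_inv] at this
    · rw [map_mul, map_mul, map_inv, map_mul (act M), map_mul (act M), map_inv (act M), hz']
      rfl
  have huodd : Odd (orderOf u) := Odd.of_dvd_nat hAodd (Subgroup.orderOf_mk (H := A) u huA ▸ orderOf_dvd_natCard _)
  have hfixu : ∀ v ∈ M, ∀ d ∈ M, u * v * u⁻¹ = v * d → u * d * u⁻¹ = d → d = 1 := fun v _ d hd h1 h2 =>
    fix_of_odd huodd h1 h2 (hb1.elem.2 d hd) (by rw [pow_orderOf_eq_one]; group)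
  have huU := mem_stab.1 (hAs huA)
  -- commutator image and fixed points of `u` in `U`
  let f : U →* U := MonoidHom.mk' (fun v => ⟨⁅u, (v : S)⁆, by
      rw [commutatorElement_def, inv_self hb1.elem (hUM v.2)]
      exact huU.2 _ (hUM v.2)⟩) fun a b => by
    apply Subtype.ext
    show ⁅u, (a : S) * b⁆ = ⁅u, (a : S)⁆ * ⁅u, (b : S)⁆
    have ha := hUM a.2
    have hb := hUM b.2
    rw [commutatorElement_def, commutatorElement_def, commutatorElement_def, inv_self hb1.elem (mul_mem ha hb),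
      inv_self hb1.elem ha, inv_self hb1.elem hb, Local.elemAb_commute hb1.elem ha hb]
    calc u * ((b : S) * a) * u⁻¹ * (b * a) = (u * b * u⁻¹) * ((u * a * u⁻¹) * (b * a)) := by group
      _ = (u * b * u⁻¹) * ((u * a * u⁻¹) * (a * b)) := by rw [Local.elemAb_commute hb1.elem ha hb]
      _ = (u * b * u⁻¹) * ((u * a * u⁻¹ * a) * b) := by group
      _ = ((u * a * u⁻¹ * a) * b) * (u * b * u⁻¹) :=
        Local.elemAb_commute hb1.elem (conj_mem u hb) (mul_mem (mul_mem (conj_mem u ha) ha) hb)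
      _ = (u * a * u⁻¹ * a) * (b * (u * b * u⁻¹)) := by group
      _ = _ := by rw [Local.elemAb_commute hb1.elem hb (conj_mem u hb)]
  set X := f.range.map U.subtype with hX
  set C := f.ker.map U.subtype with hC
  have hXU : X ≤ U := Subgroup.map_subtype_le _
  have hCU : C ≤ U := Subgroup.map_subtype_le _
  have hmemC : ∀ {y : S}, y ∈ C ↔ y ∈ U ∧ u * y * u⁻¹ = y := by
    intro y
    constructor
    · rintro ⟨z, hz, rfl⟩
      refine ⟨z.2, ?_⟩
      have h : ⁅u, (z : S)⁆ = 1 := congrArg Subtype.val (MonoidHom.mem_ker.1 hz)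
      show u * (z : S) * u⁻¹ = z
      rw [conj_eq hb1.elem u (hUM z.2), h, mul_one]
    · rintro ⟨hy, h⟩
      refine ⟨⟨y, hy⟩, MonoidHom.mem_ker.2 (Subtype.ext ?_), rfl⟩
      show ⁅u, y⁆ = 1
      rw [commutatorElement_def, h, mul_inv_cancel]
  have hmemX : ∀ {y : S}, y ∈ X ↔ ∃ v ∈ U, ⁅u, v⁆ = y := by
    intro y
    constructor
    · rintro ⟨z, ⟨v, rfl⟩, rfl⟩
      exact ⟨v, v.2, rfl⟩
    · rintro ⟨v, hv, rfl⟩
      exact ⟨f ⟨v, hv⟩, ⟨_, rfl⟩, rfl⟩
  have hXC : Nat.card X * Nat.card C = Nat.card U := by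
    rw [hX, hC, Subgroup.card_map_of_injective U.subtype_injective,
      Subgroup.card_map_of_injective U.subtype_injective, ← Subgroup.index_ker, mul_comm]
    exact f.ker.card_mul_index
  have hinf : X ⊓ C = ⊥ := by
    refine (Subgroup.eq_bot_iff_forall _).2 fun y hy => ?_
    obtain ⟨hyX, hyC⟩ := Subgroup.mem_inf.1 hy
    obtain ⟨v, hv, rfl⟩ := hmemX.1 hyX
    exact hfixu v (hUM hv) _ (hUM (hXU hyX)) (conj_eq hb1.elem u (hUM hv)) (hmemC.1 hyC).2
  have hX7 : 7 ≤ Nat.card X := by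
    obtain ⟨v, hv, hvC⟩ : ∃ v ∈ U, ¬ u * v * u⁻¹ = v := by
      by_contra hcon
      push Not at hcon
      refine hu1 (act_one_iff.2 fun v hv => ?_)
      have hd : ⁅u, v⁆ ∈ U := by
        rw [commutatorElement_def, inv_self hb1.elem hv]; exact huU.2 v hv
      rw [conj_eq hb1.elem u hv, hfixu v hv _ (hUM hd) (conj_eq hb1.elem u hv) (hcon _ hd), mul_one]
    have hpow : ∀ n : ℕ, ⁅u ^ n, v⁆ ∈ X := by
      intro n
      induction n with
      | zero => simp
      | succ n ih =>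
        have hn : u ^ n * v * (u ^ n)⁻¹ ∈ U := (mem_stab.1 (pow_mem (hAs huA) n)).1 v hv
        rw [show ⁅u ^ (n + 1), v⁆ = ⁅u, u ^ n * v * (u ^ n)⁻¹⁆ * ⁅u ^ n, v⁆ by
          rw [pow_succ']; simp only [commutatorElement_def]; group]
        exact mul_mem (hmemX.2 ⟨_, hn, rfl⟩) ih
    have hinj : Function.Injective (fun i : Fin 7 => (⟨⁅u ^ (i : ℕ), v⁆, hpow i⟩ : X)) := by
      have key : ∀ i j : ℕ, i ≤ j → j < 7 → ⁅u ^ i, v⁆ = ⁅u ^ j, v⁆ → i = j := by
        intro i j hij hj h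
        by_contra hne
        have hvM := hUM hv
        rw [commutatorElement_def, commutatorElement_def] at h
        have h' : (act M u ^ i) ⟨v, hvM⟩ = (act M u ^ j) ⟨v, hvM⟩ := by
          rw [← map_pow, ← map_pow]
          exact Subtype.ext (by rw [act_coe, act_coe]; exact mul_right_cancel h)
        have hfix : (act M u ^ (j - i)) ⟨v, hvM⟩ = ⟨v, hvM⟩ := by
          apply (act M u ^ i).injective
          rw [← MulAut.mul_apply, ← pow_add, Nat.add_sub_cancel' hij]
          exact h'.symm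
        have hco : (j - i).Coprime (orderOf (act M u)) := by
          rw [orderOf_eq_prime hu7 hu1]
          exact ((Nat.prime_seven.coprime_iff_not_dvd).2 fun hd => by
            have := Nat.le_of_dvd (by omega) hd
            omega).symm
        obtain ⟨m, hm⟩ := exists_pow_eq_self_of_coprime hco
        have hall : ∀ t : ℕ, ((act M u ^ (j - i)) ^ t) ⟨v, hvM⟩ = ⟨v, hvM⟩ := by
          intro t
          induction t with
          | zero => rfl
          | succ t iht => rw [pow_succ, MulAut.mul_apply, hfix, iht]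
        have := congrArg Subtype.val (hall m)
        rw [hm, act_coe] at this
        exact hvC this
      intro i j h
      have h' : ⁅u ^ (i : ℕ), v⁆ = ⁅u ^ (j : ℕ), v⁆ := congrArg Subtype.val h
      rcases le_total (i : ℕ) (j : ℕ) with hl | hl
      · exact Fin.ext (key _ _ hl j.2 h')
      · exact Fin.ext (key _ _ hl i.2 h'.symm).symm
    simpa using Nat.card_le_card_of_injective _ hinj
  have hC2 : Nat.card C ≤ 2 := by
    by_contra hc
    have : 7 * 3 ≤ Nat.card X * Nat.card C := Nat.mul_le_mul hX7 (by omega)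
    omega
  have hUXC : U ≤ X ⊔ C := by
    refine (Subgroup.eq_of_le_of_card_ge (sup_le hXU hCU) ?_).ge
    rw [← hXC]
    refine le_of_eq ?_
    rw [← Nat.card_prod]
    exact (Nat.card_le_card_of_injective (fun z : X × C =>
      (⟨z.1.1 * z.2.1, mul_mem (Subgroup.mem_sup_left z.1.2) (Subgroup.mem_sup_right z.2.2)⟩ : ↥(X ⊔ C)))
      (fun z z' h => Subgroup.mul_injective_of_disjoint (disjoint_iff.2 hinf) (congrArg Subtype.val h))).antisymm
      (card_sup_le_of hb1.elem (hXU.trans hUM) (hCU.trans hUM) |>.trans (by rw [Nat.card_prod]))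
  -- a block generator stabilising `X` and fixing `C`
  have hWX : ∀ (x : S) (W' : Subgroup S), Blk M 3 x W' → W' ≤ U → x ∈ A → W' ≤ X := by
    intro x W' hb hle hxA
    obtain ⟨k, hk⟩ := hnorm x hxA
    have hconj : ∀ y ∈ U, x * y * x⁻¹ ∈ U := (mem_stab.1 (hAs hxA)).1
    have hku : ∀ y ∈ M, u * (x * y * x⁻¹) * u⁻¹ = x * (u ^ k * y * (u ^ k)⁻¹) * x⁻¹ := by
      intro y hy
      have h := act_eq (hk.trans (map_pow (act M) u k).symm) hy
      rw [← h]; group
    have hxC : ∀ y ∈ C, x * y * x⁻¹ ∈ C := by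
      intro y hy
      obtain ⟨hyU, hyf⟩ := hmemC.1 hy
      refine hmemC.2 ⟨hconj y hyU, ?_⟩
      rw [hku y (hUM hyU)]
      have : Commute u y := mul_inv_eq_iff_eq_mul.1 hyf
      rw [(this.pow_left k).eq, mul_inv_cancel_right]
    have hxC1 : ∀ y ∈ C, x * y * x⁻¹ = y := by
      intro y hy
      by_cases hy1 : y = 1
      · subst hy1; group
      have hxy : x * y * x⁻¹ ≠ 1 := fun e => hy1 (conj_eq_one_iff.1 e)
      by_contra hne
      classical
      have hsub : (({1, y, x * y * x⁻¹} : Finset S) : Set S) ⊆ (C : Set S) := by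
        intro z hz
        simp only [Finset.coe_insert, Finset.coe_singleton, Set.mem_insert_iff, Set.mem_singleton_iff] at hz
        rcases hz with rfl | rfl | rfl
        · exact one_mem _
        · exact hy
        · exact hxC y hy
      have h := Set.ncard_le_ncard hsub
      rw [Set.ncard_coe_finset, Finset.card_insert_of_notMem (by simp [Ne.symm hy1, Ne.symm hxy]),
        Finset.card_pair (Ne.symm hne), ← Nat.card_coe_set_eq] at h
      have h' : 2 + 1 ≤ Nat.card C := h
      omega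
    have huX : ∀ (n : ℕ), ∀ y ∈ X, u ^ n * y * (u ^ n)⁻¹ ∈ X := by
      intro n y hy
      obtain ⟨v, hv, rfl⟩ := hmemX.1 hy
      refine hmemX.2 ⟨u ^ n * v * (u ^ n)⁻¹, (mem_stab.1 (pow_mem (hAs huA) n)).1 v hv, ?_⟩
      have : Commute (u ^ n) u := (Commute.refl u).pow_left n
      rw [← commutator_conj, this.eq, mul_inv_cancel_right]
    have hxX : ∀ y ∈ X, x * y * x⁻¹ ∈ X := by
      intro y hy
      obtain ⟨v, hv, rfl⟩ := hmemX.1 hy
      obtain ⟨k', hk'⟩ := hnorm x⁻¹ (inv_mem hxA)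
      rw [inv_inv] at hk'
      have hxv := hconj v hv
      have hkey : ∀ n : ℕ, ⁅u ^ n, x * v * x⁻¹⁆ ∈ X := by
        intro n
        induction n with
        | zero => simp
        | succ n ih =>
          rw [show ⁅u ^ (n + 1), x * v * x⁻¹⁆ =
              ⁅u, u ^ n * (x * v * x⁻¹) * (u ^ n)⁻¹⁆ * ⁅u ^ n, x * v * x⁻¹⁆ by
            rw [pow_succ']; simp only [commutatorElement_def]; group]
          exact mul_mem (hmemX.2 ⟨_, (mem_stab.1 (pow_mem (hAs huA) n)).1 _ hxv, rfl⟩) ih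
      rw [← commutator_conj, commutatorElement_def,
        act_eq (hk'.trans (map_pow (act M) u k').symm) (conj_mem x (hUM hv)), ← commutatorElement_def]
      exact hkey k'
    obtain ⟨w, hw, hw1⟩ : ∃ w ∈ W', w ≠ 1 := by
      by_contra hc
      push Not at hc
      exact hb.ne (Subgroup.eq_bot_iff_forall _ |>.2 hc)
    have hwU : w ∈ ((X ⊔ C : Subgroup S) : Set S) := hUXC (hle hw)
    rw [Subgroup.coe_mul_of_left_le_normalizer_right X C (le_normalizer_of_conj fun a ha v hv => by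
      rw [Local.elemAb_commute hb1.elem (hUM (hXU ha)) (hUM (hCU hv)), mul_inv_cancel_right]
      exact hv)] at hwU
    obtain ⟨a, ha, c, hc, rfl⟩ := hwU
    have e : ⁅x, a * c⁆ = ⁅x, a⁆ := by
      simp only [commutatorElement_def]
      calc x * (a * c) * x⁻¹ * (a * c)⁻¹ = (x * a * x⁻¹) * (x * c * x⁻¹) * c⁻¹ * a⁻¹ := by group
        _ = _ := by rw [hxC1 c hc]; group
    refine hb.irr X hxX ⁅x, a * c⁆ (hb.comm _ (hUM (hle hw))) ?_ ?_
    · intro h
      exact hw1 (hb.fpf _ hw (by rw [conj_eq hb.elem x (hb.le hw), h, mul_one]))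
    · rw [e, commutatorElement_def]
      exact mul_mem (hxX a ha) (inv_mem ha)
  have hUX : U ≤ X := sup_le (hWX q₁ W₁ hb1 le_sup_left hq1A) (hWX q₂ W₂ hb2 le_sup_right hq2A)
  have hXeq : X = U := le_antisymm hXU hUX
  have hC1 : C = ⊥ := by
    rw [← hinf, inf_eq_right.2 (hCU.trans hUX)]
  have hfp : ∀ w ∈ U, u * w * u⁻¹ = w → w = 1 := fun w hw h => Subgroup.mem_bot.1 (hC1 ▸ hmemC.2 ⟨hw, h⟩)
  have hU8 : Nat.card U = 8 := by
    obtain ⟨n, hn, -⟩ := exists_pow_card hb1.elem hUM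
    have h7U : 7 ≤ Nat.card U := hXeq ▸ hX7
    have hn4 : n ≤ 4 := (Nat.pow_le_pow_iff_right (by norm_num : 1 < 2)).1 (hn ▸ hU16 : 2 ^ n ≤ 2 ^ 4)
    rw [hn] at h7U
    interval_cases n <;> first | exact hn | norm_num at h7U | skip
    exfalso
    -- orbits of length seven on sixteen points with one fixed point
    let ψ : MulAut U := U.normalizerMonoidHom ⟨u, le_normalizer_of_conj (fun a ha => (mem_stab.1 (hAs ha)).1) huA⟩
    have hψ : ∀ y : U, ((ψ y : U) : S) = u * y * u⁻¹ := fun y => rfl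
    have hψn : ∀ (n : ℕ) (y : U), (((ψ ^ n) y : U) : S) = u ^ n * y * (u ^ n)⁻¹ := by
      intro n
      induction n with
      | zero => intro y; simp
      | succ n ih => intro y; rw [pow_succ, MulAut.mul_apply, ih, hψ, pow_succ]; group
    have hR : IsPGroup 7 (Subgroup.zpowers ψ) := by
      have hd7 : orderOf ψ ∣ 7 := orderOf_dvd_of_pow_eq_one (MulEquiv.ext fun y => Subtype.ext ((hψn 7 y).trans
        (act_one_iff.1 ((map_pow (act M) u 7).trans hu7) _ (hUM y.2))))
      obtain ⟨i, -, hi⟩ := (Nat.dvd_prime_pow Nat.prime_seven).1 (by rwa [pow_one] : orderOf ψ ∣ 7 ^ 1)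
      exact IsPGroup.of_card (n := i) (by rw [Nat.card_zpowers, hi])
    have hmod := hR.card_modEq_card_fixedPoints U
    have hfx : Nat.card (MulAction.fixedPoints (Subgroup.zpowers ψ) U) = 1 := by
      rw [Nat.card_eq_one_iff_exists]
      refine ⟨⟨1, fun g => map_one (g : MulAut U)⟩, fun y => Subtype.ext (Subtype.ext ?_)⟩
      exact hfp _ y.1.2 ((hψ y.1).symm.trans (congrArg Subtype.val (y.2 ⟨ψ, Subgroup.mem_zpowers ψ⟩)))
    rw [hfx, hn] at hmod
    exact absurd hmod (by decide)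
  refine ⟨u, U, le_sup_left, hU8,
    ⟨hb1.elem, hUM, fun e => by rw [e, Subgroup.card_bot] at hU8; norm_num at hU8, fun v hv => ?_, hu7, hfp, ?_⟩, ?_⟩
  · rw [commutatorElement_def, inv_self hb1.elem hv]
    exact huU.2 v hv
  · intro Y hY w hw hw1 hwY
    have hpw : ∀ n : ℕ, u ^ n * w * (u ^ n)⁻¹ ∈ Y ⊓ U := by
      intro n
      induction n with
      | zero => simpa using And.intro hwY hw
      | succ n ih =>
        refine Subgroup.mem_inf.2 ⟨?_, (mem_stab.1 (pow_mem (hAs huA) _)).1 w hw⟩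
        have := hY _ (Subgroup.mem_inf.1 ih).1
        rwa [show u * (u ^ n * w * (u ^ n)⁻¹) * u⁻¹ = u ^ (n + 1) * w * (u ^ (n + 1))⁻¹ by
          rw [pow_succ']; group] at this
    have hd8 : Nat.card ↥(Y ⊓ U) ∣ 8 := hU8 ▸ Subgroup.card_dvd_of_le inf_le_right
    have hbig : 7 ≤ Nat.card ↥(Y ⊓ U) := by
      have hinj : Function.Injective (fun i : Fin 7 => (⟨u ^ (i : ℕ) * w * (u ^ (i : ℕ))⁻¹, hpw i⟩ : ↥(Y ⊓ U))) := by
        have key : ∀ i j : ℕ, i ≤ j → j < 7 →
            u ^ i * w * (u ^ i)⁻¹ = u ^ j * w * (u ^ j)⁻¹ → i = j := by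
          intro i j hij hj h
          by_contra hne
          have hfix : (act M u ^ (j - i)) ⟨w, hUM hw⟩ = ⟨w, hUM hw⟩ := by
            apply (act M u ^ i).injective
            rw [← MulAut.mul_apply, ← pow_add, Nat.add_sub_cancel' hij, ← map_pow, ← map_pow]
            exact Subtype.ext (by rw [act_coe, act_coe]; exact h.symm)
          have hco : (j - i).Coprime (orderOf (act M u)) := by
            rw [orderOf_eq_prime hu7 hu1]
            exact ((Nat.prime_seven.coprime_iff_not_dvd).2 fun hd => by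
              have := Nat.le_of_dvd (by omega) hd
              omega).symm
          obtain ⟨m, hm⟩ := exists_pow_eq_self_of_coprime hco
          have hall : ∀ t : ℕ, ((act M u ^ (j - i)) ^ t) ⟨w, hUM hw⟩ = ⟨w, hUM hw⟩ := by
            intro t
            induction t with
            | zero => rfl
            | succ t iht => rw [pow_succ, MulAut.mul_apply, hfix, iht]
          have := congrArg Subtype.val (hall m)
          rw [hm, act_coe] at this
          exact hw1 (hfp w hw this)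
        intro i j h
        have h' := congrArg Subtype.val h
        rcases le_total (i : ℕ) (j : ℕ) with hl | hl
        · exact Fin.ext (key _ _ hl j.2 h')
        · exact Fin.ext (key _ _ hl i.2 h'.symm).symm
      simpa using Nat.card_le_card_of_injective _ hinj
    have h8 : Nat.card ↥(Y ⊓ U) = 8 := by
      have := Nat.le_of_dvd (by norm_num) hd8
      interval_cases (Nat.card ↥(Y ⊓ U))
      · norm_num at hd8
      · rfl
    exact (Subgroup.eq_of_le_of_card_ge inf_le_right (by rw [h8, hU8])).ge.trans inf_le_left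
  · exact hT7.to_le (Subgroup.zpowers_le.2 huT)

/-- The configuration with a block of order seven. -/
theorem good_of_seven {E : Subgroup S} (hE : Cfsg.IsElementaryAbelian 7 E) (hE3 : Nat.card E = 7 ^ 3)
    {u g : S} {U W : Subgroup S} (hW : MulAut.conj g • W ≤ U) (hb : Blk M 7 u U) (hU8 : Nat.card U = 8)
    (hu : IsPGroup 7 (Subgroup.zpowers u)) : Good W := by
  classical
  haveI : Fact (Nat.Prime 7) := ⟨Nat.prime_seven⟩
  have haut : ¬ 7 ^ 2 ∣ Nat.card (MulAut U) := fun h => by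
    have := h.trans ((aut_bounds hb.elem hb.le).2.2.1 hU8)
    norm_num at this
  obtain ⟨P, hP⟩ := hu.exists_le_sylow
  obtain ⟨P', hP'⟩ := (Local.elemAb_isPGroup hE).exists_le_sylow
  obtain ⟨c, hc⟩ := MulAction.exists_smul_eq S P' P
  have hE'P : MulAut.conj c • E ≤ (P : Subgroup S) := by
    rw [← hc, Sylow.coe_subgroup_smul]
    exact Subgroup.pointwise_smul_le_pointwise_smul_iff.2 hP'
  have hE' := elem_conj hE c
  by_cases hn : ∀ e ∈ MulAut.conj c • E, MulAut.conj e • U = U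
  · refine good_of_normalize Nat.prime_seven (by norm_num) g hW hE' (by rw [card_conj, hE3]) (fun e he w hw => ?_) haut
    rw [← hn e he]
    exact mem_conj_smul.2 (by simpa [mul_assoc] using hw)
  push Not at hn
  obtain ⟨e, he, hne⟩ := hn
  have huP : u ∈ (P : Subgroup S) := hP (Subgroup.mem_zpowers u)
  have hL : ∀ a ∈ (P : Subgroup S), ∀ b ∈ (P : Subgroup S),
      act M (a * u * a⁻¹) * act M (b * u * b⁻¹) = act M (b * u * b⁻¹) * act M (a * u * a⁻¹) := by
    intro a ha b hb'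
    set V := MulAut.conj a • U ⊔ MulAut.conj b • U with hV
    have hVM : V ≤ M := sup_le (hb.conj a).le (hb.conj b).le
    have hV64 : Nat.card V ≤ 64 :=
      (card_sup_le_of hb.elem (hb.conj a).le (hb.conj b).le).trans (by rw [card_conj, card_conj, hU8])
    have hinP : ∀ d ∈ (P : Subgroup S), d * u * d⁻¹ ∈ (P : Subgroup S) := fun d hd =>
      mul_mem (mul_mem hd huP) (inv_mem hd)
    set A := Subgroup.closure ({a * u * a⁻¹, b * u * b⁻¹} : Set S) with hA
    have hAP : A ≤ (P : Subgroup S) := (Subgroup.closure_le _).2 (Set.pair_subset (hinP a ha) (hinP b hb'))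
    have hAs : A ≤ stab hb.elem V := (Subgroup.closure_le _).2 (Set.pair_subset
      (mem_stab_of_blk (hb.conj a) hVM le_sup_left) (mem_stab_of_blk (hb.conj b) hVM le_sup_right))
    obtain ⟨i, hi⟩ := IsPGroup.iff_card.1 (P.2.to_le hAP)
    obtain ⟨j, hj⟩ := IsPGroup.iff_card.1 ((P.2.to_le hAP).map (act M))
    have hd := card_act_dvd hb.elem hVM hAs (by rw [hi]; exact Odd.pow (by decide))
    have hj2 : j ≤ 2 := by
      by_contra hc
      exact (aut_bounds hb.elem hVM).1 hV64 ((pow_dvd_pow 7 (by omega : 3 ≤ j)).trans ((dvd_of_eq hj.symm).trans hd))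
    have hcomm : ∀ x y : A.map (act M), x * y = y * x := by
      interval_cases j
      · haveI : Subsingleton (A.map (act M)) := (Nat.card_eq_one_iff_unique.1 (by simpa using hj)).1
        exact fun x y => Subsingleton.elim _ _
      · haveI : IsCyclic (A.map (act M)) := isCyclic_of_prime_card (p := 7) (by simpa using hj)
        exact fun x y => (IsCyclic.commGroup (α := A.map (act M))).mul_comm x y
      · exact IsPGroup.commutative_of_card_eq_prime_sq hj
    exact congrArg Subtype.val (hcomm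
      ⟨_, Subgroup.mem_map_of_mem (act M) (Subgroup.subset_closure (by simp : a * u * a⁻¹ ∈ ({a * u * a⁻¹, b * u * b⁻¹} : Set S)))⟩
      ⟨_, Subgroup.mem_map_of_mem (act M) (Subgroup.subset_closure (by simp : b * u * b⁻¹ ∈ ({a * u * a⁻¹, b * u * b⁻¹} : Set S)))⟩)
  obtain ⟨k, hk⟩ := IsPGroup.iff_orderOf.1 P.2 ⟨e, hE'P he⟩
  rw [← Subgroup.orderOf_coe] at hk
  obtain ⟨D, hDe, hD, hDcard⟩ := moved_bound Nat.prime_seven Nat.prime_seven hb (P : Subgroup S) hL (hE'P he) hk hne
  have hDP : D ≤ (P : Subgroup S).map (act M) := by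
    rw [hD, Subgroup.closure_le]
    rintro _ ⟨a, ha, rfl⟩
    exact Subgroup.mem_map_of_mem _ (mul_mem (mul_mem ha huP) (inv_mem ha))
  obtain ⟨T, -, hT, hTD⟩ := exists_lift (act M) (P : Subgroup S) D hDP (Local.elemAb_isPGroup hDe)
  obtain ⟨F, hFT, hF, hF3⟩ : ∃ F : Subgroup S, F ≤ T ∧ Cfsg.IsElementaryAbelian 7 F ∧ Nat.card F = 7 ^ 3 := by
    by_contra hcon
    push Not at hcon
    have h := card_image_le (by norm_num) (act M) T hT hcon (hTD ▸ hDe)
    rw [hTD] at h
    have := hDcard.trans h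
    norm_num at this
  refine good_of_normalize Nat.prime_seven (by norm_num) g hW hF hF3.ge (fun f hf w hw => ?_) haut
  refine hb.stable (Local.elemAb_commute hDe ?_ ?_) w hw
  · rw [← hTD]; exact Subgroup.mem_map_of_mem _ (hFT hf)
  · rw [hD]
    exact Subgroup.subset_closure ⟨1, one_mem _, by simp⟩


/-- Let S be a finite solvable group and M a normal elementary abelian 2-subgroup of S. Suppose S contains an elementary abelian subgroup of order p³ for some odd prime p, and a cyclic 3-subgroup Q such that the cubes of the elements of Q centralize M and the commutator subgroup [Q, M] has order 4 (a four-group inside M). Then S contains an elementary abelian subgroup F of order r³, for some odd prime r, whose centralizer of [Q, M] in F — the subgroup C_F([Q, M]) — is not cyclic. -/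
theorem result {S : Type*} [Group S] [Finite S]
    [Group.IsSolvable S] (M : Subgroup S) [M.Normal] (hM : Cfsg.IsElementaryAbelian 2 M)
    (p : ℕ) (hp : p.Prime) (hp2 : p ≠ 2) (E : Subgroup S) (hE : Cfsg.IsElementaryAbelian p E) (hE3 : Nat.card ↥E = p ^ 3)
    (Q : Subgroup S) (hQc : IsCyclic ↥Q) (hQ3 : IsPGroup 3 ↥Q)
    (hQ1 : ∀ x ∈ Q, x ^ 3 ∈ Subgroup.centralizer (M : Set S)) (hQM : Nat.card ↥⁅Q, M⁆ = 4) :
    ∃ (r : ℕ) (F : Subgroup S), r.Prime ∧ r ≠ 2 ∧ Cfsg.IsElementaryAbelian r F ∧ Nat.card ↥F = r ^ 3 ∧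
      ¬ IsCyclic ↥(F ⊓ Subgroup.centralizer ((⁅Q, M⁆ : Subgroup S) : Set S)) := by
  classical
  haveI := hM.1
  haveI : Fact (Nat.Prime 3) := ⟨Nat.prime_three⟩
  haveI : Fact p.Prime := ⟨hp⟩
  show Good ⁅Q, M⁆
  obtain ⟨q₀, hq₀⟩ := IsCyclic.exists_generator (α := Q)
  set q : S := (q₀ : S) with hq
  have hqQ : q ∈ Q := q₀.2
  have hQz : Q ≤ Subgroup.zpowers q := by
    intro x hx
    obtain ⟨i, hi⟩ := hq₀ ⟨x, hx⟩
    exact ⟨i, congrArg Subtype.val hi⟩
  set W := ⁅Q, M⁆ with hWdef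
  have hWM : W ≤ M := Subgroup.commutator_le_right Q M
  have hcube : q ^ 3 ∈ Subgroup.centralizer (M : Set S) := hQ1 q hqQ
  have hcomm : ∀ v ∈ M, ⁅q, v⁆ ∈ W := fun v hv => Subgroup.commutator_mem_commutator hqQ hv
  have hnot : ¬ ∀ v ∈ M, q * v * q⁻¹ = v := by
    intro h
    have : W = ⊥ := Subgroup.commutator_eq_bot_iff_le_centralizer.2 (hQz.trans (Subgroup.zpowers_le.2
      (Subgroup.mem_centralizer_iff.2 fun v hv => (mul_inv_eq_iff_eq_mul.1 (h v hv)).symm)))
    rw [this, Subgroup.card_bot] at hQM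
    norm_num at hQM
  have hc : Cfg M q W := by
    refine ⟨hM, hWM, hQM, hcomm, hcube, fun w₀ hw₀ hfix => ?_⟩
    by_contra hw₁
    apply hnot
    have hcyc : ∀ v ∈ M, q ^ 3 * v * (q ^ 3)⁻¹ = v := fun v hv => by
      rw [← Subgroup.mem_centralizer_iff.1 hcube v hv, mul_inv_cancel_right]
    have hqW : ∀ w ∈ W, q * w * q⁻¹ = w := by
      intro w hw
      by_contra hne
      have hw' : q * w * q⁻¹ ∈ W := by
        rw [conj_eq hM q (hWM hw)]
        exact mul_mem hw (hcomm w (hWM hw))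
      have h1 : w ≠ 1 := fun e => hne (by rw [e]; group)
      have h0 : w ≠ w₀ := fun e => hne (by rw [e]; exact hfix)
      have hcl : ∀ y ∈ W, y = 1 ∨ y = w₀ ∨ y = w ∨ y = w₀ * w := by
        have hsub : (({1, w₀, w, w₀ * w} : Finset S) : Set S) ⊆ (W : Set S) := by
          intro y hy
          simp only [Finset.coe_insert, Finset.coe_singleton, Set.mem_insert_iff, Set.mem_singleton_iff] at hy
          rcases hy with rfl | rfl | rfl | rfl
          · exact one_mem _
          · exact hw₀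
          · exact hw
          · exact mul_mem hw₀ hw
        have hne4 : w₀ * w ≠ 1 := fun e => h0 (by
          have := inv_eq_of_mul_eq_one_right e
          rw [inv_self hM (hWM hw₀)] at this
          exact this.symm)
        have hc4 : ({1, w₀, w, w₀ * w} : Finset S).card = 4 := by
          rw [Finset.card_insert_of_notMem (by simp [Ne.symm hw₁, Ne.symm h1, Ne.symm hne4]),
            Finset.card_insert_of_notMem (by simp [Ne.symm h0, h1]), Finset.card_pair]
          simp [hw₁]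
        have heq : (({1, w₀, w, w₀ * w} : Finset S) : Set S) = (W : Set S) :=
          Set.eq_of_subset_of_ncard_le hsub (by rw [Set.ncard_coe_finset, hc4, ← Nat.card_coe_set_eq]; exact hQM.le)
        intro y hy
        have hy' : y ∈ ({1, w₀, w, w₀ * w} : Finset S) := by rw [← Finset.mem_coe, heq]; exact hy
        simpa using hy'
      rcases hcl _ hw' with e | e | e | e
      · exact h1 (conj_eq_one_iff.1 e)
      · exact h0 (by simpa using congrArg (fun y => q⁻¹ * y * q) (e.trans hfix.symm))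
      · exact hne e
      · have e2 : q * (q * w * q⁻¹) * q⁻¹ = w := by
          rw [e, show q * (w₀ * w) * q⁻¹ = (q * w₀ * q⁻¹) * (q * w * q⁻¹) by group, hfix, e, ← mul_assoc,
            sq_one hM (hWM hw₀), one_mul]
        have := hcyc w (hWM hw)
        rw [show q ^ 3 * w * (q ^ 3)⁻¹ = q * (q * (q * w * q⁻¹) * q⁻¹) * q⁻¹ by simp [pow_succ, mul_assoc], e2] at this
        exact hne this
    intro v hv
    have h1 := conj_eq hM q hv
    rw [fix_of_odd (m := 3) (by decide) h1 (hqW _ (hcomm v hv)) (hM.2 _ (hWM (hcomm v hv))) (hcyc v hv),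
      mul_one] at h1
    exact h1
  by_cases hthree : ∃ A : Subgroup S, Cfsg.IsElementaryAbelian 3 A ∧ Nat.card A = 3 ^ 3
  · obtain ⟨A, hA, hA3⟩ := hthree
    obtain ⟨R, hR⟩ := hQ3.exists_le_sylow
    obtain ⟨R', hR'⟩ := (Local.elemAb_isPGroup hA).exists_le_sylow
    obtain ⟨c, hc'⟩ := MulAction.exists_smul_eq S R' R
    have hAR : MulAut.conj c • A ≤ (R : Subgroup S) := by
      rw [← hc', Sylow.coe_subgroup_smul]
      exact Subgroup.pointwise_smul_le_pointwise_smul_iff.2 hR'
    obtain ⟨N, hN, hNc, hNe, hN3⟩ : ∃ N : Subgroup R, N.Normal ∧ IsMulCommutative N ∧ (∀ a ∈ N, a ^ 3 = 1) ∧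
        Nat.card N = 3 ^ 3 := by
      by_contra hcon
      push Not at hcon
      have h := S0100.result (P := (R : Subgroup S)) (p := 3) (by norm_num) R.2 hcon
        ((MulAut.conj c • A).subgroupOf R)
      have h' := h ?_ ?_
      · rw [Nat.card_congr (Subgroup.subgroupOfEquivOfLe hAR).toEquiv, card_conj, hA3] at h'
        norm_num at h'
      · exact ⟨⟨fun a b => Subtype.ext (Subtype.ext (Local.elemAb_commute (elem_conj hA c) a.2 b.2))⟩⟩
      · exact fun a ha => Subtype.ext ((elem_conj hA c).2 _ ha)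
    refine good_of_normal hc Nat.prime_three (by norm_num) (F := N.map (R : Subgroup S).subtype)
      ⟨⟨⟨fun a b => Subtype.ext ?_⟩⟩, ?_⟩ ?_ ?_
    · obtain ⟨x, hx, hx'⟩ := a.2
      obtain ⟨y, hy, hy'⟩ := b.2
      show (a : S) * b = b * a
      rw [← hx', ← hy', ← map_mul, ← map_mul]
      exact congrArg _ (congrArg Subtype.val (hNc.1.comm ⟨x, hx⟩ ⟨y, hy⟩))
    · rintro _ ⟨x, hx, rfl⟩
      rw [← map_pow, hNe x hx, map_one]
    · rw [Subgroup.card_map_of_injective (R : Subgroup S).subtype_injective, hN3]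
    · rintro _ ⟨x, hx, rfl⟩
      exact ⟨⟨q, hR hqQ⟩ * x * ⟨q, hR hqQ⟩⁻¹, hN.conj_mem x hx _, rfl⟩
  push Not at hthree
  have hp3 : p ≠ 3 := by
    rintro rfl
    exact hthree E hE hE3
  obtain ⟨H, hQH, g₁, hEH, hHpr, hHodd⟩ : ∃ H : Subgroup S, Q ≤ H ∧ ∃ g₁ : S, MulAut.conj g₁ • E ≤ H ∧
      (∀ l : ℕ, l.Prime → l ∣ Nat.card H → l = 3 ∨ l = p) ∧ Odd (Nat.card H) := by
    set N := Nat.card S with hN
    have hN0 : N ≠ 0 := Nat.card_pos.ne'
    set m := 3 ^ N.factorization 3 * p ^ N.factorization p with hm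
    have hco3p : (3 ^ N.factorization 3).Coprime (p ^ N.factorization p) :=
      Nat.Coprime.pow _ _ ((Nat.coprime_primes Nat.prime_three hp).2 (Ne.symm hp3))
    have hmN : m ∣ N := hco3p.mul_dvd_of_dvd_of_dvd (Nat.ordProj_dvd N 3) (Nat.ordProj_dvd N p)
    obtain ⟨n, hn⟩ := hmN
    have hn0 : n ≠ 0 := by rintro rfl; exact hN0 (by simpa using hn)
    have hnd : ∀ l : ℕ, l.Prime → (l = 3 ∨ l = p) → ¬ l ∣ n := by
      intro l hl hlc hd
      have h1 : l ^ N.factorization l ∣ m := by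
        rcases hlc with rfl | rfl
        · exact dvd_mul_right _ _
        · exact dvd_mul_left _ _
      have h2 : l ^ (N.factorization l + 1) ∣ N := by
        rw [pow_succ]
        exact (mul_dvd_mul h1 hd).trans (dvd_of_eq hn.symm)
      exact Nat.pow_succ_factorization_not_dvd hN0 hl h2
    have hco : m.Coprime n := Nat.Coprime.mul_left
      ((Nat.prime_three.coprime_iff_not_dvd.2 (hnd 3 Nat.prime_three (Or.inl rfl))).pow_left _)
      ((hp.coprime_iff_not_dvd.2 (hnd p hp (Or.inr rfl))).pow_left _)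
    have hsol : Group.IsSolvable S := inferInstance
    obtain ⟨H₀, hH₀⟩ := Solv.hall_exists hsol hn hco
    have hdiv : ∀ (l : ℕ) [Fact l.Prime] (K : Subgroup S), IsPGroup l K → (l = 3 ∨ l = p) →
        (Nat.card K).Coprime n := by
      intro l hl K hK hlc
      obtain ⟨i, hi⟩ := IsPGroup.iff_card.1 hK
      rw [hi]
      exact (hl.out.coprime_iff_not_dvd.2 (hnd l hl.out hlc)).pow_left i
    obtain ⟨g, hg⟩ := Solv.hall_contain hsol hn hco Q H₀ (hdiv 3 Q hQ3 (Or.inl rfl)) hH₀
    obtain ⟨g', hg'⟩ := Solv.hall_contain hsol hn hco E H₀ (hdiv p E (Local.elemAb_isPGroup hE) (Or.inr rfl)) hH₀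
    have hcardH : Nat.card ↥(MulAut.conj g • H₀) = m := by rw [card_conj, hH₀]
    refine ⟨MulAut.conj g • H₀, hg, g * g'⁻¹, ?_, fun l hl hld => ?_, ?_⟩
    · intro y hy
      have h := hg' (mem_conj_smul.1 hy)
      rw [mem_conj_smul] at h ⊢
      simpa [mul_assoc] using h
    · rw [hcardH] at hld
      rcases hl.dvd_mul.1 hld with h | h
      · exact Or.inl ((Nat.prime_dvd_prime_iff_eq hl Nat.prime_three).1 (hl.dvd_of_dvd_pow h))
      · exact Or.inr ((Nat.prime_dvd_prime_iff_eq hl hp).1 (hl.dvd_of_dvd_pow h))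
    · rw [hcardH]
      exact Odd.mul (Odd.pow (by decide)) (Odd.pow (hp.odd_of_ne_two hp2))
  have hqH : q ∈ H := hQH hqQ
  have hqg : ∀ a ∈ H, a * q * a⁻¹ ∈ H := fun a ha => mul_mem (mul_mem ha hqH) (inv_mem ha)
  have hb := hc.blk
  by_cases hall : ∀ a ∈ H, ∀ b ∈ H,
      act M (a * q * a⁻¹) * act M (b * q * b⁻¹) = act M (b * q * b⁻¹) * act M (a * q * a⁻¹)
  swap
  · push Not at hall
    obtain ⟨a, ha, b, hb', hne⟩ := hall
    obtain ⟨rfl, u, U, hWU, hU8, hbu, hu⟩ := (pair_cases (hb.conj a) (hb.conj b) (by rw [card_conj, hQM])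
      (by rw [card_conj, hQM]) hp H hHpr hHodd (hqg a ha) (hqg b hb')).resolve_left hne
    exact good_of_seven hE hE3 hWU hbu hU8 hu
  have hp5 : 5 ≤ p := by
    have := hp.two_le
    by_contra hlt
    interval_cases p <;> first | omega | norm_num at hp
  have haut : ¬ p ^ 2 ∣ Nat.card (MulAut W) := fun h => by
    have := Nat.le_of_dvd (by norm_num) (h.trans ((aut_bounds hM hWM).2.2.2 hQM))
    nlinarith
  by_cases hn : ∀ e ∈ MulAut.conj g₁ • E, MulAut.conj e • W = W
  · refine good_of_normalize hp hp2 1 (U := W) (by simp) (elem_conj hE g₁) (by rw [card_conj, hE3]) (fun e he w hw => ?_) haut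
    rw [← hn e he]
    exact mem_conj_smul.2 (by simpa [mul_assoc] using hw)
  exfalso
  push Not at hn
  obtain ⟨e, he, hne⟩ := hn
  obtain ⟨k, hk⟩ := IsPGroup.iff_orderOf.1 (Local.elemAb_isPGroup (elem_conj hE g₁)) ⟨e, he⟩
  rw [← Subgroup.orderOf_coe] at hk
  obtain ⟨D, hDe, hD, hDcard⟩ := moved_bound Nat.prime_three hp hb H hall (hEH he) hk hne
  have hDH : D ≤ H.map (act M) := by
    rw [hD, Subgroup.closure_le]
    rintro _ ⟨a, ha, rfl⟩
    exact Subgroup.mem_map_of_mem _ (hqg a ha)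
  obtain ⟨T, -, hT, hTD⟩ := exists_lift (act M) H D hDH (Local.elemAb_isPGroup hDe)
  have h := card_image_le (by norm_num) (act M) T hT (fun A _ hA => hthree A hA) (hTD ▸ hDe)
  rw [hTD] at h
  have := (Nat.pow_le_pow_right (by norm_num : 0 < 3) hp5).trans (hDcard.trans h)
  norm_num at this

end Cfsg.Agent.S4404
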