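import Cfsg.Statements.S4405
import Cfsg.Agent.Lib.Perm.MinusThirtyTwo
import Cfsg.Agent.Lib.Solv.Cores
import Cfsg.Agent.Lib.Char.Burnside

set_option autoImplicit false
open Cfsg

namespace Cfsg.Agent.S4405

open Cfsg.Agent.Perm.MinusThirtyTwo

/-- Let G be a finite group of order 320 = 64·5 whose largest normal 2-subgroup H = O₂(G) equals the Fitting subgroup F(G) and is extraspecial of order 32 containing no elementary abelian subgroup of order 8 (so H is the central product of a quaternion group and a dihedral group of order 8). If T is an involution of G outside H whose centralizer in H contains an elementary abelian subgroup of order 4, then C_H(T) itself is elementary abelian of order 4. -/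
theorem result {G : Type*} [Group G] [Finite G]
    (hG : Nat.card G = 320) (hHF : Cfsg.pCore 2 G = Cfsg.fittingSubgroup G)
    (hex : Cfsg.IsExtraspecial 2 ↥(Cfsg.pCore 2 G)) (h32 : Nat.card ↥(Cfsg.pCore 2 G) = 32)
    (hminus : ∀ A : Subgroup G, A ≤ Cfsg.pCore 2 G → Cfsg.IsElementaryAbelian 2 A → Nat.card ↥A ≤ 4)
    (T : G) (hT : orderOf T = 2) (hTH : T ∉ Cfsg.pCore 2 G)
    (V : Subgroup G) (hV : V ≤ Cfsg.pCore 2 G ⊓ Subgroup.centralizer ({T} : Set G)) (hV4 : Nat.card ↥V = 4) (hVe : Cfsg.IsElementaryAbelian 2 V) :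
    Nat.card ↥(Cfsg.pCore 2 G ⊓ Subgroup.centralizer ({T} : Set G)) = 4 ∧
      Cfsg.IsElementaryAbelian 2 (Cfsg.pCore 2 G ⊓ Subgroup.centralizer ({T} : Set G)) := by
  set H := Cfsg.pCore 2 G with hH
  haveI : H.Normal := by
    rw [hHF]; exact Cfsg.Agent.Solv.fittingSubgroup_normal
  have hsol : Group.IsSolvable G := by
    refine Cfsg.Agent.Char.isSolvable_of_two_primes (p := 2) (q := 5) Nat.prime_two (by norm_num) 320 hG
      (fun r hr hd => ?_)
    have h : r ∣ 2 ^ 6 * 5 := by norm_num; exact hd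
    rcases (hr.dvd_mul).1 h with h | h
    · exact Or.inl ((Nat.prime_dvd_prime_iff_eq hr Nat.prime_two).1 (hr.dvd_of_dvd_pow h))
    · exact Or.inr ((Nat.prime_dvd_prime_iff_eq hr (by norm_num)).1 h)
  have hC : Subgroup.centralizer (H : Set G) ≤ H := by
    rw [hHF]; exact Cfsg.Agent.Solv.centralizer_fitting_le hsol
  obtain ⟨e⟩ := exists_equiv hex h32 (fun A hA => by
    have h1 := hminus (A.map H.subtype) (Subgroup.map_subtype_le _) ⟨by
        haveI := hA.1
        exact Subgroup.map_isMulCommutative A H.subtype, by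
        rintro _ ⟨a, ha, rfl⟩
        rw [← map_pow, hA.2 a ha, map_one]⟩
    rwa [Subgroup.card_map_of_injective Subtype.val_injective] at h1)
  let μ : G →* MulAut Mo := (MulAut.congr e.symm).toMonoidHom.comp (MulAut.conjNormal (H := H))
  have hμ : ∀ g : G, ∀ x : Mo, ((e (μ g x) : H) : G) = g * (e x : G) * g⁻¹ := fun g x => by
    simp [μ, MulAut.congr]
  let χ := psi.comp μ
  have hker : χ.ker = H := by
    refine le_antisymm (fun g hg => ?_) (fun h hh => ?_)
    · have h1 : μ g ∈ psi.ker := hg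
      rw [ker_psi] at h1
      obtain ⟨m, hm⟩ := h1
      have h2 : ((e m : H) : G)⁻¹ * g ∈ H := by
        refine hC (Subgroup.mem_centralizer_iff.2 fun y hy => ?_)
        have h3 := hμ g (e.symm ⟨y, hy⟩)
        rw [← hm] at h3
        simp only [MulAut.conj_apply, map_mul, map_inv, MulEquiv.apply_symm_apply, Subgroup.coe_mul,
          Subgroup.coe_inv] at h3
        calc y * (((e m : H) : G)⁻¹ * g)
            = ((e m : H) : G)⁻¹ * (((e m : H) : G) * y * ((e m : H) : G)⁻¹) * g := by group
          _ = ((e m : H) : G)⁻¹ * g * y := by rw [h3]; group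
      have := mul_mem (e m).2 h2
      rwa [mul_inv_cancel_left] at this
    · show psi (μ h) = 1
      rw [← MonoidHom.mem_ker, ker_psi]
      refine ⟨e.symm ⟨h, hh⟩, MulEquiv.ext fun x => e.injective (Subtype.ext ?_)⟩
      rw [hμ]
      simp [MulAut.conj_apply]
  have hR10 : Nat.card χ.range = 10 := by
    have h1 := Subgroup.card_mul_index χ.ker
    rw [Subgroup.index_ker, hker, hG, h32] at h1
    omega
  haveI : Fact (Nat.Prime 5) := ⟨by norm_num⟩
  obtain ⟨c, hc⟩ := exists_prime_orderOf_dvd_card' (G := χ.range) 5 (by rw [hR10]; norm_num)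
  have hidx : (Subgroup.zpowers c).index = 2 := by
    have := Subgroup.card_mul_index (Subgroup.zpowers c)
    rw [Nat.card_zpowers, hc, hR10] at this
    omega
  have hnorm := Subgroup.normal_of_index_eq_two hidx
  have hT2 : T * T = 1 := by rw [← sq, ← hT]; exact pow_orderOf_eq_one T
  let sR : χ.range := ⟨χ T, T, rfl⟩
  set s := χ T with hs
  have hs2 : s * s = 1 := by rw [hs, ← map_mul, hT2, map_one]
  have hs1 : s ≠ 1 := fun h => hTH (hker ▸ h)
  have hmem : sR * c * sR⁻¹ ∈ Subgroup.zpowers c := hnorm.conj_mem c (Subgroup.mem_zpowers c) sR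
  rw [← mem_powers_iff_mem_zpowers] at hmem
  obtain ⟨k, hk⟩ := hmem
  have hc5 : (c : Equiv.Perm (Fin 5)) ^ 5 = 1 := by
    have h1 := pow_orderOf_eq_one c
    rw [hc] at h1
    rw [← Subgroup.coe_pow, h1, Subgroup.coe_one]
  have hc1 : (c : Equiv.Perm (Fin 5)) ≠ 1 := fun h => by
    rw [← Subgroup.coe_one (χ.range), Subtype.coe_inj] at h
    rw [h, orderOf_one] at hc
    norm_num at hc
  have hone := perm_five_facts s hs2 hs1 c hc5 hc1 ⟨k % 5, Nat.mod_lt _ (by norm_num)⟩ (by
    have h1 := congrArg Subtype.val hk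
    simp only [Subgroup.coe_pow, Subgroup.coe_mul, Subgroup.coe_inv] at h1
    show s * (c : Equiv.Perm (Fin 5)) * s = (c : Equiv.Perm (Fin 5)) ^ (k % 5)
    rw [← pow_eq_pow_mod k hc5, h1, inv_eq_of_mul_eq_one_right hs2])
  have hone' : ∃! i, psi (μ T) i = i := by
    obtain ⟨i, hi⟩ := Finset.card_eq_one.1 hone
    have hmemi : ∀ j, s j = j ↔ j = i := fun j => by
      have := Finset.ext_iff.1 hi j
      simpa using this
    exact ⟨i, (hmemi i).2 rfl, fun j hj => (hmemi j).1 hj⟩
  have hle := card_fixed_le (μ T) (by rw [← map_mul, hT2, map_one]) hone'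
  set C := H ⊓ Subgroup.centralizer ({T} : Set G) with hCdef
  have hinj : Nat.card C ≤ Nat.card {x : Mo // μ T x = x} := by
    refine Nat.card_le_card_of_injective (fun x : C => (⟨e.symm ⟨x, (Subgroup.mem_inf.1 x.2).1⟩, ?_⟩ :
      {x : Mo // μ T x = x})) ?_
    · refine e.injective (Subtype.ext ?_)
      rw [hμ, MulEquiv.apply_symm_apply]
      show T * (x : G) * T⁻¹ = (x : G)
      rw [← Subgroup.mem_centralizer_singleton_iff.1 (Subgroup.mem_inf.1 x.2).2, mul_inv_cancel_right]
    · intro x y h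
      exact Subtype.ext (congrArg Subtype.val (e.symm.injective (congrArg Subtype.val h)) :)
  have hCV : V = C := Subgroup.eq_of_le_of_card_ge hV (by rw [hV4]; exact hinj.trans hle)
  exact ⟨by rw [← hCV, hV4], hCV ▸ hVe⟩

end Cfsg.Agent.S4405
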