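import Cfsg.Statements.S4406
import Mathlib


set_option autoImplicit false
open Cfsg

namespace Cfsg.Agent.S4406

set_option synthInstance.maxSize 20000 in
set_option synthInstance.maxHeartbeats 400000 in
set_option maxHeartbeats 4000000 in
theorem diag_perm : ∀ u : Equiv.Perm (Fin 4), Equiv.Perm.sign u = 1 → u * u = 1 → u ≠ 1 →
    ∀ u' : Equiv.Perm (Fin 4), Equiv.Perm.sign u' = 1 → u' * u' = 1 → u' ≠ 1 → u' ≠ u →
    ∀ w : Equiv.Perm (Fin 4), Equiv.Perm.sign w = 1 → w * w = 1 → w ≠ 1 →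
    ∀ w' : Equiv.Perm (Fin 4), Equiv.Perm.sign w' = 1 → w' * w' = 1 → w' ≠ 1 → w' ≠ w →
    ∀ c : Equiv.Perm (Fin 4), c * c * c = 1 → c ≠ 1 →
    ∀ d : Equiv.Perm (Fin 4), d * d * d = 1 → d ≠ 1 →
    ((((c * u * c⁻¹ = u' ∧ d * w * d⁻¹ = w') ∨ (c * u * c⁻¹ = u * u' ∧ d * w * d⁻¹ = w * w')) ∧
      ((c * u' * c⁻¹ = u ∧ d * w' * d⁻¹ = w) ∨ (c * u' * c⁻¹ = u * u' ∧ d * w' * d⁻¹ = w * w'))) ∨
    (((c * u * c⁻¹ = u' ∧ d⁻¹ * w * d = w') ∨ (c * u * c⁻¹ = u * u' ∧ d⁻¹ * w * d = w * w')) ∧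
      ((c * u' * c⁻¹ = u ∧ d⁻¹ * w' * d = w) ∨ (c * u' * c⁻¹ = u * u' ∧ d⁻¹ * w' * d = w * w')))) := by
  decide +kernel

theorem v_perm : ∀ x : Equiv.Perm (Fin 4), Equiv.Perm.sign x = 1 → x * x * x * x = 1 → x * x = 1 := by
  decide +kernel

theorem v_facts (x : ↥(alternatingGroup (Fin 4))) (h : x * x * x * x = 1) : x * x = 1 :=
  Subtype.ext (v_perm x (Equiv.Perm.mem_alternatingGroup.1 x.2) (congrArg Subtype.val h))

theorem diag_facts (u : ↥(alternatingGroup (Fin 4))) (hu : u * u = 1) (hu1 : u ≠ 1)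
    (u' : ↥(alternatingGroup (Fin 4))) (hu' : u' * u' = 1) (hu'1 : u' ≠ 1) (hne : u' ≠ u)
    (w : ↥(alternatingGroup (Fin 4))) (hw : w * w = 1) (hw1 : w ≠ 1)
    (w' : ↥(alternatingGroup (Fin 4))) (hw' : w' * w' = 1) (hw'1 : w' ≠ 1) (hne' : w' ≠ w)
    (c : ↥(alternatingGroup (Fin 4))) (hc : c * c * c = 1) (hc1 : c ≠ 1)
    (d : ↥(alternatingGroup (Fin 4))) (hd : d * d * d = 1) (hd1 : d ≠ 1) :
    ((((c * u * c⁻¹ = u' ∧ d * w * d⁻¹ = w') ∨ (c * u * c⁻¹ = u * u' ∧ d * w * d⁻¹ = w * w')) ∧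
      ((c * u' * c⁻¹ = u ∧ d * w' * d⁻¹ = w) ∨ (c * u' * c⁻¹ = u * u' ∧ d * w' * d⁻¹ = w * w'))) ∨
    (((c * u * c⁻¹ = u' ∧ d⁻¹ * w * d = w') ∨ (c * u * c⁻¹ = u * u' ∧ d⁻¹ * w * d = w * w')) ∧
      ((c * u' * c⁻¹ = u ∧ d⁻¹ * w' * d = w) ∨ (c * u' * c⁻¹ = u * u' ∧ d⁻¹ * w' * d = w * w')))) := by
  have ne : ∀ {a b : ↥(alternatingGroup (Fin 4))}, a ≠ b →
      (a : Equiv.Perm (Fin 4)) ≠ (b : Equiv.Perm (Fin 4)) := fun h e => h (Subtype.ext e)
  have := diag_perm u (Equiv.Perm.mem_alternatingGroup.1 u.2) (congrArg Subtype.val hu) (ne hu1)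
    u' (Equiv.Perm.mem_alternatingGroup.1 u'.2) (congrArg Subtype.val hu') (ne hu'1) (ne hne)
    w (Equiv.Perm.mem_alternatingGroup.1 w.2) (congrArg Subtype.val hw) (ne hw1)
    w' (Equiv.Perm.mem_alternatingGroup.1 w'.2) (congrArg Subtype.val hw') (ne hw'1) (ne hne')
    c (congrArg Subtype.val hc) (ne hc1) d (congrArg Subtype.val hd) (ne hd1)
  simpa [Subtype.ext_iff] using this

theorem card_four : Nat.card ↥(alternatingGroup (Fin 4)) = 12 := by
  rw [Nat.card_eq_fintype_card, card_alternatingGroup, Fintype.card_fin]; rfl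


/-- In the direct product P = A₄ × A₄, let X be the Sylow 2-subgroup, X₁ and X₂ its intersections with the two direct factors, Q a Sylow 3-subgroup and Q₁, Q₂ its intersections with the two factors. Then every subgroup B of X of order 4 either meets X₁ or X₂ nontrivially, or is normalized by one of the two subgroups of Q of order 3 other than Q₁ and Q₂. -/
theorem result
    (X : Sylow 2 (↥(alternatingGroup (Fin 4)) × ↥(alternatingGroup (Fin 4))))
    (Q : Sylow 3 (↥(alternatingGroup (Fin 4)) × ↥(alternatingGroup (Fin 4))))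
    (B : Subgroup (↥(alternatingGroup (Fin 4)) × ↥(alternatingGroup (Fin 4)))) (hBX : B ≤ (X : Subgroup _)) (hB4 : Nat.card ↥B = 4) :
    B ⊓ ((X : Subgroup _) ⊓ Subgroup.prod ⊤ ⊥) ≠ ⊥ ∨ B ⊓ ((X : Subgroup _) ⊓ Subgroup.prod ⊥ ⊤) ≠ ⊥ ∨
      ∃ R : Subgroup (↥(alternatingGroup (Fin 4)) × ↥(alternatingGroup (Fin 4))), R ≤ (Q : Subgroup _) ∧ Nat.card ↥R = 3 ∧
        R ≠ (Q : Subgroup _) ⊓ Subgroup.prod ⊤ ⊥ ∧ R ≠ (Q : Subgroup _) ⊓ Subgroup.prod ⊥ ⊤ ∧ R ≤ Subgroup.normalizer (B : Set _) := by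
  classical
  haveI := Fact.mk Nat.prime_two
  haveI : Fact (Nat.Prime 3) := ⟨Nat.prime_three⟩
  by_contra hcon
  simp only [not_or, not_not, not_exists, not_and] at hcon
  obtain ⟨h1, h2, h3⟩ := hcon
  have hsq : ∀ z ∈ B, z.1 * z.1 = 1 ∧ z.2 * z.2 = 1 := by
    intro z hz
    have h4 : (⟨z, hz⟩ : B) ^ 4 = 1 :=
      orderOf_dvd_iff_pow_eq_one.1 ((orderOf_dvd_natCard _).trans (dvd_of_eq hB4))
    have h4' : z ^ 4 = 1 := congrArg Subtype.val h4
    have e1 : z.1 ^ 4 = 1 := congrArg Prod.fst h4'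
    have e2 : z.2 ^ 4 = 1 := congrArg Prod.snd h4'
    exact ⟨v_facts _ (by rw [← e1]; simp [pow_succ]), v_facts _ (by rw [← e2]; simp [pow_succ])⟩
  have hfst : ∀ z ∈ B, z.1 = 1 → z = 1 := fun z hz he => by
    have : z ∈ B ⊓ ((X : Subgroup _) ⊓ Subgroup.prod ⊥ ⊤) :=
      ⟨hz, hBX hz, Subgroup.mem_bot.2 he, Subgroup.mem_top _⟩
    rwa [h2, Subgroup.mem_bot] at this
  have hsnd : ∀ z ∈ B, z.2 = 1 → z = 1 := fun z hz he => by
    have : z ∈ B ⊓ ((X : Subgroup _) ⊓ Subgroup.prod ⊤ ⊥) :=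
      ⟨hz, hBX hz, Subgroup.mem_top _, Subgroup.mem_bot.2 he⟩
    rwa [h1, Subgroup.mem_bot] at this
  haveI : Fintype B := Fintype.ofFinite B
  obtain ⟨⟨s, hs⟩, hs1⟩ : ∃ b : B, b ≠ 1 := by
    haveI : Nontrivial B := Finite.one_lt_card_iff_nontrivial.1 (by omega)
    exact exists_ne 1
  obtain ⟨⟨t, ht⟩, ht1, hts⟩ : ∃ b : B, b ≠ 1 ∧ b ≠ ⟨s, hs⟩ := by
    by_contra h
    push Not at h
    have hsur : Function.Surjective (![1, ⟨s, hs⟩] : Fin 2 → B) := fun b => by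
      by_cases hb : b = 1
      · exact ⟨0, by simp [hb]⟩
      · exact ⟨1, by simp [h b hb]⟩
    have := Nat.card_le_card_of_surjective _ hsur
    rw [hB4, Nat.card_fin] at this
    omega
  have hs1' : s ≠ 1 := fun e => hs1 (Subtype.ext e)
  have ht1' : t ≠ 1 := fun e => ht1 (Subtype.ext e)
  have hts' : t ≠ s := fun e => hts (Subtype.ext e)
  have hinvol : ∀ z ∈ B, z * z = 1 := fun z hz => Prod.ext (hsq z hz).1 (hsq z hz).2
  have hne1 : t.1 ≠ s.1 := fun e => hts' (mul_inv_eq_one.1 (hfst _ (B.mul_mem ht (B.inv_mem hs)) (by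
    show t.1 * s.1⁻¹ = 1; rw [e, mul_inv_cancel])))
  have hne2 : t.2 ≠ s.2 := fun e => hts' (mul_inv_eq_one.1 (hsnd _ (B.mul_mem ht (B.inv_mem hs)) (by
    show t.2 * s.2⁻¹ = 1; rw [e, mul_inv_cancel])))
  have hst : s * t ∈ B := B.mul_mem hs ht
  have hBmem : ∀ z ∈ B, z = 1 ∨ z = s ∨ z = t ∨ z = s * t := by
    intro z hz
    by_contra hz'
    push Not at hz'
    let f : Fin 5 → B := ![1, ⟨s, hs⟩, ⟨t, ht⟩, ⟨s * t, hst⟩, ⟨z, hz⟩]
    have hst1 : s * t ≠ 1 := fun e => hts' (mul_left_cancel (e.trans (hinvol s hs).symm))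
    have hsts : s * t ≠ s := fun e => ht1' (mul_eq_left.1 e)
    have hstt : s * t ≠ t := fun e => hs1' (mul_eq_right.1 e)
    have hnd : [1, s, t, s * t, z].Nodup := by
      simp [hs1'.symm, ht1'.symm, hts'.symm, hst1.symm, hsts.symm, hstt.symm, hz'.1.symm,
        hz'.2.1.symm, hz'.2.2.1.symm, hz'.2.2.2.symm]
    have hf : Function.Injective f := by
      intro i j e
      have e' : [1, s, t, s * t, z][(i : ℕ)]'(by simp) = [1, s, t, s * t, z][(j : ℕ)]'(by simp) := by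
        have := congrArg Subtype.val e
        fin_cases i <;> fin_cases j <;> simpa [f] using this
      exact Fin.ext ((List.Nodup.getElem_inj_iff hnd).1 e')
    have := Nat.card_le_card_of_injective f hf
    rw [hB4, Nat.card_fin] at this
    omega
  -- a generator of each factor of the Sylow three-subgroup
  have hQ9 : Nat.card (Q : Subgroup (↥(alternatingGroup (Fin 4)) × ↥(alternatingGroup (Fin 4)))) = 9 := by
    rw [Q.card_eq_multiplicity, Nat.card_prod, card_four]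
    have h144 : (12 * 12 : ℕ).factorization 3 = 2 := by
      rw [show 12 * 12 = 3 ^ 2 * 16 by norm_num, Nat.factorization_mul (by norm_num) (by norm_num),
        Finsupp.add_apply, Nat.Prime.factorization_pow (by norm_num), Finsupp.single_eq_same,
        Nat.factorization_eq_zero_of_not_dvd (by norm_num)]
    rw [h144]; norm_num
  have hker : ∀ f : ↥(alternatingGroup (Fin 4)) × ↥(alternatingGroup (Fin 4)) →* ↥(alternatingGroup (Fin 4)), ∃ z ∈ (Q : Subgroup (↥(alternatingGroup (Fin 4)) × ↥(alternatingGroup (Fin 4)))), f z = 1 ∧ z ≠ 1 ∧ z ^ 3 = 1 := by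
    intro f
    let g := f.comp (Q : Subgroup (↥(alternatingGroup (Fin 4)) × ↥(alternatingGroup (Fin 4)))).subtype
    have hr : Nat.card g.range ∣ 3 := by
      have h9 : Nat.card g.range ∣ 9 := hQ9 ▸ Subgroup.card_range_dvd g
      have h12 : Nat.card g.range ∣ 12 := card_four ▸ Subgroup.card_subgroup_dvd_card g.range
      exact Nat.dvd_gcd h9 h12
    have hk3 : 3 ∣ Nat.card g.ker := by
      have h := g.ker.card_mul_index
      rw [Subgroup.index_ker, hQ9] at h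
      rcases (Nat.dvd_prime (by norm_num)).1 hr with e | e <;> rw [e] at h <;> omega
    obtain ⟨z, hz⟩ := exists_prime_orderOf_dvd_card' (G := g.ker) 3 hk3
    refine ⟨((z : (Q : Subgroup (↥(alternatingGroup (Fin 4)) × ↥(alternatingGroup (Fin 4))))) : ↥(alternatingGroup (Fin 4)) × ↥(alternatingGroup (Fin 4))), (z : (Q : Subgroup (↥(alternatingGroup (Fin 4)) × ↥(alternatingGroup (Fin 4))))).2, z.2, fun e => ?_, ?_⟩
    · rw [show z = 1 from Subtype.ext (Subtype.ext e), orderOf_one] at hz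
      exact absurd hz (by norm_num)
    · have := pow_orderOf_eq_one z
      rw [hz] at this
      exact congrArg (fun w : g.ker => ((w : (Q : Subgroup (↥(alternatingGroup (Fin 4)) × ↥(alternatingGroup (Fin 4))))) : ↥(alternatingGroup (Fin 4)) × ↥(alternatingGroup (Fin 4)))) this
  obtain ⟨zc, hzcQ, hzc, hzc1, hzc3⟩ := hker (MonoidHom.snd ↥(alternatingGroup (Fin 4)) ↥(alternatingGroup (Fin 4)))
  obtain ⟨zd, hzdQ, hzd, hzd1, hzd3⟩ := hker (MonoidHom.fst ↥(alternatingGroup (Fin 4)) ↥(alternatingGroup (Fin 4)))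
  have hc : zc = (zc.1, 1) := Prod.ext rfl hzc
  have hd : zd = (1, zd.2) := Prod.ext hzd rfl
  set c := zc.1
  set d := zd.2
  have hc1 : c ≠ 1 := fun e => hzc1 (Prod.ext e hzc)
  have hd1 : d ≠ 1 := fun e => hzd1 (Prod.ext hzd e)
  have hc3 : c * c * c = 1 := by rw [← pow_three']; exact congrArg Prod.fst hzc3
  have hd3 : d * d * d = 1 := by rw [← pow_three']; exact congrArg Prod.snd hzd3
  have finish : ∀ e : ↥(alternatingGroup (Fin 4)), (1, e) ∈ (Q : Subgroup (↥(alternatingGroup (Fin 4)) × ↥(alternatingGroup (Fin 4)))) → e * e * e = 1 → e ≠ 1 →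
      ((c, e) * s * (c, e)⁻¹ = t ∨ (c, e) * s * (c, e)⁻¹ = s * t) →
      ((c, e) * t * (c, e)⁻¹ = s ∨ (c, e) * t * (c, e)⁻¹ = s * t) → False := by
    intro e he he3 he1 hs' ht'
    set r : ↥(alternatingGroup (Fin 4)) × ↥(alternatingGroup (Fin 4)) := (c, e)
    have hr3 : r ^ 3 = 1 := Prod.ext (by rw [Prod.pow_fst, pow_three']; exact hc3)
      (by rw [Prod.pow_snd, pow_three']; exact he3)
    have hr1 : r ≠ 1 := fun h => hc1 (congrArg Prod.fst h)
    have hrQ : r ∈ (Q : Subgroup (↥(alternatingGroup (Fin 4)) × ↥(alternatingGroup (Fin 4)))) := by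
      have := (Q : Subgroup (↥(alternatingGroup (Fin 4)) × ↥(alternatingGroup (Fin 4)))).mul_mem (hc ▸ hzcQ : (c, (1 : ↥(alternatingGroup (Fin 4)))) ∈ (Q : Subgroup (↥(alternatingGroup (Fin 4)) × ↥(alternatingGroup (Fin 4))))) he
      simpa [r] using this
    have hin : ∀ z ∈ B, r * z * r⁻¹ ∈ B := by
      intro z hz
      rcases hBmem z hz with rfl | rfl | rfl | rfl
      · simp [B.one_mem]
      · rcases hs' with h | h <;> rw [h]
        exacts [ht, hst]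
      · rcases ht' with h | h <;> rw [h]
        exacts [hs, hst]
      · rw [show r * (s * t) * r⁻¹ = (r * s * r⁻¹) * (r * t * r⁻¹) by group]
        refine B.mul_mem ?_ ?_
        · rcases hs' with h | h <;> rw [h]
          exacts [ht, hst]
        · rcases ht' with h | h <;> rw [h]
          exacts [hs, hst]
    have hcard : Nat.card (Subgroup.zpowers r) = 3 := by
      rw [Nat.card_zpowers]; exact orderOf_eq_prime hr3 hr1
    refine h3 (Subgroup.zpowers r) (Subgroup.zpowers_le.2 hrQ) hcard ?_ ?_ (Subgroup.zpowers_le.2 ?_)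
    · intro h
      have h' := (Subgroup.mem_inf.1 (h ▸ Subgroup.mem_zpowers r)).2
      exact he1 (Subgroup.mem_bot.1 h'.2)
    · intro h
      have h' := (Subgroup.mem_inf.1 (h ▸ Subgroup.mem_zpowers r)).2
      exact hc1 (Subgroup.mem_bot.1 h'.1)
    · rw [Subgroup.mem_normalizer_iff]
      refine fun z => ⟨hin z, fun hz => ?_⟩
      have := hin _ (hin _ hz)
      rwa [show r * (r * (r * z * r⁻¹) * r⁻¹) * r⁻¹ = r ^ 3 * z * (r ^ 3)⁻¹ by
        simp [pow_three, mul_assoc], hr3, one_mul, inv_one, mul_one] at this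
  have key := diag_facts s.1 (hsq s hs).1 (fun e => hs1' (hfst s hs e)) t.1 (hsq t ht).1
    (fun e => ht1' (hfst t ht e)) hne1 s.2 (hsq s hs).2 (fun e => hs1' (hsnd s hs e)) t.2 (hsq t ht).2
    (fun e => ht1' (hsnd t ht e)) hne2 c hc3 hc1 d hd3 hd1
  rcases key with ⟨ka, kb⟩ | ⟨ka, kb⟩
  · refine finish d (hd ▸ hzdQ) hd3 hd1 ?_ ?_
    · exact ka.imp (fun h => Prod.ext h.1 h.2) (fun h => Prod.ext h.1 h.2)
    · exact kb.imp (fun h => Prod.ext h.1 h.2) (fun h => Prod.ext h.1 h.2)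
  · refine finish d⁻¹ ?_ ?_ (inv_ne_one.2 hd1) ?_ ?_
    · have := (Q : Subgroup (↥(alternatingGroup (Fin 4)) × ↥(alternatingGroup (Fin 4)))).inv_mem (hd ▸ hzdQ : ((1 : ↥(alternatingGroup (Fin 4))), d) ∈ (Q : Subgroup (↥(alternatingGroup (Fin 4)) × ↥(alternatingGroup (Fin 4)))))
      simpa using this
    · rw [← _root_.mul_inv_rev, ← _root_.mul_inv_rev, show d * (d * d) = d * d * d from (mul_assoc _ _ _).symm, hd3, inv_one]
    · refine ka.imp (fun h => Prod.ext h.1 ?_) (fun h => Prod.ext h.1 ?_) <;>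
        simpa [inv_inv] using h.2
    · refine kb.imp (fun h => Prod.ext h.1 ?_) (fun h => Prod.ext h.1 ?_) <;>
        simpa [inv_inv] using h.2

end Cfsg.Agent.S4406
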