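import Cfsg.Prelude.Def_Transfer
import Mathlib

/-!
# The faithful irreducible module of `3² ⋊ D₈` over the field with two elements

The module is `W ⊕ rW` with `W` the fixed space of a subgroup of order 3, of dimension 2.
-/

set_option autoImplicit false
open Cfsg

namespace Cfsg.Agent.S4407

universe u w

variable {S : Type u} [Group S] {M : Type w} [AddCommGroup M] [Module (ZMod 2) M]

theorem add_self_eq (x : M) : x + x = 0 := by
  have h : (1 : ZMod 2) + 1 = 0 := by decide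
  have h2 : ((1 : ZMod 2) + 1) • x = x + x := by rw [add_smul, one_smul]
  rw [← h2, h, zero_smul]

theorem neg_eq_self' (x : M) : -x = x := neg_eq_of_add_eq_zero_left (add_self_eq x)

/-- The configuration: generators of the complement and of the normal subgroup. -/
structure Cfg (ρ : Representation (ZMod 2) S M) (r s a b : S) : Prop where
  r4 : r ^ 4 = 1
  s2 : s ^ 2 = 1
  srs : s * r * s = r⁻¹
  a3 : a ^ 3 = 1
  b3 : b ^ 3 = 1
  hab : a * b = b * a
  sa : s * a * s⁻¹ = a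
  sb : s * b * s⁻¹ = b⁻¹
  ra : r * a * r⁻¹ = b
  rb : r * b * r⁻¹ = a⁻¹
  gen : Subgroup.closure ({r, s, a, b} : Set S) = ⊤
  fpf : ∀ x, ρ a x = x → ρ b x = x → x = 0
  irr : ∀ N : Submodule (ZMod 2) M, (∀ g, ∀ m ∈ N, ρ g m ∈ N) → N = ⊥ ∨ N = ⊤

variable {ρ : Representation (ZMod 2) S M} {r s a b : S}

theorem invariant_of_gen (h : Cfg ρ r s a b) [Finite S] (N : Submodule (ZMod 2) M)
    (hN : ∀ g ∈ ({r, s, a, b} : Set S), ∀ m ∈ N, ρ g m ∈ N) : ∀ g, ∀ m ∈ N, ρ g m ∈ N := by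
  intro g
  have hg : g ∈ Submonoid.closure ({r, s, a, b} : Set S) := by
    rw [← Subgroup.closure_toSubmonoid_of_finite, Subgroup.mem_toSubmonoid, h.gen]
    exact Subgroup.mem_top g
  induction hg using Submonoid.closure_induction with
  | mem x hx => exact hN x hx
  | one => intro m hm; rwa [map_one]
  | mul x y _ _ hx hy => intro m hm; rw [map_mul]; exact hx _ (hy m hm)

/-- The module has order 16 and the two four-subgroups have 4 and 2 fixed points. -/
theorem structure_thm (h : Cfg ρ r s a b) [Finite S] [Finite M] (w0 : M) (hw0 : w0 ≠ 0) (hw0a : ρ a w0 = w0) :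
    Nat.card M = 16 ∧ (∃ x y : M, x ≠ 0 ∧ y ≠ 0 ∧ x ≠ y ∧ (ρ (r ^ 2) x = x ∧ ρ s x = x) ∧ (ρ (r ^ 2) y = y ∧ ρ s y = y)) ∧
      Nat.card {m : M // ρ (r ^ 2) m = m ∧ ρ (s * r) m = m} = 2 := by
  classical
  have happ : ∀ (g k : S) (x : M), ρ (g * k) x = ρ g (ρ k x) := fun g k x => by rw [map_mul]; rfl
  have hone : ∀ x : M, ρ 1 x = x := fun x => by rw [map_one]; rfl
  -- group relations
  have hrinv : r⁻¹ = r ^ 3 := inv_eq_of_mul_eq_one_right (by rw [← pow_succ', h.r4])
  have hsinv : s⁻¹ = s := inv_eq_of_mul_eq_one_right (by rw [← pow_two, h.s2])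
  have hs_r : s * r = r⁻¹ * s := by
    rw [← h.srs, mul_assoc, mul_assoc, ← pow_two, h.s2, mul_one]
  have hr2a : r ^ 2 * a * (r ^ 2)⁻¹ = a⁻¹ := by
    rw [show r ^ 2 * a * (r ^ 2)⁻¹ = r * (r * a * r⁻¹) * r⁻¹ by rw [pow_two]; group, h.ra, h.rb]
  have hr2b : r ^ 2 * b * (r ^ 2)⁻¹ = b⁻¹ := by
    rw [show r ^ 2 * b * (r ^ 2)⁻¹ = r * (r * b * r⁻¹) * r⁻¹ by rw [pow_two]; group, h.rb,
      show r * a⁻¹ * r⁻¹ = (r * a * r⁻¹)⁻¹ by group, h.ra]
  set z := r ^ 2 with hz
  set t := z * s with ht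
  have hz2 : z * z = 1 := by rw [hz, ← pow_add, h.r4]
  have hsz : s * z = z * s := by
    rw [hz, show s * r ^ 2 = s * r * r by rw [pow_two, mul_assoc], hs_r, mul_assoc, hs_r, ← mul_assoc, hrinv, ← pow_add,
      show 3 + 3 = 4 + 2 from rfl, pow_add, h.r4, one_mul]
  -- the fixed space of `a`
  let W : Submodule (ZMod 2) M := LinearMap.ker (ρ a - 1)
  have hW : ∀ x, x ∈ W ↔ ρ a x = x := fun x => by simp [W, LinearMap.mem_ker, sub_eq_zero]
  have hainv : ∀ x, ρ a x = x → ρ a⁻¹ x = x := fun x hx => by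
    conv_lhs => rw [← hx]
    rw [← happ, inv_mul_cancel, hone]
  have hWb : ∀ x ∈ W, ρ b x ∈ W := fun x hx => by
    rw [hW] at hx ⊢; rw [← happ, h.hab, happ, hx]
  have hWs : ∀ x ∈ W, ρ s x ∈ W := fun x hx => by
    rw [hW] at hx ⊢
    rw [← happ, show a * s = s * a by conv_lhs => rw [← h.sa, inv_mul_cancel_right], happ, hx]
  have hWz : ∀ x ∈ W, ρ z x ∈ W := fun x hx => by
    rw [hW] at hx ⊢
    rw [← happ, show a * z = z * a⁻¹ by rw [show z * a⁻¹ = (z * a * z⁻¹)⁻¹ * z by group, hr2a, inv_inv], happ, hainv x hx]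
  have hb2 : ∀ x ∈ W, ρ b (ρ b x) = ρ b x + x := by
    intro x hx
    have hfix : ρ b (x + ρ b x + ρ b (ρ b x)) = x + ρ b x + ρ b (ρ b x) := by
      have h3 : ρ b (ρ b (ρ b x)) = x := by
        rw [← happ, ← happ, show b * b * b = 1 by rw [← pow_two, ← pow_succ, h.b3], hone]
      rw [map_add, map_add, h3]; abel
    have h0 := h.fpf _ ((hW _).1 (W.add_mem (W.add_mem hx (hWb x hx)) (hWb _ (hWb x hx)))) hfix
    have := eq_neg_of_add_eq_zero_right h0
    rw [this, neg_eq_self']; abel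
  -- every proper `W₀` stable under `b, s, z` gives an invariant subspace
  have hspan : ∀ W0 : Submodule (ZMod 2) M, W0 ≤ W → W0 ≠ ⊥ → (∀ x ∈ W0, ρ b x ∈ W0) → (∀ x ∈ W0, ρ s x ∈ W0) →
      (∀ x ∈ W0, ρ z x ∈ W0) → W0 ⊔ W0.map (ρ r) = ⊤ := by
    intro W0 hle hne hb hs hz0
    refine (h.irr _ (invariant_of_gen h _ ?_)).resolve_left fun hbot => hne (eq_bot_iff.2 (hbot ▸ le_sup_left))
    intro g hg m hm
    obtain ⟨x, hx, _, ⟨y, hy, rfl⟩, rfl⟩ := Submodule.mem_sup.1 hm
    rw [map_add]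
    have hax : ρ a x = x := (hW x).1 (hle hx)
    have hay : ρ a y = y := (hW y).1 (hle hy)
    simp only [Set.mem_insert_iff, Set.mem_singleton_iff] at hg
    rcases hg with rfl | rfl | rfl | rfl
    · rw [add_comm]
      exact Submodule.add_mem_sup (by rw [← happ, ← pow_two]; exact hz0 y hy) ⟨x, hx, rfl⟩
    · refine Submodule.add_mem_sup (hs x hx) ⟨ρ z (ρ g y), hz0 _ (hs y hy), ?_⟩
      rw [← happ, ← happ, ← happ, hs_r, hrinv, hz, show r ^ 3 = r * r ^ 2 from pow_succ' r 2]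
    · refine Submodule.add_mem_sup (hax.symm ▸ hx) ⟨ρ b (ρ b y), hb _ (hb y hy), ?_⟩
      rw [← happ, ← happ, ← happ, mul_assoc r b b, show r * (b * b) = g * r by
        rw [show b * b = b⁻¹ from eq_inv_of_mul_eq_one_left (by rw [← pow_two, ← pow_succ, h.b3]),
          show r * b⁻¹ = (r * b * r⁻¹)⁻¹ * r by group, h.rb, inv_inv]]
    · refine Submodule.add_mem_sup (hb x hx) ⟨y, hy, ?_⟩
      rw [← happ, show g * r = r * a by rw [← h.ra]; group, happ, hay]
  have hwne : W ≠ ⊥ := fun hb' => hw0 (by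
    have : w0 ∈ W := (hW w0).2 hw0a
    rwa [hb', Submodule.mem_bot] at this)
  have hdisj : ∀ x ∈ W, ∀ y ∈ W, x + ρ r y = 0 → x = 0 ∧ y = 0 := by
    intro x hx y hy hxy
    have he : x = ρ r y := by rw [← neg_eq_self' (ρ r y)]; exact eq_neg_of_add_eq_zero_left hxy
    have hbx : ρ b x = x := by
      rw [he, ← happ, show b * r = r * a by rw [← h.ra]; group, happ, (hW y).1 hy]
    have hx0 := h.fpf x ((hW x).1 hx) hbx
    refine ⟨hx0, ?_⟩
    have h1 := congrArg (ρ r⁻¹) (he.symm.trans hx0)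
    rwa [← happ, inv_mul_cancel, hone, map_zero] at h1
  -- `t` fixes `W`
  have htW : ∀ x ∈ W, ρ t x = x := by
    let W0 : Submodule (ZMod 2) M := W ⊓ LinearMap.ker (ρ t - 1)
    have hW0 : ∀ x, x ∈ W0 ↔ x ∈ W ∧ ρ t x = x := fun x => by simp [W0, LinearMap.mem_ker, sub_eq_zero]
    have hcomm : ∀ g : S, g * t = t * g → ∀ x, ρ t x = x → ρ t (ρ g x) = ρ g x := fun g hg x hx => by
      rw [← happ, ← hg, happ, hx]
    have htinv : t⁻¹ = t := by rw [ht, mul_inv_rev, hsinv, show z⁻¹ = z from inv_eq_of_mul_eq_one_right hz2, hsz]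
    have htb : b * t = t * b := by
      have : t * b * t⁻¹ = b := by
        rw [ht, show z * s * b * (z * s)⁻¹ = z * (s * b * s⁻¹) * z⁻¹ by group, h.sb,
          show z * b⁻¹ * z⁻¹ = (z * b * z⁻¹)⁻¹ by group, hr2b, inv_inv]
      conv_lhs => rw [← this, inv_mul_cancel_right]
    have hts : s * t = t * s := by rw [ht, ← mul_assoc, hsz]
    have htz : z * t = t * z := by rw [ht, mul_assoc z s, hsz]
    have hne : W0 ≠ ⊥ := by
      intro hb'
      refine hwne (eq_bot_iff.2 fun x hx => ?_)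
      have h1 : x + ρ t x ∈ W0 := (hW0 _).2 ⟨W.add_mem hx (by rw [ht, happ]; exact hWz _ (hWs x hx)), by
        rw [map_add, ← happ]
        conv_lhs => arg 2; rw [show t * t = 1 by rw [← mul_inv_cancel t, htinv], hone]
        rw [add_comm]⟩
      rw [hb', Submodule.mem_bot] at h1
      have hfix : x ∈ W0 := (hW0 x).2 ⟨hx, by
        rw [eq_neg_of_add_eq_zero_right h1, neg_eq_self']⟩
      rwa [hb'] at hfix
    have htop := hspan W0 inf_le_left hne (fun x hx => (hW0 _).2 ⟨hWb x ((hW0 x).1 hx).1, hcomm b htb x ((hW0 x).1 hx).2⟩)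
      (fun x hx => (hW0 _).2 ⟨hWs x ((hW0 x).1 hx).1, hcomm s hts x ((hW0 x).1 hx).2⟩)
      (fun x hx => (hW0 _).2 ⟨hWz x ((hW0 x).1 hx).1, hcomm z htz x ((hW0 x).1 hx).2⟩)
    intro x hx
    obtain ⟨x', hx', _, ⟨y, hy, rfl⟩, hxy⟩ := Submodule.mem_sup.1 (htop.ge (Submodule.mem_top (x := x)))
    have h1 := hdisj (x + x') (W.add_mem hx ((hW0 x').1 hx').1) y ((hW0 y).1 hy).1 (by
      rw [← hxy, show x' + ρ r y + x' + ρ r y = (x' + ρ r y) + (x' + ρ r y) by abel, add_self_eq])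
    rw [h1.2, map_zero, add_zero] at hxy
    exact hxy ▸ ((hW0 x').1 hx').2
  have hzs : ∀ x ∈ W, ρ z x = ρ s x := fun x hx => by
    conv_rhs => rw [← htW x hx]
    rw [← happ, ht, ← mul_assoc, hsz, mul_assoc, ← pow_two, h.s2, mul_one]
  -- a fixed vector of `s` in `W`
  obtain ⟨v, hvW, hv0, hvs⟩ : ∃ v ∈ W, v ≠ 0 ∧ ρ s v = v := by
    obtain ⟨x, hx, hx0⟩ := Submodule.exists_mem_ne_zero_of_ne_bot hwne
    by_cases hs : x + ρ s x = 0
    · exact ⟨x, hx, hx0, by rw [eq_neg_of_add_eq_zero_right hs, neg_eq_self']⟩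
    · refine ⟨_, W.add_mem hx (hWs x hx), hs, ?_⟩
      rw [map_add, ← happ, ← pow_two, h.s2, hone, add_comm]
  have hsbv : ρ s (ρ b v) = v + ρ b v := by
    rw [← happ, show s * b = b⁻¹ * s by rw [← h.sb, inv_mul_cancel_right], happ, hvs,
      show b⁻¹ = b * b from inv_eq_of_mul_eq_one_right (by rw [← mul_assoc, ← pow_two, ← pow_succ, h.b3]), happ,
      hb2 v hvW, add_comm]
  let V0 : Submodule (ZMod 2) M := Submodule.span (ZMod 2) {v, ρ b v}
  have hV0W : V0 ≤ W := Submodule.span_le.2 (by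
    rintro x (rfl | rfl)
    · exact hvW
    · exact hWb v hvW)
  have hV0mem : ∀ x, x ∈ V0 ↔ ∃ i j : ZMod 2, i • v + j • ρ b v = x := fun x => Submodule.mem_span_pair
  have hlin : ∀ g : S, ρ g v ∈ V0 → ρ g (ρ b v) ∈ V0 → ∀ x ∈ V0, ρ g x ∈ V0 := by
    intro g h1 h2 x hx
    obtain ⟨i, j, rfl⟩ := (hV0mem x).1 hx
    rw [map_add, map_smul, map_smul]
    exact V0.add_mem (V0.smul_mem _ h1) (V0.smul_mem _ h2)
  have hv1 : v ∈ V0 := Submodule.subset_span (Set.mem_insert _ _)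
  have hv2 : ρ b v ∈ V0 := Submodule.subset_span (Set.mem_insert_of_mem _ rfl)
  have htop := hspan V0 hV0W (fun hb' => hv0 (by rwa [hb', Submodule.mem_bot] at hv1))
    (hlin b hv2 (by rw [hb2 v hvW]; exact V0.add_mem hv2 hv1))
    (hlin s (hvs.symm ▸ hv1) (by rw [hsbv]; exact V0.add_mem hv1 hv2))
    (hlin z (by rw [hzs v hvW, hvs]; exact hv1) (by rw [hzs _ (hWb v hvW), hsbv]; exact V0.add_mem hv1 hv2))
  have hbv : ρ b v ≠ v := fun hb' => hv0 (h.fpf v ((hW v).1 hvW) hb')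
  have hind : ∀ i j : ZMod 2, i • v + j • ρ b v = 0 → i = 0 ∧ j = 0 := by
    intro i j hij
    have h01 : ∀ c : ZMod 2, c = 0 ∨ c = 1 := by decide
    rcases h01 i with rfl | rfl <;> rcases h01 j with rfl | rfl <;> simp only [zero_smul, one_smul, zero_add, add_zero] at hij
    · exact ⟨rfl, rfl⟩
    · exact absurd (congrArg (ρ b⁻¹) hij) (by rw [← happ, inv_mul_cancel, hone, map_zero]; exact hv0)
    · exact absurd hij hv0
    · exact absurd (eq_neg_of_add_eq_zero_right hij) (by rw [neg_eq_self']; exact hbv)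
  let f : (Fin 4 → ZMod 2) → M := fun c => (c 0 • v + c 1 • ρ b v) + ρ r (c 2 • v + c 3 • ρ b v)
  have hmemW : ∀ i j : ZMod 2, i • v + j • ρ b v ∈ W := fun i j => hV0W ((hV0mem _).2 ⟨i, j, rfl⟩)
  have hf : Function.Bijective f := by
    refine ⟨fun c d hcd => ?_, fun x => ?_⟩
    · have h1 : f c + f d = 0 := by rw [hcd]; exact add_self_eq _
      have h2 := hdisj ((c 0 + d 0) • v + (c 1 + d 1) • ρ b v) (hmemW _ _) ((c 2 + d 2) • v + (c 3 + d 3) • ρ b v)
        (hmemW _ _) (by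
          rw [← h1]
          simp only [f, add_smul, map_add]
          abel)
      have h3 := hind _ _ h2.1
      have h4 := hind _ _ h2.2
      have key : ∀ i j : ZMod 2, i + j = 0 → i = j := by decide
      funext k
      fin_cases k
      · exact key _ _ h3.1
      · exact key _ _ h3.2
      · exact key _ _ h4.1
      · exact key _ _ h4.2
    · obtain ⟨x1, hx1, _, ⟨y, hy, rfl⟩, rfl⟩ := Submodule.mem_sup.1 (htop.ge (Submodule.mem_top (x := x)))
      obtain ⟨i, j, rfl⟩ := (hV0mem x1).1 hx1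
      obtain ⟨k, l, rfl⟩ := (hV0mem y).1 hy
      exact ⟨![i, j, k, l], by simp [f]⟩
  -- action on the summand `rW`
  have hsr : ∀ y ∈ W, ρ s (ρ r y) = ρ r y := fun y hy => by
    rw [← happ, hs_r, hrinv, show r ^ 3 * s = r * t by rw [ht, hz, ← mul_assoc]; group, happ, htW y hy]
  have hzr : ∀ y ∈ W, ρ z (ρ r y) = ρ r (ρ s y) := fun y hy => by
    rw [← happ, show z * r = r * z by rw [hz]; group, happ, hzs y hy]
  refine ⟨?_, ⟨v, ρ r v, hv0, ?_, ?_, ⟨by rw [hzs v hvW, hvs], hvs⟩, ⟨by rw [hzr v hvW, hvs], hsr v hvW⟩⟩, ?_⟩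
  · rw [← Nat.card_congr (Equiv.ofBijective f hf), Nat.card_eq_fintype_card]
    simp
  · intro hrv
    exact hv0 ((hdisj 0 W.zero_mem v hvW (by rw [hrv, zero_add])).2)
  · intro hrv
    exact hv0 ((hdisj v hvW v hvW (by rw [← hrv]; exact add_self_eq v)).1)
  · have hset : ∀ m, (ρ z m = m ∧ ρ (s * r) m = m) ↔ (m = 0 ∨ m = v + ρ r v) := by
      intro m
      constructor
      · rintro ⟨h1, h2⟩
        obtain ⟨x, hx, _, ⟨y, hy, rfl⟩, rfl⟩ := Submodule.mem_sup.1 (htop.ge (Submodule.mem_top (x := m)))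
        have hxW := hV0W hx
        have hyW := hV0W hy
        rw [map_add, happ s r x, hsr x hxW, show ρ (s * r) (ρ r y) = y by
          rw [← happ, mul_assoc, ← pow_two, ← hz, happ, hzs y hyW, ← happ, ← pow_two, h.s2, hone]] at h2
        have h3 := hdisj (x + y) (W.add_mem hxW hyW) (x + y) (W.add_mem hxW hyW) (by
          rw [map_add, show x + y + (ρ r x + ρ r y) = (x + ρ r y) + (ρ r x + y) by abel, h2, add_self_eq])
        have hxy : x = y := by rw [← neg_eq_self' y]; exact eq_neg_of_add_eq_zero_left h3.1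
        subst hxy
        rw [map_add, hzs x hxW, hzr x hxW] at h1
        have h4 := hdisj (ρ s x + x) (W.add_mem (hWs x hxW) hxW) (ρ s x + x) (W.add_mem (hWs x hxW) hxW) (by
          rw [map_add, show ρ s x + x + (ρ r (ρ s x) + ρ r x) = (ρ s x + ρ r (ρ s x)) + (x + ρ r x) by abel, h1,
            add_self_eq])
        obtain ⟨i, j, rfl⟩ := (hV0mem x).1 hx
        rw [map_add, map_smul, map_smul, hvs, hsbv, smul_add,
          show i • v + (j • v + j • ρ b v) + (i • v + j • ρ b v) = j • v + ((i • v + i • v) + (j • ρ b v + j • ρ b v)) by abel,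
          add_self_eq, add_self_eq, add_zero, add_zero, smul_eq_zero] at h4
        obtain rfl := h4.1.resolve_right hv0
        have h01 : ∀ c : ZMod 2, c = 0 ∨ c = 1 := by decide
        rcases h01 i with rfl | rfl
        · left; simp
        · right; simp
      · rintro (rfl | rfl)
        · exact ⟨map_zero _, map_zero _⟩
        · refine ⟨by rw [map_add, hzs v hvW, hzr v hvW, hvs], ?_⟩
          rw [map_add, happ s r v, hsr v hvW, ← happ, mul_assoc, ← pow_two, ← hz, happ, hzs v hvW, ← happ, ← pow_two,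
            h.s2, hone, add_comm]
    have hne : (0 : M) ≠ v + ρ r v := fun he => hv0 (hdisj v hvW v hvW he.symm).1
    rw [Nat.card_congr (Equiv.subtypeEquivRight hset)]
    exact Nat.card_coe_set_eq ({0, v + ρ r v} : Set M) |>.trans (Set.ncard_pair hne)

/-- The facts about the dihedral group of order eight that are needed. -/
theorem d4_facts :
    (∀ x : DihedralGroup 4, x = 1 ∨ x = DihedralGroup.r 1 ∨ x = DihedralGroup.r 2 ∨ x = DihedralGroup.r 3 ∨
      x = DihedralGroup.sr 0 ∨ x = DihedralGroup.sr 1 ∨ x = DihedralGroup.sr 2 ∨ x = DihedralGroup.sr 3) ∧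
    (∀ x y : DihedralGroup 4, x ^ 2 = 1 → y ^ 2 = 1 → (x * y) ^ 2 = 1 → x ≠ 1 → y ≠ 1 → x ≠ y →
      DihedralGroup.r 2 = x ∨ DihedralGroup.r 2 = y ∨ DihedralGroup.r 2 = x * y) := by
  constructor <;> decide

/-- Let S be a finite group with a normal elementary abelian subgroup A of order 9 that is self-centralizing (C_S(A) = A), and a dihedral subgroup X of order 8 with S = AX. Let M be a finite-dimensional module for S over the field with two elements that is faithful and irreducible. Then M has 16 elements, and X contains exactly one subgroup B of order 4 and exponent 2 whose fixed points on M form a subspace with exactly 2 elements (equivalently, M is free of rank one over the group algebra of B). -/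
theorem result {S : Type*} [Group S] [Finite S]
    (A : Subgroup S) [A.Normal] (hA : Cfsg.IsElementaryAbelian 3 A) (hA9 : Nat.card ↥A = 9)
    (hAC : Subgroup.centralizer (A : Set S) = A) (X : Subgroup S) (hX : Nonempty (↥X ≃* DihedralGroup 4)) (hAX : A ⊔ X = ⊤)
    {M : Type*} [AddCommGroup M] [Module (ZMod 2) M] [Finite M] (ρ : Representation (ZMod 2) S M)
    (hfaith : Function.Injective ρ)
    (hirr : ∀ N : Submodule (ZMod 2) M, (∀ s : S, ∀ m ∈ N, ρ s m ∈ N) → N = ⊥ ∨ N = ⊤) (hM : Nontrivial M) :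
    Nat.card M = 16 ∧
      ∃! B : Subgroup S, B ≤ X ∧ Nat.card ↥B = 4 ∧ (∀ b ∈ B, b ^ 2 = 1) ∧
        Nat.card {m : M // ∀ b ∈ B, ρ b m = m} = 2 := by
  classical
  obtain ⟨e⟩ := hX
  set r : S := (e.symm (DihedralGroup.r 1) : S) with hr
  set s : S := (e.symm (DihedralGroup.sr 0) : S) with hs
  have hA2 : ∀ x ∈ A, ∀ y ∈ A, x * y = y * x := fun x hx y hy =>
    congrArg Subtype.val (hA.1.is_comm.comm ⟨x, hx⟩ ⟨y, hy⟩)
  have hcube : ∀ x ∈ A, x ^ 3 = 1 := hA.2
  have hemul : ∀ x y, ((e.symm (x * y) : X) : S) = (e.symm x : S) * (e.symm y : S) := fun x y => by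
    rw [map_mul]; rfl
  have he1 : ((e.symm 1 : X) : S) = 1 := by rw [map_one]; rfl
  have hr2 : r ^ 2 = (e.symm (DihedralGroup.r 2) : S) := by rw [pow_two, hr, ← hemul]; rfl
  have hr4 : r ^ 4 = 1 := by
    rw [show r ^ 4 = r ^ 2 * r ^ 2 by group, hr2, ← hemul, show DihedralGroup.r 2 * DihedralGroup.r 2 = (1 : DihedralGroup 4) by decide, he1]
  have hs2 : s ^ 2 = 1 := by
    rw [pow_two, hs, ← hemul, show DihedralGroup.sr 0 * DihedralGroup.sr 0 = (1 : DihedralGroup 4) by decide, he1]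
  have hsinv : s⁻¹ = s := inv_eq_of_mul_eq_one_right (by rw [← pow_two, hs2])
  have hsrs : s * r * s = r⁻¹ := by
    rw [hr, hs, ← hemul, ← hemul, ← InvMemClass.coe_inv, ← map_inv]
    rfl
  -- `X` acts faithfully on `A`
  have hXcard : Nat.card X = 8 := by rw [Nat.card_congr e.toEquiv, DihedralGroup.nat_card]
  have hfaithA : ∀ x ∈ X, (∀ y ∈ A, x * y = y * x) → x = 1 := by
    intro x hx hxA
    have hxmem : x ∈ A := by rw [← hAC]; exact Subgroup.mem_centralizer_iff.2 fun y hy => (hxA y hy).symm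
    refine orderOf_eq_one_iff.1 (Nat.eq_one_of_dvd_coprimes (show Nat.Coprime 9 8 by norm_num) ?_ ?_)
    · rw [← hA9]
      have := orderOf_dvd_natCard (⟨x, hxmem⟩ : A)
      rwa [← Subgroup.orderOf_coe] at this
    · rw [← hXcard]
      have := orderOf_dvd_natCard (⟨x, hx⟩ : X)
      rwa [← Subgroup.orderOf_coe] at this
  have hne : ∀ d : DihedralGroup 4, d ≠ 1 → (e.symm d : S) ≠ 1 := fun d hd h => hd (by
    have h1 : e.symm d = 1 := Subtype.ext h
    simpa using congrArg e h1)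
  -- `r²` inverts `A`
  have hinvol : ∀ g : S, g * g = 1 → ∀ y ∈ A, ∃ f ∈ A, ∃ m ∈ A, g * f * g⁻¹ = f ∧ g * m * g⁻¹ = m⁻¹ ∧ y = f * m := by
    intro g hg y hy
    have hgy : g * y * g⁻¹ ∈ A := ‹A.Normal›.conj_mem y hy g
    have hg' : g⁻¹ = g := inv_eq_of_mul_eq_one_right hg
    set y' := g * y * g⁻¹ with hy'
    have hback : g * y' * g⁻¹ = y := by
      rw [hy', hg', show g * (g * y * g) * g = (g * g) * y * (g * g) by group, hg, one_mul, mul_one]
    have hc := hA2 y hy y' hgy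
    refine ⟨(y * y') ^ 2, pow_mem (mul_mem hy hgy) _, (y * y'⁻¹) ^ 2, pow_mem (mul_mem hy (inv_mem hgy)) _, ?_, ?_, ?_⟩
    · rw [← conj_pow, show g * (y * y') * g⁻¹ = (g * y * g⁻¹) * (g * y' * g⁻¹) by group, ← hy', hback, hc]
    · rw [← conj_pow, show g * (y * y'⁻¹) * g⁻¹ = (g * y * g⁻¹) * (g * y' * g⁻¹)⁻¹ by group, ← hy', hback, ← inv_pow,
        mul_inv_rev, inv_inv]
    · have hcy : Commute y y' := hc
      rw [hcy.mul_pow, (Commute.inv_right hcy).mul_pow, show y ^ 2 * y' ^ 2 * (y ^ 2 * y'⁻¹ ^ 2) = y ^ 2 * (y' ^ 2 * y ^ 2) * y'⁻¹ ^ 2 by group,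
        ← (hcy.pow_pow 2 2).eq, show y ^ 2 * (y ^ 2 * y' ^ 2) * y'⁻¹ ^ 2 = y ^ 3 * y by group, hcube y hy, one_mul]
  have hz : ∀ y ∈ A, r ^ 2 * y * (r ^ 2)⁻¹ = y⁻¹ := by
    -- otherwise the centraliser of `r²` is a line, and `r²` would be trivial on it and on its complement
    have hzz : r ^ 2 * r ^ 2 = 1 := by rw [← pow_add]; exact hr4
    by_contra hbad
    push Not at hbad
    obtain ⟨y, hy, hy'⟩ := hbad
    obtain ⟨f, hf, m, hm, hff, hmm, rfl⟩ := hinvol _ hzz y hy
    have hf1 : f ≠ 1 := fun h => hy' (by rw [h, one_mul, hmm])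
    -- the centraliser of `r²` in `A`
    let C : Subgroup S := A ⊓ Subgroup.centralizer {r ^ 2}
    have hC : ∀ x, x ∈ C ↔ x ∈ A ∧ r ^ 2 * x * (r ^ 2)⁻¹ = x := fun x => by
      rw [Subgroup.mem_inf, Subgroup.mem_centralizer_singleton_iff, mul_inv_eq_iff_eq_mul]
      exact ⟨fun h => ⟨h.1, h.2.symm⟩, fun h => ⟨h.1, h.2.symm⟩⟩
    have hrC : ∀ x ∈ C, r * x * r⁻¹ ∈ C := fun x hx => by
      obtain ⟨hxA, hxz⟩ := (hC x).1 hx
      refine (hC _).2 ⟨‹A.Normal›.conj_mem x hxA r, ?_⟩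
      conv_rhs => rw [← hxz]
      group
    have hCne : C ≠ A := fun h => by
      refine hne (DihedralGroup.r 2) (by decide) ?_
      rw [← hr2]
      refine hfaithA _ (by rw [hr2]; exact SetLike.coe_mem _) fun x hx => ?_
      rw [← h] at hx
      exact mul_inv_eq_iff_eq_mul.1 ((hC x).1 hx).2
    have hC3 : Nat.card C = 3 := by
      obtain ⟨k, hk, hk'⟩ := (Nat.dvd_prime_pow Nat.prime_three).1
        (show Nat.card C ∣ 3 ^ 2 by rw [show (3 : ℕ) ^ 2 = Nat.card A by rw [hA9]; norm_num]; exact Subgroup.card_dvd_of_le inf_le_left)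
      interval_cases k
      · exfalso
        rw [pow_zero, Subgroup.card_eq_one] at hk'
        have : f ∈ C := (hC f).2 ⟨hf, hff⟩
        rw [hk', Subgroup.mem_bot] at this
        exact hf1 this
      · simpa using hk'
      · exact absurd (Subgroup.eq_of_le_of_card_ge inf_le_left (by rw [hk', hA9]; norm_num)) hCne
    -- `r` inverts or fixes the line `C` and `r²` fixes it; the same on the inverted line
    obtain ⟨m', hm', hmm', hm'1⟩ : ∃ m' ∈ A, r ^ 2 * m' * (r ^ 2)⁻¹ = m'⁻¹ ∧ m' ≠ 1 := by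
      by_contra hno
      push Not at hno
      refine hCne (le_antisymm inf_le_left fun x hx => ?_)
      obtain ⟨f', hf', m', hm', hff', hmm', rfl⟩ := hinvol _ hzz x hx
      rw [hno m' hm' hmm', mul_one]
      exact (hC f').2 ⟨hf', hff'⟩
    have hrm : r * m' * r⁻¹ ∈ A := ‹A.Normal›.conj_mem m' hm' r
    have hrm' : r ^ 2 * (r * m' * r⁻¹) * (r ^ 2)⁻¹ = (r * m' * r⁻¹)⁻¹ := by
      rw [show (r * m' * r⁻¹)⁻¹ = r * m'⁻¹ * r⁻¹ by group, ← hmm']; group
    let D : Subgroup S :=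
      { carrier := {x | x ∈ A ∧ r ^ 2 * x * (r ^ 2)⁻¹ = x⁻¹}
        one_mem' := ⟨A.one_mem, by group⟩
        mul_mem' := fun {x y} hx hy => ⟨A.mul_mem hx.1 hy.1, by
          rw [show r ^ 2 * (x * y) * (r ^ 2)⁻¹ = (r ^ 2 * x * (r ^ 2)⁻¹) * (r ^ 2 * y * (r ^ 2)⁻¹) by group, hx.2, hy.2,
            hA2 _ (inv_mem hx.1) _ (inv_mem hy.1), mul_inv_rev]⟩
        inv_mem' := fun {x} hx => ⟨A.inv_mem hx.1, by
          rw [show r ^ 2 * x⁻¹ * (r ^ 2)⁻¹ = (r ^ 2 * x * (r ^ 2)⁻¹)⁻¹ by group, hx.2]⟩ }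
    have hD3 : Nat.card D = 3 := by
      obtain ⟨k, hk, hk'⟩ := (Nat.dvd_prime_pow Nat.prime_three).1
        (show Nat.card D ∣ 3 ^ 2 by rw [show (3 : ℕ) ^ 2 = Nat.card A by rw [hA9]; norm_num]; exact Subgroup.card_dvd_of_le (show D ≤ A from fun x hx => hx.1))
      interval_cases k
      · exfalso
        rw [pow_zero, Subgroup.card_eq_one] at hk'
        have : m' ∈ D := ⟨hm', hmm'⟩
        rw [hk', Subgroup.mem_bot] at this
        exact hm'1 this
      · simpa using hk'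
      · exfalso
        have hDA : D = A := Subgroup.eq_of_le_of_card_ge (fun x hx => hx.1) (by rw [hk', hA9]; norm_num)
        exact hy' (hDA.ge hy).2
    have hline : ∀ (L : Subgroup S), Nat.card L = 3 → (∀ x ∈ L, r * x * r⁻¹ ∈ L) → ∀ x ∈ L, r ^ 2 * x * (r ^ 2)⁻¹ = x := by
      intro L hL hrL x hx
      rcases eq_or_ne x 1 with rfl | hx1
      · group
      obtain ⟨i, hi⟩ := Subgroup.mem_zpowers_iff.1 (mem_zpowers_of_prime_card (G := L) hL
        (g' := ⟨r * x * r⁻¹, hrL x hx⟩) (g := ⟨x, hx⟩) fun h => hx1 (congrArg Subtype.val h))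
      have hi' : x ^ i = r * x * r⁻¹ := congrArg Subtype.val hi
      have hxo : orderOf x = 3 := by
        have := orderOf_dvd_natCard (⟨x, hx⟩ : L)
        rw [← Subgroup.orderOf_coe, hL] at this
        exact ((Nat.dvd_prime Nat.prime_three).1 this).resolve_left fun h => hx1 (orderOf_eq_one_iff.1 h)
      have h2 : r ^ 2 * x * (r ^ 2)⁻¹ = x ^ (i * i) := by
        rw [zpow_mul, hi', conj_zpow, hi', pow_two]; group
      rw [h2]
      have hmod : ∀ k : ℤ, x ^ k = x ^ (k % 3) := fun k => by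
        rw [← zpow_mod_orderOf, hxo]; rfl
      rw [hmod, Int.mul_emod]
      have hi3 : i % 3 ≠ 0 := fun h => hx1 (by
        rw [hmod, h, zpow_zero] at hi'
        exact conj_eq_one_iff.1 hi'.symm)
      rcases (show i % 3 = 1 ∨ i % 3 = 2 by omega) with h | h <;> rw [h] <;> norm_num
    have hDr : ∀ x ∈ D, r * x * r⁻¹ ∈ D := fun x hx => ⟨‹A.Normal›.conj_mem x hx.1 r, by
      rw [show (r * x * r⁻¹)⁻¹ = r * x⁻¹ * r⁻¹ by group, ← hx.2]; group⟩
    have h3 := hline D hD3 hDr m' ⟨hm', hmm'⟩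
    rw [hmm', inv_eq_iff_mul_eq_one, ← pow_two] at h3
    refine hm'1 ?_
    have h4 := hcube m' hm'
    rwa [pow_succ, h3, one_mul] at h4
  -- an element fixed by `s`
  obtain ⟨a, haA, has, ha1⟩ : ∃ a ∈ A, s * a * s⁻¹ = a ∧ a ≠ 1 := by
    by_contra hno
    push Not at hno
    have hsinvA : ∀ y ∈ A, s * y * s⁻¹ = y⁻¹ := fun y hy => by
      obtain ⟨f, hf, m, hm, hff, hmm, rfl⟩ := hinvol s (by rw [← pow_two, hs2]) y hy
      rw [hno f hf hff, one_mul, hmm]
    refine hne (DihedralGroup.r 2 * DihedralGroup.sr 0) (by decide) ?_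
    refine hfaithA _ (SetLike.coe_mem _) fun y hy => ?_
    rw [hemul, ← hr2, ← hs]
    refine mul_inv_eq_iff_eq_mul.1 ?_
    rw [show r ^ 2 * s * y * (r ^ 2 * s)⁻¹ = r ^ 2 * (s * y * s⁻¹) * (r ^ 2)⁻¹ by group, hsinvA y hy,
      hz _ (inv_mem hy), inv_inv]
  -- fixed point freeness
  have hfix0 : ∀ x : M, (∀ y ∈ A, ρ y x = x) → x = 0 := by
    intro x hx
    let N : Submodule (ZMod 2) M :=
      { carrier := {v | ∀ y ∈ A, ρ y v = v}
        add_mem' := fun {u v} hu hv y hy => by rw [map_add, hu y hy, hv y hy]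
        zero_mem' := fun y _ => map_zero _
        smul_mem' := fun c v hv y hy => by rw [map_smul, hv y hy] }
    rcases hirr N fun g v hv y hy => by
        have h1 := hv (g⁻¹ * y * g) (by simpa using ‹A.Normal›.conj_mem y hy g⁻¹)
        have : ρ (y * g) v = ρ g (ρ (g⁻¹ * y * g) v) := by
          rw [← Module.End.mul_apply, ← map_mul]; group
        rw [← Module.End.mul_apply, ← map_mul, this, h1] with h | h
    · have hx' : x ∈ N := hx
      rwa [h, Submodule.mem_bot] at hx'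
    · exfalso
      have hAbot : A = ⊥ := (Subgroup.eq_bot_iff_forall A).2 fun y hy => hfaith (by
        rw [map_one]
        exact LinearMap.ext fun v => (h.ge (Submodule.mem_top (x := v)) : v ∈ N) y hy)
      rw [hAbot, Subgroup.card_bot] at hA9
      norm_num at hA9
  -- generators
  set b := r * a * r⁻¹ with hb
  have hbA : b ∈ A := ‹A.Normal›.conj_mem a haA r
  have hsb : s * b * s⁻¹ = b⁻¹ := by
    rw [hb, show s * (r * a * r⁻¹) * s⁻¹ = (s * r * s) * (s⁻¹ * a * s) * (s * r * s)⁻¹ by group, hsrs,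
      show s⁻¹ * a * s = a by nth_rewrite 1 [← has]; group,
      show (r * a * r⁻¹)⁻¹ = r * a⁻¹ * r⁻¹ by group, ← hz a haA,
      show r * (r ^ 2 * a * (r ^ 2)⁻¹) * r⁻¹ = r ^ 3 * a * (r ^ 3)⁻¹ by rw [pow_succ' r 2, pow_two]; group,
      show r ^ 3 = r⁻¹ from eq_inv_of_mul_eq_one_left (by rw [← pow_succ, hr4])]
  have hrb : r * b * r⁻¹ = a⁻¹ := by rw [hb, ← hz a haA, pow_two]; group
  have hba : ∀ i j : ℕ, i < 3 → j < 3 → a ^ i * b ^ j = 1 → i = 0 ∧ j = 0 := by
    intro i j hi hj hij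
    have h2 := congrArg (fun x => s * x * s⁻¹) hij
    simp only [mul_one, mul_inv_cancel] at h2
    rw [show s * (a ^ i * b ^ j) * s⁻¹ = (s * a ^ i * s⁻¹) * (s * b ^ j * s⁻¹) by group, ← conj_pow, ← conj_pow,
      has, hsb, inv_pow, ← hij, mul_right_inj, inv_eq_iff_mul_eq_one, ← pow_add] at h2
    have hb3 : orderOf b = 3 := orderOf_eq_prime (hcube b hbA) fun h => ha1 (conj_eq_one_iff.1 h)
    have ha3 : orderOf a = 3 := orderOf_eq_prime (hcube a haA) ha1
    have hj2 := orderOf_dvd_of_pow_eq_one h2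
    rw [hb3] at hj2
    have hj0 : j = 0 := by omega
    subst hj0
    rw [pow_zero, mul_one] at hij
    have hi2 := orderOf_dvd_of_pow_eq_one hij
    rw [ha3] at hi2
    omega
  have hgenA : ∀ y ∈ A, ∃ i j : Fin 3, a ^ (i : ℕ) * b ^ (j : ℕ) = y := by
    intro y hy
    let f : Fin 3 × Fin 3 → A := fun ij => ⟨a ^ (ij.1 : ℕ) * b ^ (ij.2 : ℕ), mul_mem (pow_mem haA _) (pow_mem hbA _)⟩
    have hf : Function.Bijective f := by
      rw [Nat.bijective_iff_injective_and_card]
      refine ⟨fun u v huv => ?_, by rw [Nat.card_prod, Nat.card_fin, hA9]⟩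
      have h' : a ^ (u.1 : ℕ) * b ^ (u.2 : ℕ) = a ^ (v.1 : ℕ) * b ^ (v.2 : ℕ) := congrArg Subtype.val huv
      have hab' : Commute a b := hA2 a haA b hbA
      have hmod : ∀ n : ℕ, ∀ x ∈ A, x ^ n = x ^ (n % 3) := fun n x hx => pow_eq_pow_mod n (hcube x hx)
      have h2 : a ^ ((u.1 : ℕ) + 2 * v.1) * b ^ ((u.2 : ℕ) + 2 * v.2) = 1 := by
        rw [pow_add, pow_add, show a ^ (u.1 : ℕ) * a ^ (2 * (v.1 : ℕ)) * (b ^ (u.2 : ℕ) * b ^ (2 * (v.2 : ℕ))) =
          a ^ (u.1 : ℕ) * (a ^ (2 * (v.1 : ℕ)) * b ^ (u.2 : ℕ)) * b ^ (2 * (v.2 : ℕ)) by group,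
          (hab'.pow_pow _ _).eq, show a ^ (u.1 : ℕ) * (b ^ (u.2 : ℕ) * a ^ (2 * (v.1 : ℕ))) * b ^ (2 * (v.2 : ℕ)) =
          a ^ (u.1 : ℕ) * b ^ (u.2 : ℕ) * a ^ (2 * (v.1 : ℕ)) * b ^ (2 * (v.2 : ℕ)) by group, h',
          show a ^ (v.1 : ℕ) * b ^ (v.2 : ℕ) * a ^ (2 * (v.1 : ℕ)) * b ^ (2 * (v.2 : ℕ)) =
          a ^ (v.1 : ℕ) * (b ^ (v.2 : ℕ) * a ^ (2 * (v.1 : ℕ))) * b ^ (2 * (v.2 : ℕ)) by group,
          ← (hab'.pow_pow _ _).eq, ← mul_assoc, ← pow_add, mul_assoc, ← pow_add,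
          show (v.1 : ℕ) + 2 * v.1 = 3 * v.1 by ring, show (v.2 : ℕ) + 2 * v.2 = 3 * v.2 by ring, pow_mul, pow_mul,
          hcube a haA, hcube b hbA, one_pow, one_pow, one_mul]
      rw [hmod _ a haA, hmod _ b hbA] at h2
      have h3 := hba _ _ (Nat.mod_lt _ (by norm_num)) (Nat.mod_lt _ (by norm_num)) h2
      have := u.1.isLt; have := u.2.isLt; have := v.1.isLt; have := v.2.isLt
      exact Prod.ext (Fin.ext (by omega)) (Fin.ext (by omega))
    obtain ⟨⟨i, j⟩, hij⟩ := hf.2 ⟨y, hy⟩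
    exact ⟨i, j, congrArg Subtype.val hij⟩
  have hsgn : ∀ d : DihedralGroup 4, (e.symm d : S) ∈ Subgroup.closure ({r, s} : Set S) := by
    intro d
    have hr' : r ∈ Subgroup.closure ({r, s} : Set S) := Subgroup.subset_closure (Set.mem_insert _ _)
    have hs' : s ∈ Subgroup.closure ({r, s} : Set S) := Subgroup.subset_closure (Set.mem_insert_of_mem _ rfl)
    rcases d4_facts.1 d with h | h | h | h | h | h | h | h <;> subst h
    · rw [he1]; exact Subgroup.one_mem _
    · exact hr'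
    · rw [← hr2]; exact pow_mem hr' 2
    · rw [show DihedralGroup.r 3 = (DihedralGroup.r 2 * DihedralGroup.r 1 : DihedralGroup 4) by decide, hemul, ← hr2]
      exact mul_mem (pow_mem hr' 2) hr'
    · exact hs'
    · rw [show DihedralGroup.sr 1 = (DihedralGroup.sr 0 * DihedralGroup.r 1 : DihedralGroup 4) by decide, hemul]
      exact mul_mem hs' hr'
    · rw [show DihedralGroup.sr 2 = (DihedralGroup.sr 0 * DihedralGroup.r 2 : DihedralGroup 4) by decide, hemul, ← hr2]
      exact mul_mem hs' (pow_mem hr' 2)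
    · rw [show DihedralGroup.sr 3 = (DihedralGroup.sr 0 * (DihedralGroup.r 2 * DihedralGroup.r 1) : DihedralGroup 4) by decide,
        hemul, hemul, ← hr2]
      exact mul_mem hs' (mul_mem (pow_mem hr' 2) hr')
  have hXgen : ∀ x ∈ X, x ∈ Subgroup.closure ({r, s} : Set S) := fun x hx => by
    have h1 := hsgn (e ⟨x, hx⟩)
    rwa [e.symm_apply_apply] at h1
  -- a fixed line
  have happ : ∀ (g k : S) (x : M), ρ (g * k) x = ρ g (ρ k x) := fun g k x => by rw [map_mul]; rfl
  have hone : ∀ x : M, ρ 1 x = x := fun x => by rw [map_one]; rfl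
  have hab : a * b = b * a := hA2 a haA b hbA
  have hfix_ab : ∀ x, ρ a x = x → ρ b x = x → x = 0 := by
    intro x h1 h2
    refine hfix0 x fun y hy => ?_
    obtain ⟨i, j, rfl⟩ := hgenA y hy
    have hp : ∀ g, ρ g x = x → ∀ n : ℕ, ρ (g ^ n) x = x := fun g hg n => by
      induction n with
      | zero => rw [pow_zero, hone]
      | succ n ih => rw [pow_succ, happ, hg, ih]
    rw [happ, hp b h2, hp a h1]
  have hgen : ∀ G' : Subgroup S, r ∈ G' → s ∈ G' → a ∈ G' → G' = ⊤ := by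
    intro G' h1 h2 h3
    rw [eq_top_iff, ← hAX]
    refine sup_le (fun y hy => ?_) fun x hx => (Subgroup.closure_le _).2 (by
      rintro g (rfl | rfl)
      · exact h1
      · exact h2) (hXgen x hx)
    obtain ⟨i, j, rfl⟩ := hgenA y hy
    exact mul_mem (pow_mem h3 _) (pow_mem (mul_mem (mul_mem h1 h3) (inv_mem h1)) _)
  have hsr' : (s * r) ^ 2 = 1 := by rw [pow_two, ← mul_assoc, hsrs, inv_mul_cancel]
  obtain ⟨a', b', w0, d', hd', hcfg, hw0, hw0a⟩ : ∃ (a' b' : S) (w0 : M) (d' : DihedralGroup 4),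
      (d' = DihedralGroup.sr 0 ∨ d' = DihedralGroup.sr 1) ∧ Cfg ρ r (e.symm d' : S) a' b' ∧ w0 ≠ 0 ∧ ρ a' w0 = w0 := by
    have hav : ∀ c : S, c ^ 3 = 1 → ∀ x, ρ c (x + ρ c x + ρ c (ρ c x)) = x + ρ c x + ρ c (ρ c x) := fun c hc x => by
      rw [map_add, map_add, show ρ c (ρ c (ρ c x)) = x by rw [← happ, ← happ, show c * c * c = 1 by rw [← pow_three', hc], hone]]; abel
    obtain ⟨x, hx⟩ := exists_ne (0 : M)
    by_cases hline : ∃ w, w ≠ 0 ∧ (ρ a w = w ∨ ρ b w = w)
    · obtain ⟨w, hw, hwab⟩ := hline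
      refine ⟨a, b, if ρ a w = w then w else ρ r⁻¹ w, DihedralGroup.sr 0, Or.inl rfl,
        ⟨hr4, hs2, hsrs, hcube a haA, hcube b hbA, hab, has, hsb, hb.symm, hrb,
          hgen _ (Subgroup.subset_closure (by simp)) (Subgroup.subset_closure (by simp [hs])) (Subgroup.subset_closure (by simp)),
          hfix_ab, hirr⟩, ?_, ?_⟩
      · split_ifs with h1
        · exact hw
        · intro h0
          have h2 := congrArg (ρ r) h0
          rw [← happ, mul_inv_cancel, hone, map_zero] at h2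
          exact hw h2
      · split_ifs with h1
        · exact h1
        · rw [← happ, show a * r⁻¹ = r⁻¹ * b by rw [hb]; group, happ, hwab.resolve_left h1]
    push Not at hline
    have hrb' : r * (a * b) * r⁻¹ = b * a⁻¹ := by
      rw [show r * (a * b) * r⁻¹ = (r * a * r⁻¹) * (r * b * r⁻¹) by group, ← hb, hrb]
    have hra' : r * (a * b⁻¹) * r⁻¹ = a * b := by
      rw [show r * (a * b⁻¹) * r⁻¹ = (r * a * r⁻¹) * (r * b * r⁻¹)⁻¹ by group, ← hb, hrb, inv_inv, hab]
    have hd1 : ((e.symm (DihedralGroup.sr 1) : X) : S) = s * r := by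
      rw [hs, hr, ← hemul]; rfl
    have hsr1 : ∀ y, (s * r) * y * (s * r)⁻¹ = s * (r * y * r⁻¹) * s⁻¹ := fun y => by group
    have hb3 := hcube b hbA
    have ha3 := hcube a haA
    have habc : Commute a b := hab
    refine ⟨a * b⁻¹, a * b, ?_⟩
    suffices hw : ∃ w, w ≠ 0 ∧ (ρ (a * b⁻¹) w = w ∨ ρ (a * b) w = w) by
      obtain ⟨w, hw, hwab⟩ := hw
      refine ⟨if ρ (a * b⁻¹) w = w then w else ρ r⁻¹ w, DihedralGroup.sr 1, Or.inr rfl, ?_, ?_, ?_⟩
      · rw [hd1]
        refine ⟨hr4, hsr', ?_, hcube _ (mul_mem haA (inv_mem hbA)), hcube _ (mul_mem haA hbA),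
          hA2 _ (mul_mem haA (inv_mem hbA)) _ (mul_mem haA hbA), ?_, ?_, hra', ?_, ?_, ?_, hirr⟩
        · calc s * r * r * (s * r) = (s * r * s) * (s * r * s) * r := by
                rw [show s * r * s * (s * r * s) * r = s * r * (s * s) * r * (s * r) by group, ← pow_two s, hs2, mul_one]
            _ = r⁻¹ := by rw [hsrs]; group
        · rw [hsr1, hra', show s * (a * b) * s⁻¹ = (s * a * s⁻¹) * (s * b * s⁻¹) by group, has, hsb]
        · rw [hsr1, hrb', show s * (b * a⁻¹) * s⁻¹ = (s * b * s⁻¹) * (s * a * s⁻¹)⁻¹ by group, has, hsb, ← mul_inv_rev]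
        · rw [hrb']; group
        · refine hgen _ (Subgroup.subset_closure (by simp)) ?_ ?_
          · have h1 : s * r ∈ Subgroup.closure ({r, s * r, a * b⁻¹, a * b} : Set S) := Subgroup.subset_closure (by simp)
            have h2 : r ∈ Subgroup.closure ({r, s * r, a * b⁻¹, a * b} : Set S) := Subgroup.subset_closure (by simp)
            simpa using mul_mem h1 (inv_mem h2)
          · have h1 : (a * b⁻¹) * (a * b) ∈ Subgroup.closure ({r, s * r, a * b⁻¹, a * b} : Set S) :=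
              mul_mem (Subgroup.subset_closure (by simp)) (Subgroup.subset_closure (by simp))
            have h2 : a = ((a * b⁻¹) * (a * b)) ^ 2 := by
              rw [show a * b⁻¹ * (a * b) = a * (b⁻¹ * a) * b by group, ← (Commute.inv_right habc).eq,
                show a * (a * b⁻¹) * b = a ^ 2 by rw [pow_two]; group, ← pow_mul, show 2 * 2 = 3 + 1 from rfl, pow_succ, ha3, one_mul]
            have h3 := pow_mem h1 2
            rwa [← h2] at h3
        · intro y h1 h2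
          have h12 : ρ (a * a) y = y := by
            rw [show a * a = (a * b⁻¹) * (a * b) by
              rw [show a * b⁻¹ * (a * b) = a * (b⁻¹ * a) * b by group, ← (Commute.inv_right habc).eq]; group, happ, h2, h1]
          have ha' : ρ a y = y := by
            conv_lhs => rw [← h12, ← happ, show a * (a * a) = 1 by rw [← pow_three, ha3], hone]
          refine hfix_ab y ha' ?_
          rw [hab, happ, ha'] at h2
          exact h2
      · split_ifs with h1
        · exact hw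
        · intro h0
          have h2 := congrArg (ρ r) h0
          rw [← happ, mul_inv_cancel, hone, map_zero] at h2
          exact hw h2
      · split_ifs with h1
        · exact h1
        · rw [← happ, show a * b⁻¹ * r⁻¹ = r⁻¹ * (a * b) by rw [← hra']; group, happ, hwab.resolve_left h1]
    by_contra hno
    push Not at hno
    -- the four averages vanish
    have hzero : ∀ c : S, c ^ 3 = 1 → (∀ w : M, w ≠ 0 → ρ c w ≠ w) → x + ρ c x + ρ c (ρ c x) = 0 := fun c hc h => by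
      by_contra h'
      exact h _ h' (hav c hc x)
    have fa := hzero a ha3 fun w hw => (hline w hw).1
    have fb := hzero b hb3 fun w hw => (hline w hw).2
    have fc := hzero (a * b⁻¹) (hcube _ (mul_mem haA (inv_mem hbA))) fun w hw => (hno w hw).1
    have fd := hzero (a * b) (hcube _ (mul_mem haA hbA)) fun w hw => (hno w hw).2
    have hbi : b⁻¹ = b * b := inv_eq_of_mul_eq_one_right (by rw [← pow_three, hb3])
    have hc2 : ∀ y, ρ (a * b⁻¹) y = ρ a (ρ b (ρ b y)) := fun y => by rw [hbi, happ, happ]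
    have hcomm : ∀ y, ρ b (ρ a y) = ρ a (ρ b y) := fun y => by rw [← happ, ← hab, happ]
    have hbbb : ∀ y, ρ b (ρ b (ρ b y)) = y := fun y => by
      rw [← happ, ← happ, show b * b * b = 1 by rw [← pow_three', hb3], hone]
    rw [hc2, hc2] at fc
    rw [happ a b, happ a b] at fd
    simp only [hcomm, hbbb] at fc fd
    have hT : (x + ρ a x + ρ a (ρ a x)) + ρ b (x + ρ a x + ρ a (ρ a x)) + ρ b (ρ b (x + ρ a x + ρ a (ρ a x))) = 0 := by
      rw [fa, map_zero, map_zero, add_zero, add_zero]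
    simp only [map_add, hcomm] at hT
    refine hx ?_
    have h3 : x + x + x = 0 := by
      have h4 : (x + ρ a x + ρ a (ρ a x)) + (x + ρ b x + ρ b (ρ b x)) + (x + ρ a (ρ b (ρ b x)) + ρ a (ρ a (ρ b x))) +
          (x + ρ a (ρ b x) + ρ a (ρ a (ρ b (ρ b x)))) = x + x + x + ((x + ρ a x + ρ a (ρ a x)) +
          (ρ b x + ρ a (ρ b x) + ρ a (ρ a (ρ b x))) + (ρ b (ρ b x) + ρ a (ρ b (ρ b x)) + ρ a (ρ a (ρ b (ρ b x))))) := by
        abel
      rw [hT, add_zero, fa, fb, fc, fd] at h4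
      simpa using h4.symm
    rwa [add_self_eq, zero_add] at h3
  -- the four-subgroups
  obtain ⟨hcard, ⟨v1, v2, hv1, hv2, hv12, ⟨hzv1, hsv1⟩, hzv2, hsv2⟩, hfix2⟩ := structure_thm hcfg w0 hw0 hw0a
  refine ⟨hcard, ?_⟩
  set d2 : DihedralGroup 4 := d' * DihedralGroup.r 1 with hd2
  have hu : ((e.symm d2 : X) : S) = (e.symm d' : S) * r := by rw [hd2, hemul]
  have hdec : d2 * d2 = 1 ∧ DihedralGroup.r 2 * d2 = d2 * DihedralGroup.r 2 ∧ d2 ≠ 1 ∧ d2 ≠ DihedralGroup.r 2 := by
    rcases hd' with rfl | rfl <;> simp only [hd2] <;> decide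
  let T : Subgroup (DihedralGroup 4) :=
    { carrier := {y | y = 1 ∨ y = DihedralGroup.r 2 ∨ y = d2 ∨ y = DihedralGroup.r 2 * d2}
      one_mem' := Or.inl rfl
      mul_mem' := by
        intro y1 y2 h1 h2
        simp only [Set.mem_setOf_eq, hd2] at *
        rcases hd' with rfl | rfl <;> rcases h1 with rfl | rfl | rfl | rfl <;> rcases h2 with rfl | rfl | rfl | rfl <;> decide
      inv_mem' := by
        intro y1 h1
        simp only [Set.mem_setOf_eq, hd2] at *
        rcases hd' with rfl | rfl <;> rcases h1 with rfl | rfl | rfl | rfl <;> decide }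
  have hTcard : Nat.card T = 4 := by
    rw [← SetLike.coe_sort_coe, Nat.card_coe_set_eq]
    show Set.ncard {y | y = 1 ∨ y = DihedralGroup.r 2 ∨ y = d2 ∨ y = DihedralGroup.r 2 * d2} = 4
    rw [show {y | y = 1 ∨ y = DihedralGroup.r 2 ∨ y = d2 ∨ y = DihedralGroup.r 2 * d2} =
      (({1, DihedralGroup.r 2, d2, DihedralGroup.r 2 * d2} : Finset (DihedralGroup 4)) : Set (DihedralGroup 4)) by
        ext y; simp, Set.ncard_coe_finset]
    simp only [hd2]
    rcases hd' with rfl | rfl <;> decide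
  let emb : DihedralGroup 4 →* S := X.subtype.comp e.symm.toMonoidHom
  have hemb : Function.Injective emb := X.subtype_injective.comp e.symm.injective
  let B : Subgroup S := T.map emb
  have hB4 : Nat.card B = 4 := by rw [Subgroup.card_map_of_injective hemb, hTcard]
  have hBX : B ≤ X := by rintro _ ⟨y, -, rfl⟩; exact SetLike.coe_mem _
  have hBsq : ∀ y ∈ B, y ^ 2 = 1 := by
    rintro _ ⟨y, hy, rfl⟩
    rw [← map_pow]
    suffices h : y ^ 2 = 1 by rw [h, map_one]
    change y = 1 ∨ y = DihedralGroup.r 2 ∨ y = d' * DihedralGroup.r 1 ∨ y = DihedralGroup.r 2 * (d' * DihedralGroup.r 1) at hy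
    rcases hd' with rfl | rfl <;> rcases hy with rfl | rfl | rfl | rfl <;> decide
  have hBfix : ∀ m, (∀ y ∈ B, ρ y m = m) ↔ (ρ (r ^ 2) m = m ∧ ρ ((e.symm d' : S) * r) m = m) := by
    intro m
    have h2 : emb (DihedralGroup.r 2) = r ^ 2 := hr2.symm
    have h3 : emb d2 = (e.symm d' : S) * r := hu
    refine ⟨fun h => ⟨h2 ▸ h _ ⟨_, Or.inr (Or.inl rfl), rfl⟩, h3 ▸ h _ ⟨_, Or.inr (Or.inr (Or.inl rfl)), rfl⟩⟩, ?_⟩
    rintro ⟨m1, m2⟩ _ ⟨y, hy, rfl⟩
    rcases hy with rfl | rfl | rfl | rfl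
    · rw [map_one, hone]
    · rw [h2, m1]
    · rw [h3, m2]
    · rw [map_mul, happ, h2, h3, m2, m1]
  refine ⟨B, ⟨hBX, hB4, hBsq, by rw [Nat.card_congr (Equiv.subtypeEquivRight hBfix)]; exact hfix2⟩, ?_⟩
  rintro B' ⟨hB'X, hB'4, hB'sq, hB'fix⟩
  -- `B'` contains `r²` and a reflection
  let P : Subgroup (DihedralGroup 4) := B'.comap emb
  have hPmem : ∀ y, y ∈ P ↔ emb y ∈ B' := fun y => Iff.rfl
  have hPB : P.map emb = B' := Subgroup.map_comap_eq_self fun y hy =>
    ⟨e ⟨y, hB'X hy⟩, by show ((e.symm (e ⟨y, hB'X hy⟩) : X) : S) = y; rw [e.symm_apply_apply]⟩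
  have hP4 : Nat.card P = 4 := by rw [← Subgroup.card_map_of_injective (f := emb) hemb, hPB, hB'4]
  have hPsq : ∀ y ∈ P, y ^ 2 = 1 := fun y hy => hemb (by rw [map_pow, map_one]; exact hB'sq _ hy)
  have hex : ∀ y1 : DihedralGroup 4, ∃ y2 ∈ P, y2 ≠ 1 ∧ y2 ≠ y1 := by
    intro y1
    by_contra hall
    push Not at hall
    have h1 : Nat.card P ≤ Nat.card ({1, y1} : Set (DihedralGroup 4)) :=
      Nat.card_mono (Set.toFinite _) fun y hy => by
        by_cases h : y = 1
        · exact Or.inl h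
        · exact Or.inr (hall y hy h)
    rw [hP4, Nat.card_coe_set_eq] at h1
    have h2 : Set.ncard ({1, y1} : Set (DihedralGroup 4)) ≤ 2 := (Set.ncard_insert_le _ _).trans (by simp)
    omega
  have hzP : DihedralGroup.r 2 ∈ P := by
    obtain ⟨y1, hy1, hy11, -⟩ := hex 1
    obtain ⟨y2, hy2, hy21, hy22⟩ := hex y1
    rcases d4_facts.2 y1 y2 (hPsq _ hy1) (hPsq _ hy2) (hPsq _ (mul_mem hy1 hy2)) hy11 hy21 hy22.symm with h | h | h <;>
      rw [h]
    · exact hy1
    · exact hy2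
    · exact mul_mem hy1 hy2
  obtain ⟨y, hy, hy1, hy2⟩ := hex (DihedralGroup.r 2)
  have hcases : y = d' ∨ y = DihedralGroup.r 2 * d' ∨ y = d2 ∨ y = DihedralGroup.r 2 * d2 := by
    have hsq := hPsq y hy
    simp only [hd2]
    rcases hd' with rfl | rfl <;> revert hsq hy1 hy2 <;> rcases d4_facts.1 y with h | h | h | h | h | h | h | h <;>
      subst h <;> decide
  have hzz : DihedralGroup.r 2 * DihedralGroup.r 2 = (1 : DihedralGroup 4) := by decide
  have hgood : d2 ∈ P := by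
    rcases hcases with h | h | h | h
    rotate_left 2
    · exact h ▸ hy
    · have := mul_mem hzP (h ▸ hy : DihedralGroup.r 2 * d2 ∈ P)
      rwa [← mul_assoc, hzz, one_mul] at this
    all_goals
      exfalso
      have hdP : d' ∈ P := by
        first
        | exact h ▸ hy
        | (have := mul_mem hzP (h ▸ hy : DihedralGroup.r 2 * d' ∈ P); rwa [← mul_assoc, hzz, one_mul] at this)
      have hgo : ∀ v, ρ (r ^ 2) v = v → ρ (e.symm d' : S) v = v → ∀ g ∈ B', ρ g v = v := by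
        intro v m1 m2 g hg
        rw [← hPB] at hg
        obtain ⟨u, hu', rfl⟩ := hg
        -- `P` consists of `1, r², d', r² d'`
        have hPeq : u = 1 ∨ u = DihedralGroup.r 2 ∨ u = d' ∨ u = DihedralGroup.r 2 * d' := by
          have hsq1 := hPsq u hu'
          have hsq2 := hPsq _ (mul_mem hu' hdP)
          rcases hd' with rfl | rfl <;> revert hsq1 hsq2 <;> rcases d4_facts.1 u with h | h | h | h | h | h | h | h <;>
            subst h <;> decide
        have h2 : emb (DihedralGroup.r 2) = r ^ 2 := hr2.symm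
        rcases hPeq with rfl | rfl | rfl | rfl
        · rw [map_one, hone]
        · rw [h2, m1]
        · exact m2
        · rw [map_mul, happ, show ρ (emb d') v = v from m2, h2, m1]
      have hge : 3 ≤ Nat.card {m : M // ∀ g ∈ B', ρ g m = m} := by
        let f : Fin 3 → {m : M // ∀ g ∈ B', ρ g m = m} :=
          ![⟨0, fun g _ => map_zero _⟩, ⟨v1, hgo v1 hzv1 hsv1⟩, ⟨v2, hgo v2 hzv2 hsv2⟩]
        have hf : Function.Injective f := by
          intro i j hij
          have := congrArg Subtype.val hij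
          fin_cases i <;> fin_cases j <;> simp [f] at this ⊢ <;>
            first | exact absurd this hv1 | exact absurd this.symm hv1 | exact absurd this hv2 | exact absurd this.symm hv2 |
              exact absurd this hv12 | exact absurd this.symm hv12
        simpa using Nat.card_le_card_of_injective f hf
      omega
  rw [← hPB]
  have hle : T ≤ P := by
    rintro u (rfl | rfl | rfl | rfl)
    · exact one_mem _
    · exact hzP
    · exact hgood
    · exact mul_mem hzP hgood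
  rw [show P = T from (Subgroup.eq_of_le_of_card_ge hle (by rw [hTcard, hP4])).symm]

end Cfsg.Agent.S4407
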