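import Cfsg.Statements.S4408
import Mathlib
import Cfsg.Agent.Lib.Fusion.AB
import Cfsg.Agent.Lib.Solv.Generation
import Cfsg.Agent.Lib.Solv.Engel
import Cfsg.Agent.Lib.Solv.Cores

set_option autoImplicit false
open Cfsg

namespace Cfsg.Agent.S4408

open Cfsg.Agent

variable {S : Type*} [Group S] [Finite S]

theorem orderOf_inv_conj (y s : S) : orderOf (s * y * s⁻¹) = orderOf y := by
  simpa using orderOf_injective (MulAut.conj s).toMonoidHom (MulAut.conj s).injective y

theorem eq_one_of_sq {X : Subgroup S} (hX : Odd (Nat.card X)) {y : S} (hy : y ∈ X) (h : y * y = 1) : y = 1 := by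
  obtain ⟨m, hm⟩ := hX
  have h1 : y ^ Nat.card X = 1 := congrArg Subtype.val (pow_card_eq_one' (x := (⟨y, hy⟩ : X)))
  rw [hm, pow_succ, pow_mul, pow_two, h, one_pow, one_mul] at h1
  exact h1

/-- An invariant subgroup of prime order moved by `t`. -/
theorem exists_eigen (I : Subgroup S) (hI : Cfsg.IsElementaryAbelian 2 I) :
    ∀ (m : ℕ) (X : Subgroup S), Nat.card X = m → Odd m → I ≤ Subgroup.normalizer (X : Set S) →
      ∀ t ∈ I, (∃ x ∈ X, t * x ≠ x * t) →
      ∃ y ∈ X, (orderOf y).Prime ∧ t * y ≠ y * t ∧ ∀ s ∈ I, s * y * s⁻¹ ∈ Subgroup.zpowers y := by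
  intro m
  induction m using Nat.strong_induction_on with
  | _ m ih =>
  intro X hm hodd hIX t ht ⟨x, hx, hxt⟩
  subst hm
  have hcomm : ∀ a ∈ I, ∀ b ∈ I, a * b = b * a := fun a ha b hb =>
    congrArg Subtype.val (hI.1.is_comm.comm (⟨a, ha⟩ : I) ⟨b, hb⟩)
  have hsq : ∀ a ∈ I, a * a = 1 := fun a ha => by rw [← pow_two]; exact hI.2 a ha
  have hinv : ∀ a ∈ I, a⁻¹ = a := fun a ha => inv_eq_of_mul_eq_one_right (hsq a ha)
  by_cases hrec : ∃ s ∈ I, ¬ X ≤ Subgroup.centralizer ({s} : Set S) ∧
      ∃ c ∈ X ⊓ Subgroup.centralizer ({s} : Set S), t * c ≠ c * t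
  · obtain ⟨s, hs, hsX, c, hc, hct⟩ := hrec
    have hlt : Nat.card ↥(X ⊓ Subgroup.centralizer ({s} : Set S)) < Nat.card X := by
      refine lt_of_le_of_ne (Subgroup.card_le_of_le inf_le_left) fun h => hsX ?_
      rw [← inf_eq_left]
      exact Subgroup.eq_of_le_of_card_ge inf_le_left h.ge
    obtain ⟨y, hy, hyp, hyt, hys⟩ := ih _ hlt (X ⊓ Subgroup.centralizer ({s} : Set S)) rfl
      (hodd.of_dvd_nat (Subgroup.card_dvd_of_le inf_le_left))
      (fun a ha => by
        rw [Subgroup.mem_normalizer_iff]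
        intro n
        have hnX := Subgroup.mem_normalizer_iff.1 (hIX ha) n
        simp only [Subgroup.mem_inf, Subgroup.mem_centralizer_singleton_iff]
        have e : Commute s (a * n * a⁻¹) ↔ Commute s n := by
          constructor
          · intro h
            have h1 := (((show Commute s a from hcomm s hs a ha).inv_right).mul_right h).mul_right (show Commute s a from hcomm s hs a ha)
            simpa [mul_assoc] using h1
          · intro h
            exact (((show Commute s a from hcomm s hs a ha).mul_right h)).mul_right ((show Commute s a from hcomm s hs a ha).inv_right)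
        exact and_congr hnX ⟨fun h => (e.2 (Eq.symm h)).symm.eq, fun h => (e.1 (Eq.symm h)).symm.eq⟩)
      t ht ⟨c, hc, hct⟩
    exact ⟨y, (Subgroup.mem_inf.1 hy).1, hyp, hyt, hys⟩
  push Not at hrec
  -- an element of prime order inverted by t
  set z := x⁻¹ * (t * x * t⁻¹) with hz
  have hzX : z ∈ X := mul_mem (inv_mem hx) ((Subgroup.mem_normalizer_iff.1 (hIX ht) x).1 hx)
  have hz1 : z ≠ 1 := fun h => hxt (by
    rw [hz, inv_mul_eq_one] at h
    conv_rhs => rw [h]
    rw [inv_mul_cancel_right])
  have hzt : t * z * t⁻¹ = z⁻¹ := by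
    rw [hz, hinv t ht, mul_inv_rev, inv_inv, mul_inv_rev, mul_inv_rev, hinv t ht]
    calc t * (x⁻¹ * (t * x * t)) * t = t * x⁻¹ * t * x * (t * t) := by group
      _ = _ := by rw [hsq t ht]; group
  set r := (orderOf z).minFac with hr
  have hrp : r.Prime := Nat.minFac_prime (fun h => hz1 (orderOf_eq_one_iff.1 h))
  set y := z ^ (orderOf z / r) with hy
  have hyo : orderOf y = r := by
    rw [hy, orderOf_pow' z (Nat.div_pos (Nat.le_of_dvd (orderOf_pos z) (Nat.minFac_dvd _)) hrp.pos).ne',
      Nat.gcd_eq_right (Nat.div_dvd_of_dvd (Nat.minFac_dvd _)), Nat.div_div_self (Nat.minFac_dvd _) (orderOf_pos z).ne']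
  have hyX : y ∈ X := pow_mem hzX _
  have hyinv : t * y * t⁻¹ = y⁻¹ := by rw [hy, ← conj_pow, hzt, inv_pow]
  have hyt : t * y ≠ y * t := fun h => by
    rw [h, mul_inv_cancel_right] at hyinv
    have h1 := eq_one_of_sq hodd hyX (by nth_rewrite 1 [hyinv]; rw [inv_mul_cancel])
    exact hrp.ne_one (by rw [← hyo, h1, orderOf_one])
  refine ⟨y, hyX, hyo ▸ hrp, hyt, fun s hs => ?_⟩
  by_cases h1 : X ≤ Subgroup.centralizer ({s} : Set S)
  · have := Subgroup.mem_centralizer_singleton_iff.1 (h1 hyX)
    rw [← this, mul_inv_cancel_right]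
    exact Subgroup.mem_zpowers y
  have hst : s * t ∈ I := mul_mem hs ht
  by_cases h2 : X ≤ Subgroup.centralizer ({s * t} : Set S)
  · have h3 : (s * t) * y = y * (s * t) := (Subgroup.mem_centralizer_singleton_iff.1 (h2 hyX)).symm
    have h4 : s * y * s⁻¹ = t⁻¹ * y * t := by
      have : y = (s * t) * y * (s * t)⁻¹ := by rw [h3, mul_inv_cancel_right]
      calc s * y * s⁻¹ = s * y * s⁻¹ := rfl
        _ = t⁻¹ * ((t * s) * y * (t * s)⁻¹) * t := by group
        _ = t⁻¹ * y * t := by rw [hcomm t ht s hs, ← this]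
    rw [h4, hinv t ht]
    nth_rewrite 2 [← hinv t ht]
    rw [hyinv]
    exact inv_mem (Subgroup.mem_zpowers y)
  -- impossible
  exfalso
  set V : Subgroup S := Subgroup.closure ({s, t} : Set S) with hV
  have hVI : V ≤ I := (Subgroup.closure_le _).2 (by rintro a (rfl | rfl) <;> assumption)
  have hVab : IsMulCommutative V := ⟨⟨fun a b => Subtype.ext (hcomm a (hVI a.2) b (hVI b.2))⟩⟩
  have hcop : (Nat.card V).Coprime (Nat.card X) := by
    refine Nat.coprime_of_dvd fun q hq hqV hqX => ?_
    haveI := Fact.mk hq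
    obtain ⟨a, ha⟩ := exists_prime_orderOf_dvd_card' q hqV
    have h2' : orderOf a ∣ 2 := orderOf_dvd_of_pow_eq_one (Subtype.ext (hI.2 a (hVI a.2)))
    rw [ha, Nat.prime_dvd_prime_iff_eq hq Nat.prime_two] at h2'
    subst h2'
    exact Nat.not_even_iff_odd.2 hodd (even_iff_two_dvd.2 hqX)
  have hgen := Solv.gen_eq V X hVab (hVI.trans hIX) hcop
  refine hxt ((Subgroup.mem_centralizer_singleton_iff.1 ?_).symm)
  refine ((hgen.ge.trans (iSup₂_le fun B hB => ?_)) hx : x ∈ Subgroup.centralizer ({t} : Set S))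
  intro c hc
  obtain ⟨hcX, hcB⟩ := Subgroup.mem_inf.1 hc
  refine Subgroup.mem_centralizer_singleton_iff.2 ?_
  obtain ⟨hBV, a, ha, hBa⟩ := hB
  have hcase : ∀ u ∈ I, u ∈ B → ¬ X ≤ Subgroup.centralizer ({u} : Set S) → c * t = t * c := fun u hu huB hne =>
    (hrec u hu hne c (Subgroup.mem_inf.2 ⟨hcX, Subgroup.mem_centralizer_singleton_iff.2
      ((Subgroup.mem_centralizer_iff.1 hcB u huB).symm)⟩)).symm
  by_cases htB : t ∈ B
  · exact (Subgroup.mem_centralizer_iff.1 hcB t htB).symm
  -- otherwise s or st lies in B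
  have hmem : ∀ v ∈ V, ∃ i j : ℕ, v = s ^ i * t ^ j := by
    intro v hv
    induction hv using Subgroup.closure_induction with
    | mem v hv =>
      rcases hv with rfl | rfl
      · exact ⟨1, 0, by simp⟩
      · exact ⟨0, 1, by simp⟩
    | one => exact ⟨0, 0, by simp⟩
    | mul u v _ _ hu hv =>
      obtain ⟨i, j, rfl⟩ := hu
      obtain ⟨k, l, rfl⟩ := hv
      refine ⟨i + k, j + l, ?_⟩
      rw [pow_add, pow_add, mul_assoc (s ^ i), ← mul_assoc (t ^ j),
        ((show Commute t s from hcomm t ht s hs).pow_pow j k).eq]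
      simp only [mul_assoc]
    | inv v hv hv' => obtain ⟨i, j, rfl⟩ := hv'; exact ⟨i, j, hinv _ (hVI hv)⟩
  by_cases hsB : s ∈ B
  · exact hcase s hs hsB h1
  by_cases hstB : s * t ∈ B
  · exact hcase _ hst hstB h2
  -- then B is trivial, so V would be cyclic
  exfalso
  have hred : ∀ v ∈ V, v = 1 ∨ v = s ∨ v = t ∨ v = s * t := by
    intro v hv
    obtain ⟨i, j, rfl⟩ := hmem v hv
    have hp : ∀ u ∈ I, ∀ k : ℕ, u ^ k = 1 ∨ u ^ k = u := fun u hu k => by
      rcases Nat.even_or_odd' k with ⟨l, rfl | rfl⟩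
      · exact Or.inl (by rw [pow_mul, hI.2 u hu, one_pow])
      · exact Or.inr (by rw [pow_add, pow_mul, hI.2 u hu, one_pow, one_mul, pow_one])
    rcases hp s hs i with e | e <;> rcases hp t ht j with e' | e' <;> rw [e, e'] <;> simp
  have hB1 : B = ⊥ := by
    refine (Subgroup.eq_bot_iff_forall _).2 fun b hb => ?_
    rcases hred b (hBV hb) with rfl | rfl | rfl | rfl
    · rfl
    · exact absurd hb hsB
    · exact absurd hb htB
    · exact absurd hb hstB
  rw [hB1, bot_sup_eq] at hBa
  have hpow : ∀ v ∈ V, v = 1 ∨ v = a := fun v hv => by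
    rw [← hBa] at hv
    obtain ⟨k, rfl⟩ := Subgroup.mem_zpowers_iff.1 hv
    rcases Int.even_or_odd' k with ⟨l, rfl | rfl⟩
    · exact Or.inl (by rw [zpow_mul, zpow_two, hsq a (hVI ha), one_zpow])
    · exact Or.inr (by rw [zpow_add, zpow_mul, zpow_two, hsq a (hVI ha), one_zpow, one_mul, zpow_one])
  have hs1 : s ≠ 1 := fun h => h1 (fun u _ => Subgroup.mem_centralizer_singleton_iff.2 (by rw [h, mul_one, one_mul]))
  have ht1 : t ≠ 1 := fun h => hxt (by rw [h, one_mul, mul_one])
  have e1 := (hpow s (Subgroup.subset_closure (Or.inl rfl))).resolve_left hs1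
  have e2 := (hpow t (Subgroup.subset_closure (Or.inr rfl))).resolve_left ht1
  refine h2 fun u _ => Subgroup.mem_centralizer_singleton_iff.2 ?_
  rw [e1, e2, hsq a (hVI ha), mul_one, one_mul]

/-- The induction on the subgroup acting faithfully. -/
theorem main [Group.IsSolvable S] (hF : Odd (Nat.card (Cfsg.fittingSubgroup S))) (I : Subgroup S)
    (hI : Cfsg.IsElementaryAbelian 2 I) :
    ∀ (n : ℕ) (J X : Subgroup S), J ≤ I → Nat.card J = 2 ^ n → X ≤ Cfsg.fittingSubgroup S →
      I ≤ Subgroup.normalizer (X : Set S) → J ⊓ Subgroup.centralizer (X : Set S) = ⊥ →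
      ∃ f : Fin n → Subgroup S, (∀ i, (Nat.card (f i)).Prime) ∧ (∀ i, f i ≤ X) ∧
        (∀ i, I ≤ Subgroup.normalizer ((f i) : Set S)) ∧ (∀ i j, i ≠ j → ∀ a ∈ f i, ∀ b ∈ f j, a * b = b * a) ∧
        Nat.card ↥(⨆ i, f i) = ∏ i, Nat.card (f i) ∧
        J ⊓ Subgroup.centralizer ((⨆ i, f i : Subgroup S) : Set S) = ⊥ ∧
        ∀ u ∈ ⨆ i, f i, (∀ v ∈ J, Commute v u) → u = 1 := by
  intro n
  induction n with
  | zero =>
    intro J X _ hJ _ _ _
    refine ⟨fun i => i.elim0, fun i => i.elim0, fun i => i.elim0, fun i => i.elim0, fun i => i.elim0, ?_, ?_, ?_⟩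
    · rw [iSup_of_empty, Subgroup.card_bot]; simp
    · rw [Subgroup.card_eq_one.1 (hJ.trans (pow_zero 2)), bot_inf_eq]
    · intro u hu _
      rwa [iSup_of_empty, Subgroup.mem_bot] at hu
  | succ n ih =>
    intro J X hJI hJ hXF hIX hfaith
    have hXodd : Odd (Nat.card X) := hF.of_dvd_nat (Subgroup.card_dvd_of_le hXF)
    obtain ⟨t, htJ, ht1⟩ : ∃ t ∈ J, t ≠ 1 := by
      by_contra hno
      push Not at hno
      rw [(Subgroup.eq_bot_iff_forall J).2 hno, Subgroup.card_bot] at hJ
      exact absurd hJ.symm (Nat.one_lt_pow (by omega) (by norm_num)).ne'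
    obtain ⟨y, hyX, hyp, hyt, hys⟩ := exists_eigen I hI _ X rfl hXodd hIX t (hJI htJ) (by
      by_contra hno
      push Not at hno
      have hm : t ∈ J ⊓ Subgroup.centralizer (X : Set S) :=
        Subgroup.mem_inf.2 ⟨htJ, Subgroup.mem_centralizer_iff.2 fun u hu => (hno u hu).symm⟩
      rw [hfaith, Subgroup.mem_bot] at hm
      exact ht1 hm)
    set r := orderOf y with hr
    haveI : Fact r.Prime := ⟨hyp⟩
    set A := Subgroup.zpowers y with hA
    have hAcard : Nat.card A = r := Nat.card_zpowers y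
    have hAX : A ≤ X := Subgroup.zpowers_le.2 hyX
    have hIA : I ≤ Subgroup.normalizer (A : Set S) := by
      intro s hs
      refine Subgroup.mem_normalizer_fintype (S := (A : Set S)) fun u hu => ?_
      obtain ⟨k, rfl⟩ := Subgroup.mem_zpowers_iff.1 hu
      rw [← conj_zpow]
      exact zpow_mem (hys s hs) k
    set X₁ := X ⊓ Subgroup.centralizer (A : Set S) with hX₁
    set J₁ := J ⊓ Subgroup.centralizer (A : Set S) with hJ₁
    have hcentA : ∀ u, u ∈ Subgroup.centralizer (A : Set S) ↔ Commute u y := by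
      intro u
      refine ⟨fun h => (Subgroup.mem_centralizer_iff.1 h y (Subgroup.mem_zpowers y)).symm, fun h => ?_⟩
      refine Subgroup.mem_centralizer_iff.2 fun v hv => ?_
      obtain ⟨k, rfl⟩ := Subgroup.mem_zpowers_iff.1 hv
      exact (h.zpow_right k).eq.symm
    have hJ₁card : Nat.card J₁ = 2 ^ n := by
      have hidx : (J₁.subgroupOf J).index = 2 := by
        rw [Subgroup.index_eq_two_iff]
        refine ⟨⟨t, htJ⟩, fun u => ?_⟩
        simp only [Subgroup.mem_subgroupOf, hJ₁, Subgroup.mem_inf, hcentA, Subgroup.coe_mul]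
        have hty : ¬ Commute t y := hyt
        have hsq : ∀ v ∈ J, v * v = 1 := fun v hv => by rw [← pow_two]; exact hI.2 v (hJI hv)
        have hdich : ∀ v ∈ J, Commute v y ∨ v * y * v⁻¹ = y⁻¹ := by
          intro v hv
          set c := y * (v * y * v⁻¹) with hc
          have hvy : v * y * v⁻¹ ∈ A := hys v (hJI hv)
          have hcA : c ∈ A := mul_mem (Subgroup.mem_zpowers y) hvy
          by_cases hc1 : c = 1
          · exact Or.inr (eq_inv_of_mul_eq_one_right hc1)
          left
          have hvc : Commute v c := by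
            have hcom : y * (v * y * v⁻¹) = (v * y * v⁻¹) * y := congrArg Subtype.val
              (IsMulCommutative.is_comm.comm (⟨y, Subgroup.mem_zpowers y⟩ : A) ⟨_, hvy⟩)
            have hvv : v⁻¹ = v := inv_eq_of_mul_eq_one_right (hsq v hv)
            show v * c = c * v
            calc v * c = (v * y * v) * y * v := by rw [hc, hvv]; simp only [mul_assoc]
              _ = c * v := by rw [hc, hcom, hvv]
          have hyc : y ∈ Subgroup.zpowers c := by
            have : (Subgroup.zpowers c) = A := Subgroup.eq_of_le_of_card_ge (Subgroup.zpowers_le.2 hcA) (by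
              rw [hAcard, Nat.card_zpowers]
              rcases (Nat.dvd_prime hyp).1 (hAcard ▸ (Subgroup.orderOf_mk c hcA ▸ orderOf_dvd_natCard (⟨c, hcA⟩ : A))) with e | e
              · exact absurd (orderOf_eq_one_iff.1 e) hc1
              · rw [e])
            rw [this]; exact Subgroup.mem_zpowers y
          obtain ⟨k, hk⟩ := Subgroup.mem_zpowers_iff.1 hyc
          rw [← hk]
          exact hvc.zpow_right k
        have htinv : t * y * t⁻¹ = y⁻¹ := (hdich t htJ).resolve_left hty
        rcases hdich u u.2 with h | h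
        · refine Or.inr ⟨⟨u.2, h⟩, fun hh => hty ?_⟩
          have := (h.inv_left).mul_left hh.2
          simpa using this
        · have hu : ¬ Commute (u : S) y := fun h' => hty (by
            rw [h'.eq, mul_inv_cancel_right] at h
            have := eq_one_of_sq hXodd hyX (by nth_rewrite 1 [h]; rw [inv_mul_cancel])
            rw [this]; exact Commute.one_right t)
          refine Or.inl ⟨⟨mul_mem u.2 htJ, ?_⟩, fun hh => hu hh.2⟩
          show (u : S) * t * y = y * ((u : S) * t)
          calc (u : S) * t * y = (u : S) * (t * y * t⁻¹) * t := by group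
            _ = ((u : S) * y * (u : S)⁻¹)⁻¹ * ((u : S) * t) := by rw [htinv]; group
            _ = y * ((u : S) * t) := by rw [h, inv_inv]
      have h1 := (J₁.subgroupOf J).card_mul_index
      rw [hidx, Nat.card_congr (Subgroup.subgroupOfEquivOfLe (inf_le_left : J₁ ≤ J)).toEquiv, hJ, pow_succ] at h1
      exact Nat.eq_of_mul_eq_mul_right two_pos h1
    have hIX₁ : I ≤ Subgroup.normalizer (X₁ : Set S) := by
      intro s hs
      rw [Subgroup.mem_normalizer_iff]
      intro u
      have hnX := Subgroup.mem_normalizer_iff.1 (hIX hs) u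
      have hnC : s ∈ Subgroup.normalizer ((Subgroup.centralizer (A : Set S) : Subgroup S) : Set S) := by
        refine Subgroup.mem_normalizer_fintype (S := ((Subgroup.centralizer (A : Set S) : Subgroup S) : Set S)) fun u hu => ?_
        refine Subgroup.mem_centralizer_iff.2 fun a ha => ?_
        have h1 := Subgroup.mem_centralizer_iff.1 hu (s⁻¹ * a * s) (by
          have := (Subgroup.mem_normalizer_iff.1 (inv_mem (hIA hs)) a).1 ha
          rwa [inv_inv] at this)
        calc a * (s * u * s⁻¹) = s * ((s⁻¹ * a * s) * u) * s⁻¹ := by group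
          _ = s * u * s⁻¹ * a := by rw [h1]; group
      simp only [hX₁, Subgroup.mem_inf]
      exact and_congr hnX (Subgroup.mem_normalizer_iff.1 hnC u)
    have hfaith₁ : J₁ ⊓ Subgroup.centralizer (X₁ : Set S) = ⊥ := by
      refine (Subgroup.eq_bot_iff_forall _).2 fun j hj => ?_
      obtain ⟨hj1, hjX⟩ := Subgroup.mem_inf.1 hj
      obtain ⟨hjJ, hjA⟩ := Subgroup.mem_inf.1 hj1
      have hjm : j ∈ J ⊓ Subgroup.centralizer (X : Set S) := by
        refine Subgroup.mem_inf.2 ⟨hjJ, ?_⟩
        haveI hXnil : Group.IsNilpotent X :=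
          haveI := Solv.fittingSubgroup_nilpotent (G := S)
          Subgroup.isNilpotent_of_ker_le_center (Subgroup.inclusion hXF) (by rw [(MonoidHom.ker_eq_bot_iff _).2 (Subgroup.inclusion_injective hXF)]; exact bot_le)
        have htopX : (Subgroup.centralizer ({j} : Set S)).subgroupOf X = ⊤ := by
          refine Solv.eq_top_of_forall_sylow_le _ fun q hq => ?_
          obtain ⟨P⟩ : Nonempty (Sylow q X) := inferInstance
          refine ⟨P, fun w hw => ?_⟩
          rw [Subgroup.mem_subgroupOf, Subgroup.mem_centralizer_singleton_iff]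
          obtain ⟨k, hk⟩ := IsPGroup.iff_orderOf.1 P.isPGroup' ⟨w, hw⟩
          rw [Subgroup.orderOf_mk] at hk
          have hfix : ∀ u ∈ X, (∀ a ∈ A, u * a = a * u) → j * u = u * j := fun u hu hua =>
            (Subgroup.mem_centralizer_iff.1 hjX u (Subgroup.mem_inf.2 ⟨hu,
              Subgroup.mem_centralizer_iff.2 fun a ha => (hua a ha).symm⟩)).symm
          have hyo : orderOf (⟨y, hyX⟩ : X) = r ^ 1 := by rw [pow_one, Subgroup.orderOf_mk]
          by_cases hqr : q = r
          · subst hqr
            haveI hPn : (P : Subgroup X).Normal :=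
              ((Group.isNilpotent_of_finite_tfae (G := X)).out 0 3
                (a := Group.IsNilpotent X)
                (b := ∀ (q : ℕ) (_ : Fact q.Prime) (R : Sylow q X), (R : Subgroup X).Normal)).1 hXnil _ inferInstance P
            have hmemP : ∀ v : X, (∃ i, orderOf v = r ^ i) → v ∈ (P : Subgroup X) := by
              rintro v ⟨i, hi⟩
              have hv : IsPGroup r (Subgroup.zpowers v) := IsPGroup.of_card (n := i) (by rw [Nat.card_zpowers, hi])
              have := P.3 (hv.to_sup_of_normal_right P.isPGroup') le_sup_right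
              exact this ▸ Subgroup.mem_sup_left (Subgroup.mem_zpowers v)
            have hQ : IsPGroup r ((P : Subgroup X).map X.subtype) := P.isPGroup'.map _
            have hN : ∀ g, g ∈ Subgroup.normalizer (X : Set S) → g ∈ Subgroup.normalizer (((P : Subgroup X).map X.subtype : Subgroup S) : Set S) := by
              intro g hg
              refine Subgroup.mem_normalizer_fintype (S := (((P : Subgroup X).map X.subtype : Subgroup S) : Set S)) fun u hu => ?_
              obtain ⟨u, huP, rfl⟩ := hu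
              have hmem : g * (u : S) * g⁻¹ ∈ X := (Subgroup.mem_normalizer_iff.1 hg _).1 u.2
              refine ⟨⟨_, hmem⟩, hmemP _ ?_, rfl⟩
              obtain ⟨i, hi⟩ := IsPGroup.iff_orderOf.1 P.isPGroup' ⟨u, huP⟩
              refine ⟨i, ?_⟩
              rw [Subgroup.orderOf_mk, orderOf_inv_conj, ← hi, Subgroup.orderOf_mk, Subgroup.orderOf_coe]
            have hTQ : A ≤ (P : Subgroup X).map X.subtype := Subgroup.zpowers_le.2
              ⟨⟨y, hyX⟩, hmemP _ ⟨1, hyo⟩, rfl⟩
            have hc := Fusion.mem_centralizer_of_AB hQ (IsPGroup.of_card (n := 1) (by rw [hAcard, pow_one]))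
              (hTQ.trans Subgroup.le_normalizer) (hN j (hIX (hJI hjJ))) (fun a ha => (Subgroup.mem_centralizer_iff.1 hjA a ha).symm)
              (Nat.Coprime.coprime_dvd_left (orderOf_dvd_of_pow_eq_one (hI.2 j (hJI hjJ)))
                ((Nat.coprime_primes Nat.prime_two hyp).2 fun e => by
                  have h2 : r ∣ Nat.card X := hAcard ▸ Subgroup.card_dvd_of_le hAX
                  rw [← e] at h2
                  exact Nat.not_even_iff_odd.2 hXodd (even_iff_two_dvd.2 h2)))
              (fun u hu hua => hfix u (Subgroup.map_subtype_le _ hu) hua)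
            exact Subgroup.mem_centralizer_iff.1 hc (w : S) ⟨w, hw, rfl⟩
          · have hco : Commute (⟨y, hyX⟩ : X) w := Solv.commute_of_coprime_nilpotent hyo (by
              rw [hk]; exact Nat.Coprime.pow_left k ((Nat.coprime_primes hq.out hyp).2 hqr))
            refine (hfix w w.2 fun a ha => ?_).symm
            obtain ⟨i, rfl⟩ := Subgroup.mem_zpowers_iff.1 ha
            exact (((show Commute y (w : S) from congrArg Subtype.val hco)).zpow_left i).eq.symm
        refine Subgroup.mem_centralizer_iff.2 fun u hu => ?_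
        exact Subgroup.mem_centralizer_singleton_iff.1 (htopX.ge (Subgroup.mem_top (⟨u, hu⟩ : X)))
      rwa [hfaith, Subgroup.mem_bot] at hjm
    obtain ⟨f, hfp, hfX, hfI, hfc, hfcard, hfC, hffix⟩ := ih J₁ X₁ (inf_le_left.trans hJI) hJ₁card (inf_le_left.trans hXF) hIX₁ hfaith₁
    set B := ⨆ i, f i with hB
    have hBA : B ≤ Subgroup.centralizer (A : Set S) := iSup_le fun i => (hfX i).trans inf_le_right
    have hcomAB : ∀ (a : A) (b : B), Commute (A.subtype a) (B.subtype b) := fun a b =>
      Subgroup.mem_centralizer_iff.1 (hBA b.2) a a.2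
    have hJ₁A : ∀ v ∈ J₁, ∀ a ∈ A, Commute v a := fun v hv a ha =>
      (Subgroup.mem_centralizer_iff.1 (Subgroup.mem_inf.1 hv).2 a ha).symm
    have hmeet : ∀ u ∈ A, u ∈ B → u = 1 := fun u hA' hB' => hffix u hB' fun v hv => hJ₁A v hv u hA'
    let φ : A × B →* S := A.subtype.noncommCoprod B.subtype hcomAB
    have hφr : φ.range = A ⊔ B := by
      rw [MonoidHom.noncommCoprod_range, Subgroup.range_subtype, Subgroup.range_subtype]
    have hφi : Function.Injective φ := by
      rw [injective_iff_map_eq_one]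
      rintro ⟨a, b⟩ h
      have h' : (a : S) * (b : S) = 1 := h
      have ha : (a : S) = 1 := hmeet _ a.2 (by rw [eq_inv_of_mul_eq_one_left h']; exact inv_mem b.2)
      rw [ha, one_mul] at h'
      exact Prod.ext (Subtype.ext ha) (Subtype.ext h')
    have hsup : (⨆ i, (Fin.cons A f : Fin (n + 1) → Subgroup S) i) = A ⊔ B := by
      refine le_antisymm (iSup_le fun i => ?_) (sup_le ?_ (iSup_le fun i => ?_))
      · refine Fin.cases ?_ (fun j => ?_) i
        · exact le_sup_left
        · rw [Fin.cons_succ]; exact (le_iSup f j).trans le_sup_right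
      · exact le_iSup_of_le 0 (by simp)
      · exact le_iSup_of_le i.succ (by simp)
    refine ⟨Fin.cons A f, ?_, ?_, ?_, ?_, ?_, ?_, ?_⟩
    · exact Fin.cases (by rw [Fin.cons_zero, hAcard]; exact hyp) (fun j => by rw [Fin.cons_succ]; exact hfp j)
    · exact Fin.cases (by rw [Fin.cons_zero]; exact hAX) (fun j => by rw [Fin.cons_succ]; exact (hfX j).trans inf_le_left)
    · exact Fin.cases (by rw [Fin.cons_zero]; exact hIA) (fun j => by rw [Fin.cons_succ]; exact hfI j)
    · intro i
      refine Fin.cases ?_ (fun k => ?_) i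
      · intro j
        refine Fin.cases (fun h => absurd rfl h) (fun l => ?_) j
        intro _ a ha b hb
        rw [Fin.cons_zero] at ha; rw [Fin.cons_succ] at hb
        exact Subgroup.mem_centralizer_iff.1 ((hfX l hb : b ∈ X₁) |> fun h => (Subgroup.mem_inf.1 h).2) a ha
      · intro j
        refine Fin.cases ?_ (fun l => ?_) j
        · intro _ a ha b hb
          rw [Fin.cons_succ] at ha; rw [Fin.cons_zero] at hb
          exact (Subgroup.mem_centralizer_iff.1 ((hfX k ha : a ∈ X₁) |> fun h => (Subgroup.mem_inf.1 h).2) b hb).symm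
        · intro hne
          rw [Fin.cons_succ, Fin.cons_succ]
          exact hfc k l fun e => hne (by rw [e])
    · rw [hsup, Fin.prod_univ_succ, Fin.cons_zero]
      simp only [Fin.cons_succ]
      rw [← hfcard, ← hφr, ← Nat.card_congr (MonoidHom.ofInjective hφi).toEquiv, Nat.card_prod]
    · refine (Subgroup.eq_bot_iff_forall _).2 fun v hv => ?_
      obtain ⟨hvJ, hvC⟩ := Subgroup.mem_inf.1 hv
      rw [hsup] at hvC
      have hv1 : v ∈ J₁ := Subgroup.mem_inf.2 ⟨hvJ,
        Subgroup.centralizer_le (SetLike.coe_subset_coe.2 le_sup_left) hvC⟩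
      have hv2 : v ∈ J₁ ⊓ Subgroup.centralizer (B : Set S) := Subgroup.mem_inf.2 ⟨hv1,
        Subgroup.centralizer_le (SetLike.coe_subset_coe.2 le_sup_right) hvC⟩
      rwa [hfC, Subgroup.mem_bot] at hv2
    · intro u hu hfixu
      rw [hsup, ← hφr] at hu
      obtain ⟨⟨a, b⟩, rfl⟩ := hu
      have hb1 : (b : S) = 1 := by
        refine hffix _ b.2 fun v hv => ?_
        have h1 : Commute v ((a : S) * (b : S)) := hfixu v (Subgroup.mem_inf.1 hv).1
        have h2 := ((hJ₁A v hv a a.2).inv_right).mul_right h1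
        rwa [inv_mul_cancel_left] at h2
      have h1 : Commute t ((a : S) * (b : S)) := hfixu t htJ
      rw [hb1, mul_one] at h1
      show (a : S) * (b : S) = 1
      rw [hb1, mul_one]
      by_contra ha1
      refine hyt ?_
      have hgen : Subgroup.zpowers (a : S) = A := Subgroup.eq_of_le_of_card_ge (Subgroup.zpowers_le.2 a.2) (by
        rw [hAcard, Nat.card_zpowers]
        rcases (Nat.dvd_prime hyp).1 (hAcard ▸ (Subgroup.orderOf_coe a ▸ orderOf_dvd_natCard a)) with e | e
        · exact absurd (orderOf_eq_one_iff.1 e) ha1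
        · rw [e])
      obtain ⟨k, hk⟩ := Subgroup.mem_zpowers_iff.1 (hgen.ge (Subgroup.mem_zpowers y))
      rw [← hk]
      exact (h1.zpow_right k).eq

/-- Let S be a finite solvable group whose Fitting subgroup F(S) has odd order, and let I be an elementary abelian 2-subgroup of S of order 2ⁿ with n ≥ 1. Then F(S) contains subgroups A₁, …, Aₙ of prime order, each normalized by I, pairwise commuting and generating a subgroup A of order |A₁|⋯|Aₙ| (their internal direct product), such that no non-identity element of I centralizes A. -/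
theorem result {S : Type*} [Group S] [Finite S]
    [Group.IsSolvable S] (hF : Odd (Nat.card ↥(Cfsg.fittingSubgroup S)))
    (I : Subgroup S) (hI : Cfsg.IsElementaryAbelian 2 I) (n : ℕ) (hn : 1 ≤ n) (hIn : Nat.card ↥I = 2 ^ n) :
    ∃ f : Fin n → Subgroup S, (∀ i, (Nat.card ↥(f i)).Prime) ∧ (∀ i, f i ≤ Cfsg.fittingSubgroup S) ∧
      (∀ i, I ≤ Subgroup.normalizer ((f i) : Set S)) ∧ (∀ i j, i ≠ j → ∀ a ∈ f i, ∀ b ∈ f j, a * b = b * a) ∧
      Nat.card ↥(⨆ i, f i) = ∏ i, Nat.card ↥(f i) ∧ I ⊓ Subgroup.centralizer ((⨆ i, f i : Subgroup S) : Set S) = ⊥ := by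
  haveI := Solv.fittingSubgroup_normal (G := S)
  have hfaith : I ⊓ Subgroup.centralizer (Cfsg.fittingSubgroup S : Set S) = ⊥ := by
    refine (Subgroup.eq_bot_iff_forall _).2 fun v hv => ?_
    obtain ⟨h1, h2⟩ := Subgroup.mem_inf.1 hv
    exact eq_one_of_sq hF (Solv.centralizer_fitting_le inferInstance h2) (by rw [← pow_two]; exact hI.2 v h1)
  obtain ⟨f, h1, h2, h3, h4, h5, h6, -⟩ := main hF I hI n I (Cfsg.fittingSubgroup S) le_rfl hIn le_rfl
    (le_top.trans (Subgroup.normalizer_eq_top_iff.2 Solv.fittingSubgroup_normal).ge) hfaith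
  exact ⟨f, h1, h2, h3, h4, h5, h6⟩

end Cfsg.Agent.S4408
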