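import Cfsg.Statements.S4409
import Cfsg.Agent.Lib.Perm.NoEight
import Cfsg.Agent.Lib.Solv.Hall
import Cfsg.Agent.Lib.Solv.Coprime
import Cfsg.Agent.Lib.Solv.Cores
import Cfsg.Agent.Lib.Solv.PGroupPhi
import Cfsg.Agent.Lib.Fusion.SolvableBalance
import Cfsg.Agent.Lib.Fusion.Cores

set_option autoImplicit false
open Cfsg
open Cfsg.Agent
open Cfsg.Agent.Perm
open scoped Pointwise commutatorElement

namespace Cfsg.Agent.S4409

universe u

variable {S : Type u} [Group S] [Finite S]

/-- The minimality hypothesis of the statement. -/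
def Minimal (S : Type u) [Group S] : Prop :=
  ∀ R : Subgroup S, R ≠ ⊤ → (∃ k : ℕ, R.index = 2 ^ k) →
    ¬ ∃ A : Subgroup S, A ≤ R ∧ IsMulCommutative ↥A ∧ ¬ IsCyclic ↥A ∧ Nat.card ↥A = 8

/-- A 2-subgroup normalised by the odd Hall subgroup and containing such an `A` is a Sylow subgroup. -/
theorem big (hmin : Minimal S) {a m : ℕ} (hS : Nat.card S = 2 ^ a * m) (hm : Odd m)
    {H : Subgroup S} (hH : Nat.card ↥H = m) {Y A : Subgroup S} (hY : IsPGroup 2 ↥Y)
    (hHY : H ≤ Subgroup.normalizer (Y : Set S)) (hA : IsMulCommutative ↥A) (hAc : ¬ IsCyclic ↥A)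
    (hA8 : Nat.card ↥A = 8) (hAY : A ≤ Y) : Nat.card ↥Y = 2 ^ a := by
  have : Fact (Nat.Prime 2) := ⟨Nat.prime_two⟩
  obtain ⟨b, hb⟩ := IsPGroup.iff_card.1 hY
  have hco : (2 ^ b).Coprime m := (Nat.coprime_two_left.2 hm).pow_left b
  have hinf : Y ⊓ H = ⊥ := Solv.coprime_inf (by rw [hb, hH]; exact hco)
  have hc := Solv.card_sup_mul_card_inf' Y H hHY
  rw [hinf, Subgroup.card_bot, mul_one, hb, hH] at hc
  have hba : b ≤ a := by
    have h1 : 2 ^ b ∣ 2 ^ a * m := hS ▸ hb ▸ Subgroup.card_subgroup_dvd_card Y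
    exact (Nat.pow_dvd_pow_iff_le_right (by norm_num)).1 (hco.dvd_of_dvd_mul_right h1)
  have hidx : (Y ⊔ H).index = 2 ^ (a - b) := by
    have h1 := (Y ⊔ H).card_mul_index
    rw [hc, hS] at h1
    have h2 : 2 ^ b * m * 2 ^ (a - b) = 2 ^ a * m := by
      rw [mul_right_comm, ← pow_add, Nat.add_sub_cancel' hba]
    exact Nat.eq_of_mul_eq_mul_left (Nat.mul_pos (Nat.two_pow_pos b) hm.pos) (h1.trans h2.symm)
  have htop : Y ⊔ H = ⊤ := by
    by_contra h
    exact hmin _ h ⟨_, hidx⟩ ⟨A, hAY.trans le_sup_left, hA, hAc, hA8⟩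
  rw [htop, Subgroup.index_top] at hidx
  rcases Nat.eq_zero_or_pos (a - b) with h | h
  · rw [hb, show b = a by omega]
  · exact absurd hidx.symm (Nat.one_lt_pow h.ne' (by norm_num)).ne'

omit [Finite S] in
theorem not_cyclic_map {Y : Type*} [Group Y] (f : Y →* S) (hf : Function.Injective f) {B : Subgroup Y}
    (hB : ¬ IsCyclic ↥B) : ¬ IsCyclic ↥(B.map f) := fun h =>
  hB (isCyclic_of_injective (f := (B.equivMapOfInjective f hf).toMonoidHom)
    (B.equivMapOfInjective f hf).injective)

omit [Finite S] in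
theorem comm_map {Y : Type*} [Group Y] (f : Y →* S) {B : Subgroup Y}
    (hB : IsMulCommutative ↥B) : IsMulCommutative ↥(B.map f) := by
  refine ⟨⟨fun x y => ?_⟩⟩
  obtain ⟨_, a, ha, rfl⟩ := x
  obtain ⟨_, b, hb, rfl⟩ := y
  apply Subtype.ext
  show f a * f b = f b * f a
  rw [← map_mul, ← map_mul]
  exact congrArg f (congrArg Subtype.val (hB.is_comm.comm ⟨a, ha⟩ ⟨b, hb⟩))

theorem na_of_not (Y : Subgroup S)
    (h : ∀ A : Subgroup S, A ≤ Y → IsMulCommutative ↥A → ¬ IsCyclic ↥A → Nat.card ↥A ≠ 8) :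
    NoEight.NA ↥Y := fun B hB hBc hB8 =>
  h (B.map Y.subtype) (Subgroup.map_subtype_le B) (comm_map _ hB)
    (not_cyclic_map _ Y.subtype_injective hBc)
    (by rw [← Nat.card_congr (B.equivMapOfInjective _ Y.subtype_injective).toEquiv]; exact hB8)

theorem odd_order_of_mem {m : ℕ} (hm : Odd m) {H : Subgroup S} (hH : Nat.card ↥H = m) {h : S}
    (hh : h ∈ H) : Odd (orderOf h) := by
  have hd : orderOf h ∣ m := hH ▸ (Subgroup.orderOf_mk h hh) ▸ orderOf_dvd_natCard (⟨h, hh⟩ : ↥H)
  exact hm.of_dvd_nat hd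

theorem odd_conj {Y : Subgroup S} [Y.Normal] {h : S} (hh : Odd (orderOf h)) :
    Odd (orderOf (MulAut.conjNormal h : MulAut ↥Y)) :=
  hh.of_dvd_nat (orderOf_map_dvd _ h)

theorem conjNormal_eq_one {Y : Subgroup S} [Y.Normal] {h : S}
    (he : (MulAut.conjNormal h : MulAut ↥Y) = 1) : ∀ y ∈ Y, h * y = y * h := fun y hy => by
  have e := congrArg Subtype.val (DFunLike.congr_fun he (⟨y, hy⟩ : ↥Y))
  rw [MulAut.conjNormal_apply, MulAut.one_apply] at e
  exact mul_inv_eq_iff_eq_mul.1 e

/-- A quaternion subgroup is not centralised modulo itself by an involution outside. -/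
theorem quaternion_obstruct {T A : Subgroup S} [T.Normal]
    (hC : Subgroup.centralizer (T : Set S) ≤ T) (hnc : ∃ x y : ↥T, x * y ≠ y * x)
    (h8 : Nat.card ↥T = 8)
    (hu : ∀ s t : ↥T, s ^ 2 = 1 → s ≠ 1 → t ^ 2 = 1 → t ≠ 1 → s = t)
    (hA : IsMulCommutative ↥A) (hAc : ¬ IsCyclic ↥A) (hA8 : Nat.card ↥A = 8)
    (hAT : 4 ≤ Nat.card ↥(A ⊓ T : Subgroup S)) : False := by
  classical
  have : Fact (Nat.Prime 2) := ⟨Nat.prime_two⟩
  have hAcomm : ∀ x ∈ A, ∀ y ∈ A, x * y = y * x := fun x hx y hy =>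
    congrArg Subtype.val (hA.is_comm.comm ⟨x, hx⟩ ⟨y, hy⟩)
  have hne : A ⊓ T ≠ T := fun e => by
    obtain ⟨x, y, hxy⟩ := hnc
    exact hxy (Subtype.ext (hAcomm x (e.ge x.2).1 y (e.ge y.2).1))
  have hI4 : Nat.card ↥(A ⊓ T : Subgroup S) = 4 := by
    have hdvd : Nat.card ↥(A ⊓ T : Subgroup S) ∣ 8 := h8 ▸ Subgroup.card_dvd_of_le inf_le_right
    obtain ⟨e, he, heq⟩ := (Nat.dvd_prime_pow Nat.prime_two).1 (show _ ∣ 2 ^ 3 from hdvd)
    interval_cases e
    · omega
    · omega
    · rw [heq]; norm_num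
    · exact absurd (Subgroup.eq_of_le_of_card_ge inf_le_right (by rw [heq, h8]; norm_num)) hne
  set I := A ⊓ T with hI
  have hIu : Solv.UniqueOrderP 2 ↥I := by
    intro x y hx hy hy1
    by_cases hx1 : x = 1
    · rw [hx1]; exact one_mem _
    have h := hu ⟨x.1, x.2.2⟩ ⟨y.1, y.2.2⟩ (Subtype.ext (congrArg Subtype.val hx :))
      (fun e => hx1 (Subtype.ext (congrArg Subtype.val e :)))
      (Subtype.ext (congrArg Subtype.val hy :)) (fun e => hy1 (Subtype.ext (congrArg Subtype.val e :)))
    rw [show x = y from Subtype.ext (congrArg Subtype.val h :)]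
    exact Subgroup.mem_zpowers y
  obtain ⟨i, -, hi⟩ := Solv.abelian_cyclic_of_unique (IsPGroup.of_card (p := 2) (n := 2) (by rw [hI4]; norm_num))
    hIu ⊤ (fun x _ y _ => Subtype.ext (hAcomm x x.2.1 y y.2.1))
  have hmemI : ∀ w : S, w ∈ I ↔ ∃ k : ℤ, (i : S) ^ k = w := by
    intro w
    constructor
    · intro hw
      obtain ⟨k, hk⟩ := Subgroup.mem_zpowers_iff.1 (hi ▸ Subgroup.mem_top (⟨w, hw⟩ : ↥I))
      exact ⟨k, congrArg Subtype.val hk⟩
    · rintro ⟨k, rfl⟩; exact zpow_mem i.2 k
  have hord : orderOf (i : S) = 4 := by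
    rw [Subgroup.orderOf_coe, ← Nat.card_zpowers, ← hi, Subgroup.card_top, hI4]
  -- an involution of `A` outside `T`
  obtain ⟨a, haA, haT, ha2⟩ : ∃ a ∈ A, a ∉ T ∧ a ^ 2 = 1 := by
    by_contra hcon
    push Not at hcon
    apply hAc
    have hAu : Solv.UniqueOrderP 2 ↥A := by
      intro x y hx hy hy1
      by_cases hx1 : x = 1
      · rw [hx1]; exact one_mem _
      have hx' : (x : S) ^ 2 = 1 := congrArg Subtype.val hx
      have hy' : (y : S) ^ 2 = 1 := congrArg Subtype.val hy
      have hxT : (x : S) ∈ T := by_contra fun h => hcon x x.2 h hx'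
      have hyT : (y : S) ∈ T := by_contra fun h => hcon y y.2 h hy'
      have h := hu ⟨x.1, hxT⟩ ⟨y.1, hyT⟩ (Subtype.ext hx')
        (fun e => hx1 (Subtype.ext (congrArg Subtype.val e :)))
        (Subtype.ext hy') (fun e => hy1 (Subtype.ext (congrArg Subtype.val e :)))
      rw [show x = y from Subtype.ext (congrArg Subtype.val h :)]
      exact Subgroup.mem_zpowers y
    obtain ⟨g, -, hg⟩ := Solv.abelian_cyclic_of_unique (IsPGroup.of_card (p := 2) (n := 3) (by rw [hA8]; norm_num))
      hAu ⊤ (fun x _ y _ => hA.is_comm.comm x y)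
    exact isCyclic_iff_exists_zpowers_eq_top.2 ⟨g, hg.symm⟩
  obtain ⟨j, hjT, hjI⟩ : ∃ j ∈ T, j ∉ I :=
    SetLike.exists_of_lt (lt_of_le_of_ne inf_le_right hne)
  have hai : a * (i : S) = (i : S) * a := hAcomm a haA i i.2.1
  have hainv : a⁻¹ = a := inv_eq_of_mul_eq_one_right (by rw [← pow_two, ha2])
  set j' := a * j * a⁻¹ with hj'
  have hj'T : j' ∈ T := Subgroup.Normal.conj_mem inferInstance j hjT a
  -- `j⁻¹ * j'` lies in `I`
  have hdiff : j⁻¹ * j' ∈ I := by
    have hrel : I.relIndex T = 2 := by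
      have hmul := Subgroup.relIndex_mul_relIndex (⊥ : Subgroup S) I T bot_le inf_le_right
      rw [Subgroup.relIndex_bot_left, Subgroup.relIndex_bot_left, hI4, h8] at hmul
      omega
    have hj'I : j' ∉ I := fun h => hjI (by
      have h1 : a * j' * a⁻¹ ∈ I := by
        obtain ⟨k, hk⟩ := (hmemI _).1 h
        rw [← hk, ((show Commute a (i : S) from hai).zpow_right k).eq, mul_inv_cancel_right]
        exact zpow_mem i.2 k
      have e : a * j' * a⁻¹ = j := by
        calc a * (a * j * a⁻¹) * a⁻¹ = (a ^ 2) * j * (a ^ 2)⁻¹ := by rw [pow_two]; group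
          _ = j := by rw [ha2]; group
      rwa [e] at h1)
    have h := Subgroup.mul_mem_iff_of_index_two (H := I.subgroupOf T) hrel
      (a := (⟨j, hjT⟩ : ↥T)⁻¹) (b := ⟨j', hj'T⟩)
    simp only [Subgroup.mem_subgroupOf, Subgroup.coe_mul, Subgroup.coe_inv, inv_mem_iff] at h
    exact h.2 (iff_of_false hjI hj'I)
  obtain ⟨k, hk⟩ := (hmemI _).1 hdiff
  have hj'eq : j' = j * (i : S) ^ k := by rw [hk]; group
  have hi4 : (i : S) ^ (4 : ℕ) = 1 := by rw [← hord, pow_orderOf_eq_one]
  have hsq : (i : S) ^ (2 * k) = 1 := by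
    have e : j = j * ((i : S) ^ k * (i : S) ^ k) := by
      calc j = a * j' * a⁻¹ := by
            rw [hj']
            calc j = (a ^ 2) * j * (a ^ 2)⁻¹ := by rw [ha2]; group
              _ = a * (a * j * a⁻¹) * a⁻¹ := by rw [pow_two]; group
        _ = (a * j * a⁻¹) * (a * (i : S) ^ k * a⁻¹) := by rw [hj'eq]; group
        _ = j' * (i : S) ^ k := by
            rw [((show Commute a (i : S) from hai).zpow_right k).eq, mul_inv_cancel_right, hj']
        _ = _ := by rw [hj'eq, mul_assoc]
    rw [← zpow_add, ← two_mul, left_eq_mul] at e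
    exact e
  rw [← orderOf_dvd_iff_zpow_eq_one, hord] at hsq
  have hzc : ∀ x ∈ T, x * (i : S) ^ (2 : ℕ) = (i : S) ^ (2 : ℕ) * x := by
    intro x hx
    have hz1 : (i : S) ^ (2 : ℕ) ≠ 1 := fun e => by
      have := orderOf_dvd_of_pow_eq_one e
      rw [hord] at this; norm_num at this
    have hsq1 : ((i : S) ^ (2 : ℕ)) ^ 2 = 1 := by rw [← pow_mul]; exact hi4
    have h := hu ⟨x * (i : S) ^ (2 : ℕ) * x⁻¹, mul_mem (mul_mem hx (pow_mem i.2.2 2)) (inv_mem hx)⟩
      ⟨(i : S) ^ (2 : ℕ), pow_mem i.2.2 2⟩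
      (Subtype.ext (by
        show (x * (i : S) ^ (2 : ℕ) * x⁻¹) ^ 2 = 1
        rw [conj_pow, hsq1, mul_one, mul_inv_cancel]))
      (fun e => hz1 (conj_eq_one_iff.1 (congrArg Subtype.val e)))
      (Subtype.ext hsq1) (fun e => hz1 (congrArg Subtype.val e))
    exact mul_inv_eq_iff_eq_mul.1 (congrArg Subtype.val h)
  -- a suitable translate of `a` centralises `T`
  obtain ⟨w, hwI, hwj⟩ : ∃ w ∈ I, w * j * w⁻¹ = j' := by
    have hk' : k % 4 = 0 ∨ k % 4 = 2 := by omega
    have hkmod : (i : S) ^ k = (i : S) ^ (k % 4) := by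
      rw [← zpow_mod_orderOf, hord]; norm_num
    rcases hk' with e | e
    · exact ⟨1, one_mem _, by rw [hj'eq, hkmod, e]; group⟩
    · refine ⟨i, i.2, ?_⟩
      rw [hj'eq, hkmod, e, zpow_ofNat]
      have hnc' : (i : S) * j * (i : S)⁻¹ ≠ j := fun h => by
        apply hne
        refine (Subgroup.eq_of_le_of_card_ge inf_le_right ?_)
        by_contra hlt
        obtain ⟨x, y, hxy⟩ := hnc
        have hgenT : ∀ x : ↥T, (x : S) ∈ I ∨ (j : S)⁻¹ * x ∈ I := by
          intro x
          by_cases hx : (x : S) ∈ I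
          · exact Or.inl hx
          right
          have hrel : I.relIndex T = 2 := by
            have hmul := Subgroup.relIndex_mul_relIndex (⊥ : Subgroup S) I T bot_le inf_le_right
            rw [Subgroup.relIndex_bot_left, Subgroup.relIndex_bot_left, hI4, h8] at hmul
            omega
          have h' := Subgroup.mul_mem_iff_of_index_two (H := I.subgroupOf T) hrel
            (a := (⟨j, hjT⟩ : ↥T)⁻¹) (b := x)
          simp only [Subgroup.mem_subgroupOf, Subgroup.coe_mul, Subgroup.coe_inv, inv_mem_iff] at h'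
          exact h'.2 (iff_of_false hjI hx)
        have hcij : Commute (i : S) j := mul_inv_eq_iff_eq_mul.1 h
        have hform : ∀ x : ↥T, ∃ (e : ℕ) (k : ℤ), (x : S) = j ^ e * (i : S) ^ k := by
          intro x
          rcases hgenT x with hx | hx
          · obtain ⟨k, hk⟩ := (hmemI _).1 hx
            exact ⟨0, k, by rw [hk]; simp⟩
          · obtain ⟨k, hk⟩ := (hmemI _).1 hx
            exact ⟨1, k, by rw [hk, pow_one, mul_inv_cancel_left]⟩
        obtain ⟨e1, k1, h1⟩ := hform x
        obtain ⟨e2, k2, h2⟩ := hform y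
        refine hxy (Subtype.ext ?_)
        show (x : S) * y = y * x
        rw [h1, h2]
        exact ((((Commute.refl j).pow_pow e1 e2).mul_right ((hcij.symm.pow_left e1).zpow_right k2)).mul_left
          ((((hcij.zpow_left k1).pow_right e2)).mul_right ((Commute.refl (i : S)).zpow_zpow k1 k2))).eq
      have hconjT : (i : S) * j * (i : S)⁻¹ ∈ T := mul_mem (mul_mem i.2.2 hjT) (inv_mem i.2.2)
      have hcI : j⁻¹ * ((i : S) * j * (i : S)⁻¹) ∈ I := by
        have hrel : I.relIndex T = 2 := by
          have hmul := Subgroup.relIndex_mul_relIndex (⊥ : Subgroup S) I T bot_le inf_le_right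
          rw [Subgroup.relIndex_bot_left, Subgroup.relIndex_bot_left, hI4, h8] at hmul
          omega
        have hnI : (i : S) * j * (i : S)⁻¹ ∉ I := fun h => hjI (by
          have := mul_mem (mul_mem (inv_mem i.2) h) i.2
          simpa [mul_assoc] using this)
        have h' := Subgroup.mul_mem_iff_of_index_two (H := I.subgroupOf T) hrel
          (a := (⟨j, hjT⟩ : ↥T)⁻¹) (b := ⟨_, hconjT⟩)
        simp only [Subgroup.mem_subgroupOf, Subgroup.coe_mul, Subgroup.coe_inv, inv_mem_iff] at h'
        exact h'.2 (iff_of_false hjI hnI)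
      obtain ⟨l, hl⟩ := (hmemI _).1 hcI
      have hl' : (i : S) * j * (i : S)⁻¹ = j * (i : S) ^ (l % 4) := by
        rw [← show (i : S) ^ l = (i : S) ^ (l % 4) by rw [← zpow_mod_orderOf, hord]; norm_num, hl]
        group
      -- `i²` is central, and conjugation by `i` twice is trivial
      have hl2 : (i : S) ^ ((l % 4) * 2) = 1 := by
        have hc2 : j = (i : S) ^ (2 : ℕ) * j * ((i : S) ^ (2 : ℕ))⁻¹ := by
          rw [← hzc j hjT, mul_inv_cancel_right]
        have e : j = j * ((i : S) ^ (l % 4) * (i : S) ^ (l % 4)) := by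
          calc j = (i : S) * ((i : S) * j * (i : S)⁻¹) * (i : S)⁻¹ := by
                rw [show (i : S) * ((i : S) * j * (i : S)⁻¹) * (i : S)⁻¹ =
                  (i : S) ^ (2 : ℕ) * j * ((i : S) ^ (2 : ℕ))⁻¹ by rw [pow_two]; group]
                exact hc2
            _ = (i : S) * (j * (i : S) ^ (l % 4)) * (i : S)⁻¹ := by rw [hl']
            _ = ((i : S) * j * (i : S)⁻¹) * (i : S) ^ (l % 4) := by group
            _ = _ := by rw [hl', mul_assoc]
        rw [← zpow_add, left_eq_mul] at e
        rwa [mul_two]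
      rw [← orderOf_dvd_iff_zpow_eq_one, hord] at hl2
      have hl0 : l % 4 ≠ 0 := fun h0 => hnc' (by rw [hl', h0, zpow_zero, mul_one])
      rw [hl', show l % 4 = 2 by omega, zpow_ofNat]
  have hcent : w⁻¹ * a ∈ Subgroup.centralizer (T : Set S) := by
    refine Subgroup.mem_centralizer_iff.2 fun x hx => ?_
    obtain ⟨kw, hkw⟩ := (hmemI _).1 hwI
    have hci : Commute (w⁻¹ * a) (i : S) := by
      rw [← hkw]
      exact ((Commute.refl (i : S)).zpow_left kw).inv_left.mul_left hai
    have hcj : Commute (w⁻¹ * a) j := by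
      show w⁻¹ * a * j = j * (w⁻¹ * a)
      calc w⁻¹ * a * j = w⁻¹ * (a * j * a⁻¹) * a := by group
        _ = w⁻¹ * (w * j * w⁻¹) * a := by rw [← hj', hwj]
        _ = _ := by group
    by_cases hxI : x ∈ I
    · obtain ⟨k, rfl⟩ := (hmemI _).1 hxI
      exact (hci.zpow_right k).symm.eq
    · have hrel : I.relIndex T = 2 := by
        have hmul := Subgroup.relIndex_mul_relIndex (⊥ : Subgroup S) I T bot_le inf_le_right
        rw [Subgroup.relIndex_bot_left, Subgroup.relIndex_bot_left, hI4, h8] at hmul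
        omega
      have h' := Subgroup.mul_mem_iff_of_index_two (H := I.subgroupOf T) hrel
        (a := (⟨j, hjT⟩ : ↥T)⁻¹) (b := ⟨x, hx⟩)
      simp only [Subgroup.mem_subgroupOf, Subgroup.coe_mul, Subgroup.coe_inv, inv_mem_iff] at h'
      obtain ⟨k, hk⟩ := (hmemI _).1 (h'.2 (iff_of_false hjI hxI))
      have e : x = j * (i : S) ^ k := by rw [hk]; group
      rw [e]
      exact (hcj.mul_right (hci.zpow_right k)).symm.eq
  apply haT
  have := mul_mem hwI.2 (hC hcent)
  rwa [mul_inv_cancel_left] at this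

theorem part1 [Group.IsSolvable S] (hmin : Minimal S) (hO : Cfsg.pPrimeCore 2 S = ⊥)
    {a m : ℕ} (hS : Nat.card S = 2 ^ a * m) (hm : Odd m) {H : Subgroup S} (hH : Nat.card ↥H = m)
    {A : Subgroup S} (hA : IsMulCommutative ↥A) (hAc : ¬ IsCyclic ↥A) (hA8 : Nat.card ↥A = 8)
    (X : Sylow 2 S) :
    (X : Subgroup S).Normal ∧
      Subgroup.centralizer ((X : Subgroup S) : Set S) ≤ (X : Subgroup S) := by
  classical
  have : Fact (Nat.Prime 2) := ⟨Nat.prime_two⟩
  set T := Cfsg.pCore 2 S with hT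
  have hTn : T.Normal := Solv.pCore_normal 2
  have hTp : IsPGroup 2 ↥T := Solv.pCore_isPGroup 2
  have hC : Subgroup.centralizer (T : Set S) ≤ T :=
    Fusion.centralizer_pCore_le_of_solvable inferInstance hO
  have hXcard : Nat.card ↥(X : Subgroup S) = 2 ^ a := by
    rw [Sylow.card_eq_multiplicity X, hS, Nat.factorization_mul (pow_ne_zero a two_ne_zero)
      hm.pos.ne', Finsupp.add_apply, Nat.prime_two.factorization_pow, Finsupp.single_eq_same,
      Nat.factorization_eq_zero_of_not_dvd (fun h => (Nat.not_even_iff_odd.2 hm) (even_iff_two_dvd.2 h)),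
      add_zero]
  by_cases hhas : ∃ B : Subgroup S, B ≤ T ∧ IsMulCommutative ↥B ∧ ¬ IsCyclic ↥B ∧ Nat.card ↥B = 8
  · obtain ⟨B, hBT, hB, hBc, hB8⟩ := hhas
    have hcard := big hmin hS hm hH hTp
      (fun h _ => by rw [Subgroup.normalizer_eq_top_iff.2 hTn]; exact Subgroup.mem_top h) hB hBc hB8 hBT
    have hTX : T ≤ (X : Subgroup S) := Cfsg.Agent.Fusion.pCore_le_sylow X
    have e := Subgroup.eq_of_le_of_card_ge hTX (by rw [hcard, hXcard])
    rw [← e]
    exact ⟨hTn, hC⟩
  exfalso
  push Not at hhas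
  have hNA := na_of_not T hhas
  -- some odd element moves `T`
  obtain ⟨h, hh, hmove⟩ : ∃ h ∈ H, (MulAut.conjNormal h : MulAut ↥T) ≠ 1 := by
    by_contra hcon
    push Not at hcon
    have hHT : H ≤ T := fun h hh => hC (Subgroup.mem_centralizer_iff.2 fun y hy =>
      (conjNormal_eq_one (hcon h hh) y hy).symm)
    have hm1 : m = 1 := by
      obtain ⟨b, hb⟩ := IsPGroup.iff_card.1 hTp
      have : m ∣ 2 ^ b := hH ▸ hb ▸ Subgroup.card_dvd_of_le hHT
      exact Nat.eq_one_of_dvd_coprimes ((Nat.coprime_two_left.2 hm).pow_left b).symm dvd_rfl this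
    have hSp : IsPGroup 2 S := IsPGroup.of_card (n := a) (by rw [hS, hm1, mul_one])
    have htop : T = ⊤ := top_le_iff.1 (Solv.normal_le_pCore (N := (⊤ : Subgroup S))
      (hSp.to_subgroup ⊤))
    exact hhas A (htop ▸ le_top) hA hAc hA8
  have hoddc : Odd (orderOf (MulAut.conjNormal h : MulAut ↥T)) :=
    odd_conj (odd_order_of_mem hm hH hh)
  have hAp : IsPGroup 2 ↥A := IsPGroup.of_card (n := 3) (by rw [hA8]; norm_num)
  obtain ⟨X', hAX'⟩ := hAp.exists_le_sylow
  have hTX' : T ≤ (X' : Subgroup S) := Cfsg.Agent.Fusion.pCore_le_sylow X'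
  let f : ↥(X' : Subgroup S) →* MulAut ↥T := MulAut.conjNormal.comp (X' : Subgroup S).subtype
  have hker : ∀ x : ↥(X' : Subgroup S), x ∈ f.ker → (x : S) ∈ Subgroup.centralizer (T : Set S) :=
    fun x hx => Subgroup.mem_centralizer_iff.2 fun y hy => (conjNormal_eq_one hx y hy).symm
  obtain ⟨k, hk⟩ := IsPGroup.iff_card.1 (X'.2.of_surjective f.rangeRestrict f.rangeRestrict_surjective)
  have hkd : 2 ^ k ∣ Nat.card (MulAut ↥T) := hk ▸ Subgroup.card_subgroup_dvd_card _
  have hX'card : Nat.card ↥(X' : Subgroup S) = Nat.card ↥f.ker * 2 ^ k := by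
    rw [Subgroup.card_eq_card_quotient_mul_card_subgroup f.ker, mul_comm,
      Nat.card_congr (QuotientGroup.quotientKerEquivRange f).toEquiv, hk]
  have hA' : Nat.card ↥(A ⊔ T : Subgroup S) * Nat.card ↥(A ⊓ T : Subgroup S) = 8 * Nat.card ↥T := by
    have := Solv.card_sup_mul_card_inf' T A (fun x _ => by
      rw [Subgroup.normalizer_eq_top_iff.2 hTn]; exact Subgroup.mem_top x)
    rw [sup_comm, inf_comm, this, hA8, mul_comm]
  have hAT : Nat.card ↥(A ⊔ T : Subgroup S) ≤ Nat.card ↥(X' : Subgroup S) :=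
    Nat.le_of_dvd Nat.card_pos (Subgroup.card_dvd_of_le (sup_le hAX' hTX'))
  rcases NoEight.odd_aut hTp hNA hoddc hmove with ⟨hTc, hT4, -, -⟩ | ⟨hnc, hT8, huniq⟩
  · -- a four group
    have hinj : Nat.card (MulAut ↥T) ≤ 6 := by
      let g : MulAut ↥T → Equiv.Perm {x : ↥T // x ≠ 1} := fun e =>
        e.toEquiv.subtypeEquiv fun x => not_congr ⟨fun h => by rw [h]; exact map_one e,
          fun h => e.injective (h.trans (map_one e).symm)⟩
      have hg : Function.Injective g := fun e e' hee => MulEquiv.ext fun x => by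
        by_cases hx : x = 1
        · rw [hx, map_one, map_one]
        · exact congrArg Subtype.val (Equiv.congr_fun hee ⟨x, hx⟩)
      refine (Nat.card_le_card_of_injective g hg).trans ?_
      rw [Nat.card_perm]
      have : Nat.card {x : ↥T // x ≠ 1} = 3 := by
        letI : Fintype ↥T := Fintype.ofFinite _
        rw [Nat.card_eq_fintype_card, Fintype.card_subtype_compl, Fintype.card_subtype_eq,
          ← Nat.card_eq_fintype_card, hT4]
      rw [this]; decide
    have h3 : orderOf (MulAut.conjNormal h : MulAut ↥T) ∣ Nat.card (MulAut ↥T) := orderOf_dvd_natCard _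
    have hkle : k ≤ 1 := by
      by_contra hk2
      have h4 : 4 ∣ Nat.card (MulAut ↥T) :=
        dvd_trans (show 4 ∣ 2 ^ k from pow_dvd_pow 2 (show 2 ≤ k by omega)) hkd
      set o := orderOf (MulAut.conjNormal h : MulAut ↥T) with ho
      have ho1 : o ≠ 1 := fun e => hmove (orderOf_eq_one_iff.1 e)
      have ho3 : 3 ≤ o := by
        obtain ⟨w, hw⟩ := hoddc
        omega
      have := Nat.le_of_dvd Nat.card_pos
        (((Nat.coprime_two_left.2 hoddc).pow_left 2).mul_dvd_of_dvd_of_dvd h4 h3)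
      nlinarith
    have hkerle : Nat.card ↥f.ker ≤ 4 := by
      rw [← hT4]
      exact Nat.card_le_card_of_injective (fun x => (⟨x.1.1, hC (hker x.1 x.2)⟩ : ↥T))
        (fun x y e => Subtype.ext (Subtype.ext (congrArg Subtype.val e :)))
    have hX8 : Nat.card ↥(X' : Subgroup S) ≤ 8 := by
      rw [hX'card]
      calc Nat.card ↥f.ker * 2 ^ k ≤ 4 * 2 := Nat.mul_le_mul hkerle
            ((Nat.pow_le_pow_right (by norm_num) hkle).trans (le_of_eq (pow_one 2)))
        _ = 8 := rfl
    have hAeq : A = (X' : Subgroup S) := Subgroup.eq_of_le_of_card_ge hAX' (by rw [hA8]; exact hX8)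
    have hAT' : A ≤ Subgroup.centralizer (T : Set S) := fun x hx =>
      Subgroup.mem_centralizer_iff.2 fun y hy =>
        congrArg Subtype.val (hA.is_comm.comm ⟨y, hAeq ▸ hTX' hy⟩ ⟨x, hx⟩)
    have := Subgroup.card_dvd_of_le (hAT'.trans hC)
    rw [hA8, hT4] at this
    norm_num at this
  · have h3 : 3 ∣ Nat.card (MulAut ↥T) := by
      have hd := orderOf_dvd_natCard (MulAut.conjNormal h : MulAut ↥T)
      set o := orderOf (MulAut.conjNormal h : MulAut ↥T) with ho
      have ho1 : o ≠ 1 := fun e => hmove (orderOf_eq_one_iff.1 e)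
      obtain ⟨r, hr, hro⟩ := Nat.exists_prime_and_dvd ho1
      have : Fact r.Prime := ⟨hr⟩
      -- an automorphism of odd prime order of a group of order eight moves a nontrivial element
      obtain ⟨σ, hσ⟩ : ∃ σ : MulAut ↥T, orderOf σ = r :=
        ⟨_, orderOf_pow_orderOf_div (orderOf_pos (MulAut.conjNormal h : MulAut ↥T)).ne' hro⟩
      have hp : IsPGroup r ↥(Subgroup.zpowers σ) :=
        IsPGroup.of_card (n := 1) (by rw [Nat.card_zpowers, hσ, pow_one])
      let Z : Type u := {g : ↥T // g ^ 2 ≠ 1}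
      have hr2 : r ≠ 2 := fun e => (Nat.not_even_iff_odd.2 hoddc) (even_iff_two_dvd.2 (e ▸ hro))
      have hZ : Nat.card Z = 6 := by
        letI : Fintype ↥T := Fintype.ofFinite _
        obtain ⟨x, y, hxy⟩ := hnc
        have hz : ∃ z : ↥T, z ^ 2 = 1 ∧ z ≠ 1 := by
          obtain ⟨z, hz⟩ := exists_prime_orderOf_dvd_card' 2 (show 2 ∣ Nat.card ↥T by rw [hT8]; norm_num)
          exact ⟨z, by rw [← hz, pow_orderOf_eq_one], fun e => by rw [e, orderOf_one] at hz; norm_num at hz⟩
        obtain ⟨z, hz2, hz1⟩ := hz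
        show Nat.card {g : ↥T // g ^ 2 ≠ 1} = 6
        rw [Nat.card_eq_fintype_card, Fintype.card_subtype_compl,
          Fintype.card_subtype (fun g : ↥T => g ^ 2 = 1), ← Nat.card_eq_fintype_card, hT8]
        have : (Finset.univ.filter fun g : ↥T => g ^ 2 = 1) = {1, z} := by
          ext g
          simp only [Finset.mem_filter, Finset.mem_univ, true_and, Finset.mem_insert,
            Finset.mem_singleton]
          refine ⟨fun hg => ?_, ?_⟩
          · by_cases hg1 : g = 1
            · exact Or.inl hg1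
            · exact Or.inr (huniq g z hg hg1 hz2 hz1)
          · rintro (rfl | rfl)
            · exact one_pow 2
            · exact hz2
        rw [this, Finset.card_pair hz1.symm]
      by_contra hn3
      have hr3 : r ≠ 3 := fun e => hn3 (e ▸ (hro.trans hd))
      -- `r ≥ 5` fixes everything
      have hfix : ∀ g : ↥T, σ g = g := by
        have hgen : ∀ g : ↥T, g ^ 2 ≠ 1 → σ g = g := by
          intro g hg
          by_contra hne
          have horb : Nat.card ↥(MulAction.orbit ↥(Subgroup.zpowers σ) g) = r := by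
            obtain ⟨e, he⟩ := hp.card_orbit g
            have hle : Nat.card ↥(MulAction.orbit ↥(Subgroup.zpowers σ) g) ∣ r := by
              rw [Nat.card_congr (MulAction.orbitEquivQuotientStabilizer _ g)]
              exact (Subgroup.card_quotient_dvd_card _).trans (by rw [Nat.card_zpowers, hσ])
            rcases (Nat.dvd_prime hr).1 hle with e1 | e1
            · exfalso
              rw [Nat.card_eq_one_iff_unique] at e1
              exact hne (congrArg Subtype.val (e1.1.elim
                ⟨σ g, ⟨⟨σ, Subgroup.mem_zpowers σ⟩, rfl⟩⟩ ⟨g, MulAction.mem_orbit_self g⟩))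
            · exact e1
          have hsub : Nat.card ↥(MulAction.orbit ↥(Subgroup.zpowers σ) g) ≤ Nat.card Z :=
            Nat.card_le_card_of_injective (fun w => (⟨w.1, by
              obtain ⟨⟨s, hs⟩, hw⟩ := w.2
              rw [← hw]
              show (s g) ^ 2 ≠ 1
              rw [← map_pow]
              exact fun e => hg (s.injective (e.trans (map_one s).symm))⟩ : Z))
              (fun a b e => Subtype.ext (congrArg Subtype.val e :))
          rw [horb, hZ] at hsub
          -- the fixed points have order dividing eight and miss at most six elements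
          have hr5 : r = 5 := by
            rcases (show r ≤ 6 by omega).lt_or_eq with h6 | h6
            · interval_cases r <;> first | rfl | omega | (exfalso; revert hr; decide)
            · subst h6; exfalso; revert hr; decide
          let F : Subgroup ↥T := MonoidHom.eqLocus σ.toMonoidHom (MonoidHom.id _)
          have hmod := hp.card_modEq_card_fixedPoints (p := r) ↥T
          have hfp : Nat.card (MulAction.fixedPoints ↥(Subgroup.zpowers σ) ↥T) = Nat.card ↥F := by
            refine Nat.card_congr (Equiv.subtypeEquivRight fun w => ?_)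
            constructor
            · intro hw; exact hw ⟨σ, Subgroup.mem_zpowers σ⟩
            · rintro hw ⟨s, k, rfl⟩
              show (σ ^ k) w = w
              exact (MulAction.mem_stabilizer_iff (G := MulAut ↥T)).1
                (zpow_mem ((MulAction.mem_stabilizer_iff (G := MulAut ↥T) (a := w)).2 hw) k)
          rw [hfp, hT8, hr5] at hmod
          have hF8 : Nat.card ↥F ∣ 8 := hT8 ▸ Subgroup.card_subgroup_dvd_card F
          have hFne : Nat.card ↥F ≠ 8 := fun e8 => hne (by
            have : F = ⊤ := Subgroup.eq_top_of_card_eq F (e8.trans hT8.symm)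
            exact this.ge (Subgroup.mem_top g))
          obtain ⟨c, hc, hce⟩ := (Nat.dvd_prime_pow Nat.prime_two).1 (show _ ∣ 2 ^ 3 from hF8)
          rw [hce] at hmod hFne
          interval_cases c <;> simp [Nat.ModEq] at hmod hFne
        intro g
        by_cases hg : g ^ 2 = 1
        · by_cases hg1 : g = 1
          · rw [hg1, map_one]
          · exact huniq _ _ (by rw [← map_pow, hg, map_one])
              (fun e => hg1 (σ.injective (e.trans (map_one σ).symm))) hg hg1
        · exact hgen g hg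
      have : σ = 1 := MulEquiv.ext hfix
      rw [this, orderOf_one] at hσ
      exact hr.ne_one hσ.symm
    have hk3 := NoEight.aut_two_part hTp hT8 huniq hnc h3 hkd
    have hkerle : Nat.card ↥f.ker ≤ 2 := by
      have hinv : ∀ x : ↥f.ker, (⟨x.1.1, hC (hker x.1 x.2)⟩ : ↥T) ^ 2 = 1 := by
        intro x
        set t : ↥T := ⟨x.1.1, hC (hker x.1 x.2)⟩ with ht
        obtain ⟨p', q', hpq⟩ := hnc
        have htc : ∀ y : ↥T, t * y = y * t := fun y =>
          Subtype.ext (Subgroup.mem_centralizer_iff.1 (hker x.1 x.2) y y.2).symm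
        by_contra hne
        -- a central element of order four makes the group abelian
        obtain ⟨e, he, heq⟩ := (Nat.dvd_prime_pow Nat.prime_two).1
          (show orderOf t ∣ 2 ^ 3 by rw [show (2 : ℕ) ^ 3 = Nat.card ↥T by rw [hT8]; norm_num]; exact orderOf_dvd_natCard t)
        have hZ4 : 4 ≤ Nat.card ↥(Subgroup.center ↥T) := by
          have hle : Subgroup.zpowers t ≤ Subgroup.center ↥T :=
            (Subgroup.zpowers_le).2 (Subgroup.mem_center_iff.2 fun y => (htc y).symm)
          refine le_trans ?_ (Nat.le_of_dvd Nat.card_pos (Subgroup.card_dvd_of_le hle))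
          rw [Nat.card_zpowers, heq]
          interval_cases e
          · exact absurd (by rw [orderOf_eq_one_iff.1 heq, one_pow]) hne
          · exact absurd (by rw [show 2 = orderOf t by rw [heq]; norm_num, pow_orderOf_eq_one]) hne
          · norm_num
          · norm_num
        have hmul := Subgroup.card_eq_card_quotient_mul_card_subgroup (Subgroup.center ↥T)
        rw [hT8] at hmul
        have hq2 : Nat.card (↥T ⧸ Subgroup.center ↥T) ≤ 2 := by nlinarith
        have hcyc : IsCyclic (↥T ⧸ Subgroup.center ↥T) := by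
          have hpos : 0 < Nat.card (↥T ⧸ Subgroup.center ↥T) := Nat.card_pos
          rcases (show Nat.card (↥T ⧸ Subgroup.center ↥T) = 1 ∨ Nat.card (↥T ⧸ Subgroup.center ↥T) = 2 by omega) with e1 | e1
          · have := (Nat.card_eq_one_iff_unique.1 e1).1
            exact isCyclic_of_subsingleton
          · exact isCyclic_of_prime_card e1
        exact hpq (commutative_of_cyclic_center_quotient (QuotientGroup.mk' (Subgroup.center ↥T))
          (by rw [QuotientGroup.ker_mk']) p' q')
      let g : ↥f.ker → Bool := fun x => decide (x = 1)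
      refine le_trans (Nat.card_le_card_of_injective g ?_) (by simp)
      intro x y hxy
      by_cases hx : x = 1
      · have hy : y = 1 := by simpa [g, hx] using hxy
        rw [hx, hy]
      · have hy : y ≠ 1 := fun hy => hx (by simpa [g, hy] using hxy)
        have h1 : ∀ x : ↥f.ker, x ≠ 1 → (⟨x.1.1, hC (hker x.1 x.2)⟩ : ↥T) ≠ 1 := fun x hx e =>
          hx (Subtype.ext (Subtype.ext (congrArg Subtype.val e :)))
        have := huniq _ _ (hinv x) (h1 x hx) (hinv y) (h1 y hy)
        exact Subtype.ext (Subtype.ext (congrArg Subtype.val this :))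
    have hX16 : Nat.card ↥(X' : Subgroup S) ≤ 16 := by
      rw [hX'card]
      calc Nat.card ↥f.ker * 2 ^ k ≤ 2 * 8 := Nat.mul_le_mul hkerle
            ((Nat.pow_le_pow_right (by norm_num) hk3).trans (le_of_eq (by norm_num)))
        _ = 16 := rfl
    refine quaternion_obstruct (T := T) (A := A) hC hnc hT8 huniq hA hAc hA8 ?_
    rw [hT8] at hA'
    nlinarith

/-- Commutators with the odd subgroup detect fixed points modulo a normal subgroup. -/
theorem nofix {m : ℕ} (hm : Odd m) {H X Φ : Subgroup S} (hH : Nat.card ↥H = m) [X.Normal] [Φ.Normal]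
    (hX : IsPGroup 2 ↥X) (hXH : X = ⁅X, H⁆) (hab : ∀ x ∈ X, ∀ y ∈ X, x * y * x⁻¹ * y⁻¹ ∈ Φ)
    {c : S} (hc : c ∈ X) (hfix : ∀ h ∈ H, h * c * h⁻¹ * c⁻¹ ∈ Φ) : c ∈ Φ := by
  classical
  letI : Fintype ↥H := Fintype.ofFinite _
  let π := QuotientGroup.mk' Φ
  let Xb : Subgroup (S ⧸ Φ) := X.map π
  have hcm : IsMulCommutative ↥Xb := by
    refine ⟨⟨fun u v => ?_⟩⟩
    obtain ⟨_, x, hx, rfl⟩ := u
    obtain ⟨_, y, hy, rfl⟩ := v
    apply Subtype.ext
    show π x * π y = π y * π x
    rw [← map_mul, ← map_mul]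
    refine ((QuotientGroup.eq (s := Φ)).2 ?_).symm
    have := hab x⁻¹ (inv_mem hx) y⁻¹ (inv_mem hy)
    simpa [mul_assoc] using this
  letI : CommGroup ↥Xb :=
    { (inferInstance : Group ↥Xb) with mul_comm := fun a b => hcm.is_comm.comm a b }
  let cj : ↥H → ↥X → ↥Xb := fun h x =>
    ⟨π (h.1 * x.1 * h.1⁻¹), h.1 * x.1 * h.1⁻¹, Subgroup.Normal.conj_mem inferInstance x.1 x.2 h.1, rfl⟩
  let τ : ↥X →* ↥Xb :=
    { toFun := fun x => ∏ h : ↥H, cj h x
      map_one' := Finset.prod_eq_one fun h _ => Subtype.ext (by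
        show π (h.1 * ((1 : ↥X) : S) * h.1⁻¹) = 1
        simp)
      map_mul' := fun x y => by
        rw [← Finset.prod_mul_distrib]
        refine Finset.prod_congr rfl fun h _ => Subtype.ext ?_
        show π (h.1 * ((x * y : ↥X) : S) * h.1⁻¹) = π (h.1 * x.1 * h.1⁻¹) * π (h.1 * y.1 * h.1⁻¹)
        rw [← map_mul, Subgroup.coe_mul]; congr 1; group }
  have hinv : ∀ (x : ↥X) (g : ↥H),
      τ ⟨g.1 * x.1 * g.1⁻¹, Subgroup.Normal.conj_mem inferInstance x.1 x.2 g.1⟩ = τ x := by
    intro x g
    refine Fintype.prod_equiv (Equiv.mulRight g) _ _ fun h => Subtype.ext ?_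
    show π (h.1 * (g.1 * x.1 * g.1⁻¹) * h.1⁻¹) = π ((h * g : ↥H).1 * x.1 * (h * g : ↥H).1⁻¹)
    rw [Subgroup.coe_mul]; congr 1; group
  have hker : X ≤ τ.ker.map X.subtype := by
    conv_lhs => rw [hXH]
    rw [Subgroup.commutator_le]
    intro x hx g hg
    refine ⟨⟨x, hx⟩ * ⟨g * x⁻¹ * g⁻¹, Subgroup.Normal.conj_mem inferInstance _ (inv_mem hx) g⟩, ?_, ?_⟩
    · show τ (_ * _) = 1
      rw [map_mul, show (⟨g * x⁻¹ * g⁻¹, Subgroup.Normal.conj_mem inferInstance _ (inv_mem hx) g⟩ : ↥X) =
        ⟨g * (⟨x, hx⟩ : ↥X)⁻¹.1 * g⁻¹, Subgroup.Normal.conj_mem inferInstance _ (inv_mem hx) g⟩ from rfl,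
        hinv (⟨x, hx⟩ : ↥X)⁻¹ ⟨g, hg⟩, ← map_mul, mul_inv_cancel, map_one]
    · show x * (g * x⁻¹ * g⁻¹) = ⁅x, g⁆
      rw [commutatorElement_def]; group
  obtain ⟨c', hc', hce⟩ := hker hc
  have hτ : τ ⟨c, hc⟩ = 1 := by rw [show (⟨c, hc⟩ : ↥X) = c' from Subtype.ext hce.symm]; exact hc'
  have hpow : τ ⟨c, hc⟩ = (⟨π c, c, hc, rfl⟩ : ↥Xb) ^ m := by
    have he : ∀ h : ↥H, cj h ⟨c, hc⟩ = (⟨π c, c, hc, rfl⟩ : ↥Xb) := fun h => Subtype.ext (by
      show π (h.1 * c * h.1⁻¹) = π c
      rw [← mul_inv_eq_one, ← map_inv, ← map_mul]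
      exact (QuotientGroup.eq_one_iff _).2 (hfix h.1 h.2))
    show ∏ h : ↥H, cj h ⟨c, hc⟩ = _
    rw [Finset.prod_congr rfl (fun h _ => he h), Finset.prod_const, Finset.card_univ,
      ← Nat.card_eq_fintype_card, hH]
  rw [hpow] at hτ
  have h1 : π c ^ m = 1 := congrArg Subtype.val hτ
  obtain ⟨k, hk⟩ := hX ⟨c, hc⟩
  have h2 : π c ^ 2 ^ k = 1 := by
    rw [← map_pow, show c ^ 2 ^ k = 1 from congrArg Subtype.val hk, map_one]
  have : π c = 1 := by
    have hd := Nat.dvd_gcd (orderOf_dvd_of_pow_eq_one h1) (orderOf_dvd_of_pow_eq_one h2)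
    rw [Nat.Coprime.gcd_eq_one ((Nat.coprime_two_left.2 hm).pow_left k).symm, Nat.dvd_one,
      orderOf_eq_one_iff] at hd
    exact hd
  exact (QuotientGroup.eq_one_iff c).1 this

/-- The case `[X, H] < X`. -/
theorem case_proper (hmin : Minimal S) {a m : ℕ} (hS : Nat.card S = 2 ^ a * m) (hm : Odd m)
    {H : Subgroup S} (hH : Nat.card ↥H = m) [Group.IsSolvable S] (X : Sylow 2 S)
    [(X : Subgroup S).Normal] (hX2 : Nat.card ↥(X : Subgroup S) = 2 ^ a)
    (hCX : Subgroup.centralizer ((X : Subgroup S) : Set S) ≤ (X : Subgroup S))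
    {A : Subgroup S} (hAX : A ≤ (X : Subgroup S)) (hA : IsMulCommutative ↥A) (hAc : ¬ IsCyclic ↥A)
    (hA8 : Nat.card ↥A = 8) (hnab : ¬ IsMulCommutative ↥(X : Subgroup S))
    (hY : ⁅(X : Subgroup S), H⁆ ≠ (X : Subgroup S)) :
    ∃ (X₀ : Subgroup S) (k : ℕ), X₀ ≤ (X : Subgroup S) ∧ X₀.relIndex (X : Subgroup S) = 2 ∧
      Nonempty (↥X₀ ≃* QuaternionGroup (2 ^ (k + 1))) ∧
      X₀ ⊔ ((X : Subgroup S) ⊓ Subgroup.centralizer (X₀ : Set S)) = (X : Subgroup S) := by
  classical
  have : Fact (Nat.Prime 2) := ⟨Nat.prime_two⟩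
  set XX := (X : Subgroup S) with hXX
  have hXp : IsPGroup 2 ↥XX := X.2
  have hHX : H ≤ Subgroup.normalizer (XX : Set S) := fun h _ => by
    rw [Subgroup.normalizer_eq_top_iff.2 inferInstance]; exact Subgroup.mem_top h
  have hco : (Nat.card ↥H).Coprime (Nat.card ↥XX) := by
    rw [hH, hX2]; exact ((Nat.coprime_two_left.2 hm).pow_left a).symm
  have hsol : Group.IsSolvable ↥H ∨ Group.IsSolvable ↥XX := Or.inl inferInstance
  obtain ⟨hYle, hXY, hHY⟩ := Solv.commutator_normal_in (K := XX) (A := H) hHX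
  have hXsup : ⁅XX, H⁆ ⊔ (XX ⊓ Subgroup.centralizer (H : Set S)) = XX :=
    Solv.commutator_sup_fixed hHX hco hsol
  set Y := ⁅XX, H⁆ with hYdef
  have hgen : (⊤ : Subgroup S) = XX ⊔ H := by
    symm
    apply Subgroup.eq_top_of_card_eq
    have hc := Solv.card_sup_mul_card_inf' XX H hHX
    rw [Solv.coprime_inf hco.symm, Subgroup.card_bot, mul_one, hX2, hH, ← hS] at hc
    exact hc
  have hYn : Y.Normal := by
    rw [← Subgroup.normalizer_eq_top_iff, eq_top_iff, hgen]
    exact sup_le hXY hHY
  have hYp : IsPGroup 2 ↥Y := hXp.to_le hYle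
  have hNA : NoEight.NA ↥Y := na_of_not Y fun B hB hBa hBc hB8 => hY
    (Subgroup.eq_of_le_of_card_ge hYle (by rw [hX2, big hmin hS hm hH hYp hHY hBa hBc hB8 hB]))
  obtain ⟨h, hh, hmove⟩ : ∃ h ∈ H, (MulAut.conjNormal h : MulAut ↥Y) ≠ 1 := by
    by_contra hcon
    push Not at hcon
    have hY1 : Y = ⊥ := by
      rw [hYdef, ← Solv.commutator_commutator_eq hHX hco hsol, eq_bot_iff, Subgroup.commutator_le]
      intro y hy h hh
      rw [Subgroup.mem_bot, commutatorElement_eq_one_iff_mul_comm]
      exact (conjNormal_eq_one (hcon h hh) y hy).symm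
    have hHC : H ≤ XX := le_trans (fun h hh => Subgroup.mem_centralizer_iff.2 fun x hx => by
      have hm' : ⁅x, h⁆ ∈ Y := Subgroup.commutator_mem_commutator hx hh
      rw [hY1, Subgroup.mem_bot, commutatorElement_eq_one_iff_mul_comm] at hm'
      exact hm') hCX
    have hH1 : H = ⊥ := by
      rw [← Subgroup.card_eq_one]
      exact Nat.eq_one_of_dvd_coprimes hco dvd_rfl (Subgroup.card_dvd_of_le hHC)
    have hbig := big hmin hS hm hH (IsPGroup.of_card (n := 3) (by rw [hA8]; norm_num))
      (by rw [hH1]; exact bot_le) hA hAc hA8 le_rfl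
    have : A = XX := Subgroup.eq_of_le_of_card_ge hAX (by rw [hX2, hbig])
    exact hnab (this ▸ hA)
  have hoddc : Odd (orderOf (MulAut.conjNormal h : MulAut ↥Y)) := odd_conj (odd_order_of_mem hm hH hh)
  set α : MulAut ↥Y := MulAut.conjNormal h with hα
  -- fixed elements act by translations of the powers of `α`
  have hD : ∀ d ∈ XX ⊓ Subgroup.centralizer (H : Set S),
      Commute (MulAut.conjNormal d : MulAut ↥Y) α := by
    intro d hd
    have e : d * h = h * d := (Subgroup.mem_centralizer_iff.1 hd.2 h hh).symm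
    show (MulAut.conjNormal d : MulAut ↥Y) * α = α * MulAut.conjNormal d
    rw [hα, ← map_mul, ← map_mul, e]
  have htwo : ∀ d ∈ XX, ∀ β : MulAut ↥Y, (MulAut.conjNormal d : MulAut ↥Y) = β →
      ∃ k, β ^ 2 ^ k = 1 := by
    intro d hd β hβ
    obtain ⟨k, hk⟩ := hXp ⟨d, hd⟩
    exact ⟨k, by rw [← hβ, ← map_pow, show d ^ 2 ^ k = 1 from congrArg Subtype.val hk, map_one]⟩
  rcases NoEight.odd_aut hYp hNA hoddc hmove with ⟨hYc, hY4, hYex, hYfix⟩ | ⟨hnc, hY8, huniq⟩
  · exfalso
    obtain ⟨u, hu⟩ : ∃ u : ↥Y, u ≠ 1 := by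
      have : Nontrivial ↥Y := Finite.one_lt_card_iff_nontrivial.1 (by rw [hY4]; norm_num)
      exact exists_ne 1
    have hαu : α u ≠ u := fun e => hu (hYfix u e)
    have hαu1 : α u ≠ 1 := fun e => hu (α.injective (e.trans (map_one α).symm))
    have hall : ∀ g : ↥Y, g = 1 ∨ g = u ∨ g = α u ∨ g = u * α u := fun g =>
      NoEight.mem_four hYp hNA (hYex u) (hYex _) hu hαu1 hαu.symm (hYc _ _) (hYc _ _) (hYc _ _)
    have hcentY : ∀ d ∈ XX ⊓ Subgroup.centralizer (H : Set S), ∀ y : ↥Y,
        (MulAut.conjNormal d : MulAut ↥Y) y = y := by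
      intro d hd
      set β : MulAut ↥Y := MulAut.conjNormal d with hβ
      have hc := hD d hd
      obtain ⟨k, hk⟩ := htwo d hd.1 β hβ.symm
      have hfixu : β u = u := by
        rcases hall (β u) with e | e | e | e
        · exact absurd (β.injective (e.trans (map_one β).symm)) hu
        · exact e
        · exfalso
          have hβα : β = α := by
            apply MulEquiv.ext
            intro g
            have e2 : β (α u) = α (α u) := by
              rw [← MulAut.mul_apply, hc.eq, MulAut.mul_apply, e]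
            rcases hall g with rfl | rfl | rfl | rfl
            · rw [map_one, map_one]
            · exact e
            · exact e2
            · rw [map_mul, map_mul, e, e2]
          rw [hβα] at hk
          have hd2 := orderOf_dvd_of_pow_eq_one hk
          have : orderOf α = 1 := Nat.eq_one_of_dvd_coprimes
            ((Nat.coprime_two_left.2 hoddc).pow_left k) hd2 dvd_rfl
          exact hmove (orderOf_eq_one_iff.1 this)
        · exfalso
          -- then `β = α²`
          have hαα : α (α u) = u * α u := by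
            rcases hall (α (α u)) with e1 | e1 | e1 | e1
            · exact absurd (α.injective (e1.trans (map_one α).symm)) hαu1
            · exfalso
              have : α (u * α u) = u * α u := by rw [map_mul, e1, hYc]
              have h0 := hYfix _ this
              exact hαu (by
                rw [mul_eq_one_iff_eq_inv] at h0
                rw [← inv_inv (α u), ← h0]
                exact inv_eq_of_mul_eq_one_right (by rw [← pow_two, hYex]))
            · exact absurd (α.injective e1) hαu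
            · exact e1
          have hβα : β = α ^ 2 := by
            apply MulEquiv.ext
            intro g
            have e1 : β u = (α ^ 2) u := by rw [e, pow_two, MulAut.mul_apply, hαα]
            have e2 : β (α u) = (α ^ 2) (α u) := by
              rw [← MulAut.mul_apply, hc.eq, MulAut.mul_apply, e1, ← MulAut.mul_apply, ← MulAut.mul_apply,
                ← pow_succ', ← pow_succ]
            rcases hall g with rfl | rfl | rfl | rfl
            · rw [map_one, map_one]
            · exact e1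
            · exact e2
            · rw [map_mul, map_mul, e1, e2]
          rw [hβα, ← pow_mul, ← pow_succ'] at hk
          have : orderOf α = 1 := Nat.eq_one_of_dvd_coprimes
            ((Nat.coprime_two_left.2 hoddc).pow_left (k + 1)) (orderOf_dvd_of_pow_eq_one hk) dvd_rfl
          exact hmove (orderOf_eq_one_iff.1 this)
      intro y
      rcases hall y with e | e | e | e <;> subst e
      · exact map_one β
      · exact hfixu
      · rw [← MulAut.mul_apply, hc.eq, MulAut.mul_apply, hfixu]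
      · rw [map_mul, hfixu, ← MulAut.mul_apply, hc.eq, MulAut.mul_apply, hfixu]
    set D := XX ⊓ Subgroup.centralizer (H : Set S) with hDdef
    have hDne : D ≠ ⊥ := fun hb => hY (by rw [hb, sup_bot_eq] at hXsup; exact hXsup)
    obtain ⟨d, hd⟩ := exists_prime_orderOf_dvd_card' 2 (show 2 ∣ Nat.card ↥D by
      obtain ⟨k, hk⟩ := IsPGroup.iff_card.1 (hXp.to_le (inf_le_left : D ≤ XX))
      rw [hk]
      exact dvd_pow_self 2 fun e => hDne (Subgroup.card_eq_one.1 (by rw [hk, e, pow_zero])))
    have hd2 : (d : S) ^ 2 = 1 := by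
      rw [← hd, ← Subgroup.orderOf_coe]; exact pow_orderOf_eq_one _
    have hd1 : (d : S) ≠ 1 := fun e => by
      rw [← Subgroup.orderOf_coe, e, orderOf_one] at hd; norm_num at hd
    have hdY : (d : S) ∉ Y := fun hdY => hd1 (congrArg Subtype.val (hYfix ⟨d, hdY⟩ (Subtype.ext (by
      rw [hα, MulAut.conjNormal_apply]
      show h * (d : S) * h⁻¹ = d
      rw [Subgroup.mem_centralizer_iff.1 d.2.2 h hh, mul_inv_cancel_right]))) :)
    let B := Y ⊔ Subgroup.zpowers (d : S)
    have hdc : ∀ y ∈ Y, Commute (d : S) y := fun y hy => by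
      have e := congrArg Subtype.val (hcentY d d.2 ⟨y, hy⟩)
      rw [MulAut.conjNormal_apply] at e
      exact mul_inv_eq_iff_eq_mul.1 e
    have hBc : IsMulCommutative ↥B := by
      show IsMulCommutative ↥(Y ⊔ Subgroup.zpowers (d : S))
      rw [Subgroup.zpowers_eq_closure, ← Subgroup.closure_eq Y, ← Subgroup.closure_union]
      refine Subgroup.isMulCommutative_closure ?_
      rintro x (hx | hx) y (hy | hy)
      · exact congrArg Subtype.val (hYc ⟨x, hx⟩ ⟨y, hy⟩)
      · rw [Set.mem_singleton_iff] at hy; subst hy; exact (hdc x hx).symm.eq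
      · rw [Set.mem_singleton_iff] at hx; subst hx; exact (hdc y hy).eq
      · rw [Set.mem_singleton_iff] at hx hy; rw [hx, hy]
    have hBnc : ¬ IsCyclic ↥B := NoEight.not_cyclic_of_two_involutions
      (Subgroup.mem_sup_left u.2) (Subgroup.mem_sup_left (α u).2)
      (congrArg Subtype.val (hYex u)) (congrArg Subtype.val (hYex (α u)))
      (fun e => hu (Subtype.ext e)) (fun e => hαu1 (Subtype.ext e)) (fun e => hαu (Subtype.ext e).symm)
    have hB8 : Nat.card ↥B = 8 := by
      have hc := Solv.card_sup_mul_card_inf' Y (Subgroup.zpowers (d : S)) (fun x _ => by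
        rw [Subgroup.normalizer_eq_top_iff.2 hYn]; exact Subgroup.mem_top x)
      have hinf : Y ⊓ Subgroup.zpowers (d : S) = ⊥ := by
        rw [Subgroup.eq_bot_iff_forall]
        rintro x ⟨hxY, hx⟩
        obtain ⟨i, rfl⟩ := Subgroup.mem_zpowers_iff.1 hx
        rcases Int.even_or_odd' i with ⟨t, rfl | rfl⟩
        · rw [zpow_mul, zpow_ofNat, hd2, one_zpow]
        · exfalso; apply hdY
          rwa [zpow_add_one, zpow_mul, zpow_ofNat, hd2, one_zpow, one_mul] at hxY
      rw [hinf, Subgroup.card_bot, mul_one, hY4, Nat.card_zpowers,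
        orderOf_eq_prime hd2 hd1] at hc
      exact hc
    have hBH : H ≤ Subgroup.normalizer (B : Set S) := by
      intro g hg
      have hgY : g ∈ Subgroup.normalizer (Y : Set S) := by
        rw [Subgroup.normalizer_eq_top_iff.2 hYn]; exact Subgroup.mem_top g
      refine Solv.mem_normalizer_of_conj_smul ?_
      rw [Subgroup.smul_sup, Solv.conj_smul_of_mem_normalizer hgY, Solv.conj_smul_eq_map,
        MonoidHom.map_zpowers]
      congr 2
      show g * (d : S) * g⁻¹ = d
      rw [Subgroup.mem_centralizer_iff.1 d.2.2 g hg, mul_inv_cancel_right]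
    have hBX : B ≤ XX := sup_le hYle ((Subgroup.zpowers_le).2 d.2.1)
    have hBcard := big hmin hS hm hH (hXp.to_le hBX) hBH hBc hBnc hB8 le_rfl
    exact hnab (Subgroup.eq_of_le_of_card_ge hBX (by rw [hX2, hBcard]) ▸ hBc)
  · -- `Y` is quaternion of order eight
    set C := XX ⊓ Subgroup.centralizer (Y : Set S) with hCdef
    obtain ⟨z, hz2, hz1⟩ : ∃ z : ↥Y, z ^ 2 = 1 ∧ z ≠ 1 := by
      obtain ⟨z, hz⟩ := exists_prime_orderOf_dvd_card' 2 (show 2 ∣ Nat.card ↥Y by rw [hY8]; norm_num)
      exact ⟨z, by rw [← hz, pow_orderOf_eq_one], fun e => by rw [e, orderOf_one] at hz; norm_num at hz⟩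
    have hord : ∀ g : ↥Y, g ^ 2 ≠ 1 → orderOf g = 4 := by
      intro g hg
      obtain ⟨e, he, heq⟩ := (Nat.dvd_prime_pow Nat.prime_two).1
        (show orderOf g ∣ 2 ^ 3 by rw [show (2 : ℕ) ^ 3 = Nat.card ↥Y by rw [hY8]; norm_num]; exact orderOf_dvd_natCard g)
      interval_cases e
      · exact absurd (by rw [orderOf_eq_one_iff.1 heq, one_pow]) hg
      · exact absurd (by rw [show 2 = orderOf g by rw [heq]; norm_num, pow_orderOf_eq_one]) hg
      · rw [heq]; norm_num
      · exfalso
        obtain ⟨x, y, hxy⟩ := hnc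
        have hcy : IsCyclic ↥Y := isCyclic_of_orderOf_eq_card g (by rw [heq, hY8]; norm_num)
        exact hxy ((IsCyclic.isMulCommutative (α := ↥Y)).is_comm.comm x y)
    have hsqz : ∀ g : ↥Y, g ^ 2 ≠ 1 → g ^ 2 = z := fun g hg => huniq _ _
      (by rw [← pow_mul, show 2 * 2 = orderOf g by rw [hord g hg], pow_orderOf_eq_one]) hg hz2 hz1
    have hzc : ∀ g : ↥Y, g * z = z * g := fun g => mul_inv_eq_iff_eq_mul.1
      (huniq _ _ (by rw [conj_pow, hz2, mul_one, mul_inv_cancel])
        (fun e => hz1 (conj_eq_one_iff.1 e)) hz2 hz1)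
    have hmodz : ∀ g : ↥Y, α g * g⁻¹ = 1 ∨ α g * g⁻¹ = z → g = 1 ∨ g = z := by
      intro g hg
      by_cases hg1 : g = 1
      · exact Or.inl hg1
      by_cases hg2 : g ^ 2 = 1
      · exact Or.inr (huniq g z hg2 hg1 hz2 hz1)
      exfalso
      -- `α` fixes the cyclic subgroup generated by `g`
      have hmemg : α g ∈ Subgroup.zpowers g := by
        rcases hg with e | e
        · rw [mul_inv_eq_one.1 e]; exact Subgroup.mem_zpowers g
        · rw [mul_inv_eq_iff_eq_mul.1 e, ← hsqz g hg2]
          exact mul_mem (pow_mem (Subgroup.mem_zpowers g) 2) (Subgroup.mem_zpowers g)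
      have hαg : α g = g := NoEight.cyclic_aut_trivial hoddc (k := 2) (by rw [hord g hg2]; norm_num) hmemg
      obtain ⟨w, hw⟩ : ∃ w : ↥Y, w ∉ Subgroup.zpowers g := by
        by_contra hw
        push Not at hw
        have h' := congrArg (fun K : Subgroup ↥Y => Nat.card ↥K) ((Subgroup.eq_top_iff' _).2 hw)
        simp only [Nat.card_zpowers, hord g hg2, Subgroup.card_top, hY8] at h'
        norm_num at h'
      have hidx : (Subgroup.zpowers g).index = 2 := by
        have h' := (Subgroup.zpowers g).card_mul_index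
        rw [Nat.card_zpowers, hord g hg2, hY8] at h'
        omega
      have hαw : α w ∉ Subgroup.zpowers g := fun h' => hw (by
        obtain ⟨t, ht⟩ := Subgroup.mem_zpowers_iff.1 h'
        exact ⟨t, α.injective (by rw [map_zpow, hαg, ht])⟩)
      have hdd : α w * w⁻¹ ∈ Subgroup.zpowers g :=
        (Subgroup.mul_mem_iff_of_index_two hidx).2 (iff_of_false hαw fun h' => hw (inv_mem_iff.1 h'))
      obtain ⟨t, ht⟩ := Subgroup.mem_zpowers_iff.1 hdd
      have hpow : ∀ n : ℕ, (α ^ n) w = g ^ (t * n) * w := by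
        intro n
        induction n with
        | zero => simp
        | succ n ih =>
          rw [pow_succ', MulAut.mul_apply, ih, map_mul, map_zpow, hαg,
            show α w = g ^ t * w by rw [ht, inv_mul_cancel_right], ← mul_assoc, ← zpow_add]
          congr 2; push_cast; ring
      have h1 := hpow (orderOf α)
      rw [pow_orderOf_eq_one, MulAut.one_apply, eq_comm, mul_eq_right, ← orderOf_dvd_iff_zpow_eq_one,
        hord g hg2] at h1
      have ho : Odd ((orderOf α : ℕ) : ℤ) := by exact_mod_cast hoddc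
      have ht4 : (4 : ℤ) ∣ t := by
        have hcop : IsCoprime (4 : ℤ) ((orderOf α : ℕ) : ℤ) := by
          obtain ⟨q, hq⟩ := ho
          rw [show (4 : ℤ) = 2 ^ 2 by norm_num]
          exact IsCoprime.pow_left ⟨-q, 1, by rw [hq]; ring⟩
        exact hcop.dvd_of_dvd_mul_right (by exact_mod_cast h1)
      have hww : α w = w := by
        have : g ^ t = 1 := orderOf_dvd_iff_zpow_eq_one.1 (by rw [hord g hg2]; exact_mod_cast ht4)
        rw [← inv_mul_cancel_right (α w) w, ← ht, this, one_mul]
      apply hmove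
      apply MulEquiv.ext
      intro y
      rw [MulAut.one_apply]
      have hle : Subgroup.zpowers g ⊔ Subgroup.zpowers w ≤
          MonoidHom.eqLocus α.toMonoidHom (MonoidHom.id _) :=
        sup_le ((Subgroup.zpowers_le).2 hαg) ((Subgroup.zpowers_le).2 hww)
      refine hle ?_
      by_cases hy : y ∈ Subgroup.zpowers g
      · exact Subgroup.mem_sup_left hy
      · have h' := (Subgroup.mul_mem_iff_of_index_two hidx).2
          (iff_of_false hy fun h' => hw (inv_mem_iff.1 h') : y ∈ _ ↔ w⁻¹ ∈ _)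
        have := mul_mem (Subgroup.mem_sup_left (T := Subgroup.zpowers w) h')
          (Subgroup.mem_sup_right (S := Subgroup.zpowers g) (Subgroup.mem_zpowers w))
        rwa [inv_mul_cancel_right] at this
    -- every element of `X` is a product of elements of `Y` and of `C`
    have hYC : XX ≤ Y ⊔ C := by
      rw [← hXsup]
      refine sup_le le_sup_left fun d hd => ?_
      set β : MulAut ↥Y := MulAut.conjNormal d with hβ
      have hc := hD d hd
      obtain ⟨k, hk⟩ := htwo d hd.1 β hβ.symm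
      -- `β` is trivial modulo `z`
      have hβz : ∀ g : ↥Y, β g * g⁻¹ = 1 ∨ β g * g⁻¹ = z := by
        have hZn : (Subgroup.zpowers z).Normal := ⟨fun x hx g => by
          obtain ⟨t, rfl⟩ := Subgroup.mem_zpowers_iff.1 hx
          rw [← conj_zpow, hzc g, mul_inv_cancel_right]; exact zpow_mem (Subgroup.mem_zpowers z) t⟩
        let π := QuotientGroup.mk' (Subgroup.zpowers z)
        have hz01 : ∀ x ∈ Subgroup.zpowers z, x = 1 ∨ x = z := by
          intro x hx
          obtain ⟨t, rfl⟩ := Subgroup.mem_zpowers_iff.1 hx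
          rcases Int.even_or_odd' t with ⟨r, rfl | rfl⟩
          · left; rw [zpow_mul, zpow_ofNat, hz2, one_zpow]
          · right; rw [zpow_add_one, zpow_mul, zpow_ofNat, hz2, one_zpow, one_mul]
        have hβzz : β z = z := huniq _ _ (by rw [← map_pow, hz2, map_one])
          (fun e => hz1 (β.injective (e.trans (map_one β).symm))) hz2 hz1
        -- fixed points of a 2-group on the three involutions of the quotient
        intro g
        by_contra hg
        rw [not_or] at hg
        have hgnot : g ∉ Subgroup.zpowers z := by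
          intro hgz
          rcases hz01 g hgz with rfl | rfl
          · exact hg.1 (by rw [map_one, inv_one, mul_one])
          · exact hg.1 (by rw [hβzz, mul_inv_cancel])
        have hq4 : Nat.card (↥Y ⧸ Subgroup.zpowers z) = 4 := by
          have := Subgroup.card_eq_card_quotient_mul_card_subgroup (Subgroup.zpowers z)
          rw [hY8, Nat.card_zpowers, orderOf_eq_prime hz2 hz1] at this
          omega
        letI : Fintype (↥Y ⧸ Subgroup.zpowers z) := Fintype.ofFinite _
        have hne : ∀ x : ↥Y, π x = 1 ↔ x ∈ Subgroup.zpowers z := fun x => QuotientGroup.eq_one_iff x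
        have hαne : π (α g) ≠ π g := fun e => by
          have : α g * g⁻¹ ∈ Subgroup.zpowers z := by
            rw [← hne, map_mul, map_inv, e, mul_inv_cancel]
          rcases hmodz g (hz01 _ this) with rfl | rfl
          · exact hgnot (one_mem _)
          · exact hgnot (Subgroup.mem_zpowers _)
        have hαg0 : α g ∉ Subgroup.zpowers z := by
          intro hm'
          rcases hz01 _ hm' with e | e
          · exact hgnot (by rw [α.injective (e.trans (map_one α).symm)]; exact one_mem _)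
          · have : α z = z := huniq _ _ (by rw [← map_pow, hz2, map_one])
              (fun e => hz1 (α.injective (e.trans (map_one α).symm))) hz2 hz1
            exact hgnot (by rw [α.injective (e.trans this.symm)]; exact Subgroup.mem_zpowers z)
        have hβne : π (β g) ≠ π g := fun e => by
          have : β g * g⁻¹ ∈ Subgroup.zpowers z := by rw [← hne, map_mul, map_inv, e, mul_inv_cancel]
          rcases hz01 _ this with e' | e'
          · exact hg.1 e'
          · exact hg.2 e'
        -- β acts as a power of α modulo z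
        have hzmem : ∀ (γ : MulAut ↥Y) (x : ↥Y), γ z = z → (π (γ x) = 1 ↔ π x = 1) := by
          intro γ x hγ
          rw [hne, hne]
          constructor
          · intro h'
            rcases hz01 _ h' with e | e
            · rw [γ.injective (e.trans (map_one γ).symm)]; exact one_mem _
            · rw [γ.injective (e.trans hγ.symm)]; exact Subgroup.mem_zpowers z
          · intro h'
            rcases hz01 _ h' with rfl | rfl
            · rw [map_one]; exact one_mem _
            · rw [hγ]; exact Subgroup.mem_zpowers _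
        have hαzz : α z = z := huniq _ _ (by rw [← map_pow, hz2, map_one])
          (fun e => hz1 (α.injective (e.trans (map_one α).symm))) hz2 hz1
        have hcong : ∀ (γ : MulAut ↥Y), γ z = z → ∀ x y : ↥Y, π x = π y → π (γ x) = π (γ y) := by
          intro γ hγ x y e
          rw [← mul_inv_eq_one, ← map_inv, ← map_mul, ← map_inv γ, ← map_mul, hzmem γ _ hγ, map_mul,
            map_inv, e, mul_inv_cancel]
        -- three nonidentity classes `g, α g, α² g`
        have hα3 : π (α (α g)) ≠ π g := fun e => by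
          have e2 : π (α (α (g * α g))) ≠ π (α (g * α g)) := by
            intro e'
            have hm' : α (α (g * α g)) * (α (g * α g))⁻¹ ∈ Subgroup.zpowers z := by
              rw [← hne, map_mul π, map_inv π, e', mul_inv_cancel]
            rcases hmodz _ (hz01 _ hm') with e3 | e3
            · have : π g * π (α g) = 1 := by
                rw [← map_mul, hne, α.injective (e3.trans (map_one α).symm)]; exact one_mem _
              have hsq : π g * π g = 1 := by
                rw [← map_mul, hne, ← pow_two]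
                by_cases h' : g ^ 2 = 1
                · rw [h']; exact one_mem _
                · rw [hsqz g h']; exact Subgroup.mem_zpowers z
              exact hαne (mul_left_cancel (this.trans hsq.symm))
            · have : π g * π (α g) = 1 := by
                rw [← map_mul, hne, α.injective (e3.trans hαzz.symm)]; exact Subgroup.mem_zpowers z
              have hsq : π g * π g = 1 := by
                rw [← map_mul, hne, ← pow_two]
                by_cases h' : g ^ 2 = 1
                · rw [h']; exact one_mem _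
                · rw [hsqz g h']; exact Subgroup.mem_zpowers z
              exact hαne (mul_left_cancel (this.trans hsq.symm))
          apply e2
          have hcm : ∀ p q : ↥Y ⧸ Subgroup.zpowers z, p * q = q * p :=
            (IsPGroup.isMulCommutative_of_card_eq_prime_sq (p := 2) (by rw [hq4]; norm_num)).is_comm.comm
          have e3 : π (α (g * α g)) = π (g * α g) := by
            rw [map_mul α, map_mul π, map_mul π, e, hcm]
          exact hcong α hαzz _ _ e3
        have hcls : ∀ x : ↥Y, π x = 1 ∨ π x = π g ∨ π x = π (α g) ∨ π x = π (α (α g)) := by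
          intro x
          have hcardS : ({1, π g, π (α g), π (α (α g))} : Finset (↥Y ⧸ Subgroup.zpowers z)).card = 4 := by
            have a1 : (1 : ↥Y ⧸ Subgroup.zpowers z) ≠ π g := fun e => hgnot ((hne g).1 e.symm)
            have a2 : (1 : ↥Y ⧸ Subgroup.zpowers z) ≠ π (α g) := fun e => hαg0 ((hne _).1 e.symm)
            have a3 : (1 : ↥Y ⧸ Subgroup.zpowers z) ≠ π (α (α g)) := fun e =>
              hαg0 ((hne _).1 ((hzmem α _ hαzz).1 e.symm))
            have a4 : π (α g) ≠ π (α (α g)) := fun e => by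
              have hm' : α (α g) * (α g)⁻¹ ∈ Subgroup.zpowers z := by
                rw [← hne, map_mul, map_inv, ← e, mul_inv_cancel]
              rcases hmodz _ (hz01 _ hm') with e' | e'
              · exact hαg0 (by rw [e']; exact one_mem _)
              · exact hαg0 (by rw [e']; exact Subgroup.mem_zpowers z)
            rw [Finset.card_insert_of_notMem (by simp [a1, a2, a3]),
              Finset.card_insert_of_notMem (by simp [hαne.symm, hα3.symm]),
              Finset.card_insert_of_notMem (by simp [a4]), Finset.card_singleton]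
          have huniv := Finset.eq_univ_of_card _ (hcardS.trans (by rw [← Nat.card_eq_fintype_card, hq4]))
          have := Finset.mem_univ (π x)
          rw [← huniv] at this
          simpa using this
        have hsame : ∀ γ : MulAut ↥Y, γ z = z → Commute β γ → π (β g) = π (γ g) → Commute γ α →
            ∀ x, π (β x) = π (γ x) := by
          intro γ hγ _ hg' hγα x
          have e1 : π (β (α g)) = π (γ (α g)) := by
            rw [← MulAut.mul_apply, hc.eq, MulAut.mul_apply, show γ (α g) = (γ * α) g from rfl, hγα.eq,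
              MulAut.mul_apply]
            exact hcong α hαzz _ _ hg'
          have e2 : π (β (α (α g))) = π (γ (α (α g))) := by
            rw [show β (α (α g)) = (β * α) (α g) from rfl, hc.eq, MulAut.mul_apply,
              show γ (α (α g)) = (γ * α) (α g) from rfl, hγα.eq, MulAut.mul_apply]
            exact hcong α hαzz _ _ e1
          rcases hcls x with e | e | e | e
          · rw [(hzmem β x hβzz).2 e, (hzmem γ x hγ).2 e]
          · rw [hcong β hβzz _ _ e, hcong γ hγ _ _ e]; exact hg'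
          · rw [hcong β hβzz _ _ e, hcong γ hγ _ _ e]; exact e1
          · rw [hcong β hβzz _ _ e, hcong γ hγ _ _ e]; exact e2
        obtain ⟨e, he, hbe⟩ : ∃ e : ℕ, (e = 1 ∨ e = 2) ∧ π (β g) = π ((α ^ e) g) := by
          rcases hcls (β g) with e | e | e | e
          · exact absurd ((hne g).1 ((hzmem β g hβzz).1 e)) hgnot
          · exact absurd e hβne
          · exact ⟨1, Or.inl rfl, by rw [pow_one]; exact e⟩
          · exact ⟨2, Or.inr rfl, by rw [pow_two, MulAut.mul_apply]; exact e⟩
        have hez : ∀ n : ℕ, (α ^ n) z = z := fun n => by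
          induction n with
          | zero => rfl
          | succ n ih => rw [pow_succ', MulAut.mul_apply, ih, hαzz]
        have hall' := hsame (α ^ e) (hez e) (hc.pow_right e) hbe ((Commute.refl α).pow_left e)
        have hiter : ∀ n : ℕ, ∀ x, π ((β ^ n) x) = π (((α ^ e) ^ n) x) := by
          intro n
          induction n with
          | zero => intro x; rfl
          | succ n ih =>
            intro x
            rw [pow_succ', pow_succ', MulAut.mul_apply, MulAut.mul_apply, hall']
            exact hcong _ (hez e) _ _ (ih x)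
        have h2k := hiter (2 ^ k) g
        rw [hk, MulAut.one_apply, ← pow_mul] at h2k
        -- α^(e·2^k) fixes the class of g, so α does
        have hfix : π (α g) = π g := by
          obtain ⟨v, -, hv⟩ := Nat.exists_mul_mod_eq_one_of_coprime (n := e * 2 ^ k) (k := orderOf α)
            (Nat.Coprime.mul_left (by
              rcases he with rfl | rfl
              · exact Nat.coprime_one_left _
              · exact Nat.coprime_two_left.2 hoddc) ((Nat.coprime_two_left.2 hoddc).pow_left k))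
            (by
              have hpos := hoddc.pos
              have hne1 : orderOf α ≠ 1 := fun e1 => hmove (orderOf_eq_one_iff.1 e1)
              omega)
          have hrep : ∀ v : ℕ, π ((α ^ (e * 2 ^ k * v)) g) = π g := by
            intro v
            induction v with
            | zero => simp
            | succ v ih =>
              rw [Nat.mul_succ, pow_add, MulAut.mul_apply,
                hcong (α ^ (e * 2 ^ k * v)) (hez _) _ _ h2k.symm, ih]
          have := hrep v
          rwa [← pow_mod_orderOf, hv, pow_one] at this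
        exact hαne hfix
      -- inner automorphisms give all of these
      obtain ⟨p, q, hpq⟩ := hnc
      have hconjz : ∀ x y : ↥Y, x * y * x⁻¹ * y⁻¹ = 1 ∨ x * y * x⁻¹ * y⁻¹ = z := by
        intro x y
        by_cases hc1 : x * y * x⁻¹ * y⁻¹ = 1
        · exact Or.inl hc1
        right
        have hZn : (Subgroup.zpowers z).Normal := ⟨fun w hw g => by
          obtain ⟨t, rfl⟩ := Subgroup.mem_zpowers_iff.1 hw
          rw [← conj_zpow, hzc g, mul_inv_cancel_right]; exact zpow_mem (Subgroup.mem_zpowers z) t⟩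
        have hq4 : Nat.card (↥Y ⧸ Subgroup.zpowers z) = 2 ^ 2 := by
          have := Subgroup.card_eq_card_quotient_mul_card_subgroup (Subgroup.zpowers z)
          rw [hY8, Nat.card_zpowers, orderOf_eq_prime hz2 hz1] at this
          omega
        have hcc := (IsPGroup.isMulCommutative_of_card_eq_prime_sq (p := 2) hq4).is_comm.comm
          (QuotientGroup.mk' _ x) (QuotientGroup.mk' _ y)
        rw [← commutatorElement_eq_one_iff_mul_comm, ← map_commutatorElement] at hcc
        have hm' := (QuotientGroup.eq_one_iff _).1 hcc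
        rw [commutatorElement_def] at hm'
        obtain ⟨t, ht⟩ := Subgroup.mem_zpowers_iff.1 hm'
        rcases Int.even_or_odd' t with ⟨r, rfl | rfl⟩
        · rw [zpow_mul, zpow_ofNat, hz2, one_zpow] at ht; exact absurd ht.symm hc1
        · rw [zpow_add_one, zpow_mul, zpow_ofNat, hz2, one_zpow, one_mul] at ht; exact ht.symm
      have hgenY : ∀ γ δ : MulAut ↥Y, γ p = δ p → γ q = δ q → γ = δ := by
        intro γ δ h1 h2'
        apply MulEquiv.ext
        intro x
        have hle : Subgroup.zpowers p ⊔ Subgroup.zpowers q ≤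
            MonoidHom.eqLocus γ.toMonoidHom δ.toMonoidHom :=
          sup_le ((Subgroup.zpowers_le).2 h1) ((Subgroup.zpowers_le).2 h2')
        refine hle ?_
        have hp2 : p ^ 2 ≠ 1 := fun e => by
          by_cases hp1 : p = 1
          · exact hpq (by simp [hp1])
          · exact hpq (by rw [huniq p z e hp1 hz2 hz1, hzc q])
        have htop : Subgroup.zpowers p ⊔ Subgroup.zpowers q = ⊤ := by
          apply Subgroup.eq_top_of_card_eq
          have hlt : Subgroup.zpowers p < Subgroup.zpowers p ⊔ Subgroup.zpowers q := by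
            refine lt_of_le_of_ne le_sup_left fun e => hpq ?_
            have hq' : q ∈ Subgroup.zpowers p := e ▸ Subgroup.mem_sup_right (Subgroup.mem_zpowers q)
            obtain ⟨t, rfl⟩ := Subgroup.mem_zpowers_iff.1 hq'
            exact ((Commute.refl p).zpow_right t).eq
          obtain ⟨r, hr⟩ := Subgroup.card_dvd_of_le hlt.le
          have hle' : Nat.card ↥(Subgroup.zpowers p ⊔ Subgroup.zpowers q) ∣ 8 :=
            hY8 ▸ Subgroup.card_subgroup_dvd_card _
          rw [hr, Nat.card_zpowers, hord p hp2] at hle'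
          rw [hr, Nat.card_zpowers, hord p hp2, hY8]
          have : r ≤ 2 := by have := Nat.le_of_dvd (by norm_num) hle'; omega
          rcases (show r = 0 ∨ r = 1 ∨ r = 2 by omega) with rfl | rfl | rfl
          · exact absurd hle' (by norm_num)
          · exact absurd (Subgroup.eq_of_le_of_card_ge hlt.le (by rw [hr, mul_one])) hlt.ne
          · rfl
        rw [htop]; exact Subgroup.mem_top x
      have hpqz : p * q * p⁻¹ * q⁻¹ = z := (hconjz p q).resolve_left fun e =>
        hpq (mul_inv_eq_iff_eq_mul.1 (mul_inv_eq_one.1 e))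
      have hqpz : q * p * q⁻¹ * p⁻¹ = z := (hconjz q p).resolve_left fun e =>
        hpq (mul_inv_eq_iff_eq_mul.1 (mul_inv_eq_one.1 e)).symm
      have hzz : z * z = 1 := by rw [← pow_two]; exact hz2
      obtain ⟨y, hy⟩ : ∃ y : ↥Y, β = MulAut.conj y := by
        have hval : ∀ x : ↥Y, β x = x ∨ β x = z * x := fun x => by
          rcases hβz x with e | e
          · exact Or.inl (mul_inv_eq_one.1 e)
          · exact Or.inr (mul_inv_eq_iff_eq_mul.1 e)
        have c1 : MulAut.conj p p = p := by rw [MulAut.conj_apply, mul_inv_cancel_right]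
        have c2 : MulAut.conj p q = z * q := by
          rw [MulAut.conj_apply]; exact mul_inv_eq_iff_eq_mul.1 hpqz
        have c3 : MulAut.conj q p = z * p := by
          rw [MulAut.conj_apply]; exact mul_inv_eq_iff_eq_mul.1 hqpz
        have c4 : MulAut.conj q q = q := by rw [MulAut.conj_apply, mul_inv_cancel_right]
        rcases hval p with e1 | e1 <;> rcases hval q with e2 | e2
        · exact ⟨1, hgenY _ _ (by rw [e1, map_one, MulAut.one_apply]) (by rw [e2, map_one, MulAut.one_apply])⟩
        · exact ⟨p, hgenY _ _ (e1.trans c1.symm) (e2.trans c2.symm)⟩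
        · exact ⟨q, hgenY _ _ (e1.trans c3.symm) (e2.trans c4.symm)⟩
        · refine ⟨p * q, hgenY _ _ ?_ ?_⟩
          · rw [e1, map_mul, MulAut.mul_apply, c3, map_mul, c1, MulAut.conj_apply, hzc p,
              mul_inv_cancel_right]
          · rw [e2, map_mul, MulAut.mul_apply, c4, c2]
      have hmemC : (y : S)⁻¹ * d ∈ C := by
        refine Subgroup.mem_inf.2 ⟨mul_mem (inv_mem (hYle y.2)) hd.1,
          Subgroup.mem_centralizer_iff.2 fun w hw => ?_⟩
        have e := congrArg Subtype.val (DFunLike.congr_fun hy ⟨w, hw⟩)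
        rw [hβ, MulAut.conjNormal_apply, MulAut.conj_apply] at e
        change d * w * d⁻¹ = (y : S) * w * (y : S)⁻¹ at e
        calc w * ((y : S)⁻¹ * d) = (y : S)⁻¹ * ((y : S) * w * (y : S)⁻¹) * d := by group
          _ = (y : S)⁻¹ * (d * w * d⁻¹) * d := by rw [e]
          _ = _ := by group
      have := mul_mem (Subgroup.mem_sup_left (T := C) y.2) (Subgroup.mem_sup_right (S := Y) hmemC)
      rwa [mul_inv_cancel_left] at this
    have hsupeq : Y ⊔ C = XX := le_antisymm (sup_le hYle inf_le_left) hYC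
    have hCY : ¬ C ≤ Y := fun h' => hY (by rw [← hsupeq, sup_eq_left.2 h'])
    obtain ⟨c₀, hc₀, hc₀Y⟩ := SetLike.not_le_iff_exists.1 hCY
    obtain ⟨c, hcC, hcY, hc2⟩ : ∃ c ∈ C, c ∉ Y ∧ c ^ 2 ∈ Y := by
      obtain ⟨k, hk⟩ := hXp ⟨c₀, hc₀.1⟩
      have hex : ∃ j, c₀ ^ 2 ^ j ∈ Y := ⟨k, by
        rw [show c₀ ^ 2 ^ k = 1 from congrArg Subtype.val hk]; exact one_mem _⟩
      obtain ⟨j, hj⟩ : ∃ j, Nat.find hex = j + 1 := Nat.exists_eq_succ_of_ne_zero fun e => hc₀Y (by
        have := Nat.find_spec hex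
        rwa [e, pow_zero, pow_one] at this)
      exact ⟨c₀ ^ 2 ^ j, pow_mem hc₀ _, Nat.find_min hex (by omega), by
        rw [← pow_mul, ← pow_succ, ← hj]; exact Nat.find_spec hex⟩
    have hcc : ∀ y ∈ Y, Commute c y := fun y hy => (Subgroup.mem_centralizer_iff.1 hcC.2 y hy).symm
    obtain ⟨i, hi2⟩ : ∃ i : ↥Y, i ^ 2 ≠ 1 := by
      by_contra hcon
      push Not at hcon
      obtain ⟨x, y, hxy⟩ := hnc
      by_cases hx1 : x = 1
      · exact hxy (by simp [hx1])
      by_cases hy1 : y = 1
      · exact hxy (by simp [hy1])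
      exact hxy (by rw [huniq x y (hcon x) hx1 (hcon y) hy1])
    have hiS : ((i : S)) ^ 2 = (z : S) := congrArg Subtype.val (hsqz i hi2)
    have hc2z : c ^ 2 = 1 ∨ c ^ 2 = (z : S) := by
      by_cases hc1 : c ^ 2 = 1
      · exact Or.inl hc1
      right
      set w : ↥Y := ⟨c ^ 2, hc2⟩ with hw
      have hwc : ∀ y : ↥Y, w * y = y * w := fun y => Subtype.ext ((hcc y y.2).pow_left 2).eq
      have hw2 : w ^ 2 = 1 := by
        by_contra hne
        obtain ⟨x, y, hxy⟩ := hnc
        have hle : Subgroup.zpowers w ≤ Subgroup.center ↥Y :=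
          (Subgroup.zpowers_le).2 (Subgroup.mem_center_iff.2 fun y => (hwc y).symm)
        have h4 : 4 ∣ Nat.card ↥(Subgroup.center ↥Y) := by
          rw [← hord w hne, ← Nat.card_zpowers]; exact Subgroup.card_dvd_of_le hle
        have hmul := Subgroup.card_eq_card_quotient_mul_card_subgroup (Subgroup.center ↥Y)
        rw [hY8] at hmul
        have hZpos : 4 ≤ Nat.card ↥(Subgroup.center ↥Y) := Nat.le_of_dvd Nat.card_pos h4
        have hq2 : Nat.card (↥Y ⧸ Subgroup.center ↥Y) ≤ 2 := by nlinarith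
        have hcyc : IsCyclic (↥Y ⧸ Subgroup.center ↥Y) := by
          have hpos : 0 < Nat.card (↥Y ⧸ Subgroup.center ↥Y) := Nat.card_pos
          rcases (show Nat.card (↥Y ⧸ Subgroup.center ↥Y) = 1 ∨ Nat.card (↥Y ⧸ Subgroup.center ↥Y) = 2 by omega) with e1 | e1
          · have := (Nat.card_eq_one_iff_unique.1 e1).1
            exact isCyclic_of_subsingleton
          · exact isCyclic_of_prime_card e1
        exact hxy (commutative_of_cyclic_center_quotient (QuotientGroup.mk' (Subgroup.center ↥Y))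
          (by rw [QuotientGroup.ker_mk']) x y)
      exact congrArg Subtype.val (huniq w z hw2 (fun e => hc1 (congrArg Subtype.val e :)) hz2 hz1)
    set B := Subgroup.zpowers (i : S) ⊔ Subgroup.zpowers c with hBdef
    have hiY : Subgroup.zpowers (i : S) ≤ Y := (Subgroup.zpowers_le).2 i.2
    have hiord : orderOf (i : S) = 4 := by rw [Subgroup.orderOf_coe, hord i hi2]
    have hBc : IsMulCommutative ↥B := by
      show IsMulCommutative ↥(Subgroup.zpowers (i : S) ⊔ Subgroup.zpowers c)
      rw [Subgroup.zpowers_eq_closure, Subgroup.zpowers_eq_closure, ← Subgroup.closure_union]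
      refine Subgroup.isMulCommutative_closure ?_
      rintro x (hx | hx) y (hy | hy) <;> rw [Set.mem_singleton_iff] at hx hy <;> subst hx <;> subst hy
      · rfl
      · exact (hcc _ i.2).symm.eq
      · exact (hcc _ i.2).eq
      · rfl
    have hidxY : Y.relIndex (Y ⊔ Subgroup.zpowers c) = 2 ∧ (Subgroup.zpowers (i : S)).relIndex B = 2 := by
      have key : ∀ K : Subgroup S, c ∈ Subgroup.normalizer (K : Set S) → c ∉ K → c ^ 2 ∈ K →
          K.relIndex (K ⊔ Subgroup.zpowers c) = 2 := by
        intro K hcn hcK hck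
        have hdvd := Solv.card_sup_mul_card_inf' K (Subgroup.zpowers c) ((Subgroup.zpowers_le).2 hcn)
        have hmul := Subgroup.relIndex_mul_relIndex (⊥ : Subgroup S) K (K ⊔ Subgroup.zpowers c) bot_le le_sup_left
        rw [Subgroup.relIndex_bot_left, Subgroup.relIndex_bot_left] at hmul
        rw [← hmul, mul_assoc, Nat.mul_left_cancel_iff Nat.card_pos] at hdvd
        have hrel2 : (K ⊓ Subgroup.zpowers c).relIndex (Subgroup.zpowers c) = 2 := by
          rw [Subgroup.inf_relIndex_right, Subgroup.relIndex, Subgroup.index_eq_two_iff]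
          refine ⟨⟨c, Subgroup.mem_zpowers c⟩, fun b => ?_⟩
          obtain ⟨b, hb⟩ := b
          obtain ⟨t, rfl⟩ := Subgroup.mem_zpowers_iff.1 hb
          simp only [Subgroup.mem_subgroupOf, Subgroup.coe_mul]
          rw [← zpow_add_one]
          rcases Int.even_or_odd' t with ⟨r, rfl | rfl⟩
          · have h' : c ^ (2 * r) ∈ K := by rw [zpow_mul, zpow_ofNat]; exact zpow_mem hck r
            refine Or.inr ⟨h', fun h'' => hcK ?_⟩
            have := mul_mem (inv_mem h') h''
            rwa [← zpow_neg, ← zpow_add, neg_add_cancel_left, zpow_one] at this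
          · have h' : c ^ (2 * r + 1 + 1) ∈ K := by
              rw [show 2 * r + 1 + 1 = 2 * (r + 1) by ring, zpow_mul, zpow_ofNat]; exact zpow_mem hck _
            refine Or.inl ⟨h', fun h'' => hcK ?_⟩
            have := mul_mem (inv_mem h'') h'
            rwa [← zpow_neg, ← zpow_add, neg_add_cancel_left, zpow_one] at this
        have hmul2 := Subgroup.relIndex_mul_relIndex (⊥ : Subgroup S) (K ⊓ Subgroup.zpowers c)
          (Subgroup.zpowers c) bot_le inf_le_right
        rw [Subgroup.relIndex_bot_left, Subgroup.relIndex_bot_left, hrel2] at hmul2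
        rw [← hmul2, mul_comm (Nat.card _) 2] at hdvd
        exact Nat.eq_of_mul_eq_mul_right Nat.card_pos hdvd
      refine ⟨key Y (by rw [Subgroup.normalizer_eq_top_iff.2 hYn]; exact Subgroup.mem_top c) hcY hc2,
        key _ ?_ (fun h' => hcY (hiY h')) ?_⟩
      · refine Solv.mem_normalizer_of_conj_smul ?_
        rw [Solv.conj_smul_eq_map, MonoidHom.map_zpowers]
        congr 1
        show c * (i : S) * c⁻¹ = i
        rw [(hcc _ i.2).eq, mul_inv_cancel_right]
      · rcases hc2z with e | e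
        · rw [e]; exact one_mem _
        · rw [e, ← hiS]; exact pow_mem (Subgroup.mem_zpowers _) 2
    have hB8 : Nat.card ↥B = 8 := by
      have hmul := Subgroup.relIndex_mul_relIndex (⊥ : Subgroup S) (Subgroup.zpowers (i : S)) B bot_le le_sup_left
      rw [Subgroup.relIndex_bot_left, Subgroup.relIndex_bot_left, hidxY.2, Nat.card_zpowers, hiord] at hmul
      omega
    have hzS2 : (z : S) ^ 2 = 1 := congrArg Subtype.val hz2
    have hzS1 : (z : S) ≠ 1 := fun e => hz1 (Subtype.ext e)
    have hzB : (z : S) ∈ B := Subgroup.mem_sup_left (hiS ▸ pow_mem (Subgroup.mem_zpowers _) 2)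
    have hBnc : ¬ IsCyclic ↥B := by
      rcases hc2z with e | e
      · refine NoEight.not_cyclic_of_two_involutions hzB (Subgroup.mem_sup_right (Subgroup.mem_zpowers c))
          hzS2 e hzS1 (fun e' => hcY (e' ▸ one_mem _)) (fun e' => hcY (e' ▸ z.2))
      · refine NoEight.not_cyclic_of_two_involutions hzB
          (mul_mem (Subgroup.mem_sup_left (Subgroup.mem_zpowers (i : S)))
            (Subgroup.mem_sup_right (Subgroup.mem_zpowers c))) hzS2 ?_ hzS1
          (fun e' => hcY ?_) (fun e' => hcY ?_)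
        · rw [Commute.mul_pow (hcc _ i.2).symm, e, hiS, ← pow_two, hzS2]
        · rw [eq_inv_of_mul_eq_one_right e']; exact inv_mem i.2
        · rw [show c = (i : S)⁻¹ * z by rw [e', inv_mul_cancel_left]]
          exact mul_mem (inv_mem i.2) z.2
    have hWle : Y ⊔ Subgroup.zpowers c ≤ XX := sup_le hYle ((Subgroup.zpowers_le).2 hcC.1)
    have hWH : H ≤ Subgroup.normalizer ((Y ⊔ Subgroup.zpowers c : Subgroup S) : Set S) := by
      intro g hg
      have hgY : g ∈ Subgroup.normalizer (Y : Set S) := hHY hg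
      refine Solv.mem_normalizer_of_conj_smul ?_
      have hle : ∀ g ∈ H, MulAut.conj g • (Y ⊔ Subgroup.zpowers c) ≤ Y ⊔ Subgroup.zpowers c := by
        intro g hg
        rw [Subgroup.smul_sup, Solv.conj_smul_of_mem_normalizer (hHY hg), Solv.conj_smul_eq_map,
          MonoidHom.map_zpowers]
        refine sup_le le_sup_left ((Subgroup.zpowers_le).2 ?_)
        show g * c * g⁻¹ ∈ Y ⊔ Subgroup.zpowers c
        have hm' : ⁅c, g⁆⁻¹ ∈ Y := inv_mem (Subgroup.commutator_mem_commutator hcC.1 hg)
        have := mul_mem (Subgroup.mem_sup_left (T := Subgroup.zpowers c) hm')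
          (Subgroup.mem_sup_right (S := Y) (Subgroup.mem_zpowers c))
        rwa [commutatorElement_def, show (c * g * c⁻¹ * g⁻¹)⁻¹ * c = g * c * g⁻¹ by group] at this
      exact le_antisymm (hle g hg) (Subgroup.subset_pointwise_smul_iff.2
        (by rw [← map_inv]; exact hle _ (inv_mem hg)))
    have hWeq : Y ⊔ Subgroup.zpowers c = XX := Subgroup.eq_of_le_of_card_ge hWle (by
      rw [hX2, big hmin hS hm hH (hXp.to_le hWle) hWH hBc hBnc hB8 (sup_le_sup_right hiY _)])
    refine ⟨Y, 0, hYle, hWeq ▸ hidxY.1, ?_, hsupeq⟩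
    have hu' : Solv.UniqueOrderP 2 ↥Y := fun x y hx hy hy1 => by
      by_cases hx1 : x = 1
      · rw [hx1]; exact one_mem _
      · rw [huniq x y hx hx1 hy hy1]; exact Subgroup.mem_zpowers y
    rcases Solv.cyclic_or_quaternion hYp hu' with hcy | ⟨-, n, ⟨e⟩⟩
    · obtain ⟨x, y, hxy⟩ := hnc
      exact absurd ((IsCyclic.isMulCommutative (α := ↥Y)).is_comm.comm x y) hxy
    · have hn : n = 1 := by
        have h' := Nat.card_congr e.toEquiv
        rw [hY8, Nat.card_eq_fintype_card, QuaternionGroup.card] at h'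
        have : 2 ^ n = 2 ^ 1 := by omega
        exact Nat.pow_right_injective le_rfl this
      subst hn
      exact ⟨e⟩

/-- The case `[X, H] = X`. -/
theorem case_full (hmin : Minimal S) {a m : ℕ} (hS : Nat.card S = 2 ^ a * m) (hm : Odd m)
    {H : Subgroup S} (hH : Nat.card ↥H = m) [Group.IsSolvable S] (X : Sylow 2 S)
    [(X : Subgroup S).Normal] (hX2 : Nat.card ↥(X : Subgroup S) = 2 ^ a)
    {A : Subgroup S} (hAX : A ≤ (X : Subgroup S)) (hA : IsMulCommutative ↥A)
    (hA8 : Nat.card ↥A = 8) (hnab : ¬ IsMulCommutative ↥(X : Subgroup S))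
    (hY : ⁅(X : Subgroup S), H⁆ = (X : Subgroup S)) :
    (Cfsg.IsExtraspecial 2 ↥(X : Subgroup S) ∧ 32 ≤ Nat.card ↥(X : Subgroup S)) ∨
      (Cfsg.IsSpecial 2 ↥(X : Subgroup S) ∧ Nat.card ↥(Subgroup.center ↥(X : Subgroup S)) = 4) := by
  classical
  have : Fact (Nat.Prime 2) := ⟨Nat.prime_two⟩
  set XX := (X : Subgroup S) with hXX
  have hXp : IsPGroup 2 ↥XX := X.2
  have hXnt : Nontrivial ↥XX := by
    by_contra h'
    rw [not_nontrivial_iff_subsingleton] at h'
    exact hnab ⟨⟨fun _ _ => Subsingleton.elim _ _⟩⟩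
  have proper : ∀ K : Subgroup ↥XX, K.Characteristic → K ≠ ⊤ →
      NoEight.NA ↥(K.map XX.subtype) := by
    intro K hK hKtop
    refine na_of_not _ fun B hB hBa hBc hB8 => hKtop ?_
    have hn : (K.map XX.subtype).Normal := inferInstance
    have hc := big hmin hS hm hH (hXp.to_le (Subgroup.map_subtype_le K))
      (fun g _ => by rw [Subgroup.normalizer_eq_top_iff.2 hn]; exact Subgroup.mem_top g) hBa hBc hB8 hB
    apply Subgroup.eq_top_of_card_eq
    rw [Nat.card_congr (K.equivMapOfInjective _ XX.subtype_injective).toEquiv, hc, hX2]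
  set Φ := (frattini ↥XX).map XX.subtype with hΦ
  have hΦn : Φ.Normal := inferInstance
  have hΦX : Φ ≤ XX := Subgroup.map_subtype_le _
  have hΦtop : frattini ↥XX ≠ ⊤ := fun e => by
    have h' : (⊥ : Subgroup ↥XX) = ⊤ := frattini_nongenerating (by rw [e, sup_top_eq])
    exact bot_ne_top h'
  have hΦNA : NoEight.NA ↥Φ := proper _ inferInstance hΦtop
  have hΦp : IsPGroup 2 ↥Φ := hXp.to_le hΦX
  have hsqΦ : ∀ x ∈ XX, x ^ 2 ∈ Φ := fun x hx =>
    ⟨_, Solv.pow_mem_frattini hXp ⟨x, hx⟩, rfl⟩
  have hcmΦ : ∀ x ∈ XX, ∀ y ∈ XX, x * y * x⁻¹ * y⁻¹ ∈ Φ := fun x hx y hy =>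
    ⟨_, Solv.commutatorElement_mem_frattini hXp ⟨x, hx⟩ ⟨y, hy⟩, rfl⟩
  have hXH : XX = ⁅XX, H⁆ := hY.symm
  -- `Φ` is abelian
  have hΦc : ∀ x y : ↥Φ, x * y = y * x := by
    by_contra hcon
    push Not at hcon
    -- a normal subgroup of `X` of order four inside `Φ`
    have hΦnt : Φ ≠ ⊥ := by
      intro e
      obtain ⟨x, y, hxy⟩ := hcon
      have hs : Subsingleton ↥Φ := by rw [e]; infer_instance
      exact hxy (Subsingleton.elim _ _)
    let ΦX : Subgroup ↥XX := frattini ↥XX
    have hΦXne : ΦX ≠ ⊥ := fun e => hΦnt (by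
      rw [hΦ, show frattini ↥XX = ⊥ from e, Subgroup.map_bot])
    obtain ⟨z₀, hz₀Φ, hz₀1, hz₀c⟩ := SectionalFour.exists_central hXp ΦX hΦXne
    obtain ⟨z, hzΦ, hz1, hz2, hzc⟩ : ∃ z : ↥XX, z ∈ ΦX ∧ z ≠ 1 ∧ z ^ 2 = 1 ∧ ∀ g, g * z = z * g := by
      obtain ⟨k, hk⟩ := hXp z₀
      have hex : ∃ j, z₀ ^ 2 ^ j = 1 := ⟨k, hk⟩
      obtain ⟨j, hj⟩ : ∃ j, Nat.find hex = j + 1 := Nat.exists_eq_succ_of_ne_zero fun e => hz₀1 (by
        have := Nat.find_spec hex
        rwa [e, pow_zero, pow_one] at this)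
      exact ⟨z₀ ^ 2 ^ j, pow_mem hz₀Φ _, Nat.find_min hex (by omega),
        by rw [← pow_mul, ← pow_succ, ← hj]; exact Nat.find_spec hex,
        fun g => (Commute.pow_right (hz₀c g) _).eq⟩
    have hZn : (Subgroup.zpowers z).Normal := ⟨fun x hx g => by
      obtain ⟨t, rfl⟩ := Subgroup.mem_zpowers_iff.1 hx
      rw [← conj_zpow, hzc g, mul_inv_cancel_right]; exact zpow_mem (Subgroup.mem_zpowers z) t⟩
    let π := QuotientGroup.mk' (Subgroup.zpowers z)
    have hPne : ΦX.map π ≠ ⊥ := by
      intro e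
      obtain ⟨x, y, hxy⟩ := hcon
      obtain ⟨x', hx', hxe⟩ := x.2
      obtain ⟨y', hy', hye⟩ := y.2
      have hxz : x' ∈ Subgroup.zpowers z := by
        rw [← QuotientGroup.eq_one_iff]
        have : π x' ∈ ΦX.map π := ⟨x', hx', rfl⟩
        rwa [e, Subgroup.mem_bot] at this
      obtain ⟨t, rfl⟩ := Subgroup.mem_zpowers_iff.1 hxz
      apply hxy
      apply Subtype.ext
      show (x : S) * y = y * x
      rw [← hxe, ← hye, ← map_mul, ← map_mul, ((Commute.zpow_right (hzc y') t).symm).eq]
    have hPn : (ΦX.map π).Normal := Subgroup.Normal.map inferInstance π (QuotientGroup.mk'_surjective _)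
    obtain ⟨w₀, ⟨w₀', hw₀', rfl⟩, hw₀1, hw₀c⟩ :=
      SectionalFour.exists_central (hXp.to_quotient (Subgroup.zpowers z)) _ hPne
    -- `N = π⁻¹⟨w₀⟩` is commutative
    have hwz : ∀ g : ↥XX, g * w₀' * g⁻¹ * w₀'⁻¹ ∈ Subgroup.zpowers z := fun g => by
      rw [← QuotientGroup.eq_one_iff]
      show π (g * w₀' * g⁻¹ * w₀'⁻¹) = 1
      simp only [map_mul, map_inv, hw₀c (π g), mul_inv_cancel_right, mul_inv_cancel]
    -- squares and commutators centralise `w₀'`
    let e : ↥XX →* ↥XX :=
      { toFun := fun g => g * w₀' * g⁻¹ * w₀'⁻¹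
        map_one' := by simp
        map_mul' := fun g g' => by
          obtain ⟨t, ht⟩ := Subgroup.mem_zpowers_iff.1 (hwz g')
          have hcz : Commute g (g' * w₀' * g'⁻¹ * w₀'⁻¹) := by
            rw [← ht]; exact Commute.zpow_right (hzc g) t
          have hcz2 : Commute (g * w₀' * g⁻¹ * w₀'⁻¹) (g' * w₀' * g'⁻¹ * w₀'⁻¹) := by
            rw [← ht]; exact Commute.zpow_right (hzc _) t
          calc g * g' * w₀' * (g * g')⁻¹ * w₀'⁻¹
              = (g * (g' * w₀' * g'⁻¹ * w₀'⁻¹)) * w₀' * g⁻¹ * w₀'⁻¹ := by group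
            _ = (g' * w₀' * g'⁻¹ * w₀'⁻¹) * (g * w₀' * g⁻¹ * w₀'⁻¹) := by rw [hcz.eq]; group
            _ = _ := hcz2.symm.eq }
    have hcent : ∀ f ∈ ΦX, f * w₀' = w₀' * f := by
      have hle : ΦX ≤ e.ker := Solv.frattini_le (p := 2) e.ker (fun x y => by
          have : e ⁅x, y⁆ = ⁅e x, e y⁆ := map_commutatorElement e x y
          show e ⁅x, y⁆ = 1
          rw [this, commutatorElement_eq_one_iff_mul_comm]
          obtain ⟨t, ht⟩ := Subgroup.mem_zpowers_iff.1 (hwz x)
          show (x * w₀' * x⁻¹ * w₀'⁻¹) * e y = e y * (x * w₀' * x⁻¹ * w₀'⁻¹)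
          rw [← ht]; exact ((Commute.zpow_right (hzc (e y)) t).symm).eq) (fun x => by
          show e (x ^ 2) = 1
          rw [map_pow]
          obtain ⟨t, ht⟩ := Subgroup.mem_zpowers_iff.1 (hwz x)
          show (x * w₀' * x⁻¹ * w₀'⁻¹) ^ 2 = 1
          rw [← ht, ← zpow_natCast, ← zpow_mul, mul_comm, zpow_mul, zpow_natCast, hz2, one_zpow])
      intro f hf
      have := hle hf
      exact mul_inv_eq_iff_eq_mul.1 (mul_inv_eq_one.1 this)
    -- but the centre of `Φ` has order two
    obtain ⟨x, y, hxy⟩ := hcon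
    have hw0Φ : (w₀' : S) ∈ Φ := ⟨w₀', hw₀', rfl⟩
    have hzΦ' : (z : S) ∈ Φ := ⟨z, hzΦ, rfl⟩
    have hnw : w₀' ∉ Subgroup.zpowers z := fun h' => hw₀1 ((QuotientGroup.eq_one_iff _).2 h')
    have hctr : ∀ f : ↥Φ, f * ⟨w₀', hw0Φ⟩ = ⟨w₀', hw0Φ⟩ * f := by
      intro f
      obtain ⟨f', hf', hfe⟩ := f.2
      apply Subtype.ext
      show (f : S) * w₀' = w₀' * f
      rw [← hfe]
      exact congrArg Subtype.val (hcent f' hf')
    have hctrz : ∀ f : ↥Φ, f * ⟨z, hzΦ'⟩ = ⟨z, hzΦ'⟩ * f := by
      intro f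
      obtain ⟨f', hf', hfe⟩ := f.2
      apply Subtype.ext
      show (f : S) * z = z * f
      rw [← hfe]
      exact congrArg Subtype.val (hzc f')
    -- the abelian subgroup generated by the centre and an outside element
    obtain ⟨n, hn, hne⟩ := NoEight.max_class hΦp hΦNA ⟨x, y, hxy⟩
    obtain ⟨u, hu⟩ := Solv.exists_cyclic_index_two n hn hne
    obtain ⟨g, hg⟩ : ∃ g, g ∉ Subgroup.zpowers u := by
      by_contra h'
      push Not at h'
      have := congrArg (fun K : Subgroup ↥Φ => Nat.card ↥K) ((Subgroup.eq_top_iff' _).2 h')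
      simp only [Nat.card_zpowers, hu, Subgroup.card_top, hn] at this
      rw [pow_succ 2 (n + 2)] at this
      have := Nat.two_pow_pos (n + 2)
      omega
    have hcin : ∀ v : ↥Φ, (∀ f, f * v = v * f) → v ∈ Subgroup.zpowers u := by
      intro v hv
      by_contra hvu
      have hsq := Solv.sq_eq_one_of_commute hn hne hu hvu 1 (by rw [zpow_one]; exact (hv u).symm)
      rw [zpow_one] at hsq
      have := orderOf_dvd_of_pow_eq_one hsq
      rw [hu] at this
      have h4 : 4 ≤ 2 ^ (n + 2) := le_trans (by norm_num : 4 ≤ 2 ^ 2) (Nat.pow_le_pow_right (by norm_num) (by omega))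
      have := Nat.le_of_dvd two_pos this
      omega
    obtain ⟨jw, hjw⟩ := Subgroup.mem_zpowers_iff.1 (hcin _ hctr)
    obtain ⟨jz, hjz⟩ := Subgroup.mem_zpowers_iff.1 (hcin _ hctrz)
    have h2w : (⟨w₀', hw0Φ⟩ : ↥Φ) ^ 2 = 1 := by
      rw [← hjw]
      exact Solv.sq_eq_one_of_commute hn hne hu hg jw (by rw [hjw]; exact hctr g)
    have hu' : ∀ v : ↥Φ, v ∈ Subgroup.zpowers u → v ^ 2 = 1 → v = 1 ∨ v = u ^ (2 ^ (n + 1)) := by
      intro v hv hv2
      obtain ⟨t, rfl⟩ := Subgroup.mem_zpowers_iff.1 hv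
      have hd : ((2 : ℤ) ^ (n + 2)) ∣ t * 2 := by
        have : u ^ (t * 2) = 1 := by rw [zpow_mul, zpow_ofNat]; exact hv2
        rw [← orderOf_dvd_iff_zpow_eq_one, hu] at this
        exact_mod_cast this
      rw [pow_succ, mul_dvd_mul_iff_right two_ne_zero] at hd
      obtain ⟨q, rfl⟩ := hd
      rcases Int.even_or_odd' q with ⟨r, rfl | rfl⟩
      · left
        rw [← orderOf_dvd_iff_zpow_eq_one, hu]
        exact ⟨r, by push_cast; ring⟩
      · right
        rw [show (2 : ℤ) ^ (n + 1) * (2 * r + 1) = ((2 ^ (n + 2) : ℕ) : ℤ) * r + ((2 ^ (n + 1) : ℕ) : ℤ) by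
          push_cast; ring, zpow_add, zpow_mul, zpow_natCast, zpow_natCast, ← hu, pow_orderOf_eq_one,
          one_zpow, one_mul]
    have hz2' : (⟨z, hzΦ'⟩ : ↥Φ) ^ 2 = 1 := Subtype.ext (congrArg Subtype.val hz2 :)
    have hwne : (⟨w₀', hw0Φ⟩ : ↥Φ) ≠ 1 := fun e' => hnw (by
      rw [show w₀' = 1 from Subtype.ext (congrArg Subtype.val e' :)]; exact one_mem _)
    have hzne : (⟨z, hzΦ'⟩ : ↥Φ) ≠ 1 := fun e' => hz1 (Subtype.ext (congrArg Subtype.val e' :))
    apply hnw
    have e1 := (hu' _ (hcin _ hctr) h2w).resolve_left hwne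
    have e2 := (hu' _ (hcin _ hctrz) hz2').resolve_left hzne
    rw [show w₀' = z from Subtype.ext (congrArg Subtype.val (e1.trans e2.symm) :)]
    exact Subgroup.mem_zpowers z
  -- `Φ` is central
  have hΦZ : ∀ f ∈ Φ, ∀ x ∈ XX, x * f = f * x := by
    by_cases htriv : ∀ g ∈ H, ∀ f ∈ Φ, g * f = f * g
    · intro f hf x hx
      have hle : ⁅XX, H⁆ ≤ Subgroup.centralizer (Φ : Set S) := by
        have hKn : (Subgroup.centralizer (Φ : Set S)).Normal := Subgroup.normal_centralizer
        refine Subgroup.commutator_le.2 fun y _ g hg => ?_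
        have hgK : g ∈ Subgroup.centralizer (Φ : Set S) :=
          Subgroup.mem_centralizer_iff.2 fun f hf => (htriv g hg f hf).symm
        rw [commutatorElement_def, mul_assoc, mul_assoc]
        have := mul_mem (hKn.conj_mem g hgK y) (inv_mem hgK)
        simpa [mul_assoc] using this
      rw [hY] at hle
      exact (Subgroup.mem_centralizer_iff.1 (hle hx) f hf).symm
    push Not at htriv
    obtain ⟨g, hg, f₀, hf₀, hgf⟩ := htriv
    have hmv : (MulAut.conjNormal g : MulAut ↥Φ) ≠ 1 := fun e => hgf (conjNormal_eq_one e f₀ hf₀)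
    rcases NoEight.odd_aut hΦp hΦNA (odd_conj (odd_order_of_mem hm hH hg)) hmv with
      ⟨-, h4, -, hfix⟩ | ⟨⟨p, q, hpq⟩, -, -⟩
    swap
    · exact absurd (hΦc p q) hpq
    -- the central part of `Φ` is invariant
    set Z0 := Φ ⊓ Subgroup.centralizer (XX : Set S) with hZ0
    have hZn : Z0.Normal := Subgroup.normal_inf_normal _ _
    have hne : Z0 ≠ ⊥ := by
      have hΦne : (frattini ↥XX) ≠ ⊥ := fun e => by
        rw [hΦ, e, Subgroup.map_bot, Subgroup.card_bot] at h4; norm_num at h4
      obtain ⟨c, hc, hc1, hcc⟩ := SectionalFour.exists_central hXp _ hΦne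
      intro e
      have : (c : S) ∈ Z0 := ⟨⟨c, hc, rfl⟩, Subgroup.mem_centralizer_iff.2 fun x hx =>
        congrArg Subtype.val (hcc ⟨x, hx⟩)⟩
      rw [e, Subgroup.mem_bot] at this
      exact hc1 (Subtype.ext this)
    have hZeq : Z0 = Φ := by
      refine Subgroup.eq_of_le_of_card_ge inf_le_left ?_
      have hd : Nat.card ↥Z0 ∣ 2 ^ 2 := by
        rw [show (2 : ℕ) ^ 2 = Nat.card ↥Φ by rw [h4]; norm_num]
        exact Subgroup.card_dvd_of_le inf_le_left
      obtain ⟨e, he, heq⟩ := (Nat.dvd_prime_pow Nat.prime_two).1 hd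
      interval_cases e
      · exact absurd (Subgroup.card_eq_one.1 (by rw [heq, pow_zero])) hne
      · exfalso
        obtain ⟨u, v, huv, huniv⟩ := Nat.card_eq_two_iff.1 (heq.trans (pow_one 2))
        obtain ⟨c, hc1, hcu⟩ : ∃ c : ↥Z0, c ≠ 1 ∧ ∀ w, w = 1 ∨ w = c := by
          have hmem : ∀ w : ↥Z0, w = u ∨ w = v := fun w => by
            have : w ∈ ({u, v} : Set ↥Z0) := by rw [huniv]; exact Set.mem_univ w
            simpa using this
          rcases hmem 1 with h' | h'
          · exact ⟨v, fun e => huv (h'.symm.trans e.symm), fun w => h' ▸ hmem w⟩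
          · exact ⟨u, fun e => huv (e.trans h'), fun w => (h' ▸ hmem w).symm⟩
        have hcf := hfix ⟨c, c.2.1⟩ (Subtype.ext (by
          rw [MulAut.conjNormal_apply]
          show g * (c : S) * g⁻¹ = c
          rcases hcu ⟨_, hZn.conj_mem c c.2 g⟩ with e | e
          · exact absurd (Subtype.ext (conj_eq_one_iff.1 (congrArg Subtype.val e))) hc1
          · exact congrArg Subtype.val e))
        exact hc1 (Subtype.ext (congrArg Subtype.val hcf :))
      · rw [h4, heq]; norm_num
    intro f hf x hx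
    have : f ∈ Z0 := hZeq.ge hf
    exact Subgroup.mem_centralizer_iff.1 this.2 x hx
  -- commutators
  set W := (commutator ↥XX).map XX.subtype with hW
  have hWn : W.Normal := inferInstance
  have hWΦ : W ≤ Φ := Subgroup.map_mono (Solv.commutator_le_frattini_pgroup hXp)
  have hWel : ∀ w ∈ W, w ^ 2 = 1 := by
    rintro _ ⟨w, hw, rfl⟩
    let E : Subgroup ↥XX :=
      { carrier := {w | w ^ 2 = 1 ∧ ∀ g, g * w = w * g}
        one_mem' := ⟨one_pow 2, fun g => by simp⟩
        mul_mem' := fun {a b} ⟨ha, hac⟩ ⟨hb, hbc⟩ =>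
          ⟨by rw [Commute.mul_pow (hbc a), ha, hb, one_mul],
           fun g => (Commute.mul_right (hac g) (hbc g)).eq⟩
        inv_mem' := fun {a} ⟨ha, hac⟩ => ⟨by rw [inv_pow, ha, inv_one],
          fun g => (Commute.inv_right (hac g)).eq⟩ }
    have hle : commutator ↥XX ≤ E := by
      rw [commutator_def, Subgroup.commutator_le]
      intro x _ y _
      have hc : ∀ g, g * ⁅x, y⁆ = ⁅x, y⁆ * g := fun g => Subtype.ext
        (hΦZ _ (hWΦ ⟨_, Subgroup.commutator_mem_commutator (Subgroup.mem_top x) (Subgroup.mem_top y), rfl⟩) g g.2)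
      refine ⟨?_, hc⟩
      have hx2 : x ^ 2 * y = y * x ^ 2 := Subtype.ext (hΦZ _ (hsqΦ x x.2) y y.2).symm
      have e : ⁅x ^ 2, y⁆ = ⁅x, y⁆ ^ 2 := by
        have h' : x * ⁅x, y⁆ * x⁻¹ = ⁅x, y⁆ := mul_inv_eq_iff_eq_mul.2 (hc x)
        calc ⁅x ^ 2, y⁆ = (x * ⁅x, y⁆ * x⁻¹) * ⁅x, y⁆ := by
              rw [commutatorElement_def, commutatorElement_def, pow_two]; group
          _ = _ := by rw [h', pow_two]
      rw [← e, commutatorElement_eq_one_iff_mul_comm]
      exact hx2
    have := (hle hw).1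
    exact congrArg Subtype.val this
  have hW1 : W ≠ ⊥ := by
    intro e
    apply hnab
    have h' : commutator ↥XX = ⊥ := (Subgroup.map_eq_bot_iff_of_injective _ XX.subtype_injective).1 e
    refine ⟨⟨fun x y => ?_⟩⟩
    have hm' : ⁅x, y⁆ ∈ commutator ↥XX :=
      Subgroup.commutator_mem_commutator (Subgroup.mem_top x) (Subgroup.mem_top y)
    rw [h', Subgroup.mem_bot, commutatorElement_eq_one_iff_mul_comm] at hm'
    exact hm'
  have hWeq : W = Φ := by
    refine le_antisymm hWΦ ?_
    by_cases htriv : ∀ g ∈ H, ∀ f ∈ Φ, g * f = f * g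
    · -- squares lie in `W`
      have hs : ∀ x ∈ XX, x ^ 2 ∈ W := by
        let π := QuotientGroup.mk' W
        let σ : ↥XX →* S ⧸ W :=
          { toFun := fun x => π ((x : S) ^ 2)
            map_one' := by simp
            map_mul' := fun x y => by
              rw [← map_mul]
              refine ((QuotientGroup.eq (s := W)).2 ?_).symm
              have hm' : ⁅y⁻¹, x⁻¹⁆ ∈ commutator ↥XX :=
                Subgroup.commutator_mem_commutator (Subgroup.mem_top _) (Subgroup.mem_top _)
              have hcz := hΦZ _ (hWΦ ⟨_, hm', rfl⟩) y y.2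
              have e2 : ((x : S) ^ 2 * (y : S) ^ 2)⁻¹ * ((x * y : ↥XX) : S) ^ 2 = ((⁅y⁻¹, x⁻¹⁆ : ↥XX) : S) := by
                rw [Subgroup.coe_mul]
                change (y : S) * ((⁅y⁻¹, x⁻¹⁆ : ↥XX) : S) = ((⁅y⁻¹, x⁻¹⁆ : ↥XX) : S) * (y : S) at hcz
                have e3 : ((⁅y⁻¹, x⁻¹⁆ : ↥XX) : S) = (y : S)⁻¹ * (x : S)⁻¹ * y * x := by
                  simp [commutatorElement_def, mul_assoc]
                rw [e3] at hcz ⊢
                calc ((x : S) ^ 2 * (y : S) ^ 2)⁻¹ * ((x : S) * y) ^ 2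
                    = (y : S)⁻¹ * ((y : S)⁻¹ * (x : S)⁻¹ * y * x * y) := by
                      simp only [pow_two]; group
                  _ = (y : S)⁻¹ * (y * ((y : S)⁻¹ * (x : S)⁻¹ * y * x)) := by rw [hcz]
                  _ = _ := by group
              rw [e2]
              exact ⟨_, hm', rfl⟩ }
        intro x hx
        have hker : XX ≤ σ.ker.map XX.subtype := by
          conv_lhs => rw [hXH]
          rw [Subgroup.commutator_le]
          intro y hy g hg
          refine ⟨⟨y, hy⟩ * ⟨g * y⁻¹ * g⁻¹, Subgroup.Normal.conj_mem inferInstance _ (inv_mem hy) g⟩, ?_, ?_⟩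
          · show σ (_ * _) = 1
            rw [map_mul]
            show π (y ^ 2) * π ((g * y⁻¹ * g⁻¹) ^ 2) = 1
            rw [← map_mul, conj_pow, htriv g hg _ (hsqΦ _ (inv_mem hy)), mul_inv_cancel_right, inv_pow,
              mul_inv_cancel, map_one]
          · show y * (g * y⁻¹ * g⁻¹) = ⁅y, g⁆
            rw [commutatorElement_def]; group
        obtain ⟨x', hx', hxe⟩ := hker hx
        rw [← hxe]
        exact (QuotientGroup.eq_one_iff _).1 (hx' : σ x' = 1)
      rw [hΦ]
      refine Subgroup.map_le_iff_le_comap.2 ?_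
      have hn : (W.comap XX.subtype).Normal := hWn.comap _
      exact Solv.frattini_le (p := 2) _ (fun x y => Subgroup.mem_comap.2
        ⟨_, Subgroup.commutator_mem_commutator (Subgroup.mem_top x) (Subgroup.mem_top y), rfl⟩)
        (fun x => hs x x.2)
    · push Not at htriv
      obtain ⟨g, hg, f₀, hf₀, hgf⟩ := htriv
      have hmv : (MulAut.conjNormal g : MulAut ↥Φ) ≠ 1 := fun e => hgf (conjNormal_eq_one e f₀ hf₀)
      rcases NoEight.odd_aut hΦp hΦNA (odd_conj (odd_order_of_mem hm hH hg)) hmv with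
        ⟨-, h4, hex, hfix⟩ | ⟨⟨p, q, hpq⟩, -, -⟩
      swap
      · exact absurd (hΦc p q) hpq
      refine (Subgroup.eq_of_le_of_card_ge hWΦ ?_).ge
      rw [h4]
      by_contra hlt
      obtain ⟨w, hw, hw1⟩ := (Subgroup.bot_or_exists_ne_one W).resolve_left hW1
      have hw' : g * w * g⁻¹ = w := by
        have hgw : g * w * g⁻¹ ∈ W := hWn.conj_mem w hw g
        have hcard : Nat.card ↥W ≤ 2 := by
          have hd : Nat.card ↥W ∣ 2 ^ 2 := by
            rw [show (2 : ℕ) ^ 2 = Nat.card ↥Φ by rw [h4]; norm_num]; exact Subgroup.card_dvd_of_le hWΦ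
          obtain ⟨e, he, heq⟩ := (Nat.dvd_prime_pow Nat.prime_two).1 hd
          interval_cases e
          all_goals omega
        by_contra hne'
        have hne1 : g * w * g⁻¹ ≠ 1 := fun e => hw1 (conj_eq_one_iff.1 e)
        have h3 : 3 ≤ Nat.card ↥W := by
          let f : Fin 3 → ↥W := fun i => if i = 0 then 1 else if i = 1 then ⟨w, hw⟩ else ⟨_, hgw⟩
          have hinj : Function.Injective f := by
            have q1 : f 0 ≠ f 1 := fun e => hw1 (congrArg Subtype.val e).symm
            have q2 : f 0 ≠ f 2 := fun e => hne1 (congrArg Subtype.val e).symm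
            have q3 : f 1 ≠ f 2 := fun e => hne' (congrArg Subtype.val e).symm
            intro i j e
            fin_cases i <;> fin_cases j <;> first | rfl | exact absurd e q1 | exact absurd e q2 | exact absurd e q3 | exact absurd e.symm q1 | exact absurd e.symm q2 | exact absurd e.symm q3
          simpa using Nat.card_le_card_of_injective f hinj
        omega
      exact hw1 (congrArg Subtype.val (hfix ⟨w, hWΦ hw⟩ (Subtype.ext (by
        rw [MulAut.conjNormal_apply]; exact hw'))) :)
  -- the centre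
  set Zc := (Subgroup.center ↥XX).map XX.subtype with hZc
  have hZNA : NoEight.NA ↥Zc := proper _ inferInstance fun e => hnab ⟨⟨fun x y =>
    (Subgroup.mem_center_iff.1 (e.ge (Subgroup.mem_top y)) x)⟩⟩
  have hZX : Zc ≤ XX := Subgroup.map_subtype_le _
  have hZp : IsPGroup 2 ↥Zc := hXp.to_le hZX
  have hZab : ∀ x y : ↥Zc, x * y = y * x := by
    intro x y
    obtain ⟨x', hx', hxe⟩ := x.2
    obtain ⟨y', hy', hye⟩ := y.2
    apply Subtype.ext
    show (x : S) * y = y * x
    rw [← hxe, ← hye]
    exact congrArg Subtype.val (Subgroup.mem_center_iff.1 hy' x')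
  have hΦZc : Φ ≤ Zc := fun f hf => ⟨⟨f, hΦX hf⟩,
    Subgroup.mem_center_iff.2 fun x => Subtype.ext (hΦZ f hf x x.2), rfl⟩
  have hZcΦ : Zc ≤ Φ := by
    intro x hx
    refine nofix hm hH hXp hXH hcmΦ (hZX hx) fun g hg => ?_
    by_cases htriv : (MulAut.conjNormal g : MulAut ↥Zc) = 1
    · rw [conjNormal_eq_one htriv x hx, mul_inv_cancel_right, mul_inv_cancel]; exact one_mem _
    rcases NoEight.odd_aut hZp hZNA (odd_conj (odd_order_of_mem hm hH hg)) htriv with
      ⟨-, h4, -, hfix⟩ | ⟨⟨p, q, hpq⟩, -, -⟩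
    swap
    · exact absurd (hZab p q) hpq
    have : Zc = Φ := by
      refine (Subgroup.eq_of_le_of_card_ge hΦZc ?_).symm
      rw [h4]
      by_contra hlt
      obtain ⟨w, hw, hw1⟩ := (Subgroup.bot_or_exists_ne_one Φ).resolve_left
        (fun e => hW1 (hWeq.trans e))
      have hd : Nat.card ↥Φ ∣ 2 ^ 2 := by
        rw [show (2 : ℕ) ^ 2 = Nat.card ↥Zc by rw [h4]; norm_num]; exact Subgroup.card_dvd_of_le hΦZc
      have hcard : Nat.card ↥Φ = 2 := by
        obtain ⟨e, he, heq⟩ := (Nat.dvd_prime_pow Nat.prime_two).1 hd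
        interval_cases e
        · rw [pow_zero] at heq
          exact absurd (Subgroup.card_eq_one.1 heq) (fun e => hW1 (hWeq.trans e))
        · rw [heq]; norm_num
        · rw [heq] at hlt; norm_num at hlt
      obtain ⟨u, v, huv, huniv⟩ := Nat.card_eq_two_iff.1 hcard
      have hone : ∀ a b : ↥Φ, a ≠ 1 → b ≠ 1 → a = b := by
        intro a b ha hb
        have hmem : ∀ w : ↥Φ, w = u ∨ w = v := fun w => by
          have : w ∈ ({u, v} : Set ↥Φ) := by rw [huniv]; exact Set.mem_univ w
          simpa using this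
        rcases hmem a with rfl | rfl <;> rcases hmem b with rfl | rfl <;> rcases hmem 1 with e | e <;>
          first | rfl | exact absurd e.symm ha | exact absurd e.symm hb
      have hf := hone ⟨g * w * g⁻¹, hΦn.conj_mem w hw g⟩ ⟨w, hw⟩
        (fun e => hw1 (conj_eq_one_iff.1 (congrArg Subtype.val e))) (fun e => hw1 (congrArg Subtype.val e))
      exact hw1 (congrArg Subtype.val (hfix ⟨w, hΦZc hw⟩ (Subtype.ext (by
        rw [MulAut.conjNormal_apply]; exact congrArg Subtype.val hf))) :)
    have hxΦ : x ∈ Φ := this ▸ hx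
    exact mul_mem (hΦn.conj_mem x hxΦ g) (inv_mem hxΦ)
  have hZΦ : Zc = Φ := le_antisymm hZcΦ hΦZc
  have e1 : frattini ↥XX = Subgroup.center ↥XX :=
    Subgroup.map_injective XX.subtype_injective hZΦ.symm
  have e2 : commutator ↥XX = Subgroup.center ↥XX :=
    Subgroup.map_injective XX.subtype_injective (hWeq.trans hZΦ.symm)
  have hspec : Cfsg.IsSpecial 2 ↥XX := ⟨hXp, e1, e2⟩
  have hZcard : Nat.card ↥(Subgroup.center ↥XX) = Nat.card ↥Zc :=
    Nat.card_congr ((Subgroup.center ↥XX).equivMapOfInjective _ XX.subtype_injective).toEquiv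
  have hsmall : Nat.card ↥Zc = 2 ∨ Nat.card ↥Zc = 4 := by
    have hel : ∀ x : ↥Zc, x ^ 2 = 1 := fun x => Subtype.ext (hWel x (by
      rw [hWeq, ← hZΦ]; exact x.2))
    rcases NoEight.abelian_case hZp hZNA hZab with hcy | ⟨h4, -⟩
    · left
      obtain ⟨g, hg⟩ := hcy.exists_generator
      have : Nat.card ↥Zc ∣ 2 := by
        rw [← orderOf_eq_card_of_forall_mem_zpowers hg]
        exact orderOf_dvd_of_pow_eq_one (hel g)
      rcases (Nat.dvd_prime Nat.prime_two).1 this with e | e
      · exfalso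
        exact hW1 (hWeq.trans (hZΦ.symm.trans (Subgroup.card_eq_one.1 e)))
      · exact e
    · exact Or.inr h4
  rcases hsmall with h2 | h4
  swap
  · exact Or.inr ⟨hspec, hZcard.trans h4⟩
  refine Or.inl ⟨⟨hspec, hZcard.trans h2⟩, ?_⟩
  -- the order is at least 32
  have hA8' : 8 ∣ Nat.card ↥XX := hA8 ▸ Subgroup.card_dvd_of_le hAX
  by_contra h32
  rw [hX2] at hA8' h32
  have ha3 : 3 ≤ a := by
    by_contra h'
    have hle := Nat.le_of_dvd (Nat.two_pow_pos a) hA8'
    have : 2 ^ a ≤ 2 ^ 2 := Nat.pow_le_pow_right (by norm_num) (by omega)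
    omega
  have ha4 : a ≤ 4 := by
    by_contra h'
    exact h32 (le_trans (by norm_num : 32 ≤ 2 ^ 5) (Nat.pow_le_pow_right (by norm_num) (by omega)))
  have ha : a = 4 := by
    by_contra h'
    have : a = 3 := by omega
    subst this
    have hAeq : A = XX := Subgroup.eq_of_le_of_card_ge hAX (by rw [hX2, hA8]; norm_num)
    exact hnab (hAeq ▸ hA)
  subst ha
  obtain ⟨x, y, hxy⟩ : ∃ x y : ↥XX, x * y ≠ y * x := by
    by_contra h'
    push Not at h'
    exact hnab ⟨⟨h'⟩⟩
  have hcomm2 : ∀ v : ↥XX, Subgroup.index (Subgroup.centralizer ({v} : Set ↥XX)) ≤ 2 := by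
    intro v
    let φ : ↥XX →* ↥(Subgroup.center ↥XX) :=
      { toFun := fun g => ⟨⁅g, v⁆, e2 ▸ Subgroup.commutator_mem_commutator (Subgroup.mem_top g) (Subgroup.mem_top v)⟩
        map_one' := Subtype.ext (commutatorElement_one_left v)
        map_mul' := fun g g' => Subtype.ext (by
          have hc : ⁅g', v⁆ ∈ Subgroup.center ↥XX :=
            e2 ▸ Subgroup.commutator_mem_commutator (Subgroup.mem_top g') (Subgroup.mem_top v)
          show ⁅g * g', v⁆ = ⁅g, v⁆ * ⁅g', v⁆
          calc ⁅g * g', v⁆ = (g * ⁅g', v⁆ * g⁻¹) * ⁅g, v⁆ := by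
                rw [commutatorElement_def, commutatorElement_def, commutatorElement_def]; group
            _ = ⁅g', v⁆ * ⁅g, v⁆ := by rw [Subgroup.mem_center_iff.1 hc g, mul_inv_cancel_right]
            _ = _ := (Subgroup.mem_center_iff.1 hc _).symm) }
    have hker : φ.ker = Subgroup.centralizer ({v} : Set ↥XX) := by
      ext g
      rw [MonoidHom.mem_ker, Subgroup.mem_centralizer_singleton_iff, ← commutatorElement_eq_one_iff_mul_comm]
      exact ⟨fun e => congrArg Subtype.val e, fun e => Subtype.ext e⟩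
    rw [← hker, Subgroup.index_ker]
    refine le_trans (Nat.le_of_dvd Nat.card_pos (Subgroup.card_subgroup_dvd_card _)) ?_
    rw [hZcard, h2]
  set C := Subgroup.centralizer ({x} : Set ↥XX) ⊓ Subgroup.centralizer ({y} : Set ↥XX) with hCdef
  have hCi : C.index ≤ 4 := Subgroup.index_inf_le.trans (Nat.mul_le_mul (hcomm2 x) (hcomm2 y))
  have hCcard : 4 ≤ Nat.card ↥C := by
    have := C.card_mul_index
    rw [hX2] at this
    have h16 : Nat.card ↥C * C.index = 16 := by rw [this]; norm_num
    nlinarith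
  obtain ⟨w, hwC, hwZ⟩ : ∃ w, w ∈ C ∧ w ∉ Subgroup.center ↥XX := by
    by_contra h'
    push Not at h'
    have := Nat.le_of_dvd Nat.card_pos (Subgroup.card_dvd_of_le (fun w hw => h' w hw : C ≤ Subgroup.center ↥XX))
    rw [hZcard, h2] at this
    omega
  -- `w` commutes with a generating set
  set Cw := Subgroup.centralizer ({w} : Set ↥XX) with hCw
  have hxw : x ∈ Cw := Subgroup.mem_centralizer_singleton_iff.2
    (Subgroup.mem_centralizer_singleton_iff.1 hwC.1).symm
  have hyw : y ∈ Cw := Subgroup.mem_centralizer_singleton_iff.2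
    (Subgroup.mem_centralizer_singleton_iff.1 hwC.2).symm
  set U := Subgroup.center ↥XX ⊔ Subgroup.zpowers w with hU
  have hUCw : U ≤ Cw := sup_le (Subgroup.center_le_centralizer _)
    ((Subgroup.zpowers_le).2 (Subgroup.mem_centralizer_singleton_iff.2 rfl))
  have hUx : ∀ v ∈ U, x * v = v * x ∧ y * v = v * y := by
    have hle : U ≤ C := sup_le (le_inf (Subgroup.center_le_centralizer _) (Subgroup.center_le_centralizer _))
      ((Subgroup.zpowers_le).2 hwC)
    intro v hv
    exact ⟨(Subgroup.mem_centralizer_singleton_iff.1 (hle hv).1).symm,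
      (Subgroup.mem_centralizer_singleton_iff.1 (hle hv).2).symm⟩
  -- the chain `U < U⟨x⟩ < U⟨x, y⟩` fills everything
  have hxU : x ∉ U := fun hx => hxy (hUx x hx).2.symm
  have hyUx : y ∉ U ⊔ Subgroup.zpowers x := by
    intro hy
    have hle : U ⊔ Subgroup.zpowers x ≤ Subgroup.centralizer ({x} : Set ↥XX) :=
      sup_le (fun v hv => Subgroup.mem_centralizer_singleton_iff.2 (hUx v hv).1.symm)
        ((Subgroup.zpowers_le).2 (Subgroup.mem_centralizer_singleton_iff.2 rfl))
    exact hxy (Subgroup.mem_centralizer_singleton_iff.1 (hle hy)).symm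
  have step : ∀ K L : Subgroup ↥XX, K < L → 2 * Nat.card ↥K ≤ Nat.card ↥L := by
    intro K L hKL
    obtain ⟨d, hd⟩ := Subgroup.card_dvd_of_le hKL.le
    rw [hd, mul_comm 2]
    refine Nat.mul_le_mul_left _ ?_
    by_contra h'
    rcases (show d = 0 ∨ d = 1 by omega) with rfl | rfl
    · rw [mul_zero] at hd; exact absurd hd Nat.card_pos.ne'
    · exact hKL.ne (Subgroup.eq_of_le_of_card_ge hKL.le (by rw [hd, mul_one]))
  have s1 := step _ U (lt_of_le_of_ne le_sup_left fun e => hwZ
    (e ▸ Subgroup.mem_sup_right (Subgroup.mem_zpowers w)))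
  have s2 := step U (U ⊔ Subgroup.zpowers x) (lt_of_le_of_ne le_sup_left fun e => hxU
    (e ▸ Subgroup.mem_sup_right (Subgroup.mem_zpowers x)))
  have s3 := step _ (U ⊔ Subgroup.zpowers x ⊔ Subgroup.zpowers y) (lt_of_le_of_ne le_sup_left fun e => hyUx
    (e ▸ Subgroup.mem_sup_right (Subgroup.mem_zpowers y)))
  have htop : U ⊔ Subgroup.zpowers x ⊔ Subgroup.zpowers y = ⊤ := by
    refine Subgroup.eq_top_of_card_eq _ (le_antisymm (Subgroup.card_le_card_group _) ?_)
    rw [hX2]
    rw [hZcard, h2] at s1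
    norm_num
    omega
  apply hwZ
  rw [Subgroup.mem_center_iff]
  intro v
  have hv : v ∈ Cw := (sup_le (sup_le hUCw ((Subgroup.zpowers_le).2 hxw)) ((Subgroup.zpowers_le).2 hyw))
    (htop ▸ Subgroup.mem_top v)
  exact Subgroup.mem_centralizer_singleton_iff.1 hv

/-- Let S be a finite solvable group with O_{2'}(S) = 1 that contains a non-cyclic abelian subgroup of order 8, while no proper subgroup of S of 2-power index contains one. Then a Sylow 2-subgroup X of S is normal in S, and one of the following holds: X is abelian; X is extraspecial of order at least 32; X has a generalized quaternion subgroup X₀ of index 2 with X = X₀·C_X(X₀); or X is special with centre of order 4. -/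
theorem result {S : Type*} [Group S] [Finite S]
    [Group.IsSolvable S] (hO : Cfsg.pPrimeCore 2 S = ⊥)
    (h8 : ∃ A : Subgroup S, IsMulCommutative ↥A ∧ ¬ IsCyclic ↥A ∧ Nat.card ↥A = 8)
    (hmin : ∀ R : Subgroup S, R ≠ ⊤ → (∃ k : ℕ, R.index = 2 ^ k) →
      ¬ ∃ A : Subgroup S, A ≤ R ∧ IsMulCommutative ↥A ∧ ¬ IsCyclic ↥A ∧ Nat.card ↥A = 8)
    (X : Sylow 2 S) :
    (X : Subgroup S).Normal ∧
      (IsMulCommutative ↥X ∨
        (Cfsg.IsExtraspecial 2 ↥X ∧ 32 ≤ Nat.card ↥X) ∨
        (∃ (X₀ : Subgroup S) (k : ℕ), X₀ ≤ (X : Subgroup S) ∧ X₀.relIndex (X : Subgroup S) = 2 ∧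
          Nonempty (↥X₀ ≃* QuaternionGroup (2 ^ (k + 1))) ∧ X₀ ⊔ ((X : Subgroup S) ⊓ Subgroup.centralizer (X₀ : Set S)) = (X : Subgroup S)) ∨
        (Cfsg.IsSpecial 2 ↥X ∧ Nat.card ↥(Subgroup.center ↥X) = 4)) := by
  classical
  have : Fact (Nat.Prime 2) := ⟨Nat.prime_two⟩
  obtain ⟨A, hA, hAc, hA8⟩ := h8
  obtain ⟨a, m, hm, hcard⟩ := Nat.exists_eq_pow_mul_and_not_dvd (n := Nat.card S) Nat.card_pos.ne' 2 (by norm_num)
  have hmodd : Odd m := Nat.not_even_iff_odd.1 fun h => hm (even_iff_two_dvd.1 h)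
  have hco : m.Coprime (2 ^ a) := ((Nat.coprime_two_left.2 hmodd).pow_left a).symm
  obtain ⟨H, hH⟩ := Solv.hall_exists (G := S) inferInstance (m := m) (n := 2 ^ a) (by rw [hcard, mul_comm]) hco
  obtain ⟨hXn, hCX⟩ := part1 hmin hO hcard hmodd hH hA hAc hA8 X
  have := hXn
  refine ⟨hXn, ?_⟩
  by_cases hab : IsMulCommutative ↥(X : Subgroup S)
  · exact Or.inl hab
  right
  have hX2 : Nat.card ↥(X : Subgroup S) = 2 ^ a := by
    rw [Sylow.card_eq_multiplicity X, hcard, Nat.factorization_mul (pow_ne_zero a two_ne_zero)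
      hmodd.pos.ne', Finsupp.add_apply, Nat.prime_two.factorization_pow, Finsupp.single_eq_same,
      Nat.factorization_eq_zero_of_not_dvd hm, add_zero]
  have hAX : A ≤ (X : Subgroup S) := by
    obtain ⟨Q, hQ⟩ := (IsPGroup.of_card (p := 2) (n := 3) (by rw [hA8]; norm_num) : IsPGroup 2 ↥A).exists_le_sylow
    obtain ⟨g, hg⟩ := MulAction.exists_smul_eq S X Q
    rw [Sylow.smul_eq_of_normal] at hg
    exact hg ▸ hQ
  by_cases hY : ⁅(X : Subgroup S), H⁆ = (X : Subgroup S)
  · rcases case_full hmin hcard hmodd hH X hX2 hAX hA hA8 hab hY with h | h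
    · exact Or.inl h
    · exact Or.inr (Or.inr h)
  · exact Or.inr (Or.inl (case_proper hmin hcard hmodd hH X hX2 hCX hAX hA hAc hA8 hab hY))

end Cfsg.Agent.S4409
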