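import Cfsg.Prelude.Def_Solvable
import Cfsg.Agent.Lib.Solv.Cores
import Mathlib

/-!
# An element of order four with two large Jordan blocks

If `(P-1)²` has rank one then `t = P²` is a transvection; two of its commutators with an odd core generate
a `q`-group acting faithfully on three dimensions, hence the same subgroup of order 3, which `P` normalises.
-/

set_option autoImplicit false
open Cfsg

namespace Cfsg.Agent.S4410

universe u

variable {V : Type u} [AddCommGroup V] [Module (ZMod 2) V] [Finite V]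

theorem add_self_eq (x : V) : x + x = 0 := by
  have h : (1 : ZMod 2) + 1 = 0 := by decide
  have h2 : ((1 : ZMod 2) + 1) • x = x + x := by rw [add_smul, one_smul]
  rw [← h2, h, zero_smul]

/-- A subgroup of odd order moving every vector inside `U` acts faithfully on `U`. -/
theorem card_dvd (X : Subgroup (V ≃ₗ[ZMod 2] V)) (hodd : Odd (Nat.card X)) (U : Submodule (ZMod 2) V)
    (hU : ∀ g ∈ X, ∀ v : V, g v + v ∈ U) :
    Nat.card X ∣ ∏ i : Fin (Module.finrank (ZMod 2) U), (2 ^ Module.finrank (ZMod 2) U - 2 ^ (i : ℕ)) := by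
  haveI : FiniteDimensional (ZMod 2) V := Module.Finite.of_finite
  have hstab : ∀ g ∈ X, ∀ u ∈ U, g u ∈ U := fun g hg u hu => by
    have := U.add_mem (hU g hg u) hu
    rwa [add_assoc, add_self_eq, add_zero] at this
  let σ : X →* (U →ₗ[ZMod 2] U) :=
    { toFun := fun g => ((g : V ≃ₗ[ZMod 2] V) : V →ₗ[ZMod 2] V).restrict (hstab g g.2)
      map_one' := rfl
      map_mul' := fun _ _ => rfl }
  have hinj : Function.Injective σ.toHomUnits := by
    rw [← MonoidHom.ker_eq_bot_iff, eq_bot_iff]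
    intro g hg
    have hgu : σ g = 1 := congrArg Units.val (MonoidHom.mem_ker.1 hg)
    have hfix : ∀ u ∈ U, (g : V ≃ₗ[ZMod 2] V) u = u := fun u hu =>
      congrArg Subtype.val (LinearMap.congr_fun hgu (⟨u, hu⟩ : U))
    have h2 : g ^ 2 = 1 := by
      refine Subtype.ext (LinearEquiv.ext fun v => ?_)
      rw [pow_two]
      show (g : V ≃ₗ[ZMod 2] V) ((g : V ≃ₗ[ZMod 2] V) v) = v
      have h1 := hfix _ (hU g g.2 v)
      rw [map_add] at h1
      have h2 : (g : V ≃ₗ[ZMod 2] V) ((g : V ≃ₗ[ZMod 2] V) v) + (g : V ≃ₗ[ZMod 2] V) v =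
          v + (g : V ≃ₗ[ZMod 2] V) v := h1.trans (add_comm _ _)
      exact add_right_cancel h2
    rw [Subgroup.mem_bot, ← orderOf_eq_one_iff]
    exact Nat.eq_one_of_dvd_coprimes (Nat.coprime_two_right.2 hodd) (orderOf_dvd_natCard g)
      (orderOf_dvd_of_pow_eq_one h2)
  have h1 := Subgroup.card_dvd_of_injective σ.toHomUnits hinj
  have h2 : Nat.card (U →ₗ[ZMod 2] U)ˣ =
      ∏ i : Fin (Module.finrank (ZMod 2) U), (2 ^ Module.finrank (ZMod 2) U - 2 ^ (i : ℕ)) := by
    have h3 := Nat.card_congr (Matrix.GeneralLinearGroup.toLin' (Module.finBasis (ZMod 2) U)).toEquiv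
    rw [Matrix.card_GL_field, ZMod.card] at h3
    exact h3.symm
  rwa [h2] at h1

/-- Let V be a finite-dimensional vector space over the field with two elements and S a solvable group of linear automorphisms of V with O₂(S) = 1. If P ∈ S has order 4 and (P − 1)³ = 0 on V, then the image of (P − 1)² has at least 4 elements; equivalently, in the decomposition of V into indecomposable modules for the cyclic group generated by P, at least two summands have dimension 3. -/
theorem result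
    {V : Type*} [AddCommGroup V] [Module (ZMod 2) V] [Finite V]
    (S : Subgroup (V ≃ₗ[ZMod 2] V)) (hS : Group.IsSolvable ↥S) (hO2 : Cfsg.pCore 2 ↥S = ⊥)
    (P : V ≃ₗ[ZMod 2] V) (hPS : P ∈ S) (hP4 : orderOf P = 4)
    (hcub : ((P : V →ₗ[ZMod 2] V) - LinearMap.id) ^ 3 = 0) :
    4 ≤ Nat.card ↥(LinearMap.range (((P : V →ₗ[ZMod 2] V) - LinearMap.id) ^ 2)) := by
  classical
  haveI : FiniteDimensional (ZMod 2) V := Module.Finite.of_finite
  haveI : Finite (V ≃ₗ[ZMod 2] V) := Finite.of_injective (fun e => (e : V → V)) DFunLike.coe_injective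
  set D : V →ₗ[ZMod 2] V := (P : V →ₗ[ZMod 2] V) - LinearMap.id with hD
  by_contra hlt
  push Not at hlt
  set t : V ≃ₗ[ZMod 2] V := P ^ 2 with ht
  set I : Submodule (ZMod 2) V := LinearMap.range (D ^ 2) with hI
  have htI : ∀ v, t v + v = (D ^ 2) v := fun v => by
    rw [ht, pow_two, pow_two]
    show P (P v) + v = (P (P v - v)) - (P v - v)
    rw [map_sub, show P (P v) - P v - (P v - v) = P (P v) + v - (P v + P v) by abel, add_self_eq, sub_zero]
  have hmemI : ∀ v, t v + v ∈ I := fun v => htI v ▸ LinearMap.mem_range_self _ v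
  have ht2 : t * t = 1 := by rw [ht, ← pow_add, show 2 + 2 = orderOf P by rw [hP4], pow_orderOf_eq_one]
  have ht1 : t ≠ 1 := fun h => by
    have := orderOf_dvd_of_pow_eq_one h
    rw [hP4] at this
    norm_num at this
  have hI1 : Module.finrank (ZMod 2) I ≤ 1 := by
    have h1 : Nat.card I = 2 ^ Module.finrank (ZMod 2) I := by
      rw [Module.natCard_eq_pow_finrank (K := ZMod 2), Nat.card_zmod]
    by_contra h
    have h2 : 2 ^ 2 ≤ 2 ^ Module.finrank (ZMod 2) I := Nat.pow_le_pow_right (by norm_num) (by omega)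
    omega
  have htS : t ∈ S := pow_mem hPS 2
  have hcore : ∃ q : Nat.Primes, ∃ y ∈ Cfsg.pCore (q : ℕ) S, (⟨t, htS⟩ : S) * y ≠ y * ⟨t, htS⟩ := by
    by_contra h
    push Not at h
    have h1 : (⟨t, htS⟩ : S) ∈ Subgroup.centralizer (Cfsg.fittingSubgroup S : Set S) := by
      rw [Subgroup.mem_centralizer_iff]
      intro y hy
      have hle : Cfsg.fittingSubgroup S ≤ Subgroup.centralizer {(⟨t, htS⟩ : S)} := by
        rw [Solv.fitting_eq_iSup_pCore]
        exact iSup_le fun q z hz => Subgroup.mem_centralizer_singleton_iff.2 (h q z hz).symm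
      exact Subgroup.mem_centralizer_singleton_iff.1 (hle hy)
    have h2 := Solv.centralizer_fitting_le hS h1
    have hodd : Odd (Nat.card (Cfsg.fittingSubgroup S)) := by
      rw [← Nat.coprime_two_right]
      refine Nat.coprime_comm.1 ((Nat.prime_two.coprime_iff_not_dvd).2 fun hd => ?_)
      haveI : Fact (Nat.Prime 2) := ⟨Nat.prime_two⟩
      obtain ⟨Z⟩ : Nonempty (Sylow 2 (Cfsg.fittingSubgroup S)) := inferInstance
      haveI := Solv.fittingSubgroup_normal (G := S)
      haveI := Solv.fittingSubgroup_nilpotent (G := S)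
      haveI : (Z : Subgroup (Cfsg.fittingSubgroup S)).Normal := Z.normal_of_normalizerCondition Group.normalizerCondition_of_isNilpotent
      haveI := Z.characteristic_of_normal inferInstance
      haveI : ((Z : Subgroup (Cfsg.fittingSubgroup S)).map (Cfsg.fittingSubgroup S).subtype).Normal :=
        ConjAct.normal_of_characteristic_of_normal
      have h3 := Solv.normal_le_pCore (p := 2) (N := (Z : Subgroup (Cfsg.fittingSubgroup S)).map (Cfsg.fittingSubgroup S).subtype)
        (Z.isPGroup'.map _)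
      rw [hO2, le_bot_iff, Subgroup.map_eq_bot_iff_of_injective _ (Subgroup.subtype_injective _)] at h3
      exact Z.ne_bot_of_dvd_card hd h3
    have h4 : orderOf (⟨⟨t, htS⟩, h2⟩ : Cfsg.fittingSubgroup S) = 1 :=
      Nat.eq_one_of_dvd_coprimes (Nat.coprime_two_right.2 hodd) (orderOf_dvd_natCard _)
        (orderOf_dvd_of_pow_eq_one (Subtype.ext (Subtype.ext (by simpa [pow_two] using ht2))))
    exact ht1 (congrArg Subtype.val (congrArg Subtype.val (orderOf_eq_one_iff.1 h4)))
  obtain ⟨⟨q, hq⟩, y, hy, hne⟩ := hcore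
  haveI : Fact q.Prime := ⟨hq⟩
  set Q : Subgroup S := Cfsg.pCore q S with hQ
  have hQn : Q.Normal := Solv.pCore_normal q
  have hq2 : q ≠ 2 := fun h => by
    subst h
    rw [hQ, hO2, Subgroup.mem_bot] at hy
    exact hne (by rw [hy]; simp)
  have hQodd : ∀ Z : Subgroup S, Z ≤ Q → Odd (Nat.card Z) := fun Z hZ => by
    obtain ⟨k, hk⟩ := IsPGroup.iff_card.1 ((Solv.pCore_isPGroup (G := S) q).to_le hZ)
    rw [hk]
    exact (hq.odd_of_ne_two hq2).pow
  set T : S := ⟨t, htS⟩ with hT
  have hT2 : T * T = 1 := Subtype.ext ht2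
  let com : S → S := fun z => T * z * T⁻¹ * z⁻¹
  have hcomQ : ∀ z ∈ Q, com z ∈ Q := fun z hz => mul_mem (hQn.conj_mem z hz T) (inv_mem hz)
  let ctr : S → Submodule (ZMod 2) V := fun z => I.map ((z : V ≃ₗ[ZMod 2] V) : V →ₗ[ZMod 2] V)
  have hTinv : T⁻¹ = T := inv_eq_of_mul_eq_one_right hT2
  have hmove : ∀ (z : S) (v : V), ((com z : S) : V ≃ₗ[ZMod 2] V) v + v ∈ I ⊔ ctr z := by
    intro z v
    set w : V := (z : V ≃ₗ[ZMod 2] V) (t ((z : V ≃ₗ[ZMod 2] V)⁻¹ v)) with hw
    have h1 : ((com z : S) : V ≃ₗ[ZMod 2] V) v = t w := by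
      show ((T * z * T⁻¹ * z⁻¹ : S) : V ≃ₗ[ZMod 2] V) v = _
      rw [hTinv]; rfl
    have h2 : w + v ∈ ctr z := ⟨t ((z : V ≃ₗ[ZMod 2] V)⁻¹ v) + (z : V ≃ₗ[ZMod 2] V)⁻¹ v, hmemI _, by
      show (z : V ≃ₗ[ZMod 2] V) _ = _
      rw [map_add, ← hw]
      congr 1
      exact (z : V ≃ₗ[ZMod 2] V).apply_symm_apply v⟩
    have h3 : t w + v = (t w + w) + (w + v) := by
      rw [show t w + w + (w + v) = t w + v + (w + w) by abel, add_self_eq, add_zero]
    rw [h1, h3]
    exact Submodule.add_mem_sup (hmemI w) h2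
  -- a group generated by two commutators
  have hpair : ∀ z1 ∈ Q, ∀ z2 ∈ Q, com z1 ≠ 1 → com z2 ∈ Subgroup.zpowers (com z1) ∧ orderOf (com z1) = 3 := by
    intro z1 hz1 z2 hz2 h1
    set U := I ⊔ ctr z1 ⊔ ctr z2 with hU
    have hU3 : Module.finrank (ZMod 2) U ≤ 3 := by
      have e1 := Submodule.finrank_add_le_finrank_add_finrank (I ⊔ ctr z1) (ctr z2)
      rw [← hU] at e1
      have e2 := Submodule.finrank_add_le_finrank_add_finrank I (ctr z1)
      have e3 : ∀ z, Module.finrank (ZMod 2) (ctr z) ≤ 1 := fun z => (Submodule.finrank_map_le _ _).trans hI1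
      have := e3 z1
      have := e3 z2
      omega
    let Z : Subgroup S := Subgroup.closure {com z1, com z2}
    have hZQ : Z ≤ Q := (Subgroup.closure_le _).2 (by rintro z (rfl | rfl) <;> [exact hcomQ z1 hz1; exact hcomQ z2 hz2])
    have hmoveZ : ∀ g ∈ Z, ∀ v : V, ((g : S) : V ≃ₗ[ZMod 2] V) v + v ∈ U := by
      intro g hg
      induction hg using Subgroup.closure_induction with
      | mem x hx =>
        intro v
        rcases hx with rfl | rfl
        · exact (le_sup_left : I ⊔ ctr z1 ≤ U) (hmove z1 v)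
        · exact (sup_le (le_sup_left.trans le_sup_left) le_sup_right : I ⊔ ctr z2 ≤ U) (hmove z2 v)
      | one => intro v; simp [add_self_eq]
      | mul a b _ _ ha hb =>
        intro v
        have h := U.add_mem (ha ((b : V ≃ₗ[ZMod 2] V) v)) (hb v)
        show (a : V ≃ₗ[ZMod 2] V) ((b : V ≃ₗ[ZMod 2] V) v) + v ∈ U
        rwa [show (a : V ≃ₗ[ZMod 2] V) ((b : V ≃ₗ[ZMod 2] V) v) + (b : V ≃ₗ[ZMod 2] V) v + ((b : V ≃ₗ[ZMod 2] V) v + v) =
          (a : V ≃ₗ[ZMod 2] V) ((b : V ≃ₗ[ZMod 2] V) v) + v + ((b : V ≃ₗ[ZMod 2] V) v + (b : V ≃ₗ[ZMod 2] V) v) by abel,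
          add_self_eq, add_zero] at h
      | inv a _ ha =>
        intro v
        have h := ha ((a : V ≃ₗ[ZMod 2] V)⁻¹ v)
        show (a : V ≃ₗ[ZMod 2] V)⁻¹ v + v ∈ U
        rw [add_comm] at h
        convert h using 2
        exact ((a : V ≃ₗ[ZMod 2] V).apply_symm_apply v).symm
    have hdvd := card_dvd (Z.map S.subtype) (by
        rw [Subgroup.card_map_of_injective S.subtype_injective]; exact hQodd Z hZQ) U (by
        rintro _ ⟨g, hg, rfl⟩ v; exact hmoveZ g hg v)
    rw [Subgroup.card_map_of_injective S.subtype_injective] at hdvd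
    have hc1 : com z1 ∈ Z := Subgroup.subset_closure (Set.mem_insert _ _)
    have hne1 : Nat.card Z ≠ 1 := fun h => h1 (by
      have h' := Subgroup.card_eq_one.1 h
      rwa [h', Subgroup.mem_bot] at hc1)
    -- the order of `com z1` alone
    have hdvd1 := card_dvd ((Subgroup.zpowers (com z1)).map S.subtype) (by
        rw [Subgroup.card_map_of_injective S.subtype_injective]
        exact hQodd _ (Subgroup.zpowers_le.2 (hcomQ z1 hz1))) (I ⊔ ctr z1) (by
      rintro _ ⟨g, hg, rfl⟩ v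
      have hle : Subgroup.zpowers (com z1) ≤
          { carrier := {g : S | ∀ v : V, (g : V ≃ₗ[ZMod 2] V) v + v ∈ I ⊔ ctr z1}
            one_mem' := fun v => by simp [add_self_eq]
            mul_mem' := fun {a b} ha hb v => by
              have h := (I ⊔ ctr z1).add_mem (ha ((b : V ≃ₗ[ZMod 2] V) v)) (hb v)
              show (a : V ≃ₗ[ZMod 2] V) ((b : V ≃ₗ[ZMod 2] V) v) + v ∈ I ⊔ ctr z1
              rwa [show (a : V ≃ₗ[ZMod 2] V) ((b : V ≃ₗ[ZMod 2] V) v) + (b : V ≃ₗ[ZMod 2] V) v + ((b : V ≃ₗ[ZMod 2] V) v + v) =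
                (a : V ≃ₗ[ZMod 2] V) ((b : V ≃ₗ[ZMod 2] V) v) + v + ((b : V ≃ₗ[ZMod 2] V) v + (b : V ≃ₗ[ZMod 2] V) v) by abel,
                add_self_eq, add_zero] at h
            inv_mem' := fun {a} ha v => by
              have h := ha ((a : V ≃ₗ[ZMod 2] V)⁻¹ v)
              show (a : V ≃ₗ[ZMod 2] V)⁻¹ v + v ∈ I ⊔ ctr z1
              rw [add_comm] at h
              convert h using 2
              exact ((a : V ≃ₗ[ZMod 2] V).apply_symm_apply v).symm } := Subgroup.zpowers_le.2 (hmove z1)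
      exact hle hg v)
    rw [Subgroup.card_map_of_injective S.subtype_injective, Nat.card_zpowers] at hdvd1
    have hU2 : Module.finrank (ZMod 2) (I ⊔ ctr z1 : Submodule (ZMod 2) V) ≤ 2 := by
      have e2 := Submodule.finrank_add_le_finrank_add_finrank I (ctr z1)
      have : Module.finrank (ZMod 2) (ctr z1) ≤ 1 := (Submodule.finrank_map_le _ _).trans hI1
      omega
    obtain ⟨j, hj⟩ := IsPGroup.iff_card.1 ((Solv.pCore_isPGroup (G := S) q).to_le hZQ)
    have ho : orderOf (com z1) ∣ q ^ j := hj ▸ (by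
      rw [← Nat.card_zpowers]; exact Subgroup.card_dvd_of_le (Subgroup.zpowers_le.2 hc1))
    obtain ⟨i, -, hi⟩ := (Nat.dvd_prime_pow hq).1 ho
    have hi1 : i ≠ 0 := fun h => h1 (orderOf_eq_one_iff.1 (by rw [hi, h, pow_zero]))
    have hq3 : q = 3 := by
      have hqd : q ∣ orderOf (com z1) := hi ▸ dvd_pow_self q hi1
      have h6 : q ∣ 6 := by
        refine hqd.trans (hdvd1.trans ?_)
        generalize Module.finrank (ZMod 2) (I ⊔ ctr z1 : Submodule (ZMod 2) V) = m at hU2
        interval_cases m <;> decide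
      have := Nat.le_of_dvd (by norm_num) h6
      have h7 := hq.two_le
      interval_cases q <;> first | rfl | omega | (norm_num at hq) | (norm_num at h6)
    subst hq3
    have hZ3 : Nat.card Z = 3 := by
      have h168 : Nat.card Z ∣ 168 := by
        refine hdvd.trans ?_
        generalize Module.finrank (ZMod 2) U = m at hU3
        interval_cases m <;> decide
      rw [hj] at h168 hne1 ⊢
      rcases j with _ | _ | j
      · exact absurd rfl hne1
      · norm_num
      · exfalso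
        have : 9 ∣ 168 := (pow_dvd_pow 3 (show 2 ≤ j + 2 by omega)).trans h168
        norm_num at this
    have heq : Subgroup.zpowers (com z1) = Z := Subgroup.eq_of_le_of_card_ge (Subgroup.zpowers_le.2 hc1) (by
      rw [hZ3, Nat.card_zpowers, hi]
      exact Nat.le_of_dvd (pow_pos (by norm_num) _) (dvd_pow_self 3 hi1))
    refine ⟨heq ▸ Subgroup.subset_closure (Set.mem_insert_of_mem _ rfl), ?_⟩
    rw [← Nat.card_zpowers, heq, hZ3]
  -- `P` normalises the line, so its square centralises it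
  set x := com y with hx
  have hx1 : x ≠ 1 := fun h => hne (by
    have h' : T * y * T⁻¹ * y⁻¹ = 1 := h
    rw [mul_inv_eq_one, mul_inv_eq_iff_eq_mul] at h'
    exact h')
  set P' : S := ⟨P, hPS⟩ with hP'
  have hTP : T = P' * P' := Subtype.ext (ht.trans (pow_two P))
  have hconj : P' * x * P'⁻¹ = com (P' * y * P'⁻¹) := by
    show P' * (T * y * T⁻¹ * y⁻¹) * P'⁻¹ = T * (P' * y * P'⁻¹) * T⁻¹ * (P' * y * P'⁻¹)⁻¹
    rw [hTP]; group
  obtain ⟨hmem, ho3⟩ := hpair y hy (P' * y * P'⁻¹) (hQn.conj_mem y hy P') hx1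
  rw [← hconj, Subgroup.mem_zpowers_iff] at hmem
  obtain ⟨i, hi⟩ := hmem
  have hTx : T * x * T⁻¹ = x⁻¹ := by
    show T * (T * y * T⁻¹ * y⁻¹) * T⁻¹ = (T * y * T⁻¹ * y⁻¹)⁻¹
    rw [mul_inv_rev, mul_inv_rev, mul_inv_rev, inv_inv, inv_inv, hTinv,
      show T * (T * y * T * y⁻¹) * T = (T * T) * (y * T * y⁻¹) * T by group, hT2, one_mul]
    group
  have h2 : T * x * T⁻¹ = x ^ (i * i) := by
    rw [zpow_mul, hi, conj_zpow, hi, hTP]; group
  have hsq : x ^ (i * i) = x := by
    have hmod : ∀ k : ℤ, x ^ k = x ^ (k % 3) := fun k => by rw [← zpow_mod_orderOf, ho3]; rfl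
    have hi3 : i % 3 ≠ 0 := fun h => hx1 (by
      rw [hmod, h, zpow_zero] at hi
      exact conj_eq_one_iff.1 hi.symm)
    rw [hmod, Int.mul_emod]
    rcases (show i % 3 = 1 ∨ i % 3 = 2 by omega) with h | h <;> rw [h] <;> norm_num
  rw [hsq, hTx] at h2
  have hxx : x ^ 2 = 1 := by rw [pow_two]; exact inv_eq_iff_mul_eq_one.1 h2
  have := orderOf_dvd_of_pow_eq_one hxx
  rw [ho3] at this
  norm_num at this

end Cfsg.Agent.S4410
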