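import Cfsg.Statements.S4412
import Cfsg.Agent.Lib.Perm.NilpFrattini
import Cfsg.Agent.Lib.Solv.Symplectic

set_option autoImplicit false
open Cfsg
open scoped commutatorElement

namespace Cfsg.Agent.S4412

/-- The fixed points of `t` form a cyclic subgroup. -/
def Cyc {P : Type*} [Group P] (t : MulAut P) : Prop :=
  ∃ g : P, ∀ x : P, (t x = x ↔ x ∈ Subgroup.zpowers g)

/-- `x` or `x⁻¹`. -/
def sg {P : Type*} [Group P] (i : Bool) (x : P) : P := if i then x else x⁻¹

section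
variable {P : Type*} [Group P]

theorem exists_half (hodd : Odd (Nat.card P)) (n : P) : ∃ k : ℕ, (n ^ k) ^ 2 = n := by
  obtain ⟨m, hm⟩ := hodd
  refine ⟨m + 1, ?_⟩
  rw [← pow_mul, show (m + 1) * 2 = Nat.card P + 1 by omega, pow_succ, pow_card_eq_one', one_mul]

theorem eq_one_of_inv (hodd : Odd (Nat.card P)) {x : P} (h : x⁻¹ = x) : x = 1 := by
  obtain ⟨k, hk⟩ := exists_half hodd x
  have h2 : x ^ 2 = 1 := by rw [pow_two]; exact inv_eq_iff_mul_eq_one.1 h
  rw [← hk, ← pow_mul, mul_comm, pow_mul, h2, one_pow]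

theorem lift (hodd : Odd (Nat.card P)) (t : MulAut P) (ht : ∀ x, t (t x) = x) (N : Subgroup P)
    {x : P} (hx : x⁻¹ * t x ∈ N) : ∃ y, t y = y ∧ x⁻¹ * y ∈ N := by
  set n := x⁻¹ * t x with hndef
  have hn : t n = n⁻¹ := by simp [hndef, map_mul, map_inv, ht]
  have hnx : t x = x * n := by simp [hndef]
  obtain ⟨k, hk⟩ := exists_half hodd n
  refine ⟨x * n ^ k, ?_, by rw [inv_mul_cancel_left]; exact N.pow_mem hx k⟩
  rw [map_mul, map_pow, hn, inv_pow, hnx, mul_assoc]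
  congr 1
  rw [mul_inv_eq_iff_eq_mul, ← pow_two]
  exact hk.symm

theorem sign {p : ℕ} (hp : p.Prime) (hp2 : p ≠ 2) (hP : IsPGroup p P) (t : MulAut P)
    (ht : ∀ x, t (t x) = x) {x : P} (hx : t x ∈ Subgroup.zpowers x) : t x = x ∨ t x = x⁻¹ := by
  obtain ⟨k, hk⟩ := Subgroup.mem_zpowers_iff.1 hx
  have hkk : x ^ (k * k) = x := by rw [zpow_mul, hk, ← map_zpow, hk, ht]
  obtain ⟨n, hn⟩ := hP x
  have hpp : Prime (p : ℤ) := Int.prime_iff_natAbs_prime.2 (by simpa using hp)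
  have h1 : x ^ ((k - 1) * (k + 1)) = 1 := by
    rw [show (k - 1) * (k + 1) = k * k - 1 by ring, zpow_sub, hkk, zpow_one, mul_inv_cancel]
  obtain ⟨β, -, hβ⟩ := (Nat.dvd_prime_pow hp).1 (orderOf_dvd_of_pow_eq_one hn)
  have h2 : ((p : ℤ) ^ β) ∣ (k - 1) * (k + 1) := by
    have := orderOf_dvd_iff_zpow_eq_one.2 h1
    rw [hβ] at this; exact_mod_cast this
  by_cases h : (p : ℤ) ∣ k - 1
  · have h' : ¬ (p : ℤ) ∣ k + 1 := fun h' => by
      have h3 : (p : ℤ) ∣ ((2 : ℕ) : ℤ) := by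
        have := dvd_sub h' h; rwa [show k + 1 - (k - 1) = ((2 : ℕ) : ℤ) by push_cast; ring] at this
      exact hp2 ((Nat.prime_dvd_prime_iff_eq hp Nat.prime_two).1 (Int.natCast_dvd_natCast.1 h3))
    left
    have := Prime.pow_dvd_of_dvd_mul_right hpp β h' h2
    have h4 : x ^ (k - 1) = 1 := orderOf_dvd_iff_zpow_eq_one.1 (by rw [hβ]; exact_mod_cast this)
    rw [← hk]
    calc x ^ k = x ^ (k - 1) * x := by rw [← zpow_add_one]; ring_nf
      _ = x := by rw [h4, one_mul]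
  · right
    have := Prime.pow_dvd_of_dvd_mul_left hpp β h h2
    have h4 : x ^ (k + 1) = 1 := orderOf_dvd_iff_zpow_eq_one.1 (by rw [hβ]; exact_mod_cast this)
    rw [← hk, eq_inv_iff_mul_eq_one, ← zpow_add_one, h4]

theorem sg_mul {s t : MulAut P} {x : P} {i j : Bool} (hs : s x = sg i x) (ht : t x = sg j x) :
    (s * t) x = sg (i == j) x := by
  rw [MulAut.mul_apply, ht]
  cases i <;> cases j <;> simp_all [sg]

/-- An odd order group is generated by the fixed points of a four group of automorphisms, up to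
any normal subgroup with abelian factor group. -/
theorem gen {A : Type*} [CommGroup A] (π : P →* A) 
    (hodd : Odd (Nat.card P)) (u v : MulAut P)
    (hu : ∀ x, u (u x) = x) (hv : ∀ x, v (v x) = x) (huv : ∀ x, u (v x) = v (u x))
    :
    Subgroup.closure {x : P | u x = x ∨ v x = x ∨ (u * v) x = x} ⊔ π.ker = ⊤ := by
  set S := {x : P | u x = x ∨ v x = x ∨ (u * v) x = x}
  set H := Subgroup.closure S
  have hfix : ∀ (t : MulAut P), (∀ x, t (t x) = x) → (∀ y, t y = y → y ∈ S) → ∀ a : P,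
      π (t a) = π a → a ∈ H ⊔ π.ker := by
    intro t ht hS a ha
    have : a⁻¹ * t a ∈ π.ker := by rw [MonoidHom.mem_ker, map_mul, map_inv, ha, inv_mul_cancel]
    obtain ⟨y, hy, hya⟩ := lift hodd t ht _ this
    have h1 : y ∈ H := Subgroup.subset_closure (hS y hy)
    have h2 : a = y * (a⁻¹ * y)⁻¹ := by group
    rw [h2]
    exact mul_mem (Subgroup.mem_sup_left h1) (inv_mem (Subgroup.mem_sup_right hya))
  refine eq_top_iff.2 fun x _ => ?_
  have hcomm : ∀ z : P, π (x * z) = π (z * x) := fun z => by rw [map_mul, map_mul, mul_comm]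
  have ha := hfix u hu (fun y hy => Or.inl hy) (x * u x)
    (by rw [map_mul u, hu, hcomm])
  have hb := hfix v hv (fun y hy => Or.inr (Or.inl hy)) (x * v x)
    (by rw [map_mul v, hv, hcomm])
  have hc := hfix (u * v) (fun z => by simp [MulAut.mul_apply, huv, hu, hv])
    (fun y hy => Or.inr (Or.inr hy)) (u x * v x)
    (by simp [MulAut.mul_apply, map_mul, ← huv, hu, hv, mul_comm])
  have hx2 : x ^ 2 ∈ H ⊔ π.ker := by
    have h1 := mul_mem (mul_mem ha hb) (inv_mem hc)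
    have h2 : (x * u x * (x * v x) * (u x * v x)⁻¹)⁻¹ * x ^ 2 ∈ π.ker := by
      rw [MonoidHom.mem_ker, map_mul, map_inv, inv_mul_eq_one]
      simp only [map_mul, map_inv, pow_two]
      rw [mul_mul_mul_comm, mul_inv_cancel_right]
    have := mul_mem h1 (Subgroup.mem_sup_right (S := H) h2)
    rwa [mul_inv_cancel_left] at this
  obtain ⟨k, hk⟩ := exists_half hodd x
  rw [← hk, ← pow_mul, mul_comm, pow_mul]
  exact pow_mem hx2 k

theorem comm_inv {Q : Type*} [Group Q] (a b : Q) (h : ∀ q, ⁅a, b⁆ * q = q * ⁅a, b⁆) :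
    ⁅a⁻¹, b⁆ = ⁅a, b⁆⁻¹ ∧ ⁅a⁻¹, b⁻¹⁆ = ⁅a, b⁆ := by
  constructor
  · have e : ⁅a⁻¹, b⁆ = a⁻¹ * ⁅a, b⁆⁻¹ * a := by simp only [commutatorElement_def]; group
    have hc : Commute ⁅a, b⁆ a⁻¹ := h _
    rw [e, hc.inv_left.symm.eq, inv_mul_cancel_right]
  · have e : ⁅a⁻¹, b⁻¹⁆ = (b * a)⁻¹ * ⁅a, b⁆ * (b * a) := by
      simp only [commutatorElement_def]; group
    rw [e, mul_assoc, h, inv_mul_cancel_left]

theorem comm_mem (hodd : Odd (Nat.card P)) (C : Subgroup P) [C.Normal]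
    (hC : ∀ q ∈ commutator P, ∀ g : P, ⁅q, g⁆ ∈ C) (a b c : P) (w e : MulAut P)
    (hw : ∀ x, w (w x) = x) (hwa : w a = a⁻¹) (hwb : w b = b⁻¹)
    (hwc : ∀ y, w y = y → y ∈ Subgroup.zpowers c)
    (hea : e a = a⁻¹) (heb : e b = b) (hec : e c = c) (heC : ∀ x ∈ C, e x ∈ C) : ⁅a, b⁆ ∈ C := by
  set π := QuotientGroup.mk' C
  have hπ : ∀ x y : P, π x = π y ↔ x⁻¹ * y ∈ C := fun x y => QuotientGroup.eq
  have hmem : ∀ x, π x = 1 ↔ x ∈ C := fun x => QuotientGroup.eq_one_iff x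
  set c0 := ⁅a, b⁆ with hc0
  have hcen : ∀ q, ⁅π a, π b⁆ * q = q * ⁅π a, π b⁆ := by
    intro q
    obtain ⟨g, rfl⟩ := QuotientGroup.mk'_surjective C q
    rw [← map_commutatorElement, ← commutatorElement_eq_one_iff_mul_comm, ← map_commutatorElement,
      hmem]
    exact hC _ (Subgroup.commutator_mem_commutator (Subgroup.mem_top a) (Subgroup.mem_top b)) g
  obtain ⟨hi1, hi2⟩ := comm_inv _ _ hcen
  have hwc0 : π c0 = π (w c0) := by
    rw [hc0, map_commutatorElement w, hwa, hwb, map_commutatorElement, map_commutatorElement,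
      map_inv, map_inv, hi2]
  obtain ⟨y, hy, hcy⟩ := lift hodd w hw C ((hπ _ _).1 hwc0)
  obtain ⟨k, rfl⟩ := Subgroup.mem_zpowers_iff.1 (hwc y hy)
  have hey : e (c ^ k) = c ^ k := by rw [map_zpow, hec]
  have h1 : π (e c0) = π (c ^ k) := by
    rw [hπ]; have := heC _ hcy; rwa [map_mul, map_inv, hey] at this
  have h2 : π (e c0) = (π c0)⁻¹ := by
    rw [hc0, map_commutatorElement e, hea, heb, map_commutatorElement, map_commutatorElement,
      map_inv, hi1]
  rw [h2, ← (hπ _ _).2 hcy] at h1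
  have h3 : c0 ^ 2 ∈ C := by
    rw [← hmem, map_pow, pow_two]; exact inv_eq_iff_mul_eq_one.1 h1
  obtain ⟨j, hj⟩ := exists_half hodd c0
  rw [← hj, ← pow_mul, mul_comm, pow_mul]
  exact pow_mem h3 j

theorem abelian [Group.IsNilpotent P] (a b c : P) (hgen : Subgroup.closure {a, b, c} = ⊤)
    (hab : ⁅a, b⁆ ∈ ⁅commutator P, (⊤ : Subgroup P)⁆)
    (hac : ⁅a, c⁆ ∈ ⁅commutator P, (⊤ : Subgroup P)⁆)
    (hbc : ⁅b, c⁆ ∈ ⁅commutator P, (⊤ : Subgroup P)⁆) : IsMulCommutative P := by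
  set C := ⁅commutator P, (⊤ : Subgroup P)⁆ with hC
  set π := QuotientGroup.mk' C
  have hmem : ∀ x, π x = 1 ↔ x ∈ C := fun x => QuotientGroup.eq_one_iff x
  have hco : ∀ {x y : P}, ⁅x, y⁆ ∈ C → π x * π y = π y * π x := fun {x y} h => by
    rw [← commutatorElement_eq_one_iff_mul_comm, ← map_commutatorElement, hmem]; exact h
  have hS : ∀ g ∈ ({a, b, c} : Set P), ∀ h ∈ ({a, b, c} : Set P), π g * π h = π h * π g := by
    simp only [Set.mem_insert_iff, Set.mem_singleton_iff]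
    rintro g (rfl | rfl | rfl) h (rfl | rfl | rfl) <;>
      first
      | rfl
      | exact hco hab
      | exact (hco hab).symm
      | exact hco hac
      | exact (hco hac).symm
      | exact hco hbc
      | exact (hco hbc).symm
  have h1 : ∀ g ∈ ({a, b, c} : Set P), ∀ y : P, π g * π y = π y * π g := by
    intro g hg y
    have hle : Subgroup.closure ({a, b, c} : Set P) ≤
        (Subgroup.centralizer ({π g} : Set (P ⧸ C))).comap π := (Subgroup.closure_le _).2 fun h hh => by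
      rw [SetLike.mem_coe, Subgroup.mem_comap, Subgroup.mem_centralizer_singleton_iff]
      exact (hS g hg h hh).symm
    have := hle (hgen ▸ Subgroup.mem_top y)
    rw [Subgroup.mem_comap, Subgroup.mem_centralizer_singleton_iff] at this
    exact this.symm
  have h2 : ∀ x y : P, π x * π y = π y * π x := by
    intro x y
    have hle : Subgroup.closure ({a, b, c} : Set P) ≤
        (Subgroup.center (P ⧸ C)).comap π := (Subgroup.closure_le _).2 fun h hh => by
      rw [SetLike.mem_coe, Subgroup.mem_comap, Subgroup.mem_center_iff]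
      intro q
      obtain ⟨z, rfl⟩ := QuotientGroup.mk'_surjective C q
      exact (h1 h hh z).symm
    exact (Subgroup.mem_center_iff.1 (hle (hgen ▸ Subgroup.mem_top x)) (π y)).symm
  have h3 : commutator P ≤ C := by
    rw [commutator_def, Subgroup.commutator_le]
    intro x _ y _
    rw [← hmem, map_commutatorElement, commutatorElement_eq_one_iff_mul_comm]
    exact h2 x y
  have h4 : ∀ n, commutator P ≤ (⊤ : Subgroup P).lowerCentralSeries (n + 1) := by
    intro n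
    induction n with
    | zero => exact le_of_eq (Subgroup.top_lowerCentralSeries_one).symm
    | succ n ih =>
      rw [Subgroup.lowerCentralSeries_succ]
      exact h3.trans (Subgroup.commutator_mono ih le_rfl)
  obtain ⟨n, hn⟩ := Subgroup.nilpotent_iff_lowerCentralSeries.1 ‹Group.IsNilpotent P›
  have h5 : commutator P = ⊥ := by
    refine le_bot_iff.1 ((h4 n).trans ?_)
    rw [Subgroup.lowerCentralSeries_succ, hn, Subgroup.commutator_bot_left]
  refine ⟨⟨fun x y => commutatorElement_eq_one_iff_mul_comm.1 ?_⟩⟩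
  rw [← Subgroup.mem_bot, ← h5, commutator_def]
  exact Subgroup.commutator_mem_commutator (Subgroup.mem_top x) (Subgroup.mem_top y)

theorem exists_order_p [Finite P] {p : ℕ} (hp : p.Prime) (hP : IsPGroup p P) {x : P} (hx : x ≠ 1) :
    ∃ z ∈ Subgroup.zpowers x, orderOf z = p := by
  obtain ⟨n, hn⟩ := hP x
  obtain ⟨β, -, hβ⟩ := (Nat.dvd_prime_pow hp).1 (orderOf_dvd_of_pow_eq_one hn)
  have hβ0 : β ≠ 0 := by rintro rfl; exact hx (orderOf_eq_one_iff.1 (by simpa using hβ))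
  haveI := Fact.mk hp
  obtain ⟨z, hz⟩ := exists_prime_orderOf_dvd_card' (G := Subgroup.zpowers x) p
    (by rw [Nat.card_zpowers, hβ]; exact dvd_pow_self p hβ0)
  exact ⟨z, z.2, by rw [Subgroup.orderOf_coe, hz]⟩

theorem not_cyc [Finite P] {p : ℕ} (hp : p.Prime) (hP : IsPGroup p P) (hodd : Odd (Nat.card P))
    (s t : MulAut P) {b c : P} (hsb : s b = b) (hsc : s c = c) (htb : t b = b) (htc : t c = c⁻¹)
    (hb : b ≠ 1) (hc : c ≠ 1) : ¬ Cyc s := by
  rintro ⟨g, hg⟩
  obtain ⟨z, hz, hzp⟩ := exists_order_p hp hP hb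
  obtain ⟨y, hy, hyp⟩ := exists_order_p hp hP hc
  obtain ⟨i, rfl⟩ := Subgroup.mem_zpowers_iff.1 hz
  obtain ⟨j, rfl⟩ := Subgroup.mem_zpowers_iff.1 hy
  have hz' := Subgroup.zpow_mem _ ((hg b).1 hsb) i
  have hy' := Subgroup.zpow_mem _ ((hg c).1 hsc) j
  haveI := Fact.mk hp
  obtain ⟨k, hk'⟩ := Subgroup.mem_zpowers_iff.1 (Solv.Symp.mem_zpowers_of_cyclic
    (inferInstance : IsCyclic (Subgroup.zpowers g)) hz' hzp hy' (hyp ▸ pow_orderOf_eq_one _))
  have h1 : t (c ^ j) = c ^ j := by rw [← hk', map_zpow, map_zpow, htb]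
  rw [map_zpow, htc, inv_zpow] at h1
  rw [eq_one_of_inv hodd h1, orderOf_one] at hyp
  exact hp.ne_one hyp.symm

end

theorem not_two {P : Type*} [CommGroup P] [Finite P] {p : ℕ} (hp : p.Prime) (hp2 : p ≠ 2)
    (za zb zc : P) (ha : orderOf za = p) (hb : orderOf zb = p) (hc : orderOf zc = p)
    (e1 e2 e3 : MulAut P) (h1a : e1 za = za⁻¹) (h1b : e1 zb = zb) (h1c : e1 zc = zc)
    (h2a : e2 za = za) (h2b : e2 zb = zb⁻¹) (h2c : e2 zc = zc)
    (h3a : e3 za = za) (h3b : e3 zb = zb) (h3c : e3 zc = zc⁻¹) :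
    ¬ ∃ a b : P, Subgroup.closure {a, b} = ⊤ := by
  rintro ⟨a, b, hab⟩
  set φ : P →* P := powMonoidHom p
  have key : ∀ (e : MulAut P) (z R R' : P) (i i' : ℕ), orderOf z = p → i < p → i' < p →
      e z = z⁻¹ → e R = R → e R' = R' → z ^ i * R = z ^ i' * R' → i = i' := by
    intro e z R R' i i' hz hi hi' hez hR hR' h
    have hh := congrArg e h
    rw [map_mul, map_mul, map_pow, map_pow, hez, hR, hR'] at hh
    have e2' : z ^ (2 * i) = z ^ (2 * i') := by
      have h2 : z ^ i * R * (z⁻¹ ^ i * R)⁻¹ = z ^ i' * R' * (z⁻¹ ^ i' * R')⁻¹ := by rw [h, hh]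
      have h3 : ∀ (X Y : P) (m : ℕ), X ^ m * Y * (X⁻¹ ^ m * Y)⁻¹ = X ^ (2 * m) := fun X Y m => by
        rw [two_mul, pow_add, inv_pow, mul_inv_rev, inv_inv, mul_assoc, mul_inv_cancel_left]
      rwa [h3, h3] at h2
    rw [pow_inj_mod, hz] at e2'
    have hcop : Nat.gcd p 2 = 1 := (Nat.coprime_primes hp Nat.prime_two).2 hp2
    have := Nat.ModEq.cancel_left_of_coprime hcop e2'
    rwa [Nat.ModEq, Nat.mod_eq_of_lt hi, Nat.mod_eq_of_lt hi'] at this
  have hker : ∀ z : P, orderOf z = p → ∀ i, z ^ i ∈ φ.ker := fun z hz i => by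
    refine pow_mem ?_ i
    rw [MonoidHom.mem_ker, powMonoidHom_apply, ← hz, pow_orderOf_eq_one]
  let f : Fin p × Fin p × Fin p → φ.ker := fun x =>
    ⟨za ^ (x.1 : ℕ) * (zb ^ (x.2.1 : ℕ) * zc ^ (x.2.2 : ℕ)),
      mul_mem (hker _ ha _) (mul_mem (hker _ hb _) (hker _ hc _))⟩
  have hf : Function.Injective f := by
    rintro ⟨i, j, k⟩ ⟨i', j', k'⟩ h
    have h' : za ^ (i : ℕ) * (zb ^ (j : ℕ) * zc ^ (k : ℕ)) =
        za ^ (i' : ℕ) * (zb ^ (j' : ℕ) * zc ^ (k' : ℕ)) := congrArg Subtype.val h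
    have hi := key e1 za _ _ i i' ha i.2 i'.2 h1a (by simp [h1b, h1c]) (by simp [h1b, h1c]) h'
    rw [hi] at h'
    have h'' := mul_left_cancel h'
    have hj := key e2 zb _ _ j j' hb j.2 j'.2 h2b (by simp [h2c]) (by simp [h2c]) h''
    rw [hj] at h''
    have hk := key e3 zc 1 1 k k' hc k.2 k'.2 h3c (map_one _) (map_one _)
      (by rw [mul_one, mul_one]; exact mul_left_cancel h'')
    simp [Fin.ext hi, Fin.ext hj, Fin.ext hk]
  have hK : p * (p * p) ≤ Nat.card φ.ker := by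
    simpa [Nat.card_prod] using Nat.card_le_card_of_injective f hf
  set π := QuotientGroup.mk' φ.range
  have hord : ∀ x : P, orderOf (π x) ≤ p := fun x => by
    refine Nat.le_of_dvd hp.pos (orderOf_dvd_of_pow_eq_one ?_)
    rw [← map_pow]
    exact (QuotientGroup.eq_one_iff _).2 ⟨x, rfl⟩
  let g : Subgroup.zpowers (π a) × Subgroup.zpowers (π b) → P ⧸ φ.range := fun x => x.1.1 * x.2.1
  have hg : Function.Surjective g := fun q => by
    obtain ⟨x, rfl⟩ := QuotientGroup.mk'_surjective _ q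
    obtain ⟨m, n, rfl⟩ := Subgroup.mem_closure_pair.1 (hab ▸ Subgroup.mem_top x)
    exact ⟨(⟨_, Subgroup.zpow_mem_zpowers (π a) m⟩, ⟨_, Subgroup.zpow_mem_zpowers (π b) n⟩),
      by simp [g, π]⟩
  have hQ : φ.range.index ≤ p * p := by
    have := Nat.card_le_card_of_surjective g hg
    rw [Nat.card_prod, Nat.card_zpowers, Nat.card_zpowers] at this
    exact this.trans (Nat.mul_le_mul (hord a) (hord b))
  have h1 := φ.ker.card_mul_index
  rw [Subgroup.index_ker] at h1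
  have h2 := φ.range.card_mul_index
  have hr : 0 < Nat.card φ.range := Nat.card_pos
  have h3 : Nat.card φ.ker = φ.range.index := by
    apply Nat.eq_of_mul_eq_mul_right hr
    rw [h1, ← h2, mul_comm]
  have : p * (p * p) ≤ p * p := hK.trans (h3.le.trans hQ)
  have hpp : 0 < p * p := Nat.mul_pos hp.pos hp.pos
  nlinarith [hp.two_le]

theorem four {P : Type*} [Group P] [Finite P]
    (I : Subgroup (MulAut P)) (hI : Cfsg.IsElementaryAbelian 2 I) (hI8 : Nat.card ↥I = 8)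
    (I₀ : Subgroup (MulAut P)) (hI₀ : I₀ ≤ I) (hdisj : ∀ T ∈ I₀, T ≠ 1 → Cyc T)
    (hprod : ∀ T ∈ I, ∀ T' ∈ I, T ≠ 1 → T' ≠ 1 → ¬ Cyc T → ¬ Cyc T' → T * T' ∈ I₀) :
    ∃ u ∈ I, ∃ v ∈ I, u ≠ 1 ∧ v ≠ 1 ∧ u ≠ v ∧ Cyc u ∧ Cyc v ∧ Cyc (u * v) := by
  have hsq : ∀ t ∈ I, t * t = 1 := fun t ht => by rw [← pow_two]; exact hI.2 t ht
  by_cases h : ∃ u ∈ I₀, ∃ v ∈ I₀, u ≠ 1 ∧ v ≠ 1 ∧ u ≠ v
  · obtain ⟨u, hu, v, hv, hu1, hv1, huv⟩ := h
    refine ⟨u, hI₀ hu, v, hI₀ hv, hu1, hv1, huv, hdisj u hu hu1, hdisj v hv hv1,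
      hdisj _ (mul_mem hu hv) fun h => huv ?_⟩
    exact mul_left_cancel ((hsq u (hI₀ hu)).trans h.symm)
  push_neg at h
  obtain ⟨b1, b2, hb⟩ : ∃ b1 b2, ∀ T ∈ I, T ≠ 1 → ¬ Cyc T → T = b1 ∨ T = b2 := by
    by_cases hB : ∃ T ∈ I, T ≠ 1 ∧ ¬ Cyc T
    · obtain ⟨T, hT, hT1, hTB⟩ := hB
      by_cases hs : ∃ s ∈ I₀, s ≠ 1
      · obtain ⟨s, hs, hs1⟩ := hs
        refine ⟨T, T * s, fun T' hT' hT'1 hT'B => ?_⟩
        have hm := hprod T hT T' hT' hT1 hT'1 hTB hT'B
        have : T' = T * (T * T') := by rw [← mul_assoc, hsq T hT, one_mul]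
        by_cases h0 : T * T' = 1
        · left; rw [this, h0, mul_one]
        · right; rw [this, h _ hm s hs h0 hs1]
      · refine ⟨T, T, fun T' hT' hT'1 hT'B => ?_⟩
        push_neg at hs
        left
        rw [show T' = T * (T * T') by rw [← mul_assoc, hsq T hT, one_mul],
          hs _ (hprod T hT T' hT' hT1 hT'1 hTB hT'B), mul_one]
    · exact ⟨1, 1, fun T hT h1 h2 => absurd ⟨T, hT, h1, h2⟩ hB⟩
  classical
  have avoid : ∀ s : Finset (MulAut P), s.card < 8 → ∃ x ∈ I, x ∉ s := by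
    intro s hs
    by_contra! hcon
    have h1 := Set.ncard_le_ncard (show (I : Set (MulAut P)) ⊆ ↑s from hcon) s.finite_toSet
    rw [Set.ncard_coe_finset, ← Nat.card_coe_set_eq] at h1
    change Nat.card I ≤ _ at h1
    omega
  obtain ⟨u, hu, hus⟩ := avoid {1, b1, b2} (Finset.card_le_three.trans_lt (by norm_num))
  obtain ⟨v, hv, hvs⟩ := avoid {1, u, b1, b2, u * b1, u * b2}
    (Finset.card_le_six.trans_lt (by norm_num))
  simp only [Finset.mem_insert, Finset.mem_singleton, not_or] at hus hvs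
  have hw1 : u * v ≠ 1 := fun h => hvs.2.1 (mul_left_cancel (h.trans (hsq u hu).symm))
  have huvv : ∀ z, u * v = z → v = u * z := fun z hz => by
    rw [← hz, ← mul_assoc, hsq u hu, one_mul]
  refine ⟨u, hu, v, hv, hus.1, hvs.1, fun h => hvs.2.1 h.symm, ?_, ?_, ?_⟩
  · by_contra hc; rcases hb u hu hus.1 hc with h' | h'
    exacts [hus.2.1 h', hus.2.2 h']
  · by_contra hc; rcases hb v hv hvs.1 hc with h' | h'
    exacts [hvs.2.2.1 h', hvs.2.2.2.1 h']
  · by_contra hc; rcases hb _ (mul_mem hu hv) hw1 hc with h' | h'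
    exacts [hvs.2.2.2.2.1 (huvv _ h'), hvs.2.2.2.2.2 (huvv _ h')]

/-- Let p be an odd prime, P a finite p-group and I an elementary abelian subgroup of order 8 of Aut(P). Call T ∈ I, T ≠ 1, broad when its fixed-point subgroup C_P(T) is not cyclic. Suppose I has a proper subgroup I₀ containing no broad element such that the product of any two broad elements lies in I₀. Then P is abelian of rank exactly 3 (generated by three elements but not by two), there are exactly three broad elements and they generate I, and I₀ is exactly the set of products of two broad elements. -/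
theorem result
    {P : Type*} [Group P] [Finite P] (p : ℕ) (hp : p.Prime) (hp2 : p ≠ 2) (hP : IsPGroup p P)
    (I : Subgroup (MulAut P)) (hI : Cfsg.IsElementaryAbelian 2 I) (hI8 : Nat.card ↥I = 8)
    (I₀ : Subgroup (MulAut P)) (hI₀ : I₀ < I)
    (hdisj : ∀ T ∈ I₀, T ≠ 1 → ∃ g : P, ∀ x : P, (T x = x ↔ x ∈ Subgroup.zpowers g))
    (hprod : ∀ T ∈ I, ∀ T' ∈ I, T ≠ 1 → T' ≠ 1 → (¬ ∃ g : P, ∀ x : P, (T x = x ↔ x ∈ Subgroup.zpowers g)) →
      (¬ ∃ g : P, ∀ x : P, (T' x = x ↔ x ∈ Subgroup.zpowers g)) → T * T' ∈ I₀) :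
    IsMulCommutative P ∧ (∃ a b c : P, Subgroup.closure {a, b, c} = ⊤) ∧ (¬ ∃ a b : P, Subgroup.closure {a, b} = ⊤) ∧
      Nat.card {T : MulAut P // T ∈ I ∧ T ≠ 1 ∧ ¬ ∃ g : P, ∀ x : P, (T x = x ↔ x ∈ Subgroup.zpowers g)} = 3 ∧
      Subgroup.closure {T : MulAut P | T ∈ I ∧ T ≠ 1 ∧ ¬ ∃ g : P, ∀ x : P, (T x = x ↔ x ∈ Subgroup.zpowers g)} = I ∧
      (I₀ : Set (MulAut P)) = {S : MulAut P | ∃ T T' : MulAut P, T ∈ I ∧ T' ∈ I ∧ T ≠ 1 ∧ T' ≠ 1 ∧
        (¬ ∃ g : P, ∀ x : P, (T x = x ↔ x ∈ Subgroup.zpowers g)) ∧ (¬ ∃ g : P, ∀ x : P, (T' x = x ↔ x ∈ Subgroup.zpowers g)) ∧ S = T * T'} := by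
  classical
  haveI := Fact.mk hp
  have hodd : Odd (Nat.card P) := by
    obtain ⟨n, hn⟩ := IsPGroup.iff_card.1 hP
    rw [hn]; exact (hp.odd_of_ne_two hp2).pow
  haveI : Group.IsNilpotent P := hP.isNilpotent
  have hinv : ∀ t ∈ I, ∀ x, t (t x) = x := fun t ht x => by
    rw [← MulAut.mul_apply, ← pow_two, hI.2 t ht, MulAut.one_apply]
  have hcom : ∀ s ∈ I, ∀ t ∈ I, ∀ x, s (t x) = t (s x) := fun s hs t ht x => by
    rw [← MulAut.mul_apply, ← MulAut.mul_apply]
    exact DFunLike.congr_fun (congrArg Subtype.val (hI.1.is_comm.comm ⟨s, hs⟩ ⟨t, ht⟩)) x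
  obtain ⟨u, hu, v, hv, hu1, hv1, huv, ⟨a, ha⟩, ⟨b, hb⟩, ⟨c, hc⟩⟩ :=
    four I hI hI8 I₀ hI₀.le hdisj hprod
  have hw := mul_mem hu hv
  have hgen : Subgroup.closure ({a, b, c} : Set P) = ⊤ := by
    let π : P →* Abelianization P := Abelianization.of
    have hker : π.ker = commutator P := Abelianization.ker_of P
    have h1 := gen π hodd u v (hinv u hu) (hinv v hv) (hcom u hu v hv)
    refine frattini_nongenerating (eq_top_iff.2 (h1.ge.trans (sup_le_sup ?_ ?_)))
    · rw [Subgroup.closure_le]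
      rintro x (hx | hx | hx)
      · exact (Subgroup.zpowers_le.2 (Subgroup.subset_closure (by simp))) ((ha x).1 hx)
      · exact (Subgroup.zpowers_le.2 (Subgroup.subset_closure (by simp))) ((hb x).1 hx)
      · exact (Subgroup.zpowers_le.2 (Subgroup.subset_closure (by simp))) ((hc x).1 hx)
    · rw [hker]; exact Perm.commutator_le_frattini
  have sgn : ∀ t ∈ I, ∀ (s : MulAut P), s ∈ I → ∀ x : P, (∀ y, s y = y ↔ y ∈ Subgroup.zpowers x) →
      ∃ i : Bool, t x = sg i x := by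
    intro t ht s hs x hx
    have h1 : t x ∈ Subgroup.zpowers x :=
      (hx _).1 (by rw [hcom s hs t ht, (hx x).2 (Subgroup.mem_zpowers x)])
    rcases sign hp hp2 hP t (hinv t ht) h1 with h | h
    exacts [⟨true, h⟩, ⟨false, h⟩]
  have hex : ∀ t ∈ I, ∃ i j k, t a = sg i a ∧ t b = sg j b ∧ t c = sg k c := fun t ht => by
    obtain ⟨i, hi⟩ := sgn t ht u hu a ha
    obtain ⟨j, hj⟩ := sgn t ht v hv b hb
    obtain ⟨k, hk⟩ := sgn t ht _ hw c hc
    exact ⟨i, j, k, hi, hj, hk⟩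
  let Pat : MulAut P → Bool → Bool → Bool → Prop := fun t i j k =>
    t ∈ I ∧ t a = sg i a ∧ t b = sg j b ∧ t c = sg k c
  have uniq : ∀ {s t i j k}, Pat s i j k → Pat t i j k → s = t := by
    rintro s t i j k ⟨-, s1, s2, s3⟩ ⟨-, t1, t2, t3⟩
    have : s.toMonoidHom = t.toMonoidHom := MonoidHom.eq_of_eqOn_dense hgen fun x hx => by
      simp only [Set.mem_insert_iff, Set.mem_singleton_iff] at hx
      rcases hx with rfl | rfl | rfl
      exacts [s1.trans t1.symm, s2.trans t2.symm, s3.trans t3.symm]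
    exact MulEquiv.ext fun x => DFunLike.congr_fun this x
  choose fi fj fk hf using fun t : I => hex t t.2
  have hpat : ∀ t : I, Pat t (fi t) (fj t) (fk t) := fun t => ⟨t.2, hf t⟩
  have hbij : Function.Bijective fun t : I => (fi t, fj t, fk t) := by
    rw [Nat.bijective_iff_injective_and_card]
    refine ⟨fun s t h => ?_, by simp [hI8, Nat.card_prod]⟩
    simp only [Prod.mk.injEq] at h
    have h1 := hpat s
    rw [h.1, h.2.1, h.2.2] at h1
    exact Subtype.ext (uniq h1 (hpat t))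
  have hone : Pat 1 true true true := ⟨one_mem I, rfl, rfl, rfl⟩
  let ε := (Equiv.ofBijective _ hbij).symm
  let E : Bool → Bool → Bool → MulAut P := fun i j k => (ε (i, j, k) : I)
  have hE : ∀ i j k, Pat (E i j k) i j k := fun i j k => by
    have h : (fi (ε (i, j, k)), fj (ε (i, j, k)), fk (ε (i, j, k))) = (i, j, k) :=
      (Equiv.ofBijective _ hbij).apply_symm_apply _
    simp only [Prod.mk.injEq] at h
    have h1 := hpat (ε (i, j, k))
    rwa [h.1, h.2.1, h.2.2] at h1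
  have hEinj : ∀ {i j k i' j' k'}, E i j k = E i' j' k' → i = i' ∧ j = j' ∧ k = k' := by
    intro i j k i' j' k' h
    have := ε.injective (Subtype.ext h)
    simpa [Prod.mk.injEq] using this
  have hE1 : E true true true = 1 :=
    uniq (hE _ _ _) ⟨one_mem I, rfl, rfl, rfl⟩
  have ne1 : ∀ {i j k}, E i j k = 1 → i = true ∧ j = true ∧ k = true :=
    fun {i j k} h => hEinj (h.trans hE1.symm)
  have a1 : a ≠ 1 := fun h => by
    have := ne1 (uniq (hE false true true) (t := 1) ⟨one_mem I, by simp [h, sg], rfl, rfl⟩)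
    simp at this
  have b1 : b ≠ 1 := fun h => by
    have := ne1 (uniq (hE true false true) (t := 1) ⟨one_mem I, rfl, by simp [h, sg], rfl⟩)
    simp at this
  have c1 : c ≠ 1 := fun h => by
    have := ne1 (uniq (hE true true false) (t := 1) ⟨one_mem I, rfl, rfl, by simp [h, sg]⟩)
    simp at this
  have excl : ∀ {x : P}, x ≠ 1 → ∀ {i : Bool}, sg i x = x → i = true := by
    intro x hx i h
    cases i with
    | true => rfl
    | false => exact absurd (eq_one_of_inv hodd h) hx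
  have indep : ∀ (s : MulAut P) (x y : P), (∀ z, s z = z ↔ z ∈ Subgroup.zpowers x) → s y = y →
      ∀ t : MulAut P, t x = x → t y = y := by
    intro s x y hx hy t ht
    obtain ⟨n, rfl⟩ := Subgroup.mem_zpowers_iff.1 ((hx y).1 hy)
    rw [map_zpow, ht]
  obtain ⟨-, hua, hub, huc⟩ : Pat u true false false := by
    obtain ⟨i, j, k, h1, h2, h3⟩ := hex u hu
    obtain rfl := excl a1 (h1.symm.trans ((ha a).2 (Subgroup.mem_zpowers a)))
    refine ⟨hu, h1, ?_, ?_⟩
    · cases j with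
      | false => exact h2
      | true =>
        have := indep u a b ha h2 _ (hE true false true).2.1
        exact absurd (excl b1 ((hE true false true).2.2.1.symm.trans this)) (by simp)
    · cases k with
      | false => exact h3
      | true =>
        have := indep u a c ha h3 _ (hE true true false).2.1
        exact absurd (excl c1 ((hE true true false).2.2.2.symm.trans this)) (by simp)
  obtain ⟨-, hva, hvb, hvc⟩ : Pat v false true false := by
    obtain ⟨i, j, k, h1, h2, h3⟩ := hex v hv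
    obtain rfl := excl b1 (h2.symm.trans ((hb b).2 (Subgroup.mem_zpowers b)))
    refine ⟨hv, ?_, h2, ?_⟩
    · cases i with
      | false => exact h1
      | true =>
        have := indep v b a hb h1 _ (hE false true true).2.2.1
        exact absurd (excl a1 ((hE false true true).2.1.symm.trans this)) (by simp)
    · cases k with
      | false => exact h3
      | true =>
        have := indep v b c hb h3 _ (hE true true false).2.2.1
        exact absurd (excl c1 ((hE true true false).2.2.2.symm.trans this)) (by simp)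
  have pmul : ∀ {s t i j k i' j' k'}, Pat s i j k → Pat t i' j' k' →
      Pat (s * t) (i == i') (j == j') (k == k') := fun hs ht =>
    ⟨mul_mem hs.1 ht.1, sg_mul hs.2.1 ht.2.1, sg_mul hs.2.2.1 ht.2.2.1, sg_mul hs.2.2.2 ht.2.2.2⟩
  have pu : Pat u true false false := ⟨hu, hua, hub, huc⟩
  have pv : Pat v false true false := ⟨hv, hva, hvb, hvc⟩
  have pw : Pat (u * v) false false true := pmul pu pv
  -- abelian
  have heC : ∀ t : MulAut P, ∀ x ∈ ⁅commutator P, (⊤ : Subgroup P)⁆,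
      t x ∈ ⁅commutator P, (⊤ : Subgroup P)⁆ := fun t x hx =>
    Subgroup.characteristic_iff_map_le.1 inferInstance t ⟨x, hx, rfl⟩
  have hCn : (⁅commutator P, (⊤ : Subgroup P)⁆).Normal := inferInstance
  have hC : ∀ q ∈ commutator P, ∀ g : P, ⁅q, g⁆ ∈ ⁅commutator P, (⊤ : Subgroup P)⁆ :=
    fun q hq g => Subgroup.commutator_mem_commutator hq (Subgroup.mem_top g)
  have hab : IsMulCommutative P := by
    refine abelian a b c hgen ?_ ?_ ?_
    · exact comm_mem hodd _ hC a b c (u * v) (E false true true) (hinv _ hw) pw.2.1 pw.2.2.1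
        (fun y hy => (hc y).1 hy) (hE _ _ _).2.1 (hE _ _ _).2.2.1 (hE _ _ _).2.2.2 (heC _)
    · exact comm_mem hodd _ hC a c b v (E false true true) (hinv _ hv) hva hvc
        (fun y hy => (hb y).1 hy) (hE _ _ _).2.1 (hE _ _ _).2.2.2 (hE _ _ _).2.2.1 (heC _)
    · exact comm_mem hodd _ hC b c a u (E true false true) (hinv _ hu) hub huc
        (fun y hy => (ha y).1 hy) (hE _ _ _).2.2.1 (hE _ _ _).2.2.2 (hE _ _ _).2.1 (heC _)
  -- the three broad elements
  set e1 := E false true true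
  set e2 := E true false true
  set e3 := E true true false
  obtain ⟨p1, p2, p3⟩ : Pat e1 false true true ∧ Pat e2 true false true ∧ Pat e3 true true false :=
    ⟨hE _ _ _, hE _ _ _, hE _ _ _⟩
  have q1 : e1 ≠ 1 := fun h => by simpa using ne1 h
  have q2 : e2 ≠ 1 := fun h => by simpa using ne1 h
  have q3 : e3 ≠ 1 := fun h => by simpa using ne1 h
  have b_e1 : ¬ Cyc e1 := not_cyc hp hP hodd e1 e3 p1.2.2.1 p1.2.2.2 p3.2.2.1 p3.2.2.2 b1 c1
  have b_e2 : ¬ Cyc e2 := not_cyc hp hP hodd e2 e3 p2.2.1 p2.2.2.2 p3.2.1 p3.2.2.2 a1 c1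
  have b_e3 : ¬ Cyc e3 := not_cyc hp hP hodd e3 e2 p3.2.1 p3.2.2.1 p2.2.1 p2.2.2.1 a1 b1
  have p0 : Pat (E false false false) false false false := hE _ _ _
  have n_e0 : Cyc (E false false false) := by
    refine ⟨1, fun x => ⟨fun hx => ?_, fun hx => ?_⟩⟩
    · have hhom : ((E false false false : MulAut P)).toMonoidHom =
          { toFun := fun y => y⁻¹, map_one' := inv_one,
            map_mul' := fun y z => by rw [mul_inv_rev, hab.is_comm.comm] } :=
        MonoidHom.eq_of_eqOn_dense hgen fun y hy => by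
          simp only [Set.mem_insert_iff, Set.mem_singleton_iff] at hy
          rcases hy with rfl | rfl | rfl
          exacts [p0.2.1, p0.2.2.1, p0.2.2.2]
      have h2 : E false false false x = x⁻¹ := DFunLike.congr_fun hhom x
      rw [eq_one_of_inv hodd (h2.symm.trans hx)]
      exact one_mem _
    · rw [Subgroup.zpowers_one_eq_bot, Subgroup.mem_bot] at hx
      rw [hx, map_one]
  have hclass : ∀ t ∈ I, t ≠ 1 ∧ ¬ Cyc t ↔ t = e1 ∨ t = e2 ∨ t = e3 := by
    intro t ht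
    refine ⟨fun ⟨ht1, htB⟩ => ?_, fun h => ?_⟩
    · obtain ⟨i, j, k, h⟩ := hex t ht
      have pt : Pat t i j k := ⟨ht, h⟩
      cases i <;> cases j <;> cases k
      · exact absurd (uniq pt p0 ▸ n_e0) htB
      · exact absurd (uniq pt pw ▸ ⟨c, hc⟩) htB
      · exact absurd (uniq pt pv ▸ ⟨b, hb⟩) htB
      · exact Or.inl (uniq pt p1)
      · exact absurd (uniq pt pu ▸ ⟨a, ha⟩) htB
      · exact Or.inr (Or.inl (uniq pt p2))
      · exact Or.inr (Or.inr (uniq pt p3))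
      · exact absurd (uniq pt hone) ht1
    · rcases h with rfl | rfl | rfl
      exacts [⟨q1, b_e1⟩, ⟨q2, b_e2⟩, ⟨q3, b_e3⟩]
  have eu : e2 * e3 = u := uniq (pmul p2 p3) pu
  have ev : e1 * e3 = v := uniq (pmul p1 p3) pv
  have ew : e1 * e2 = u * v := uniq (pmul p1 p2) pw
  have hBset : {T : MulAut P | T ∈ I ∧ T ≠ 1 ∧ ¬ Cyc T} = {e1, e2, e3} := by
    ext t
    simp only [Set.mem_setOf_eq, Set.mem_insert_iff, Set.mem_singleton_iff]
    constructor
    · exact fun h => (hclass t h.1).1 h.2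
    · intro h
      have hI' : t ∈ I := by
        rcases h with rfl | rfl | rfl
        exacts [p1.1, p2.1, p3.1]
      exact ⟨hI', (hclass t hI').2 h⟩
  refine ⟨hab, ⟨a, b, c, hgen⟩, ?_, ?_, ?_, ?_⟩
  · letI : CommGroup P := { ‹Group P› with mul_comm := hab.is_comm.comm }
    obtain ⟨za, hza, hzap⟩ := exists_order_p hp hP a1
    obtain ⟨zb, hzb, hzbp⟩ := exists_order_p hp hP b1
    obtain ⟨zc, hzc, hzcp⟩ := exists_order_p hp hP c1
    obtain ⟨i, rfl⟩ := Subgroup.mem_zpowers_iff.1 hza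
    obtain ⟨j, rfl⟩ := Subgroup.mem_zpowers_iff.1 hzb
    obtain ⟨k, rfl⟩ := Subgroup.mem_zpowers_iff.1 hzc
    refine not_two hp hp2 (a ^ i) (b ^ j) (c ^ k) hzap hzbp hzcp e1 e2 e3
      ?_ ?_ ?_ ?_ ?_ ?_ ?_ ?_ ?_ <;>
      simp [map_zpow, p1.2, p2.2, p3.2, sg]
  · change Nat.card ↥({T : MulAut P | T ∈ I ∧ T ≠ 1 ∧ ¬ Cyc T}) = 3
    rw [hBset, Nat.card_coe_set_eq]
    refine Set.ncard_eq_three.2 ⟨e1, e2, e3, ?_, ?_, ?_, rfl⟩ <;> exact fun h => by simpa using hEinj h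
  · change Subgroup.closure {T : MulAut P | T ∈ I ∧ T ≠ 1 ∧ ¬ Cyc T} = I
    rw [hBset]
    refine le_antisymm ((Subgroup.closure_le _).2 ?_) fun t ht => ?_
    · simp [Set.insert_subset_iff, p1.1, p2.1, p3.1]
    · set K := Subgroup.closure ({e1, e2, e3} : Set (MulAut P))
      have k1 : e1 ∈ K := Subgroup.subset_closure (by simp)
      have k2 : e2 ∈ K := Subgroup.subset_closure (by simp)
      have k3 : e3 ∈ K := Subgroup.subset_closure (by simp)
      have ku : u ∈ K := eu ▸ mul_mem k2 k3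
      obtain ⟨i, j, k, h⟩ := hex t ht
      have pt : Pat t i j k := ⟨ht, h⟩
      cases i <;> cases j <;> cases k
      · rw [uniq pt (pmul p1 pu)]; exact mul_mem k1 ku
      · rw [uniq pt (pmul p1 p2)]; exact mul_mem k1 k2
      · rw [uniq pt (pmul p1 p3)]; exact mul_mem k1 k3
      · rw [uniq pt p1]; exact k1
      · rw [uniq pt pu]; exact ku
      · rw [uniq pt p2]; exact k2
      · rw [uniq pt p3]; exact k3
      · rw [uniq pt hone]; exact one_mem K
  · ext S
    simp only [SetLike.mem_coe, Set.mem_setOf_eq]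
    constructor
    · intro hS
      have hSI := hI₀.le hS
      obtain ⟨i, j, k, h⟩ := hex S hSI
      have pt : Pat S i j k := ⟨hSI, h⟩
      have bad : S ≠ 1 → ¬ Cyc S → False := fun h1 h2 => h2 (hdisj S hS h1)
      have mk : ∀ T T', T ∈ I → T' ∈ I → T ≠ 1 ∧ ¬ Cyc T → T' ≠ 1 ∧ ¬ Cyc T' → S = T * T' →
          ∃ T T' : MulAut P, T ∈ I ∧ T' ∈ I ∧ T ≠ 1 ∧ T' ≠ 1 ∧ ¬ Cyc T ∧ ¬ Cyc T' ∧ S = T * T' :=
        fun T T' a b c d e => ⟨T, T', a, b, c.1, d.1, c.2, d.2, e⟩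
      cases i <;> cases j <;> cases k
      · exfalso
        have hu0 : u ∈ I₀ := eu ▸ hprod e2 p2.1 e3 p3.1 q2 q3 b_e2 b_e3
        have := mul_mem hS hu0
        rw [uniq (pmul pt pu) p1] at this
        exact b_e1 (hdisj _ this q1)
      · exact mk e1 e2 p1.1 p2.1 ⟨q1, b_e1⟩ ⟨q2, b_e2⟩ ((uniq pt pw).trans ew.symm)
      · exact mk e1 e3 p1.1 p3.1 ⟨q1, b_e1⟩ ⟨q3, b_e3⟩ ((uniq pt pv).trans ev.symm)
      · exact (bad (uniq pt p1 ▸ q1) (uniq pt p1 ▸ b_e1)).elim
      · exact mk e2 e3 p2.1 p3.1 ⟨q2, b_e2⟩ ⟨q3, b_e3⟩ ((uniq pt pu).trans eu.symm)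
      · exact (bad (uniq pt p2 ▸ q2) (uniq pt p2 ▸ b_e2)).elim
      · exact (bad (uniq pt p3 ▸ q3) (uniq pt p3 ▸ b_e3)).elim
      · exact mk e1 e1 p1.1 p1.1 ⟨q1, b_e1⟩ ⟨q1, b_e1⟩
          ((uniq pt hone).trans (uniq hone (pmul p1 p1)))
    · rintro ⟨T, T', hT, hT', h1, h1', h2, h2', rfl⟩
      exact hprod T hT T' hT' h1 h1' h2 h2'

end Cfsg.Agent.S4412
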