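import Cfsg.Statements.S4413
import Cfsg.Agent.Lib.Perm.MinusThirtyTwo

set_option autoImplicit false
open Cfsg

namespace Cfsg.Agent.S4413

open Cfsg.Agent.Perm.MinusThirtyTwo

/-- Let P be an extraspecial 2-group of order 32 with no elementary abelian subgroup of order 8 (the central product of a dihedral and a quaternion group of order 8). Then the inner automorphism group of P has order 16 and the outer automorphism group Aut(P)/Inn(P) is isomorphic to the symmetric group of degree 5; in particular Aut(P) has order 1920. -/
theorem result {P : Type*} [Group P] [Finite P]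
    (hex : Cfsg.IsExtraspecial 2 P) (h32 : Nat.card P = 32)
    (hminus : ∀ A : Subgroup P, Cfsg.IsElementaryAbelian 2 A → Nat.card ↥A ≤ 4)
    [(MulAut.conj : P →* MulAut P).range.Normal] :
    Nat.card ↥(MulAut.conj : P →* MulAut P).range = 16 ∧ Nat.card (MulAut P) = 1920 ∧
      Nonempty ((MulAut P ⧸ (MulAut.conj : P →* MulAut P).range) ≃* Equiv.Perm (Fin 5)) := by
  obtain ⟨e⟩ := exists_equiv hex h32 hminus
  let χ : MulAut P →* Equiv.Perm (Fin 5) := psi.comp (MulAut.congr e.symm).toMonoidHom
  have hsurj : Function.Surjective χ := psi_surjective.comp (MulAut.congr e.symm).surjective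
  have hmap : ∀ g : Mo, (MulAut.congr e.symm) (MulAut.conj (e g)) = MulAut.conj g := fun g => by
    refine MulEquiv.ext fun y => ?_
    simp [MulAut.congr]
  have hrange : (MulAut.conj : P →* MulAut P).range =
      (MulAut.conj : Mo →* MulAut Mo).range.comap (MulAut.congr e.symm).toMonoidHom := by
    ext σ
    constructor
    · rintro ⟨g, rfl⟩
      refine ⟨e.symm g, ?_⟩
      have := hmap (e.symm g)
      rw [e.apply_symm_apply] at this
      exact this.symm
    · rintro ⟨g, hg⟩
      exact ⟨e g, (MulAut.congr e.symm).injective ((hmap g).trans hg)⟩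
  have hcard : Nat.card (MulAut P) = 1920 := by
    rw [Nat.card_congr (MulAut.congr e.symm).toEquiv, card_aut]
  have hker : χ.ker = (MulAut.conj : P →* MulAut P).range := by
    rw [hrange, ← ker_psi, MonoidHom.comap_ker]
  refine ⟨?_, hcard, ⟨(QuotientGroup.quotientMulEquivOfEq hker.symm).trans
    (QuotientGroup.quotientKerEquivOfSurjective χ hsurj)⟩⟩
  have h1 := Subgroup.card_mul_index χ.ker
  rw [Subgroup.index_ker, MonoidHom.range_eq_top.2 hsurj, Subgroup.card_top, Nat.card_perm, Nat.card_fin,
    hcard, show Nat.factorial 5 = 120 from rfl, hker] at h1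
  omega

end Cfsg.Agent.S4413
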