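import Cfsg.Statements.S4414
import Cfsg.Agent.Lib.Perm.WeightIdem

set_option autoImplicit false
open Cfsg
open scoped TensorProduct commutatorElement
open Cfsg.Agent.Perm

namespace Cfsg.Agent.S4414

abbrev F2 := ZMod 2
abbrev L2 := AlgebraicClosure (ZMod 2)

variable {S : Type*} [Group S] [Finite S] {E : Type*} [AddCommGroup E] [Module F2 E]

/-- The fixed space of a subgroup. -/
def fixW (ρ : Representation F2 S E) (T : Subgroup S) : Submodule F2 E where
  carrier := {v | ∀ s ∈ T, ρ s v = v}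
  zero_mem' := fun s _ => map_zero _
  add_mem' := fun {v w} hv hw s hs => by rw [map_add, hv s hs, hw s hs]
  smul_mem' := fun r v hv s hs => by rw [map_smul, hv s hs]

/-- Extension of scalars. -/
noncomputable def ext (ρ : Representation F2 S E) : S →* Module.End L2 (L2 ⊗[F2] E) :=
  { toFun := fun s => (ρ s).baseChange L2
    map_one' := by rw [map_one]; exact LinearMap.baseChange_id
    map_mul' := fun s t => by
      rw [map_mul]; exact LinearMap.baseChange_comp (ρ t) (ρ s) }

omit [Finite S] in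
theorem ext_tmul (ρ : Representation F2 S E) (s : S) (c : L2) (e : E) :
    ext ρ s (c ⊗ₜ e) = c ⊗ₜ ρ s e := LinearMap.baseChange_tmul ..

omit [Finite S] in
/-- Fixed vectors after extension are combinations of fixed vectors. -/
theorem fixed_ext (ρ : Representation F2 S E) (T : Subgroup S) (v : L2 ⊗[F2] E)
    (hv : ∀ s ∈ T, ext ρ s v = v) :
    v ∈ ((fixW ρ T).subtype.baseChange L2).range := by
  classical
  let b := Module.Basis.ofVectorSpace F2 L2
  let e := TensorProduct.equivFinsuppOfBasisLeft b (N := E)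
  have hcomm : ∀ (s : S) (u : L2 ⊗[F2] E) i, e (ext ρ s u) i = ρ s (e u i) := by
    intro s u i
    induction u using TensorProduct.induction_on with
    | zero => simp
    | tmul c w => rw [ext_tmul]; simp [e, map_smul]
    | add u u' h h' => simp [map_add, h, h']
  have hmem : ∀ i, e v i ∈ fixW ρ T := fun i s hs => by rw [← hcomm, hv s hs]
  have hv' : v = (e v).sum (fun i w => b i ⊗ₜ w) := by
    conv_lhs => rw [← e.symm_apply_apply v]
    exact TensorProduct.equivFinsuppOfBasisLeft_symm_apply b (e v)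
  rw [hv']
  refine Submodule.sum_mem _ fun i _ => ?_
  exact ⟨b i ⊗ₜ (⟨e v i, hmem i⟩ : fixW ρ T), LinearMap.baseChange_tmul ..⟩

omit [Finite S] in
theorem card_fixed_le [Finite E] (ρ : Representation F2 S E) (T : Subgroup S) {ι : Type*} [Fintype ι]
    (v : ι → L2 ⊗[F2] E) (hli : LinearIndependent L2 v) (hv : ∀ i, ∀ s ∈ T, ext ρ s (v i) = v i) :
    2 ^ Fintype.card ι ≤ Nat.card {w : E // ∀ s ∈ T, ρ s w = w} := by
  have hfin : Module.Finite F2 ↥(fixW ρ T) := Module.Finite.of_finite
  choose w hw using fun i => fixed_ext ρ T (v i) (hv i)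
  have hw' : LinearIndependent L2 w := by
    refine LinearIndependent.of_comp ((fixW ρ T).subtype.baseChange L2) ?_
    rw [show ((fixW ρ T).subtype.baseChange L2) ∘ w = v from funext hw]
    exact hli
  have h := hw'.fintype_card_le_finrank
  rw [Module.finrank_baseChange] at h
  change 2 ^ Fintype.card ι ≤ Nat.card ↥(fixW ρ T)
  rw [Module.natCard_eq_pow_finrank (K := F2), Nat.card_zmod]
  exact Nat.pow_le_pow_right (by norm_num) h

/-- A 2-group fixes a non-zero vector of an invariant non-zero subspace. -/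
theorem exists_fixed_vec (ρ : Representation F2 S E) (T : Subgroup S) (hT : IsPGroup 2 T)
    (U : Submodule L2 (L2 ⊗[F2] E)) (hU : ∀ s ∈ T, ∀ u ∈ U, ext ρ s u ∈ U) (hU0 : U ≠ ⊥) :
    ∃ u ∈ U, u ≠ 0 ∧ ∀ s ∈ T, ext ρ s u = u := by
  have : Fact (Nat.Prime 2) := ⟨Nat.prime_two⟩
  obtain ⟨u₀, hu₀, hu₀0⟩ := Submodule.exists_mem_ne_zero_of_ne_bot hU0
  let O : Set (L2 ⊗[F2] E) := Set.range fun s : ↥T => ext ρ s u₀
  let W : Submodule F2 (L2 ⊗[F2] E) := Submodule.span F2 O
  have hWfg : Module.Finite F2 ↥W := Module.Finite.span_of_finite F2 (Set.finite_range _)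
  have : Finite ↥W := Module.finite_of_finite F2
  have hWU : W ≤ U.restrictScalars F2 := Submodule.span_le.2 (by
    rintro _ ⟨s, rfl⟩; exact hU s s.2 u₀ hu₀)
  have hWinv : ∀ s : ↥T, ∀ x ∈ W, ext ρ s x ∈ W := by
    intro s x hx
    induction hx using Submodule.span_induction with
    | mem x hx =>
      obtain ⟨t, rfl⟩ := hx
      refine Submodule.subset_span ⟨s * t, ?_⟩
      show ext ρ ((s : S) * t) u₀ = _
      rw [map_mul]; rfl
    | zero => rw [map_zero]; exact zero_mem _
    | add x y _ _ h h' => rw [map_add]; exact add_mem h h'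
    | smul r x _ h => rw [LinearMap.map_smul_of_tower]; exact W.smul_mem r h
  let act : MulAction ↥T ↥W :=
    { smul := fun s x => ⟨ext ρ s x.1, hWinv s x.1 x.2⟩
      one_smul := fun x => Subtype.ext (show ext ρ ((1 : ↥T) : S) x.1 = x.1 by simp)
      mul_smul := fun s t x => Subtype.ext (show ext ρ ((s * t : ↥T) : S) x.1 = _ by
        rw [Subgroup.coe_mul, map_mul]; rfl) }
  have hu₀W : u₀ ∈ W := Submodule.subset_span ⟨1, by simp⟩
  have hnt : Nontrivial ↥W := ⟨⟨⟨u₀, hu₀W⟩, 0, fun e => hu₀0 (congrArg Subtype.val e)⟩⟩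
  have hdvd : 2 ∣ Nat.card ↥W := by
    rw [Module.natCard_eq_pow_finrank (K := F2), Nat.card_zmod]
    exact dvd_pow_self 2 Module.finrank_pos.ne'
  obtain ⟨x, hx, hx0⟩ := hT.exists_fixed_point_of_prime_dvd_card_of_fixed_point (α := ↥W) hdvd
    (a := 0) (fun s => Subtype.ext (map_zero (ext ρ (s : S))))
  exact ⟨x.1, hWU x.2, fun e => hx0 (Subtype.ext e).symm, fun s hs =>
    congrArg Subtype.val (hx ⟨s, hs⟩)⟩


set_option maxHeartbeats 400000 in
theorem core {V : Type*} [AddCommGroup V] [Module L2 V] [Nontrivial V] (σ : S →* Module.End L2 V)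
    {M : Type*} [CommGroup M] [Fintype M] (ι : M →* S)
    (hι : Function.Injective ι) [hSpN : ι.range.Normal]
    (hMcard : (Fintype.card M : L2) ≠ 0) {q : ℕ} (hq : q.Prime) (hq2 : q ≠ 2)
    (S₂ : Sylow 2 S) (Sq : Sylow q S)
    (h2q : Nat.card ↥((S₂ : Subgroup S) ⊔ (Sq : Subgroup S)) = Nat.card ↥S₂ * Nat.card ↥Sq)
    (hSq : Nat.card ↥Sq = q) (hcomm : ⁅ι.range, (Sq : Subgroup S)⁆ = ι.range)
    (hSp : ∀ v : V, (∀ m, σ (ι m) v = v) → v = 0)
    (hvec : ∀ U : Submodule L2 V, (∀ s ∈ (S₂ : Subgroup S), ∀ u ∈ U, σ s u ∈ U) → U ≠ ⊥ →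
      ∃ u ∈ U, u ≠ 0 ∧ ∀ s ∈ (S₂ : Subgroup S), σ s u = u)
    (N : ℕ) (hB : ∀ (n : ℕ) (v : Fin n → V), LinearIndependent L2 v →
      (∀ i, ∀ s ∈ (S₂ : Subgroup S), σ s (v i) = v i) → 2 ^ n ≤ N) :
    4 ≤ N ∧ (8 ≤ N ∨ ¬ ∀ x ∈ (Sq : Subgroup S), ∀ u : V, (∀ s ∈ (S₂ : Subgroup S), σ s u = u) →
      ∀ s ∈ (S₂ : Subgroup S), σ s (σ x u) = σ x u) := by
  classical
  have : Fact (Nat.Prime 2) := ⟨Nat.prime_two⟩
  have : Fact q.Prime := ⟨hq⟩
  let f : M →* Module.End L2 V := σ.comp ι
  have := WeightIdem.finite_weights (K := L2) (M := M) hMcard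
  letI : Fintype (M →* L2ˣ) := Fintype.ofFinite _
  let e : (M →* L2ˣ) → Module.End L2 V := fun lam => WeightIdem.idem (R := Module.End L2 V) f lam
  have esum : ∀ v, ∑ lam, e lam v = v := fun v => by
    show ∑ lam : M →* L2ˣ, (WeightIdem.idem (R := Module.End L2 V) f lam) v = v
    rw [← LinearMap.sum_apply, WeightIdem.sum_idem (R := Module.End L2 V) f hMcard]; rfl
  let eι := MonoidHom.ofInjective hι
  let β : S →* MulAut M :=
    { toFun := fun g => (eι.trans (MulAut.conjNormal g)).trans eι.symm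
      map_one' := MulEquiv.ext fun m => by
        show eι.symm (MulAut.conjNormal (1 : S) (eι m)) = m
        rw [map_one, MulAut.one_apply, MulEquiv.symm_apply_apply]
      map_mul' := fun g h => MulEquiv.ext fun m => by
        show eι.symm (MulAut.conjNormal (g * h) (eι m)) =
          eι.symm (MulAut.conjNormal g (eι (eι.symm (MulAut.conjNormal h (eι m)))))
        rw [MulEquiv.apply_symm_apply, map_mul, MulAut.mul_apply] }
  have hβ : ∀ g m, ι (β g m) = g * ι m * g⁻¹ := fun g m => by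
    show ι (eι.symm (MulAut.conjNormal g (eι m))) = _
    rw [MonoidHom.apply_ofInjective_symm hι, MulAut.conjNormal_apply]; rfl
  let act : S → (M →* L2ˣ) → (M →* L2ˣ) := fun g lam => lam.comp (β g).symm.toMonoidHom
  have act_apply : ∀ g lam (m : M), act g lam m = lam ((β g).symm m) := fun g lam m => rfl
  letI actW : MulAction S (M →* L2ˣ) :=
    { smul := act
      one_smul := fun lam => MonoidHom.ext fun m => by
        show lam ((β 1).symm m) = lam m
        congr 1; simp only [β, map_one]; rfl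
      mul_smul := fun g h lam => MonoidHom.ext fun m => by
        show lam ((β (g * h)).symm m) = lam ((β h).symm ((β g).symm m))
        congr 1; simp only [β, map_mul]; rfl }
  have hsmul : ∀ (g : S) (lam : M →* L2ˣ), g • lam = lam.comp (β g).symm.toMonoidHom :=
    fun g lam => rfl
  have h0 : ∀ (g : S) (m : M), σ g * f m = f (β g m) * σ g := by
    intro g m
    show σ g * σ (ι m) = σ (ι (β g m)) * σ g
    rw [← map_mul, ← map_mul, hβ, inv_mul_cancel_right]
  have hconj : ∀ (g : S) (lam : M →* L2ˣ), σ g * e lam = e (g • lam) * σ g := by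
    intro g lam
    rw [hsmul]
    exact WeightIdem.conj_idem (R := Module.End L2 V) f lam (β g) (σ g) (h0 g)
  -- the weights which occur
  let Om : Set (M →* L2ˣ) := {lam | e lam ≠ 0}
  have hOm : ∀ (g : S) (lam : M →* L2ˣ), lam ∈ Om → g • lam ∈ Om := by
    intro g lam hl h
    apply hl
    have := hconj g lam
    rw [h, zero_mul] at this
    calc e lam = σ g⁻¹ * (σ g * e lam) := by
          rw [← mul_assoc, ← map_mul, inv_mul_cancel, map_one, one_mul]
      _ = 0 := by rw [this, mul_zero]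
  obtain ⟨lam0, hlam0⟩ : ∃ lam, lam ∈ Om := by
    by_contra h
    push Not at h
    obtain ⟨v, hv⟩ := exists_ne (0 : V)
    apply hv
    rw [← esum v]
    exact Finset.sum_eq_zero fun lam _ => by
      rw [show e lam = 0 from not_not.1 (h lam)]; rfl
  have hone : ∀ lam ∈ Om, lam ≠ 1 := by
    rintro _ hl rfl
    apply hl
    apply LinearMap.ext
    intro v
    show e 1 v = 0
    refine hSp _ fun m => ?_
    have h : f m * e 1 = ((1 : M →* L2ˣ) m : L2) • e 1 :=
      WeightIdem.apply_mul_idem (R := Module.End L2 V) f 1 m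
    have h' := LinearMap.congr_fun h v
    simp only [MonoidHom.one_apply, Units.val_one, one_smul] at h'
    exact h'
  -- no weight is fixed by an element of order `q`
  have hfree : ∀ g : S, orderOf g = q → ∀ lam ∈ Om, g • lam ≠ lam := by
    intro g hg lam hl hfix
    obtain ⟨Qg, hQg⟩ := (IsPGroup.of_card (p := q) (n := 1) (by
      rw [Nat.card_zpowers, hg, pow_one]) : IsPGroup q ↥(Subgroup.zpowers g)).exists_le_sylow
    obtain ⟨c, hc⟩ := MulAction.exists_smul_eq S Qg Sq
    have hfixq : ∀ x ∈ (Sq : Subgroup S), x • (c • lam) = c • lam := by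
      have hQeq : (Qg : Subgroup S) = Subgroup.zpowers g := by
        refine (Subgroup.eq_of_le_of_card_ge hQg (le_of_eq ?_)).symm
        rw [Nat.card_zpowers, hg, Sylow.card_eq_multiplicity, ← Sylow.card_eq_multiplicity Sq]; exact hSq
      intro x hx
      rw [← hc, Sylow.coe_subgroup_smul, hQeq, Subgroup.mem_pointwise_smul_iff_inv_smul_mem] at hx
      obtain ⟨j, hj⟩ := Subgroup.mem_zpowers_iff.1 hx
      have hgj : g ^ j • lam = lam := by
        rw [← MulAction.mem_stabilizer_iff]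
        exact zpow_mem (MulAction.mem_stabilizer_iff.2 hfix) j
      have hx' : x = c * g ^ j * c⁻¹ := by
        rw [hj, MulAut.smul_def, MulAut.inv_apply, MulAut.conj_symm_apply]; group
      rw [hx', mul_smul, mul_smul, inv_smul_smul, hgj]
    apply hone _ (hOm c lam hl)
    have hle : ⁅ι.range, (Sq : Subgroup S)⁆ ≤
        (c • lam).ker.map ι := by
      rw [Subgroup.commutator_le]
      rintro _ ⟨m, rfl⟩ x hx
      refine ⟨m * (β x m)⁻¹, ?_, ?_⟩
      · have h2 := DFunLike.congr_fun (hfixq x hx) (β x m)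
        rw [show (x • (c • lam)) (β x m) = (c • lam) ((β x).symm (β x m)) from rfl,
          MulEquiv.symm_apply_apply] at h2
        show (c • lam) (m * (β x m)⁻¹) = 1
        rw [map_mul, map_inv, ← h2, mul_inv_cancel]
      · show ι (m * (β x m)⁻¹) = ⁅ι m, x⁆
        rw [map_mul, map_inv, hβ, commutatorElement_def]; group
    rw [hcomm] at hle
    apply MonoidHom.ext
    intro m
    obtain ⟨k, hk, hkm⟩ := hle (⟨m, rfl⟩ : ι m ∈ ι.range)
    rw [show m = k from hι hkm.symm]
    exact hk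
  -- the complement `K`
  set K : Subgroup S := (S₂ : Subgroup S) ⊔ (Sq : Subgroup S) with hK
  have h2K : (S₂ : Subgroup S) ≤ K := le_sup_left
  have hqK : (Sq : Subgroup S) ≤ K := le_sup_right
  obtain ⟨a, ha⟩ := IsPGroup.iff_card.1 S₂.2
  have hq_odd : ¬ q ∣ 2 ^ a := fun h =>
    hq2 ((Nat.prime_dvd_prime_iff_eq hq Nat.prime_two).1 (hq.dvd_of_dvd_pow h))
  have hKcard : Nat.card ↥K = 2 ^ a * q := by
    rw [hK, h2q, hSq]; exact congrArg (· * q) ha
  have horbit : ∀ lam ∈ Om, ∃ mu ∈ Om, mu ∈ MulAction.orbit ↥K lam ∧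
      mu ∉ MulAction.orbit ↥(S₂ : Subgroup S) lam := by
    intro lam hl
    by_contra hcon
    push Not at hcon
    have hsub : MulAction.orbit ↥K lam ⊆ MulAction.orbit ↥(S₂ : Subgroup S) lam := by
      rintro _ ⟨k, rfl⟩
      exact hcon _ (hOm k lam hl) ⟨k, rfl⟩
    have heq : MulAction.orbit ↥K lam = MulAction.orbit ↥(S₂ : Subgroup S) lam := by
      refine Set.Subset.antisymm hsub ?_
      rintro _ ⟨s, rfl⟩
      exact ⟨⟨s, h2K s.2⟩, rfl⟩
    have h1 := Nat.card_congr (MulAction.orbitEquivQuotientStabilizer ↥K lam)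
    rw [← Subgroup.index_eq_card] at h1
    have h2 : Nat.card ↥(MulAction.orbit ↥(S₂ : Subgroup S) lam) ∣ 2 ^ a := by
      rw [← ha, Nat.card_congr (MulAction.orbitEquivQuotientStabilizer ↥(S₂ : Subgroup S) lam)]
      exact Subgroup.card_quotient_dvd_card _
    rw [← heq, h1] at h2
    have h3 := (MulAction.stabilizer ↥K lam).card_mul_index
    rw [hKcard] at h3
    have hqs : q ∣ Nat.card ↥(MulAction.stabilizer ↥K lam) := by
      have h4 : q ∣ Nat.card ↥(MulAction.stabilizer ↥K lam) * (MulAction.stabilizer ↥K lam).index := by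
        rw [h3]; exact dvd_mul_left q _
      exact (hq.dvd_mul.1 h4).resolve_right fun h => hq_odd (h.trans h2)
    obtain ⟨g, hg⟩ := exists_prime_orderOf_dvd_card' q hqs
    exact hfree ((g.1 : ↥K) : S) (by rw [Subgroup.orderOf_coe, Subgroup.orderOf_coe, hg]) lam hl g.2
  -- subspaces attached to orbits
  let UO : Set (M →* L2ˣ) → Submodule L2 V := fun O =>
    { carrier := {v | ∀ mu, mu ∉ O → e mu v = 0}
      zero_mem' := fun mu _ => map_zero _
      add_mem' := fun {v w} hv hw mu h => by rw [map_add, hv mu h, hw mu h, add_zero]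
      smul_mem' := fun r v hv mu h => by rw [map_smul, hv mu h, smul_zero] }
  have hUO : ∀ (lam : M →* L2ˣ), lam ∈ Om →
      ∃ v, v ∈ UO (MulAction.orbit ↥(S₂ : Subgroup S) lam) ∧ v ≠ 0 ∧
        ∀ s ∈ (S₂ : Subgroup S), σ s v = v := by
    intro lam hl
    refine hvec _ ?_ ?_
    · intro s hs u hu mu hmu
      have hmu' : s⁻¹ • mu ∉ MulAction.orbit ↥(S₂ : Subgroup S) lam := by
        rintro ⟨t, ht⟩
        apply hmu
        refine ⟨⟨s, hs⟩ * t, ?_⟩
        show ((s * t : S)) • lam = mu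
        rw [mul_smul, show (t : S) • lam = s⁻¹ • mu from ht, smul_inv_smul]
      have hh := LinearMap.congr_fun (hconj s (s⁻¹ • mu)) u
      rw [smul_inv_smul] at hh
      rw [show e mu (σ s u) = σ s (e (s⁻¹ • mu) u) from hh.symm, hu _ hmu', map_zero]
    · intro hbot
      apply hl
      apply LinearMap.ext
      intro v
      have : e lam v ∈ UO (MulAction.orbit ↥(S₂ : Subgroup S) lam) := fun mu hmu => by
        rw [← Module.End.mul_apply]
        have hne : mu ≠ lam := fun h => hmu (by rw [h]; exact MulAction.mem_orbit_self lam)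
        rw [show e mu * e lam = 0 from WeightIdem.idem_orth (R := Module.End L2 V) f hMcard hne]; rfl
      rw [hbot, Submodule.mem_bot] at this
      exact this
  have hli : ∀ {ι : Type} [Fintype ι] (lam : ι → (M →* L2ˣ)) (v : ι → V),
      (∀ i, v i ∈ UO (MulAction.orbit ↥(S₂ : Subgroup S) (lam i))) → (∀ i, v i ≠ 0) →
      (∀ i j, i ≠ j → lam j ∉ MulAction.orbit ↥(S₂ : Subgroup S) (lam i)) →
      LinearIndependent L2 v := by
    intro ι _ lam v hv hv0 hdis
    rw [Fintype.linearIndependent_iff]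
    intro c hc i
    obtain ⟨mu, hmu⟩ : ∃ mu, e mu (v i) ≠ 0 := by
      by_contra h
      push Not at h
      exact hv0 i (by rw [← esum (v i)]; exact Finset.sum_eq_zero fun mu _ => h mu)
    have hmuO : mu ∈ MulAction.orbit ↥(S₂ : Subgroup S) (lam i) :=
      by_contra fun h => hmu (hv i mu h)
    have h1 := congrArg (e mu) hc
    rw [map_sum, map_zero, Finset.sum_eq_single i] at h1
    · rw [map_smul] at h1
      exact (smul_eq_zero.1 h1).resolve_right hmu
    · intro j _ hj
      rw [map_smul, hv j mu, smul_zero]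
      intro hmj
      refine hdis j i hj ?_
      rw [← MulAction.orbit_eq_iff] at hmuO hmj
      rw [← MulAction.orbit_eq_iff, ← hmuO, hmj]
    · intro h; exact absurd (Finset.mem_univ i) h
  obtain ⟨lam1, hlam1, -, hlam1O⟩ := horbit lam0 hlam0
  choose v hv using hUO
  have h4 : 4 ≤ N := by
    have hlam : ∀ i : Fin 2, (![lam0, lam1] i) ∈ Om := by intro i; fin_cases i <;> assumption
    have := hB 2 (fun i : Fin 2 => v _ (hlam i))
      (hli ![lam0, lam1] _ (fun i => (hv _ (hlam i)).1) (fun i => (hv _ (hlam i)).2.1) (by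
        intro i j hij hj
        fin_cases i <;> fin_cases j <;> simp at hij hj
        · exact hlam1O hj
        · exact hlam1O (MulAction.mem_orbit_symm.1 hj)))
      (fun i => (hv _ (hlam i)).2.2)
    simpa using this
  refine ⟨h4, ?_⟩
  by_cases h8 : 8 ≤ N
  · exact Or.inl h8
  refine Or.inr fun hinv => ?_
  let St : Subgroup S :=
    { carrier := {g | ∀ u : V, (∀ s ∈ (S₂ : Subgroup S), σ s u = u) ↔
          (∀ s ∈ (S₂ : Subgroup S), σ s (σ g u) = σ g u)}
      one_mem' := fun u => by simp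
      mul_mem' := fun {g h} hg hh u => by rw [hh u, hg (σ h u), map_mul]; rfl
      inv_mem' := fun {g} hg u => by
        rw [hg (σ g⁻¹ u), ← Module.End.mul_apply, ← map_mul, mul_inv_cancel, map_one]; rfl }
  have hKSt : K ≤ St := by
    refine sup_le (fun t ht u => ?_) (fun x hx u => ⟨fun hu => hinv x hx u hu, fun hu => ?_⟩)
    · constructor
      · intro hu s hs
        rw [hu t ht]; exact hu s hs
      · intro hu
        have := hu t⁻¹ (inv_mem ht)
        rw [← Module.End.mul_apply, ← map_mul, inv_mul_cancel, map_one, Module.End.one_apply] at this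
        intro s hs
        have h2 := hu s hs
        rwa [← this] at h2
    · have := hinv x⁻¹ (inv_mem hx) _ hu
      rw [← Module.End.mul_apply, ← map_mul, inv_mul_cancel, map_one] at this
      exact this
  let C : Subgroup S :=
    { carrier := {g | ∀ u : V, (∀ s ∈ (S₂ : Subgroup S), σ s u = u) → σ g u = u}
      one_mem' := fun u _ => by simp
      mul_mem' := fun {g h} hg hh u hu => by rw [map_mul, Module.End.mul_apply, hh u hu, hg u hu]
      inv_mem' := fun {g} hg u hu => by
        conv_lhs => rw [← hg u hu]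
        rw [← Module.End.mul_apply, ← map_mul, inv_mul_cancel, map_one]; rfl }
  have hconjC : ∀ k ∈ K, ∀ s ∈ (S₂ : Subgroup S), k * s * k⁻¹ ∈ C := by
    intro k hk s hs u hu
    have hw := (hKSt (inv_mem hk) u).1 hu
    rw [map_mul, map_mul, Module.End.mul_apply, Module.End.mul_apply, hw s hs,
      ← Module.End.mul_apply, ← map_mul, mul_inv_cancel, map_one]
    rfl
  by_cases hnorm : ∀ k ∈ K, ∀ s ∈ (S₂ : Subgroup S), k * s * k⁻¹ ∈ (S₂ : Subgroup S)
  · -- three orbits
    apply h8
    obtain ⟨y, hy⟩ : ∃ y : ↥(Sq : Subgroup S), orderOf y = q :=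
      exists_prime_orderOf_dvd_card' q (dvd_of_eq hSq.symm)
    have hyS : orderOf (y : S) = q := by rw [Subgroup.orderOf_coe, hy]
    have hout : ∀ i : ℕ, 0 < i → i < q →
        ((y : S) ^ i) • lam0 ∉ MulAction.orbit ↥(S₂ : Subgroup S) lam0 := by
      rintro i hi0 hiq ⟨s, hs⟩
      set g := (s : S)⁻¹ * (y : S) ^ i with hg
      have hgK : g ∈ K := mul_mem (inv_mem (h2K s.2)) (pow_mem (hqK y.2) i)
      have hgfix : g • lam0 = lam0 := by
        rw [hg, mul_smul, ← hs]; exact inv_smul_smul (s : S) lam0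
      have hdvd : orderOf g ∣ 2 ^ a * q := by
        rw [← hKcard, ← show orderOf (⟨g, hgK⟩ : ↥K) = orderOf g from Subgroup.orderOf_mk ..]; exact orderOf_dvd_natCard _
      have hqg : ¬ q ∣ orderOf g := by
        intro h
        refine hfree (g ^ (orderOf g / q)) (orderOf_pow_orderOf_div (orderOf_pos g).ne' h) lam0 hlam0 ?_
        exact MulAction.mem_stabilizer_iff.1
          (pow_mem (MulAction.mem_stabilizer_iff.2 hgfix : g ∈ MulAction.stabilizer S lam0) _)
      have h2g : IsPGroup 2 ↥(Subgroup.zpowers g) := by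
        have hd : orderOf g ∣ 2 ^ a :=
          ((hq.coprime_iff_not_dvd.2 hqg).symm).dvd_of_dvd_mul_right hdvd
        obtain ⟨j, -, hj⟩ := (Nat.dvd_prime_pow Nat.prime_two).1 hd
        exact IsPGroup.of_card (n := j) (by rw [Nat.card_zpowers, hj])
      have hgS₂ : g ∈ (S₂ : Subgroup S) := by
        have hgn : Subgroup.zpowers g ≤ Subgroup.normalizer ((S₂ : Subgroup S) : Set S) :=
          (Subgroup.zpowers_le).2 (Subgroup.mem_normalizer_iff.2 fun x => ⟨hnorm g hgK x, fun hx => by
            have := hnorm g⁻¹ (inv_mem hgK) _ hx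
            simpa [mul_assoc] using this⟩)
        have hsup := IsPGroup.to_sup_of_normal_right' h2g S₂.2 hgn
        exact (S₂.3 hsup le_sup_right).le (Subgroup.mem_sup_left (Subgroup.mem_zpowers g))
      have hyi : (y : S) ^ i ∈ (S₂ : Subgroup S) := by
        simpa [hg] using mul_mem s.2 hgS₂
      have hord : orderOf ((y : S) ^ i) = q := by
        rw [Nat.Coprime.orderOf_pow, hyS]
        rw [hyS]
        exact hq.coprime_iff_not_dvd.2 fun h => absurd (Nat.le_of_dvd hi0 h) (by omega)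
      have hd : orderOf ((y : S) ^ i) ∣ 2 ^ a := by
        rw [← ha, ← show orderOf (⟨_, hyi⟩ : ↥(S₂ : Subgroup S)) = orderOf ((y : S) ^ i) from Subgroup.orderOf_mk ..]; exact orderOf_dvd_natCard _
      rw [hord] at hd
      exact hq_odd hd
    have hq3 : 3 ≤ q := by have := hq.two_le; omega
    let lams : Fin 3 → (M →* L2ˣ) := fun i => ((y : S) ^ (i : ℕ)) • lam0
    have hl : ∀ i, lams i ∈ Om := fun i => hOm _ _ hlam0
    have hsep : ∀ i j : Fin 3, i < j → lams j ∉ MulAction.orbit ↥(S₂ : Subgroup S) (lams i) := by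
      rintro i j hij ⟨s, hs⟩
      refine hout ((j : ℕ) - i) (Nat.sub_pos_of_lt hij) (by omega) ?_
      refine ⟨⟨((y : S) ^ (i : ℕ))⁻¹ * s * (y : S) ^ (i : ℕ), ?_⟩, ?_⟩
      · simpa using hnorm _ (inv_mem (pow_mem (hqK y.2) (i : ℕ))) s s.2
      · show (((y : S) ^ (i : ℕ))⁻¹ * s * (y : S) ^ (i : ℕ)) • lam0 = _
        rw [mul_smul, mul_smul, show (s : S) • lams i = lams j from hs]
        show ((y : S) ^ (i : ℕ))⁻¹ • ((y : S) ^ (j : ℕ)) • lam0 = _
        have hij' : (i : ℕ) ≤ (j : ℕ) := le_of_lt hij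
        rw [← mul_smul, ← pow_mul_pow_sub (y : S) hij', inv_mul_cancel_left]
    have := hB 3 (fun i => v _ (hl i))
      (hli lams _ (fun i => (hv _ (hl i)).1) (fun i => (hv _ (hl i)).2.1) (by
        intro i j hij hj
        rcases lt_or_gt_of_ne hij with h | h
        · exact hsep i j h hj
        · exact hsep j i h (MulAction.mem_orbit_symm.1 hj)))
      (fun i => (hv _ (hl i)).2.2)
    simpa using this
  · push Not at hnorm
    obtain ⟨k₀, hk₀, s₀, hs₀, hks⟩ := hnorm
    let D : Subgroup S := C ⊓ K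
    have hS₂D : (S₂ : Subgroup S) < D := by
      refine lt_of_le_of_ne (fun s hs => ⟨fun u hu => hu s hs, h2K hs⟩) fun e => hks ?_
      rw [e]; exact Subgroup.mem_inf.2 ⟨hconjC k₀ hk₀ s₀ hs₀, mul_mem (mul_mem hk₀ (h2K hs₀)) (inv_mem hk₀)⟩
    have hDK : D = K := by
      refine Subgroup.eq_of_le_of_card_ge inf_le_right ?_
      obtain ⟨c, hc⟩ := Subgroup.card_dvd_of_le hS₂D.le
      have h1 : Nat.card ↥D ∣ 2 ^ a * q := by
        rw [← hKcard]; exact Subgroup.card_dvd_of_le inf_le_right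
      rw [hc, ha] at h1
      have hcq : c ∣ q := Nat.dvd_of_mul_dvd_mul_left (pow_pos two_pos a) h1
      rcases (Nat.dvd_prime hq).1 hcq with rfl | rfl
      · exfalso
        exact hS₂D.ne (Subgroup.eq_of_le_of_card_ge hS₂D.le (by rw [hc, mul_one]))
      · rw [hKcard, hc, ha]
    have hv0 := hv lam0 hlam0
    obtain ⟨mu, hmu⟩ : ∃ mu, e mu (v lam0 hlam0) ≠ 0 := by
      by_contra h
      push Not at h
      exact hv0.2.1 (by rw [← esum (v lam0 hlam0)]; exact Finset.sum_eq_zero fun mu _ => h mu)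
    have hmuO : mu ∈ MulAction.orbit ↥(S₂ : Subgroup S) lam0 :=
      by_contra fun h => hmu (hv0.1 mu h)
    have hmuOm : mu ∈ Om := fun h => hmu (by rw [h]; rfl)
    obtain ⟨nu, -, ⟨k, rfl⟩, hnu⟩ := horbit mu hmuOm
    apply hnu
    rw [← MulAction.orbit_eq_iff] at hmuO
    rw [hmuO]
    by_contra hout
    apply hmu
    have hkC : σ (k : S) (v lam0 hlam0) = v lam0 hlam0 := by
      have : (k : S) ∈ D := hDK.ge k.2
      exact this.1 _ hv0.2.2
    have hh := LinearMap.congr_fun (hconj (k : S) mu) (v lam0 hlam0)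
    simp only [Module.End.mul_apply] at hh
    rw [hkC, hv0.1 ((k : S) • mu) hout] at hh
    have h2 := congrArg (σ (k : S)⁻¹) hh
    rw [← Module.End.mul_apply, ← map_mul, inv_mul_cancel, map_one, map_zero] at h2
    exact h2

open scoped IsMulCommutative in
/-- Let S be a finite solvable group whose order is divisible only by the primes 2, p, q (p, q distinct odd primes), with a Sylow system S₂, S_p, S_q (pairwise permutable Sylow subgroups) such that: S_p is a minimal normal subgroup of S of order p or p²; S_q has order q and [S_p, S_q] = S_p; and O₂(S) = 1. Let E be an irreducible module for S over the field with two elements on which S_p acts faithfully, and E₀ the subspace of fixed points of S₂. Then either E₀ has at least 8 elements, or E₀ has exactly 4 elements and S_q does not leave E₀ invariant. -/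
theorem result {S : Type*} [Group S] [Finite S]
    [Group.IsSolvable S] (p q : ℕ) (hp : p.Prime) (hq : q.Prime) (hp2 : p ≠ 2) (hq2 : q ≠ 2) (hpq : p ≠ q)
    (hπ : ∀ r : ℕ, r.Prime → r ∣ Nat.card S → r = 2 ∨ r = p ∨ r = q)
    (S₂ : Sylow 2 S) (Sp : Sylow p S) (Sq : Sylow q S)
    (h2q : Nat.card ↥((S₂ : Subgroup S) ⊔ (Sq : Subgroup S)) = Nat.card ↥S₂ * Nat.card ↥Sq)
    (h2p : Nat.card ↥((S₂ : Subgroup S) ⊔ (Sp : Subgroup S)) = Nat.card ↥S₂ * Nat.card ↥Sp)
    (hpq' : Nat.card ↥((Sp : Subgroup S) ⊔ (Sq : Subgroup S)) = Nat.card ↥Sp * Nat.card ↥Sq)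
    (hSpN : (Sp : Subgroup S).Normal) (hSpmin : ∀ N : Subgroup S, N.Normal → N ≤ (Sp : Subgroup S) → N = ⊥ ∨ N = (Sp : Subgroup S))
    (hSpcard : Nat.card ↥Sp = p ∨ Nat.card ↥Sp = p ^ 2)
    (hSq : Nat.card ↥Sq = q) (hcomm : ⁅(Sp : Subgroup S), (Sq : Subgroup S)⁆ = (Sp : Subgroup S))
    (hO2 : Cfsg.pCore 2 S = ⊥)
    {E : Type*} [AddCommGroup E] [Module (ZMod 2) E] [Finite E] (ρ : Representation (ZMod 2) S E) (hE : Nontrivial E)
    (hirr : ∀ N : Submodule (ZMod 2) E, (∀ s : S, ∀ m ∈ N, ρ s m ∈ N) → N = ⊥ ∨ N = ⊤)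
    (hfaith : ∀ x ∈ (Sp : Subgroup S), ρ x = 1 → x = 1) :
    8 ≤ Nat.card {v : E // ∀ s ∈ (S₂ : Subgroup S), ρ s v = v} ∨
      (Nat.card {v : E // ∀ s ∈ (S₂ : Subgroup S), ρ s v = v} = 4 ∧
        ∃ x ∈ (Sq : Subgroup S), ∃ v : E, (∀ s ∈ (S₂ : Subgroup S), ρ s v = v) ∧ ¬ ∀ s ∈ (S₂ : Subgroup S), ρ s (ρ x v) = ρ x v) := by
  classical
  have : Fact p.Prime := ⟨hp⟩
  have : (Sp : Subgroup S).Normal := hSpN
  have hMab : IsMulCommutative ↥(Sp : Subgroup S) := by
    rcases hSpcard with h | h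
    · have := isCyclic_of_prime_card (p := p) (α := ↥(Sp : Subgroup S)) h
      exact IsCyclic.isMulCommutative
    · exact IsPGroup.isMulCommutative_of_card_eq_prime_sq (p := p) h
  let iFT : Fintype ↥(Sp : Subgroup S) := Fintype.ofFinite _
  have hrange : (Sp : Subgroup S).subtype.range = (Sp : Subgroup S) := Subgroup.range_subtype _
  have : ((Sp : Subgroup S).subtype.range).Normal := by rw [hrange]; exact hSpN
  have hcard : (Fintype.card ↥(Sp : Subgroup S) : L2) ≠ 0 := by
    rw [← Nat.card_eq_fintype_card, Ne, CharP.cast_eq_zero_iff L2 2]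
    intro h
    rcases (show Nat.card ↥(Sp : Subgroup S) = p ∨ Nat.card ↥(Sp : Subgroup S) = p ^ 2 from hSpcard) with h' | h' <;> rw [h'] at h
    · exact hp2 ((Nat.prime_dvd_prime_iff_eq Nat.prime_two hp).1 h).symm
    · exact hp2 ((Nat.prime_dvd_prime_iff_eq Nat.prime_two hp).1 (Nat.prime_two.dvd_of_dvd_pow h)).symm
  have hne : (Sp : Subgroup S) ≠ ⊥ := by
    intro hb
    have h1 : Nat.card ↥Sp = 1 := Subgroup.card_eq_one.2 hb
    rcases hSpcard with h' | h' <;> rw [h1] at h'
    · exact hp.ne_one h'.symm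
    · exact (Nat.one_lt_pow two_ne_zero hp.one_lt).ne h'
  have hbot : fixW ρ (Sp : Subgroup S) = ⊥ := by
    refine (hirr (fixW ρ (Sp : Subgroup S)) fun g m hm s hs => ?_).resolve_right fun htop => hne ?_
    · have h1 := hm (g⁻¹ * s * g) (by simpa using hSpN.conj_mem s hs g⁻¹)
      calc ρ s (ρ g m) = ρ g (ρ (g⁻¹ * s * g) m) := by
            rw [← Module.End.mul_apply, ← Module.End.mul_apply, ← map_mul, ← map_mul]; group
        _ = ρ g m := by rw [h1]
    · rw [Subgroup.eq_bot_iff_forall]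
      intro x hx
      refine hfaith x hx (LinearMap.ext fun v => ?_)
      exact (show v ∈ fixW ρ (Sp : Subgroup S) by rw [htop]; trivial) x hx
  have hntV : Nontrivial (L2 ⊗[F2] E) := by
    have : Module.Finite F2 E := Module.Finite.of_finite
    refine Module.nontrivial_of_finrank_pos (R := L2) ?_
    rw [Module.finrank_baseChange]; exact Module.finrank_pos
  obtain ⟨h4, hcases⟩ := core (ext ρ) (M := ↥(Sp : Subgroup S)) (Sp : Subgroup S).subtype
    Subtype.val_injective hcard hq hq2 S₂ Sq h2q hSq (by rw [hrange]; exact hcomm)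
    (fun v hv => by
      obtain ⟨w, hw⟩ := fixed_ext ρ (Sp : Subgroup S) v fun s hs => hv ⟨s, hs⟩
      rw [← hw]
      have : Subsingleton ↥(fixW ρ (Sp : Subgroup S)) := by rw [hbot]; infer_instance
      have : Subsingleton (L2 ⊗[F2] ↥(fixW ρ (Sp : Subgroup S))) :=
        subsingleton_of_forall_eq 0 fun z => by
          induction z using TensorProduct.induction_on with
          | zero => rfl
          | tmul c x => rw [Subsingleton.elim x 0, TensorProduct.tmul_zero]
          | add x y hx hy => rw [hx, hy, add_zero]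
      rw [Subsingleton.elim w 0, map_zero])
    (exists_fixed_vec ρ (S₂ : Subgroup S) S₂.2)
    (Nat.card {w : E // ∀ s ∈ (S₂ : Subgroup S), ρ s w = w})
    (fun n v hli hv => by simpa using card_fixed_le ρ (S₂ : Subgroup S) v hli hv)
  by_cases h8 : 8 ≤ Nat.card {w : E // ∀ s ∈ (S₂ : Subgroup S), ρ s w = w}
  · exact Or.inl h8
  refine Or.inr ⟨?_, ?_⟩
  · have hfin : Module.Finite F2 ↥(fixW ρ (S₂ : Subgroup S)) := Module.Finite.of_finite
    change Nat.card ↥(fixW ρ (S₂ : Subgroup S)) = 4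
    change ¬ 8 ≤ Nat.card ↥(fixW ρ (S₂ : Subgroup S)) at h8
    change 4 ≤ Nat.card ↥(fixW ρ (S₂ : Subgroup S)) at h4
    rw [Module.natCard_eq_pow_finrank (K := F2), Nat.card_zmod] at h8 h4 ⊢
    have : Module.finrank F2 ↥(fixW ρ (S₂ : Subgroup S)) = 2 := by
      refine le_antisymm ?_ ?_
      · by_contra h
        exact h8 ((show 8 = 2 ^ 3 by norm_num) ▸ Nat.pow_le_pow_right (by norm_num) (by omega))
      · by_contra h
        have := Nat.pow_le_pow_right (show 1 ≤ 2 by norm_num)
          (show Module.finrank F2 ↥(fixW ρ (S₂ : Subgroup S)) ≤ 1 by omega)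
        omega
    rw [this]; norm_num
  by_contra hinv
  push Not at hinv
  refine hcases.resolve_left h8 fun x hx u hu s hs => ?_
  obtain ⟨w, rfl⟩ := fixed_ext ρ _ u hu
  clear hu
  induction w using TensorProduct.induction_on with
  | zero => simp
  | tmul c w =>
    show ext ρ s (ext ρ x (c ⊗ₜ (w : E))) = ext ρ x (c ⊗ₜ (w : E))
    rw [ext_tmul, ext_tmul, hinv x hx (w : E) w.2 s hs]
  | add w w' h h' => simp only [map_add, h, h']

end Cfsg.Agent.S4414
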