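import Cfsg.Statements.S4416
import Mathlib
import Cfsg.Agent.Lib.Solv.ExtraspecialTwo

set_option autoImplicit false
open Cfsg

namespace Cfsg.Agent.S4416

open Cfsg.Agent.Solv.ExtTwo

universe u v w

variable {E : Type u} [Group E] [Finite E] {z a b : E} {α β : ℕ}

theorem pair_count (h : Pair a b z α β) {C : Type w} [Group C] [Finite C] (ι : C →* E) (zc : C)
    (hz : ι zc = z) (hinj : Function.Injective ι) (hcC : ∀ c, Commute (ι c) a ∧ Commute (ι c) b)
    (hgen : ∀ g : E, ∃ x c, g = FreeGroup.lift (fun t => cond t a b) x * ι c)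
    (hcard : Nat.card E = 4 * Nat.card C) :
    Nat.card {g : E // g ^ 2 = 1} = ∑ p : Fin 2 × Fin 2,
      if Even (α * (p.1 : ℕ) + β * (p.2 : ℕ) + (p.2 : ℕ) * (p.1 : ℕ)) then Nat.card {c : C // c ^ 2 = 1}
      else Nat.card C - Nat.card {c : C // c ^ 2 = 1} := by
  classical
  haveI := Fintype.ofFinite C
  let Φ : (Fin 2 × Fin 2) × C → E := fun q => a ^ (q.1.1 : ℕ) * b ^ (q.1.2 : ℕ) * ι q.2
  have hsurj : Function.Surjective Φ := by
    intro g
    obtain ⟨x, c, rfl⟩ := hgen g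
    obtain ⟨i, j, k, e, -⟩ := h.word h x
    refine ⟨((⟨i % 2, Nat.mod_lt _ two_pos⟩, ⟨j % 2, Nat.mod_lt _ two_pos⟩), zc ^ (α * (i / 2) + β * (j / 2) + k) * c), ?_⟩
    show a ^ (i % 2) * b ^ (j % 2) * ι (zc ^ (α * (i / 2) + β * (j / 2) + k) * c) = _
    have ha : a ^ i = a ^ (i % 2) * z ^ (α * (i / 2)) := by
      conv_lhs => rw [← Nat.mod_add_div i 2]
      rw [pow_add, pow_mul, pow_two, h.sqa, ← pow_mul]
    have hb : b ^ j = b ^ (j % 2) * z ^ (β * (j / 2)) := by
      conv_lhs => rw [← Nat.mod_add_div j 2]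
      rw [pow_add, pow_mul, pow_two, h.sqb, ← pow_mul]
    rw [e, nf, ha, hb, map_mul, map_pow, hz, pow_add, pow_add]
    have hzc := fun (m : ℕ) (y : E) => ((h.ext.central y).pow_left m).eq
    calc a ^ (i % 2) * b ^ (j % 2) * (z ^ (α * (i / 2)) * z ^ (β * (j / 2)) * z ^ k * ι c)
        = a ^ (i % 2) * (b ^ (j % 2) * z ^ (α * (i / 2))) * (z ^ (β * (j / 2)) * z ^ k * ι c) := by simp only [mul_assoc]
      _ = _ := by rw [← hzc]; simp only [mul_assoc]
  have hbij : Function.Bijective Φ := (Nat.bijective_iff_surjective_and_card Φ).2 ⟨hsurj, by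
    rw [hcard, Nat.card_prod, Nat.card_eq_fintype_card (α := Fin 2 × Fin 2), Fintype.card_prod, Fintype.card_fin]⟩
  have hsqC : ∀ c : C, c ^ 2 = 1 ∨ c ^ 2 = zc := fun c => by
    rcases h.ext.sq (ι c) with e | e
    · exact Or.inl (hinj (by rw [map_pow, map_one, pow_two, e]))
    · exact Or.inr (hinj (by rw [map_pow, hz, pow_two, e]))
  have hzc1 : zc ≠ 1 := fun e => h.ext.ne (by rw [← hz, e, map_one])
  have hsq : ∀ (i j : ℕ) (c : C), (a ^ i * b ^ j * ι c) ^ 2 = 1 ↔
      (if Even (α * i + β * j + j * i) then c ^ 2 = 1 else ¬ c ^ 2 = 1) := by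
    intro i j c
    have hw : a ^ i * b ^ j = nf a b z i j 0 := by simp [nf]
    have hc : Commute (a ^ i * b ^ j) (ι c) := (((hcC c).1.symm.pow_left i)).mul_left ((hcC c).2.symm.pow_left j)
    rw [hc.mul_pow, pow_two (a ^ i * b ^ j), hw, nf_mul h.ext h.rel, ← two_mul, ← two_mul, h.nf_even, ← map_pow]
    simp only [mul_zero, zero_add]
    set m := α * i + β * j + j * i
    have hz2 : z ^ 2 = 1 := by rw [pow_two, h.ext.zz]
    split_ifs with hm
    · rw [(h.z_pow_iff m).2 hm, one_mul]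
      exact ⟨fun e => hinj (e.trans (map_one ι).symm), fun e => by rw [e, map_one]⟩
    · obtain ⟨t, ht⟩ := Nat.not_even_iff_odd.1 hm
      rw [ht, pow_succ, pow_mul, hz2, one_pow, one_mul]
      constructor
      · intro e hc1
        rw [hc1, map_one, mul_one] at e
        exact h.ext.ne e
      · intro hc1
        rw [(hsqC c).resolve_left hc1, hz, h.ext.zz]
  rw [Nat.card_congr ((Equiv.ofBijective Φ hbij).symm.subtypeEquiv (q := fun q => (Φ q) ^ 2 = 1)
    (fun g => by rw [show Φ ((Equiv.ofBijective Φ hbij).symm g) = g from (Equiv.ofBijective Φ hbij).apply_symm_apply g]))]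
  rw [Nat.card_congr (Equiv.subtypeProdEquivSigmaSubtype (fun (p : Fin 2 × Fin 2) (c : C) => Φ (p, c) ^ 2 = 1)), Nat.card_sigma]
  refine Finset.sum_congr rfl fun p _ => ?_
  rw [Nat.card_congr (Equiv.subtypeEquivRight (fun c => hsq (p.1 : ℕ) (p.2 : ℕ) c))]
  split_ifs with hm
  · simp only [if_pos hm]
  · simp only [if_neg hm, Nat.card_eq_fintype_card]
    exact Fintype.card_subtype_compl _

theorem count_iff : ∀ (n : ℕ), 1 ≤ n → ∀ (E : Type u) [Group E] [Finite E] (z : E), Ext2 E z →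
    Nat.card E = 2 ^ (2 * n + 1) →
    (IsRk E (2 ^ n) ∧ Nat.card {g : E // g ^ 2 = 1} = 4 ^ n - 2 ^ n) ∨
    (IsRk E (2 ^ (n + 1)) ∧ Nat.card {g : E // g ^ 2 = 1} = 4 ^ n + 2 ^ n) := by
  intro n hn
  induction n with
  | zero => omega
  | succ n ih =>
    intro E _ _ z h hcard
    rcases Nat.eq_zero_or_pos n with rfl | hn0
    · obtain ⟨a, b, hk, hgen⟩ := base h hcard
      have hzo : orderOf z = 2 := orderOf_eq_prime (by rw [pow_two]; exact h.zz) h.ne
      have hC2 : Nat.card (Subgroup.zpowers z) = 2 := by rw [Nat.card_zpowers, hzo]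
      have hf : Nat.card {c : Subgroup.zpowers z // c ^ 2 = 1} = 2 := by
        rw [Nat.card_congr (Equiv.subtypeUnivEquiv fun c => ?_), hC2]
        obtain ⟨s, hs⟩ := Subgroup.mem_zpowers_iff.1 c.2
        refine Subtype.ext ?_
        rw [SubgroupClass.coe_pow, ← hs, pow_two, ← (Commute.refl z).mul_zpow, h.zz, one_zpow, Subgroup.coe_one]
      have hcC : ∀ c : Subgroup.zpowers z, Commute ((Subgroup.zpowers z).subtype c) a ∧ Commute ((Subgroup.zpowers z).subtype c) b := fun c => by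
        obtain ⟨s, hs⟩ := Subgroup.mem_zpowers_iff.1 c.2
        rw [Subgroup.coe_subtype, ← hs]
        exact ⟨(h.central a).zpow_left s, (h.central b).zpow_left s⟩
      rcases hk with ⟨hp, hr⟩ | ⟨hp, hr⟩
      · right
        refine ⟨hr, ?_⟩
        rw [pair_count hp (Subgroup.zpowers z).subtype ⟨z, Subgroup.mem_zpowers z⟩ rfl (Subgroup.subtype_injective _) hcC hgen (by rw [hcard, hC2]; norm_num),
          hf, hC2, Fintype.sum_prod_type]
        simp [Fin.sum_univ_two]
      · left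
        refine ⟨hr, ?_⟩
        rw [pair_count hp (Subgroup.zpowers z).subtype ⟨z, Subgroup.mem_zpowers z⟩ rfl (Subgroup.subtype_injective _) hcC hgen (by rw [hcard, hC2]; norm_num),
          hf, hC2, Fintype.sum_prod_type]
        simp [Fin.sum_univ_two, parity_simps]
    obtain ⟨a, b, C, hzC, hP, hc, hgen, hcC, hC, hrk⟩ := decompose h (n := n) hn0 (by rw [hcard]; ring_nf)
    have hcnt := pair_count hP C.subtype ⟨z, hzC⟩ rfl C.subtype_injective hc hgen (by
      rw [hcard, hcC]; ring)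
    rw [Fintype.sum_prod_type] at hcnt
    simp [Fin.sum_univ_two] at hcnt
    have h4 : 2 * 4 ^ n = Nat.card C := by
      rw [hcC, pow_succ, pow_mul]; norm_num; ring
    have hle : 2 ^ n ≤ 4 ^ n := Nat.pow_le_pow_left (by norm_num) n
    rcases ih hn0 C ⟨z, hzC⟩ hC hcC with ⟨hR, hf⟩ | ⟨hR, hf⟩
    · left
      refine ⟨by rw [pow_succ, mul_comm]; exact hrk _ hR, ?_⟩
      rw [hcnt, hf, ← h4, pow_succ 4, pow_succ 2]
      omega
    · right
      refine ⟨by rw [pow_succ 2 (n + 1), mul_comm]; exact hrk _ hR, ?_⟩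
      rw [hcnt, hf, ← h4, pow_succ 4, pow_succ 2]
      omega

/-- Classification of extraspecial 2-groups in intrinsic form. An extraspecial 2-group has order 2^(2m+1) for some m ≥ 1, and the number of its elements squaring to the identity is either 2^(2m) + 2^m or 2^(2m) − 2^m; two extraspecial 2-groups of the same order with the same number of such elements are isomorphic. (The two cases are the central products of m dihedral groups of order 8, and of m − 1 dihedral groups with one quaternion group.) -/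
theorem result (E : Type*) [Group E] [Finite E] (hE : Cfsg.IsExtraspecial 2 E) :
    (∃ m : ℕ, 1 ≤ m ∧ Nat.card E = 2 ^ (2 * m + 1) ∧
      (Nat.card {x : E // x ^ 2 = 1} = 2 ^ (2 * m) + 2 ^ m ∨ Nat.card {x : E // x ^ 2 = 1} = 2 ^ (2 * m) - 2 ^ m)) ∧
    ∀ (E' : Type*) [Group E'] [Finite E'], Cfsg.IsExtraspecial 2 E' → Nat.card E' = Nat.card E →
      Nat.card {x : E' // x ^ 2 = 1} = Nat.card {x : E // x ^ 2 = 1} → Nonempty (E ≃* E') := by
  haveI : Fact (Nat.Prime 2) := ⟨Nat.prime_two⟩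
  obtain ⟨m, hm1, hcard, -⟩ := Cfsg.Agent.Solv.extraspecial_card hE
  obtain ⟨z, hz⟩ := of_extraspecial hE
  have h1 := count_iff m hm1 E z hz hcard
  refine ⟨⟨m, hm1, hcard, ?_⟩, fun E' _ _ hE' hcard' hcount => ?_⟩
  · rw [show 2 ^ (2 * m) = 4 ^ m by rw [pow_mul]; norm_num]
    rcases h1 with ⟨-, h⟩ | ⟨-, h⟩
    · exact Or.inr h
    · exact Or.inl h
  obtain ⟨z', hz'⟩ := of_extraspecial hE'
  have h2 := count_iff m hm1 E' z' hz' (hcard'.trans hcard)
  have hpos : 0 < 2 ^ m := pow_pos two_pos m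
  have hle : 2 ^ m ≤ 4 ^ m := Nat.pow_le_pow_left (by norm_num) m
  have key : ∃ r, IsRk E r ∧ IsRk E' r := by
    rcases h1 with ⟨r1, c1⟩ | ⟨r1, c1⟩ <;> rcases h2 with ⟨r2, c2⟩ | ⟨r2, c2⟩
    · exact ⟨_, r1, r2⟩
    · exfalso; omega
    · exfalso; omega
    · exact ⟨_, r1, r2⟩
  obtain ⟨r, r1, r2⟩ := key
  obtain ⟨e, -⟩ := (main m hm1 E z hz hcard).2 E' z' hz' (hcard'.trans hcard) r r1 r2
  exact ⟨e⟩

end Cfsg.Agent.S4416
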