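import Cfsg.Statements.S4419
import Mathlib
import Cfsg.Agent.Lib.Fusion.PConstrained
import Cfsg.Agent.Lib.Fusion.NPC
import Cfsg.Agent.Lib.Fusion.OmegaSeries
import Cfsg.Agent.Lib.Solv.PGroupPhi

set_option autoImplicit false
open Cfsg
open scoped commutatorElement

namespace Cfsg.Agent.S4419

open Cfsg.Agent

variable {G : Type*} [Group G] [Finite G] {p : ℕ} [hp : Fact p.Prime]

theorem frattini_index_le {Q : Type*} [Group Q] [Finite Q] (hQ : IsPGroup p Q) {a b : Q}
    (hgen : Subgroup.closure ({a, b} : Set Q) = ⊤) : (frattini Q).index ≤ p ^ 2 := by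
  classical
  haveI : (frattini Q).Normal := inferInstance
  let f : Fin p × Fin p → Q ⧸ frattini Q := fun ij => ((a ^ (ij.1 : ℕ) * b ^ (ij.2 : ℕ) : Q) : Q ⧸ frattini Q)
  have hab : Commute (a : Q ⧸ frattini Q) (b : Q ⧸ frattini Q) :=
    Solv.quotient_mul_comm _ (fun u v => Solv.commutatorElement_mem_frattini hQ u v) _ _
  have hpow : ∀ u : Q, (u : Q ⧸ frattini Q) ^ p = 1 := fun u => by
    rw [← QuotientGroup.mk_pow, QuotientGroup.eq_one_iff]; exact Solv.pow_mem_frattini hQ u
  have hmem : ∀ k l : ℕ, (a : Q ⧸ frattini Q) ^ k * (b : Q ⧸ frattini Q) ^ l ∈ Set.range f := fun k l =>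
    ⟨(⟨k % p, Nat.mod_lt _ hp.out.pos⟩, ⟨l % p, Nat.mod_lt _ hp.out.pos⟩), by
      simp only [f, QuotientGroup.mk_mul, QuotientGroup.mk_pow]
      rw [← pow_eq_pow_mod k (hpow a), ← pow_eq_pow_mod l (hpow b)]⟩
  have hmul : ∀ x ∈ Set.range f, ∀ y ∈ Set.range f, x * y ∈ Set.range f := by
    rintro _ ⟨⟨i, j⟩, rfl⟩ _ ⟨⟨k, l⟩, rfl⟩
    simp only [f, QuotientGroup.mk_mul, QuotientGroup.mk_pow]
    rw [show (a : Q ⧸ frattini Q) ^ (i : ℕ) * (b : Q ⧸ frattini Q) ^ (j : ℕ) * ((a : Q ⧸ frattini Q) ^ (k : ℕ) * (b : Q ⧸ frattini Q) ^ (l : ℕ))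
      = (a : Q ⧸ frattini Q) ^ (i : ℕ) * ((b : Q ⧸ frattini Q) ^ (j : ℕ) * (a : Q ⧸ frattini Q) ^ (k : ℕ)) * (b : Q ⧸ frattini Q) ^ (l : ℕ) by group,
      ((hab.pow_pow (k : ℕ) (j : ℕ)).symm).eq, ← mul_assoc, ← pow_add, mul_assoc, ← pow_add]
    exact hmem _ _
  have hsurj : Function.Surjective f := by
    intro z
    obtain ⟨u, rfl⟩ := QuotientGroup.mk_surjective z
    show (u : Q ⧸ frattini Q) ∈ Set.range f
    have hu : u ∈ Subgroup.closure ({a, b} : Set Q) := hgen.ge (Subgroup.mem_top u)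
    induction hu using Subgroup.closure_induction with
    | mem x hx =>
      rcases hx with rfl | rfl
      · simpa using hmem 1 0
      · simpa using hmem 0 1
    | one => simpa using hmem 0 0
    | mul x y _ _ h1 h2 => exact QuotientGroup.mk_mul (frattini Q) x y ▸ hmul _ h1 _ h2
    | inv x _ h1 =>
      rw [QuotientGroup.mk_inv, inv_eq_of_mul_eq_one_right (a := (x : Q ⧸ frattini Q))
        (b := (x : Q ⧸ frattini Q) ^ (p - 1)) (by rw [← pow_succ', Nat.sub_add_cancel hp.out.one_le, hpow])]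
      generalize p - 1 = m
      induction m with
      | zero => rw [pow_zero]; simpa using hmem 0 0
      | succ m ih => rw [pow_succ]; exact hmul _ ih _ h1
  rw [Subgroup.index_eq_card]
  have := Nat.card_le_card_of_surjective f hsurj
  simpa [pow_two] using this

/-- An automorphism of prime order prime to `p (p ^ 2 - 1)` of a two-generated `p`-group is trivial. -/
theorem aut_trivial {Q : Type*} [Group Q] [Finite Q] (hQ : IsPGroup p Q) (hidx : (frattini Q).index ≤ p ^ 2)
    (α : MulAut Q) {r : ℕ} [hr : Fact r.Prime] (hrp : r ≠ p) (hr2 : ¬ r ∣ p ^ 2 - 1) (hα : α ^ r = 1) : α = 1 := by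
  classical
  haveI : (frattini Q).Characteristic := frattini_characteristic
  haveI : (frattini Q).Normal := inferInstance
  have hinv : ∀ x, α x ∈ frattini Q ↔ x ∈ frattini Q := fun x => by
    conv_rhs => rw [← (inferInstance : (frattini Q).Characteristic).fixed α]
    exact Iff.rfl
  -- trivial on the quotient
  have hquot : ∀ x : Q, x⁻¹ * α x ∈ frattini Q := by
    let F : Subgroup Q :=
      { carrier := {x | x⁻¹ * α x ∈ frattini Q}
        one_mem' := by simp [(frattini Q).one_mem]
        mul_mem' := fun {x y} hx hy => by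
          show (x * y)⁻¹ * α (x * y) ∈ frattini Q
          rw [map_mul, show (x * y)⁻¹ * (α x * α y) = y⁻¹ * (x⁻¹ * α x) * y⁻¹⁻¹ * (y⁻¹ * α y) by group]
          exact mul_mem (Subgroup.Normal.conj_mem inferInstance _ hx _) hy
        inv_mem' := fun {x} hx => by
          show (x⁻¹)⁻¹ * α x⁻¹ ∈ frattini Q
          rw [map_inv, show x⁻¹⁻¹ * (α x)⁻¹ = x * (x⁻¹ * α x)⁻¹ * x⁻¹ by group]
          exact Subgroup.Normal.conj_mem inferInstance _ (inv_mem hx) _ }
    have hΦF : frattini Q ≤ F := fun x hx => mul_mem (inv_mem hx) ((hinv x).2 hx)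
    obtain ⟨k, hk⟩ := hQ.index (frattini Q)
    have hk2 : k ≤ 2 := by
      rw [hk] at hidx
      exact (Nat.pow_le_pow_iff_right hp.out.one_lt).1 hidx
    by_contra hno
    push Not at hno
    obtain ⟨x₀, hx₀⟩ := hno
    have hF : F ≠ ⊤ := fun h => hx₀ (show x₀ ∈ F from h ▸ Subgroup.mem_top x₀)
    -- the induced permutation of the quotient
    let σ : Equiv.Perm (Q ⧸ frattini Q) := (QuotientGroup.congr (frattini Q) (frattini Q) α
      ((inferInstance : (frattini Q).Characteristic).fixed α |> fun h => by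
        ext y
        rw [Subgroup.mem_map]
        constructor
        · rintro ⟨z, hz, rfl⟩; exact (hinv z).2 hz
        · intro hy; exact ⟨α.symm y, (hinv _).1 (by simpa using hy), by simp⟩)).toEquiv
    have hσ : ∀ y : Q, σ (y : Q ⧸ frattini Q) = ((α y : Q) : Q ⧸ frattini Q) := fun y => rfl
    have hσpow : ∀ (j : ℕ) (y : Q), (σ ^ j) (y : Q ⧸ frattini Q) = (((α ^ j) y : Q) : Q ⧸ frattini Q) := by
      intro j
      induction j with
      | zero => intro y; rfl
      | succ j ih => intro y; rw [pow_succ', pow_succ', Equiv.Perm.mul_apply, ih, hσ]; rfl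
    have hσr : σ ^ r = 1 := Equiv.ext fun z => by
      obtain ⟨y, rfl⟩ := QuotientGroup.mk_surjective z
      rw [hσpow, hα]; rfl
    haveI := Fintype.ofFinite (Q ⧸ frattini Q)
    -- count the fixed points
    have hfix : ∀ y : Q, σ (y : Q ⧸ frattini Q) = (y : Q ⧸ frattini Q) ↔ y ∈ F := fun y => by
      rw [hσ, QuotientGroup.eq]
      show (α y)⁻¹ * y ∈ frattini Q ↔ y⁻¹ * α y ∈ frattini Q
      rw [← inv_mem_iff, mul_inv_rev, inv_inv]
    have hmod : Fintype.card (Q ⧸ frattini Q) ≡ Nat.card {z : Q ⧸ frattini Q // σ z = z} [MOD r] := by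
      have h := Equiv.Perm.card_compl_support_modEq (p := r) (n := 1) (σ := σ) (by rw [pow_one, hσr])
      rw [Nat.card_eq_fintype_card, Fintype.card_subtype]
      have e : (σ.supportᶜ) = Finset.univ.filter fun z => σ z = z := by
        ext z; simp
      rw [← e]
      exact h.symm
    have hcardF : Nat.card {z : Q ⧸ frattini Q // σ z = z} = Nat.card (F.map (QuotientGroup.mk' (frattini Q))) :=
      Nat.card_congr (Equiv.subtypeEquivRight fun z => by
        obtain ⟨y, rfl⟩ := QuotientGroup.mk_surjective z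
        rw [hfix]
        constructor
        · exact fun h => ⟨y, h, rfl⟩
        · rintro ⟨w, hw, e⟩
          rw [show y = w * (w⁻¹ * y) by group]
          exact mul_mem hw (hΦF (QuotientGroup.eq.1 e)))
    have hlt : Nat.card (F.map (QuotientGroup.mk' (frattini Q))) < p ^ k := by
      rw [← hk, Subgroup.index_eq_card]
      refine lt_of_le_of_ne (Subgroup.card_le_card_group _) fun h => hF ?_
      have h1 := Subgroup.eq_top_of_card_eq _ h
      rw [← Subgroup.comap_map_eq_self (f := QuotientGroup.mk' (frattini Q)) (H := F) (by rwa [QuotientGroup.ker_mk']), h1,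
        Subgroup.comap_top]
    obtain ⟨j, hj⟩ := (hQ.to_quotient (frattini Q)).to_subgroup (F.map (QuotientGroup.mk' (frattini Q))) |>.exists_card_eq
    rw [hcardF, hj, ← Nat.card_eq_fintype_card, ← Subgroup.index_eq_card, hk] at hmod
    rw [hj, Nat.pow_lt_pow_iff_right hp.out.one_lt] at hlt
    have hd : r ∣ p ^ k - p ^ j := (Nat.modEq_iff_dvd' (Nat.pow_le_pow_right hp.out.pos hlt.le)).1 hmod.symm
    have hrp' : ¬ r ∣ p := fun h => hrp ((Nat.prime_dvd_prime_iff_eq hr.out hp.out).1 h)
    have h1 : r ∣ p ^ (k - j) - 1 := by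
      have e : p ^ k - p ^ j = p ^ j * (p ^ (k - j) - 1) := by
        rw [Nat.mul_sub, ← pow_add, Nat.add_sub_cancel' hlt.le, mul_one]
      rw [e] at hd
      exact (hr.out.dvd_mul.1 hd).resolve_left fun h => hrp' (hr.out.dvd_of_dvd_pow h)
    have h2 : p ^ (k - j) - 1 ∣ p ^ 2 - 1 := Nat.pow_sub_one_dvd_pow_sub_one p (by
      rcases (show k - j = 1 ∨ k - j = 2 by omega) with e | e <;> rw [e]
      exact one_dvd _)
    exact hr2 (h1.trans h2)
  -- lift: fixed point in every coset
  haveI := Fintype.ofFinite Q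
  let Fix : Subgroup Q := (α.toMonoidHom).eqLocus (MonoidHom.id Q)
  have htop : Fix = ⊤ := by
    refine frattini_nongenerating (eq_top_iff.2 fun x _ => ?_)
    let τ : Equiv.Perm {y : Q // x⁻¹ * y ∈ frattini Q} := Equiv.Perm.subtypePerm (α.toEquiv : Equiv.Perm Q) (fun y => by
      have e : x⁻¹ * α y = (x⁻¹ * y) * (y⁻¹ * α y) := by group
      show x⁻¹ * α y ∈ frattini Q ↔ x⁻¹ * y ∈ frattini Q
      rw [e]
      exact Subgroup.mul_mem_cancel_right _ (hquot y))
    have hpow : ∀ (k : ℕ) (y : {y : Q // x⁻¹ * y ∈ frattini Q}), ((τ ^ k) y : Q) = (α ^ k) (y : Q) := by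
      intro k
      induction k with
      | zero => intro y; simp
      | succ k ih => intro y; rw [pow_succ', pow_succ', Equiv.Perm.mul_apply, MulAut.mul_apply, ← ih]; rfl
    have hτ : τ ^ r ^ 1 = 1 := by
      refine Equiv.ext fun y => Subtype.ext ?_
      rw [hpow, pow_one, hα]; rfl
    have hcard : ¬ r ∣ Fintype.card {y : Q // x⁻¹ * y ∈ frattini Q} := by
      let e : {y : Q // x⁻¹ * y ∈ frattini Q} ≃ frattini Q :=
        { toFun := fun y => ⟨x⁻¹ * y, y.2⟩
          invFun := fun z => ⟨x * z, by simp⟩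
          left_inv := fun y => Subtype.ext (by simp)
          right_inv := fun z => Subtype.ext (by simp) }
      rw [← Nat.card_eq_fintype_card, Nat.card_congr e]
      obtain ⟨k, hk⟩ := (hQ.to_subgroup (frattini Q)).exists_card_eq
      rw [hk]
      exact fun hd => hrp ((Nat.prime_dvd_prime_iff_eq hr.out hp.out).1 (hr.out.dvd_of_dvd_pow hd))
    obtain ⟨y, hy⟩ := Equiv.Perm.exists_fixed_point_of_prime (p := r) (n := 1) hcard hτ
    have hyF : (y : Q) ∈ Fix := congrArg Subtype.val hy
    rw [show x = (y : Q) * (x⁻¹ * (y : Q))⁻¹ by group]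
    exact mul_mem (Subgroup.mem_sup_left hyF) (Subgroup.mem_sup_right (inv_mem y.2))
  exact MulEquiv.ext fun x => (htop.ge (Subgroup.mem_top x) : x ∈ Fix)

/-- Let p be a prime and G a finite group whose Sylow p-subgroups are metacyclic (a cyclic normal subgroup with cyclic quotient). Then G has a normal p-complement if and only if the order of G/O_{p′,p}(G) is coprime to p² − 1. -/
theorem result {G : Type*} [Group G] [Finite G] (p : ℕ) [Fact p.Prime] (S : Sylow p G) (hS : Cfsg.IsMetacyclic ↥(S : Subgroup G)) : Cfsg.HasNormalPComplement p G ↔ Nat.Coprime (Nat.card (G ⧸ Cfsg.pPrimePCore p G)) (p ^ 2 - 1) := by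
  classical
  haveI := Fusion.pPrimePCore_normal (p := p) (G := G)
  constructor
  · intro h
    have htop : Cfsg.pPrimePCore p G = ⊤ := by
      obtain ⟨P, N, hN, hc⟩ := h
      haveI := hN
      have hNle : N ≤ Cfsg.pPrimeCore p G := Fusion.le_pPrimeCore (Fusion.coprime_card_of_isComplement' hc)
      have hq : IsPGroup p (G ⧸ Cfsg.pPrimeCore p G) := by
        have hsup : (P : Subgroup G) ⊔ Cfsg.pPrimeCore p G = ⊤ :=
          top_le_iff.1 (hc.sup_eq_top.ge.trans (sup_le (hNle.trans le_sup_right) le_sup_left))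
        have hm : (P : Subgroup G).map (QuotientGroup.mk' (Cfsg.pPrimeCore p G)) = ⊤ := by
          rw [← Subgroup.map_top_of_surjective _ (QuotientGroup.mk'_surjective _), ← hsup, Subgroup.map_sup,
            (Subgroup.map_eq_bot_iff _).2 (QuotientGroup.ker_mk' _).ge, sup_bot_eq]
        exact (hm ▸ P.isPGroup'.map _ : IsPGroup p (⊤ : Subgroup _)).of_equiv Subgroup.topEquiv
      unfold Cfsg.pPrimePCore
      rw [eq_top_iff]
      intro x _
      rw [Subgroup.mem_comap]
      have htc : (⊤ : Subgroup (G ⧸ Cfsg.pPrimeCore p G)) ≤ Cfsg.pCore p (G ⧸ Cfsg.pPrimeCore p G) :=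
        Fusion.le_pCore (hq.to_subgroup ⊤)
      exact htc (Subgroup.mem_top _)
    haveI : Subsingleton (G ⧸ Cfsg.pPrimePCore p G) := by
      rw [htop]; exact QuotientGroup.subsingleton_quotient_top
    rw [Nat.card_of_subsingleton (1 : G ⧸ Cfsg.pPrimePCore p G)]
    exact Nat.coprime_one_left _
  · intro hcop
    have hpp : p.Prime := Fact.out
    refine Fusion.hnpc_of_centralize (Fusion.sylIn_top S) fun Q hQS g hgN hgp => ?_
    have hQp : IsPGroup p Q := S.isPGroup'.to_le hQS
    -- two generators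
    obtain ⟨N, hNn, hNc, hqc⟩ := hS
    let ι : Q →* (S : Subgroup G) := Subgroup.inclusion hQS
    have hι : Function.Injective ι := Subgroup.inclusion_injective hQS
    obtain ⟨a, ha⟩ : ∃ a : Q, Subgroup.zpowers a = N.comap ι := by
      haveI : IsCyclic (N.comap ι) := isCyclic_of_injective ((ι.comp (N.comap ι).subtype).codRestrict N fun x => x.2)
        fun x y h => Subtype.ext (hι (congrArg Subtype.val h))
      obtain ⟨c, hc⟩ := IsCyclic.exists_generator (α := N.comap ι)
      refine ⟨c, le_antisymm (Subgroup.zpowers_le.2 c.2) fun x hx => ?_⟩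
      obtain ⟨i, hi⟩ := hc ⟨x, hx⟩
      exact ⟨i, by simpa using congrArg Subtype.val hi⟩
    let θ : Q →* (S : Subgroup G) ⧸ N := (QuotientGroup.mk' N).comp ι
    obtain ⟨b, hb⟩ : ∃ b : Q, Subgroup.zpowers (θ b) = θ.range := by
      obtain ⟨c, hc⟩ := IsCyclic.exists_generator (α := θ.range)
      obtain ⟨b, hb⟩ := c.2
      refine ⟨b, le_antisymm (Subgroup.zpowers_le.2 ⟨b, rfl⟩) fun x hx => ?_⟩
      obtain ⟨i, hi⟩ := hc ⟨x, hx⟩
      exact ⟨i, by rw [hb]; simpa using congrArg Subtype.val hi⟩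
    have hgen : Subgroup.closure ({a, b} : Set Q) = ⊤ := eq_top_iff.2 fun x _ => by
      obtain ⟨i, hi⟩ := Subgroup.mem_zpowers_iff.1 (hb.ge (⟨x, rfl⟩ : θ x ∈ θ.range))
      have h1 : (b ^ i)⁻¹ * x ∈ N.comap ι := by
        rw [← map_zpow] at hi
        rw [Subgroup.mem_comap, map_mul, map_inv]
        exact QuotientGroup.eq.1 hi
      rw [← ha] at h1
      obtain ⟨j, hj⟩ := Subgroup.mem_zpowers_iff.1 h1
      rw [show x = b ^ i * a ^ j by rw [hj]; group]
      have hma : a ∈ Subgroup.closure ({a, b} : Set Q) := Subgroup.subset_closure (Or.inl rfl)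
      have hmb : b ∈ Subgroup.closure ({a, b} : Set Q) := Subgroup.subset_closure (Or.inr rfl)
      exact mul_mem (zpow_mem hmb i) (zpow_mem hma j)
    have hidx := frattini_index_le hQp hgen
    -- all primary parts centralise
    suffices key : ∀ (r t : ℕ), r.Prime → ∀ g : G, g ∈ Subgroup.normalizer (Q : Set G) → orderOf g = r ^ t → r ≠ p →
        g ∈ Subgroup.centralizer (Q : Set G) by
      have hall : ∀ n, ∀ g : G, orderOf g = n → g ∈ Subgroup.normalizer (Q : Set G) → n.Coprime p →
          g ∈ Subgroup.centralizer (Q : Set G) := by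
        intro n
        induction n using Nat.recOnPosPrimePosCoprime with
        | zero => intro g hg; exact absurd hg (orderOf_pos g).ne'
        | one => intro g hg _ _; rw [orderOf_eq_one_iff] at hg; rw [hg]; exact one_mem _
        | prime_pow r t hr ht =>
          intro g hg hgN hc
          refine key r t hr g hgN hg fun e => ?_
          rw [e, Nat.coprime_pow_left_iff ht] at hc
          exact hpp.ne_one ((Nat.coprime_self _).1 hc)
        | coprime u v hu hv huv ihu ihv =>
          intro g hg hgN hc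
          obtain ⟨s, t, hst⟩ : ∃ s t : ℤ, (u : ℤ) * s + v * t = 1 := by
            obtain ⟨s, t, h⟩ := Nat.isCoprime_iff_coprime.2 huv
            exact ⟨s, t, by rw [← h]; ring⟩
          have h1 : g = (g ^ u) ^ s * (g ^ v) ^ t := by
            rw [← zpow_natCast, ← zpow_natCast, ← zpow_mul, ← zpow_mul, ← zpow_add, hst, zpow_one]
          have hou : orderOf (g ^ u) = v := by
            rw [orderOf_pow' g (by omega), hg, Nat.gcd_eq_right (dvd_mul_right u v), Nat.mul_div_cancel_left _ (by omega)]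
          have hov : orderOf (g ^ v) = u := by
            rw [orderOf_pow' g (by omega), hg, Nat.gcd_eq_right (dvd_mul_left v u), Nat.mul_div_cancel _ (by omega)]
          rw [h1]
          exact mul_mem (zpow_mem (ihv _ hou (pow_mem hgN u) (hc.coprime_dvd_left (dvd_mul_left v u))) s)
            (zpow_mem (ihu _ hov (pow_mem hgN v) (hc.coprime_dvd_left (dvd_mul_right u v))) t)
      exact hall _ g rfl hgN hgp
    intro r t hr g hgN hg hrp
    haveI := Fact.mk hr
    by_cases hr2 : r ∣ p ^ 2 - 1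
    · -- inside the p'-core
      have hgK : g ∈ Cfsg.pPrimePCore p G := by
        rw [← QuotientGroup.eq_one_iff, ← orderOf_eq_one_iff]
        have h1 : orderOf (g : G ⧸ Cfsg.pPrimePCore p G) ∣ r ^ t := hg ▸ orderOf_map_dvd (QuotientGroup.mk' _) g
        have h2 : orderOf (g : G ⧸ Cfsg.pPrimePCore p G) ∣ Nat.card (G ⧸ Cfsg.pPrimePCore p G) := orderOf_dvd_natCard _
        exact Nat.eq_one_of_dvd_coprimes (Nat.Coprime.pow_left t
          ((Nat.Coprime.coprime_dvd_right hr2 hcop).symm)) h1 h2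
      have hgC : g ∈ Cfsg.pPrimeCore p G := by
        rw [Cfsg.pPrimePCore, Subgroup.mem_comap] at hgK
        have h1 : orderOf (QuotientGroup.mk' (Cfsg.pPrimeCore p G) g) ∣ r ^ t := hg ▸ orderOf_map_dvd _ g
        obtain ⟨k, hk⟩ := IsPGroup.iff_orderOf.1 (Fusion.isPGroup_pCore p _) ⟨_, hgK⟩
        rw [Subgroup.orderOf_mk] at hk
        rw [← QuotientGroup.eq_one_iff, ← QuotientGroup.mk'_apply, ← orderOf_eq_one_iff]
        exact Nat.eq_one_of_dvd_coprimes (Nat.Coprime.pow t k ((Nat.coprime_primes hr hpp).2 hrp)) h1 (dvd_of_eq hk)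
      refine Subgroup.mem_centralizer_iff.2 fun q hq => ?_
      have hc : ⁅q, g⁆ ∈ Q ⊓ Cfsg.pPrimeCore p G := Subgroup.mem_inf.2 ⟨by
        rw [show ⁅q, g⁆ = q * (g * q⁻¹ * g⁻¹) by rw [commutatorElement_def]; group]
        exact mul_mem hq ((Subgroup.mem_normalizer_iff.1 hgN _).1 (inv_mem hq)), by
        rw [show ⁅q, g⁆ = (q * g * q⁻¹) * g⁻¹ by rw [commutatorElement_def]]
        exact mul_mem (Subgroup.Normal.conj_mem inferInstance g hgC q) (inv_mem hgC)⟩
      have h1 : ⁅q, g⁆ = 1 := by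
        obtain ⟨k, hk⟩ := IsPGroup.iff_orderOf.1 hQp ⟨_, (Subgroup.mem_inf.1 hc).1⟩
        rw [Subgroup.orderOf_mk] at hk
        rw [← orderOf_eq_one_iff]
        exact Nat.eq_one_of_dvd_coprimes (Nat.Coprime.pow_right k (Fusion.mem_pPrimeCore_orderOf (Subgroup.mem_inf.1 hc).2))
          dvd_rfl (dvd_of_eq hk)
      exact commutatorElement_eq_one_iff_mul_comm.1 h1
    · -- the automorphism is trivial
      obtain ⟨α, hα, hαo⟩ := Fusion.exists_conj_aut hgN
      have key : ∀ (m : ℕ) (β : MulAut Q), orderOf β ∣ r ^ m → β = 1 := by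
        intro m
        induction m with
        | zero => intro β hβ; exact orderOf_eq_one_iff.1 (Nat.dvd_one.1 (by simpa using hβ))
        | succ m ih =>
          intro β hβ
          refine aut_trivial hQp hidx β hrp hr2 (ih _ ?_)
          rw [orderOf_dvd_iff_pow_eq_one, ← pow_mul, ← pow_succ', ← orderOf_dvd_iff_pow_eq_one]
          exact hβ
      have h1 : α = 1 := key t α (hg ▸ hαo)
      refine Subgroup.mem_centralizer_iff.2 fun q hq => ?_
      have h2 := hα ⟨q, hq⟩
      rw [h1, MulAut.one_apply] at h2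
      show q * g = g * q
      calc q * g = g * q * g⁻¹ * g := by rw [← h2]
        _ = g * q := inv_mul_cancel_right _ _

end Cfsg.Agent.S4419
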