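import Cfsg.Statements.S4420


set_option autoImplicit false
open Cfsg

namespace Cfsg.Agent.S4420

/-- Structure of groups in which every element outside some proper subgroup has square 1. Let H be a finite group with a proper subgroup A such that every element outside A has square 1. Then H has an abelian normal subgroup B of index 2 such that every element outside B is an involution inverting every element of B; and if H is not an elementary abelian 2-group, B is the only abelian normal subgroup of index 2 with this property. -/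
theorem result {H : Type*} [Group H] [Finite H] (A : Subgroup H) (hA : A ≠ ⊤) (hD : ∀ x : H, x ∉ A → x ^ 2 = 1) :
    ∃ B : Subgroup H, B.Normal ∧ IsMulCommutative ↥B ∧ B.index = 2 ∧
      (∀ x : H, x ∉ B → x ^ 2 = 1 ∧ ∀ b ∈ B, x * b * x⁻¹ = b⁻¹) ∧
      (¬ (IsMulCommutative H ∧ ∀ x : H, x ^ 2 = 1) →
        ∀ B' : Subgroup H, B'.Normal → IsMulCommutative ↥B' → B'.index = 2 →
          (∀ x : H, x ∉ B' → x ^ 2 = 1 ∧ ∀ b ∈ B', x * b * x⁻¹ = b⁻¹) → B' = B) := by
  classical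
  have inv_eq : ∀ {x : H}, x ^ 2 = 1 → x⁻¹ = x := fun {x} hx =>
    inv_eq_of_mul_eq_one_right (by rwa [← sq])
  have hinvA : ∀ x, x ∉ A → ∀ a ∈ A, x * a * x⁻¹ = a⁻¹ := by
    intro x hx a ha
    have h1 : x * a ∉ A := fun h => hx (by simpa using A.mul_mem h (A.inv_mem ha))
    have h2 := hD _ h1
    rw [sq] at h2
    rw [inv_eq (hD x hx)]
    exact (inv_eq_of_mul_eq_one_left (by rw [← h2]; simp [mul_assoc])).symm
  obtain ⟨x₀, hx₀⟩ : ∃ x, x ∉ A := by
    by_contra h
    push Not at h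
    exact hA (eq_top_iff.2 fun x _ => h x)
  have hAab : IsMulCommutative A := ⟨⟨fun a b => Subtype.ext (inv_injective (by
    show ((a : H) * b)⁻¹ = ((b : H) * a)⁻¹
    have e1 := hinvA x₀ hx₀ _ (A.mul_mem a.2 b.2)
    have e2 : x₀ * ((a : H) * b) * x₀⁻¹ = (x₀ * a * x₀⁻¹) * (x₀ * b * x₀⁻¹) := by group
    rw [← e1, e2, hinvA x₀ hx₀ a a.2, hinvA x₀ hx₀ b b.2, _root_.mul_inv_rev]))⟩⟩
  have huniq : ∀ B : Subgroup H, IsMulCommutative B → B.index = 2 →
      (∀ x : H, x ∉ B → x ^ 2 = 1 ∧ ∀ b ∈ B, x * b * x⁻¹ = b⁻¹) →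
      ∀ B' : Subgroup H, IsMulCommutative B' → B'.index = 2 →
      (∀ x : H, x ∉ B' → x ^ 2 = 1 ∧ ∀ b ∈ B', x * b * x⁻¹ = b⁻¹) → B' ≠ B →
      IsMulCommutative H ∧ ∀ x : H, x ^ 2 = 1 := by
    intro B hBc hBi hB B' hB'c hB'i hB' hne
    have hsub : ¬ B' ≤ B := fun h => hne (by
      refine Subgroup.eq_of_le_of_card_ge h (le_of_eq ?_)
      have h1 := B.card_mul_index
      have h2 := B'.card_mul_index
      rw [hBi] at h1
      rw [hB'i] at h2
      omega)
    obtain ⟨x, hx', hx⟩ := SetLike.not_le_iff_exists.1 hsub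
    have hB2 : ∀ b ∈ B, b ^ 2 = 1 := by
      intro b hb
      by_cases hb' : b ∈ B'
      · have h1 := (hB x hx).2 b hb
        have h2 : x * b = b * x := congrArg Subtype.val (mul_comm' (⟨x, hx'⟩ : B') ⟨b, hb'⟩)
        rw [h2, mul_inv_cancel_right] at h1
        rw [sq]
        nth_rewrite 2 [h1]
        rw [mul_inv_cancel]
      · exact (hB' b hb').1
    have hall : ∀ y : H, y ^ 2 = 1 := fun y => by
      by_cases hy : y ∈ B
      · exact hB2 y hy
      · exact (hB y hy).1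
    refine ⟨⟨⟨fun a b => ?_⟩⟩, hall⟩
    rw [← inv_eq (hall (a * b)), _root_.mul_inv_rev, inv_eq (hall a), inv_eq (hall b)]
  by_cases hidx : ∀ x y, x ∉ A → y ∉ A → x * y ∈ A
  · have hi2 : A.index = 2 := by
      rw [Subgroup.index_eq_two_iff]
      refine ⟨x₀, fun b => ?_⟩
      by_cases hb : b ∈ A
      · exact Or.inr ⟨hb, fun h => hx₀ (by simpa using A.mul_mem (A.inv_mem hb) h)⟩
      · exact Or.inl ⟨hidx b x₀ hb hx₀, hb⟩
    have hprop : ∀ x : H, x ∉ A → x ^ 2 = 1 ∧ ∀ b ∈ A, x * b * x⁻¹ = b⁻¹ :=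
      fun x hx => ⟨hD x hx, hinvA x hx⟩
    refine ⟨A, Subgroup.normal_of_index_eq_two hi2, hAab, hi2, hprop, fun hn B' _ hB'c hB'i hB' => ?_⟩
    by_contra hne
    exact hn (huniq A hAab hi2 hprop B' hB'c hB'i hB' hne)
  · push Not at hidx
    obtain ⟨x, y, hx, hy, hxy⟩ := hidx
    have hA2 : ∀ a ∈ A, a ^ 2 = 1 := by
      intro a ha
      have h1 := hinvA _ hxy a ha
      rw [show x * y * a * (x * y)⁻¹ = x * (y * a * y⁻¹) * x⁻¹ by group, hinvA y hy a ha,
        hinvA x hx _ (A.inv_mem ha), inv_inv] at h1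
      rw [sq]
      nth_rewrite 2 [h1]
      rw [mul_inv_cancel]
    have hall : ∀ z : H, z ^ 2 = 1 := fun z => by
      by_cases hz : z ∈ A
      · exact hA2 z hz
      · exact hD z hz
    have hcomm : ∀ a b : H, a * b = b * a := fun a b => by
      rw [← inv_eq (hall (a * b)), _root_.mul_inv_rev, inv_eq (hall a), inv_eq (hall b)]
    haveI hHc : IsMulCommutative H := ⟨⟨hcomm⟩⟩
    obtain ⟨B, hB, -⟩ := (eq_top_or_exists_le_coatom A).resolve_left hA
    haveI : B.Normal := ⟨fun n hn g => by rw [hcomm g n, mul_inv_cancel_right]; exact hn⟩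
    obtain ⟨g, hg⟩ : ∃ g, g ∉ B := by
      by_contra h
      push Not at h
      exact hB.1 (eq_top_iff.2 fun g _ => h g)
    have htop : B ⊔ Subgroup.zpowers g = ⊤ := hB.2 _ (lt_of_le_of_ne le_sup_left fun h =>
      hg (h ▸ Subgroup.mem_sup_right (Subgroup.mem_zpowers g)))
    have hrel : ∀ z : H, z ∉ B → z * g ∈ B := by
      intro z hz
      obtain ⟨b, hb, w, hw, rfl⟩ := Subgroup.mem_sup_of_normal_left.1 (htop ▸ Subgroup.mem_top z)
      obtain ⟨n, rfl⟩ := hw
      have hg2 : g ^ (2 : ℤ) = 1 := by rw [show (2 : ℤ) = ((2 : ℕ) : ℤ) from rfl, zpow_natCast]; exact hall g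
      rcases Int.even_or_odd n with ⟨m, hm⟩ | ⟨m, hm⟩
      · refine absurd ?_ hz
        show b * g ^ n ∈ B
        rw [hm, ← two_mul, zpow_mul, hg2, one_zpow, mul_one]; exact hb
      · show b * g ^ n * g ∈ B
        rw [mul_assoc, ← zpow_add_one, hm, show 2 * m + 1 + 1 = 2 * (m + 1) by ring, zpow_mul, hg2,
          one_zpow, mul_one]
        exact hb
    have hBi : B.index = 2 := by
      rw [Subgroup.index_eq_two_iff]
      refine ⟨g, fun b => ?_⟩
      by_cases hb : b ∈ B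
      · exact Or.inr ⟨hb, fun h => hg (by simpa using B.mul_mem (B.inv_mem hb) h)⟩
      · exact Or.inl ⟨hrel b hb, hb⟩
    refine ⟨B, inferInstance, ⟨⟨fun a b => Subtype.ext (hcomm _ _)⟩⟩, hBi, fun z _ => ⟨hall z, fun b _ => ?_⟩,
      fun hn => absurd ⟨hHc, hall⟩ hn⟩
    rw [hcomm z b, mul_inv_cancel_right, inv_eq (hall b)]

end Cfsg.Agent.S4420
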