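import Cfsg.Statements.S4421


set_option autoImplicit false
open Cfsg

namespace Cfsg.Agent.S4421

/-- A factorization of a normalizer from two-step control of fusion. Let `G` be a finite group and `A ≤ S ≤ H` subgroups of `G` such that: (i) `S` controls the `G`-fusion of `A` in the sense that every `G`-conjugate of `A` lying in `S` is an `S`-conjugate of `A`; (ii) `H` controls the `G`-fusion of `S` in the same sense; (iii) every conjugate of `S` by an element of the normalizer of `A` lies in `H`. Then `N_G(A) = N_H(A) · (N_G(S) ∩ N_G(A))`: every element of the normalizer of `A` is a product of an element of `H` normalizing `A` and an element normalizing both `S` and `A`. -/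
theorem result {G : Type*} [Group G] [Finite G] (A S H : Subgroup G)
    (hAS : A ≤ S) (hSH : S ≤ H)
    (h1 : ∀ g : G, A.map (MulAut.conj g).toMonoidHom ≤ S → ∃ s ∈ S, A.map (MulAut.conj g).toMonoidHom = A.map (MulAut.conj s).toMonoidHom)
    (h2 : ∀ g : G, S.map (MulAut.conj g).toMonoidHom ≤ H → ∃ y ∈ H, S.map (MulAut.conj g).toMonoidHom = S.map (MulAut.conj y).toMonoidHom)
    (h3 : ∀ x ∈ Subgroup.normalizer (A : Set G), S.map (MulAut.conj x).toMonoidHom ≤ H) :
    ∀ x ∈ Subgroup.normalizer (A : Set G), ∃ y ∈ H ⊓ Subgroup.normalizer (A : Set G),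
      ∃ z ∈ Subgroup.normalizer (S : Set G) ⊓ Subgroup.normalizer (A : Set G), x = y * z := by
  intro x hx
  have hS : ∀ {g : G} {T : Subgroup G} {w : G}, w ∈ T.map (MulAut.conj g).toMonoidHom ↔ g⁻¹ * w * g ∈ T := by
    intro g T w
    constructor
    · rintro ⟨v, hv, rfl⟩
      simpa [mul_assoc] using hv
    · exact fun h => ⟨_, h, by simp [mul_assoc]⟩
  have hnorm : ∀ {g : G} {T : Subgroup G}, g ∈ Subgroup.normalizer (T : Set G) ↔
      T.map (MulAut.conj g).toMonoidHom = T := by
    intro g T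
    rw [Subgroup.mem_normalizer_iff'']
    constructor
    · intro h
      ext w
      rw [hS]
      exact (h w).symm
    · intro h w
      conv_lhs => rw [← h]
      exact hS
  have hcomp : ∀ (g k : G) (T : Subgroup G), (T.map (MulAut.conj k).toMonoidHom).map (MulAut.conj g).toMonoidHom
      = T.map (MulAut.conj (g * k)).toMonoidHom := by
    intro g k T
    rw [Subgroup.map_map]
    congr 1
    ext w
    simp [mul_assoc]
  obtain ⟨y₀, hy₀, hy⟩ := h2 x (h3 x hx)
  have hz₀ : y₀⁻¹ * x ∈ Subgroup.normalizer (S : Set G) := by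
    rw [hnorm, ← hcomp, hy, hcomp, inv_mul_cancel]
    ext w; simp
  have hle : A.map (MulAut.conj (y₀⁻¹ * x)).toMonoidHom ≤ S :=
    (Subgroup.map_mono hAS).trans (hnorm.1 hz₀).le
  obtain ⟨s, hs, hAs⟩ := h1 _ hle
  have hsN : s ∈ Subgroup.normalizer (S : Set G) := Subgroup.le_normalizer hs
  have hzA : s⁻¹ * (y₀⁻¹ * x) ∈ Subgroup.normalizer (A : Set G) := by
    rw [hnorm, ← hcomp, hAs, hcomp, inv_mul_cancel]
    ext w; simp
  refine ⟨y₀ * s, ⟨mul_mem hy₀ (hSH hs), ?_⟩, s⁻¹ * (y₀⁻¹ * x),
    ⟨(Subgroup.normalizer (S : Set G)).mul_mem ((Subgroup.normalizer (S : Set G)).inv_mem hsN) hz₀, hzA⟩, by group⟩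
  have := mul_mem hx (inv_mem hzA)
  rwa [show x * (s⁻¹ * (y₀⁻¹ * x))⁻¹ = y₀ * s by group] at this

end Cfsg.Agent.S4421
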