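import Cfsg.Statements.S4422


set_option autoImplicit false
open Cfsg

namespace Cfsg.Agent.S4422

/-- Primitive divisors of `q^e - 1` are congruent to 1 modulo `e`. Let `q ≥ 2` and `e ≥ 1` be natural numbers and let `m` be a divisor of `q^e - 1` that is coprime to `q^i - 1` for every `1 ≤ i < e` (so `m` divides the primitive part of `q^e - 1`, the largest such divisor). Then `m ≡ 1 (mod e)`. -/
theorem result (q e m : ℕ) (hq : 2 ≤ q) (he : 1 ≤ e)
    (hm : m ∣ q ^ e - 1) (hcop : ∀ i : ℕ, 1 ≤ i → i < e → Nat.Coprime m (q ^ i - 1)) :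
    m % e = 1 % e := by
  rcases Nat.eq_or_lt_of_le he with rfl | he1
  · simp [Nat.mod_one]
  have hqe : 1 < q ^ e := Nat.one_lt_pow (by omega) (by omega)
  have key : ∀ r : ℕ, r.Prime → r ∣ m → r % e = 1 % e := by
    intro r hr hrm
    haveI := Fact.mk hr
    have h1 : ((q : ZMod r)) ^ e = 1 := by
      have hd := hrm.trans hm
      rw [← ZMod.natCast_eq_zero_iff, Nat.cast_sub hqe.le, Nat.cast_pow, Nat.cast_one, sub_eq_zero] at hd
      exact hd
    have hne : (q : ZMod r) ≠ 0 := fun h0 => by
      rw [h0, zero_pow (by omega)] at h1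
      exact zero_ne_one h1
    have hord : orderOf (q : ZMod r) = e := by
      rw [orderOf_eq_iff (by omega)]
      refine ⟨h1, fun i hie hi hcon => ?_⟩
      have hd : r ∣ q ^ i - 1 := by
        rw [← ZMod.natCast_eq_zero_iff, Nat.cast_sub (Nat.one_le_pow _ _ (by omega)), Nat.cast_pow,
          Nat.cast_one, hcon, sub_self]
      exact hr.ne_one (Nat.eq_one_of_dvd_coprimes (hcop i hi hie) hrm hd)
    have hdvd : e ∣ r - 1 := hord ▸ ZMod.orderOf_dvd_card_sub_one hne
    exact ((Nat.modEq_iff_dvd' hr.one_lt.le).2 hdvd).symm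
  clear hm hcop hqe
  induction m using Nat.recOnMul with
  | zero =>
    have h2 := key 2 Nat.prime_two (dvd_zero 2)
    have h3 := key 3 Nat.prime_three (dvd_zero 3)
    rw [Nat.one_mod_eq_one.2 (by omega)] at h2 h3
    rcases Nat.lt_or_ge 3 e with h | h
    · rw [Nat.mod_eq_of_lt h] at h3; omega
    · interval_cases e <;> omega
  | one => rfl
  | prime p hp => exact key p hp dvd_rfl
  | mul a b ha hb =>
    rw [Nat.mul_mod, ha fun r hr hd => key r hr (hd.mul_right b),
      hb fun r hr hd => key r hr (hd.mul_left a), ← Nat.mul_mod, one_mul]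

end Cfsg.Agent.S4422
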