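import Cfsg.Statements.S4425
import Cfsg.Agent.Lib.Char.Height

set_option autoImplicit false
open Cfsg
open scoped ComplexConjugate

namespace Cfsg.Agent.S4425

/-- Let χ be an irreducible character of the finite group G, p a prime, p^a the p-part of the order of G and p^b the p-part of the degree χ(1). Let χ̃ be the class function equal to p^a · χ on p-regular elements and zero on p-singular elements. Then p^(−b) · χ̃ is a generalized character of G, while p^(−(b+1)) · χ̃ is not. -/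
theorem result {G : Type*} [Group G] [Finite G] (p : ℕ) [Fact p.Prime] (χ : Cfsg.IrrCharacter G) : Cfsg.IsGeneralizedCharacter G (fun x : G => if p ∣ orderOf x then (0 : ℂ) else ((p ^ ((Nat.card G).factorization p - (Cfsg.charDegree (χ : G → ℂ)).factorization p) : ℕ) : ℂ) * (χ : G → ℂ) x) ∧ ¬ Cfsg.IsGeneralizedCharacter G (fun x : G => if p ∣ orderOf x then (0 : ℂ) else ((p ^ (Nat.card G).factorization p : ℕ) : ℂ) / ((p ^ ((Cfsg.charDegree (χ : G → ℂ)).factorization p + 1) : ℕ) : ℂ) * (χ : G → ℂ) x) := by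
  have := Fintype.ofFinite G
  obtain ⟨M, hM⟩ := Cfsg.Agent.Char.exists_pModular (Fact.out : p.Prime)
  have hp := hM.1
  have hP := Cfsg.Agent.Char.pmod_prime hM
  have h2 : (Cfsg.charDegree (χ : G → ℂ)).factorization p = Cfsg.Agent.Char.dexp p (χ : G → ℂ) := rfl
  rw [h2]
  set δ := Cfsg.Agent.Char.dexp p (χ : G → ℂ) with hδ
  set a := (Nat.card G).factorization p with ha
  have hle : δ ≤ a := Cfsg.Agent.Char.dexp_le χ.2
  have hp0 : ∀ k : ℕ, (p : ℂ) ^ k ≠ 0 := fun k => pow_ne_zero _ (Nat.cast_ne_zero.mpr hp.ne_zero)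
  have hexp := Cfsg.Agent.Char.expansion_regInd (p := p) (Cfsg.Agent.Char.irr_isCharacter χ.2)
  constructor
  · choose c hc using fun ψ => Cfsg.Agent.Char.zI_dvd_left hM χ ψ
    have e : (fun x : G => if p ∣ orderOf x then (0 : ℂ) else
        ((p ^ (a - δ) : ℕ) : ℂ) * (χ : G → ℂ) x) = ∑ ψ, (c ψ : ℂ) • (ψ : G → ℂ) := by
      have e1 : ∀ ψ : Cfsg.IrrCharacter G, (c ψ : ℂ) =
          (p : ℂ) ^ (a - δ) * Cfsg.Agent.Char.einner p (χ : G → ℂ) (ψ : G → ℂ) := fun ψ => by
        have h := Cfsg.Agent.Char.zI_spec hp χ ψ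
        rw [hc ψ, ← hδ, ← ha] at h
        push_cast at h
        refine mul_left_cancel₀ (hp0 δ) ?_
        rw [h, ← mul_assoc, ← pow_add, Nat.add_sub_cancel' hle]
      simp only [e1, mul_smul, ← Finset.smul_sum, ← hexp]
      funext x
      simp only [Pi.smul_apply, Pi.mul_apply, smul_eq_mul, Cfsg.Agent.Char.regInd]
      split_ifs <;> simp
    rw [e]
    exact Cfsg.Agent.Char.isGeneralizedCharacter_of_int c
  · intro hg
    obtain ⟨ψ, hψ⟩ := Cfsg.Agent.Char.exists_unitAt hM χ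
    obtain ⟨u, v, hu, hv, huv⟩ := hg
    obtain ⟨m, hm⟩ := Cfsg.Agent.Char.classInner_natCast hu (Cfsg.Agent.Char.irr_isCharacter ψ.2)
    obtain ⟨n, hn⟩ := Cfsg.Agent.Char.classInner_natCast hv (Cfsg.Agent.Char.irr_isCharacter ψ.2)
    refine hψ ⟨(m : ℤ) - n, ?_⟩
    have e : u - v = ((p : ℂ) ^ a / (p : ℂ) ^ (δ + 1)) •
        ((χ : G → ℂ) * Cfsg.Agent.Char.regInd p) := by
      rw [← huv]
      funext x
      simp only [Pi.smul_apply, Pi.mul_apply, smul_eq_mul, Cfsg.Agent.Char.regInd]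
      split_ifs <;> simp [ha]
    have h := congrArg (fun f => Cfsg.classInner f (ψ : G → ℂ)) e
    simp only [Cfsg.Agent.Char.classInner_sub_left, Cfsg.Agent.Char.classInner_smul_left, hm, hn] at h
    apply Int.cast_injective (α := ℂ)
    rw [Cfsg.Agent.Char.zI_spec hp χ ψ, ← ha, ← hδ]
    push_cast
    rw [h, Cfsg.Agent.Char.einner]
    have := hp0 (δ + 1)
    field_simp

end Cfsg.Agent.S4425
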