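import Cfsg.Statements.S4426
import Cfsg.Agent.Lib.Char.Height

set_option autoImplicit false
open Cfsg
open scoped ComplexConjugate

namespace Cfsg.Agent.S4426

/-- Let χ be an irreducible character in the p-block B of the finite group G (relative to a maximal ideal M of the algebraic integers containing p), let p^a be the p-part of the order of G, and let χ̃ be the class function equal to p^a · χ on p-regular elements and zero elsewhere. For ξ ∈ B the inner product [χ̃, ξ] is an integer. The following are equivalent: (a) χ has height zero in B; (b) for some ξ ∈ B the integer [χ̃, ξ] is nonzero and the exact power of p dividing it equals the exact power of p dividing ξ(1); (c) the same holds for every ξ ∈ B. -/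
theorem result {G : Type*} [Group G] [Fintype G] (p : ℕ) [Fact p.Prime] (M : Ideal Cfsg.AlgInt) (hM : Cfsg.IsPModular p M) (B : Set (Cfsg.IrrCharacter G)) (hB : Cfsg.IsPBlock M B) (χ : Cfsg.IrrCharacter G) (hχ : χ ∈ B) : (Cfsg.blockHeight p B (χ : G → ℂ) = 0 ↔ ∃ ξ ∈ B, ∃ n : ℤ, Cfsg.classInner (fun x : G => if p ∣ orderOf x then (0 : ℂ) else ((p ^ (Nat.card G).factorization p : ℕ) : ℂ) * (χ : G → ℂ) x) (ξ : G → ℂ) = (n : ℂ) ∧ n ≠ 0 ∧ padicValInt p n = (Cfsg.charDegree (ξ : G → ℂ)).factorization p) ∧ (Cfsg.blockHeight p B (χ : G → ℂ) = 0 ↔ ∀ ξ ∈ B, ∃ n : ℤ, Cfsg.classInner (fun x : G => if p ∣ orderOf x then (0 : ℂ) else ((p ^ (Nat.card G).factorization p : ℕ) : ℂ) * (χ : G → ℂ) x) (ξ : G → ℂ) = (n : ℂ) ∧ n ≠ 0 ∧ padicValInt p n = (Cfsg.charDegree (ξ : G → ℂ)).factorization p) := by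
  have hp := hM.1
  have hP := Cfsg.Agent.Char.pmod_prime hM
  have hinner : ∀ ξ : Cfsg.IrrCharacter G, Cfsg.classInner (fun x : G => if p ∣ orderOf x then (0 : ℂ)
      else ((p ^ (Nat.card G).factorization p : ℕ) : ℂ) * (χ : G → ℂ) x) (ξ : G → ℂ) =
        (Cfsg.Agent.Char.zI p χ ξ : ℂ) := fun ξ => by
    rw [Cfsg.Agent.Char.zI_spec hp, Cfsg.Agent.Char.einner, ← Cfsg.Agent.Char.classInner_smul_left]
    congr 1
    funext x
    simp only [Pi.smul_apply, Pi.mul_apply, smul_eq_mul, Cfsg.Agent.Char.regInd]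
    split_ifs <;> simp
  have key : ∀ ξ ∈ B, ((Cfsg.Agent.Char.zI p χ ξ ≠ 0 ∧ padicValInt p (Cfsg.Agent.Char.zI p χ ξ) =
      (Cfsg.charDegree (ξ : G → ℂ)).factorization p) ↔ Cfsg.blockHeight p B (χ : G → ℂ) = 0) := by
    intro ξ hξ
    rw [← Cfsg.Agent.Char.pow_dexp_dvd_iff_height hM hB hξ hχ, Cfsg.Agent.Char.UnitAt,
      Cfsg.Agent.Char.zI_symm hp ξ χ]
    have hd : (p : ℤ) ^ Cfsg.Agent.Char.dexp p (ξ : G → ℂ) ∣ Cfsg.Agent.Char.zI p χ ξ := by
      rw [Cfsg.Agent.Char.zI_symm hp χ ξ]; exact Cfsg.Agent.Char.zI_dvd_left hM ξ χ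
    change (_ ∧ _ = Cfsg.Agent.Char.dexp p (ξ : G → ℂ)) ↔ _
    rw [padicValInt_dvd_iff] at hd
    rw [padicValInt_dvd_iff]
    constructor
    · rintro ⟨h0, h1⟩ h2
      rcases h2 with h2 | h2
      · exact h0 h2
      · omega
    · intro h
      push Not at h
      refine ⟨h.1, ?_⟩
      rcases hd with hd | hd
      · exact absurd hd h.1
      · omega
  obtain ⟨χ0, hχ0, -⟩ := Cfsg.Agent.Char.exists_height_zero (p := p)
    (Cfsg.Agent.Char.block_nonempty hP hB)
  constructor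
  · constructor
    · intro h
      exact ⟨χ0, hχ0, Cfsg.Agent.Char.zI p χ χ0, hinner χ0, (key χ0 hχ0).mpr h⟩
    · rintro ⟨ξ, hξ, n, hn, h0, hv⟩
      rw [hinner ξ] at hn
      obtain rfl : Cfsg.Agent.Char.zI p χ ξ = n := by exact_mod_cast hn
      exact (key ξ hξ).mp ⟨h0, hv⟩
  · constructor
    · intro h ξ hξ
      exact ⟨Cfsg.Agent.Char.zI p χ ξ, hinner ξ, (key ξ hξ).mpr h⟩
    · intro hall
      obtain ⟨n, hn, h0, hv⟩ := hall χ0 hχ0
      rw [hinner χ0] at hn
      obtain rfl : Cfsg.Agent.Char.zI p χ χ0 = n := by exact_mod_cast hn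
      exact (key χ0 hχ0).mp ⟨h0, hv⟩

end Cfsg.Agent.S4426
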