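import Cfsg.Statements.S4428
import Cfsg.Agent.Lib.Char.InducedHeightZero

set_option autoImplicit false
open Cfsg
open scoped ComplexConjugate

namespace Cfsg.Agent.S4428

/-- Let χ be an irreducible character of height zero in the p-block B of the finite group G (relative to a maximal ideal M of the algebraic integers containing p). Let x be a p-element of G with centralizer C, and let b be a block of C that induces B. Form the class function ϑ(c) = χ(x c) on C and its b-part (the sum over ψ ∈ b of the inner product of ϑ with ψ, times ψ). Then the b-part of ϑ does not vanish identically on the p-regular elements of C. (Compare the second main Theorem, which gives vanishing when b does not induce B.) -/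
theorem result {G : Type*} [Group G] [Finite G] (p : ℕ) [Fact p.Prime] (M : Ideal Cfsg.AlgInt) (hM : Cfsg.IsPModular p M) (B : Set (Cfsg.IrrCharacter G)) (hB : Cfsg.IsPBlock M B) (χ : Cfsg.IrrCharacter G) (hχ : χ ∈ B) (h0 : Cfsg.blockHeight p B (χ : G → ℂ) = 0) (x : G) (hx : ∃ k : ℕ, orderOf x = p ^ k) (b : Set (Cfsg.IrrCharacter (Subgroup.centralizer ({x} : Set G)))) (hb : Cfsg.IsInducedBlock M (Subgroup.centralizer ({x} : Set G)) b B) : ∃ y : Subgroup.centralizer ({x} : Set G), ¬ p ∣ orderOf y ∧ Cfsg.blockPart b (fun c : Subgroup.centralizer ({x} : Set G) => (χ : G → ℂ) (x * (c : G))) y ≠ 0 := by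
  classical
  letI := Fintype.ofFinite G
  letI := Fintype.ofFinite (Subgroup.centralizer ({x} : Set G))
  have hP := Cfsg.Agent.Char.pmod_prime hM
  have hb' : Cfsg.IsPBlock M b := hb.1
  by_contra hne
  push Not at hne
  obtain ⟨ξ, hξ⟩ := Cfsg.Agent.Char.block_nonempty hP hb'
  refine Cfsg.Agent.Char.lam_restrict_unit hM hb hχ h0 hξ ?_
  set f : ↥(Subgroup.centralizer ({x} : Set G)) → ℂ := fun c => (χ : G → ℂ) (c : G) with hf
  set g : ↥(Subgroup.centralizer ({x} : Set G)) → ℂ := fun c => (χ : G → ℂ) (x * (c : G)) with hg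
  have hχc := Cfsg.Agent.Char.isClassFunction_character (Cfsg.Agent.Char.irr_isCharacter χ.2)
  have hfc : Cfsg.IsClassFunction ↥(Subgroup.centralizer ({x} : Set G)) f := Cfsg.Agent.Char.isClassFunction_restrict hχc
  have hgc : Cfsg.IsClassFunction ↥(Subgroup.centralizer ({x} : Set G)) g := Cfsg.Agent.Char.isClassFunction_secFun hχc
  -- the block part of the restriction
  set w : ↥(Subgroup.centralizer ({x} : Set G)) → ℂ := fun y => ∑ η : Cfsg.IrrCharacter ↥(Subgroup.centralizer ({x} : Set G)) with η ∈ b,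
    Cfsg.classInner f (η : ↥(Subgroup.centralizer ({x} : Set G)) → ℂ) * (η : ↥(Subgroup.centralizer ({x} : Set G)) → ℂ) y with hw
  have hwI : ∀ y : ↥(Subgroup.centralizer ({x} : Set G)), ¬ p ∣ orderOf y → Cfsg.MemLocalIdeal M (w y) := by
    intro y hy
    have e1 : w y = Cfsg.blockPart b f y := (Cfsg.Agent.Char.blockPart_eq b f y).symm
    rw [e1, ← sub_zero (Cfsg.blockPart b f y), ← hne y hy,
      ← Cfsg.Agent.Char.sum_blockCoeff_shift b hfc y,
      ← Cfsg.Agent.Char.sum_blockCoeff_shift b hgc y, ← Finset.sum_sub_distrib]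
    refine Cfsg.Agent.Char.memLI_sum hP _ _ fun k _ => ?_
    rw [← mul_sub]
    refine Cfsg.Agent.Char.memLI_mul_left hP (Cfsg.Agent.Char.memLR_blockCoeff hM hb' k) ?_
    set m : G := ((k * y : ↥(Subgroup.centralizer ({x} : Set G))) : G) with hm
    have hcm : Commute x m := (Subgroup.mem_centralizer_singleton_iff.mp (k * y : ↥(Subgroup.centralizer ({x} : Set G))).2).symm
    have h1 := Cfsg.Agent.Char.char_congr_preg hM (Cfsg.Agent.Char.irr_isCharacter χ.2) m
    have h2 := Cfsg.Agent.Char.char_congr_preg hM (Cfsg.Agent.Char.irr_isCharacter χ.2) (x * m)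
    have e2 : Cfsg.Agent.Char.preg p (x * m) = Cfsg.Agent.Char.preg p m := by
      obtain ⟨⟨v, hv, hcv, hkv, hrv⟩, hrm, -⟩ := Cfsg.Agent.Char.preg_spec (p := p) hM.1 m
      have hv' : v = Cfsg.Agent.Char.preg p m := by
        rw [← mul_right_inj (m * (Cfsg.Agent.Char.preg p m)⁻¹), hv, inv_mul_cancel_right]
      obtain ⟨a, ha⟩ := hx
      obtain ⟨c, hc⟩ := hkv
      have hxp : Commute x (Cfsg.Agent.Char.preg p m) := by
        have hmem : Cfsg.Agent.Char.preg p m ∈ Subgroup.centralizer ({x} : Set G) :=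
          Cfsg.Agent.Char.preg_mem_zpowers hM.1 m (k * y : ↥(Subgroup.centralizer ({x} : Set G))).2
        exact (Subgroup.mem_centralizer_singleton_iff.mp hmem).symm
      have hxu : Commute x (m * (Cfsg.Agent.Char.preg p m)⁻¹) := hcm.mul_right hxp.inv_right
      have hord : ∃ j, orderOf (x * (m * (Cfsg.Agent.Char.preg p m)⁻¹)) = p ^ j := by
        obtain ⟨j, -, hj⟩ := (Nat.dvd_prime_pow hM.1).mp
          (show orderOf (x * (m * (Cfsg.Agent.Char.preg p m)⁻¹)) ∣ p ^ (a + c) by
            rw [pow_add, ← ha, ← hc]; exact hxu.orderOf_mul_dvd_mul_orderOf)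
        exact ⟨j, hj⟩
      conv_lhs => rw [← inv_mul_cancel_right m (Cfsg.Agent.Char.preg p m), ← mul_assoc]
      exact Cfsg.Agent.Char.preg_of_mul hM.1 (hxp.mul_left (hv' ▸ hcv)) hord hrm
    rw [e2] at h2
    have := Cfsg.Agent.Char.memLI_sub hP h1 h2
    simp only [hf, hg]
    rw [show ((χ : G → ℂ) (↑(k * y)) - (χ : G → ℂ) (x * ↑(k * y))) =
      ((χ : G → ℂ) m - (χ : G → ℂ) (Cfsg.Agent.Char.preg p m)) -
        ((χ : G → ℂ) (x * m) - (χ : G → ℂ) (Cfsg.Agent.Char.preg p m)) by ring]
    exact this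
  have hres : Cfsg.IsCharacter ↥(Subgroup.centralizer ({x} : Set G)) f :=
    Cfsg.Agent.Char.isCharacter_comp (Subgroup.centralizer ({x} : Set G)).subtype (Cfsg.Agent.Char.irr_isCharacter χ.2)
  obtain ⟨n, hn⟩ := Cfsg.Agent.Char.exists_decomposition hres
  have hcoef : ∀ η : Cfsg.IrrCharacter ↥(Subgroup.centralizer ({x} : Set G)), Cfsg.classInner f (η : ↥(Subgroup.centralizer ({x} : Set G)) → ℂ) = n η :=
    fun η => Cfsg.Agent.Char.decomposition_coeff n hn η
  -- only the members of the block contribute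
  have key : Cfsg.Agent.Char.lam (ξ : ↥(Subgroup.centralizer ({x} : Set G)) → ℂ) (Cfsg.Agent.Char.regConj p f) =
      Cfsg.Agent.Char.lam (ξ : ↥(Subgroup.centralizer ({x} : Set G)) → ℂ) (Cfsg.Agent.Char.regConj p w) := by
    have e3 : ∀ (s : Finset (Cfsg.IrrCharacter ↥(Subgroup.centralizer ({x} : Set G)))) (φ : ↥(Subgroup.centralizer ({x} : Set G)) → ℂ),
        (∀ y, φ y = ∑ η ∈ s, (n η : ℂ) * (η : ↥(Subgroup.centralizer ({x} : Set G)) → ℂ) y) →
        Cfsg.Agent.Char.lam (ξ : ↥(Subgroup.centralizer ({x} : Set G)) → ℂ) (Cfsg.Agent.Char.regConj p φ) =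
          ∑ η ∈ s, (n η : ℂ) *
            Cfsg.Agent.Char.lam (ξ : ↥(Subgroup.centralizer ({x} : Set G)) → ℂ) (Cfsg.Agent.Char.regConj p (η : ↥(Subgroup.centralizer ({x} : Set G)) → ℂ)) := by
      intro s φ hφ
      simp only [← Cfsg.Agent.Char.lam_smul, ← Cfsg.Agent.Char.lam_sum]
      congr 1
      funext y
      simp only [Cfsg.Agent.Char.regConj, hφ, Finset.sum_apply, Pi.smul_apply, smul_eq_mul,
        map_sum, map_mul, map_natCast, Finset.mul_sum]
      exact Finset.sum_congr rfl fun η _ => by ring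
    rw [e3 Finset.univ f (fun y => by simpa [Finset.sum_apply] using congrFun hn y),
      e3 (Finset.univ.filter fun η => η ∈ b) w (fun y => by simp only [hw, hcoef])]
    refine (Finset.sum_subset (Finset.subset_univ _) fun η _ hη => ?_).symm
    rw [Cfsg.Agent.Char.lam_regConj, Cfsg.Agent.Char.einner_eq_zero_of_not_sameBlock hM ξ η
      (fun h => hη (Finset.mem_filter.mpr ⟨Finset.mem_univ _,
        (Cfsg.Agent.Char.mem_block_iff hP hb' hξ η).mpr h⟩)), mul_zero, zero_div, mul_zero]
  rw [key]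
  refine Cfsg.Agent.Char.memLI_lam hP ξ.2 (fun a t => ?_) fun y => ?_
  · simp only [Cfsg.Agent.Char.regConj, Cfsg.Agent.Char.isClassFunction_regInd p a t, hw]
    congr 2
    exact Finset.sum_congr rfl fun η _ => by
      rw [Cfsg.Agent.Char.isClassFunction_character (Cfsg.Agent.Char.irr_isCharacter η.2) a t]
  · simp only [Cfsg.Agent.Char.regConj]
    by_cases hy : p ∣ orderOf y
    · rw [Cfsg.Agent.Char.regInd_of_sing hy, zero_mul]
      exact Cfsg.Agent.Char.memLI_zero hP
    · rw [Cfsg.Agent.Char.regInd_of_reg hy, one_mul]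
      have e4 : (starRingEnd ℂ) (w y) = w y⁻¹ := by
        simp only [hw, hcoef, map_sum, map_mul, map_natCast,
          Cfsg.Agent.Char.char_inv (Cfsg.Agent.Char.irr_isCharacter (Subtype.prop _))]
      rw [e4]
      exact hwI _ (by rwa [orderOf_inv])

end Cfsg.Agent.S4428
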