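import Cfsg.Statements.S4441
import Cfsg.Agent.Lib.Char.PrimeSylowPrincipal

set_option autoImplicit false
open Cfsg Cfsg.Agent.Char
open scoped ComplexConjugate

namespace Cfsg.Agent.S4441

/-- Let p be an odd prime and G a finite group whose Sylow p-subgroup P has order p; let C = C_G(P), N = N_G(P), e the index of C in N and t = (p − 1)/e; fix a maximal ideal M of the algebraic integers containing p and let B₀ be the principal block. Then B₀ is the disjoint union of a set X of e characters and a set Y of t characters such that: each χ ∈ X has a sign ε_χ with χ(1) ≡ ε_χ (mod p) and χ(x y) = ε_χ for every non-identity x ∈ P and every p-regular y ∈ C; all members of Y agree on the p-regular elements of G; there is one sign ε with θ(1) ≡ ε e (mod p) for every θ ∈ Y; and for every θ ∈ Y and every p-regular g, ε θ(g) = Σ_{χ ∈ X} ε_χ χ(g). -/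
theorem result {G : Type*} [Group G] [Fintype G] (p : ℕ) [Fact p.Prime] (M : Ideal Cfsg.AlgInt) (hM : Cfsg.IsPModular p M) (hodd : p ≠ 2) (P : Sylow p G) (hP : Nat.card P = p) (e : ℕ) (he : (Subgroup.centralizer ((P : Subgroup G) : Set G)).relIndex (Subgroup.normalizer ((P : Subgroup G) : Set G)) = e) : ∃ X Y : Set (Cfsg.IrrCharacter G), Cfsg.principalBlock M G = X ∪ Y ∧ Disjoint X Y ∧ Nat.card X = e ∧ Nat.card Y = (p - 1) / e ∧ ∃ (εX : Cfsg.IrrCharacter G → ℤ) (ε : ℤ), (∀ χ ∈ X, (εX χ = 1 ∨ εX χ = -1) ∧ (Cfsg.charDegree (χ : G → ℂ) : ℤ) ≡ εX χ [ZMOD p] ∧ ∀ x : G, x ∈ (P : Subgroup G) → x ≠ 1 → ∀ y : G, y ∈ Subgroup.centralizer ((P : Subgroup G) : Set G) → ¬ p ∣ orderOf y → (χ : G → ℂ) (x * y) = (εX χ : ℂ)) ∧ (ε = 1 ∨ ε = -1) ∧ (∀ θ ∈ Y, (Cfsg.charDegree (θ : G → ℂ) : ℤ) ≡ ε * (e : ℤ) [ZMOD p]) ∧ (∀ θ ∈ Y, ∀ θ' ∈ Y, ∀ g : G, ¬ p ∣ orderOf g → (θ : G → ℂ) g = (θ' : G → ℂ) g) ∧ ∀ θ ∈ Y, ∀ g : G, ¬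 p ∣ orderOf g → (ε : ℂ) * (θ : G → ℂ) g = ∑ᶠ χ ∈ X, (εX χ : ℂ) * (χ : G → ℂ) g := by
  classical
  obtain ⟨X, Y, a, δ, h⟩ := exists_prime_principal hM hP he
  refine ⟨↑X, ↑Y, ?_, Finset.disjoint_coe.mpr h.disj, ?_, ?_, a, δ, fun χ hχ => ⟨h.a_sign χ hχ,
    h.a_congr χ hχ, fun x hx hx1 y hy hyr => ?_⟩, h.sign, h.congrY, h.regY, fun θ hθ g hg => ?_⟩
  · ext χ
    simp [h.mem_iff χ]
  · rw [Nat.card_coe_set_eq, Set.ncard_coe_finset, h.cardX]
  · rw [Nat.card_coe_set_eq, Set.ncard_coe_finset, h.cardY]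
  · have hf := frobSylow_of_prime (P := P) hP
    have hmem : χ ∈ principalBlock M G := (h.mem_iff χ).mpr (Or.inl hχ)
    have hy' : y ∈ Subgroup.centralizer ({x} : Set G) :=
      Subgroup.mem_centralizer_singleton_iff.mpr
        ((Subgroup.mem_centralizer_iff.mp hy x hx).symm)
    refine (hf.principal_const hM hmem (y := ⟨x, hx⟩) hx1 ⟨y, hy'⟩ (by simpa using hyr)).trans ?_
    exact h.a_val χ hχ ⟨x, hx⟩ (mem_nonOne.mpr hx1)
  · rw [finsum_mem_coe_finset]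
    exact h.rel θ hθ g hg

end Cfsg.Agent.S4441
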