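import Cfsg.Statements.S4442
import Cfsg.Agent.Lib.Char.DefectOneValues

set_option autoImplicit false
open Cfsg
open Cfsg Cfsg.Agent

namespace Cfsg.Agent.S4442

/-- Blocks of defect one. Let p be an odd prime and G a finite group whose Sylow p-subgroup P has order p; let C = C_G(P) and N = N_G(P), and fix a maximal ideal M of the algebraic integers containing p. Let B be a block of G with defect group P, b a block of C inducing B, and θ the member of b having P in its kernel (there is exactly one). Let T be the stabilizer of θ in N (the elements g ∈ N with θ(g c g⁻¹) = θ(c) for all c ∈ C) and e the index of C in T. Then e divides p − 1 and B contains exactly e + (p − 1)/e irreducible characters. Moreover B is the disjoint union of a set X of e characters and a set Y of (p − 1)/e characters such that, with f the index of C in N: every χ ∈ X has χ(1) ≡ ±(f/e)·θ(1) (mod p), there is one sign ε with ψ(1) ≡ ε f θ(1) (mod p) for all ψ ∈ Y, and all members of Y agree on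 the p-regular elements of G. -/
theorem result {G : Type*} [Group G] [Finite G] (p : ℕ) [Fact p.Prime] (M : Ideal Cfsg.AlgInt) (hM : Cfsg.IsPModular p M) (hodd : p ≠ 2) (P : Sylow p G) (hP : Nat.card P = p) (B : Set (Cfsg.IrrCharacter G)) (hB : Cfsg.IsPBlock M B) (hBP : Cfsg.IsDefectGroup p M B P) (b : Set (Cfsg.IrrCharacter (Subgroup.centralizer ((P : Subgroup G) : Set G)))) (hind : Cfsg.IsInducedBlock M (Subgroup.centralizer ((P : Subgroup G) : Set G)) b B) (θ : Cfsg.IrrCharacter (Subgroup.centralizer ((P : Subgroup G) : Set G))) (hθ : θ ∈ b) (hθP : ∀ x : Subgroup.centralizer ((P : Subgroup G) : Set G), (x : G) ∈ (P : Subgroup G) → (θ : Subgroup.centralizer ((P : Subgroup G) : Set G) → ℂ) x = (θ : Subgroup.centralizer ((P : Subgroup G) : Set G) → ℂ) 1) (T : Subgroup G) (hT : ∀ g : G, g ∈ T ↔ (g ∈ Subgroup.normalizer ((P : Subgroup G) : Set G) ∧ ∀ c c' : Subgroup.centralizer ((P : Subgroup G) : Set G), (c' : G) = g * c * g⁻¹ → (θ : Subgroup.centralizer ((P : Subgroup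 G) : Set G) → ℂ) c' = (θ : Subgroup.centralizer ((P : Subgroup G) : Set G) → ℂ) c)) (e f : ℕ) (he : (Subgroup.centralizer ((P : Subgroup G) : Set G)).relIndex T = e) (hf : (Subgroup.centralizer ((P : Subgroup G) : Set G)).relIndex (Subgroup.normalizer ((P : Subgroup G) : Set G)) = f) : e ∣ p - 1 ∧ Nat.card B = e + (p - 1) / e ∧ ∃ X Y : Set (Cfsg.IrrCharacter G), B = X ∪ Y ∧ Disjoint X Y ∧ Nat.card X = e ∧ Nat.card Y = (p - 1) / e ∧ (∀ χ ∈ X, (Cfsg.charDegree (χ : G → ℂ) : ℤ) ≡ ((f / e * Cfsg.charDegree (θ : Subgroup.centralizer ((P : Subgroup G) : Set G) → ℂ) : ℕ) : ℤ) [ZMOD p] ∨ (Cfsg.charDegree (χ : G → ℂ) : ℤ) ≡ -((f / e * Cfsg.charDegree (θ : Subgroup.centralizer ((P : Subgroup G) : Set G) → ℂ) : ℕ) : ℤ) [ZMOD p]) ∧ (∃ ε : ℤ, (ε = 1 ∨ ε = -1) ∧ ∀ ψ ∈ Y, (Cfsg.charDegree (ψ : G → ℂ) : ℤ) ≡ ε * ((f * Cfsg.charDegree (θ : Subgroup.centralizer ((P : Subgroup G) : Set G) → ℂ) : ℕ) : ℤ) [ZMOD p]) ∧ ∀ ψ ∈ Y, ∀ ψ' ∈ Y, ∀ g : G, ¬ p ∣ orderOf g → (ψ : G → ℂ) g = (ψ' : G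 → ℂ) g := by
  classical
  haveI := Fintype.ofFinite G
  haveI := Fintype.ofFinite (Subgroup.centralizer ((P : Subgroup G) : Set G))
  have hMp := Char.pmod_prime hM
  have hp := hM.1
  have hSyl : ¬ p ^ 2 ∣ Nat.card G := fun h => by
    have h1 := Sylow.card_eq_multiplicity P
    rw [hP] at h1
    have h2 : (Nat.card G).factorization p = 1 := (Nat.pow_right_injective hp.two_le (h1.symm.trans (pow_one p).symm))
    have := (hp.pow_dvd_iff_le_factorization Nat.card_pos.ne').mp h
    omega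
  have hpair := Char.SubsectionOrbits.pair_of_induced hM P.isPGroup' hind
  have hmax := Char.maximal_of_defect hM hBP hpair
  have hNC : ∀ g ∈ Subgroup.normalizer ((P : Subgroup G) : Set G), ∀ x ∈ Subgroup.centralizer ((P : Subgroup G) : Set G),
      g * x * g⁻¹ ∈ Subgroup.centralizer ((P : Subgroup G) : Set G) := fun g hg x hx =>
    Char.conj_mem_centralizer hg hx
  have hTS : T = Char.pairStab hMp hmax.1.1.2 := by
    ext g
    rw [hT]
    constructor
    · rintro ⟨hg, hc⟩
      refine (Char.DefectOne.stab_iff hM hmax hP hSyl hθ hθP hg).mpr (Subtype.ext (funext fun c' => ?_))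
      rw [Char.irrTransport_apply]
      refine (hc _ c' ?_).symm
      rw [Char.conjC_apply]
      group
    · intro hgT
      have hg := ((Char.mem_pairStab hMp _).mp hgT).1
      refine ⟨hg, fun c c' hc => ?_⟩
      have h := congrFun (congrArg Subtype.val ((Char.DefectOne.stab_iff hM hmax hP hSyl hθ hθP hg).mp hgT)) c'
      rw [Char.irrTransport_apply] at h
      rw [← h]
      refine congrArg _ (Subtype.ext ?_)
      rw [Char.conjC_apply, hc]
      group
  subst hTS
  obtain ⟨N, y, δ, δ₀, η, hN, hem, hy, hyB, hXcard, hδ, hδ₀, hη, hrel, hX, hY, -⟩ :=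
    Char.DefectOne.exists_degrees hM hmax hP hSyl hθ hθP he rfl
  have hfe : e * (Char.pairStab hMp hmax.1.1.2).relIndex (Subgroup.normalizer ((P : Subgroup G) : Set G)) = f := by
    rw [← hf, ← he]
    exact Subgroup.relIndex_mul_relIndex _ _ _ (Char.stabCtx_pairStab hM hmax.1.1.1 hmax.1.1.2).cent
      fun g hg => ((Char.mem_pairStab hMp _).mp hg).1
  have he0 : 0 < e := Nat.pos_of_ne_zero fun h => by
    rw [h, zero_mul] at hem
    have := hp.two_le
    omega
  have hdiv : f / e = (Char.pairStab hMp hmax.1.1.2).relIndex (Subgroup.normalizer ((P : Subgroup G) : Set G)) := by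
    rw [← hfe, Nat.mul_div_cancel_left _ he0]
  have hNe : (p - 1) / e = N := by rw [← hem, Nat.mul_div_cancel_left _ he0]
  have hBeq : B = {χ | χ ∈ B ∧ χ ∉ Set.range y} ∪ Set.range y := by
    ext χ
    simp only [Set.mem_union, Set.mem_setOf_eq]
    refine ⟨fun h => ?_, fun h => h.elim (·.1) fun ⟨i, hi⟩ => hi ▸ hyB i⟩
    by_cases h' : χ ∈ Set.range y
    · exact Or.inr h'
    · exact Or.inl ⟨h, h'⟩
  have hXc : Nat.card {χ : IrrCharacter G | χ ∈ B ∧ χ ∉ Set.range y} = e := by
    rw [← hXcard, Nat.card_eq_fintype_card, ← Fintype.card_subtype]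
    exact Fintype.card_congr (Equiv.refl _)
  have hYc : Nat.card (Set.range y) = N := by rw [Nat.card_range_of_injective hy, Nat.card_fin]
  have hdisj : Disjoint {χ : IrrCharacter G | χ ∈ B ∧ χ ∉ Set.range y} (Set.range y) :=
    Set.disjoint_left.mpr fun χ h => h.2
  refine ⟨⟨N, hem.symm⟩, ?_, {χ | χ ∈ B ∧ χ ∉ Set.range y}, Set.range y, hBeq, hdisj, hXc,
    hYc.trans hNe.symm, fun χ hχ => ?_, ⟨-(η * δ₀), ?_, ?_⟩, ?_⟩
  · conv_lhs => rw [hBeq]
    rw [Nat.card_coe_set_eq, Set.ncard_union_eq hdisj, ← Nat.card_coe_set_eq, ← Nat.card_coe_set_eq, hXc, hYc, hNe]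
  · have h := hX χ hχ.1 hχ.2
    have hsq : δ χ * δ χ = 1 := by rcases hδ χ with h | h <;> rw [h] <;> rfl
    have h' := h.mul_left (δ χ)
    rw [← mul_assoc, hsq, one_mul, ← mul_assoc] at h'
    rw [Char.charDegree_eq_deg, Char.charDegree_eq_deg, hdiv]
    rcases hδ χ with h1 | h1 <;> rcases hη with h2 | h2 <;> rw [h1, h2] at h' <;>
      norm_num at h' <;> first | exact Or.inl (by simpa using h') | exact Or.inr (by simpa using h')
  · rcases hη with h | h <;> rcases hδ₀ with h' | h' <;> simp [h, h']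
  · rintro _ ⟨i, rfl⟩
    have h := (hY i).mul_left δ₀
    have hsq : δ₀ * δ₀ = 1 := by rcases hδ₀ with h | h <;> rw [h] <;> rfl
    rw [← mul_assoc, hsq, one_mul] at h
    rw [Char.charDegree_eq_deg, Char.charDegree_eq_deg, ← hfe]
    refine h.trans (Eq.subst ?_ Int.ModEq.rfl)
    push_cast
    ring
  · rintro _ ⟨i, rfl⟩ _ ⟨j, rfl⟩ g hg
    have h := (hrel i g hg).trans (hrel j g hg).symm
    exact mul_left_cancel₀ (by rcases hδ₀ with h' | h' <;> simp [h']) (add_right_cancel h)

end Cfsg.Agent.S4442
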