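import Cfsg.Statements.S4443
import Cfsg.Agent.Lib.Char.SylowMatrixApps

set_option autoImplicit false
open Cfsg
open scoped ComplexConjugate

namespace Cfsg.Agent.S4443

/-- Let D be a normal p-subgroup of the finite group G, of order p^d, let p^a be the p-part of the order of G, and fix a Sylow p-subgroup S and a maximal ideal M of the algebraic integers containing p. Index by a finite type ι (via an injective map K) exactly the conjugacy classes of p-regular elements x of G for which D is a Sylow p-subgroup of C_G(x). For classes K_i, K_j let ω(i, j) be the number of pairs (y, z) ∈ K_i × K_j with z y⁻¹ ∈ S; this number is divisible by p^(a−d). Then the number of p-blocks of G having D as a defect group equals the rank over ℤ/pℤ of the matrix with (i, j) entry ω(i, j)/p^(a−d) reduced modulo p. -/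
theorem result {G : Type*} [Group G] [Finite G] (p : ℕ) [Fact p.Prime] (M : Ideal Cfsg.AlgInt) (hM : Cfsg.IsPModular p M) (D : Subgroup G) [D.Normal] (hD : IsPGroup p D) (S : Sylow p G) {ι : Type*} [Fintype ι] [DecidableEq ι] (K : ι → ConjClasses G) (hKinj : Function.Injective K) (hK : ∀ C : ConjClasses G, (∃ i, K i = C) ↔ ∃ x ∈ C.carrier, ¬ p ∣ orderOf x ∧ ∃ Q : Sylow p (Subgroup.centralizer ({x} : Set G)), (Q : Subgroup (Subgroup.centralizer ({x} : Set G))).map (Subgroup.centralizer ({x} : Set G)).subtype = D) : Nat.card {B : Set (Cfsg.IrrCharacter G) // Cfsg.IsPBlock M B ∧ Cfsg.IsDefectGroup p M B D} = (Matrix.of fun i j : ι => ((Nat.card {yz : G × G // yz.1 ∈ (K i).carrier ∧ yz.2 ∈ (K j).carrier ∧ yz.2 * yz.1⁻¹ ∈ (S : Subgroup G)} / p ^ ((Nat.card G).factorization p - (Nat.card D).factorization p) : ℕ) : ZMod p)).rank := by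
  have := Fintype.ofFinite G
  have hmem : ∀ (i : ι) (y : G), y ∈ (K i).carrier ↔ IsConj (K i).out y := fun i y => by
    rw [ConjClasses.mem_carrier_iff_mk_eq]
    conv_lhs => rhs; rw [← Quotient.out_eq (K i)]
    exact ConjClasses.mk_eq_mk_iff_isConj.trans ⟨IsConj.symm, IsConj.symm⟩
  have hx : ∀ y : G, (∃ i, IsConj (K i).out y) ↔
      (¬ p ∣ orderOf y ∧ Cfsg.Agent.Char.IsSylCent p y D) := by
    intro y
    constructor
    · rintro ⟨i, hi⟩
      obtain ⟨z, hz, hzr, Q, hQ⟩ := (hK (K i)).mp ⟨i, rfl⟩
      have hzy : IsConj z y := ((hmem i z).mp hz).symm.trans hi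
      obtain ⟨c, hc⟩ := isConj_iff.mp hzy
      refine ⟨by rw [← hc, ← MulAut.conj_apply, MulEquiv.orderOf_eq]; exact hzr, ?_⟩
      have h := (show Cfsg.Agent.Char.IsSylCent p z D from ⟨Q, hQ.symm⟩).conj Fact.out c
      rw [hc] at h
      have hDn : D.map (MulAut.conj c).toMonoidHom = D := by
        refine Subgroup.eq_of_le_of_card_ge ?_ (by rw [Subgroup.card_map_of_injective (MulEquiv.injective _)])
        rintro _ ⟨w, hw, rfl⟩
        exact Subgroup.Normal.conj_mem inferInstance w hw c
      rwa [hDn] at h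
    · rintro ⟨hy, Q, hQ⟩
      obtain ⟨i, hi⟩ := (hK (ConjClasses.mk y)).mpr
        ⟨y, ConjClasses.mem_carrier_mk, hy, Q, hQ.symm⟩
      exact ⟨i, (hmem i y).mp (hi ▸ ConjClasses.mem_carrier_mk)⟩
  rw [Cfsg.Agent.Char.card_blocks_eq_rank hM D hD S (fun i => (K i).out)
    (fun i j h => hKinj (by rw [← Quotient.out_eq (K i), ← Quotient.out_eq (K j)];
                            exact ConjClasses.mk_eq_mk_iff_isConj.mpr h)) hx]
  congr 1
  ext i j
  simp only [Matrix.of_apply]
  congr 2
  exact Nat.card_congr ((Equiv.refl _).subtypeEquiv fun gh => by simp [hmem])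

end Cfsg.Agent.S4443
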