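import Cfsg.Statements.S4444
import Cfsg.Agent.Lib.Char.GlaubermanCount

set_option autoImplicit false
open Cfsg
open scoped ComplexConjugate

namespace Cfsg.Agent.S4444

/-- The Glauberman correspondence for a p-group of operators. Inside a finite group Γ let S normalise G with the orders of G and S coprime, S a p-group, and let C = G ⊓ C(S) be the fixed points. Call an irreducible character χ of G S-invariant when χ(s g s⁻¹) = χ(g) for s ∈ S, g ∈ G. Then: (i) for every S-invariant χ there is exactly one irreducible character β of C whose multiplicity [χ_C, β] in the restriction of χ is not divisible by p; (ii) that multiplicity is ≡ 1 or ≡ −1 (mod p); (iii) distinct S-invariant χ give distinct β; (iv) every irreducible character of C arises in this way. So χ ↦ β is a bijection from the S-invariant irreducible characters of G onto the irreducible characters of C. -/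
theorem result {Γ : Type*} [Group Γ] [Fintype Γ] (G S : Subgroup Γ) [Fintype G] (hnorm : ∀ s ∈ S, ∀ g ∈ G, s * g * s⁻¹ ∈ G) (hcop : (Nat.card G).Coprime (Nat.card S)) (p : ℕ) (hp : p.Prime) (hS : IsPGroup p S) (C : Subgroup Γ) [Fintype C] (hC : C = G ⊓ Subgroup.centralizer (S : Set Γ)) (hCG : C ≤ G) : (∀ χ : Cfsg.IrrCharacter G, (∀ s ∈ S, ∀ g g' : G, (g' : Γ) = s * g * s⁻¹ → (χ : G → ℂ) g' = (χ : G → ℂ) g) → ∃! β : Cfsg.IrrCharacter C, ∃ m : ℕ, Cfsg.classInner (fun c : C => (χ : G → ℂ) ⟨c, hCG c.2⟩) (β : C → ℂ) = (m : ℂ) ∧ ¬ p ∣ m) ∧ (∀ χ : Cfsg.IrrCharacter G, (∀ s ∈ S, ∀ g g' : G, (g' : Γ) = s * g * s⁻¹ → (χ : G → ℂ) g' = (χ : G → ℂ) g) → ∀ β : Cfsg.IrrCharacter C, ∀ m : ℕ, Cfsg.classInner (fun c : C => (χ : G → ℂ) ⟨c, hCG c.2⟩) (β : C → ℂ) = (m : ℂ) → ¬ p ∣ m → ((m : ℤ) ≡ 1 [ZMOD p] ∨ (m : ℤ) ≡ -1 [ZMOD p])) ∧ (∀ χ χ' : Cfsg.IrrCharacter G, (∀ s ∈ S, ∀ g g' : G, (g' : Γ) = s * g * s⁻¹ → (χ : G →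 ℂ) g' = (χ : G → ℂ) g) → (∀ s ∈ S, ∀ g g' : G, (g' : Γ) = s * g * s⁻¹ → (χ' : G → ℂ) g' = (χ' : G → ℂ) g) → ∀ β : Cfsg.IrrCharacter C, ∀ m m' : ℕ, Cfsg.classInner (fun c : C => (χ : G → ℂ) ⟨c, hCG c.2⟩) (β : C → ℂ) = (m : ℂ) → ¬ p ∣ m → Cfsg.classInner (fun c : C => (χ' : G → ℂ) ⟨c, hCG c.2⟩) (β : C → ℂ) = (m' : ℂ) → ¬ p ∣ m' → χ = χ') ∧ (∀ β : Cfsg.IrrCharacter C, ∃ χ : Cfsg.IrrCharacter G, (∀ s ∈ S, ∀ g g' : G, (g' : Γ) = s * g * s⁻¹ → (χ : G → ℂ) g' = (χ : G → ℂ) g) ∧ ∃ m : ℕ, Cfsg.classInner (fun c : C => (χ : G → ℂ) ⟨c, hCG c.2⟩) (β : C → ℂ) = (m : ℂ) ∧ ¬ p ∣ m) := by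
  let φ := Cfsg.Agent.Char.conjActHom G S hnorm
  let ι := Subgroup.inclusion hCG
  have hfix : ∀ g : G, g ∈ ι.range ↔ ∀ s, φ s g = g := by
    intro g
    constructor
    · rintro ⟨c, rfl⟩ s
      apply Subtype.ext
      have := Subgroup.mem_centralizer_iff.mp (Subgroup.mem_inf.mp ((SetLike.ext_iff.mp hC _).mp c.2)).2 s s.2
      show (s : Γ) * c * (s : Γ)⁻¹ = c
      rw [this]; group
    · intro hg
      refine ⟨⟨g, (SetLike.ext_iff.mp hC _).mpr (Subgroup.mem_inf.mpr ⟨g.2, Subgroup.mem_centralizer_iff.mpr fun s hs => ?_⟩)⟩,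
        Subtype.ext rfl⟩
      have : s * (g : Γ) * s⁻¹ = g := congrArg Subtype.val (hg ⟨s, hs⟩)
      exact mul_inv_eq_iff_eq_mul.mp this
  have hinv : ∀ χ : Cfsg.IrrCharacter G,
      (∀ s ∈ S, ∀ g g' : G, (g' : Γ) = s * g * s⁻¹ → (χ : G → ℂ) g' = (χ : G → ℂ) g) ↔
      ∀ (s : S) (g : G), (χ : G → ℂ) (φ s g) = (χ : G → ℂ) g := fun χ =>
    ⟨fun hχ s g => hχ s s.2 g _ rfl, fun hχ s hs g g' he => by
      rw [show g' = φ ⟨s, hs⟩ g from Subtype.ext he]; exact hχ _ g⟩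
  simp only [hinv]
  have hrc : ∀ (χ : Cfsg.IrrCharacter G) (β : Cfsg.IrrCharacter C), ∃ m : ℕ,
      Cfsg.classInner ((χ : G → ℂ) ∘ ι) (β : C → ℂ) = (m : ℂ) := fun χ β =>
    Cfsg.Agent.Char.classInner_natCast
      (Cfsg.Agent.Char.isCharacter_comp ι (Cfsg.Agent.Char.irr_isCharacter χ.2))
      (Cfsg.Agent.Char.irr_isCharacter β.2)
  by_cases hS1 : p ∣ Nat.card S
  · obtain ⟨M, hM⟩ := Cfsg.Agent.Char.exists_pModular hp
    have h : Cfsg.Agent.Char.CoprimeFix M p φ ι :=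
      { pmod := hM, pgroup := hS, inj := Subgroup.inclusion_injective hCG, range := hfix
        coprime := fun hd => hp.ne_one (Nat.eq_one_of_dvd_coprimes hcop hd hS1) }
    have hmul : ∀ (χ : Cfsg.IrrCharacter G) (hχ : ∀ (s : S) (g : G), (χ : G → ℂ) (φ s g) = (χ : G → ℂ) g)
        (β : Cfsg.IrrCharacter C) (m : ℕ),
        Cfsg.classInner ((χ : G → ℂ) ∘ ι) (β : C → ℂ) = (m : ℂ) → ¬ p ∣ m → h.corr β = χ :=
      fun χ hχ β m hm hd => by_contra fun hne => hd ((h.multiplicity hχ β hm).2 hne)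
    have hne : ∀ (m : ℕ), ((m : ℤ) ≡ 1 [ZMOD p] ∨ (m : ℤ) ≡ -1 [ZMOD p]) → ¬ p ∣ m := by
      intro m hm hd
      have h0 : (m : ℤ) ≡ 0 [ZMOD p] := Int.modEq_zero_iff_dvd.mpr (Int.natCast_dvd_natCast.mpr hd)
      rcases hm with h1 | h1
      · have := Int.modEq_zero_iff_dvd.mp (h1.symm.trans h0)
        exact hp.ne_one (Nat.dvd_one.mp (Int.natCast_dvd_natCast.mp this))
      · have := Int.modEq_zero_iff_dvd.mp (h1.symm.trans h0)
        rw [Int.dvd_neg] at this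
        exact hp.ne_one (Nat.dvd_one.mp (Int.natCast_dvd_natCast.mp this))
    refine ⟨fun χ hχ => ?_, fun χ hχ β m hm hd => (h.multiplicity hχ β hm).1 (hmul χ hχ β m hm hd),
      fun χ χ' hχ hχ' β m m' hm hd hm' hd' =>
        (hmul χ hχ β m hm hd).symm.trans (hmul χ' hχ' β m' hm' hd'), fun β => ?_⟩
    · obtain ⟨β, hβ⟩ := h.corr_surjective hχ
      obtain ⟨m, hm⟩ := hrc χ β
      exact ⟨β, ⟨m, hm, hne m ((h.multiplicity hχ β hm).1 hβ)⟩,
        fun b ⟨m', hm', hd'⟩ => h.corr_injective ((hmul χ hχ b m' hm' hd').trans hβ.symm)⟩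
    · obtain ⟨m, hm⟩ := hrc (h.corr β) β
      exact ⟨h.corr β, h.corr_inv β, m, hm, hne m ((h.multiplicity (h.corr_inv β) β hm).1 rfl)⟩
  · have hS' : Nat.card S = 1 := by
      haveI := Fact.mk hp
      obtain ⟨k, hk⟩ := IsPGroup.iff_card.mp hS
      rcases Nat.eq_zero_or_pos k with rfl | hk0
      · simpa using hk
      · exact absurd (hk ▸ dvd_pow_self p hk0.ne') hS1
    have hone : ∀ (s : S) (g : G), φ s g = g := fun s g => by
      haveI : Subsingleton S := (Nat.card_eq_one_iff_unique.mp hS').1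
      rw [Subsingleton.elim s 1, map_one]; rfl
    have hbij : Function.Bijective ι := ⟨Subgroup.inclusion_injective hCG,
      fun g => (hfix g).mpr fun s => hone s g⟩
    let e := MulEquiv.ofBijective ι hbij
    have hres : ∀ (χ : Cfsg.IrrCharacter G) (β : Cfsg.IrrCharacter C),
        Cfsg.classInner ((χ : G → ℂ) ∘ ι) (β : C → ℂ) =
          (open scoped Classical in if (χ : G → ℂ) ∘ ι = (β : C → ℂ) then 1 else 0) := fun χ β => by
      classical
      have := Cfsg.Agent.Char.irrC_orth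
        ⟨_, Cfsg.Agent.Char.isIrrCharacter_comp_equiv e χ.2⟩ β
      refine this.trans ?_
      simp only [Subtype.ext_iff]
      rfl
    have hmul : ∀ (χ : Cfsg.IrrCharacter G) (β : Cfsg.IrrCharacter C) (m : ℕ),
        Cfsg.classInner ((χ : G → ℂ) ∘ ι) (β : C → ℂ) = (m : ℂ) → ¬ p ∣ m →
          (χ : G → ℂ) ∘ ι = (β : C → ℂ) ∧ m = 1 := fun χ β m hm hd => by
      classical
      rw [hres] at hm
      split_ifs at hm with he
      · exact ⟨he, by exact_mod_cast hm.symm⟩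
      · exact absurd (show m = 0 by exact_mod_cast hm.symm) (fun e => hd (e ▸ dvd_zero p))
    refine ⟨fun χ _ => ?_, fun χ _ β m hm hd => Or.inl (by rw [(hmul χ β m hm hd).2]; rfl),
      fun χ χ' _ _ β m m' hm hd hm' hd' => ?_, fun β => ?_⟩
    · refine ⟨⟨_, Cfsg.Agent.Char.isIrrCharacter_comp_equiv e χ.2⟩, ⟨1, ?_, hp.not_dvd_one⟩,
        fun b ⟨m', hm', hd'⟩ => Subtype.ext (hmul χ b m' hm' hd').1.symm⟩
      refine (hres χ ⟨_, Cfsg.Agent.Char.isIrrCharacter_comp_equiv e χ.2⟩).trans ?_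
      exact (if_pos rfl).trans Nat.cast_one.symm
    · refine Subtype.ext (funext fun g => ?_)
      obtain ⟨c, rfl⟩ := hbij.2 g
      exact congrFun ((hmul χ β m hm hd).1.trans (hmul χ' β m' hm' hd').1.symm) c
    · refine ⟨⟨_, Cfsg.Agent.Char.isIrrCharacter_comp_equiv e.symm β.2⟩, fun s g => by rw [hone],
        1, (hres _ β).trans ?_, hp.not_dvd_one⟩
      exact (if_pos (funext fun c => congrArg (β : C → ℂ) (e.symm_apply_apply c))).trans Nat.cast_one.symm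

end Cfsg.Agent.S4444
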