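import Cfsg.Statements.S4446
import Cfsg.Agent.Lib.Char.CyclicExt

set_option autoImplicit false
open Cfsg
open scoped ComplexConjugate

namespace Cfsg.Agent.S4446

/-- Let the finite group Γ be generated by a normal subgroup G and a cyclic subgroup S of coprime orders, C = G ⊓ C(S), and let χ be an S-invariant irreducible character of G with canonical extension χ̂ to Γ (the extension whose determinantal order is coprime to the order of S). Then there are exactly one irreducible character β of C and one sign ε such that χ̂(c s) = ε β(c) for every c ∈ C and every generator s of S; this β is a constituent of the restriction of χ to C; distinct S-invariant χ give distinct β; and every irreducible character of C arises in this way. -/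
theorem result {Γ : Type*} [Group Γ] [Fintype Γ] (G S : Subgroup Γ) [Fintype G] (hnorm : ∀ s ∈ S, ∀ g ∈ G, s * g * s⁻¹ ∈ G) (hcop : (Nat.card G).Coprime (Nat.card S)) (htop : G ⊔ S = ⊤) (hcyc : IsCyclic S) (C : Subgroup Γ) [Fintype C] (hC : C = G ⊓ Subgroup.centralizer (S : Set Γ)) (hCG : C ≤ G) : (∀ (χ : Cfsg.IrrCharacter G) (χh : Cfsg.IrrCharacter Γ), (∀ s ∈ S, ∀ g g' : G, (g' : Γ) = s * g * s⁻¹ → (χ : G → ℂ) g' = (χ : G → ℂ) g) → (∀ g : G, (χh : Γ → ℂ) g = (χ : G → ℂ) g) → (Cfsg.detOrder (χh : Γ → ℂ)).Coprime (Nat.card S) → (∃! βε : Cfsg.IrrCharacter C × ℤ, (βε.2 = 1 ∨ βε.2 = -1) ∧ ∀ c : C, ∀ s : Γ, Subgroup.zpowers s = S → (χh : Γ → ℂ) ((c : Γ) * s) = (βε.2 : ℂ) * (βε.1 : C → ℂ) c) ∧ ∀ β : Cfsg.IrrCharacter C, ∀ ε : ℤ, (ε = 1 ∨ ε = -1) → (∀ c : C, ∀ s : Γ, Subgroup.zpowers s = S → (χh : Γ → ℂ) ((c : Γ) * s) = (ε : ℂ) * (β : C → ℂ) c) → Cfsg.classInner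 (fun c : C => (χ : G → ℂ) ⟨c, hCG c.2⟩) (β : C → ℂ) ≠ 0) ∧ (∀ (χ χ' : Cfsg.IrrCharacter G) (χh χh' : Cfsg.IrrCharacter Γ), (∀ s ∈ S, ∀ g g' : G, (g' : Γ) = s * g * s⁻¹ → (χ : G → ℂ) g' = (χ : G → ℂ) g) → (∀ s ∈ S, ∀ g g' : G, (g' : Γ) = s * g * s⁻¹ → (χ' : G → ℂ) g' = (χ' : G → ℂ) g) → (∀ g : G, (χh : Γ → ℂ) g = (χ : G → ℂ) g) → (∀ g : G, (χh' : Γ → ℂ) g = (χ' : G → ℂ) g) → (Cfsg.detOrder (χh : Γ → ℂ)).Coprime (Nat.card S) → (Cfsg.detOrder (χh' : Γ → ℂ)).Coprime (Nat.card S) → ∀ β : Cfsg.IrrCharacter C, ∀ ε ε' : ℤ, (ε = 1 ∨ ε = -1) → (ε' = 1 ∨ ε' = -1) → (∀ c : C, ∀ s : Γ, Subgroup.zpowers s = S → (χh : Γ → ℂ) ((c : Γ) * s) = (ε : ℂ) * (β : C → ℂ) c) → (∀ c : C, ∀ s : Γ, Subgroup.zpowers s = S → (χh' : Γ → ℂ) ((c : Γ) * s) = (ε' : ℂ) * (β : C → ℂ) c) → χ = χ') ∧ (∀ β : Cfsg.IrrCharacter C, ∃ (χ : Cfsg.IrrCharacter G) (χh : Cfsg.IrrCharacter Γ)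 (ε : ℤ), (∀ s ∈ S, ∀ g g' : G, (g' : Γ) = s * g * s⁻¹ → (χ : G → ℂ) g' = (χ : G → ℂ) g) ∧ (∀ g : G, (χh : Γ → ℂ) g = (χ : G → ℂ) g) ∧ (Cfsg.detOrder (χh : Γ → ℂ)).Coprime (Nat.card S) ∧ (ε = 1 ∨ ε = -1) ∧ ∀ c : C, ∀ s : Γ, Subgroup.zpowers s = S → (χh : Γ → ℂ) ((c : Γ) * s) = (ε : ℂ) * (β : C → ℂ) c) := by
  classical
  haveI := hcyc
  have h : Char.CycCtx G S C := ⟨hnorm, hcop, htop, hcyc, hC⟩
  obtain ⟨⟨u₀, hu₀⟩, hgen⟩ := IsCyclic.exists_zpow_surjective (G := S)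
  have hS0 : Subgroup.zpowers u₀ = S := le_antisymm ((Subgroup.zpowers_le).2 hu₀) fun s hs => by
    obtain ⟨n, hn⟩ := hgen ⟨s, hs⟩
    exact Subgroup.mem_zpowers_iff.2 ⟨n, congrArg Subtype.val hn⟩
  have huniq : ∀ (f : Γ → ℂ) (β β' : Cfsg.IrrCharacter C) (ε ε' : ℤ), (ε = 1 ∨ ε = -1) →
      (∀ c : C, ∀ s : Γ, Subgroup.zpowers s = S → f ((c : Γ) * s) = (ε : ℂ) * (β : C → ℂ) c) →
      (∀ c : C, ∀ s : Γ, Subgroup.zpowers s = S → f ((c : Γ) * s) = (ε' : ℂ) * (β' : C → ℂ) c) →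
      β' = β ∧ ε' = ε := by
    intro f β β' ε ε' hε hv hv'
    have heq : (ε : ℂ) • (β : C → ℂ) = (ε' : ℂ) • (β' : C → ℂ) := funext fun c =>
      (hv c u₀ hS0).symm.trans (hv' c u₀ hS0)
    have h2 := congrArg (fun F => Cfsg.classInner F (β : C → ℂ)) heq
    simp only [Char.classInner_smul_left, Char.irr_self β.2, mul_one, Char.irrC_orth] at h2
    have hb : β' = β := by
      by_contra hne
      rw [if_neg hne, mul_zero] at h2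
      rcases hε with rfl | rfl <;> norm_num at h2
    refine ⟨hb, ?_⟩
    rw [if_pos hb, mul_one] at h2
    exact_mod_cast h2.symm
  refine ⟨fun χ χh _ hr hd => ?_, fun χ χ' χh χh' _ _ hr hr' hd hd' β ε ε' hε hε' hv hv' =>
    h.eq_of_sign χ χ' χh χh' hr hr' hd hd' β hε hε' hv hv', fun β => h.surjective β⟩
  obtain ⟨β, ε, hε, hv, hne⟩ := h.exists_sign χ χh hr hd
  refine ⟨⟨(β, ε), ⟨hε, hv⟩, ?_⟩, fun β' ε' _ hv' => ?_⟩
  · rintro ⟨β', ε'⟩ ⟨-, hv'⟩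
    obtain ⟨h1, h2⟩ := huniq _ β β' ε ε' hε hv hv'
    exact Prod.ext h1 h2
  · obtain ⟨h1, -⟩ := huniq _ β β' ε ε' hε hv hv'
    rw [h1]
    exact hne

end Cfsg.Agent.S4446
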