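import Cfsg.Statements.S4449
import Cfsg.Agent.Lib.Char.GlaubermanOver

set_option autoImplicit false
open Cfsg
open scoped ComplexConjugate

namespace Cfsg.Agent.S4449

/-- Inside a finite group Γ let the solvable subgroup S normalise G with the orders of G and S coprime, and let N be a normal subgroup of G normalised by S. Then for every S-invariant irreducible character ϑ of N, the induced character ϑ^G has an S-invariant irreducible constituent. -/
theorem result {Γ : Type*} [Group Γ] [Fintype Γ] (G S N : Subgroup Γ) [Fintype G] [Fintype N] (hnorm : ∀ s ∈ S, ∀ g ∈ G, s * g * s⁻¹ ∈ G) (hNG : N ≤ G) (hNnormal : ∀ g ∈ G, ∀ n ∈ N, g * n * g⁻¹ ∈ N) (hNS : ∀ s ∈ S, ∀ n ∈ N, s * n * s⁻¹ ∈ N) (hcop : (Nat.card G).Coprime (Nat.card S)) (hsolv : Group.IsSolvable S) (θ : Cfsg.IrrCharacter N) (hinv : (∀ s ∈ S, ∀ g g' : N, (g' : Γ) = s * g * s⁻¹ → (θ : N → ℂ) g' = (θ : N → ℂ) g)) : ∃ χ : Cfsg.IrrCharacter G, Cfsg.classInner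 (fun n : N => (χ : G → ℂ) ⟨n, hNG n.2⟩) (θ : N → ℂ) ≠ 0 ∧ (∀ s ∈ S, ∀ g g' : G, (g' : Γ) = s * g * s⁻¹ → (χ : G → ℂ) g' = (χ : G → ℂ) g) := by
  classical
  let φ := Cfsg.Agent.Char.conjActHom G S hnorm
  let N' := N.subgroupOf G
  haveI : N'.Normal := ⟨fun n hn g => Subgroup.mem_subgroupOf.mpr (by
    simpa using hNnormal g g.2 n (Subgroup.mem_subgroupOf.mp hn))⟩
  haveI : Fintype N' := Fintype.ofFinite _
  let e : N' ≃* N := Subgroup.subgroupOfEquivOfLe hNG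
  let θ' : Cfsg.IrrCharacter N' :=
    ⟨fun x => (θ : N → ℂ) (e x), Cfsg.Agent.Char.isIrrCharacter_comp_equiv e θ.2⟩
  have hN : ∀ s, ∀ x ∈ N', φ s x ∈ N' := fun s x hx =>
    Subgroup.mem_subgroupOf.mpr (hNS s s.2 _ (Subgroup.mem_subgroupOf.mp hx))
  obtain ⟨χ, hχ, hne⟩ := Cfsg.Agent.Char.exists_invariant_over _ S G φ N' hN θ'
    (fun s x => hinv s s.2 (e x) (e (Cfsg.Agent.Char.restrictAct φ N' hN s x)) rfl) rfl hsolv hcop
  refine ⟨χ, ?_, fun s hs g g' he => by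
    rw [show g' = φ ⟨s, hs⟩ g from Subtype.ext he]; exact hχ _ g⟩
  intro h0
  apply hne
  rw [← h0]
  simp only [Cfsg.classInner, Nat.card_congr e.toEquiv]
  congr 1
  exact Fintype.sum_equiv e.toEquiv _ _ fun x => rfl

end Cfsg.Agent.S4449
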