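import Cfsg.Statements.S4450
import Cfsg.Agent.Lib.Char.RelGlaubermanMain

set_option autoImplicit false
open Cfsg
open scoped ComplexConjugate

namespace Cfsg.Agent.S4450

/-- Let N ≤ G be normal subgroups of the finite group Γ with the index of G in Γ coprime to the index of N in G, and Γ/G or G/N solvable. Then for every irreducible character ϑ of N invariant under conjugation by Γ, the induced character ϑ^G has an irreducible constituent invariant under conjugation by Γ. -/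
theorem result {Γ : Type*} [Group Γ] [Fintype Γ] (G N : Subgroup Γ) [hG : G.Normal] [hN : N.Normal] [Fintype G] [Fintype N] (hNG : N ≤ G) (hcop : (G.index).Coprime (N.relIndex G)) (hsolv : Group.IsSolvable (Γ ⧸ G) ∨ Group.IsSolvable (G ⧸ N.subgroupOf G)) (θ : Cfsg.IrrCharacter N) (hinv : ∀ (x : Γ) (n : N), (θ : N → ℂ) ⟨x * n * x⁻¹, hN.conj_mem n n.2 x⟩ = (θ : N → ℂ) n) : ∃ χ : Cfsg.IrrCharacter G, Cfsg.classInner (fun n : N => (χ : G → ℂ) ⟨n, hNG n.2⟩) (θ : N → ℂ) ≠ 0 ∧ ∀ (x : Γ) (g : G), (χ : G → ℂ) ⟨x * g * x⁻¹, hG.conj_mem g g.2 x⟩ = (χ : G → ℂ) g := by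
  classical
  have hc : ∀ (x : Γ) (g : G), (⟨x * g * x⁻¹, hG.conj_mem g g.2 x⟩ : G) = MulAut.conjNormal x g :=
    fun x g => Subtype.ext (by simp)
  have hθ : ∀ (x : Γ) (n : N), (θ : N → ℂ) (MulAut.conjNormal x n) = (θ : N → ℂ) n := fun x n => by
    rw [← hinv x n]
    congr 1
  rcases hsolv with hs | hs
  · obtain ⟨χ, h1, h2⟩ :=
      Cfsg.Agent.Char.exists_fixed_over_solvable_quotient G N hNG hcop hs θ hθ
    exact ⟨χ, h1, fun x g => by rw [hc]; exact h2 x g⟩
  · obtain ⟨S, hNS, hSG, htop, hrel⟩ := Cfsg.Agent.Char.exists_relative_complement G N hNG hcop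
    obtain ⟨χ, h1, h2⟩ := Cfsg.Agent.Char.exists_fixed_over_solvable _ G N hNG rfl hs S hNS hSG
      (hrel ▸ hcop) θ (fun s _ n => hθ s n)
    refine ⟨χ, h1, fun x g => ?_⟩
    obtain ⟨a, ha, s, hs', rfl⟩ := Subgroup.mem_sup_of_normal_left.1
      (show x ∈ G ⊔ S by rw [htop]; trivial)
    rw [hc, map_mul, MulAut.mul_apply,
      show MulAut.conjNormal a (MulAut.conjNormal s g) =
        (⟨a, ha⟩ : G) * MulAut.conjNormal s g * (⟨a, ha⟩ : G)⁻¹ from Subtype.ext (by simp),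
      Cfsg.Agent.Char.isClassFunction_character (Cfsg.Agent.Char.irr_isCharacter χ.2)]
    exact h2 s hs' g

end Cfsg.Agent.S4450
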