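import Cfsg.Statements.S4451
import Cfsg.Agent.Lib.Char.CyclicExtSigns

set_option autoImplicit false
open Cfsg Cfsg.Agent.Char
open scoped ComplexConjugate

namespace Cfsg.Agent.S4451

/-- Let the finite group Γ be generated by a normal subgroup G and a cyclic subgroup S of coprime orders such that every non-identity element of S has the same centraliser C = G ⊓ C(S) in G. Let χ be an S-invariant irreducible character of G, χ̂ its canonical extension to Γ (determinantal order coprime to the order of S), and β the irreducible character of C with χ̂(c s) = ε₀ β(c) for c ∈ C and generators s of S (ε₀ = ±1). Then there are a sign ε = ±1, which may differ from ε₀, and a linear character μ of S with μ² = 1, such that: (a) χ̂(c x) = ε β(c) μ(x) for all c ∈ C and all x ∈ S other than 1; (b) the restriction of χ to C equals |S|·ϑ + ε β for some character ϑ of C or ϑ =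 0; (c) |S| divides χ(1) − ε β(1). -/
theorem result {Γ : Type*} [Group Γ] [Fintype Γ] (G S : Subgroup Γ) [Fintype G] (hnorm : ∀ s ∈ S, ∀ g ∈ G, s * g * s⁻¹ ∈ G) (hcop : (Nat.card G).Coprime (Nat.card S)) (htop : G ⊔ S = ⊤) (hcyc : IsCyclic S) (C : Subgroup Γ) [Fintype C] (hC : C = G ⊓ Subgroup.centralizer (S : Set Γ)) (hCG : C ≤ G) (hfpf : ∀ x ∈ S, x ≠ 1 → G ⊓ Subgroup.centralizer ({x} : Set Γ) = C) (χ : Cfsg.IrrCharacter G) (hinv : (∀ s ∈ S, ∀ g g' : G, (g' : Γ) = s * g * s⁻¹ → (χ : G → ℂ) g' = (χ : G → ℂ) g)) (χh : Cfsg.IrrCharacter Γ) (hext : (∀ g : G, (χh : Γ → ℂ) g = (χ : G → ℂ) g)) (hdet : (Cfsg.detOrder (χh : Γ → ℂ)).Coprime (Nat.card S)) (β : Cfsg.IrrCharacter C) (ε₀ : ℤ) (hε₀ : ε₀ = 1 ∨ ε₀ = -1) (hβ : ∀ c : C, ∀ s : Γ, Subgroup.zpowers s = S → (χh : Γ → ℂ) ((c : Γ) * s) = (ε₀ : ℂ) * (β : C → ℂ) c) : ∃ ε : ℤ, (ε = 1 ∨ ε = -1) ∧ (∃ μ : S → ℂ, Cfsg.IsCharacter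 S μ ∧ μ 1 = 1 ∧ (∀ x : S, μ x * μ x = 1) ∧ ∀ c : C, ∀ x : S, x ≠ 1 → (χh : Γ → ℂ) ((c : Γ) * x) = (ε : ℂ) * (β : C → ℂ) c * μ x) ∧ (∃ ϑ : C → ℂ, Cfsg.IsCharacter C ϑ ∧ (fun c : C => (χ : G → ℂ) ⟨c, hCG c.2⟩) = fun c => (Nat.card S : ℂ) * ϑ c + (ε : ℂ) * (β : C → ℂ) c) ∧ (Nat.card S : ℤ) ∣ (Cfsg.charDegree (χ : G → ℂ) : ℤ) - ε * (Cfsg.charDegree (β : C → ℂ) : ℤ) := by
  classical
  haveI := Fintype.ofFinite S
  have h : CycCtx G S C := ⟨hnorm, hcop, htop, hcyc, hC⟩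
  obtain ⟨ε, hε, ⟨μ, hμc, hμ1, hμ2, hμv⟩, t, hres⟩ : ∃ ε : ℤ, (ε = 1 ∨ ε = -1) ∧ (∃ μ : S → ℂ,
      Cfsg.IsCharacter S μ ∧ μ 1 = 1 ∧ (∀ x : S, μ x * μ x = 1) ∧ ∀ c : C, ∀ x : S, x ≠ 1 →
        (χh : Γ → ℂ) ((c : Γ) * x) = (ε : ℂ) * (β : C → ℂ) c * μ x) ∧
      ∃ t : IrrCharacter C → ℕ, ∀ c : C, (χ : G → ℂ) ⟨c, hCG c.2⟩ =
        (Nat.card S : ℂ) * ∑ ψ, (t ψ : ℂ) * (ψ : C → ℂ) c + (ε : ℂ) * (β : C → ℂ) c := by
    rcases lt_or_ge 1 (Nat.card S) with hnt | hnt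
    · obtain ⟨ε, μ, t, hε, hμ2, hμv, hres⟩ :=
        h.exists_mu hfpf hnt χ χh hext hdet β hε₀ hβ
      exact ⟨ε, hε, ⟨fun x => (μ x : ℂ), isCharacter_linear μ, by simp, hμ2, hμv⟩, t, hres⟩
    · have hS : S = ⊥ := Subgroup.eq_bot_of_card_le S hnt
      have h1 : ∀ x : S, x = 1 := fun x => Subtype.ext (Subgroup.mem_bot.1 (hS ▸ x.2 : (x : Γ) ∈ (⊥ : Subgroup Γ)))
      refine ⟨ε₀, hε₀, ⟨fun x : S => (((1 : S →* ℂˣ) x : ℂˣ) : ℂ), isCharacter_linear _, by simp,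
        fun x => by simp, fun c x hx => absurd (h1 x) hx⟩, fun _ => 0, fun c => ?_⟩
      have h2 := hβ c 1 (by rw [hS, Subgroup.zpowers_one_eq_bot])
      rw [mul_one] at h2
      rw [← hext]
      simpa using h2
  refine ⟨ε, hε, ⟨μ, hμc, hμ1, hμ2, hμv⟩, ⟨∑ ψ : IrrCharacter C, t ψ • (ψ : C → ℂ),
    isCharacter_sum _ _ fun ψ _ => isCharacter_nsmul (irr_isCharacter ψ.2) _, funext fun c => ?_⟩, ?_⟩
  · simpa [Finset.sum_apply] using hres c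
  · have h2 := hres 1
    choose g hg using fun ψ : IrrCharacter C => charOne_eq_natCast (irr_isCharacter ψ.2)
    refine ⟨((∑ ψ : IrrCharacter C, t ψ * g ψ : ℕ) : ℤ), ?_⟩
    have hχd : (χ : G → ℂ) 1 = (charDegree (χ : G → ℂ) : ℂ) := by
      obtain ⟨d, hd⟩ := charOne_eq_natCast (irr_isCharacter χ.2)
      rw [charDegree, hd]; simp
    have hβd : (β : C → ℂ) 1 = (charDegree (β : C → ℂ) : ℂ) := by
      obtain ⟨d, hd⟩ := charOne_eq_natCast (irr_isCharacter β.2)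
      rw [charDegree, hd]; simp
    rw [show (⟨((1 : C) : Γ), hCG (1 : C).2⟩ : G) = 1 from rfl, hχd, hβd] at h2
    simp only [hg, ← Nat.cast_mul, ← Nat.cast_sum] at h2
    have h3 : (((charDegree (χ : G → ℂ) : ℤ) - ε * charDegree (β : C → ℂ) : ℤ) : ℂ) =
        (((Nat.card S : ℤ) * ((∑ ψ : IrrCharacter C, t ψ * g ψ : ℕ) : ℤ) : ℤ) : ℂ) := by
      simp only [Int.cast_sub, Int.cast_mul, Int.cast_natCast]
      rw [h2]
      push_cast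
      ring
    exact_mod_cast h3

end Cfsg.Agent.S4451
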