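import Cfsg.Statements.S4452
import Cfsg.Agent.Lib.Char.CoprimeMcKay

set_option autoImplicit false
open Cfsg
open scoped ComplexConjugate

namespace Cfsg.Agent.S4452

/-- Let the finite group G be the product of a normal subgroup K and a solvable subgroup H of coprime orders, and let N = N_G(H). Then the number of irreducible characters of G of degree coprime to the order of H equals the number of irreducible characters of N of degree coprime to the order of H. (The two sets are in fact in a canonical bijection; only the equality of their sizes is stated here.) -/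
theorem result {G : Type*} [Group G] [Finite G] (K H : Subgroup G) [K.Normal] (hKH : K ⊔ H = ⊤) (hcop : (Nat.card K).Coprime (Nat.card H)) (hsolv : Group.IsSolvable H) : Nat.card {χ : Cfsg.IrrCharacter G // (Cfsg.charDegree (χ : G → ℂ)).Coprime (Nat.card H)} = Nat.card {η : Cfsg.IrrCharacter (Subgroup.normalizer (H : Set G)) // (Cfsg.charDegree (η : Subgroup.normalizer (H : Set G) → ℂ)).Coprime (Nat.card H)} := by
  classical
  haveI := Fintype.ofFinite G
  haveI := Fintype.ofFinite K
  have hcomm : ∀ k ∈ K, k ∈ Subgroup.normalizer (H : Set G) → ∀ h ∈ H, h * k * h⁻¹ = k := by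
    intro k hk hkN h hh
    have h1 : h * k * h⁻¹ * k⁻¹ ∈ K :=
      K.mul_mem (Subgroup.Normal.conj_mem ‹_› k hk h) (K.inv_mem hk)
    have h2 : h * k * h⁻¹ * k⁻¹ ∈ H := by
      rw [mul_assoc, mul_assoc, ← mul_assoc k]
      exact H.mul_mem hh ((Subgroup.mem_normalizer_iff.1 hkN _).1 (H.inv_mem hh))
    have hd : Disjoint K H := disjoint_iff.2 (Subgroup.inf_eq_bot_of_coprime hcop)
    exact mul_inv_eq_one.1 (Subgroup.disjoint_def.1 hd h1 h2)
  have hd : Disjoint H K := (disjoint_iff.2 (Subgroup.inf_eq_bot_of_coprime hcop)).symm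
  have hcompl : H.IsComplement' K := by
    refine Subgroup.isComplement'_of_disjoint_and_mul_eq_univ hd ?_
    rw [← Subgroup.mul_normal, sup_comm, hKH, Subgroup.coe_top]
  rw [Char.card_coprime_degree_complement K H hcompl hcop]
  have hN : ∀ N : Subgroup G, N = Subgroup.normalizer (H : Set G) →
      Nat.card {η : Cfsg.IrrCharacter N //
        (Cfsg.charDegree (η : N → ℂ)).Coprime (Nat.card H)} =
      Nat.card (Cfsg.IrrCharacter (K.subgroupOf N)) * Nat.card (H →* ℂˣ) := by
    intro N hNeq
    haveI := Fintype.ofFinite N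
    haveI := Fintype.ofFinite (K.subgroupOf N)
    have hle : H ≤ N := hNeq ▸ Subgroup.le_normalizer
    have e : H.subgroupOf N ≃* H := Subgroup.subgroupOfEquivOfLe hle
    have hd' : Disjoint (H.subgroupOf N) (K.subgroupOf N) := by
      rw [Subgroup.disjoint_def]
      intro x h1 h2
      exact Subtype.ext (Subgroup.disjoint_def.1 hd h1 h2)
    have hcompl' : (H.subgroupOf N).IsComplement' (K.subgroupOf N) := by
      refine Subgroup.isComplement'_of_disjoint_and_mul_eq_univ hd' (Set.eq_univ_of_forall fun x => ?_)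
      have hx : (x : G) ∈ H ⊔ K := by rw [sup_comm, hKH]; trivial
      obtain ⟨h, hh, k, hk, hhk⟩ := Subgroup.mem_sup_of_normal_right.1 hx
      have hkN : k ∈ N := by
        rw [show k = h⁻¹ * (x : G) by rw [← hhk]; group]
        exact N.mul_mem (N.inv_mem (hle hh)) x.2
      exact ⟨⟨h, hle hh⟩, hh, ⟨k, hkN⟩, hk, Subtype.ext hhk⟩
    have hcard : Nat.card (H.subgroupOf N) = Nat.card H := Nat.card_congr e.toEquiv
    have hcop' : (Nat.card (K.subgroupOf N)).Coprime (Nat.card (H.subgroupOf N)) := by
      rw [hcard]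
      refine hcop.coprime_dvd_left ?_
      exact Subgroup.card_dvd_of_injective
        ({ toFun := fun y => ⟨((y : N) : G), y.2⟩, map_one' := rfl, map_mul' := fun _ _ => rfl } :
          K.subgroupOf N →* K)
        fun a b h => Subtype.ext (Subtype.ext (congrArg (fun z : K => (z : G)) h))
    have hc := Char.card_coprime_degree_complement (K.subgroupOf N) (H.subgroupOf N) hcompl' hcop'
    rw [hcard] at hc
    rw [hc]
    have e2 : (H.subgroupOf N →* ℂˣ) ≃ (H →* ℂˣ) :=
      { toFun := fun f => f.comp e.symm.toMonoidHom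
        invFun := fun f => f.comp e.toMonoidHom
        left_inv := fun f => MonoidHom.ext fun x => by simp
        right_inv := fun f => MonoidHom.ext fun x => by simp }
    rw [Nat.card_congr e2]
    congr 1
    refine Nat.card_congr (Equiv.subtypeUnivEquiv fun θ g n => ?_)
    obtain ⟨⟨h, k⟩, rfl⟩ := hcompl'.2 g
    have e3 : MulAut.conjNormal ((h : N) * (k : N)) n = k * n * k⁻¹ := by
      refine Subtype.ext (Subtype.ext ?_)
      have := hcomm _ (show ((k * n * k⁻¹ : K.subgroupOf N) : N).1 ∈ K from (k * n * k⁻¹).2)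
        (hNeq ▸ ((k * n * k⁻¹ : K.subgroupOf N) : N).2) _
        (show ((h : N) : G) ∈ H from h.2)
      refine Eq.trans ?_ this
      simp [mul_assoc]
    show (θ : K.subgroupOf N → ℂ) (MulAut.conjNormal ((h : N) * (k : N)) n) = _
    rw [e3, Char.isClassFunction_character (Char.irr_isCharacter θ.2)]
  rw [hN _ rfl]
  congr 1
  let φ : H →* MulAut K := MulAut.conjNormal.comp H.subtype
  have h1 : Nat.card {θ : Cfsg.IrrCharacter K //
      ∀ (g : G) (n : K), (θ : K → ℂ) (MulAut.conjNormal g n) = (θ : K → ℂ) n} =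
      Nat.card {θ : Cfsg.IrrCharacter K //
        ∀ (s : H) (n : K), (θ : K → ℂ) (φ s n) = (θ : K → ℂ) n} := by
    refine Nat.card_congr (Equiv.subtypeEquivRight fun θ => ⟨fun h s n => h s n, fun h g n => ?_⟩)
    obtain ⟨⟨s, k⟩, rfl⟩ := hcompl.2 g
    show (θ : K → ℂ) (MulAut.conjNormal ((s : G) * (k : G)) n) = _
    rw [map_mul, MulAut.mul_apply]
    refine (h s _).trans ?_
    rw [show MulAut.conjNormal (k : G) n = k * n * k⁻¹ from Subtype.ext (by simp),
      Char.isClassFunction_character (Char.irr_isCharacter θ.2)]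
  rw [h1, Char.card_invariant_fixed _ H K φ rfl hsolv hcop]
  refine Char.card_irr_congr
    { toFun := fun c => ⟨⟨((c : K) : G), ?_⟩, (c : K).2⟩
      invFun := fun x => ⟨⟨((x : Subgroup.normalizer (H : Set G)) : G), x.2⟩, ?_⟩
      left_inv := fun c => rfl
      right_inv := fun x => rfl
      map_mul' := fun a b => rfl }
  · rw [Subgroup.mem_normalizer_iff]
    intro h
    have hc : ∀ s ∈ H, s * ((c : K) : G) * s⁻¹ = (c : K) := fun s hs => by
      have := congrArg (fun z : K => (z : G)) (c.2 ⟨s, hs⟩ (Subgroup.mem_top _))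
      simpa [φ] using this
    have hcm : ∀ s ∈ H, s * ((c : K) : G) = (c : K) * s := fun s hs =>
      mul_inv_eq_iff_eq_mul.1 (hc s hs)
    refine ⟨fun hh => ?_, fun hh => ?_⟩
    · show ((c : K) : G) * h * ((c : K) : G)⁻¹ ∈ H
      rw [← hcm h hh, mul_inv_cancel_right]
      exact hh
    · have hh' : ((c : K) : G) * h * ((c : K) : G)⁻¹ ∈ H := hh
      have h2 := hcm _ hh'
      rw [inv_mul_cancel_right] at h2
      rw [mul_left_cancel h2]
      exact hh'
  · intro s _
    exact Subtype.ext (hcomm _ x.2 (x : Subgroup.normalizer (H : Set G)).2 s s.2)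

end Cfsg.Agent.S4452
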