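import Cfsg.Statements.S4453
import Cfsg.Agent.Lib.Char.OddCorr.Main
import Cfsg.Agent.Lib.Char.CoprimeLayers
import Cfsg.Agent.Lib.Char.GlaubermanCount
import Cfsg.Agent.Lib.Solv.Coprime

set_option autoImplicit false
open Cfsg

namespace Cfsg.Agent.S4453

/-- Inside a finite group Γ let S normalise the solvable subgroup G of odd order with the orders of G and S coprime, let C = G ⊓ C(S), and let L ≤ K be S-invariant normal subgroups of G with K/L abelian, G = KC and H = LC (so C ≤ H ≤ G). Then for each S-invariant irreducible character χ of G there is exactly one S-invariant irreducible character ψ of H whose multiplicity in the restriction of χ to H is odd, and χ ↦ ψ is a bijection from the S-invariant irreducible characters of G onto those of H (distinct χ give distinct ψ, and every S-invariant ψ arises). -/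
theorem result {Γ : Type*} [Group Γ] [Fintype Γ] (G S : Subgroup Γ) [Fintype G] (hnorm : ∀ s ∈ S, ∀ g ∈ G, s * g * s⁻¹ ∈ G) (hcop : (Nat.card G).Coprime (Nat.card S)) (hGsolv : Group.IsSolvable G) (hodd : Odd (Nat.card G)) (C : Subgroup Γ) [Fintype C] (hC : C = G ⊓ Subgroup.centralizer (S : Set Γ)) (hCG : C ≤ G) (K L H : Subgroup Γ) [Fintype H] (hLK : L ≤ K) (hKG : K ≤ G) (hKn : ∀ g ∈ G, ∀ k ∈ K, g * k * g⁻¹ ∈ K) (hLn : ∀ g ∈ G, ∀ l ∈ L, g * l * g⁻¹ ∈ L) (hKS : ∀ s ∈ S, ∀ k ∈ K, s * k * s⁻¹ ∈ K) (hLS : ∀ s ∈ S, ∀ l ∈ L, s * l * s⁻¹ ∈ L) (hab : ∀ a ∈ K, ∀ b ∈ K, a * b * a⁻¹ * b⁻¹ ∈ L) (hGKC : K ⊔ C = G) (hH : H = L ⊔ C) (hHG : H ≤ G) : (∀ χ : Cfsg.IrrCharacter G, (∀ s ∈ S, ∀ g g' : G, (g' : Γ) = s * g * s⁻¹ → (χ : G → ℂ) g' = (χ : G → ℂ) g) → ∃! ψ : Cfsg.IrrCharacter H, (∀ s ∈ S, ∀ g g' : H, (g' : Γ) = s * g * s⁻¹ → (ψ : H → ℂ) g' = (ψ : H → ℂ) g) ∧ ∃ m : ℕ, Cfsg.classInner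 (fun h : H => (χ : G → ℂ) ⟨h, hHG h.2⟩) (ψ : H → ℂ) = (m : ℂ) ∧ Odd m) ∧ (∀ χ χ' : Cfsg.IrrCharacter G, (∀ s ∈ S, ∀ g g' : G, (g' : Γ) = s * g * s⁻¹ → (χ : G → ℂ) g' = (χ : G → ℂ) g) → (∀ s ∈ S, ∀ g g' : G, (g' : Γ) = s * g * s⁻¹ → (χ' : G → ℂ) g' = (χ' : G → ℂ) g) → ∀ ψ : Cfsg.IrrCharacter H, (∀ s ∈ S, ∀ g g' : H, (g' : Γ) = s * g * s⁻¹ → (ψ : H → ℂ) g' = (ψ : H → ℂ) g) → ∀ m m' : ℕ, Cfsg.classInner (fun h : H => (χ : G → ℂ) ⟨h, hHG h.2⟩) (ψ : H → ℂ) = (m : ℂ) → Odd m → Cfsg.classInner (fun h : H => (χ' : G → ℂ) ⟨h, hHG h.2⟩) (ψ : H → ℂ) = (m' : ℂ) → Odd m' → χ = χ') ∧ (∀ ψ : Cfsg.IrrCharacter H, (∀ s ∈ S, ∀ g g' : H, (g' : Γ) = s * g * s⁻¹ → (ψ : H → ℂ) g' = (ψ : H → ℂ) g) → ∃ χ : Cfsg.IrrCharacter G, (∀ s ∈ S, ∀ g g' : G, (g' : Γ) = s * g * s⁻¹ → (χ : G → ℂ) g' = (χ : G → ℂ) g) ∧ ∃ m : ℕ, Cfsg.classInner (fun h : H => (χ : G → ℂ) ⟨h, hHG h.2⟩) (ψ : H → ℂ) = (m : ℂ) ∧ Odd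 m) := by
  classical
  have hLG : L ≤ G := hLK.trans hKG
  have hLH : L ≤ H := hH ▸ le_sup_left
  haveI := hGsolv
  haveI : Fintype L := Fintype.ofFinite _
  haveI : Fintype S := Fintype.ofFinite _
  haveI hLGn : (L.subgroupOf G).Normal := ⟨fun l hl g => hLn _ g.2 _ hl⟩
  haveI hKGn : (K.subgroupOf G).Normal := ⟨fun k hk g => hKn _ g.2 _ hk⟩
  haveI hLHn : (L.subgroupOf H).Normal := ⟨fun l hl g => hLn _ (hHG g.2) _ hl⟩
  haveI : Fintype (L.subgroupOf G) := Fintype.ofFinite _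
  haveI : Fintype ↥(L.subgroupOf G ⊔ C.subgroupOf G) := Fintype.ofFinite _
  have hfix : ∀ s ∈ S, ∀ c ∈ C, s * c * s⁻¹ = c := fun s hs c hc => by
    rw [hC] at hc
    rw [(Subgroup.mem_centralizer_iff.1 hc.2 s hs), mul_inv_cancel_right]
  have hnormH : ∀ s ∈ S, ∀ h ∈ H, s * h * s⁻¹ ∈ H := by
    intro s hs
    have hle : H ≤ H.comap (MulAut.conj s).toMonoidHom := by
      conv_lhs => rw [hH]
      refine sup_le (fun l hl => hLH (hLS s hs l hl)) fun c hc => ?_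
      show s * c * s⁻¹ ∈ H
      rw [hfix s hs c hc, hH]
      exact Subgroup.mem_sup_right hc
    exact fun h hh => hle hh
  let σ : S →* MulAut G := Agent.Char.conjActHom G S hnorm
  have hset : Agent.Char.OddCorr.Setup (L.subgroupOf G) (K.subgroupOf G) (C.subgroupOf G) σ := by
    refine
      { oddG := by rw [← Nat.card_eq_fintype_card]; exact hodd
        co := by rw [← Nat.card_eq_fintype_card, ← Nat.card_eq_fintype_card]; exact hcop.symm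
        le := fun x hx => hLK hx
        comm := fun a ha b hb => hab _ ha _ hb
        conjK := fun g k hk => hKn _ g.2 _ hk
        dec := fun g => ?_
        fixC := fun s c hc => Subtype.ext (hfix _ s.2 _ hc)
        mapK := fun s k hk => hKS _ s.2 _ hk
        mapL := fun s l hl => hLS _ s.2 _ hl
        lift := fun q hq hq' => ?_ }
    · have hg : g ∈ K.subgroupOf G ⊔ C.subgroupOf G := by
        rw [← Subgroup.subgroupOf_sup hKG hCG, Subgroup.mem_subgroupOf, hGKC]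
        exact g.2
      obtain ⟨k, hk, c, hc, he⟩ := Subgroup.mem_sup_of_normal_left.1 hg
      exact ⟨k, hk, c, hc, he.symm⟩
    · obtain ⟨c, hc, hcq⟩ := Agent.Solv.exists_fixed_in_coset' S G L
        (fun s hs => Subgroup.mem_normalizer_iff.2 fun g => ⟨hnorm s hs g, fun h => by
          have := hnorm s⁻¹ (inv_mem hs) _ h
          simpa [mul_assoc] using this⟩) hcop.symm (Or.inr hGsolv) hLG
        (fun s hs => Subgroup.mem_normalizer_iff.2 fun g => ⟨hLS s hs g, fun h => by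
          have := hLS s⁻¹ (inv_mem hs) _ h
          simpa [mul_assoc] using this⟩) (x := (q : Γ)) q.2 (fun s hs => hq' ⟨s, hs⟩)
      exact ⟨⟨c, hc.1⟩, by rw [Subgroup.mem_subgroupOf, hC]; exact hc, hcq⟩
  have hHeq : L.subgroupOf G ⊔ C.subgroupOf G = H.subgroupOf G := by
    rw [← Subgroup.subgroupOf_sup hLG hCG, hH]
  let e : ↥(L.subgroupOf G ⊔ C.subgroupOf G) ≃* H :=
    (MulEquiv.subgroupCongr hHeq).trans (Subgroup.subgroupOfEquivOfLe hHG)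
  have hev : ∀ x, ((e x : H) : Γ) = ((x : G) : Γ) := fun x => rfl
  have heG : ∀ x, (⟨((e x : H) : Γ), hHG (e x).2⟩ : G) = (x : G) := fun x => Subtype.ext (hev x)
  let T : IrrCharacter H → IrrCharacter ↥(L.subgroupOf G ⊔ C.subgroupOf G) :=
    fun ψ => ⟨_, Agent.Char.isIrrCharacter_comp_equiv e ψ.2⟩
  have hmult : ∀ (χ : IrrCharacter G) (ψ : IrrCharacter H),
      Agent.Char.OddCorr.mult χ (T ψ) =
      classInner (fun h : H => (χ : G → ℂ) ⟨h, hHG h.2⟩) (ψ : H → ℂ) := by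
    intro χ ψ
    simp only [Agent.Char.OddCorr.mult, classInner, Nat.card_congr e.toEquiv]
    congr 1
    exact Fintype.sum_equiv e.toEquiv _ _ fun x => by simp [heG, T]
  have hinvG : ∀ χ : IrrCharacter G,
      (∀ s ∈ S, ∀ g g' : G, (g' : Γ) = s * g * s⁻¹ → (χ : G → ℂ) g' = (χ : G → ℂ) g) ↔
      Agent.Char.OddCorr.InvG σ χ := fun χ =>
    ⟨fun h s g => h _ s.2 g _ rfl, fun h s hs g g' he => by
      rw [show g' = σ ⟨s, hs⟩ g from Subtype.ext he]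
      exact h _ g⟩
  have hinvH : ∀ ψ : IrrCharacter H,
      (∀ s ∈ S, ∀ g g' : H, (g' : Γ) = s * g * s⁻¹ → (ψ : H → ℂ) g' = (ψ : H → ℂ) g) ↔
      Agent.Char.OddCorr.InvH σ (T ψ) := fun ψ =>
    ⟨fun h s x y he => h _ s.2 (e x) (e y) (congrArg Subtype.val he), fun h s hs g g' he => by
      have h' := h ⟨s, hs⟩ (e.symm g) (e.symm g') (Subtype.ext (by
        show ((e.symm g' : G) : Γ) = s * ((e.symm g : G) : Γ) * s⁻¹
        rw [← hev (e.symm g'), ← hev (e.symm g), e.apply_symm_apply, e.apply_symm_apply]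
        exact he))
      simpa [T] using h'⟩
  have hlift : ∀ ψ', ∃ ψ : IrrCharacter H, T ψ = ψ' := fun ψ' =>
    ⟨⟨_, Agent.Char.isIrrCharacter_comp_equiv e.symm ψ'.2⟩,
      Subtype.ext (funext fun x => by simp [T])⟩
  have hinj : ∀ ψ₁ ψ₂ : IrrCharacter H, T ψ₁ = T ψ₂ → ψ₁ = ψ₂ := fun ψ₁ ψ₂ h =>
    Subtype.ext (funext fun g => by simpa [T] using congrFun (congrArg Subtype.val h) (e.symm g))
  let eL := Subgroup.subgroupOfEquivOfLe hLG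
  let TL : IrrCharacter L → IrrCharacter (L.subgroupOf G) :=
    fun θ => ⟨_, Agent.Char.isIrrCharacter_comp_equiv eL θ.2⟩
  have hLinv : ∀ θ : IrrCharacter L,
      (∀ s ∈ S, ∀ g g' : L, (g' : Γ) = s * g * s⁻¹ → (θ : L → ℂ) g' = (θ : L → ℂ) g) →
      Agent.Char.OddCorr.InvL σ (TL θ) :=
    fun θ h s l hl => h _ s.2 (eL l) (eL ⟨σ s l, hl⟩) rfl
  obtain ⟨h1, h2, h3⟩ := Agent.Char.OddCorr.main hset (fun χ hχ => by
    obtain ⟨θ, hθ, hθi⟩ := Agent.Char.exists_below_layer G S L hnorm hLG hLS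
      (hcop.coprime_dvd_left (Subgroup.relIndex_dvd_card L G)) (Or.inr inferInstance) χ
      ((hinvG χ).2 hχ)
    refine ⟨TL θ, fun h0 => hθ (Eq.trans ?_ h0), hLinv θ hθi⟩
    simp only [classInner, Nat.card_congr eL.toEquiv]
    congr 1
    exact (Fintype.sum_equiv eL.toEquiv _ _ fun x => rfl).symm) (fun ψ' hψ' => by
    obtain ⟨ψ, rfl⟩ := hlift ψ'
    haveI : Group.IsSolvable H :=
      Agent.Solv.isSolvable_of_le hHG hGsolv
    obtain ⟨θ, hθ, hθi⟩ := Agent.Char.exists_below_layer H S L hnormH hLH hLS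
      (hcop.coprime_dvd_left ((Subgroup.relIndex_dvd_card L H).trans
        (Subgroup.card_dvd_of_le hHG))) (Or.inr inferInstance) ψ ((hinvH ψ).2 hψ')
    refine ⟨TL θ, fun h0 => hθ (Eq.trans ?_ h0), hLinv θ hθi⟩
    simp only [classInner, Nat.card_congr eL.toEquiv]
    congr 1
    exact (Fintype.sum_equiv eL.toEquiv _ _ fun x => rfl).symm)
  refine ⟨fun χ hχ => ?_, fun χ χ' hχ hχ' ψ hψ m m' hm ho hm' ho' => ?_, fun ψ hψ => ?_⟩
  · obtain ⟨ψ', ⟨hi, m, hm, ho⟩, huniq⟩ := h1 χ ((hinvG χ).1 hχ)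
    obtain ⟨ψ, rfl⟩ := hlift ψ'
    refine ⟨ψ, ⟨(hinvH ψ).2 hi, m, (hmult χ ψ).symm.trans hm, ho⟩,
      fun ψ₂ ⟨hi₂, m₂, hm₂, ho₂⟩ => hinj _ _ ?_⟩
    exact huniq _ ⟨(hinvH ψ₂).1 hi₂, m₂, (hmult χ ψ₂).trans hm₂, ho₂⟩
  · exact h2 χ χ' ((hinvG χ).1 hχ) ((hinvG χ').1 hχ') _ ((hinvH ψ).1 hψ) m m'
      ((hmult χ ψ).trans hm) ho ((hmult χ' ψ).trans hm') ho'
  · obtain ⟨χ, hχ, m, hm, ho⟩ := h3 _ ((hinvH ψ).1 hψ)
    exact ⟨χ, (hinvG χ).2 hχ, m, (hmult χ ψ).symm.trans hm, ho⟩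

end Cfsg.Agent.S4453
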