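import Cfsg.Statements.S4459
import Cfsg.Agent.Lib.Char.TwoDegreesPrime
import Cfsg.Agent.S0169
import Cfsg.Agent.S0179

set_option autoImplicit false
open Cfsg Cfsg.Agent.Char
open scoped ComplexConjugate

namespace Cfsg.Agent.S4459

/-- Let G be a non-abelian finite group and p a prime. Then the irreducible character degrees of G are exactly 1 and p if and only if either G has an abelian normal subgroup of index p or the centre of G has index p³. -/
theorem result {G : Type*} [Group G] [Finite G] (hG : ∃ a b : G, a * b ≠ b * a) (p : ℕ) (hp : p.Prime) : ((∀ χ : Cfsg.IrrCharacter G, Cfsg.charDegree (χ : G → ℂ) = 1 ∨ Cfsg.charDegree (χ : G → ℂ) = p) ∧ ∃ χ : Cfsg.IrrCharacter G, Cfsg.charDegree (χ : G → ℂ) = p) ↔ ((∃ A : Subgroup G, A.Normal ∧ (∀ a ∈ A, ∀ b ∈ A, a * b = b * a) ∧ A.index = p) ∨ (Subgroup.center G).index = p ^ 3) := by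
  classical
  haveI := Fintype.ofFinite G
  constructor
  · rintro ⟨hcd, -⟩
    exact TwoDeg.structure_of_degrees hp hcd hG
  · intro hs
    have hall : ∀ χ : IrrCharacter G, charDegree (χ : G → ℂ) = 1 ∨ charDegree (χ : G → ℂ) = p := by
      intro χ
      obtain ⟨n, ρ, hirr, hρ⟩ := χ.2
      haveI := hirr
      have hn : charDegree (χ : G → ℂ) = n := by
        rw [charDegree, ← congrFun hρ, Representation.char_one]; simp
      rw [hn]
      rcases hs with ⟨A, hA, hab, hidx⟩ | hZ
      · haveI := hA
        have h1 := S0169.result ρ A hab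
        rw [hidx, Module.finrank_fin_fun] at h1
        exact (Nat.dvd_prime hp).1 h1
      · have h1 := S0179.result ρ
        rw [hZ, Module.finrank_fin_fun] at h1
        obtain ⟨j, hj, rfl⟩ := (Nat.dvd_prime_pow hp).1 h1
        have h2 := TwoDeg.card_cz_mul_sq_le χ
        have h3 : Subgroup.center G ≤ TwoDeg.cz χ := fun x hx => (TwoDeg.mem_cz_iff_comm χ x).2 fun y => by
          rw [← Subgroup.mem_center_iff.1 hx y, mul_inv_cancel_right, mul_inv_cancel]
          exact one_mem _
        have h4 := (Nat.mul_le_mul_right _ (Nat.le_of_dvd Nat.card_pos (Subgroup.card_dvd_of_le h3))).trans h2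
        rw [← (Subgroup.center G).card_mul_index, hZ, show deg (χ : G → ℂ) = p ^ j from hn, ← pow_mul] at h4
        have h5 := (Nat.pow_le_pow_iff_right hp.one_lt).1 (Nat.le_of_mul_le_mul_left h4 Nat.card_pos)
        rcases (show j = 0 ∨ j = 1 by omega) with rfl | rfl
        · exact Or.inl (pow_zero p)
        · exact Or.inr (pow_one p)
    refine ⟨hall, ?_⟩
    by_contra hc
    push Not at hc
    obtain ⟨a, b, hab⟩ := hG
    exact hab (forall_linear_iff_comm.2 (fun χ => by
      rw [char_one_eq_deg (irr_isCharacter χ.2), show deg (χ : G → ℂ) = 1 from (hall χ).resolve_right (hc χ),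
        Nat.cast_one]) a b)

end Cfsg.Agent.S4459
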