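import Cfsg.Statements.S4460
import Cfsg.Agent.Lib.Solv.FewDeg.Length
-- import your own Cfsg.Agent.* helpers here

set_option autoImplicit false
open Cfsg

namespace Cfsg.Agent.S4460

/-- A finite group with exactly three distinct irreducible character degrees is solvable of derived length at most 3: its third derived subgroup is trivial. -/
theorem result {G : Type*} [Group G] [Finite G] (hcd : Nat.card {n : ℕ // ∃ χ : Cfsg.IrrCharacter G, Cfsg.charDegree (χ : G → ℂ) = n} = 3) : derivedSeries G 3 = ⊥ := by
  classical
  haveI := Fintype.ofFinite G
  have h3 : (Cfsg.Agent.Char.TaketaBound.degSet G).card = 3 := by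
    rw [← hcd, ← Nat.card_eq_finsetCard]
    refine Nat.card_congr (Equiv.subtypeEquivRight fun d => ?_)
    simp only [Cfsg.Agent.Char.TaketaBound.degSet, Finset.mem_image, Finset.mem_univ, true_and]
    rfl
  have := Cfsg.Agent.Solv.FewDeg.derived_length_le h3.le
  rwa [h3] at this

end Cfsg.Agent.S4460
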