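import Cfsg.Statements.S4471
import Cfsg.Agent.Lib.Char.TwoArcDegree

set_option autoImplicit false
open Cfsg

namespace Cfsg.Agent.S4471

/-- Let p ≥ 7 be a prime and let the finite group G have a faithful irreducible character of degree n with n < 2p and n ≠ p. If the Sylow p-subgroups of G are non-abelian then p² does not divide the index of O_p(G) in G; consequently, in every case G/O_p(G) has abelian Sylow p-subgroups. -/
theorem result {G : Type*} [Group G] [Finite G] (χ : Cfsg.IrrCharacter G) (hfaith : ∀ g : G, (χ : G → ℂ) g = (χ : G → ℂ) 1 → g = 1) (n : ℕ) (hn : Cfsg.charDegree (χ : G → ℂ) = n) (p : ℕ) (hp : p.Prime) (h7 : 7 ≤ p) (hn2 : n < 2 * p) (hnp : n ≠ p) : ((∃ P : Sylow p G, ∃ x ∈ (P : Subgroup G), ∃ y ∈ (P : Subgroup G), x * y ≠ y * x) → ¬ p ^ 2 ∣ (Cfsg.pCore p G).index) ∧ ∀ Q : Sylow p (G ⧸ Cfsg.pCore p G), ∀ x ∈ (Q : Subgroup (G ⧸ Cfsg.pCore p G)), ∀ y ∈ (Q : Subgroup (G ⧸ Cfsg.pCore p G)), x * y = y * x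 := by
  haveI := Fintype.ofFinite G
  haveI : Fact p.Prime := ⟨hp⟩
  have hn1 : (χ : G → ℂ) 1 = (n : ℂ) := by
    obtain ⟨m, hm⟩ := Cfsg.Agent.Char.charOne_eq_natCast (Cfsg.Agent.Char.irr_isCharacter χ.2)
    have h : m = n := by rw [← hn, Cfsg.charDegree, hm]; simp
    rw [hm, h]
  have main : (∃ P : Sylow p G, ∃ x ∈ (P : Subgroup G), ∃ y ∈ (P : Subgroup G), x * y ≠ y * x) →
      ¬ p ^ 2 ∣ (Cfsg.pCore p G).index := fun hna =>
    Cfsg.Agent.Char.TwoArc.not_sq_dvd h7 hfaith hn1 hn2 hnp hna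
  refine ⟨main, fun Q x hx y hy => ?_⟩
  by_cases hna : ∃ P : Sylow p G, ∃ x ∈ (P : Subgroup G), ∃ y ∈ (P : Subgroup G), x * y ≠ y * x
  · -- the quotient has a cyclic Sylow subgroup
    have hQ : Nat.card Q ∣ p := by
      obtain ⟨k, hk⟩ := IsPGroup.iff_card.mp Q.2
      have h1 : Nat.card Q ∣ (Cfsg.pCore p G).index := Subgroup.card_subgroup_dvd_card _
      rw [hk] at h1 ⊢
      rcases k with _ | _ | k
      · simp
      · simp
      · exact absurd ((pow_dvd_pow p (by omega : 2 ≤ k + 2)).trans h1) (main hna)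
    haveI : IsCyclic Q := isCyclic_of_card_dvd_prime hQ
    exact congrArg Subtype.val ((IsCyclic.commutative (α := Q)).is_comm.comm ⟨x, hx⟩ ⟨y, hy⟩)
  · push Not at hna
    obtain ⟨P⟩ : Nonempty (Sylow p G) := inferInstance
    set q := QuotientGroup.mk' (Cfsg.pCore p G)
    obtain ⟨g, hg⟩ := MulAction.exists_smul_eq (G ⧸ Cfsg.pCore p G)
      (P.mapSurjective (f := q) (QuotientGroup.mk'_surjective _)) Q
    rw [← hg] at hx hy
    obtain ⟨a, ha, rfl⟩ := hx
    obtain ⟨b, hb, rfl⟩ := hy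
    obtain ⟨a', ha', rfl⟩ := ha
    obtain ⟨b', hb', rfl⟩ := hb
    have h := congrArg (fun z => (MulAut.conj g) (q z)) (hna P a' ha' b' hb')
    simp only [map_mul] at h
    exact h

end Cfsg.Agent.S4471
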