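import Cfsg.Statements.S4472
import Cfsg.Agent.Lib.Char.CanonicalInducedSum
import Cfsg.Agent.Lib.Char.SchurBound
import Cfsg.Agent.Lib.Solv.HallHigman

set_option autoImplicit false
open Cfsg Cfsg.Agent Cfsg.Agent.Char
open scoped Pointwise

namespace Cfsg.Agent.S4472

/-- Let the finite p-solvable group G have a faithful character of degree n, and let p^a be the index of O_p(G) in a Sylow p-subgroup of G (the p-part of [G : O_p(G)]). Then a ≤ Σ_{i ≥ 0} ⌊n / ((p − 1) p^i)⌋ (a finite sum; the terms vanish for p^i > n). -/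
theorem result {G : Type*} [Group G] [Finite G] (χ : G → ℂ) (hχ : Cfsg.IsCharacter G χ) (hfaith : ∀ g : G, χ g = χ 1 → g = 1) (n : ℕ) (hn : Cfsg.charDegree χ = n) (p : ℕ) (hp : p.Prime) (hsolv : Cfsg.IsPSolvable p G) : ((Cfsg.pCore p G).index).factorization p ≤ ∑ i ∈ Finset.range (n + 1), n / ((p - 1) * p ^ i) := by
  classical
  haveI : Fact p.Prime := ⟨hp⟩
  haveI := Fintype.ofFinite G
  set A := Cfsg.pCore p G with hA
  haveI hAn : A.Normal := Solv.pCore_normal p
  have hAp : IsPGroup p A := Solv.pCore_isPGroup p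
  set f := QuotientGroup.mk' A with hf
  have hfs : Function.Surjective f := QuotientGroup.mk'_surjective A
  have hfker : f.ker = A := QuotientGroup.ker_mk' A
  set L := Cfsg.pPrimeCore p (G ⧸ A) with hL
  haveI : L.Normal := Solv.pPrimeCore_normal p
  have hLc : (Nat.card L).Coprime p := Solv.pPrimeCore_coprime p
  have hbot : Cfsg.pCore p (G ⧸ A) = ⊥ := Fusion.pCore_quotient_eq_bot
  have hLcent : Subgroup.centralizer (L : Set (G ⧸ A)) ≤ L :=
    Solv.centralizer_pPrimeCore_le (Solv.isPSolvable_map hp hsolv f hfs) hbot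
  -- a complement of `A` in the preimage of `L`
  set N := L.comap f with hN
  have hAN : A ≤ N := by rw [← hfker]; exact Subgroup.ker_le_comap _ _
  obtain ⟨e, he⟩ := hAp.exists_card_eq
  have hNc : Nat.card N = Nat.card L * Nat.card A := Solv.card_comap_mk' A L
  have hidxA : (A.subgroupOf N).index = Nat.card L := by
    have h2 := (A.subgroupOf N).card_mul_index
    rw [Solv.card_subgroupOf hAN, hNc] at h2
    exact Nat.eq_of_mul_eq_mul_left Nat.card_pos (by rw [h2, mul_comm])
  obtain ⟨K₀, hK₀⟩ := Subgroup.exists_right_complement'_of_coprime (N := A.subgroupOf N)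
    (by rw [Solv.card_subgroupOf hAN, hidxA, he]; exact hLc.symm.pow_left e)
  set K := K₀.map N.subtype with hK
  have hKc : Nat.card K = Nat.card L := by
    rw [hK, Solv.card_map_subtype, ← hidxA, hK₀.symm.index_eq_card]
  have hKp : (Nat.card K).Coprime p := hKc ▸ hLc
  have hKN : K ≤ N := Subgroup.map_subtype_le _
  have hKA : K ⊓ A = ⊥ := Solv.coprime_inf (by rw [he]; exact hKp.pow_right e)
  have hKL : K.map f = L := by
    refine Subgroup.eq_of_le_of_card_ge (Subgroup.map_le_iff_le_comap.2 hKN) ?_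
    have h2 := Solv.card_map_mk'_mul_card_inf A K
    rw [inf_comm, hKA, Subgroup.card_bot, mul_one] at h2
    rw [hf, h2, hKc]
  have hNeq : N = K ⊔ A := by
    rw [hN, ← hKL, Subgroup.comap_map_eq, hfker]
  -- Frattini argument
  set M := Subgroup.normalizer (K : Set G) with hM
  set fM : M →* G ⧸ A := f.comp M.subtype with hfM
  have hfMs : Function.Surjective fM := by
    intro q
    obtain ⟨g, rfl⟩ := hfs q
    have hNn : N.Normal := Subgroup.Normal.comap inferInstance f
    obtain ⟨a, ha, hac⟩ := Solv.sz_conj_rel A K (MulAut.conj g • K)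
      (le_top.trans (Subgroup.normalizer_eq_top_iff.2 hAn).ge)
      (by
        rw [sup_comm, ← hNeq]
        intro x hx
        rw [Solv.mem_conj_smul] at hx
        have h := hNn.conj_mem _ (hKN hx) g
        simpa [mul_assoc] using h)
      (by rw [he]; exact hKp.symm.pow_left e) (Solv.card_conj_smul g K)
      (Or.inl (by haveI := hAp.isNilpotent; exact IsNilpotent.to_isSolvable))
    have hmem : a⁻¹ * g ∈ M := by
      rw [hM, Subgroup.mem_normalizer_iff]
      intro x
      have h := SetLike.ext_iff.1 hac (g * x * g⁻¹)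
      rw [Solv.mem_conj_smul, Solv.mem_conj_smul] at h
      convert h.symm using 2 <;> group
    refine ⟨⟨_, hmem⟩, ?_⟩
    show f (a⁻¹ * g) = f g
    rw [map_mul, map_inv, show f a = 1 from (QuotientGroup.eq_one_iff a).2 ha, inv_one, one_mul]
  -- the group `T = K P`
  obtain P : Sylow p M := default
  let K' : Subgroup M := K.subgroupOf M
  haveI hK'n : K'.Normal := Subgroup.normal_in_normalizer
  let T : Subgroup M := K' ⊔ (P : Subgroup M)
  let K'' : Subgroup T := K'.subgroupOf T
  haveI : K''.Normal := Subgroup.Normal.subgroupOf hK'n T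
  haveI : Fintype T := Fintype.ofFinite _
  haveI : Fintype K'' := Fintype.ofFinite _
  have hK''c : Nat.card K'' = Nat.card K := by
    rw [Solv.card_subgroupOf (le_sup_left : K' ≤ T), Solv.card_subgroupOf (Subgroup.le_normalizer)]
  obtain ⟨j, hj⟩ : ∃ j, K''.index = p ^ j := by
    obtain ⟨i, hi⟩ := P.isPGroup'.exists_card_eq
    have h : K'.relIndex T ∣ p ^ i := by
      rw [← hi]
      show K'.relIndex (K' ⊔ (P : Subgroup M)) ∣ _
      rw [Subgroup.relIndex_sup_left]
      exact Subgroup.relIndex_dvd_card _ _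
    obtain ⟨k, -, hk⟩ := (Nat.dvd_prime_pow hp).1 h
    exact ⟨k, hk⟩
  obtain ⟨Φ, hΦ, hdeg, hker, hgal⟩ := CanSum.exists_stable (χ := fun t : T => χ ((t : M) : G))
    K'' (hK''c ▸ hKp) hj (isCharacter_comp T.subtype (isCharacter_comp M.subtype hχ))
    (fun x hx => Subtype.ext (Subtype.ext (Subtype.ext (hfaith _ hx))))
  have hdn : deg Φ ≤ n := hdeg.trans (le_of_eq hn)
  obtain ⟨d, ρ, hρ⟩ := id hΦ
  have hd : d = deg Φ := by
    have := (char_one_eq_dim ρ hρ).symm.trans (char_one_eq_deg hΦ)
    exact_mod_cast this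
  have hid : ∀ t : T, ρ t = 1 ↔ Φ t = Φ 1 := fun t => by
    rw [Module.End.one_eq_id, ← eq_id_iff ρ t, hρ, char_one_eq_dim ρ hρ, Module.finrank_fin_fun]
  let ι : (P : Subgroup M) →* T := Subgroup.inclusion le_sup_right
  let φ : (P : Subgroup M) →* (Module.End ℂ (Fin d → ℂ))ˣ := ρ.asGroupHom.comp ι
  have hφ : ∀ x, (φ x : Module.End ℂ (Fin d → ℂ)) = ρ (ι x) := fun x => rfl
  -- `p ^ a` divides the order of the image
  set g := fM.comp (P : Subgroup M).subtype with hg
  have hkerle : φ.ker ≤ g.ker := by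
    intro x hx
    have hρx : ρ (ι x) = 1 := by
      rw [← hφ, MonoidHom.mem_ker.1 hx]; rfl
    have hcomm : ∀ k : K'', (k : T) * ι x = ι x * k := by
      intro k
      let c : K'' := (MulAut.conjNormal (ι x) k) * k⁻¹
      have hc : c = 1 := by
        refine hker c ((hid _).1 ?_)
        rw [show ((c : K'') : T) = ι x * k * (ι x)⁻¹ * (k : T)⁻¹ by simp [c]]
        have hinv : ρ (ι x)⁻¹ = 1 := by
          have h := map_mul ρ (ι x) (ι x)⁻¹
          rw [mul_inv_cancel, map_one, hρx, one_mul] at h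
          exact h.symm
        rw [map_mul, map_mul, map_mul, hρx, hinv, one_mul, mul_one, ← map_mul, mul_inv_cancel,
          map_one]
      have h2 : (ι x * k * (ι x)⁻¹ * (k : T)⁻¹ : T) = 1 := by
        have := congrArg Subtype.val hc
        simpa [c] using this
      rw [mul_inv_eq_one, mul_inv_eq_iff_eq_mul] at h2
      exact h2.symm
    have hgL : g x ∈ L := hLcent (Subgroup.mem_centralizer_iff.2 fun l hl => by
      rw [SetLike.mem_coe, ← hKL] at hl
      obtain ⟨k, hk, rfl⟩ := hl
      have hkM : k ∈ M := Subgroup.le_normalizer hk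
      have h := hcomm ⟨⟨⟨k, hkM⟩, Subgroup.mem_sup_left hk⟩, hk⟩
      have h2 := congrArg (fun t : T => ((t : M) : G)) h
      show f k * f ((x : M) : G) = f ((x : M) : G) * f k
      rw [← map_mul, ← map_mul]
      exact congrArg f h2)
    rw [MonoidHom.mem_ker]
    obtain ⟨i, hi⟩ := IsPGroup.iff_orderOf.1 P.isPGroup' x
    refine orderOf_eq_one_iff.1 (Nat.eq_one_of_dvd_coprimes (hLc.pow_right i) ?_
      (hi ▸ orderOf_map_dvd g x))
    have := orderOf_dvd_natCard (⟨g x, hgL⟩ : L)
    rwa [← Subgroup.orderOf_coe] at this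
  set a := A.index.factorization p with ha
  have hgcard : Nat.card g.range = p ^ a := by
    have h : g.range = ((P.mapSurjective hfMs : Sylow p (G ⧸ A)) : Subgroup (G ⧸ A)) := by
      rw [hg, MonoidHom.range_comp, Subgroup.range_subtype]
      rfl
    rw [h, Sylow.card_eq_multiplicity, ha, Subgroup.index_eq_card]
  have hφp : IsPGroup p φ.range :=
    P.isPGroup'.of_surjective φ.rangeRestrict φ.rangeRestrict_surjective
  obtain ⟨v, hv⟩ := hφp.exists_card_eq
  have hav : a ≤ v := by
    have h : p ^ a ∣ p ^ v := by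
      rw [← hgcard, ← hv, ← Subgroup.index_ker, ← Subgroup.index_ker]
      exact Subgroup.index_dvd_of_le hkerle
    exact (Nat.pow_dvd_pow_iff_le_right hp.one_lt).1 h
  refine hav.trans ?_
  rcases Nat.eq_zero_or_pos v with h0 | hv0
  · rw [h0]; exact Nat.zero_le _
  haveI : Fintype φ.range := Fintype.ofFinite _
  let ρ' : Representation ℂ φ.range (Fin d → ℂ) := (Units.coeHom _).comp φ.range.subtype
  have hval : ∀ x, ρ'.character (φ.rangeRestrict x) = Φ (ι x) := fun x => by
    rw [← hρ]; rfl
  have hb := SchurBound.pgroup_bound hφp hv hv0 (ψ := ρ'.character) ⟨d, ρ', rfl⟩ (fun y hy => by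
    obtain ⟨x, rfl⟩ := φ.rangeRestrict_surjective y
    rw [hval, ← map_one φ.rangeRestrict, hval, map_one] at hy
    rw [← hid] at hy
    exact Subtype.ext (Units.ext (by rw [MonoidHom.coe_rangeRestrict, hφ, hy]; rfl))) (fun u y => by
    haveI : NeZero (p ^ v) := ⟨pow_ne_zero _ hp.ne_zero⟩
    obtain ⟨x, rfl⟩ := φ.rangeRestrict_surjective y
    have hKv : (p ^ v).Coprime (Nat.card K'') := hK''c ▸ (hKp.symm.pow_left v)
    obtain ⟨k, hk1, hk2⟩ := Nat.chineseRemainder hKv (u : ZMod (p ^ v)).val 1
    have hkp : k.Coprime p := by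
      refine Nat.Coprime.coprime_dvd_right (dvd_pow_self p hv0.ne') ?_
      exact (Nat.ModEq.gcd_eq hk1).trans (val_coprime u)
    have hkT : k.Coprime (Nat.card T) := by
      rw [← K''.card_mul_index, hj]
      refine Nat.Coprime.mul_right ?_ (hkp.pow_right j)
      exact (Nat.ModEq.gcd_eq hk2).trans (Nat.gcd_one_left _)
    have hexp : (φ.rangeRestrict x) ^ p ^ v = 1 := by rw [← hv]; exact pow_card_eq_one'
    rw [pow_eq_pow_mod _ hexp, ← show k % p ^ v = _ from hk1, ← pow_eq_pow_mod _ hexp, ← map_pow,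
      hval, hval, map_pow]
    exact hgal k hkT hk2 _)
  have hdd : deg ρ'.character ≤ n := by
    have h := (char_one_eq_dim ρ' rfl).symm.trans (char_one_eq_deg ⟨d, ρ', rfl⟩)
    have h' : deg ρ'.character = d := by exact_mod_cast h.symm
    omega
  refine hb.trans ((Finset.sum_le_sum fun i _ => Nat.div_le_div_right hdd).trans
    (Finset.sum_le_sum_of_subset ?_))
  exact Finset.range_mono (by omega)

end Cfsg.Agent.S4472
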