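import Cfsg.Statements.S4475
import Cfsg.Agent.Lib.Char.Indicator

set_option autoImplicit false
open Cfsg
open scoped ComplexConjugate

namespace Cfsg.Agent.S4475

/-- Let ρ be an irreducible representation of the finite group G on the coordinate space Fin n → ℂ whose character χ is real-valued, and let ν be the Frobenius–Schur indicator of χ (the average of χ(s²)). Writing X(g) for the matrix of ρ(g), there is a nonzero matrix M with X(g)ᵀ M X(g) = M for all g ∈ G; and every such M (zero or not) satisfies Mᵀ = ν·M. -/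
theorem result {G : Type*} [Group G] [Fintype G] (n : ℕ) (ρ : Representation ℂ G (Fin n → ℂ)) (hirr : ρ.IsIrreducible) (hreal : ∀ g : G, (ρ.character g).im = 0) : (∃ M : Matrix (Fin n) (Fin n) ℂ, M ≠ 0 ∧ ∀ g : G, (LinearMap.toMatrix' (ρ g)).transpose * M * LinearMap.toMatrix' (ρ g) = M) ∧ ∀ M : Matrix (Fin n) (Fin n) ℂ, (∀ g : G, (LinearMap.toMatrix' (ρ g)).transpose * M * LinearMap.toMatrix' (ρ g) = M) → M.transpose = ((Nat.card G : ℂ)⁻¹ * ∑ s : G, ρ.character (s * s)) • M := by
  classical
  let A : G →* Matrix (Fin n) (Fin n) ℂ :=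
    { toFun := fun g => (Cfsg.Agent.Char.repMat ρ g⁻¹).transpose
      map_one' := by simp
      map_mul' := fun a b => by simp [mul_inv_rev, map_mul, Matrix.transpose_mul] }
  have hc := Cfsg.Agent.Char.isCharacter_character ρ
  have hA : ∀ g, (A g).trace = ρ.character g := fun g => by
    show ((Cfsg.Agent.Char.repMat ρ g⁻¹).transpose).trace = _
    rw [Matrix.trace_transpose, Cfsg.Agent.Char.repMat_trace, Cfsg.Agent.Char.char_inv hc,
      Complex.conj_eq_iff_im.2 (hreal g)]
  have hχ := Cfsg.Agent.Char.isIrrCharacter_character ρ hirr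
  have hiff : ∀ M : Matrix (Fin n) (Fin n) ℂ, (∀ g, A g * M * (A g).transpose = M) ↔
      ∀ g : G, (LinearMap.toMatrix' (ρ g)).transpose * M * LinearMap.toMatrix' (ρ g) = M := fun M => by
    constructor
    · intro h g
      simpa [A, Cfsg.Agent.Char.repMat] using h g⁻¹
    · intro h g
      simpa [A, Cfsg.Agent.Char.repMat] using h g⁻¹
  rcases Cfsg.Agent.Char.indicator_core A hA hχ with ⟨hn, -, -⟩ | ⟨-, c, -, hν, ⟨M, hM0, hM⟩, hall⟩
  · exact absurd hreal hn
  · refine ⟨⟨M, hM0, (hiff M).1 hM⟩, fun M' hM' => ?_⟩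
    rw [hall M' ((hiff M').2 hM'), ← hν]
    rfl

end Cfsg.Agent.S4475
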