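import Cfsg.Statements.S4476
import Cfsg.Agent.Lib.Char.Indicator

set_option autoImplicit false
open Cfsg
open scoped ComplexConjugate

namespace Cfsg.Agent.S4476

/-- Let G be a finite group of even order g with exactly t involutions, and put α = (g − 1)/t (a rational number). Then (a) some non-identity element x of G has at most α² conjugates; and (b) some non-principal real-valued irreducible character of G has degree at most α. -/
theorem result {G : Type*} [Group G] [Fintype G] (heven : Even (Nat.card G)) (t : ℕ) (ht : Nat.card {x : G // orderOf x = 2} = t) : (∃ x : G, x ≠ 1 ∧ ((Subgroup.centralizer ({x} : Set G)).index : ℚ) ≤ (((Nat.card G : ℚ) - 1) / t) ^ 2) ∧ ∃ χ : Cfsg.IrrCharacter G, (χ : G → ℂ) ≠ (fun _ => 1) ∧ (∀ g : G, ((χ : G → ℂ) g).im = 0) ∧ (Cfsg.charDegree (χ : G → ℂ) : ℚ) ≤ ((Nat.card G : ℚ) - 1) / t := by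
  classical
  have hdeg : ∀ χ : Cfsg.IrrCharacter G, (χ : G → ℂ) 1 = (Cfsg.charDegree (χ : G → ℂ) : ℂ) := fun χ =>
    Cfsg.Agent.Char.char_one_eq_deg (Cfsg.Agent.Char.irr_isCharacter χ.2)
  set D : Cfsg.IrrCharacter G → ℕ := fun χ => Cfsg.charDegree (χ : G → ℂ) with hD
  set one : Cfsg.IrrCharacter G := ⟨fun _ => 1, Cfsg.Agent.Char.isIrrCharacter_one⟩ with hone
  set ν := fun χ : Cfsg.IrrCharacter G => Cfsg.Agent.Char.indicator2 (χ : G → ℂ) with hν
  have hN : (Nat.card G : ℂ) ≠ 0 := Nat.cast_ne_zero.2 Nat.card_pos.ne'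
  -- the number of square roots of one
  have hsum : ∑ χ : Cfsg.IrrCharacter G, (D χ : ℂ) * ν χ = (t : ℂ) + 1 := by
    have h1 : ∑ χ : Cfsg.IrrCharacter G, (D χ : ℂ) * ν χ =
        ((Finset.univ.filter fun s : G => s * s = 1).card : ℂ) := by
      simp only [hν, Cfsg.Agent.Char.indicator2, hD, ← hdeg, Finset.mul_sum]
      rw [Finset.sum_comm, ← Finset.sum_boole]
      refine Finset.sum_congr rfl fun s _ => ?_
      rw [Finset.sum_congr rfl (fun χ _ => mul_left_comm _ _ _), ← Finset.mul_sum,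
        Cfsg.Agent.Char.regular_sum]
      split_ifs <;> simp
    rw [h1, ← ht, Nat.card_eq_fintype_card, Fintype.card_subtype,
      show (Finset.univ.filter fun s : G => s * s = 1) =
        insert 1 (Finset.univ.filter fun x : G => orderOf x = 2) from ?_,
      Finset.card_insert_of_notMem (by simp), Nat.cast_add, Nat.cast_one]
    ext s
    simp only [Finset.mem_filter, Finset.mem_univ, true_and, Finset.mem_insert, orderOf_eq_prime_iff, sq]
    constructor
    · intro h
      by_cases h1 : s = 1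
      · exact Or.inl h1
      · exact Or.inr ⟨h, h1⟩
    · rintro (rfl | ⟨h, -⟩)
      · simp
      · exact h
  have ht0 : 0 < t := by
    rw [← ht]
    obtain ⟨x, hx⟩ := exists_prime_orderOf_dvd_card' 2 (heven.two_dvd)
    exact Nat.card_pos_iff.2 ⟨⟨⟨x, hx⟩⟩, inferInstance⟩
  set S := (Finset.univ.erase one).filter fun χ : Cfsg.IrrCharacter G => ∀ g : G, ((χ : G → ℂ) g).im = 0 with hS
  have hbound : (t : ℝ) ≤ ∑ χ ∈ S, (D χ : ℝ) := by
    have h2 := congrArg Complex.re hsum
    rw [← Finset.add_sum_erase _ _ (Finset.mem_univ one)] at h2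
    have hν1 : ν one = 1 := by
      simp [hν, hone, Cfsg.Agent.Char.indicator2, hN]
    have hD1 : (D one : ℂ) = 1 := by rw [hD, ← hdeg]
    rw [hν1, hD1, Complex.add_re, Complex.re_sum] at h2
    simp only [Complex.add_re, Complex.natCast_re, Complex.one_re, mul_one] at h2
    rw [hS, Finset.sum_filter]
    have h3 : ∑ χ ∈ Finset.univ.erase one, ((D χ : ℂ) * ν χ).re ≤
        ∑ χ ∈ Finset.univ.erase one, (if ∀ g : G, ((χ : G → ℂ) g).im = 0 then (D χ : ℝ) else 0) := by
      refine Finset.sum_le_sum fun χ _ => ?_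
      obtain ⟨hv, h0⟩ := Cfsg.Agent.Char.indicator_trichotomy χ.2
      have hD0 : (0 : ℝ) ≤ D χ := Nat.cast_nonneg _
      split_ifs with hr
      · rcases hv with h | h | h <;> simp only [hν, h] <;> simp [hD0]
      · rw [show ν χ = 0 from h0.2 (not_forall.1 hr)]
        simp
    linarith
  have hsq : ∑ χ ∈ S, (D χ : ℝ) ^ 2 ≤ (Nat.card G : ℝ) - 1 := by
    have h := Cfsg.Agent.Char.sum_sq_deg (G := G)
    rw [← Finset.add_sum_erase _ _ (Finset.mem_univ one)] at h
    simp only [hdeg] at h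
    have h' : ((D one : ℝ)) ^ 2 + ∑ χ ∈ Finset.univ.erase one, (D χ : ℝ) ^ 2 = (Nat.card G : ℝ) := by
      exact_mod_cast h
    have hD1 : (D one : ℝ) = 1 := by
      have : (D one : ℂ) = 1 := by rw [hD, ← hdeg]
      exact_mod_cast this
    rw [hD1] at h'
    have := Finset.sum_le_sum_of_subset_of_nonneg (Finset.filter_subset
      (fun χ : Cfsg.IrrCharacter G => ∀ g : G, ((χ : G → ℂ) g).im = 0) (Finset.univ.erase one))
      (f := fun χ => (D χ : ℝ) ^ 2) (fun _ _ _ => sq_nonneg _)
    rw [← hS] at this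
    linarith
  have hSne : S.Nonempty := Finset.nonempty_iff_ne_empty.2 fun h => by
    rw [h, Finset.sum_empty] at hbound
    exact absurd hbound (by simpa using ht0.ne')
  have htR : (0 : ℝ) < t := by exact_mod_cast ht0
  refine ⟨?_, ?_⟩
  · haveI := Fintype.ofFinite (ConjClasses G)
    set sz := fun C : ConjClasses G => (Finset.univ.filter fun x : G => ConjClasses.mk x = C).card with hsz
    set T := (Finset.univ : Finset (ConjClasses G)).erase (ConjClasses.mk 1) with hT
    have hszsum : (∑ C ∈ T, (sz C : ℝ)) = (Nat.card G : ℝ) - 1 := by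
      have h := Finset.card_eq_sum_card_fiberwise (s := (Finset.univ : Finset G))
        (t := (Finset.univ : Finset (ConjClasses G))) (f := ConjClasses.mk) (fun x _ => Finset.mem_univ _)
      rw [Finset.card_univ, ← Nat.card_eq_fintype_card,
        ← Finset.add_sum_erase _ _ (Finset.mem_univ (ConjClasses.mk (1 : G)))] at h
      have h1 : sz (ConjClasses.mk 1) = 1 := by
        simp only [hsz, Finset.card_eq_one]
        exact ⟨1, by ext x; simp [ConjClasses.mk_eq_mk_iff_isConj]⟩
      rw [h]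
      show (∑ C ∈ T, (sz C : ℝ)) = ((sz (ConjClasses.mk 1) + ∑ C ∈ T, sz C : ℕ) : ℝ) - 1
      rw [h1]
      push_cast
      ring
    have hcardS : S.card ≤ T.card := by
      rw [hT, Finset.card_erase_of_mem (Finset.mem_univ _), Finset.card_univ, ← Nat.card_eq_fintype_card,
        ← Cfsg.Agent.Char.card_irr, Nat.card_eq_fintype_card]
      refine le_trans (Finset.card_filter_le _ _) ?_
      rw [Finset.card_erase_of_mem (Finset.mem_univ _), Finset.card_univ]
    have hTne : T.Nonempty := Finset.card_pos.1 (lt_of_lt_of_le (Finset.card_pos.2 hSne) hcardS)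
    obtain ⟨C, hC, hmin⟩ := T.exists_min_image sz hTne
    obtain ⟨x, rfl⟩ := ConjClasses.mk_surjective C
    refine ⟨x, fun h => (Finset.mem_erase.1 hC).1 (by rw [h]), ?_⟩
    have hidx : (Subgroup.centralizer ({x} : Set G)).index = sz (ConjClasses.mk x) := by
      rw [← Cfsg.Agent.Char.card_conjClass_eq_index, Nat.card_eq_fintype_card, Fintype.card_subtype]
      simp only [hsz, ConjClasses.mk_eq_mk_iff_isConj, isConj_comm]
    have hm : (T.card : ℝ) * sz (ConjClasses.mk x) ≤ (Nat.card G : ℝ) - 1 := by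
      rw [← hszsum, ← nsmul_eq_mul]
      exact Finset.card_nsmul_le_sum _ _ _ fun C hC => by exact_mod_cast hmin C hC
    have hcs : (t : ℝ) ^ 2 ≤ (T.card : ℝ) * ((Nat.card G : ℝ) - 1) := by
      refine le_trans (pow_le_pow_left₀ htR.le hbound 2) ?_
      refine le_trans (sq_sum_le_card_mul_sum_sq) ?_
      have hc : (S.card : ℝ) ≤ T.card := by exact_mod_cast hcardS
      exact mul_le_mul hc hsq (Finset.sum_nonneg fun _ _ => sq_nonneg _) (Nat.cast_nonneg _)
    have key : ((sz (ConjClasses.mk x) : ℕ) : ℝ) ≤ (((Nat.card G : ℝ) - 1) / t) ^ 2 := by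
      rw [div_pow, le_div_iff₀ (pow_pos htR 2)]
      have h0 : (0 : ℝ) ≤ sz (ConjClasses.mk x) := Nat.cast_nonneg _
      have h1 : (0 : ℝ) ≤ (Nat.card G : ℝ) - 1 := le_trans (mul_nonneg (Nat.cast_nonneg _) h0) hm
      calc (sz (ConjClasses.mk x) : ℝ) * (t : ℝ) ^ 2
          ≤ (sz (ConjClasses.mk x) : ℝ) * ((T.card : ℝ) * ((Nat.card G : ℝ) - 1)) :=
            mul_le_mul_of_nonneg_left hcs h0
        _ = ((T.card : ℝ) * sz (ConjClasses.mk x)) * ((Nat.card G : ℝ) - 1) := by ring
        _ ≤ ((Nat.card G : ℝ) - 1) * ((Nat.card G : ℝ) - 1) := mul_le_mul_of_nonneg_right hm h1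
        _ = _ := (sq _).symm
    rw [hidx, ← Rat.cast_le (K := ℝ)]
    push_cast
    exact key
  · obtain ⟨χ, hχ, hmin⟩ := S.exists_min_image D hSne
    obtain ⟨hχ1, hr⟩ := Finset.mem_filter.1 hχ
    refine ⟨χ, fun h => (Finset.mem_erase.1 hχ1).1 (Subtype.ext h), hr, ?_⟩
    have key : (D χ : ℝ) ≤ ((Nat.card G : ℝ) - 1) / t := by
      rw [le_div_iff₀ htR]
      calc (D χ : ℝ) * t ≤ (D χ : ℝ) * ∑ ψ ∈ S, (D ψ : ℝ) := mul_le_mul_of_nonneg_left hbound (Nat.cast_nonneg _)
        _ ≤ ∑ ψ ∈ S, (D ψ : ℝ) ^ 2 := by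
          rw [Finset.mul_sum]
          refine Finset.sum_le_sum fun ψ hψ => ?_
          rw [sq]
          exact mul_le_mul_of_nonneg_right (by exact_mod_cast hmin ψ hψ) (Nat.cast_nonneg _)
        _ ≤ _ := hsq
    rw [← Rat.cast_le (K := ℝ)]
    push_cast
    exact key

end Cfsg.Agent.S4476
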