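import Cfsg.Statements.S4478
import Cfsg.Agent.Lib.Char.Indicator
import Cfsg.Agent.Lib.Char.RealClass
import Cfsg.Agent.S0165

set_option autoImplicit false
open Cfsg Cfsg.Agent.Char
open scoped ComplexConjugate

namespace Cfsg.Agent.S4478

/-- Let G be a finite group of even order and χ an irreducible character of G whose degree x is divisible by the full power of 2 dividing the order of G and, for every odd prime p such that G has an element of order 2p, by the full power of p dividing the order of G. Then all involutions of G are conjugate, the centralizer of every involution has order exactly x with x coprime to its index, and the Frobenius–Schur indicator of χ equals 1. -/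
theorem result {G : Type*} [Group G] [Fintype G] (heven : Even (Nat.card G)) (χ : Cfsg.IrrCharacter G) (h2 : 2 ^ (Nat.card G).factorization 2 ∣ Cfsg.charDegree (χ : G → ℂ)) (hp : ∀ p : ℕ, p.Prime → p ≠ 2 → (∃ g : G, orderOf g = 2 * p) → p ^ (Nat.card G).factorization p ∣ Cfsg.charDegree (χ : G → ℂ)) : (∀ s t : G, orderOf s = 2 → orderOf t = 2 → IsConj s t) ∧ (∀ s : G, orderOf s = 2 → Nat.card (Subgroup.centralizer ({s} : Set G)) = Cfsg.charDegree (χ : G → ℂ) ∧ (Nat.card (Subgroup.centralizer ({s} : Set G))).Coprime (Subgroup.centralizer ({s} : Set G)).index) ∧ (Nat.card G : ℂ)⁻¹ * ∑ g : G, (χ : G → ℂ) (g * g) = 1 := by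
  classical
  haveI : Fact (Nat.Prime 2) := ⟨Nat.prime_two⟩
  set N := Nat.card G
  have hN : N ≠ 0 := Nat.card_pos.ne'
  set f := Cfsg.charDegree (χ : G → ℂ) with hfdef
  have hf1 : (χ : G → ℂ) 1 = (f : ℂ) := char_one_eq_deg (irr_isCharacter χ.2)
  have hf0 : f ≠ 0 := fun h => irr_one_ne_zero χ.2 (by rw [hf1, h, Nat.cast_zero])
  have hvan : ∀ q : ℕ, q.Prime → q ^ N.factorization q ∣ f → ∀ g : G, q ∣ orderOf g → (χ : G → ℂ) g = 0 := by
    intro q hq hqf g hg
    obtain ⟨n, ρ, hρ, hχ⟩ := χ.2
    haveI := hρ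
    rw [← hχ]
    refine Cfsg.Agent.S0165.result ρ q (N.factorization q) hq (Nat.ordProj_dvd _ _)
      (Nat.pow_succ_factorization_not_dvd hN hq) ?_ g hg
    have h1 : (n : ℂ) = (f : ℂ) := by
      rw [← hf1, ← hχ, Representation.char_one]; simp
    have h2 : n = f := by exact_mod_cast h1
    rw [Module.finrank_fin_fun, h2]
    exact hqf
  have h2v : ∀ g : G, 2 ∣ orderOf g → (χ : G → ℂ) g = 0 := hvan 2 Nat.prime_two h2
  have hmixed : ∀ p : ℕ, p.Prime → p ≠ 2 → ∀ x : G, orderOf x ≠ 0 → 2 * p ∣ orderOf x → p ^ N.factorization p ∣ f :=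
    fun p hpp hp2 x _ hd => hp p hpp hp2 ⟨x ^ (orderOf x / (2 * p)), by
      rw [orderOf_pow_of_dvd (by
        rw [Nat.div_ne_zero_iff]; exact ⟨(Nat.mul_pos two_pos hpp.pos).ne', Nat.le_of_dvd (orderOf_pos x) hd⟩)
        (Nat.div_dvd_of_dvd hd), Nat.div_div_self hd (orderOf_pos x).ne']⟩
  -- there is an involution
  have hN2 : 2 ∣ N := heven.two_dvd
  obtain ⟨t₀, ht₀⟩ := exists_prime_orderOf_dvd_card' (G := G) 2 hN2
  -- the character is not principal
  have hv2 : 1 ≤ N.factorization 2 := (Nat.Prime.dvd_iff_one_le_factorization Nat.prime_two hN).1 hN2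
  have hf2 : 2 ∣ f := (dvd_pow_self 2 (by omega)).trans h2
  set e1 : IrrCharacter G := ⟨fun _ => 1, isIrrCharacter_one⟩ with he1
  have hne1 : χ ≠ e1 := by
    intro h
    have h3 := congrFun (congrArg Subtype.val h) 1
    rw [hf1] at h3
    have h4 : f = 1 := by simpa [he1] using h3
    omega
  have hsum0 : ∑ g : G, (χ : G → ℂ) g = 0 := by
    have h3 := irrC_orth χ e1
    rw [if_neg hne1] at h3
    simp only [classInner, he1, map_one, mul_one, mul_eq_zero, inv_eq_zero, Nat.cast_eq_zero, Nat.card_pos.ne',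
      false_or] at h3
    exact h3
  -- the sum over squares
  set I := (Finset.univ.filter fun g : G => orderOf g = 2).card with hI
  have hsq : ∑ g : G, (χ : G → ℂ) (g * g) = (I : ℂ) * f := by
    rw [← Finset.sum_fiberwise Finset.univ (fun g : G => g * g) (fun g => (χ : G → ℂ) (g * g))]
    have hterm : ∀ h : G, (∑ g ∈ Finset.univ.filter (fun g : G => g * g = h), (χ : G → ℂ) (g * g)) =
        (χ : G → ℂ) h + if h = 1 then (I : ℂ) * f else 0 := by
      intro h
      rw [Finset.sum_congr rfl (g := fun _ => (χ : G → ℂ) h) (fun g hg => by rw [(Finset.mem_filter.1 hg).2]),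
        Finset.sum_const, nsmul_eq_mul]
      by_cases h1 : h = 1
      · subst h1
        rw [if_pos rfl, hf1]
        have hset : (Finset.univ.filter fun g : G => g * g = 1) =
            insert 1 (Finset.univ.filter fun g : G => orderOf g = 2) := by
          ext g
          simp only [Finset.mem_filter, Finset.mem_univ, true_and, Finset.mem_insert]
          constructor
          · intro hg
            rcases eq_or_ne g 1 with h | h
            · exact Or.inl h
            · exact Or.inr (orderOf_eq_prime (by rw [pow_two]; exact hg) h)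
          · rintro (rfl | hg)
            · exact one_mul 1
            · rw [← pow_two, ← hg, pow_orderOf_eq_one]
        rw [hset, Finset.card_insert_of_notMem (by simp), ← hI]
        push_cast; ring
      rw [if_neg h1, add_zero]
      by_cases hev : 2 ∣ orderOf h
      · rw [h2v h hev, mul_zero]
      by_cases hsing : ∃ g : G, g * g = h ∧ 2 ∣ orderOf g
      · obtain ⟨g, hg, hg2⟩ := hsing
        obtain ⟨q, hq, hqh⟩ := Nat.exists_prime_and_dvd (fun e => h1 (orderOf_eq_one_iff.1 e))
        have hq2 : q ≠ 2 := fun e => hev (e ▸ hqh)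
        have hqg : q ∣ orderOf g := hqh.trans (by rw [← hg, ← pow_two]; exact orderOf_pow_dvd 2)
        have hd : 2 * q ∣ orderOf g :=
          ((Nat.coprime_primes Nat.prime_two hq).2 hq2.symm).mul_dvd_of_dvd_of_dvd hg2 hqg
        rw [hvan q hq (hmixed q hq hq2 g (orderOf_pos g).ne' hd) h hqh, mul_zero]
      push Not at hsing
      have hone : (Finset.univ.filter fun g : G => g * g = h).card = 1 := by
        obtain ⟨j, hj⟩ := exists_pow_eq_self_of_coprime (x := h) (n := 2)
          ((Nat.Prime.coprime_iff_not_dvd Nat.prime_two).2 hev)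
        have hroot : h ^ j * h ^ j = h := by rw [← pow_two, ← pow_mul, mul_comm, pow_mul]; exact hj
        refine Finset.card_eq_one.2 ⟨h ^ j, Finset.eq_singleton_iff_unique_mem.2
          ⟨Finset.mem_filter.2 ⟨Finset.mem_univ _, hroot⟩, fun g hg => ?_⟩⟩
        have hg' := (Finset.mem_filter.1 hg).2
        obtain ⟨i, hi⟩ := exists_pow_eq_self_of_coprime (x := g) (n := 2)
          ((Nat.Prime.coprime_iff_not_dvd Nat.prime_two).2 (hsing g hg'))
        obtain ⟨k, hk⟩ := exists_pow_eq_self_of_coprime (x := h ^ j) (n := 2)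
          ((Nat.Prime.coprime_iff_not_dvd Nat.prime_two).2 (hsing _ hroot))
        have e1 : g ^ 2 = h := by rw [pow_two]; exact hg'
        have e2 : (h ^ j) ^ 2 = h := by rw [pow_two]; exact hroot
        -- both are powers of `h` with the same square
        have hgp : g = h ^ i := by rw [← e1]; exact hi.symm
        have hcomm : Commute g (h ^ j) := by rw [hgp]; exact (Commute.refl h).pow_pow i j
        have e3 : (g * (h ^ j)⁻¹) ^ 2 = 1 := by rw [hcomm.inv_right.mul_pow, inv_pow, e1, e2, mul_inv_cancel]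
        have e4 : orderOf (g * (h ^ j)⁻¹) ∣ orderOf h := by
          rw [hgp, show h ^ i * (h ^ j)⁻¹ = h ^ ((i : ℤ) - j) by rw [zpow_sub, zpow_natCast, zpow_natCast]]
          exact orderOf_dvd_of_mem_zpowers (Subgroup.zpow_mem_zpowers h _)
        have e5 := Nat.eq_one_of_dvd_coprimes ((Nat.Prime.coprime_iff_not_dvd Nat.prime_two).2 hev)
          (orderOf_dvd_of_pow_eq_one e3) e4
        exact mul_inv_eq_one.1 (orderOf_eq_one_iff.1 e5)
      rw [hone, Nat.cast_one, one_mul]
    rw [Finset.sum_congr rfl (fun h _ => hterm h), Finset.sum_add_distrib, hsum0, zero_add,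
      Finset.sum_ite_eq' , if_pos (Finset.mem_univ _)]
  have hI0 : I ≠ 0 := Finset.card_ne_zero.2 ⟨t₀, Finset.mem_filter.2 ⟨Finset.mem_univ _, ht₀⟩⟩
  have hind : indicator2 (χ : G → ℂ) = (I : ℂ) * f / N := by
    rw [indicator2, hsq]; ring
  have hν : indicator2 (χ : G → ℂ) = 1 := by
    have hne : (I : ℂ) * f / N ≠ 0 :=
      div_ne_zero (mul_ne_zero (Nat.cast_ne_zero.2 hI0) (Nat.cast_ne_zero.2 hf0)) (Nat.cast_ne_zero.2 hN)
    rcases (indicator_trichotomy χ.2).1 with h | h | h
    · exact absurd (hind ▸ h) hne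
    · exact h
    · exfalso
      rw [hind, div_eq_iff (Nat.cast_ne_zero.2 hN)] at h
      have h3 : ((I * f + N : ℕ) : ℂ) = 0 := by push_cast; rw [h]; ring
      rw [Nat.cast_eq_zero] at h3
      omega
  have hIf : I * f = N := by
    have h3 := hind.symm.trans hν
    rw [div_eq_one_iff_eq (Nat.cast_ne_zero.2 hN)] at h3
    exact_mod_cast h3
  -- centralizers of involutions
  have hcdvd : ∀ s : G, orderOf s = 2 → ∀ q : ℕ, q.Prime → q ∣ Nat.card (Subgroup.centralizer ({s} : Set G)) →
      q ^ N.factorization q ∣ f := by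
    intro s hs q hq hqd
    rcases eq_or_ne q 2 with rfl | hq2
    · exact h2
    haveI : Fact q.Prime := ⟨hq⟩
    obtain ⟨y, hy⟩ := exists_prime_orderOf_dvd_card' (G := Subgroup.centralizer ({s} : Set G)) q hqd
    have hys : Commute s (y : G) := (Subgroup.mem_centralizer_singleton_iff.1 y.2).symm
    refine hp q hq hq2 ⟨s * y, ?_⟩
    rw [hys.orderOf_mul_eq_mul_orderOf_of_coprime (by
      rw [hs, Subgroup.orderOf_coe, hy]; exact (Nat.coprime_primes Nat.prime_two hq).2 hq2.symm),
      hs, Subgroup.orderOf_coe, hy]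
  have hcle : ∀ s : G, orderOf s = 2 → Nat.card (Subgroup.centralizer ({s} : Set G)) ∣ f := by
    intro s hs
    rw [Nat.dvd_iff_prime_pow_dvd_dvd]
    intro q k hq hd
    rcases Nat.eq_zero_or_pos k with rfl | hk
    · simp
    refine dvd_trans (pow_dvd_pow q ?_) (hcdvd s hs q hq ((dvd_pow_self q hk.ne').trans hd))
    exact (hq.pow_dvd_iff_le_factorization hN).1 (hd.trans (Subgroup.card_subgroup_dvd_card _))
  have hclass : ∀ s : G, orderOf s = 2 → Nat.card (Subgroup.centralizer ({s} : Set G)) = f ∧
      ∀ t : G, orderOf t = 2 → IsConj s t := by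
    intro s hs
    set c := Nat.card (Subgroup.centralizer ({s} : Set G))
    set S := Finset.univ.filter fun t : G => IsConj s t with hS
    have hScard : S.card * c = N := by
      rw [hS, ← Fintype.card_subtype, ← Nat.card_eq_fintype_card, card_conjClass_mul_centralizer]
    have hsub : S ⊆ Finset.univ.filter fun g : G => orderOf g = 2 := fun t ht => by
      obtain ⟨k, hk⟩ := isConj_iff.1 (Finset.mem_filter.1 ht).2
      exact Finset.mem_filter.2 ⟨Finset.mem_univ _, by rw [← hk, ← MulAut.conj_apply, MulEquiv.orderOf_eq, hs]⟩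
    have hc_le : c ≤ f := Nat.le_of_dvd (Nat.pos_of_ne_zero hf0) (hcle s hs)
    have hS_le : S.card ≤ I := Finset.card_le_card hsub
    have hc0 : 0 < c := Nat.card_pos
    have hmul : S.card * c = I * f := by rw [hScard, hIf]
    have hceq : c = f := by nlinarith [Nat.mul_le_mul_right c hS_le, Nat.pos_of_ne_zero hI0]
    refine ⟨hceq, fun t ht => ?_⟩
    have hSI : S.card = I := by
      rw [hceq] at hmul
      exact Nat.eq_of_mul_eq_mul_right (Nat.pos_of_ne_zero hf0) hmul
    have heq := Finset.eq_of_subset_of_card_le hsub (by rw [hSI])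
    exact (Finset.mem_filter.1 (heq.symm ▸ Finset.mem_filter.2 ⟨Finset.mem_univ _, ht⟩ : t ∈ S)).2
  refine ⟨fun s t hs ht => (hclass s hs).2 t ht, fun s hs => ⟨(hclass s hs).1, ?_⟩, ?_⟩
  · refine Nat.coprime_of_dvd fun q hq h1 h2 => ?_
    have h3 := hcdvd s hs q hq h1
    rw [← (hclass s hs).1] at h3
    have h4 : q ^ (N.factorization q + 1) ∣ N := by
      rw [pow_succ]
      exact (mul_dvd_mul h3 h2).trans (Subgroup.centralizer ({s} : Set G)).card_mul_index.dvd
    exact Nat.pow_succ_factorization_not_dvd hN hq h4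
  · exact hν

end Cfsg.Agent.S4478
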