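import Cfsg.Statements.S4483
import Cfsg.Agent.Lib.Char.RealBlock

set_option autoImplicit false
open Cfsg
open scoped ComplexConjugate

namespace Cfsg.Agent.S4483

/-- Let G be a finite group of order 2^n·g₀ with g₀ odd, and M a maximal ideal of the algebraic integers containing 2. Every real-valued irreducible character of G of odd degree lies in the principal 2-block; consequently G has at most 2^(2n) real-valued irreducible characters of odd degree. -/
theorem result {G : Type*} [Group G] [Finite G] (M : Ideal Cfsg.AlgInt) (hM : Cfsg.IsPModular 2 M) : (∀ χ : Cfsg.IrrCharacter G, (∀ g : G, ((χ : G → ℂ) g).im = 0) → Odd (Cfsg.charDegree (χ : G → ℂ)) → χ ∈ Cfsg.principalBlock M G) ∧ Nat.card {χ : Cfsg.IrrCharacter G // (∀ g : G, ((χ : G → ℂ) g).im = 0) ∧ Odd (Cfsg.charDegree (χ : G → ℂ))} ≤ 2 ^ (2 * (Nat.card G).factorization 2) := by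
  classical
  have := Fintype.ofFinite G
  have hP := Cfsg.Agent.Char.pmod_prime hM
  have key : ∀ χ : Cfsg.IrrCharacter G, (∀ g : G, ((χ : G → ℂ) g).im = 0) →
      Odd (Cfsg.charDegree (χ : G → ℂ)) → χ ∈ Cfsg.principalBlock M G := fun χ hre hodd => by
    have hB := Cfsg.Agent.Char.isPBlock_blockOf M χ
    have hχ := Cfsg.Agent.Char.self_mem_blockOf hP χ
    have hd : Cfsg.Agent.Char.dexp 2 (χ : G → ℂ) = 0 :=
      Nat.factorization_eq_zero_of_not_dvd (fun h =>
        (Nat.not_even_iff_odd.mpr hodd) (even_iff_two_dvd.mpr h))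
    have hfull : Cfsg.blockDefect 2 (Cfsg.blockOf M (χ : G → ℂ)) = (Nat.card G).factorization 2 := by
      have h1 := Cfsg.Agent.Char.dmin_le (p := 2) hχ
      have h2 := Cfsg.Agent.Char.dmin_add_defect (p := 2) (Cfsg.Agent.Char.block_nonempty hP hB)
      omega
    rw [← Cfsg.Agent.Char.principal_of_inv_invariant hM hB hfull hχ fun g _ => ?_]
    · exact hχ
    · have e : (χ : G → ℂ) g⁻¹ = (χ : G → ℂ) g := by
        rw [Cfsg.Agent.Char.char_inv (Cfsg.Agent.Char.irr_isCharacter χ.2)]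
        exact Complex.conj_eq_iff_im.mpr (hre g)
      rw [Cfsg.Agent.Char.omega, Cfsg.Agent.Char.omega, e, Cfsg.Agent.Char.card_conjClass_inv, sub_self]
      exact Cfsg.Agent.Char.memLI_zero hP
  refine ⟨key, ?_⟩
  let χ0 : Cfsg.IrrCharacter G := ⟨_, Cfsg.Agent.Char.isIrrCharacter_one⟩
  have hB : Cfsg.IsPBlock M (Cfsg.principalBlock M G) := Cfsg.Agent.Char.isPBlock_blockOf M χ0
  have h := Cfsg.Agent.Char.sum_pow_height_le hM hB
  have h2 := Cfsg.Agent.Char.dmin_add_defect (p := 2) (Cfsg.Agent.Char.block_nonempty hP hB)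
  have hd : Cfsg.blockDefect 2 (Cfsg.principalBlock M G) ≤ (Nat.card G).factorization 2 := by omega
  have h3 : Nat.card {χ : Cfsg.IrrCharacter G // (∀ g : G, ((χ : G → ℂ) g).im = 0) ∧
      Odd (Cfsg.charDegree (χ : G → ℂ))} ≤ (Cfsg.Agent.Char.bset (Cfsg.principalBlock M G)).card := by
    rw [Nat.card_eq_fintype_card, Fintype.card_subtype]
    exact Finset.card_le_card fun χ hχ => Cfsg.Agent.Char.mem_bset.mpr
      (key χ (Finset.mem_filter.mp hχ).2.1 (Finset.mem_filter.mp hχ).2.2)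
  have h4 : (Cfsg.Agent.Char.bset (Cfsg.principalBlock M G)).card ≤
      ∑ θ ∈ Cfsg.Agent.Char.bset (Cfsg.principalBlock M G),
        2 ^ (2 * Cfsg.blockHeight 2 (Cfsg.principalBlock M G) (θ : G → ℂ)) := by
    rw [Finset.card_eq_sum_ones]
    exact Finset.sum_le_sum fun θ _ => Nat.one_le_pow _ _ two_pos
  have h5 := Nat.pow_le_pow_right (two_pos : 0 < 2) (Nat.mul_le_mul_left 2 hd)
  have h6 := Nat.one_le_pow (2 * (Nat.card G).factorization 2) 2 two_pos
  omega

end Cfsg.Agent.S4483
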