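import Cfsg.Statements.S4484
import Cfsg.Agent.Lib.Solv.ArcScalar
import Cfsg.Agent.Lib.Solv.ClassEigenCount

set_option autoImplicit false
open Cfsg Cfsg.Agent Cfsg.Agent.Char

namespace Cfsg.Agent.S4484

/-- A refinement of Burnside's result on simple groups of order divisible by only two primes. Let G be a finite simple group of order p^a · q^b · g₀ with p, q distinct primes, a > 0, g₀ coprime to p and q, and the order of G different from p. Then g₀ − 1 > log p / log 6, that is 6^(g₀ − 1) > p. -/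
theorem result {G : Type*} [Group G] [Finite G] [IsSimpleGroup G] (p q a b g₀ : ℕ) (hp : p.Prime) (hq : q.Prime) (hpq : p ≠ q) (ha : 0 < a) (hg : Nat.card G = p ^ a * q ^ b * g₀) (hcop : ¬ p ∣ g₀) (hcoq : ¬ q ∣ g₀) (hne : Nat.card G ≠ p) : p < 6 ^ (g₀ - 1) := by
  classical
  haveI := Fintype.ofFinite G
  haveI := Fact.mk hp
  have hpG : p ∣ Nat.card G := by
    rw [hg]; exact dvd_mul_of_dvd_left (dvd_mul_of_dvd_left (dvd_pow_self p ha.ne') _) _
  have hnc : ¬ ∀ u v : G, u * v = v * u := by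
    intro hcomm
    letI : CommGroup G := { ‹Group G› with mul_comm := hcomm }
    haveI : IsSimpleGroup G := inferInstance
    have h1 := IsSimpleGroup.prime_card (α := G)
    exact hne ((Nat.prime_dvd_prime_iff_eq hp h1).mp hpG).symm
  obtain ⟨M, hM⟩ := exists_pModular hp
  have hP := pmod_prime hM
  obtain ⟨P⟩ := (inferInstance : Nonempty (Sylow p G))
  haveI : Nontrivial (P : Subgroup G) :=
    (Subgroup.nontrivial_iff_ne_bot _).mpr (P.ne_bot_of_dvd_card hpG)
  haveI := P.isPGroup'.center_nontrivial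
  obtain ⟨⟨z₁, hz₁⟩, hord⟩ : ∃ x : Subgroup.center (P : Subgroup G), orderOf x = p := by
    haveI := Fintype.ofFinite (Subgroup.center (P : Subgroup G))
    refine exists_prime_orderOf_dvd_card' p ?_
    obtain ⟨k, hk, hk'⟩ := (P.isPGroup'.to_subgroup (Subgroup.center (P : Subgroup G))).nontrivial_iff_card.mp
      inferInstance
    rw [hk']; exact dvd_pow_self p hk.ne'
  set z : G := (z₁ : G) with hzdef
  have hz : orderOf z = p := by
    calc orderOf z = orderOf z₁ := Subgroup.orderOf_coe z₁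
      _ = orderOf (⟨z₁, hz₁⟩ : Subgroup.center (P : Subgroup G)) :=
          Subgroup.orderOf_coe (⟨z₁, hz₁⟩ : Subgroup.center (P : Subgroup G))
      _ = p := hord
  have hz1 : z ≠ 1 := fun h => hp.ne_one (by rw [← hz, h, orderOf_one])
  have hPz : (P : Subgroup G) ≤ Subgroup.centralizer ({z} : Set G) := fun x hx =>
    Subgroup.mem_centralizer_singleton_iff.mpr
      (congrArg Subtype.val (Subgroup.mem_center_iff.mp hz₁ ⟨x, hx⟩))
  have hpK : ¬ p ∣ (Subgroup.centralizer ({z} : Set G)).index := fun h =>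
    P.not_dvd_index (h.trans (Subgroup.index_dvd_of_le hPz))
  -- a nonprincipal character of the principal block of degree prime to `q`
  obtain ⟨χ, hχB, hχ1, hχq⟩ : ∃ χ : IrrCharacter G, χ ∈ principalBlock M G ∧ χ ≠ irrOne ∧
      ¬ q ∣ deg (χ : G → ℂ) := by
    by_contra hall
    push Not at hall
    set F := Finset.univ.filter (fun χ : IrrCharacter G => χ ∈ principalBlock M G) with hF
    have h := weak_orthogonality hM (isPBlock_principalBlock M) (x := (1 : G)) (y := z)
      (by simp [hp.ne_one]) (by rw [hz])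
    rw [finsum_mem_irr, ← Finset.add_sum_erase _ _ (show irrOne ∈ F by
      rw [hF]; simp [irrOne_mem hP])] at h
    simp only [irrOne_apply, map_one, one_mul] at h
    have hint : IsIntegral ℤ ((∑ χ ∈ F.erase irrOne,
        (χ : G → ℂ) 1 * (starRingEnd ℂ) ((χ : G → ℂ) z)) / (q : ℂ)) := by
      rw [Finset.sum_div]
      refine IsIntegral.sum _ fun χ hχ => ?_
      obtain ⟨h1, h2⟩ := Finset.mem_erase.mp hχ
      obtain ⟨c, hc⟩ := hall χ (Finset.mem_filter.mp h2).2 h1
      rw [char_one_eq_deg (irr_isCharacter χ.2), hc, Nat.cast_mul, mul_assoc,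
        mul_div_cancel_left₀ _ (Nat.cast_ne_zero.mpr hq.ne_zero)]
      exact (isIntegral_natCast _).mul ((char_isIntegral (irr_isCharacter χ.2) z).map
        ((starRingEnd ℂ).toIntAlgHom))
    rw [eq_neg_of_add_eq_zero_right h, neg_div] at hint
    have hint' : IsIntegral ℤ (((1 / q : ℚ)) : ℂ) := by simpa using hint.neg
    obtain ⟨m, hm⟩ := isIntegral_rat_cast_imp hint'
    have hmq : (m : ℚ) * q = 1 := by rw [hm]; simp [hq.ne_zero]
    have hmq' : m * (q : ℤ) = 1 := by exact_mod_cast hmq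
    exact hq.ne_one (by simpa using Int.eq_one_of_mul_eq_one_left (by omega) hmq')
  obtain ⟨f, n, ρ, hρ, rfl⟩ := χ
  have hdeg : deg ρ.character = n := by rw [deg_character]; simp
  change ¬ q ∣ deg ρ.character at hχq
  rw [hdeg] at hχq
  obtain ⟨S, hScard, hSne, hSev, hSall⟩ := Solv.Arc.eigen_card_le hp hM ρ hρ hχB hz hpK
  -- the representation is faithful
  have hinj : ∀ g, ρ g = 1 → g = 1 := by
    rcases (inferInstance : ρ.ker.Normal).eq_bot_or_eq_top with hb | ht
    · intro g hg'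
      have : g ∈ ρ.ker := hg'
      simpa [hb] using this
    · exfalso
      have htriv : ∀ x, ρ x = LinearMap.id := fun x =>
        MonoidHom.mem_ker.mp (ht ▸ Subgroup.mem_top x : x ∈ ρ.ker)
      refine hχ1 (Subtype.ext (funext fun x => ?_))
      show ρ.character x = _
      rw [irrOne_apply, (eq_id_iff ρ x).mpr (htriv x), finrank_eq_one_of_trivial hρ htriv, Nat.cast_one]
  -- the number of eigenvalues divides `g₀`
  set d := Nat.gcd n (Subgroup.centralizer ({z} : Set G)).index with hd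
  have hdg : d ∣ g₀ := by
    have h1 : d ∣ p ^ a * (q ^ b * g₀) := by
      rw [← mul_assoc, ← hg]
      exact (Nat.gcd_dvd_right _ _).trans (Subgroup.index_dvd_card _)
    have h2 : d.Coprime p := ((hp.coprime_iff_not_dvd).mpr fun h =>
      hpK (h.trans (Nat.gcd_dvd_right _ _))).symm
    have h3 : d.Coprime q := ((hq.coprime_iff_not_dvd).mpr fun h =>
      hχq (h.trans (Nat.gcd_dvd_left _ _))).symm
    exact (h3.pow_right b).dvd_of_dvd_mul_left ((h2.pow_right a).dvd_of_dvd_mul_left h1)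
  have hg0 : 0 < g₀ := Nat.pos_of_ne_zero fun h => by simp [h] at hcop
  have hSg : S.card ≤ g₀ := hScard.trans (Nat.le_of_dvd hg0 hdg)
  by_contra hbig
  obtain ⟨ε, hε⟩ := hSne
  have hε0 : ε ≠ 0 := fun h => by simpa [h, hp.ne_zero] using (hSev ε hε).1
  set T := (S.erase ε).image (fun η => η / ε) with hT
  have hT1 : ∀ τ ∈ T, τ ^ p = 1 := by
    intro τ hτ
    obtain ⟨η, hη, rfl⟩ := Finset.mem_image.mp hτ
    rw [div_pow, (hSev η (Finset.mem_of_mem_erase hη)).1, (hSev ε hε).1, div_one]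
  have hTc : T.card ≤ g₀ - 1 := Finset.card_image_le.trans
    (by rw [Finset.card_erase_of_mem hε]; omega)
  have hlt : 6 ^ T.card < p := by
    refine lt_of_le_of_ne ((Nat.pow_le_pow_right (by norm_num) hTc).trans (not_lt.mp hbig)) ?_
    intro h
    have hpp : (6 ^ T.card).Prime := h ▸ hp
    rcases Nat.eq_zero_or_pos T.card with h0 | h0
    · rw [h0, pow_zero] at hpp; exact Nat.not_prime_one hpp
    · have h1 : T.card = 1 := by
        by_contra h1
        exact Nat.Prime.not_prime_pow (by omega) hpp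
      rw [h1, pow_one] at hpp
      exact absurd hpp (by norm_num)
  obtain ⟨t, ht, hnear⟩ := Solv.Arc.exists_near_pow hp T hT1 hlt
  have hzt : z ^ t ≠ 1 := fun h => ht (hz ▸ orderOf_dvd_of_pow_eq_one h)
  obtain ⟨v₀, hv₀, hev₀⟩ := (hSev ε hε).2
  have hpow : ∀ (μ : ℂ) (v : Fin n → ℂ), ρ z v = μ • v → ∀ k : ℕ, ρ (z ^ k) v = μ ^ k • v := by
    intro μ v h k
    induction k with
    | zero => simp
    | succ k ih => rw [pow_succ, map_mul, Module.End.mul_apply, h, map_smul, ih, smul_smul, pow_succ']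
  have hnorm : ‖ε ^ t‖ = 1 := by
    rw [norm_pow, root_of_unity_norm hp.ne_zero (hSev ε hε).1, one_pow]
  obtain ⟨μ, v, hv, hμ, hfar⟩ := Solv.Arc.eigen_far hnc ρ hρ hinj hzt hv₀ (hpow ε v₀ hev₀ t) hnorm
  -- eigenvalues of the power are powers of eigenvalues
  obtain ⟨b', ν, hν, hb'⟩ := exists_eigenbasis_of_pow_eq_one (ρ z) p hp.ne_zero
    (by rw [← map_pow, ← hz, pow_orderOf_eq_one, map_one])
  obtain ⟨j, hj⟩ : ∃ j, b'.repr v j ≠ 0 := by
    by_contra h
    push Not at h
    exact hv (b'.repr.map_eq_zero_iff.mp (Finsupp.ext h))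
  have h1 : b'.repr (ρ (z ^ t) v) j = ν j ^ t * b'.repr v j := by
    conv_lhs => rw [← b'.sum_repr v]
    simp only [map_sum, map_smul, hpow _ _ (hb' _), Finsupp.coe_finsetSum, Finset.sum_apply,
      Finsupp.smul_apply, Module.Basis.repr_self, smul_eq_mul, Finsupp.single_apply, mul_ite, mul_one,
      mul_zero, Finset.sum_ite_eq', Finset.mem_univ, if_true]
    ring
  rw [hμ, map_smul, Finsupp.smul_apply, smul_eq_mul] at h1
  rw [mul_right_cancel₀ hj h1] at hfar
  have hνS : ν j ∈ S := hSall _ _ (b'.ne_zero j) (hb' j)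
  rcases eq_or_ne (ν j) ε with he | he
  · rw [he, sub_self, norm_zero] at hfar; linarith
  have h2 := hnear (ν j / ε) (Finset.mem_image.mpr ⟨ν j, Finset.mem_erase.mpr ⟨he, hνS⟩, rfl⟩)
  rw [show ν j ^ t - ε ^ t = ε ^ t * ((ν j / ε) ^ t - 1) by
    rw [div_pow]; field_simp, norm_mul, hnorm, one_mul] at hfar
  linarith

end Cfsg.Agent.S4484
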