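import Cfsg.Statements.S4489
import Cfsg.Agent.Lib.Char.PGroupOrderBound

set_option autoImplicit false
open Cfsg Cfsg.Agent.Char
open scoped ComplexConjugate

namespace Cfsg.Agent.S4489

/-- Let P be a finite p-group of order p^a with a > 0, and χ a faithful irreducible character of P of degree f whose field of values ℚ(χ) has degree (p − 1)·p^t over ℚ. Then a ≤ (f − 1)/(p − 1) + (t + 1)·f; in integer form, (p − 1)·a ≤ (f − 1) + (p − 1)(t + 1)·f. -/
theorem result {P : Type*} [Group P] [Finite P] (p a : ℕ) (hp : p.Prime) (ha : 0 < a) (hP : Nat.card P = p ^ a) (χ : Cfsg.IrrCharacter P) (hfaith : ∀ g : P, (χ : P → ℂ) g = (χ : P → ℂ) 1 → g = 1) (f t : ℕ) (hf : Cfsg.charDegree (χ : P → ℂ) = f) (hfield : Module.finrank ℚ (IntermediateField.adjoin ℚ (Set.range (χ : P → ℂ))) = (p - 1) * p ^ t) : (p - 1) * a ≤ (f - 1) + (p - 1) * (t + 1) * f := by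
  classical
  haveI := Fintype.ofFinite P
  haveI : Fact p.Prime := ⟨hp⟩
  haveI : NeZero (p ^ a) := ⟨pow_ne_zero _ hp.ne_zero⟩
  have hPG : IsPGroup p P := IsPGroup.of_card hP
  have hexp : ∀ g : P, g ^ p ^ a = 1 := fun g => hP ▸ pow_card_eq_one'
  have hker : TwoDeg.kerC χ = ⊥ := (Subgroup.eq_bot_iff_forall _).2 fun g hg =>
    hfaith g ((PBound.mem_kerC_iff χ g).1 hg)
  have hne : TwoDeg.kerC χ ≠ ⊤ := fun h => by
    rw [hker] at h
    have h1 := congrArg (fun S : Subgroup P => Nat.card S) h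
    simp only [Subgroup.card_bot, Subgroup.card_top, hP] at h1
    exact (one_lt_pow₀ hp.one_lt ha.ne').ne h1
  have hidx : (TwoDeg.kerC χ).index = p ^ a := by rw [hker, Subgroup.index_bot, hP]
  rw [finrank_adjoin_values hexp (irr_isCharacter χ.2)] at hfield
  exact PBound.bound f hPG ha hexp χ hf hne a t hidx hfield

end Cfsg.Agent.S4489
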