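import Cfsg.Statements.S4495
import Cfsg.Agent.Lib.Char.SelfCentralizing

set_option autoImplicit false
open Cfsg Cfsg.Agent.Char
open scoped ComplexConjugate

namespace Cfsg.Agent.S4495

/-- Let the finite group G contain an element x of prime order p with C_G(x) = ⟨x⟩, and let t be the number of conjugacy classes of elements of order p. If t ≠ p − 1 then the commutator subgroup has index at most (p − 1)/t; if t = p − 1 it has index exactly p. -/
theorem result {G : Type*} [Group G] [Finite G] (p : ℕ) (hp : p.Prime) (x : G) (hx : orderOf x = p) (hC : Subgroup.centralizer ({x} : Set G) = Subgroup.zpowers x) (t : ℕ) (ht : Nat.card {C : ConjClasses G // ∃ g ∈ C.carrier, orderOf g = p} = t) : (t ≠ p - 1 → (commutator G).index * t ≤ p - 1) ∧ (t = p - 1 → (commutator G).index = p) := by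
  haveI : Fact p.Prime := ⟨hp⟩
  have hcount := SelfCent.count_classes hx hC
  rw [ht] at hcount
  refine ⟨fun hne => ?_, fun he => ?_⟩
  · have he1 : (Subgroup.zpowers x).relIndex (Subgroup.normalizer (Subgroup.zpowers x : Set G)) ≠ 1 :=
      fun h => hne (by rw [h, mul_one] at hcount; exact hcount)
    have h := Nat.mul_le_mul_left t (SelfCent.commutator_index_le hx hC (SelfCent.mem_commutator hx hC he1))
    rw [hcount] at h
    rwa [mul_comm]
  · refine (SelfCent.exists_complement hx hC ?_).1
    rw [he] at hcount
    exact Nat.eq_of_mul_eq_mul_left (by have := hp.two_le; omega) (hcount.trans (mul_one _).symm)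

end Cfsg.Agent.S4495
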