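import Cfsg.Statements.S4496
import Cfsg.Agent.Lib.Char.PermLemma

set_option autoImplicit false
open Cfsg
open scoped ComplexConjugate

namespace Cfsg.Agent.S4496

/-- Let the finite group G contain an element x of prime order p with C_G(x) = ⟨x⟩. Then: (a) every normal subgroup of order divisible by p contains the commutator subgroup; (b) every normal subgroup S of order prime to p has order dividing the number of subgroups of order p of G and congruent to 1 modulo p, and in G/S the image of x again has prime order p and commutes only with its own powers. -/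
theorem result {G : Type*} [Group G] [Finite G] (p : ℕ) (hp : p.Prime) (x : G) (hx : orderOf x = p) (hC : Subgroup.centralizer ({x} : Set G) = Subgroup.zpowers x) (S : Subgroup G) [S.Normal] : (p ∣ Nat.card S → commutator G ≤ S) ∧ (¬ p ∣ Nat.card S → Nat.card S ∣ Nat.card {H : Subgroup G // Nat.card H = p} ∧ Nat.card S % p = 1 ∧ orderOf (QuotientGroup.mk x : G ⧸ S) = p ∧ Subgroup.centralizer ({(QuotientGroup.mk x : G ⧸ S)} : Set (G ⧸ S)) = Subgroup.zpowers (QuotientGroup.mk x : G ⧸ S)) := by
  classical
  haveI : Fact p.Prime := ⟨hp⟩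
  have hx1 : x ≠ 1 := fun h => hp.ne_one (by rw [← hx, h, orderOf_one])
  have hXc : Nat.card (Subgroup.zpowers x) = p := by rw [Nat.card_zpowers, hx]
  have hXp : IsPGroup p (Subgroup.zpowers x) := IsPGroup.of_card (n := 1) (by rw [hXc, pow_one])
  obtain ⟨P, hP⟩ := hXp.exists_le_sylow
  -- the Sylow subgroup is `zpowers x`
  have hPX : (P : Subgroup G) = Subgroup.zpowers x := by
    refine le_antisymm (fun w hw => ?_) hP
    have hxP : x ∈ (P : Subgroup G) := hP (Subgroup.mem_zpowers x)
    haveI : Nontrivial (P : Subgroup G) := ⟨⟨x, hxP⟩, 1, fun h => hx1 (congrArg Subtype.val h)⟩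
    haveI : Nontrivial (Subgroup.center (P : Subgroup G)) := P.2.center_nontrivial
    obtain ⟨z, hz⟩ := exists_ne (1 : Subgroup.center (P : Subgroup G))
    have hzc : ((z : (P : Subgroup G)) : G) ∈ Subgroup.centralizer ({x} : Set G) := by
      rw [Subgroup.mem_centralizer_singleton_iff]
      exact (congrArg Subtype.val (Subgroup.mem_center_iff.1 z.2 ⟨x, hxP⟩)).symm
    rw [hC] at hzc
    have hzX : Subgroup.zpowers ((z : (P : Subgroup G)) : G) = Subgroup.zpowers x := by
      refine Subgroup.eq_of_le_of_card_ge (Subgroup.zpowers_le.2 hzc) ?_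
      have hzo : orderOf ((z : (P : Subgroup G)) : G) = p := by
        refine (Nat.dvd_prime hp).1 ?_ |>.resolve_left (fun h => hz ?_)
        · have hd := orderOf_dvd_natCard (⟨_, hzc⟩ : Subgroup.zpowers x)
          rwa [Subgroup.orderOf_mk, hXc] at hd
        · exact Subtype.ext (Subtype.ext (orderOf_eq_one_iff.1 h))
      rw [Nat.card_zpowers, Nat.card_zpowers, hx, hzo]
    obtain ⟨k, hk⟩ : x ∈ Subgroup.zpowers ((z : (P : Subgroup G)) : G) :=
      hzX ▸ Subgroup.mem_zpowers x
    rw [← hC, Subgroup.mem_centralizer_singleton_iff]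
    have hzw : Commute w ((z : (P : Subgroup G)) : G) :=
      congrArg Subtype.val (Subgroup.mem_center_iff.1 z.2 ⟨w, hw⟩)
    simp only at hk
    rw [← hk]
    exact (hzw.zpow_right k).eq
  have hPc : Nat.card (P : Subgroup G) = p := by rw [hPX, hXc]
  set X := Subgroup.zpowers x with hXdef
  -- subgroups of order `p` are the Sylow subgroups
  let e : Sylow p G ≃ {H : Subgroup G // Nat.card H = p} :=
    { toFun := fun Q => ⟨Q, by
        obtain ⟨g, rfl⟩ := MulAction.exists_smul_eq G P Q
        exact (Nat.card_congr (Sylow.equiv (g • P) P).toEquiv).trans hPc⟩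
      invFun := fun H => Sylow.ofCard H.1 (by
        rw [← P.card_eq_multiplicity]; exact H.2.trans hPc.symm)
      left_inv := fun Q => Sylow.ext rfl
      right_inv := fun H => Subtype.ext rfl }
  have hNX : ∀ g : G, g ∈ Subgroup.normalizer (X : Set G) → g * x * g⁻¹ ∈ X :=
    fun g hg => (Subgroup.mem_normalizer_iff.1 hg x).1 (Subgroup.mem_zpowers x)
  constructor
  · intro hpS
    -- `x` lies in `S`, and Frattini
    obtain ⟨y, hy⟩ := exists_prime_orderOf_dvd_card' (G := S) p hpS
    have hyo : orderOf (y : G) = p := by rw [Subgroup.orderOf_coe, hy]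
    let Q : Sylow p G := e.symm ⟨Subgroup.zpowers (y : G), by rw [Nat.card_zpowers, hyo]⟩
    obtain ⟨g, hg⟩ := MulAction.exists_smul_eq G Q P
    have hxS : x ∈ S := by
      have : x ∈ ((g • Q : Sylow p G) : Subgroup G) := by rw [hg, hPX]; exact Subgroup.mem_zpowers x
      rw [Sylow.coe_subgroup_smul, Subgroup.mem_pointwise_smul_iff_inv_smul_mem] at this
      have h2 : (MulAut.conj g)⁻¹ • x ∈ S := (Subgroup.zpowers_le.2 y.2) this
      have := Subgroup.Normal.conj_mem ‹S.Normal› _ h2 g
      simpa [mul_assoc] using this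
    have hPS : (P : Subgroup G) ≤ S := by rw [hPX]; exact Subgroup.zpowers_le.2 hxS
    have hfr : Subgroup.normalizer ((P : Subgroup G) : Set G) ⊔ S = ⊤ :=
      Sylow.normalizer_sup_eq_top' P hPS
    rw [hPX] at hfr
    -- commutators of normalizing elements lie in `X`
    have hab : ∀ a ∈ Subgroup.normalizer (X : Set G), ∀ b ∈ Subgroup.normalizer (X : Set G),
        a * b * a⁻¹ * b⁻¹ ∈ S := by
      intro a ha b hb
      have hc : a * b * a⁻¹ * b⁻¹ ∈ Subgroup.centralizer ({x} : Set G) := by
        obtain ⟨i, hi⟩ := hNX a ha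
        obtain ⟨j, hj⟩ := hNX b hb
        obtain ⟨i', hi'⟩ := hNX a⁻¹ (inv_mem ha)
        obtain ⟨j', hj'⟩ := hNX b⁻¹ (inv_mem hb)
        simp only at hi hj hi' hj'
        have cz : ∀ (u : G) (k l : ℤ), u * x * u⁻¹ = x ^ k → u * x ^ l * u⁻¹ = x ^ (k * l) := by
          intro u k l h
          rw [← conj_zpow, h, ← zpow_mul]
        rw [inv_inv] at hi' hj'
        have e1 : b⁻¹ * x * b = x ^ j' := hj'.symm
        have t1 : a * b * a⁻¹ * b⁻¹ * x * (a * b * a⁻¹ * b⁻¹)⁻¹
            = x ^ (i * (j * (i' * j'))) := by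
          calc _ = a * (b * (a⁻¹ * (b⁻¹ * x * b) * a) * b⁻¹) * a⁻¹ := by group
            _ = a * (b * (x ^ (i' * j')) * b⁻¹) * a⁻¹ := by
              rw [e1]
              congr 4
              simpa using cz a⁻¹ i' j' (by simpa using hi'.symm)
            _ = a * (x ^ (j * (i' * j'))) * a⁻¹ := by rw [cz b j _ hj.symm]
            _ = _ := cz a i _ hi.symm
        have t2 : x ^ (i * (j * (i' * j'))) = x := by
          have h1 : x ^ (i * i') = x := by
            rw [← cz a i i' hi.symm]
            calc a * x ^ i' * a⁻¹ = a * (a⁻¹ * x * a) * a⁻¹ := by rw [hi']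
              _ = x := by group
          have h2 : x ^ (j * j') = x := by
            rw [← cz b j j' hj.symm]
            calc b * x ^ j' * b⁻¹ = b * (b⁻¹ * x * b) * b⁻¹ := by rw [hj']
              _ = x := by group
          rw [show i * (j * (i' * j')) = (i * i') * (j * j') by ring, zpow_mul, h1, h2]
        rw [Subgroup.mem_centralizer_singleton_iff]
        rw [← t1] at t2
        exact (mul_inv_eq_iff_eq_mul).1 t2
      rw [hC] at hc
      exact (Subgroup.zpowers_le.2 hxS) hc
    rw [commutator_def, Subgroup.commutator_le]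
    intro u _ v _
    obtain ⟨a, ha, s, hs, rfl⟩ : ∃ a ∈ Subgroup.normalizer (X : Set G), ∃ s ∈ S, a * s = u := by
      have : u ∈ ((Subgroup.normalizer (X : Set G) ⊔ S : Subgroup G) : Set G) := by rw [hfr]; trivial
      rw [Subgroup.mul_normal] at this
      exact this
    obtain ⟨b, hb, t, ht, rfl⟩ : ∃ b ∈ Subgroup.normalizer (X : Set G), ∃ t ∈ S, b * t = v := by
      have : v ∈ ((Subgroup.normalizer (X : Set G) ⊔ S : Subgroup G) : Set G) := by rw [hfr]; trivial
      rw [Subgroup.mul_normal] at this
      exact this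
    rw [← QuotientGroup.eq_one_iff, commutatorElement_def]
    have h0 := (QuotientGroup.eq_one_iff (N := S) _).2 (hab a ha b hb)
    simpa [(QuotientGroup.eq_one_iff (N := S) _).2 hs, (QuotientGroup.eq_one_iff (N := S) _).2 ht]
      using h0
  · intro hpS
    have hxS : x ∉ S := fun h => hpS (by
      rw [← hx, ← Subgroup.orderOf_mk _ h]; exact orderOf_dvd_natCard _)
    have hcop : (orderOf x).Coprime (Nat.card S) := by rw [hx]; exact hp.coprime_iff_not_dvd.2 hpS
    have hxn : x ∈ Subgroup.normalizer (S : Set G) := by rw [Subgroup.normalizer_eq_top]; trivial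
    have hdisj : ∀ c ∈ S, c ∈ X → c = 1 := fun c h1 h2 => orderOf_eq_one_iff.1
      (Nat.eq_one_of_dvd_coprimes hcop
        (by rw [← Nat.card_zpowers x, ← Subgroup.orderOf_mk _ h2]; exact orderOf_dvd_natCard _)
        (by rw [← Subgroup.orderOf_mk _ h1]; exact orderOf_dvd_natCard _))
    refine ⟨?_, ?_, ?_, ?_⟩
    · rw [← Nat.card_congr e, Sylow.card_eq_index_normalizer P]
      show Nat.card S ∣ (Subgroup.normalizer ((P : Subgroup G) : Set G)).index
      rw [hPX]
      have hinf : S ⊓ Subgroup.normalizer (X : Set G) = ⊥ := by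
        rw [Subgroup.eq_bot_iff_forall]
        rintro s ⟨hs, hsN⟩
        have h1 : s * x * s⁻¹ * x⁻¹ ∈ X := mul_mem (hNX s hsN) (inv_mem (Subgroup.mem_zpowers x))
        have h2 : s * x * s⁻¹ * x⁻¹ ∈ S := by
          rw [show s * x * s⁻¹ * x⁻¹ = s * (x * s⁻¹ * x⁻¹) by group]
          exact mul_mem hs (Subgroup.Normal.conj_mem ‹S.Normal› _ (inv_mem hs) x)
        have h3 := hdisj _ h2 h1
        have hsC : s ∈ Subgroup.centralizer ({x} : Set G) := by
          rw [Subgroup.mem_centralizer_singleton_iff]
          calc s * x = s * x * s⁻¹ * x⁻¹ * (x * s) := by group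
            _ = x * s := by rw [h3, one_mul]
        rw [hC] at hsC
        exact hdisj s hs hsC
      have h := Subgroup.relIndex_dvd_index_of_normal S (Subgroup.normalizer (X : Set G))
      have hcs : Nat.card S * Nat.card (Subgroup.normalizer (X : Set G)) ∣ Nat.card G := by
        have hn : Subgroup.normalizer (X : Set G) ≤ Subgroup.normalizer (S : Set G) := by
          rw [Subgroup.normalizer_eq_top S]; exact le_top
        have := Cfsg.Agent.Solv.card_sup_mul_card_inf' S (Subgroup.normalizer (X : Set G)) hn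
        rw [hinf, Subgroup.card_bot, mul_one] at this
        rw [← this]
        exact Subgroup.card_subgroup_dvd_card _
      have hcx := Subgroup.card_mul_index (Subgroup.normalizer (X : Set G))
      rw [← hcx, mul_comm] at hcs
      exact (Nat.mul_dvd_mul_iff_left Nat.card_pos).1 hcs
    · -- `X` acts on `S` with only one fixed point
      letI : MulAction X S :=
        { smul := fun u s => ⟨(u : G) * s * (u : G)⁻¹, Subgroup.Normal.conj_mem ‹S.Normal› _ s.2 u⟩
          one_smul := fun s => Subtype.ext (show ((1 : X) : G) * s * ((1 : X) : G)⁻¹ = s by simp)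
          mul_smul := fun u v s => Subtype.ext (show ((u * v : X) : G) * s * ((u * v : X) : G)⁻¹ =
            (u : G) * ((v : G) * s * (v : G)⁻¹) * (u : G)⁻¹ by simp [mul_assoc]) }
      have hfix : Nat.card (MulAction.fixedPoints X S) = 1 := by
        rw [Nat.card_eq_one_iff_unique]
        refine ⟨⟨fun a b => ?_⟩, ⟨1, fun u => Subtype.ext (show (u : G) * 1 * (u : G)⁻¹ = 1 by simp)⟩⟩
        have key : ∀ s : MulAction.fixedPoints X S, (s : S) = 1 := by
          intro s
          have h := congrArg Subtype.val (s.2 ⟨x, Subgroup.mem_zpowers x⟩)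
          have hsC : ((s : S) : G) ∈ Subgroup.centralizer ({x} : Set G) := by
            rw [Subgroup.mem_centralizer_singleton_iff]
            exact ((mul_inv_eq_iff_eq_mul).1 h).symm
          rw [hC] at hsC
          exact Subtype.ext (hdisj _ (s : S).2 hsC)
        exact Subtype.ext ((key a).trans (key b).symm)
      have h := hXp.card_modEq_card_fixedPoints S
      rw [hfix] at h
      rw [h, Nat.mod_eq_of_lt hp.one_lt]
    · refine orderOf_eq_prime ?_ (fun h => hxS ((QuotientGroup.eq_one_iff x).1 h))
      rw [← QuotientGroup.mk_pow, ← hx, pow_orderOf_eq_one, QuotientGroup.mk_one]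
    · refine le_antisymm (fun q hq => ?_) (by
        rw [Subgroup.zpowers_le, Subgroup.mem_centralizer_singleton_iff])
      obtain ⟨g, rfl⟩ := QuotientGroup.mk_surjective q
      rw [Subgroup.mem_centralizer_singleton_iff] at hq
      have hh : g * x * g⁻¹ * x⁻¹ ∈ S := by
        rw [← QuotientGroup.eq_one_iff, QuotientGroup.mk_mul, QuotientGroup.mk_mul,
          QuotientGroup.mk_mul, hq, QuotientGroup.mk_inv, QuotientGroup.mk_inv]
        group
      obtain ⟨y, hy, c, hc, hcx, he⟩ := Cfsg.Agent.S1496.result S x hxn hcop _ hh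
      have hc1 : c = 1 := hdisj c hc (by
        rw [← hC, Subgroup.mem_centralizer_singleton_iff]; exact hcx)
      rw [hc1, one_mul] at he
      have hyg : y * g ∈ Subgroup.centralizer ({x} : Set G) := by
        rw [Subgroup.mem_centralizer_singleton_iff]
        calc y * g * x = y * (g * x * g⁻¹ * x⁻¹ * x) * y⁻¹ * (y * g) := by group
          _ = x * (y * g) := by rw [he]
      rw [hC] at hyg
      obtain ⟨k, hk⟩ := hyg
      refine ⟨k, ?_⟩
      simp only at hk ⊢
      rw [← QuotientGroup.mk_zpow, hk, QuotientGroup.mk_mul, (QuotientGroup.eq_one_iff y).2 hy,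
        one_mul]

end Cfsg.Agent.S4496
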