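import Cfsg.Statements.S4497
import Cfsg.Agent.Lib.Char.SelfCentralizing
import Cfsg.Agent.Lib.Fusion.Cores
import Cfsg.Agent.Lib.Solv.Cores
import Cfsg.Agent.S4496

set_option autoImplicit false
open Cfsg Cfsg.Agent.Char
open scoped Pointwise
open scoped ComplexConjugate

namespace Cfsg.Agent.S4497

/-- Let the finite group G contain an element x of prime order p with C_G(x) = ⟨x⟩, let t be the number of conjugacy classes of elements of order p, and let S* = O_{p′}(G) be the largest normal subgroup of order prime to p. Then S* ≤ G′; if t ≠ p − 1 the quotient G′/S* is simple (in particular non-trivial); if t = p − 1 then G′ = S*. -/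
theorem result {G : Type*} [Group G] [Finite G] (p : ℕ) (hp : p.Prime) (x : G) (hx : orderOf x = p) (hC : Subgroup.centralizer ({x} : Set G) = Subgroup.zpowers x) (t : ℕ) (ht : Nat.card {C : ConjClasses G // ∃ g ∈ C.carrier, orderOf g = p} = t) : Cfsg.pPrimeCore p G ≤ commutator G ∧ (t ≠ p - 1 → ∀ h : ((Cfsg.pPrimeCore p G).subgroupOf (commutator G)).Normal, IsSimpleGroup (↥(commutator G) ⧸ (Cfsg.pPrimeCore p G).subgroupOf (commutator G))) ∧ (t = p - 1 → commutator G = Cfsg.pPrimeCore p G) := by
  haveI : Fact p.Prime := ⟨hp⟩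
  classical
  have hcount := SelfCent.count_classes hx hC
  rw [ht] at hcount
  haveI hKn : (pPrimeCore p G).Normal := Cfsg.Agent.Solv.pPrimeCore_normal p
  have hKp : ¬ p ∣ Nat.card (pPrimeCore p G) := fun h => hp.ne_one
    (Nat.eq_one_of_dvd_coprimes (Cfsg.Agent.Fusion.card_pPrimeCore_coprime p G) h dvd_rfl)
  have hKle := SelfCent.le_commutator_of_coprime hx hC _ hKp
  refine ⟨hKle, fun hne h => ?_, fun he => ?_⟩
  swap
  · have he1 : (Subgroup.zpowers x).relIndex (Subgroup.normalizer (Subgroup.zpowers x : Set G)) = 1 := by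
      rw [he] at hcount
      exact Nat.eq_of_mul_eq_mul_left (by have := hp.two_le; omega) (hcount.trans (mul_one _).symm)
    exact le_antisymm (Cfsg.Agent.Fusion.le_pPrimeCore
      (Nat.coprime_comm.1 (hp.coprime_iff_not_dvd.2 (SelfCent.exists_complement hx hC he1).2))) hKle
  have he1 : (Subgroup.zpowers x).relIndex (Subgroup.normalizer (Subgroup.zpowers x : Set G)) ≠ 1 :=
    fun h => hne (by rw [h, mul_one] at hcount; exact hcount)
  have hxc := SelfCent.mem_commutator hx hC he1
  obtain ⟨P, hP⟩ := SelfCent.exists_sylow hx hC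
  have hxK : x ∉ pPrimeCore p G := fun h' => hKp (by
    have := orderOf_dvd_natCard (⟨x, h'⟩ : pPrimeCore p G)
    rwa [Subgroup.orderOf_mk, hx] at this)
  haveI := h
  set H := commutator G with hH
  set K' := (pPrimeCore p G).subgroupOf H with hK'
  haveI : Nontrivial (↥H ⧸ K') := ⟨⟨QuotientGroup.mk ⟨x, hxc⟩, 1, fun e => hxK
    (Subgroup.mem_subgroupOf.1 ((QuotientGroup.eq_one_iff (N := K') _).1 e))⟩⟩
  refine { eq_bot_or_eq_top_of_normal := fun L hL => ?_ }
  set L' := L.comap (QuotientGroup.mk' K') with hL'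
  haveI : L'.Normal := hL.comap _
  have hKL : K' ≤ L' := fun w hw => by
    rw [hL', Subgroup.mem_comap, QuotientGroup.mk'_apply, (QuotientGroup.eq_one_iff w).2 hw]
    exact one_mem _
  by_cases hdiv : p ∣ Nat.card L'
  · right
    -- `x` lies in `L'`
    have hmemL : ∀ y : H, orderOf (y : G) = p → y ∈ L' := by
      intro y hy
      obtain ⟨z, hz⟩ := exists_prime_orderOf_dvd_card' (G := L') p hdiv
      have hzo : orderOf ((z : H) : G) = p := by
        rw [Subgroup.orderOf_coe, Subgroup.orderOf_coe, hz]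
      have hPm : (Nat.card G).factorization p = 1 := Nat.pow_right_injective hp.two_le (by
        show p ^ _ = p ^ 1
        rw [← P.card_eq_multiplicity, pow_one]
        exact (congrArg (fun S : Subgroup G => Nat.card S) hP).trans (SelfCent.card_zp hx))
      have hH1 : (Nat.card H).factorization p = 1 := by
        refine le_antisymm ?_ ?_
        · rw [← hPm]
          exact ((Nat.factorization_le_iff_dvd Nat.card_pos.ne' Nat.card_pos.ne').2
            (Subgroup.card_subgroup_dvd_card H)) p
        · refine (hp.dvd_iff_one_le_factorization Nat.card_pos.ne').1 ?_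
          rw [← hzo, Subgroup.orderOf_coe]
          exact orderOf_dvd_natCard _
      have hsylow : ∀ w : H, orderOf w = p → ∃ S : Sylow p H, (S : Subgroup H) = Subgroup.zpowers w :=
        fun w hw => ⟨Sylow.ofCard (Subgroup.zpowers w) (by rw [Nat.card_zpowers, hw, hH1, pow_one]), rfl⟩
      obtain ⟨S₁, hS₁⟩ := hsylow (z : H) (by rw [Subgroup.orderOf_coe, hz])
      obtain ⟨S₂, hS₂⟩ := hsylow y (by rwa [Subgroup.orderOf_coe] at hy)
      obtain ⟨g, hg⟩ := MulAction.exists_smul_eq H S₁ S₂
      have hym : y ∈ ((g • S₁ : Sylow p H) : Subgroup H) := by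
        rw [hg, hS₂]; exact Subgroup.mem_zpowers y
      rw [Sylow.coe_subgroup_smul, hS₁, Subgroup.mem_pointwise_smul_iff_inv_smul_mem] at hym
      have h2 : (MulAut.conj g)⁻¹ • y ∈ L' := (Subgroup.zpowers_le.2 z.2) hym
      have := Subgroup.Normal.conj_mem ‹L'.Normal› _ h2 g
      simpa [mul_assoc] using this
    -- the largest normal subgroup of `G` inside `L'`
    let M : Subgroup G := (L'.map H.subtype).normalCore
    have hxM : x ∈ M := fun b => by
      refine Subgroup.mem_map.2 ⟨⟨b * x * b⁻¹, Subgroup.Normal.conj_mem inferInstance x hxc b⟩, ?_, rfl⟩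
      refine hmemL _ ?_
      show orderOf (b * x * b⁻¹) = p
      rw [← hx]
      exact MulEquiv.orderOf_eq (MulAut.conj b) x
    have hpM : p ∣ Nat.card M := by
      have := orderOf_dvd_natCard (⟨x, hxM⟩ : M)
      rwa [Subgroup.orderOf_mk, hx] at this
    have hle : H ≤ L'.map H.subtype :=
      ((Cfsg.Agent.S4496.result p hp x hx hC M).1 hpM).trans (Subgroup.normalCore_le _)
    refine Subgroup.comap_injective (QuotientGroup.mk'_surjective K') ?_
    rw [Subgroup.comap_top, ← hL']
    refine top_unique fun w _ => ?_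
    obtain ⟨v, hv, hvw⟩ := Subgroup.mem_map.1 (hle w.2)
    rwa [← Subtype.ext (show (v : G) = (w : G) from hvw)]
  · left
    haveI : (pPrimeCore p H).Normal := Cfsg.Agent.Solv.pPrimeCore_normal p
    have hL'le : L' ≤ pPrimeCore p H :=
      Cfsg.Agent.Fusion.le_pPrimeCore (Nat.coprime_comm.1 (hp.coprime_iff_not_dvd.2 hdiv))
    haveI : ((pPrimeCore p H).map H.subtype).Normal := ⟨fun n hn g => by
      obtain ⟨w, hw, rfl⟩ := Subgroup.mem_map.1 hn
      refine Subgroup.mem_map.2 ⟨MulAut.conjNormal g w, ?_, by simp [MulAut.conjNormal_apply]⟩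
      exact Cfsg.Agent.Fusion.map_pPrimeCore_le (MulAut.conjNormal g : MulAut H)
        (Subgroup.mem_map_of_mem _ hw)⟩
    have hle : (pPrimeCore p H).map H.subtype ≤ pPrimeCore p G := Cfsg.Agent.Fusion.le_pPrimeCore (by
      rw [Subgroup.card_map_of_injective H.subtype_injective]
      exact Cfsg.Agent.Fusion.card_pPrimeCore_coprime p H)
    refine Subgroup.comap_injective (QuotientGroup.mk'_surjective K') ?_
    rw [MonoidHom.comap_bot, QuotientGroup.ker_mk', ← hL']
    refine le_antisymm (fun w hw => ?_) hKL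
    exact hle (Subgroup.mem_map_of_mem _ (hL'le hw))

end Cfsg.Agent.S4497
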