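import Cfsg.Statements.S4499
import Cfsg.Agent.Lib.Char.Height

set_option autoImplicit false
open Cfsg
open scoped ComplexConjugate

namespace Cfsg.Agent.S4499

/-- Let G be a finite group whose order has p-part p^a (a ≥ 1), and fix a maximal ideal M of the algebraic integers containing p. If the degree of one irreducible character of a p-block B is divisible by p^(a−1), then the degree of every irreducible character in B is divisible by p^(a−1) (so B has defect at most 1). -/
theorem result {G : Type*} [Group G] [Finite G] (p : ℕ) [Fact p.Prime] (M : Ideal Cfsg.AlgInt) (hM : Cfsg.IsPModular p M) (hpa : p ∣ Nat.card G) (B : Set (Cfsg.IrrCharacter G)) (hB : Cfsg.IsPBlock M B) (χ : Cfsg.IrrCharacter G) (hχ : χ ∈ B) (hdiv : p ^ ((Nat.card G).factorization p - 1) ∣ Cfsg.charDegree (χ : G → ℂ)) (ψ : Cfsg.IrrCharacter G) (hψ : ψ ∈ B) : p ^ ((Nat.card G).factorization p - 1) ∣ Cfsg.charDegree (ψ : G → ℂ) := by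
  classical
  have := Fintype.ofFinite G
  have hp := hM.1
  have h1 := (hp.pow_dvd_iff_le_factorization (Cfsg.Agent.Char.deg_pos χ.2).ne').mp hdiv
  change _ ≤ Cfsg.Agent.Char.dexp p (χ : G → ℂ) at h1
  refine (hp.pow_dvd_iff_le_factorization (Cfsg.Agent.Char.deg_pos ψ.2).ne').mpr ?_
  have h3 := Cfsg.Agent.Char.dmin_le (p := p) hψ
  refine le_trans ?_ h3
  have hsum := Cfsg.Agent.Char.dmin_add_defect (p := p)
    (Cfsg.Agent.Char.block_nonempty (Cfsg.Agent.Char.pmod_prime hM) hB)
  have h4 := Cfsg.Agent.Char.dexp_eq_height_add (p := p) hχ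
  by_cases hne : Cfsg.blockHeight p B (χ : G → ℂ) = 0
  · omega
  · have := Cfsg.Agent.Char.height_add_two_le hM hB hχ hne
    omega

end Cfsg.Agent.S4499
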