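import Cfsg.Statements.S4501
import Cfsg.Agent.Lib.Solv.DegreeThree
import Cfsg.Agent.Lib.Char.FourOrder
import Cfsg.Agent.Lib.Char.ThreePrimeCentral
import Cfsg.Agent.S0948
import Cfsg.Agent.S0992
import Cfsg.Agent.S3331
import Cfsg.Agent.Lib.Classical.Dickson.Tools

set_option autoImplicit false
open Cfsg Cfsg.Agent

namespace Cfsg.Agent.S4501

universe u

variable {G : Type u} [Group G] [Finite G] [IsSimpleGroup G]

theorem not_two_primes (hnc : ¬ ∀ x y : G, x * y = y * x) {p q : ℕ} (hp : p.Prime) (hq : q.Prime)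
    (h : ∀ s : ℕ, s.Prime → s ∣ Nat.card G → s = p ∨ s = q) : False :=
  hnc (IsSimpleGroup.comm_iff_isSolvable.mpr (Char.isSolvable_of_two_primes hp hq _ rfl h))

/-- Three occurs once: one of the two small groups. -/
theorem of_three (hnc : ¬ ∀ x y : G, x * y = y * x) {p q a b : ℕ} (hp : p.Prime) (hq : q.Prime) (hp3 : p ≠ 3)
    (hq3 : q ≠ 3) (hG : Nat.card G = p ^ a * q ^ b * 3) :
    Nonempty (G ≃* alternatingGroup (Fin 5)) ∨ Nonempty (G ≃* Matrix.ProjectiveSpecialLinearGroup (Fin 2) (ZMod 7)) := by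
  haveI := Fact.mk Nat.prime_three
  obtain ⟨S⟩ := (inferInstance : Nonempty (Sylow 3 G))
  have hS : Nat.card (S : Subgroup G) = 3 := by
    rw [Sylow.card_eq_multiplicity, hG, Nat.factorization_mul (mul_ne_zero (pow_ne_zero _ hp.ne_zero)
      (pow_ne_zero _ hq.ne_zero)) (by norm_num), Nat.factorization_mul (pow_ne_zero _ hp.ne_zero)
      (pow_ne_zero _ hq.ne_zero), Nat.Prime.factorization_pow hp, Nat.Prime.factorization_pow hq,
      Nat.prime_three.factorization]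
    simp [hp3, hq3]
  have hC := Char.ThreePrimeCentral.centralizer_eq hp hq hp3 hq3 hG S
  have hns : ¬ Group.IsSolvable G := fun h => hnc (IsSimpleGroup.comm_iff_isSolvable.mpr h)
  rcases S3331.result (S : Subgroup G) hS hC with ⟨N, hN, hnil, -, hq⟩ | ⟨N, hN, hab, -, ⟨e⟩⟩ | h
  · rcases hN.eq_bot_or_eq_top with rfl | rfl
    · exfalso
      rw [Nat.card_congr (QuotientGroup.quotientBot (G := G)).toEquiv] at hq
      refine not_two_primes hnc Nat.prime_two Nat.prime_three fun s hs hd => ?_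
      rcases hq with hq | ⟨⟨e⟩⟩
      · rw [hq] at hd; exact Or.inr ((Nat.prime_dvd_prime_iff_eq hs Nat.prime_three).mp hd)
      · rw [Nat.card_congr ((QuotientGroup.quotientBot (G := G)).symm.trans e).toEquiv, Nat.card_perm,
          Nat.card_fin, show Nat.factorial 3 = 2 * 3 from rfl, hs.dvd_mul] at hd
        rcases hd with hd | hd
        · exact Or.inl ((Nat.prime_dvd_prime_iff_eq hs Nat.prime_two).mp hd)
        · exact Or.inr ((Nat.prime_dvd_prime_iff_eq hs Nat.prime_three).mp hd)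
    · refine absurd ?_ hns
      haveI : Group.IsNilpotent ↥(⊤ : Subgroup G) := hnil
      exact IsNilpotent.to_isSolvable (h := Group.nilpotent_of_mulEquiv Subgroup.topEquiv)
  · rcases hN.eq_bot_or_eq_top with rfl | rfl
    · exact Or.inl ⟨(QuotientGroup.quotientBot (G := G)).symm.trans e⟩
    · exact absurd (fun x y : G => congrArg Subtype.val
        (hab.is_comm.comm (⟨x, Subgroup.mem_top x⟩ : (⊤ : Subgroup G)) ⟨y, Subgroup.mem_top y⟩)) hnc
  · exact Or.inr h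

/-- The degree and sign analysis. -/
theorem shape {r n t u s : ℕ} (hr : r.Prime) (hr5 : 5 ≤ r) {e : ℤ} (he : e = 1 ∨ e = -1)
    (hx : 1 < 3 ^ n * r ^ t) (h : ((3 ^ n * r ^ t : ℕ) : ℤ) + e = 2 * ((3 ^ u * r ^ s : ℕ) : ℤ)) :
    3 ^ n * r ^ t = 3 ∨ ((3 : ℤ) ∣ e * (3 ^ n * r ^ t : ℕ) ∧ (r : ℤ) ∣ e * (3 ^ n * r ^ t : ℕ) + 1) ∨
      ((r : ℤ) ∣ e * (3 ^ n * r ^ t : ℕ) ∧ (3 : ℤ) ∣ e * (3 ^ n * r ^ t : ℕ) + 1) := by
  set x := 3 ^ n * r ^ t with hxdef
  have hmul : e * (x : ℤ) + 1 = e * (2 * ((3 ^ u * r ^ s : ℕ) : ℤ)) := by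
    rcases he with rfl | rfl <;> linarith
  -- a prime dividing `x` does not divide the half
  have hcop : ∀ l : ℕ, 1 < l → l ∣ x → ¬ l ∣ 3 ^ u * r ^ s := by
    intro l hl h1 h2
    have h1' : (l : ℤ) ∣ (x : ℤ) := Int.natCast_dvd_natCast.mpr h1
    have h2' : (l : ℤ) ∣ ((3 ^ u * r ^ s : ℕ) : ℤ) := Int.natCast_dvd_natCast.mpr h2
    have h3 : (l : ℤ) ∣ e := by
      rw [show e = 2 * ((3 ^ u * r ^ s : ℕ) : ℤ) - (x : ℤ) by linarith]
      exact dvd_sub (dvd_mul_of_dvd_right h2' _) h1'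
    have h4 : (l : ℤ) ∣ 1 := by rcases he with rfl | rfl <;> simpa using h3
    have := Int.le_of_dvd one_pos h4
    omega
  have hsmall : 3 ^ u * r ^ s = 1 → x = 3 := by
    intro h1
    rw [h1] at h
    rcases he with rfl | rfl <;> omega
  have hodd : (r : ℤ) ≠ 3 := by omega
  rcases Nat.eq_zero_or_pos n with hn | hn
  · right; right
    have ht : t ≠ 0 := fun h0 => by rw [hxdef, hn, h0] at hx; simp at hx
    have hrx : r ∣ x := dvd_mul_of_dvd_right (dvd_pow_self r ht) _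
    have hs : s = 0 := by
      by_contra hs
      exact hcop r hr.one_lt hrx (dvd_mul_of_dvd_right (dvd_pow_self r hs) _)
    refine ⟨dvd_mul_of_dvd_right (Int.natCast_dvd_natCast.mpr hrx) _, ?_⟩
    rw [hmul]
    have hu : u ≠ 0 := fun hu => by
      have := hsmall (by rw [hs, hu]; simp)
      have := Nat.le_of_dvd (by omega) hrx
      omega
    exact dvd_mul_of_dvd_right (dvd_mul_of_dvd_right
      (Int.natCast_dvd_natCast.mpr (dvd_mul_of_dvd_left (dvd_pow_self 3 hu) _)) _) _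
  · have h3x : 3 ∣ x := dvd_mul_of_dvd_left (dvd_pow_self 3 hn.ne') _
    have hu : u = 0 := by
      by_contra hu
      exact hcop 3 (by norm_num) h3x (dvd_mul_of_dvd_left (dvd_pow_self 3 hu) _)
    rcases Nat.eq_zero_or_pos s with hs | hs
    · left; exact hsmall (by rw [hs, hu]; simp)
    · right; left
      refine ⟨dvd_mul_of_dvd_right (Int.natCast_dvd_natCast.mpr h3x) _, ?_⟩
      rw [hmul]
      exact dvd_mul_of_dvd_right (dvd_mul_of_dvd_right
        (Int.natCast_dvd_natCast.mpr (dvd_mul_of_dvd_right (dvd_pow_self r hs.ne') _)) _) _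

/-- The elementary number theory of the three degrees. -/
theorem three_mem {r : ℕ} (hr : r.Prime) (hr5 : 5 ≤ r) {y₁ y₂ y₃ : ℤ}
    (h : ∀ y ∈ [y₁, y₂, y₃], ((3 : ℤ) ∣ y ∧ (r : ℤ) ∣ y + 1) ∨ ((r : ℤ) ∣ y ∧ (3 : ℤ) ∣ y + 1))
    (hsum : 1 + y₁ + y₂ + y₃ = 0) : False := by
  have hr3 : ∀ z : ℤ, z.natAbs < r → z ≠ 0 → ¬ (r : ℤ) ∣ z := fun z h1 h2 h3 => by
    have := Nat.le_of_dvd (Int.natAbs_pos.mpr h2) (Int.natCast_dvd.mp h3)
    omega
  rcases h y₁ (by simp) with ⟨⟨a1, c1⟩, ⟨a2, c2⟩⟩ | ⟨⟨a1, c1⟩, ⟨a2, c2⟩⟩ <;>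
    rcases h y₂ (by simp) with ⟨⟨b1, d1⟩, ⟨b2, d2⟩⟩ | ⟨⟨b1, d1⟩, ⟨b2, d2⟩⟩ <;>
    rcases h y₃ (by simp) with ⟨⟨e1, f1⟩, ⟨e2, f2⟩⟩ | ⟨⟨e1, f1⟩, ⟨e2, f2⟩⟩
  · omega
  · exact hr3 1 (by norm_num; omega) one_ne_zero ⟨a2 + b2 + e1, by linarith⟩
  · exact hr3 1 (by norm_num; omega) one_ne_zero ⟨a2 + b1 + e2, by linarith⟩
  · omega
  · exact hr3 1 (by norm_num; omega) one_ne_zero ⟨a1 + b2 + e2, by linarith⟩
  · omega
  · omega
  · omega

/-- A faithful character of degree three, in the case of a Sylow four-group. -/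
theorem exists_three (hnc : ¬ ∀ x y : G, x * y = y * x) {r i j : ℕ} (hr : r.Prime) (hr5 : 5 ≤ r)
    (hG : Nat.card G = 4 * (3 ^ i * r ^ j)) :
    ∃ χ : IrrCharacter G, (χ : G → ℂ) ≠ (fun _ => 1) ∧ charDegree (χ : G → ℂ) = 3 := by
  classical
  haveI := Fintype.ofFinite G
  haveI : Fact (Nat.Prime 2) := ⟨Nat.prime_two⟩
  have hrodd : Odd r := hr.odd_of_ne_two (by omega)
  set g₀ := 3 ^ i * r ^ j with hg₀def
  have hg₀ : Odd g₀ := ((show Odd 3 by decide).pow).mul hrodd.pow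
  have hg0pos : 0 < g₀ := hg₀.pos
  have h4 : Even (Nat.card G) := by rw [hG]; exact (show Even 4 by decide).mul_right _
  have h8 : ¬ 8 ∣ Nat.card G := by
    rw [hG]; intro h
    obtain ⟨c, hc⟩ := h
    obtain ⟨k, hk⟩ := hg₀
    omega
  obtain ⟨P⟩ := (inferInstance : Nonempty (Sylow 2 G))
  have hna : ¬ IsMulCommutative G := fun h => hnc fun x y => h.is_comm.comm x y
  obtain ⟨hK, -⟩ := S0992.result hna h4 h8 P
  have hnoc : ¬ ∃ N : Subgroup G, N.Normal ∧ Nat.card N = g₀ := by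
    rintro ⟨N, hN, hc⟩
    rcases hN.eq_bot_or_eq_top with rfl | rfl
    · rw [Subgroup.card_bot] at hc
      refine not_two_primes hnc Nat.prime_two Nat.prime_two fun s hs hd => ?_
      rw [hG, ← hc, mul_one, show 4 = 2 * 2 from rfl, hs.dvd_mul, or_self] at hd
      exact Or.inl ((Nat.prime_dvd_prime_iff_eq hs Nat.prime_two).mp hd)
    · rw [Subgroup.card_top, hG] at hc; omega
  obtain ⟨hP4, hexp, hone⟩ := Char.four_sylow_setup hg₀ hG hnoc P
  obtain ⟨M, hM⟩ := Char.exists_pModular Nat.prime_two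
  obtain ⟨ζ₂, ζ₃, ζ₄, e, he, h21, h31, h23, h24, h34, hB, hval, hm2, hm3, hm4, -⟩ :=
    S0948.result M hM P hK hone
  obtain ⟨⟨J, hJP⟩, hJ⟩ := exists_prime_orderOf_dvd_card' (G := (P : Subgroup G)) 2 (by rw [hP4]; norm_num)
  rw [Subgroup.orderOf_mk] at hJ
  obtain ⟨v2, v3, v4⟩ := hval J hJ
  have h41 : (ζ₄ : G → ℂ) ≠ fun _ => 1 := fun h => by
    rw [h] at v4; norm_num at v4
  obtain ⟨hdeg, hcount, -⟩ := Char.four_equations hM P hP4 hexp hone hJP hJ (ε₁ := 1) (ε₂ := e) (ε₃ := -1)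
    hB ⟨h21, h31, h41, h23, h24, h34⟩ ⟨Or.inl rfl, he, Or.inr rfl⟩ ⟨by simpa using v2, v3, by simpa using v4⟩
  set x₁ := charDegree (ζ₂ : G → ℂ) with hx1
  set x₂ := charDegree (ζ₃ : G → ℂ) with hx2
  set x₃ := charDegree (ζ₄ : G → ℂ) with hx3
  -- degrees
  have hdvd : ∀ χ : IrrCharacter G, (charDegree (χ : G → ℂ)) ∣ Nat.card G := fun χ => by
    rw [Char.charDegree_eq_deg]; exact Char.deg_dvd_card χ.2
  have hsplit : ∀ d : ℕ, d ∣ g₀ → ∃ n t, d = 3 ^ n * r ^ t := by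
    intro d hd
    obtain ⟨d1, d2, h1, h2, rfl⟩ := Nat.dvd_mul.mp hd
    obtain ⟨n, -, rfl⟩ := (Nat.dvd_prime_pow Nat.prime_three).mp h1
    obtain ⟨t, -, rfl⟩ := (Nat.dvd_prime_pow hr).mp h2
    exact ⟨n, t, rfl⟩
  have hodd2 : ∀ (d : ℕ) (σ : ℤ), (σ = 1 ∨ σ = -1) → (4 : ℤ) ∣ (d : ℤ) - σ → d % 2 = 1 := fun d σ hσ hd => by
    rcases hσ with rfl | rfl <;> omega
  have hxo : ∀ d : ℕ, d % 2 = 1 → d ∣ Nat.card G → d ∣ g₀ := fun d hd hdG => by
    rw [hG, show 4 = 2 ^ 2 from rfl] at hdG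
    exact (((Nat.prime_two.coprime_iff_not_dvd).mpr (by omega)).symm.pow_right 2).dvd_of_dvd_mul_left hdG
  have hlin : ∀ χ : IrrCharacter G, (χ : G → ℂ) ≠ (fun _ => 1) → charDegree (χ : G → ℂ) ≠ 1 := by
    intro χ hχ h1
    obtain ⟨m, hm⟩ := Char.exists_hom_of_degree_one (Char.irr_isCharacter χ.2)
      (by rw [Char.char_one_eq_deg (Char.irr_isCharacter χ.2), ← Char.charDegree_eq_deg, h1, Nat.cast_one])
    refine hχ (funext fun g => ?_)
    rcases (inferInstance : m.ker.Normal).eq_bot_or_eq_top with h | h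
    · refine absurd (fun x y => (MonoidHom.ker_eq_bot_iff m).mp h ?_) hnc
      rw [map_mul, map_mul, mul_comm]
    · rw [hm]
      simp [MonoidHom.mem_ker.mp (h ▸ Subgroup.mem_top g : g ∈ m.ker)]
  have h1o := hodd2 x₁ 1 (Or.inl rfl) hm2
  have h2o := hodd2 x₂ e he hm3
  have h3o := hodd2 x₃ (-1) (Or.inr rfl) (by rwa [sub_neg_eq_add])
  obtain ⟨n₁, t₁, e₁⟩ := hsplit x₁ (hxo _ h1o (hdvd ζ₂))
  obtain ⟨n₂, t₂, e₂⟩ := hsplit x₂ (hxo _ h2o (hdvd ζ₃))
  obtain ⟨n₃, t₃, e₃⟩ := hsplit x₃ (hxo _ h3o (hdvd ζ₄))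
  have hx11 : x₁ ≠ 1 := hlin ζ₂ h21
  have hx21 : x₂ ≠ 1 := hlin ζ₃ h31
  have hx31 : x₃ ≠ 1 := hlin ζ₄ h41
  -- the halves
  obtain ⟨k₁, hk₁⟩ : (2 : ℤ) ∣ (x₁ : ℤ) + 1 := by omega
  obtain ⟨k₂, hk₂⟩ : (2 : ℤ) ∣ (x₂ : ℤ) + e := by rcases he with rfl | rfl <;> omega
  obtain ⟨k₃, hk₃⟩ : (2 : ℤ) ∣ (x₃ : ℤ) + -1 := by omega
  have hk1p : 0 < k₁ := by omega
  have hk2p : 0 < k₂ := by rcases he with rfl | rfl <;> omega
  have hk3p : 0 < k₃ := by omega
  -- the centralizers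
  haveI : IsMulCommutative (P : Subgroup G) := ⟨⟨fun a b => by
    have ha := hexp a; have hb := hexp b; have hab := hexp (a * b)
    calc a * b = (a * b)⁻¹ := eq_inv_of_mul_eq_one_left hab
      _ = b⁻¹ * a⁻¹ := mul_inv_rev a b
      _ = b * a := by rw [inv_eq_of_mul_eq_one_right ha, inv_eq_of_mul_eq_one_right hb]⟩⟩
  have hPC : (P : Subgroup G) ≤ Subgroup.centralizer ((P : Subgroup G) : Set G) :=
    Subgroup.le_centralizer (P : Subgroup G)
  have hPJ : (P : Subgroup G) ≤ Subgroup.centralizer ({J} : Set G) :=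
    hPC.trans (Subgroup.centralizer_le (Set.singleton_subset_iff.mpr hJP))
  obtain ⟨w, hw⟩ : 4 ∣ Nat.card (Subgroup.centralizer ((P : Subgroup G) : Set G)) :=
    hP4 ▸ Subgroup.card_dvd_of_le hPC
  obtain ⟨v, hv⟩ : 4 ∣ Nat.card (Subgroup.centralizer ({J} : Set G)) :=
    hP4 ▸ Subgroup.card_dvd_of_le hPJ
  have hvg : v ∣ g₀ := by
    have h := Subgroup.card_subgroup_dvd_card (Subgroup.centralizer ({J} : Set G))
    rw [hv, hG] at h
    exact Nat.dvd_of_mul_dvd_mul_left (by norm_num) h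
  have hq1 : (x₁ : ℚ) ≠ 0 := by
    have : x₁ ≠ 0 := by omega
    exact_mod_cast this
  have hq2 : (x₂ : ℚ) ≠ 0 := by
    have : x₂ ≠ 0 := by omega
    exact_mod_cast this
  have hq3 : (x₃ : ℚ) ≠ 0 := by
    have : x₃ ≠ 0 := by omega
    exact_mod_cast this
  have hkey : (g₀ : ℤ) * k₁ * k₂ * k₃ * (w : ℤ) ^ 2 = (x₁ : ℤ) * x₂ * x₃ * (v : ℤ) ^ 3 := by
    have he2 : (e : ℚ) * e = 1 := by rcases he with rfl | rfl <;> norm_num
    have hdegQ : (1 : ℚ) + (x₁ : ℚ) + e * (x₂ : ℚ) - (x₃ : ℚ) = 0 := by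
      have h : ((1 + 1 * (x₁ : ℤ) + e * x₂ + -1 * x₃ : ℤ) : ℚ) = 0 := by rw [hdeg]; norm_num
      push_cast at h
      linarith
    have hid : ((x₁ : ℚ) + 1) * ((x₂ : ℚ) + e) * ((x₃ : ℚ) - 1) =
        (x₁ : ℚ) * x₂ * x₃ * (1 + 1 / (x₁ : ℚ) + (e : ℚ) / x₂ + -1 / (x₃ : ℚ)) := by
      field_simp
      linear_combination (-(e : ℚ)) * hdegQ + (x₂ : ℚ) * he2
    have h := hcount
    rw [hv, hw, hG] at h
    push_cast at h
    have hk1' : (x₁ : ℚ) + 1 = 2 * (k₁ : ℚ) := by exact_mod_cast hk₁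
    have hk2' : (x₂ : ℚ) + e = 2 * (k₂ : ℚ) := by exact_mod_cast hk₂
    have hk3' : (x₃ : ℚ) - 1 = 2 * (k₃ : ℚ) := by
      have : (x₃ : ℤ) - 1 = 2 * k₃ := by omega
      exact_mod_cast this
    rw [hk1', hk2', hk3'] at hid
    have h2 : ((g₀ : ℚ) * k₁ * k₂ * k₃ * (w : ℚ) ^ 2) * 512 = ((x₁ : ℚ) * x₂ * x₃ * (v : ℚ) ^ 3) * 512 := by
      linear_combination (x₁ : ℚ) * x₂ * x₃ * h + 4 * (g₀ : ℚ) * (4 * (w : ℚ)) ^ 2 * hid
    exact_mod_cast mul_right_cancel₀ (by norm_num : (512 : ℚ) ≠ 0) h2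
  lift k₁ to ℕ using hk1p.le
  lift k₂ to ℕ using hk2p.le
  lift k₃ to ℕ using hk3p.le
  have hkey' : g₀ * k₁ * k₂ * k₃ * w ^ 2 = x₁ * x₂ * x₃ * v ^ 3 := by exact_mod_cast hkey
  have hR : x₁ * x₂ * x₃ * v ^ 3 ∣ g₀ ^ 6 := by
    rw [show g₀ ^ 6 = g₀ * g₀ * g₀ * g₀ ^ 3 by ring]
    exact mul_dvd_mul (mul_dvd_mul (mul_dvd_mul (hxo _ h1o (hdvd ζ₂)) (hxo _ h2o (hdvd ζ₃)))
      (hxo _ h3o (hdvd ζ₄))) (pow_dvd_pow_of_dvd hvg 3)
  have hksplit : ∀ k : ℕ, k ∣ x₁ * x₂ * x₃ * v ^ 3 → ∃ u s, k = 3 ^ u * r ^ s := by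
    intro k hk
    have h := hk.trans hR
    rw [hg₀def, mul_pow, ← pow_mul, ← pow_mul] at h
    obtain ⟨d1, d2, h1, h2, rfl⟩ := Nat.dvd_mul.mp h
    obtain ⟨n, -, rfl⟩ := (Nat.dvd_prime_pow Nat.prime_three).mp h1
    obtain ⟨t, -, rfl⟩ := (Nat.dvd_prime_pow hr).mp h2
    exact ⟨n, t, rfl⟩
  obtain ⟨u₁, s₁, f₁⟩ := hksplit k₁ ⟨g₀ * k₂ * k₃ * w ^ 2, by rw [← hkey']; ring⟩
  obtain ⟨u₂, s₂, f₂⟩ := hksplit k₂ ⟨g₀ * k₁ * k₃ * w ^ 2, by rw [← hkey']; ring⟩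
  obtain ⟨u₃, s₃, f₃⟩ := hksplit k₃ ⟨g₀ * k₁ * k₂ * w ^ 2, by rw [← hkey']; ring⟩
  have c1 := shape hr hr5 (Or.inl rfl) (n := n₁) (t := t₁) (u := u₁) (s := s₁) (by omega) (by rw [← e₁, ← f₁]; exact hk₁)
  have c2 := shape hr hr5 he (n := n₂) (t := t₂) (u := u₂) (s := s₂) (by omega) (by rw [← e₂, ← f₂]; exact hk₂)
  have c3 := shape hr hr5 (Or.inr rfl) (n := n₃) (t := t₃) (u := u₃) (s := s₃) (by omega) (by rw [← e₃, ← f₃]; exact hk₃)
  rw [← e₁] at c1; rw [← e₂] at c2; rw [← e₃] at c3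
  by_contra hno
  push Not at hno
  refine three_mem hr hr5 (y₁ := 1 * (x₁ : ℤ)) (y₂ := e * x₂) (y₃ := -1 * (x₃ : ℤ)) ?_ hdeg
  intro y hy
  simp only [List.mem_cons, List.not_mem_nil, or_false] at hy
  rcases hy with rfl | rfl | rfl
  · exact c1.resolve_left (hno ζ₂ h21)
  · exact c2.resolve_left (hno ζ₃ h31)
  · exact c3.resolve_left (hno ζ₄ h41)

theorem of_four (hnc : ¬ ∀ x y : G, x * y = y * x) {p q a b : ℕ} (hp : p.Prime) (hq : q.Prime)
    (hG : Nat.card G = 4 * p ^ a * q ^ b) : Nonempty (G ≃* alternatingGroup (Fin 5)) := by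
  classical
  haveI : Fact (Nat.Prime 2) := ⟨Nat.prime_two⟩
  haveI := Fact.mk Nat.prime_three
  have hprimes : ∀ s : ℕ, s.Prime → s ∣ Nat.card G → s = 2 ∨ s = p ∨ s = q := by
    intro s hs hd
    rw [hG] at hd
    rcases hs.dvd_mul.mp hd with h | h
    · rcases hs.dvd_mul.mp h with h | h
      · exact Or.inl ((Nat.prime_dvd_prime_iff_eq hs Nat.prime_two).mp (hs.dvd_of_dvd_pow (n := 2) (by simpa using h)))
      · exact Or.inr (Or.inl ((Nat.prime_dvd_prime_iff_eq hs hp).mp (hs.dvd_of_dvd_pow h)))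
    · exact Or.inr (Or.inr ((Nat.prime_dvd_prime_iff_eq hs hq).mp (hs.dvd_of_dvd_pow h)))
  have hp2 : p ≠ 2 := fun h => not_two_primes hnc Nat.prime_two hq fun s hs hd => by
    rcases hprimes s hs hd with x | x | x
    · exact Or.inl x
    · exact Or.inl (x.trans h)
    · exact Or.inr x
  have hq2 : q ≠ 2 := fun h => not_two_primes hnc Nat.prime_two hp fun s hs hd => by
    rcases hprimes s hs hd with x | x | x
    · exact Or.inl x
    · exact Or.inr x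
    · exact Or.inl (x.trans h)
  have hodd : Odd (p ^ a * q ^ b) := (hp.odd_of_ne_two hp2).pow.mul (hq.odd_of_ne_two hq2).pow
  have h4 : Even (Nat.card G) := by rw [hG, mul_assoc]; exact (show Even 4 by decide).mul_right _
  have h8 : ¬ 8 ∣ Nat.card G := by
    rw [hG, mul_assoc]; rintro ⟨c, hc⟩
    obtain ⟨k, hk⟩ := hodd
    omega
  obtain ⟨P⟩ := (inferInstance : Nonempty (Sylow 2 G))
  have hna : ¬ IsMulCommutative G := fun h => hnc fun x y => h.is_comm.comm x y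
  obtain ⟨-, hidx⟩ := S0992.result hna h4 h8 P
  have h3 : 3 ∣ Nat.card G := by
    refine hidx ▸ ?_
    exact (Subgroup.relIndex_dvd_card _ _).trans (Subgroup.card_subgroup_dvd_card _)
  have hne : p ≠ q := fun h => not_two_primes hnc Nat.prime_two hp fun s hs hd => by
    rcases hprimes s hs hd with x | x | x
    · exact Or.inl x
    · exact Or.inr x
    · exact Or.inr (x.trans h.symm)
  obtain ⟨r, i, j, hr, hr5, hG'⟩ : ∃ r i j, r.Prime ∧ 5 ≤ r ∧ Nat.card G = 4 * (3 ^ i * r ^ j) := by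
    have h5 : ∀ r : ℕ, r.Prime → r ≠ 2 → r ≠ 3 → 5 ≤ r := fun r hr a b => by
      have := hr.two_le
      by_contra h
      interval_cases r
      · exact a rfl
      · exact b rfl
      · norm_num at hr
    rcases hprimes 3 Nat.prime_three h3 with x | x | x
    · omega
    · subst x; exact ⟨q, a, b, hq, h5 q hq hq2 (Ne.symm hne), by rw [hG]; ring⟩
    · subst x; exact ⟨p, b, a, hp, h5 p hp hp2 hne, by rw [hG]; ring⟩
  obtain ⟨⟨f, n, ρ, hρ, rfl⟩, hne1, hdeg⟩ := exists_three hnc hr hr5 hG'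
  change ρ.character ≠ _ at hne1
  change charDegree ρ.character = 3 at hdeg
  rw [Char.charDegree_eq_deg, Char.deg_character, Module.finrank_fintype_fun_eq_card, Fintype.card_fin] at hdeg
  subst hdeg
  have hinj : ∀ g, ρ g = 1 → g = 1 := by
    rcases (inferInstance : ρ.ker.Normal).eq_bot_or_eq_top with hb | ht
    · intro g hg'
      have : g ∈ ρ.ker := hg'
      simpa [hb] using this
    · exfalso
      have := Char.finrank_eq_one_of_trivial hρ fun x =>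
        MonoidHom.mem_ker.mp (ht ▸ Subgroup.mem_top x : x ∈ ρ.ker)
      simp at this
  have h9 := Solv.Arc.not_nine_dvd hnc ρ hρ hinj
  have hi : i = 1 := by
    rcases Nat.lt_or_ge i 2 with h | h
    · rcases Nat.eq_zero_or_pos i with h0 | h0
      · exfalso
        rw [hG', h0, pow_zero, one_mul, Nat.prime_three.dvd_mul] at h3
        rcases h3 with h3 | h3
        · norm_num at h3
        · have := (Nat.prime_dvd_prime_iff_eq Nat.prime_three hr).mp (Nat.prime_three.dvd_of_dvd_pow h3)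
          omega
      · omega
    · exact absurd (hG' ▸ dvd_mul_of_dvd_right (dvd_mul_of_dvd_left
        (show 9 ∣ 3 ^ i from (pow_dvd_pow 3 h : 3 ^ 2 ∣ 3 ^ i)) _) 4) h9
  rcases of_three hnc Nat.prime_two hr (by norm_num) (by omega) (a := 2) (b := j) (by rw [hG', hi]; ring) with h | he
  · exact h
  · exfalso
    refine h8 ?_
    obtain ⟨e⟩ := he
    haveI : Fact (Nat.Prime 7) := ⟨by norm_num⟩
    have hc := Classical.Dickson.card_psl (ZMod 7)
    rw [ZMod.card, ← Nat.card_congr e.toEquiv, show Nat.gcd 2 (7 - 1) = 2 from rfl] at hc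
    norm_num at hc
    omega

/-- Let G be a non-abelian finite simple group and p, q distinct primes. If the order of G is 4·p^a·q^b with a ≤ 2, then G is isomorphic to the alternating group of degree 5. If the order of G is 3·p^a·q^b with a ≤ 2, then G is isomorphic to the alternating group of degree 5 or to PSL(2,7). -/
theorem result {G : Type*} [Group G] [Finite G] [IsSimpleGroup G] (hna : ∃ x y : G, x * y ≠ y * x) (p q a b : ℕ) (hp : p.Prime) (hq : q.Prime) (hpq : p ≠ q) (ha : a ≤ 2) : (Nat.card G = 4 * p ^ a * q ^ b → Nonempty (G ≃* alternatingGroup (Fin 5))) ∧ (Nat.card G = 3 * p ^ a * q ^ b → Nonempty (G ≃* alternatingGroup (Fin 5)) ∨ Nonempty (G ≃* Matrix.ProjectiveSpecialLinearGroup (Fin 2) (ZMod 7))) := by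
  have hnc : ¬ ∀ x y : G, x * y = y * x := fun h => by
    obtain ⟨x, y, hxy⟩ := hna
    exact hxy (h x y)
  refine ⟨fun h => of_four hnc hp hq h, fun h => ?_⟩
  rcases eq_or_ne p 3 with hp3 | hp3
  · refine (not_two_primes hnc hp hq fun s hs hd => ?_).elim
    rw [h, hp3, mul_assoc] at hd
    rcases hs.dvd_mul.mp hd with x | x
    · exact Or.inl (by rw [hp3]; exact (Nat.prime_dvd_prime_iff_eq hs Nat.prime_three).mp x)
    rcases hs.dvd_mul.mp x with x | x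
    · exact Or.inl (by rw [hp3]; exact (Nat.prime_dvd_prime_iff_eq hs Nat.prime_three).mp (hs.dvd_of_dvd_pow x))
    · exact Or.inr ((Nat.prime_dvd_prime_iff_eq hs hq).mp (hs.dvd_of_dvd_pow x))
  rcases eq_or_ne q 3 with hq3 | hq3
  · refine (not_two_primes hnc hp hq fun s hs hd => ?_).elim
    rw [h, hq3, mul_assoc] at hd
    rcases hs.dvd_mul.mp hd with x | x
    · exact Or.inr (by rw [hq3]; exact (Nat.prime_dvd_prime_iff_eq hs Nat.prime_three).mp x)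
    rcases hs.dvd_mul.mp x with x | x
    · exact Or.inl ((Nat.prime_dvd_prime_iff_eq hs hp).mp (hs.dvd_of_dvd_pow x))
    · exact Or.inr (by rw [hq3]; exact (Nat.prime_dvd_prime_iff_eq hs Nat.prime_three).mp (hs.dvd_of_dvd_pow x))
  exact of_three hnc hp hq hp3 hq3 (a := a) (b := b) (by rw [h]; ring)

end Cfsg.Agent.S4501
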