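import Cfsg.Statements.S4635
import Cfsg.Agent.Lib.Char.CyclicCorrespondent
import Cfsg.Agent.Lib.Fusion.SubgroupCountSq

set_option autoImplicit false
open Cfsg
open Cfsg Cfsg.Agent

namespace Cfsg.Agent.S4635

/-- Let B be a block of the finite group G relative to a maximal ideal M of the algebraic integers containing the prime p, with a nontrivial cyclic defect group P; let Z be the subgroup of order p of P and H = N_G(Z), which contains N_G(P). Let c be the block of H with defect group P that induces B. Then B and c contain the same number of irreducible characters, have the same p-regular rank, and there is a perfect isometry from c onto B. -/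
theorem result {G : Type*} [Group G] [Finite G] (p : ℕ) [Fact p.Prime] (M : Ideal Cfsg.AlgInt) (hM : Cfsg.IsPModular p M) (B : Set (Cfsg.IrrCharacter G)) (hB : Cfsg.IsPBlock M B) (P : Subgroup G) (hPD : Cfsg.IsDefectGroup p M B P) (hP1 : P ≠ ⊥) (hcyc : IsCyclic P) (Z : Subgroup G) (hZ : Z ≤ P) (hZcard : Nat.card Z = p) (H : Subgroup G) (hH : H = Subgroup.normalizer (Z : Set G)) (c : Set (Cfsg.IrrCharacter H)) (hcD : Cfsg.IsDefectGroup p M c (P.subgroupOf H)) (hc : Cfsg.IsInducedBlock M H c B) : Nat.card c = Nat.card B ∧ Cfsg.blockRank p c = Cfsg.blockRank p B ∧ ∃ (I : Cfsg.IrrCharacter H → Cfsg.IrrCharacter G) (ε : Cfsg.IrrCharacter H → ℤ), Cfsg.IsPerfectIsometry p M c B I ε := by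
  classical
  haveI := Fintype.ofFinite G
  haveI := Fintype.ofFinite H
  haveI := hcyc
  obtain ⟨a, ha⟩ := (IsPGroup.iff_card (p := p)).mp (show IsPGroup p P by
    obtain ⟨y, -, hy⟩ := (Char.isDefectGroup_iff B P).mp hPD
    exact hy.isPGroup)
  have ha1 : 1 ≤ a := by
    rcases Nat.eq_zero_or_pos a with h | h
    · exact absurd (Subgroup.card_eq_one.mp (by rw [ha, h, pow_zero])) hP1
    · exact h
  have hN : Subgroup.normalizer (P : Set G) ≤ H := by
    intro g hg
    have hP' : ∀ x ∈ P, g * x * g⁻¹ ∈ P := fun x hx => (Subgroup.mem_normalizer_iff.mp hg x).mp hx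
    have hmap : Z.map (MulAut.conj g).toMonoidHom ≤ P := by
      rintro _ ⟨z, hz, rfl⟩
      exact hP' z (hZ hz)
    have heq : (Z.map (MulAut.conj g).toMonoidHom).subgroupOf P = Z.subgroupOf P :=
      CountSq.cyclic_unique _ _ (by
        rw [Nat.card_congr (Subgroup.subgroupOfEquivOfLe hmap).toEquiv,
          Nat.card_congr (Subgroup.subgroupOfEquivOfLe hZ).toEquiv,
          Subgroup.card_map_of_injective (MulEquiv.injective _)])
    have heq' : Z.map (MulAut.conj g).toMonoidHom = Z := by
      rw [← Subgroup.map_subgroupOf_eq_of_le hmap, heq, Subgroup.map_subgroupOf_eq_of_le hZ]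
    rw [hH]
    exact Subgroup.mem_normalizer_iff_map_conj_eq.mpr heq'
  have hPH : P ≤ H := Subgroup.le_normalizer.trans hN
  have hmap : (P.subgroupOf H).map H.subtype = P := Subgroup.map_subgroupOf_eq_of_le hPH
  have hN' : Subgroup.normalizer (((P.subgroupOf H).map H.subtype : Subgroup G) : Set G) ≤ H := by
    rw [hmap]; exact hN
  obtain ⟨e0, he0⟩ := Char.exists_pair_of_le_defect hM hc.1 hcD le_rfl
  have hmaxH := Char.maximal_of_defect hM hcD he0
  have hmaxG := Char.maximal_of_defect (P := (P.subgroupOf H).map H.subtype) hM (by rw [hmap]; exact hPD)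
    (Char.pairOf_of_induced hM hc ((Subgroup.centralizer_le_normalizer _).trans hN') he0)
  obtain ⟨σ, hσ, hord⟩ := Char.CyclicRank.exists_gen hcyc ha
  have hσH : σ ∈ H := hPH (hσ ▸ Subgroup.mem_zpowers σ)
  have hτ : Subgroup.zpowers (⟨σ, hσH⟩ : H) = P.subgroupOf H := by
    refine Subgroup.map_injective H.subtype_injective ?_
    rw [MonoidHom.map_zpowers, hmap]
    exact hσ
  have hordτ : orderOf (⟨σ, hσH⟩ : H) = p ^ a := by rw [Subgroup.orderOf_mk, hord]
  have heq := Char.CyclicCorrespondent.relIndex_lift hM hN' hmaxH.1.1.2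
  obtain ⟨e, he⟩ : ∃ e, (Subgroup.centralizer ((P.subgroupOf H : Subgroup H) : Set H)).relIndex
      (Char.pairStab (Char.pmod_prime hM) hmaxH.1.1.2) = e := ⟨_, rfl⟩
  have hσ' : Subgroup.zpowers σ = (P.subgroupOf H).map H.subtype := by rw [hmap]; exact hσ
  obtain ⟨h1, h2⟩ := Char.CyclicRank.counts hM hmaxG hσ' ha1 hord (heq.trans he)
  obtain ⟨h3, h4⟩ := Char.CyclicRank.counts hM hmaxH hτ ha1 hordτ he
  refine ⟨?_, h3.trans h1.symm, ?_⟩
  · rw [h2, h4, Subgroup.card_map_of_injective H.subtype_injective]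
  · exact Char.CyclicCorrespondent.between hM hmaxG hσ' ha1 hord (heq.trans he) hmaxH hτ hordτ he

end Cfsg.Agent.S4635
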