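import Cfsg.Statements.S4502
import Cfsg.Agent.S4635
import Cfsg.Agent.Lib.Char.FongReynolds
import Cfsg.Agent.Lib.Char.FirstMainInduced

set_option autoImplicit false
open Cfsg
open Cfsg Cfsg.Agent

namespace Cfsg.Agent.S4502

/-- Let G be a finite group whose order is divisible by the prime p exactly once, and let P be a Sylow p-subgroup. Then the number of irreducible characters of G of degree not divisible by p equals the number of conjugacy classes of the normalizer of P. -/
theorem result {G : Type*} [Group G] [Finite G] (p : ℕ) [Fact p.Prime] (hdiv : p ∣ Nat.card G) (hsq : ¬ p ^ 2 ∣ Nat.card G) (P : Sylow p G) : Nat.card {χ : Cfsg.IrrCharacter G // ¬ p ∣ Cfsg.charDegree (χ : G → ℂ)} = Nat.card (ConjClasses (Subgroup.normalizer ((P : Subgroup G) : Set G))) := by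
  classical
  haveI := Fintype.ofFinite G
  have hp : p.Prime := Fact.out
  obtain ⟨M, hM⟩ := Char.exists_pModular hp
  have hMp := Char.pmod_prime hM
  have hfac : (Nat.card G).factorization p = 1 := by
    have h1 := (hp.dvd_iff_one_le_factorization Nat.card_pos.ne').mp hdiv
    have h2 : ¬ 2 ≤ (Nat.card G).factorization p := fun h =>
      hsq ((hp.pow_dvd_iff_le_factorization Nat.card_pos.ne').mpr h)
    omega
  have hPc : Nat.card (P : Subgroup G) = p := by rw [P.card_eq_multiplicity, hfac, pow_one]
  haveI := Fintype.ofFinite (Subgroup.normalizer ((P : Subgroup G) : Set G))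
  have hPN : (P : Subgroup G) ≤ Subgroup.normalizer ((P : Subgroup G) : Set G) := Subgroup.le_normalizer
  have hmap : ((P : Subgroup G).subgroupOf (Subgroup.normalizer ((P : Subgroup G) : Set G))).map
      (Subgroup.normalizer ((P : Subgroup G) : Set G)).subtype = (P : Subgroup G) :=
    Subgroup.map_subgroupOf_eq_of_le hPN
  have hblock : ∀ χ : IrrCharacter G, ¬ p ∣ charDegree (χ : G → ℂ) ↔
      IsDefectGroup p M (blockOf M (χ : G → ℂ)) (P : Subgroup G) := by
    intro χ
    have hB := Char.isPBlock_blockOf M χ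
    have hχ := Char.self_mem_blockOf hMp χ
    have hsum := Char.dmin_add_defect (p := p) (Char.block_nonempty hMp hB)
    rw [hfac] at hsum
    obtain ⟨χ0, hχ0, h0⟩ := Char.exists_height_zero (p := p) (Char.block_nonempty hMp hB)
    have hdex : Char.dexp p (χ : G → ℂ) = (charDegree (χ : G → ℂ)).factorization p := rfl
    have hdeg : 0 < charDegree (χ : G → ℂ) := Char.deg_pos χ.2
    have hle := Char.dexp_le (p := p) χ.2
    rw [hfac] at hle
    have hheight := Char.dexp_eq_height_add (p := p) hχ
    constructor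
    · intro hn
      obtain ⟨D, hD⟩ := Char.exists_isDefectGroup hM hB
      have hDc := Char.card_defectGroup hM hB hD
      rw [show blockDefect p (blockOf M (χ : G → ℂ)) = 1 from by
        have : Char.dexp p (χ : G → ℂ) = 0 := hdex.trans (Nat.factorization_eq_zero_of_not_dvd hn)
        omega, pow_one] at hDc
      obtain ⟨t, ht⟩ := MulAction.exists_smul_eq G
        (Sylow.ofCard D (by rw [hDc, hfac, pow_one])) P
      have h1 := Char.isDefectGroup_conj hM hD t
      have e : D.map (MulAut.conj t).toMonoidHom = (P : Subgroup G) := by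
        rw [← ht]; rfl
      rwa [e] at h1
    · intro hD hdvd
      have hDc := Char.card_defectGroup hM hB hD
      rw [hPc] at hDc
      have hd1 : blockDefect p (blockOf M (χ : G → ℂ)) = 1 :=
        Nat.pow_right_injective hp.two_le (by simpa using hDc.symm)
      have h1 : 1 ≤ Char.dexp p (χ : G → ℂ) := hdex ▸ (hp.dvd_iff_one_le_factorization hdeg.ne').mp hdvd
      have hs := (Char.singleton_iff_dexp hM χ).mpr (by rw [hfac]; omega)
      rw [hs] at hχ0
      rw [(hχ0 : χ0 = χ)] at h0
      omega
  -- the blocks of the normalizer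
  have hNdef : ∀ η : IrrCharacter (Subgroup.normalizer ((P : Subgroup G) : Set G)),
      IsDefectGroup p M (blockOf M (η : Subgroup.normalizer ((P : Subgroup G) : Set G) → ℂ))
        ((P : Subgroup G).subgroupOf (Subgroup.normalizer ((P : Subgroup G) : Set G))) := by
    intro η
    have hB := Char.isPBlock_blockOf M η
    obtain ⟨D, hD⟩ := Char.exists_isDefectGroup hM hB
    haveI : ((P : Subgroup G).subgroupOf (Subgroup.normalizer ((P : Subgroup G) : Set G))).Normal :=
      (Subgroup.normal_subgroupOf_iff_le_normalizer hPN).mpr le_rfl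
    have hcP : Nat.card ((P : Subgroup G).subgroupOf (Subgroup.normalizer ((P : Subgroup G) : Set G))) = p :=
      (Nat.card_congr (Subgroup.subgroupOfEquivOfLe hPN).toEquiv).trans hPc
    have hle := Char.pCore_le_defectGroup hM hB hD
      ((P : Subgroup G).subgroupOf (Subgroup.normalizer ((P : Subgroup G) : Set G)))
      (IsPGroup.of_card (n := 1) (hcP.trans (pow_one p).symm))
    have e : (P : Subgroup G).subgroupOf (Subgroup.normalizer ((P : Subgroup G) : Set G)) = D := by
      refine Subgroup.eq_of_le_of_card_ge hle ?_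
      rw [hcP, Char.card_defectGroup hM hB hD]
      have h1 : (Nat.card (Subgroup.normalizer ((P : Subgroup G) : Set G))).factorization p ≤ 1 :=
        hfac ▸ (Nat.factorization_le_iff_dvd Nat.card_pos.ne' Nat.card_pos.ne').mpr
          (Subgroup.card_subgroup_dvd_card _) p
      have h2 := Char.dmin_add_defect (p := p) (Char.block_nonempty hMp hB)
      conv_rhs => rw [← pow_one p]
      exact Nat.pow_le_pow_right hp.pos (by omega)
    rwa [e]
  obtain ⟨hup, hdown⟩ := Char.first_main hM ((P : Subgroup G).subgroupOf (Subgroup.normalizer ((P : Subgroup G) : Set G)))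
    (show Subgroup.normalizer ((P : Subgroup G) : Set G) = _ by rw [hmap])
  choose! bl hbl using fun η => hup _ (Char.isPBlock_blockOf M η) (hNdef η)
  -- counting
  set S := Finset.univ.filter fun χ : IrrCharacter G => ¬ p ∣ charDegree (χ : G → ℂ) with hS
  set FG := S.image fun χ : IrrCharacter G => blockOf M (χ : G → ℂ) with hFG
  set FN := (Finset.univ : Finset (IrrCharacter (Subgroup.normalizer ((P : Subgroup G) : Set G)))).image
    fun η : IrrCharacter (Subgroup.normalizer ((P : Subgroup G) : Set G)) => blockOf M (η : Subgroup.normalizer ((P : Subgroup G) : Set G) → ℂ) with hFN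
  have hcard : ∀ (c : Set (IrrCharacter (Subgroup.normalizer ((P : Subgroup G) : Set G))))
      (B : Set (IrrCharacter G)), IsDefectGroup p M c
        ((P : Subgroup G).subgroupOf (Subgroup.normalizer ((P : Subgroup G) : Set G))) →
      IsPBlock M B → IsDefectGroup p M B (P : Subgroup G) →
      IsInducedBlock M (Subgroup.normalizer ((P : Subgroup G) : Set G)) c B → Nat.card c = Nat.card B :=
    fun c B hcD hB hBD hind => (S4635.result p M hM B hB P hBD
      (fun h => by rw [h, Subgroup.card_bot] at hPc; exact hp.ne_one hPc.symm)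
      (haveI := isCyclic_of_prime_card hPc; inferInstance) P le_rfl hPc _ rfl c hcD hind).1
  have hk : ∀ {X : Type _} [Fintype X] (T : Set X), (Finset.univ.filter (· ∈ T)).card = Nat.card T := by
    intro X _ T
    rw [Nat.card_eq_fintype_card, ← Set.toFinset_card]
    congr 1; ext; simp
  rw [← Char.card_irr, Nat.card_eq_fintype_card, Nat.card_eq_fintype_card, Fintype.card_subtype, ← hS,
    ← Finset.card_univ, Finset.card_eq_sum_card_image (fun χ : IrrCharacter G => blockOf M (χ : G → ℂ)) S,
    Finset.card_eq_sum_card_image (fun η : IrrCharacter (Subgroup.normalizer ((P : Subgroup G) : Set G)) =>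
      blockOf M (η : Subgroup.normalizer ((P : Subgroup G) : Set G) → ℂ)) Finset.univ, ← hFG, ← hFN]
  have hfibG : ∀ B ∈ FG, (S.filter fun χ : IrrCharacter G => blockOf M (χ : G → ℂ) = B).card = Nat.card B := by
    intro B hBF
    obtain ⟨χ, hχS, rfl⟩ := Finset.mem_image.mp hBF
    rw [← hk (blockOf M (χ : G → ℂ))]
    refine congrArg Finset.card ?_
    ext ψ
    simp only [Finset.mem_filter, Finset.mem_univ, true_and]
    refine ⟨fun h => h.2 ▸ Char.self_mem_blockOf hMp ψ, fun h => ?_⟩
    have he := (Char.block_eq_blockOf hMp (Char.isPBlock_blockOf M χ) h).symm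
    refine ⟨Finset.mem_filter.mpr ⟨Finset.mem_univ _, (hblock ψ).mpr ?_⟩, he⟩
    rw [he]
    exact (hblock χ).mp (Finset.mem_filter.mp hχS).2
  have hfibN : ∀ c ∈ FN, ((Finset.univ : Finset (IrrCharacter (Subgroup.normalizer ((P : Subgroup G) : Set G)))).filter
      fun η : IrrCharacter (Subgroup.normalizer ((P : Subgroup G) : Set G)) =>
      blockOf M (η : Subgroup.normalizer ((P : Subgroup G) : Set G) → ℂ) = c).card = Nat.card c := by
    intro c hcF
    obtain ⟨η, -, rfl⟩ := Finset.mem_image.mp hcF
    rw [← hk (blockOf M (η : Subgroup.normalizer ((P : Subgroup G) : Set G) → ℂ))]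
    refine congrArg Finset.card ?_
    ext ψ
    simp only [Finset.mem_filter, Finset.mem_univ, true_and]
    exact ⟨fun h => h ▸ Char.self_mem_blockOf hMp ψ,
      fun h => (Char.block_eq_blockOf hMp (Char.isPBlock_blockOf M η) h).symm⟩
  rw [Finset.sum_congr rfl hfibG, Finset.sum_congr rfl hfibN]
  symm
  -- the correspondence
  haveI : Nonempty (IrrCharacter (Subgroup.normalizer ((P : Subgroup G) : Set G))) := ⟨⟨_, Char.isIrrCharacter_one⟩⟩
  choose! rep hrep using fun c (h : c ∈ FN) => Finset.mem_image.mp h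
  have hrep' : ∀ c ∈ FN, blockOf M (rep c : Subgroup.normalizer ((P : Subgroup G) : Set G) → ℂ) = c :=
    fun c hc => (hrep c hc).2
  have hdata : ∀ c ∈ FN, IsPBlock M c ∧ IsDefectGroup p M c
      ((P : Subgroup G).subgroupOf (Subgroup.normalizer ((P : Subgroup G) : Set G))) ∧
      IsPBlock M (bl (rep c)) ∧ IsDefectGroup p M (bl (rep c)) (P : Subgroup G) ∧
      IsInducedBlock M (Subgroup.normalizer ((P : Subgroup G) : Set G)) c (bl (rep c)) := by
    intro c hc
    obtain ⟨h1, h2, h3⟩ := hbl (rep c)
    rw [hmap] at h2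
    refine ⟨hrep' c hc ▸ Char.isPBlock_blockOf M (rep c), hrep' c hc ▸ hNdef (rep c), h1, h2, ?_⟩
    rw [hrep' c hc] at h3
    exact h3
  refine Finset.sum_bij (fun c _ => bl (rep c)) (fun c hc => ?_) (fun c hc c' hc' he => ?_) (fun B hB => ?_)
    (fun c hc => ?_)
  · obtain ⟨-, -, h1, h2, -⟩ := hdata c hc
    obtain ⟨χ, hχ⟩ := Char.block_nonempty hMp h1
    have he := (Char.block_eq_blockOf hMp h1 hχ).symm
    exact Finset.mem_image.mpr ⟨χ, Finset.mem_filter.mpr ⟨Finset.mem_univ _, (hblock χ).mpr (he ▸ h2)⟩, he⟩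
  · obtain ⟨a1, a2, a3, a4, a5⟩ := hdata c hc
    obtain ⟨b1, b2, b3, b4, b5⟩ := hdata c' hc'
    exact (hdown _ a3 (hmap.symm ▸ a4)).unique ⟨a1, a2, a5⟩ ⟨b1, b2, he ▸ b5⟩
  · obtain ⟨χ, hχ, rfl⟩ := Finset.mem_image.mp hB
    have hBb := Char.isPBlock_blockOf M χ
    have hBD := (hblock χ).mp (Finset.mem_filter.mp hχ).2
    obtain ⟨c, ⟨c1, c2, c3⟩, -⟩ := hdown _ hBb (hmap.symm ▸ hBD)
    obtain ⟨η, hη⟩ := Char.block_nonempty hMp c1
    have hcF : c ∈ FN := Finset.mem_image.mpr ⟨η, Finset.mem_univ _, (Char.block_eq_blockOf hMp c1 hη).symm⟩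
    refine ⟨c, hcF, ?_⟩
    obtain ⟨a1, a2, a3, a4, a5⟩ := hdata c hcF
    exact Char.induced_unique hMp a5 c3
  · obtain ⟨a1, a2, a3, a4, a5⟩ := hdata c hc
    exact hcard c _ a2 a3 a4 a5

end Cfsg.Agent.S4502
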