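import Cfsg.Statements.S4506
import Cfsg.Agent.Lib.Char.GaloisPPart

set_option autoImplicit false
open Cfsg Cfsg.Agent.Char
open scoped ComplexConjugate

namespace Cfsg.Agent.S4506

/-- Let G be a finite group, p a prime, p^a the p-part of the order of G and g′ its p′-part. Call two irreducible characters p-conjugate when one is obtained from the other by applying a field automorphism of ℂ that fixes the g′-th roots of unity, and let r be the number of characters p-conjugate to the irreducible character χ (χ included). Then the exponent of p in r·χ(1) is at most a; and if p^a divides r·χ(1) then p^a already divides χ(1). -/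
theorem result {G : Type*} [Group G] [Finite G] (p : ℕ) (hp : p.Prime) (χ : Cfsg.IrrCharacter G) (r : ℕ) (hr : Nat.card {ψ : Cfsg.IrrCharacter G // ∃ σ : ℂ ≃+* ℂ, σ (Complex.exp (2 * Real.pi * Complex.I / ((Nat.card G / p ^ (Nat.card G).factorization p) : ℕ))) = Complex.exp (2 * Real.pi * Complex.I / ((Nat.card G / p ^ (Nat.card G).factorization p) : ℕ)) ∧ (ψ : G → ℂ) = fun g => σ ((χ : G → ℂ) g)} = r) : (r * Cfsg.charDegree (χ : G → ℂ)).factorization p ≤ (Nat.card G).factorization p ∧ (p ^ (Nat.card G).factorization p ∣ r * Cfsg.charDegree (χ : G → ℂ) → p ^ (Nat.card G).factorization p ∣ Cfsg.charDegree (χ : G → ℂ)) := by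
  classical
  haveI := Fintype.ofFinite G
  haveI : Fact p.Prime := ⟨hp⟩
  have hN : Nat.card G ≠ 0 := Nat.card_pos.ne'
  let S : PConj.Setup G p :=
    { a := (Nat.card G).factorization p
      m := Nat.card G / p ^ (Nat.card G).factorization p
      cop := (hp.coprime_iff_not_dvd.2 (Nat.not_dvd_ordCompl hp hN)).pow_left _
      card := (Nat.ordProj_mul_ordCompl_eq_self _ _).symm
      ndvd := Nat.not_dvd_ordCompl hp hN }
  haveI := S.neZero
  set ζ := Complex.exp (2 * Real.pi * Complex.I / ((Nat.card G / p ^ (Nat.card G).factorization p : ℕ) : ℕ)) with hζdef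
  have hζ : IsPrimitiveRoot ζ S.m := Complex.isPrimitiveRoot_exp _ S.m_ne
  have hset : ∀ ψ : IrrCharacter G, (∃ σ : ℂ ≃+* ℂ, σ ζ = ζ ∧ (ψ : G → ℂ) = fun g => σ ((χ : G → ℂ) g)) ↔
      ψ ∈ S.orb χ := by
    intro ψ
    have hchar : ∀ (σ : ℂ ≃+* ℂ) (k : ℕ), (∀ μ : ℂ, μ ^ (p ^ S.a * S.m) = 1 → σ μ = μ ^ k) →
        ∀ g : G, σ ((χ : G → ℂ) g) = (χ : G → ℂ) (g ^ k) := by
      intro σ k hσ g
      obtain ⟨d, ρ, -, hρ⟩ := χ.2
      obtain ⟨μ, hμ, htr, -⟩ := exists_eigenvalues ρ g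
      have h1 := htr 1
      simp only [pow_one] at h1
      rw [← hρ, h1, map_sum, htr k]
      refine Finset.sum_congr rfl fun i _ => hσ _ ?_
      obtain ⟨c, hc⟩ := orderOf_dvd_of_pow_eq_one (S.hexp g)
      rw [hc, pow_mul, hμ i, one_pow]
    rw [S.mem_orb]
    constructor
    · rintro ⟨σ, hσζ, hψ⟩
      have hn := Complex.isPrimitiveRoot_exp (p ^ S.a * S.m) (NeZero.ne _)
      set η := Complex.exp (2 * Real.pi * Complex.I / ((p ^ S.a * S.m : ℕ) : ℂ))
      have hη' : IsPrimitiveRoot (σ η) (p ^ S.a * S.m) := hn.map_of_injective σ.injective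
      obtain ⟨k, -, hk⟩ := hn.eq_pow_of_pow_eq_one hη'.pow_eq_one
      have hkc : k.Coprime (p ^ S.a * S.m) :=
        (hn.pow_iff_coprime (Nat.pos_of_ne_zero (NeZero.ne _)) k).1 (hk ▸ hη')
      have hσ : ∀ μ : ℂ, μ ^ (p ^ S.a * S.m) = 1 → σ μ = μ ^ k := fun μ hμ => by
        obtain ⟨i, -, rfl⟩ := hn.eq_pow_of_pow_eq_one hμ
        rw [map_pow, ← hk, ← pow_mul, ← pow_mul, mul_comm]
      refine ⟨ZMod.unitOfCoprime k hkc, ?_, ?_⟩
      · rw [PConj.Setup.U, MonoidHom.mem_ker]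
        refine Units.ext ?_
        rw [ZMod.unitsMap_val, ZMod.coe_unitOfCoprime, Units.val_one,
          ZMod.cast_natCast S.dvd, ← Nat.cast_one, ZMod.natCast_eq_natCast_iff]
        have h1 : ζ ^ k = ζ ^ 1 := by
          rw [pow_one, ← hσ ζ (by rw [pow_mul', hζ.pow_eq_one, one_pow])]
          exact hσζ
        rw [pow_eq_pow_mod k hζ.pow_eq_one, pow_eq_pow_mod 1 hζ.pow_eq_one] at h1
        exact hζ.pow_inj (Nat.mod_lt _ (Nat.pos_of_ne_zero S.m_ne)) (Nat.mod_lt _ (Nat.pos_of_ne_zero S.m_ne)) h1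
      · rw [hψ]
        funext g
        rw [hchar σ k hσ g, gal, ZMod.coe_unitOfCoprime, ZMod.val_natCast, ← pow_eq_pow_mod _ (S.hexp g)]
    · rintro ⟨u, hu, hψ⟩
      obtain ⟨σ, hσ⟩ := exists_ringEquiv_pow (NeZero.ne (p ^ S.a * S.m)) (val_coprime u)
      refine ⟨σ, ?_, ?_⟩
      · rw [hσ ζ (by rw [pow_mul', hζ.pow_eq_one, one_pow]), pow_eq_pow_mod _ hζ.pow_eq_one,
          show _ % S.m = 1 % S.m from S.modEq_one hu, ← pow_eq_pow_mod 1 hζ.pow_eq_one, pow_one]
      · rw [hψ]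
        funext g
        rw [hchar σ _ hσ g]
        rfl
  have hr' : r = (S.orb χ).card := by
    rw [← hr, Nat.card_congr (Equiv.subtypeEquivRight hset), Nat.card_eq_finsetCard]
  have hf : Cfsg.charDegree (χ : G → ℂ) = deg (χ : G → ℂ) := rfl
  rw [hf]
  obtain ⟨c, hc, -⟩ := S.fiber_count χ
  have hφ : (p ^ S.a).totient ≠ 0 := (Nat.totient_pos.2 (pow_pos hp.pos _)).ne'
  have hr0 : r ≠ 0 := by
    intro h
    rw [← hr', h, zero_mul] at hc
    exact hφ hc.symm
  have hdd : deg (χ : G → ℂ) ∣ Nat.card G := deg_dvd_card χ.2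
  have hf0 : deg (χ : G → ℂ) ≠ 0 := fun h => hN (Nat.eq_zero_of_zero_dvd (h ▸ hdd))
  rw [Nat.factorization_mul hr0 hf0, Finsupp.add_apply]
  rcases Nat.eq_zero_or_pos S.a with ha0 | ha
  · have hr1 : r = 1 := by
      rw [← hr', ha0, pow_zero, Nat.totient_one] at hc
      exact Nat.eq_one_of_mul_eq_one_right hc
    rw [hr1, Nat.factorization_one, Finsupp.zero_apply, zero_add, one_mul]
    exact ⟨(Nat.factorization_le_iff_dvd hf0 hN).2 hdd p, id⟩
  · obtain ⟨M, hM⟩ := exists_pModular hp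
    have hle := S.factorization_le hM χ ha
    rw [← hr'] at hle
    refine ⟨hle, fun hdvd => ?_⟩
    have h1 := (Nat.Prime.pow_dvd_iff_le_factorization hp (mul_ne_zero hr0 hf0)).1 hdvd
    rw [Nat.factorization_mul hr0 hf0, Finsupp.add_apply] at h1
    exact S.full_of_eq hM χ ha (by rw [← hr']; exact le_antisymm hle h1)

end Cfsg.Agent.S4506
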