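import Cfsg.Statements.S4507
import Cfsg.Agent.Lib.Char.DefectOneGalois
import Cfsg.Agent.Lib.Char.GaloisConj

set_option autoImplicit false
open Cfsg
open Cfsg Cfsg.Agent

namespace Cfsg.Agent.S4507

/-- Let G be a finite group whose order g is divisible by the prime p exactly once, g′ = g/p, and fix a maximal ideal M of the algebraic integers containing p. Call two irreducible characters p-conjugate when a field automorphism of ℂ fixing the g′-th roots of unity carries one to the other. Let B be a p-block of positive defect (its defect group is a Sylow p-subgroup). Then B contains a subset Y (the exceptional family) such that: Y is a full p-conjugacy class (its members are pairwise p-conjugate and every p-conjugate of a member of Y lies in Y); every member of B outside Y is p-conjugate only to itself; the size t of Y divides p − 1 and B has exactly t + (p − 1)/t members; and there are signs δ_χ = ±1 (χ ∈ B) such that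 for every p-regular element x and every θ ∈ Y, Σ_{χ ∈ B ∖ Y} δ_χ χ(x) + δ_θ θ(x) = 0. -/
theorem result {G : Type*} [Group G] [Finite G] (p : ℕ) [Fact p.Prime] (M : Ideal Cfsg.AlgInt) (hM : Cfsg.IsPModular p M) (hdiv : p ∣ Nat.card G) (hsq : ¬ p ^ 2 ∣ Nat.card G) (B : Set (Cfsg.IrrCharacter G)) (hB : Cfsg.IsPBlock M B) (hd : 0 < Cfsg.blockDefect p B) : ∃ Y : Set (Cfsg.IrrCharacter G), Y ⊆ B ∧ Y.Nonempty ∧ (∀ θ ∈ Y, ∀ ψ : Cfsg.IrrCharacter G, (∃ σ : ℂ ≃+* ℂ, σ (Complex.exp (2 * Real.pi * Complex.I / ((Nat.card G / p ^ (Nat.card G).factorization p) : ℕ))) = Complex.exp (2 * Real.pi * Complex.I / ((Nat.card G / p ^ (Nat.card G).factorization p) : ℕ)) ∧ (ψ : G → ℂ) = fun g => σ ((θ : G → ℂ) g)) ↔ ψ ∈ Y) ∧ (∀ χ ∈ B, χ ∉ Y → ∀ ψ : Cfsg.IrrCharacter G, (∃ σ : ℂ ≃+* ℂ, σ (Complex.exp (2 * Real.pi * Complex.I / ((Nat.card G / p ^ (Nat.card G).factorization p) : ℕ))) = Complex.exp (2 * Real.pi * Complex.I / ((Nat.card G / p ^ (Nat.card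 G).factorization p) : ℕ)) ∧ (ψ : G → ℂ) = fun g => σ ((χ : G → ℂ) g)) → ψ = χ) ∧ Nat.card Y ∣ p - 1 ∧ Nat.card B = Nat.card Y + (p - 1) / Nat.card Y ∧ ∃ δ : Cfsg.IrrCharacter G → ℤ, (∀ χ ∈ B, δ χ = 1 ∨ δ χ = -1) ∧ ∀ x : G, ¬ p ∣ orderOf x → ∀ θ ∈ Y, (∑ᶠ χ ∈ B \ Y, (δ χ : ℂ) * (χ : G → ℂ) x) + (δ θ : ℂ) * (θ : G → ℂ) x = 0 := by
  classical
  haveI := Fintype.ofFinite G
  have hp := hM.1
  have hN : Nat.card G ≠ 0 := Nat.card_pos.ne'
  have hMp := Char.pmod_prime hM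
  let S : Char.PConj.Setup G p :=
    { a := (Nat.card G).factorization p
      m := Nat.card G / p ^ (Nat.card G).factorization p
      cop := (hp.coprime_iff_not_dvd.2 (Nat.not_dvd_ordCompl hp hN)).pow_left _
      card := (Nat.ordProj_mul_ordCompl_eq_self _ _).symm
      ndvd := Nat.not_dvd_ordCompl hp hN }
  haveI := S.neZero
  set ζ := Complex.exp (2 * Real.pi * Complex.I / ((Nat.card G / p ^ (Nat.card G).factorization p : ℕ) : ℕ)) with hζdef
  have hζ : IsPrimitiveRoot ζ S.m := Complex.isPrimitiveRoot_exp _ S.m_ne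
  have hset : ∀ χ ψ : IrrCharacter G, (∃ σ : ℂ ≃+* ℂ, σ ζ = ζ ∧ (ψ : G → ℂ) = fun g => σ ((χ : G → ℂ) g)) ↔
      ψ ∈ S.orb χ := by
    intro χ ψ
    have hchar : ∀ (σ : ℂ ≃+* ℂ) (k : ℕ), (∀ μ : ℂ, μ ^ (p ^ S.a * S.m) = 1 → σ μ = μ ^ k) →
        ∀ g : G, σ ((χ : G → ℂ) g) = (χ : G → ℂ) (g ^ k) := by
      intro σ k hσ g
      obtain ⟨d, ρ, -, hρ⟩ := χ.2
      obtain ⟨μ, hμ, htr, -⟩ := Char.exists_eigenvalues ρ g
      have h1 := htr 1
      simp only [pow_one] at h1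
      rw [← hρ, h1, map_sum, htr k]
      refine Finset.sum_congr rfl fun i _ => hσ _ ?_
      obtain ⟨c, hc⟩ := orderOf_dvd_of_pow_eq_one (S.hexp g)
      rw [hc, pow_mul, hμ i, one_pow]
    rw [S.mem_orb]
    constructor
    · rintro ⟨σ, hσζ, hψ⟩
      have hn := Complex.isPrimitiveRoot_exp (p ^ S.a * S.m) (NeZero.ne _)
      set η := Complex.exp (2 * Real.pi * Complex.I / ((p ^ S.a * S.m : ℕ) : ℂ))
      have hη' : IsPrimitiveRoot (σ η) (p ^ S.a * S.m) := hn.map_of_injective σ.injective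
      obtain ⟨k, -, hk⟩ := hn.eq_pow_of_pow_eq_one hη'.pow_eq_one
      have hkc : k.Coprime (p ^ S.a * S.m) :=
        (hn.pow_iff_coprime (Nat.pos_of_ne_zero (NeZero.ne _)) k).1 (hk ▸ hη')
      have hσ : ∀ μ : ℂ, μ ^ (p ^ S.a * S.m) = 1 → σ μ = μ ^ k := fun μ hμ => by
        obtain ⟨i, -, rfl⟩ := hn.eq_pow_of_pow_eq_one hμ
        rw [map_pow, ← hk, ← pow_mul, ← pow_mul, mul_comm]
      refine ⟨ZMod.unitOfCoprime k hkc, ?_, ?_⟩
      · rw [Char.PConj.Setup.U, MonoidHom.mem_ker]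
        refine Units.ext ?_
        rw [ZMod.unitsMap_val, ZMod.coe_unitOfCoprime, Units.val_one,
          ZMod.cast_natCast S.dvd, ← Nat.cast_one, ZMod.natCast_eq_natCast_iff]
        have h1 : ζ ^ k = ζ ^ 1 := by
          rw [pow_one, ← hσ ζ (by rw [pow_mul', hζ.pow_eq_one, one_pow])]
          exact hσζ
        rw [pow_eq_pow_mod k hζ.pow_eq_one, pow_eq_pow_mod 1 hζ.pow_eq_one] at h1
        exact hζ.pow_inj (Nat.mod_lt _ (Nat.pos_of_ne_zero S.m_ne)) (Nat.mod_lt _ (Nat.pos_of_ne_zero S.m_ne)) h1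
      · rw [hψ]
        funext g
        rw [hchar σ k hσ g, Char.gal, ZMod.coe_unitOfCoprime, ZMod.val_natCast, ← pow_eq_pow_mod _ (S.hexp g)]
    · rintro ⟨u, hu, hψ⟩
      obtain ⟨σ, hσ⟩ := Char.exists_ringEquiv_pow (NeZero.ne (p ^ S.a * S.m)) (Char.val_coprime u)
      refine ⟨σ, ?_, ?_⟩
      · rw [hσ ζ (by rw [pow_mul', hζ.pow_eq_one, one_pow]), pow_eq_pow_mod _ hζ.pow_eq_one,
          show _ % S.m = 1 % S.m from S.modEq_one hu, ← pow_eq_pow_mod 1 hζ.pow_eq_one, pow_one]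
      · rw [hψ]
        funext g
        rw [hchar σ _ hσ g]
        rfl
  obtain ⟨D, hD⟩ := Char.exists_isDefectGroup hM hB
  have hdef1 : blockDefect p B = 1 := by
    have h1 := Char.dmin_add_defect (p := p) (Char.block_nonempty hMp hB)
    have h2 : (Nat.card G).factorization p ≤ 1 :=
      not_lt.mp fun h => hsq ((hp.pow_dvd_iff_le_factorization hN).mpr h)
    omega
  have hcard : Nat.card D = p := by rw [Char.card_defectGroup hM hB hD, hdef1, pow_one]
  obtain ⟨b, hb⟩ := Char.exists_pair_of_le_defect hM hB hD le_rfl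
  have hmax := Char.maximal_of_defect hM hD hb
  haveI := Fintype.ofFinite (Subgroup.centralizer (D : Set G))
  obtain ⟨θ, hθ, hθP⟩ := Char.DefectOne.exists_trivial hM hmax hcard hsq
  obtain ⟨N, Y, δ, hN1, hem, hYB, hYc, hBc, hYorb, hXorb, hδ, hrel⟩ :=
    Char.DefectOne.galois_main S hM hmax hcard hsq hθ hθP rfl
  refine ⟨Y, fun χ hχ => hYB χ hχ, ?_, fun θ' hθ' ψ => ?_, fun χ hχ hχY ψ hψ => ?_, ?_, ?_, δ, fun χ _ => hδ χ,
    fun x hx θ' hθ' => ?_⟩
  · exact Finset.coe_nonempty.mpr (Finset.card_pos.mp (by rw [hYc]; exact hN1))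
  · rw [hset θ' ψ, hYorb θ' hθ', Finset.mem_coe]
  · have h := (hset χ ψ).mp hψ
    rwa [hXorb χ hχ hχY, Finset.mem_singleton] at h
  · rw [Nat.card_coe_set_eq, Set.ncard_coe_finset, hYc, ← hem]; exact dvd_mul_left _ _
  · rw [Nat.card_coe_set_eq (↑Y : Set (IrrCharacter G)), Set.ncard_coe_finset, hYc, ← hem,
      Nat.mul_div_cancel _ hN1, hBc, add_comm]
  · rw [Char.finsum_mem_irr, ← hrel x hx θ' hθ']
    congr 1
    refine Finset.sum_congr ?_ fun _ _ => rfl
    ext χ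
    simp

end Cfsg.Agent.S4507
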