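import Cfsg.Statements.S4508
import Cfsg.Agent.Lib.Char.SelfCentralizing
import Cfsg.Agent.Lib.Char.PrimeSylowPrincipal
import Cfsg.Agent.Lib.Char.BlockCount
import Cfsg.Agent.Lib.Char.BlockInter
import Cfsg.Agent.Lib.Char.LinearExt

set_option autoImplicit false
open Cfsg Cfsg.Agent.Char
open scoped Pointwise ComplexConjugate
open scoped ComplexConjugate

namespace Cfsg.Agent.S4508

/-- All irreducible characters of degree prime to `p` lie in the principal block. -/
theorem mem_principal_of_not_dvd {G : Type*} [Group G] [Fintype G] {p : ℕ} [Fact p.Prime]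
    {M : Ideal AlgInt} (hM : IsPModular p M) {x : G} (hx : orderOf x = p)
    (hC : Subgroup.centralizer ({x} : Set G) = Subgroup.zpowers x) (χ : IrrCharacter G)
    (hχ : ¬ p ∣ charDegree (χ : G → ℂ)) : χ ∈ principalBlock M G := by
  classical
  have hp : p.Prime := Fact.out
  obtain ⟨P, hP⟩ := SelfCent.exists_sylow hx hC
  have ha : 1 ≤ (Nat.card G).factorization p := by
    refine (hp.dvd_iff_one_le_factorization Nat.card_pos.ne').1 ?_
    rw [← hx]; exact orderOf_dvd_natCard x
  set ι := {B : Set (IrrCharacter G) // IsPBlock M B ∧ 1 ≤ blockDefect p B}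
  have hle : Nat.card ι ≤ 1 := by
    refine (card_blocks_ge_le hM 1).trans ?_
    rw [Finite.card_le_one_iff_subsingleton]
    have key : ∀ C : ConjClasses G, ¬ p ∣ orderOf C.out →
        1 ≤ (Nat.card (Subgroup.centralizer ({C.out} : Set G))).factorization p → C.out = 1 := by
      intro C hC1 hC2
      set g := C.out with hg
      obtain ⟨y, hy⟩ := exists_prime_orderOf_dvd_card' (G := Subgroup.centralizer ({g} : Set G)) p
        ((hp.dvd_iff_one_le_factorization Nat.card_pos.ne').2 hC2)
      have hyo : orderOf (y : G) = p := by rw [Subgroup.orderOf_coe, hy]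
      have hP1 : (Nat.card G).factorization p = 1 := Nat.pow_right_injective hp.two_le (by
        show p ^ _ = p ^ 1
        rw [← P.card_eq_multiplicity, pow_one]
        exact (congrArg (fun S : Subgroup G => Nat.card S) hP).trans (SelfCent.card_zp hx))
      let Q : Sylow p G := Sylow.ofCard (Subgroup.zpowers (y : G)) (by
        rw [Nat.card_zpowers, hyo, hP1, pow_one])
      obtain ⟨c, hc⟩ := MulAction.exists_smul_eq G Q P
      have hyx : c * y * c⁻¹ ∈ Subgroup.zpowers x := by
        rw [← hP, ← hc, Sylow.coe_subgroup_smul, Subgroup.mem_pointwise_smul_iff_inv_smul_mem]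
        have e : (MulAut.conj c)⁻¹ • (c * (y : G) * c⁻¹) = y := by simp [mul_assoc]
        rw [e]
        exact Subgroup.mem_zpowers (y : G)
      have hne : c * y * c⁻¹ ≠ 1 := fun h => hp.ne_one (by
        rw [← hyo, ← MulEquiv.orderOf_eq (MulAut.conj c) (y : G), MulAut.conj_apply, h, orderOf_one])
      have hgx : c * g * c⁻¹ ∈ Subgroup.zpowers x := by
        rw [← SelfCent.centralizer_eq_of_mem hx hC hyx hne, Subgroup.mem_centralizer_singleton_iff]
        have h := Subgroup.mem_centralizer_singleton_iff.1 y.2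
        calc c * g * c⁻¹ * (c * y * c⁻¹) = c * (g * y) * c⁻¹ := by group
          _ = _ := by rw [← h]; group
      have hd := orderOf_dvd_natCard (⟨_, hgx⟩ : Subgroup.zpowers x)
      rw [Subgroup.orderOf_mk, SelfCent.card_zp hx, ← MulAut.conj_apply, MulEquiv.orderOf_eq] at hd
      rcases (Nat.dvd_prime hp).1 hd with h | h
      · exact orderOf_eq_one_iff.1 h
      · exact absurd h.symm.dvd hC1
    refine ⟨fun a b => Subtype.ext ?_⟩
    exact (Quotient.out_eq a.1).symm.trans
      ((congrArg _ ((key _ a.2.1 a.2.2).trans (key _ b.2.1 b.2.2).symm)).trans (Quotient.out_eq b.1))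
  have hdef : ∀ (B : Set (IrrCharacter G)) (ψ : IrrCharacter G), ψ ∈ B →
      ¬ p ∣ charDegree (ψ : G → ℂ) → 1 ≤ blockDefect p B := by
    intro B ψ hψ hd
    have h0 : sInf ((fun χ : IrrCharacter G => (charDegree (χ : G → ℂ)).factorization p) '' B) = 0 :=
      Nat.sInf_eq_zero.2 (Or.inl ⟨ψ, hψ, Nat.factorization_eq_zero_of_not_dvd hd⟩)
    rw [blockDefect, h0, Nat.sub_zero]
    exact ha
  have hχB : χ ∈ blockOf M (χ : G → ℂ) := sameBlock_refl (pmod_prime hM) _
  haveI := Finite.card_le_one_iff_subsingleton.1 hle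
  have h := Subsingleton.elim (α := ι) ⟨blockOf M (χ : G → ℂ), ⟨χ, rfl⟩, hdef _ χ hχB hχ⟩
    ⟨principalBlock M G, isPBlock_principalBlock M, hdef _ _ (one_mem_principal hM)
      (by simp [charDegree, hp.ne_one])⟩
  have h' : blockOf M (χ : G → ℂ) = principalBlock M G := Subtype.ext_iff.1 h
  rw [← h']
  exact hχB

/-- The determinant at the generator of the automiser. -/
theorem det_gen {G : Type*} [Group G] [Fintype G] {p : ℕ} [Fact p.Prime] {x : G} (hx : orderOf x = p)
    (hC : Subgroup.centralizer ({x} : Set G) = Subgroup.zpowers x) {n : G}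
    (hn : n ∈ Subgroup.normalizer (Subgroup.zpowers x : Set G))
    (hfix : ∀ k : ℕ, n ^ k ∈ Subgroup.centralizer ({x} : Set G) → orderOf n ∣ k)
    {d t : ℕ} (ρ : Representation ℂ G (Fin d → ℂ))
    (hval : ∀ y ∈ Subgroup.zpowers x, y ≠ 1 → ρ.character y = -1)
    (hd : d + 1 = p) (hte : t * orderOf n = d) (ht : Odd t) (he : Even (orderOf n)) :
    LinearMap.det (ρ n) = -1 := by
  classical
  set X := Subgroup.zpowers x with hX
  haveI := Fintype.ofFinite X
  have hsum0 : ∑ y : X, ρ.character (y : G) = 0 := by
    rw [← Finset.add_sum_erase _ _ (Finset.mem_univ (1 : X)), Finset.sum_congr rfl (g := fun _ => (-1 : ℂ))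
      (fun y hy => hval _ y.2 (fun h => Finset.ne_of_mem_erase hy (Subtype.ext h))), Finset.sum_const,
      Finset.card_erase_of_mem (Finset.mem_univ _), Finset.card_univ, ← Nat.card_eq_fintype_card,
      hX, SelfCent.card_zp hx, OneMemClass.coe_one, Representation.char_one, Module.finrank_fin_fun,
      ← hd, Nat.add_sub_cancel, nsmul_eq_mul]
    ring
  -- the averaging projection vanishes
  set S : Module.End ℂ (Fin d → ℂ) := ∑ y : X, ρ (y : G) with hS
  have hS0 : S = 0 := by
    set T : Module.End ℂ (Fin d → ℂ) := (Fintype.card X : ℂ)⁻¹ • S with hT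
    have hSS : S * S = (Fintype.card X : ℂ) • S := by
      rw [hS, Finset.sum_mul, Finset.sum_congr rfl (g := fun _ => S) (fun y _ => ?_), Finset.sum_const,
        Finset.card_univ, ← hS, Nat.cast_smul_eq_nsmul]
      rw [Finset.mul_sum, hS]
      exact Fintype.sum_equiv (Equiv.mulLeft y) _ _ fun z => by
        rw [← map_mul]; rfl
    have hc0 : (Fintype.card X : ℂ) ≠ 0 := Nat.cast_ne_zero.mpr Fintype.card_ne_zero
    have hid : IsIdempotentElem T := by
      show T * T = T
      rw [hT, smul_mul_smul_comm, hSS, smul_smul, mul_assoc, inv_mul_cancel₀ hc0, mul_one]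
    have htr : LinearMap.trace ℂ _ T = 0 := by
      rw [hT, map_smul, hS, map_sum]
      show _ • ∑ y : X, ρ.character (y : G) = 0
      rw [hsum0, smul_zero]
    have hproj := (LinearMap.isProj_range_iff_isIdempotentElem T).2 hid
    rw [hproj.trace] at htr
    have hr : LinearMap.range T = ⊥ := Submodule.finrank_eq_zero.1 (by exact_mod_cast htr)
    have hT0 : T = 0 := LinearMap.range_eq_bot.1 hr
    rw [hT] at hT0
    exact (smul_eq_zero.1 hT0).resolve_left (inv_ne_zero hc0)
  have hzero : ∀ k : ℕ, ¬ orderOf n ∣ k → ρ.character (n ^ k) = 0 := by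
    intro k hk
    set h := n ^ k with hh
    have hhN : h ∈ Subgroup.normalizer (X : Set G) := pow_mem hn k
    let f : X → X := fun z => ⟨(z : G) * h * (z : G)⁻¹ * h⁻¹, by
      rw [show (z : G) * h * (z : G)⁻¹ * h⁻¹ = (z : G) * (h * (z : G)⁻¹ * h⁻¹) by group]
      exact mul_mem z.2 ((Subgroup.mem_normalizer_iff.1 hhN _).1 (inv_mem z.2))⟩
    have hf : Function.Bijective f := by
      refine (Finite.injective_iff_bijective).1 fun a b hab => ?_
      have h1 : (a : G) * h * (a : G)⁻¹ = (b : G) * h * (b : G)⁻¹ := mul_right_cancel (congrArg Subtype.val hab)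
      by_contra hne
      refine hk (hfix k ?_)
      rw [← hh, hC]
      have hm : h ∈ Subgroup.centralizer ({(b : G)⁻¹ * (a : G)} : Set G) := by
        rw [Subgroup.mem_centralizer_singleton_iff]
        calc h * ((b : G)⁻¹ * a) = (b : G)⁻¹ * ((b : G) * h * (b : G)⁻¹) * a := by group
          _ = _ := by rw [← h1]; group
      rwa [SelfCent.centralizer_eq_of_mem hx hC (mul_mem (inv_mem b.2) a.2)
        (fun h2 => hne (Subtype.ext (inv_mul_eq_one.1 h2).symm))] at hm
    have h2 : (Fintype.card X : ℂ) * ρ.character h = 0 := by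
      calc (Fintype.card X : ℂ) * ρ.character h
          = ∑ z : X, ρ.character ((f z : G) * h) := by
            rw [Finset.sum_congr rfl (g := fun _ => ρ.character h) (fun z _ => ?_), Finset.sum_const,
              Finset.card_univ, nsmul_eq_mul]
            show ρ.character ((z : G) * h * (z : G)⁻¹ * h⁻¹ * h) = _
            rw [inv_mul_cancel_right, Representation.char_conj]
        _ = ∑ y : X, ρ.character ((y : G) * h) :=
            Fintype.sum_equiv (Equiv.ofBijective f hf) _ _ fun z => rfl
        _ = LinearMap.trace ℂ _ (S * ρ h) := by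
            rw [hS, Finset.sum_mul, map_sum]
            simp only [Representation.character, map_mul]
        _ = 0 := by rw [hS0, zero_mul, map_zero]
    exact (mul_eq_zero.1 h2).resolve_left (Nat.cast_ne_zero.mpr Fintype.card_ne_zero)
  -- eigenvalues
  set e := orderOf n with he'
  have he0 : e ≠ 0 := (orderOf_pos n).ne'
  haveI : NeZero e := ⟨he0⟩
  obtain ⟨b, μ, hμ, hb⟩ := exists_eigenbasis_of_pow_eq_one (ρ n) e he0
    (by rw [← map_pow, he', pow_orderOf_eq_one, map_one])
  obtain ⟨ζ, hζ⟩ : ∃ ζ : ℂ, IsPrimitiveRoot ζ e := ⟨_, Complex.isPrimitiveRoot_exp e he0⟩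
  have hf' : ∀ i, ∃ j < e, ζ ^ j = μ i := fun i => hζ.eq_pow_of_pow_eq_one (hμ i)
  choose f hflt hf using hf'
  have hpow : ∀ (k : ℕ), ρ.character (n ^ k) = ∑ i, μ i ^ k := by
    intro k
    refine trace_of_eigenbasis b _ _ fun i => ?_
    rw [map_pow]
    induction k with
    | zero => simp
    | succ k ih => rw [pow_succ', Module.End.mul_apply, ih, map_smul, hb, smul_smul, pow_succ]
  have hζ0 : ζ ≠ 0 := hζ.ne_zero he0
  have hcount : ∀ j < e, (Finset.univ.filter fun i => f i = j).card = t := by
    intro j hj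
    have hrow : ∀ i, ∑ k ∈ Finset.range e, (μ i * (ζ ^ j)⁻¹) ^ k = if f i = j then (e : ℂ) else 0 := by
      intro i
      split_ifs with h
      · rw [← hf i, h, mul_inv_cancel₀ (pow_ne_zero _ hζ0)]
        simp
      · have hne : μ i * (ζ ^ j)⁻¹ ≠ 1 := fun h1 => h (hζ.pow_inj (hflt i) hj (by
          rw [hf i]; exact (mul_inv_eq_one₀ (pow_ne_zero _ hζ0)).1 h1))
        rw [geom_sum_eq hne, mul_pow, hμ, inv_pow, ← pow_mul, mul_comm j, pow_mul, hζ.pow_eq_one]
        simp
    have h1 : ((Finset.univ.filter fun i => f i = j).card : ℂ) * e = (t : ℂ) * e := by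
      calc ((Finset.univ.filter fun i => f i = j).card : ℂ) * e
          = ∑ i, if f i = j then (e : ℂ) else 0 := by
            rw [← Finset.sum_filter, Finset.sum_const, nsmul_eq_mul]
        _ = ∑ k ∈ Finset.range e, ((ζ ^ j)⁻¹) ^ k * ρ.character (n ^ k) := by
            rw [← Finset.sum_congr rfl (fun i _ => hrow i), Finset.sum_comm]
            refine Finset.sum_congr rfl fun k _ => ?_
            rw [hpow, Finset.mul_sum]
            exact Finset.sum_congr rfl fun i _ => by rw [mul_pow, mul_comm]
        _ = (t : ℂ) * e := by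
            rw [Finset.sum_eq_single 0 (fun k hk hk0 => by
              rw [hzero k (fun h => hk0 (Nat.eq_zero_of_dvd_of_lt h (Finset.mem_range.1 hk))), mul_zero])
              (fun h => absurd (Finset.mem_range.2 (Nat.pos_of_ne_zero he0)) h)]
            rw [pow_zero, pow_zero, one_mul, Representation.char_one, Module.finrank_fin_fun, ← hte]
            push_cast
            ring
    exact_mod_cast mul_right_cancel₀ (Nat.cast_ne_zero.mpr he0) h1
  have hsumf : ∑ i, f i = t * ∑ j ∈ Finset.range e, j := by
    rw [← Finset.sum_fiberwise_of_maps_to (t := Finset.range e) (g := f)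
      (fun i _ => Finset.mem_range.2 (hflt i)) f, Finset.mul_sum]
    refine Finset.sum_congr rfl fun j hj => ?_
    rw [Finset.sum_congr rfl (g := fun _ => j) (fun i hi => (Finset.mem_filter.1 hi).2), Finset.sum_const,
      hcount j (Finset.mem_range.1 hj), smul_eq_mul]
  obtain ⟨c, hc⟩ := he
  have hc0 : 0 < c := by omega
  have hce : ∑ j ∈ Finset.range e, j = c * (e - 1) := by
    have h := Finset.sum_range_id_mul_two e
    have h2 : c * (e - 1) * 2 = e * (e - 1) := by rw [hc]; ring
    omega
  have hhalf : ζ ^ c = -1 :=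
    (hζ.pow (Nat.pos_of_ne_zero he0) (show e = c * 2 by omega)).eq_neg_one_of_two_right
  rw [det_of_eigenbasis b _ μ hb, Finset.prod_congr rfl (fun i _ => (hf i).symm), Finset.prod_pow_eq_pow_sum,
    hsumf, hce, show t * (c * (e - 1)) = c * (t * (e - 1)) by ring, pow_mul, hhalf,
    (ht.mul (by rw [Nat.odd_iff]; omega)).neg_one_pow]


/-- Let the finite group G contain an element x of prime order p with C_G(x) = ⟨x⟩, and let t be the number of conjugacy classes of elements of order p. If G has an irreducible character of degree p − 1, then t is even or the commutator subgroup has even index. -/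
theorem result {G : Type*} [Group G] [Finite G] (p : ℕ) (hp : p.Prime) (x : G) (hx : orderOf x = p) (hC : Subgroup.centralizer ({x} : Set G) = Subgroup.zpowers x) (t : ℕ) (ht : Nat.card {C : ConjClasses G // ∃ g ∈ C.carrier, orderOf g = p} = t) (χ : Cfsg.IrrCharacter G) (hχ : Cfsg.charDegree (χ : G → ℂ) + 1 = p) : Even t ∨ Even (commutator G).index := by
  classical
  haveI : Fact p.Prime := ⟨hp⟩
  haveI := Fintype.ofFinite G
  set e := (Subgroup.zpowers x).relIndex (Subgroup.normalizer (Subgroup.zpowers x : Set G)) with he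
  have hcount := SelfCent.count_classes hx hC
  rw [ht, ← he] at hcount
  by_cases hp2 : p = 2
  · right
    have he1 : e = 1 := by
      have h := Dvd.intro_left t hcount
      rw [hp2] at h
      exact Nat.dvd_one.1 h
    rw [(SelfCent.exists_complement hx hC he1).1, hp2]
    exact even_two
  by_cases htodd : Even t
  · exact Or.inl htodd
  right
  rw [Nat.not_even_iff_odd] at htodd
  have hpodd : Odd p := hp.odd_of_ne_two hp2
  have heven : Even e := by
    have h : Even (t * e) := by rw [hcount]; exact Nat.Odd.sub_odd hpodd odd_one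
    exact (Nat.even_mul.1 h).resolve_left (Nat.not_even_iff_odd.2 htodd)
  obtain ⟨M, hM⟩ := exists_pModular hp
  obtain ⟨P, hP⟩ := SelfCent.exists_sylow hx hC
  have hPc : Nat.card P = p :=
    (congrArg (fun S : Subgroup G => Nat.card S) hP).trans (SelfCent.card_zp hx)
  have he' : (Subgroup.centralizer ((P : Subgroup G) : Set G)).relIndex
      (Subgroup.normalizer ((P : Subgroup G) : Set G)) = e := by
    have hcX : Subgroup.centralizer ((Subgroup.zpowers x : Subgroup G) : Set G) = Subgroup.zpowers x := by
      rw [centralizer_zpowers_eq, hC]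
    rw [hP, hcX]
  obtain ⟨X, Y, a, δ, hpp⟩ := exists_prime_principal hM hPc he'
  have hdeg : ¬ p ∣ charDegree (χ : G → ℂ) := fun h => hp.not_dvd_one
    ((Nat.dvd_add_right h).1 (by rw [hχ]))
  have hdegZ : (charDegree (χ : G → ℂ) : ℤ) = (p : ℤ) - 1 := by omega
  have hval : ∀ y ∈ Subgroup.zpowers x, y ≠ 1 → (χ : G → ℂ) y = -1 := by
    intro y hy hy1
    have hyP : (⟨y, hP ▸ hy⟩ : ↥(P : Subgroup G)) ∈ nonOne P := by
      rw [mem_nonOne]; exact hy1
    rcases (hpp.mem_iff χ).1 (mem_principal_of_not_dvd hM hx hC χ hdeg) with hX | hY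
    · have h1 := hpp.a_congr χ hX
      have h2 := hpp.a_val χ hX _ hyP
      rcases hpp.a_sign χ hX with h | h
      · exfalso
        rw [hdegZ, h, Int.modEq_iff_dvd] at h1
        have h3 : (p : ℤ) ∣ 2 := by
          have := dvd_add h1 (dvd_refl (p : ℤ))
          have e2 : (1 : ℤ) - ((p : ℤ) - 1) + p = 2 := by ring
          rwa [e2] at this
        exact hp2 ((Nat.prime_dvd_prime_iff_eq hp Nat.prime_two).1 (by exact_mod_cast h3))
      · rw [h] at h2
        simpa using h2
    · -- the exceptional family
      have h1 := hpp.congrY χ hY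
      rw [hdegZ, Int.modEq_iff_dvd] at h1
      have heP : (e : ℤ) ≤ (p : ℤ) - 1 := by
        have : e ≤ p - 1 := Nat.le_of_dvd (by have := hp.two_le; omega) (Dvd.intro_left t hcount)
        omega
      have ht1 : t = 1 := by
        have he2 : 2 ≤ e := by
          rcases heven with ⟨c, hc⟩
          have : e ≠ 0 := fun h0 => by rw [h0, mul_zero] at hcount; have := hp.two_le; omega
          omega
        have hep : e + 1 = p := by
          rcases hpp.sign with h | h
          · rw [h] at h1
            have h3 : (p : ℤ) ∣ ((e + 1 : ℕ) : ℤ) := by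
              obtain ⟨c, hc⟩ := h1
              exact ⟨c + 1, by push_cast; linarith⟩
            have h4 := Nat.le_of_dvd (Nat.succ_pos e) (Int.natCast_dvd_natCast.1 h3)
            omega
          · rw [h] at h1
            exfalso
            have h3 : (p : ℤ) ∣ ((e - 1 : ℕ) : ℤ) := by
              obtain ⟨c, hc⟩ := h1
              exact ⟨-(c + 1), by rw [Nat.cast_sub (by omega)]; push_cast; linarith⟩
            have h4 := Nat.le_of_dvd (by omega) (Int.natCast_dvd_natCast.1 h3)
            omega
        rw [show p - 1 = e by omega] at hcount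
        exact Nat.eq_of_mul_eq_mul_right (by omega : 0 < e) (hcount.trans (one_mul e).symm)
      -- all elements of order `p` are conjugate
      haveI hsub : Subsingleton {C : ConjClasses G // ∃ g ∈ C.carrier, orderOf g = p} :=
        Finite.card_le_one_iff_subsingleton.1 (by rw [ht, ht1])
      have hord : ∀ z ∈ Subgroup.zpowers x, z ≠ 1 → orderOf z = p := fun z hz hz1 => by
        have h := orderOf_dvd_natCard (⟨z, hz⟩ : Subgroup.zpowers x)
        rw [Subgroup.orderOf_mk, SelfCent.card_zp hx] at h
        exact ((Nat.dvd_prime hp).1 h).resolve_left (fun h => hz1 (orderOf_eq_one_iff.1 h))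
      have hconst : ∀ z ∈ Subgroup.zpowers x, z ≠ 1 → (χ : G → ℂ) z = (χ : G → ℂ) y := by
        intro z hz hz1
        have h := congrArg Subtype.val (Subsingleton.elim
          (α := {C : ConjClasses G // ∃ g ∈ C.carrier, orderOf g = p})
          ⟨ConjClasses.mk z, z, ConjClasses.mem_carrier_mk, hord z hz hz1⟩
          ⟨ConjClasses.mk y, y, ConjClasses.mem_carrier_mk, hord y hy hy1⟩)
        obtain ⟨c, hc⟩ := isConj_iff.1 (ConjClasses.mk_eq_mk_iff_isConj.1 h)
        rw [← hc, isClassFunction_character (irr_isCharacter χ.2)]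
      obtain ⟨q, hq⟩ := exists_sum_on_sylow (P := P) χ
      rw [hPc, ← Finset.add_sum_erase _ _ (Finset.mem_univ (1 : ↥(P : Subgroup G))),
        Finset.sum_congr rfl (g := fun _ => (χ : G → ℂ) y) (fun z hz =>
          hconst _ (hP ▸ z.2) (fun h => Finset.ne_of_mem_erase hz (Subtype.ext h))), Finset.sum_const,
        Finset.card_erase_of_mem (Finset.mem_univ _), Finset.card_univ, ← Nat.card_eq_fintype_card, hPc,
        OneMemClass.coe_one, char_one_eq_deg (irr_isCharacter χ.2), nsmul_eq_mul] at hq
      have hdegC : (deg (χ : G → ℂ) : ℂ) = (p : ℂ) - 1 := by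
        rw [show deg (χ : G → ℂ) = charDegree (χ : G → ℂ) from rfl]
        exact eq_sub_of_add_eq (by exact_mod_cast congrArg (fun m : ℕ => (m : ℂ)) hχ)
      rw [hdegC, Nat.cast_sub hp.one_le, Nat.cast_one] at hq
      set v := (χ : G → ℂ) y with hv
      have hp10 : ((p : ℂ) - 1) ≠ 0 := sub_ne_zero.2 (by exact_mod_cast hp.ne_one)
      have hvint : IsIntegral ℤ v := char_isIntegral (irr_isCharacter χ.2) y
      obtain ⟨m, hm⟩ : ∃ m : ℤ, v = (m : ℂ) := by
        have hveq : v = ((((p : ℚ) * q - ((p : ℚ) - 1)) / ((p : ℚ) - 1) : ℚ) : ℂ) := by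
          push_cast
          rw [eq_div_iff hp10]
          linear_combination hq
        set r : ℚ := ((p : ℚ) * q - ((p : ℚ) - 1)) / ((p : ℚ) - 1)
        rw [hveq] at hvint
        obtain ⟨z, hz⟩ := IsIntegrallyClosed.isIntegral_iff.mp
          ((isIntegral_algebraMap_iff (B := ℂ) (algebraMap ℚ ℂ).injective).1 hvint)
        exact ⟨z, by rw [hveq, ← hz]; simp⟩
      rw [hm] at hq
      have hZ : ((p : ℤ) - 1) + ((p : ℤ) - 1) * m = (p : ℤ) * q := by exact_mod_cast hq
      -- column orthogonality bounds `m`
      have hb := second_orth y y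
      rw [if_pos (IsConj.refl y)] at hb
      have hcy : (Nat.card G : ℂ) / Nat.card {z : G // IsConj y z} = (p : ℂ) := by
        rw [div_eq_iff (Nat.cast_ne_zero.mpr (card_conjClass_ne_zero y))]
        have h1 := Subgroup.card_mul_index (Subgroup.centralizer ({y} : Set G))
        rw [← card_conjClass_eq_index, SelfCent.centralizer_eq_of_mem hx hC hy hy1, SelfCent.card_zp hx] at h1
        exact_mod_cast h1.symm
      rw [hcy] at hb
      have hb' := congrArg Complex.re hb
      rw [Complex.re_sum] at hb'
      simp only [Complex.mul_conj, Complex.ofReal_re, Complex.natCast_re] at hb'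
      have hle : Complex.normSq v ≤ (p : ℝ) := by
        rw [← hb', hv]
        exact Finset.single_le_sum (f := fun ψ : IrrCharacter G => Complex.normSq ((ψ : G → ℂ) y))
          (fun ψ _ => Complex.normSq_nonneg _) (Finset.mem_univ χ)
      rw [hm, Complex.normSq_intCast] at hle
      have hm2 : m * m ≤ (p : ℤ) := by exact_mod_cast hle
      have hp3 : (3 : ℤ) ≤ p := by have := hp.two_le; omega
      rcases Nat.eq_zero_or_pos q with rfl | hq0
      · rw [hm]
        have hm1 : m = -1 := by
          have : ((p : ℤ) - 1) * (m + 1) = 0 := by push_cast at hZ; linarith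
          rcases mul_eq_zero.1 this with h | h <;> omega
        simp [hm1]
      · exfalso
        have hq1 : (1 : ℤ) ≤ q := by exact_mod_cast hq0
        have hm1 : 1 ≤ m := by
          by_contra h
          have : m + 1 ≤ 1 := by omega
          nlinarith
        have hdvd : ((p : ℤ) - 1) ∣ q := by
          have h1 : ((p : ℤ) - 1) ∣ (p : ℤ) * q - ((p : ℤ) - 1) * q :=
            dvd_sub (hZ ▸ dvd_add (dvd_refl _) (dvd_mul_right _ _)) (dvd_mul_right _ _)
          have e2 : (p : ℤ) * q - ((p : ℤ) - 1) * q = q := by ring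
          rwa [e2] at h1
        have := Int.le_of_dvd (by omega) hdvd
        have hmp : (p : ℤ) - 1 ≤ m := by nlinarith
        nlinarith
  obtain ⟨n, hn, hno, hfix⟩ := SelfCent.exists_gen hx hC
  rw [← he] at hno
  obtain ⟨d, ρ, hρ⟩ := irr_isCharacter χ.2
  have hd : d + 1 = p := by
    have h1 := char_one_eq_dim ρ hρ
    rw [char_one_eq_deg (irr_isCharacter χ.2), Nat.cast_inj] at h1
    rw [← h1]; exact hχ
  have hdet := det_gen hx hC hn hfix ρ (fun y hy hy1 => by rw [hρ]; exact hval y hy hy1) hd (t := t)
    (by rw [hno, hcount]; omega) htodd (by rw [hno]; exact heven)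
  have hl : Abelianization.lift (detHom ρ) (Abelianization.of n) = -1 := by
    rw [Abelianization.lift_apply_of]
    exact Units.ext (by rw [detHom_apply, hdet]; simp)
  have h2 : orderOf (-1 : ℂˣ) = 2 := orderOf_eq_prime (by simp) (fun h => by
    have := congrArg Units.val h
    norm_num at this)
  have h3 := (orderOf_map_dvd (Abelianization.lift (detHom ρ)) (Abelianization.of n)).trans
    (orderOf_dvd_natCard _)
  rw [hl, h2] at h3
  exact even_iff_two_dvd.2 h3

end Cfsg.Agent.S4508
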