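import Cfsg.Statements.S4509
import Cfsg.Agent.Lib.Char.SelfCentralizing
import Cfsg.Agent.Lib.Fusion.Cores
import Cfsg.Agent.Lib.Solv.Cores
import Cfsg.Agent.S4496
import Cfsg.Agent.S4497

set_option autoImplicit false
open Cfsg Cfsg.Agent.Char
open scoped Pointwise commutatorElement
open scoped ComplexConjugate

namespace Cfsg.Agent.S4509

/-- Let the finite group G contain an element x of prime order p with C_G(x) = ⟨x⟩; let t be the number of conjugacy classes of elements of order p and 1 + n·p the number of subgroups of order p. Then G has a normal subgroup of order 1 + n·p if and only if either t = p − 1, or t < p − 1 and G″ ≠ G′. Moreover, if t = p − 1 then G′ has order 1 + n·p and G/G′ is cyclic of order p; and if t < p − 1 and G″ ≠ G′ then G″ has order 1 + n·p and G′ has order p·(1 + n·p). -/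
theorem result {G : Type*} [Group G] [Finite G] (p : ℕ) (hp : p.Prime) (x : G) (hx : orderOf x = p) (hC : Subgroup.centralizer ({x} : Set G) = Subgroup.zpowers x) (t : ℕ) (ht : Nat.card {C : ConjClasses G // ∃ g ∈ C.carrier, orderOf g = p} = t) (n : ℕ) (hn : Nat.card {H : Subgroup G // Nat.card H = p} = 1 + n * p) : ((∃ S : Subgroup G, S.Normal ∧ Nat.card S = 1 + n * p) ↔ (t = p - 1 ∨ (t < p - 1 ∧ derivedSeries G 2 ≠ derivedSeries G 1))) ∧ (t = p - 1 → Nat.card (commutator G) = 1 + n * p ∧ IsCyclic (G ⧸ commutator G) ∧ (commutator G).index = p) ∧ (t < p - 1 → derivedSeries G 2 ≠ derivedSeries G 1 → Nat.card (derivedSeries G 2) = 1 + n * p ∧ Nat.card (commutator G) = p * (1 + n * p)) := by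
  classical
  haveI : Fact p.Prime := ⟨hp⟩
  have hp2 := hp.two_le
  set X := Subgroup.zpowers x with hX
  set N := Subgroup.normalizer (X : Set G) with hN
  set e := X.relIndex N with he
  have hcount := SelfCent.count_classes hx hC
  rw [ht, ← hX, ← hN, ← he] at hcount
  obtain ⟨P, hP⟩ := SelfCent.exists_sylow hx hC
  have hPc : Nat.card (P : Subgroup G) = p :=
    (congrArg (fun S : Subgroup G => Nat.card S) hP).trans (SelfCent.card_zp hx)
  -- the number of subgroups of order `p`
  have hidx : N.index = 1 + n * p := by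
    rw [← hn]
    let eq : Sylow p G ≃ {H : Subgroup G // Nat.card H = p} :=
      { toFun := fun Q => ⟨Q, by
          obtain ⟨g, rfl⟩ := MulAction.exists_smul_eq G P Q
          exact (Nat.card_congr (Sylow.equiv (g • P) P).toEquiv).trans hPc⟩
        invFun := fun H => Sylow.ofCard H.1 (by rw [← P.card_eq_multiplicity]; exact H.2.trans hPc.symm)
        left_inv := fun Q => Sylow.ext rfl
        right_inv := fun H => Subtype.ext rfl }
    rw [← Nat.card_congr eq, Sylow.card_eq_index_normalizer P]
    show N.index = (Subgroup.normalizer ((P : Subgroup G) : Set G)).index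
    rw [hP]
  have hNc : Nat.card N = p * e := by
    rw [he, ← SelfCent.card_zp hx, ← hX]
    have := Subgroup.card_mul_index (X.subgroupOf N)
    rwa [Nat.card_congr (Subgroup.subgroupOfEquivOfLe (SelfCent.le_normalizer (x := x))).toEquiv,
      ← Subgroup.relIndex, eq_comm] at this
  -- normal subgroups of order prime to `p` meet `N` trivially
  have hinf : ∀ (K : Subgroup G) [K.Normal], ¬ p ∣ Nat.card K → ∀ w ∈ K, w ∈ N → w = 1 := by
    intro K _ hK w hw hwN
    have hdisj : ∀ c ∈ K, c ∈ X → c = 1 := fun c h1 h2 => by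
      have hd1 := orderOf_dvd_natCard (⟨c, h2⟩ : Subgroup.zpowers x)
      have hd2 := orderOf_dvd_natCard (⟨c, h1⟩ : K)
      rw [Subgroup.orderOf_mk, SelfCent.card_zp hx] at hd1
      rw [Subgroup.orderOf_mk] at hd2
      exact orderOf_eq_one_iff.1 (Nat.eq_one_of_dvd_coprimes (hp.coprime_iff_not_dvd.2 hK) hd1 hd2)
    have h1 : w * x * w⁻¹ * x⁻¹ ∈ X :=
      mul_mem ((Subgroup.mem_normalizer_iff.1 hwN x).1 (Subgroup.mem_zpowers x)) (inv_mem (Subgroup.mem_zpowers x))
    have h2 : w * x * w⁻¹ * x⁻¹ ∈ K := by
      rw [show w * x * w⁻¹ * x⁻¹ = w * (x * w⁻¹ * x⁻¹) by group]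
      exact mul_mem hw (Subgroup.Normal.conj_mem inferInstance _ (inv_mem hw) x)
    have h3 : w ∈ Subgroup.centralizer ({x} : Set G) := by
      rw [Subgroup.mem_centralizer_singleton_iff]
      calc w * x = w * x * w⁻¹ * x⁻¹ * (x * w) := by group
        _ = x * w := by rw [hdisj _ h2 h1, one_mul]
    exact hdisj w hw (hC ▸ h3)
  -- the case of a self-normalizing subgroup
  have hone : t = p - 1 → Nat.card (commutator G) = 1 + n * p ∧ IsCyclic (G ⧸ commutator G) ∧
      (commutator G).index = p := by
    intro htp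
    have he1 : e = 1 := by
      rw [htp] at hcount
      exact Nat.eq_of_mul_eq_mul_left (by omega) (hcount.trans (mul_one _).symm)
    obtain ⟨hi, -⟩ := SelfCent.exists_complement hx hC he1
    refine ⟨?_, isCyclic_of_prime_card (p := p) (by rw [← Subgroup.index_eq_card, hi]), hi⟩
    have h1 := Subgroup.card_mul_index (commutator G)
    rw [hi, ← Subgroup.card_mul_index N, hNc, he1, mul_one, hidx, mul_comm p] at h1
    exact Nat.eq_of_mul_eq_mul_right hp.pos h1
  have hd2 : derivedSeries G 2 = ⁅commutator G, commutator G⁆ := by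
    rw [show (2 : ℕ) = 1 + 1 from rfl, derivedSeries_succ, derivedSeries_one]
  have hd1 : derivedSeries G 1 = commutator G := derivedSeries_one G
  have hlt : t < p - 1 → e ≠ 1 := fun h h1 => by rw [h1, mul_one] at hcount; omega
  have htwo : t < p - 1 → derivedSeries G 2 ≠ derivedSeries G 1 →
      Nat.card (derivedSeries G 2) = 1 + n * p ∧ Nat.card (commutator G) = p * (1 + n * p) := by
    intro htl hne
    have hxc := SelfCent.mem_commutator hx hC (hlt htl)
    rw [hd1, hd2] at hne
    rw [hd2]
    set H := commutator G with hH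
    haveI : (⁅H, H⁆ : Subgroup G).Normal := inferInstance
    have hpd : ¬ p ∣ Nat.card (⁅H, H⁆ : Subgroup G) := fun h => hne
      (le_antisymm (Subgroup.commutator_le_left H H) ((Cfsg.Agent.S4496.result p hp x hx hC _).1 h))
    set K := pPrimeCore p G with hK
    haveI : K.Normal := Cfsg.Agent.Solv.pPrimeCore_normal p
    have hKp : ¬ p ∣ Nat.card K := fun h => hp.ne_one
      (Nat.eq_one_of_dvd_coprimes (Cfsg.Agent.Fusion.card_pPrimeCore_coprime p G) h dvd_rfl)
    obtain ⟨hKH, hsimple, -⟩ := Cfsg.Agent.S4497.result p hp x hx hC t ht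
    have hsim := hsimple (by omega) inferInstance
    have hdK : (⁅H, H⁆ : Subgroup G) ≤ K := Cfsg.Agent.Fusion.le_pPrimeCore
      (Nat.coprime_comm.1 (hp.coprime_iff_not_dvd.2 hpd))
    have hKd : K ≤ ⁅H, H⁆ := by
      have hmem : ∀ k : K, ⁅(k : G), x⁆ ∈ K := fun k => by
        rw [commutatorElement_def, show (k : G) * x * (k : G)⁻¹ * x⁻¹ = (k : G) * (x * (k : G)⁻¹ * x⁻¹) by group]
        exact mul_mem k.2 (Subgroup.Normal.conj_mem inferInstance _ (inv_mem k.2) x)
      let f : K → K := fun k => ⟨⁅(k : G), x⁆, hmem k⟩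
      have hf : Function.Injective f := fun a b hab => by
        have h1 : (a : G) * x * (a : G)⁻¹ = (b : G) * x * (b : G)⁻¹ := by
          have := congrArg Subtype.val hab
          simp only [f, commutatorElement_def] at this
          exact mul_right_cancel this
        have h2 : (b : G)⁻¹ * a ∈ Subgroup.centralizer ({x} : Set G) := by
          rw [Subgroup.mem_centralizer_singleton_iff]
          calc (b : G)⁻¹ * a * x = (b : G)⁻¹ * ((a : G) * x * (a : G)⁻¹) * a := by group
            _ = x * ((b : G)⁻¹ * a) := by rw [h1]; group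
        exact Subtype.ext (inv_mul_eq_one.1 (hinf K hKp _ (mul_mem (inv_mem b.2) a.2)
          (SelfCent.le_normalizer (hC.le h2)))).symm
      intro k hk
      obtain ⟨a, ha⟩ := Finite.injective_iff_surjective.1 hf ⟨k, hk⟩
      rw [← show ⁅(a : G), x⁆ = k from congrArg Subtype.val ha]
      exact Subgroup.commutator_mem_commutator (hKH a.2) hxc
    rw [show (⁅H, H⁆ : Subgroup G) = K from le_antisymm hdK hKd]
    set K' := K.subgroupOf H with hK'
    letI : CommGroup (↥H ⧸ K') :=
      { (inferInstance : Group (↥H ⧸ K')) with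
        mul_comm := by
          intro a b
          obtain ⟨u, rfl⟩ := QuotientGroup.mk_surjective a
          obtain ⟨v, rfl⟩ := QuotientGroup.mk_surjective b
          rw [← QuotientGroup.mk_mul, ← QuotientGroup.mk_mul, QuotientGroup.eq, Subgroup.mem_subgroupOf]
          rw [show (((u * v)⁻¹ * (v * u) : H) : G) = ⁅((v : G))⁻¹, ((u : G))⁻¹⁆ by
            simp [commutatorElement_def, mul_assoc]]
          exact hdK (Subgroup.commutator_mem_commutator (inv_mem v.2) (inv_mem u.2)) }
    have hprime : (Nat.card (↥H ⧸ K')).Prime := by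
      haveI : IsSimpleGroup (↥H ⧸ K') := hsim
      exact IsSimpleGroup.prime_card
    have hcardq : Nat.card (↥H ⧸ K') = p := by
      refine ((Nat.prime_dvd_prime_iff_eq hp hprime).1 ?_).symm
      have h1 : orderOf (QuotientGroup.mk ⟨x, hxc⟩ : ↥H ⧸ K') = p := by
        refine orderOf_eq_prime ?_ fun h => ?_
        · rw [← QuotientGroup.mk_pow]
          rw [show (⟨x, hxc⟩ : H) ^ p = 1 from Subtype.ext (by rw [SubmonoidClass.coe_pow]; show x ^ p = 1; rw [← hx, pow_orderOf_eq_one])]
          rfl
        · have h2 := Subgroup.mem_subgroupOf.1 ((QuotientGroup.eq_one_iff (N := K') _).1 h)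
          have hd := orderOf_dvd_natCard (⟨x, h2⟩ : K)
          rw [Subgroup.orderOf_mk, hx] at hd
          exact hKp hd
      rw [← h1]
      exact orderOf_dvd_natCard _
    have hHc : Nat.card H = Nat.card K * p := by
      rw [Subgroup.card_eq_card_quotient_mul_card_subgroup K', hcardq,
        Nat.card_congr (Subgroup.subgroupOfEquivOfLe hKH).toEquiv, mul_comm]
    -- Frattini
    have hfr : N ⊔ H = ⊤ := by
      have h2 : Subgroup.normalizer ((P : Subgroup G) : Set G) ⊔ H = ⊤ :=
        Sylow.normalizer_sup_eq_top' P (hP.trans_le (Subgroup.zpowers_le.2 hxc))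
      rwa [hP] at h2
    have htop : N ⊔ K = ⊤ := by
      rw [eq_top_iff, ← hfr]
      refine sup_le le_sup_left fun w hw => ?_
      -- `H = X K`
      have hle : X ⊔ K ≤ H := sup_le (Subgroup.zpowers_le.2 hxc) hKH
      have heq : X ⊔ K = H := by
        refine Subgroup.eq_of_le_of_card_ge hle ?_
        have hn' : X ≤ Subgroup.normalizer (K : Set G) := by
          rw [Subgroup.normalizer_eq_top]; exact le_top
        have h := Cfsg.Agent.Solv.card_sup_mul_card_inf' K X hn'
        have hbot : K ⊓ X = ⊥ := by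
          rw [Subgroup.eq_bot_iff_forall]
          rintro c ⟨h1, h2⟩
          exact hinf _ hKp c h1 (SelfCent.le_normalizer h2)
        rw [hbot, Subgroup.card_bot, mul_one, SelfCent.card_zp hx, sup_comm] at h
        rw [hHc, h]
      exact sup_le_sup_right (SelfCent.le_normalizer (x := x)) _ (heq.ge hw)
    have hcardK : Nat.card K = N.index := by
      have hn' : N ≤ Subgroup.normalizer (K : Set G) := by
        rw [Subgroup.normalizer_eq_top]; exact le_top
      have h := Cfsg.Agent.Solv.card_sup_mul_card_inf' K N hn'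
      have hbot : K ⊓ N = ⊥ := by
        rw [Subgroup.eq_bot_iff_forall]
        rintro c ⟨h1, h2⟩
        exact hinf _ hKp c h1 h2
      rw [hbot, Subgroup.card_bot, mul_one, sup_comm, htop, Subgroup.card_top,
        ← Subgroup.card_mul_index N, mul_comm (Nat.card K)] at h
      exact (Nat.eq_of_mul_eq_mul_left Nat.card_pos h).symm
    exact ⟨hcardK.trans hidx, by rw [hHc, hcardK, hidx, mul_comm]⟩
  refine ⟨⟨?_, ?_⟩, hone, htwo⟩
  · rintro ⟨S, hS, hSc⟩
    haveI := hS
    have hple : t ≤ p - 1 := hcount ▸ Nat.le_mul_of_pos_right t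
      (Nat.pos_of_ne_zero fun h => by rw [h, mul_zero] at hcount; omega)
    rcases hple.eq_or_lt with h | h
    · exact Or.inl h
    refine Or.inr ⟨h, ?_⟩
    rw [hd1, hd2]
    intro heq
    have hSp : ¬ p ∣ Nat.card S := by
      rw [hSc]
      intro hd
      exact hp.not_dvd_one ((Nat.dvd_add_left (dvd_mul_left p n)).1 hd)
    have hSN : S ⊔ N = ⊤ := by
      refine Subgroup.eq_top_of_card_eq _ ?_
      have hn' : N ≤ Subgroup.normalizer (S : Set G) := by rw [Subgroup.normalizer_eq_top]; exact le_top
      have hc := Cfsg.Agent.Solv.card_sup_mul_card_inf' S N hn'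
      have hbot : S ⊓ N = ⊥ := by
        rw [Subgroup.eq_bot_iff_forall]
        rintro c ⟨h1, h2⟩
        exact hinf _ hSp c h1 h2
      rw [hbot, Subgroup.card_bot, mul_one, hSc, ← hidx, mul_comm, Subgroup.card_mul_index] at hc
      exact hc
    -- commutators of elements of `N` lie in `X`
    haveI : ((X ⊔ S : Subgroup G)).Normal := by
      refine Subgroup.normalizer_eq_top_iff.1 (top_unique (hSN.ge.trans (sup_le ?_ ?_)))
      · exact le_sup_right.trans Subgroup.le_normalizer
      · intro w hw
        rw [Subgroup.mem_normalizer_iff]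
        intro z
        constructor
        · intro hz
          have : z ∈ ((X ⊔ S : Subgroup G) : Set G) := hz
          rw [Subgroup.mul_normal] at this
          obtain ⟨a, ha, s, hs, rfl⟩ := this
          rw [show w * (a * s) * w⁻¹ = (w * a * w⁻¹) * (w * s * w⁻¹) by group]
          exact mul_mem (Subgroup.mem_sup_left ((Subgroup.mem_normalizer_iff.1 hw a).1 ha))
            (Subgroup.mem_sup_right (hS.conj_mem s hs w))
        · intro hz
          have : w * z * w⁻¹ ∈ ((X ⊔ S : Subgroup G) : Set G) := hz
          rw [Subgroup.mul_normal] at this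
          obtain ⟨a, ha, s, hs, has⟩ := this
          have ez : z = (w⁻¹ * a * w) * (w⁻¹ * s * w) := by
            calc z = w⁻¹ * (w * z * w⁻¹) * w := by group
              _ = _ := by rw [← (show a * s = w * z * w⁻¹ from has)]; group
          rw [ez]
          refine mul_mem (Subgroup.mem_sup_left ?_) (Subgroup.mem_sup_right ?_)
          · have := (Subgroup.mem_normalizer_iff.1 (inv_mem hw) a).1 ha
            rwa [inv_inv] at this
          · have := hS.conj_mem s hs w⁻¹
            rwa [inv_inv] at this
    have hH1 : commutator G ≤ X ⊔ S := by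
      refine (Cfsg.Agent.S4496.result p hp x hx hC (X ⊔ S)).1 ?_
      have := orderOf_dvd_natCard (⟨x, Subgroup.mem_sup_left (Subgroup.mem_zpowers x)⟩ : (X ⊔ S : Subgroup G))
      rwa [Subgroup.orderOf_mk, hx] at this
    have hH2 : (⁅commutator G, commutator G⁆ : Subgroup G) ≤ S := by
      rw [Subgroup.commutator_le]
      intro u hu v hv
      have hu' : u ∈ ((X ⊔ S : Subgroup G) : Set G) := hH1 hu
      have hv' : v ∈ ((X ⊔ S : Subgroup G) : Set G) := hH1 hv
      rw [Subgroup.mul_normal] at hu' hv'
      obtain ⟨a, ha, s, hs, rfl⟩ := hu'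
      obtain ⟨b, hb, r, hr, rfl⟩ := hv'
      obtain ⟨i, rfl⟩ := ha
      obtain ⟨j, rfl⟩ := hb
      rw [← QuotientGroup.eq_one_iff, commutatorElement_def]
      simp only [QuotientGroup.mk_mul, QuotientGroup.mk_inv, (QuotientGroup.eq_one_iff (N := S) s).2 hs,
        (QuotientGroup.eq_one_iff (N := S) r).2 hr, mul_one, QuotientGroup.mk_zpow]
      group
    have hxS := hH2 (heq ▸ SelfCent.mem_commutator hx hC (hlt h))
    have := orderOf_dvd_natCard (⟨x, hxS⟩ : S)
    rw [Subgroup.orderOf_mk, hx] at this
    exact hSp this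
  · rintro (h | ⟨h, hne⟩)
    · exact ⟨commutator G, inferInstance, (hone h).1⟩
    · exact ⟨derivedSeries G 2, derivedSeries_normal G 2, (htwo h hne).1⟩

end Cfsg.Agent.S4509
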