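import Cfsg.Statements.S4513
import Cfsg.Agent.Lib.Char.CentralRank
import Cfsg.Agent.Lib.Char.Contribution
import Cfsg.Agent.Lib.Char.FirstMainInduced
import Cfsg.Agent.Lib.Char.SectionNorm

set_option autoImplicit false
open Cfsg
open scoped ComplexConjugate

namespace Cfsg.Agent.S4513

/-- Blocks of defect one for p = 2. Let M be a maximal ideal of the algebraic integers containing 2, B a 2-block of the finite group G whose defect group is the subgroup generated by an involution x, C = C_G(x), b a block of C inducing B and θ a member of b taking the same value at x as at 1 (there is exactly one). Then B consists of exactly two irreducible characters, which agree on every element of odd order, and they can be labelled χ₁, χ₂ with signs ε₁, ε₂ = ±1, ε₁ε₂ = −1, such that χᵢ(x y) = εᵢ θ(y) for every element y of C of odd order. -/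
theorem result {G : Type*} [Group G] [Finite G] (M : Ideal Cfsg.AlgInt) (hM : Cfsg.IsPModular 2 M) (x : G) (hx : orderOf x = 2)
    (B : Set (Cfsg.IrrCharacter G)) (hB : Cfsg.IsPBlock M B) (hBD : Cfsg.IsDefectGroup 2 M B (Subgroup.zpowers x))
    (b : Set (Cfsg.IrrCharacter ↥(Subgroup.centralizer ({x} : Set G)))) (hb : Cfsg.IsInducedBlock M (Subgroup.centralizer ({x} : Set G)) b B)
    (θ : Cfsg.IrrCharacter ↥(Subgroup.centralizer ({x} : Set G))) (hθ : θ ∈ b)
    (hθx : ∀ z : ↥(Subgroup.centralizer ({x} : Set G)), (z : G) = x → (θ : ↥(Subgroup.centralizer ({x} : Set G)) → ℂ) z = (θ : ↥(Subgroup.centralizer ({x} : Set G)) → ℂ) 1) :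
    Nat.card B = 2 ∧ (∀ χ ∈ B, ∀ ψ ∈ B, ∀ g : G, ¬ 2 ∣ orderOf g → (χ : G → ℂ) g = (ψ : G → ℂ) g) ∧
      ∃ χ₁ ∈ B, ∃ χ₂ ∈ B, χ₁ ≠ χ₂ ∧ ∃ ε₁ ε₂ : ℤ, (ε₁ = 1 ∨ ε₁ = -1) ∧ (ε₂ = 1 ∨ ε₂ = -1) ∧ ε₁ * ε₂ = -1 ∧
        ∀ y : ↥(Subgroup.centralizer ({x} : Set G)), ¬ 2 ∣ orderOf y →
          (χ₁ : G → ℂ) (x * y) = (ε₁ : ℂ) * (θ : ↥(Subgroup.centralizer ({x} : Set G)) → ℂ) y ∧ (χ₂ : G → ℂ) (x * y) = (ε₂ : ℂ) * (θ : ↥(Subgroup.centralizer ({x} : Set G)) → ℂ) y := by
  classical
  have := Fintype.ofFinite G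
  have := Fintype.ofFinite ↥(Subgroup.centralizer ({x} : Set G))
  have hP := Char.pmod_prime hM
  have hp := hM.1
  have hxk : ∃ k : ℕ, orderOf x = 2 ^ k := ⟨1, by rw [hx, pow_one]⟩
  have hxm : x ∈ Subgroup.centralizer ({x} : Set G) := Subgroup.mem_centralizer_singleton_iff.mpr rfl
  let x' : ↥(Subgroup.centralizer ({x} : Set G)) := ⟨x, hxm⟩
  have hxc : ∀ c : ↥(Subgroup.centralizer ({x} : Set G)), x' * c = c * x' := fun c =>
    Subtype.ext (Char.cent_mul_comm c)
  have hZ : Subgroup.zpowers x' ≤ Subgroup.center ↥(Subgroup.centralizer ({x} : Set G)) :=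
    Subgroup.zpowers_le.mpr (Subgroup.mem_center_iff.mpr fun c => (hxc c).symm)
  have : (Subgroup.zpowers x').Normal := ⟨fun z hz g => by
    rw [Subgroup.mem_center_iff.mp (hZ hz) g]; simpa using hz⟩
  have hx'2 : orderOf x' = 2 := by rw [Subgroup.orderOf_mk, hx]
  have hZc : Nat.card (Subgroup.zpowers x') = 2 := by rw [Nat.card_zpowers, hx'2]
  have hZ2 : IsPGroup 2 (Subgroup.zpowers x') := IsPGroup.of_card (n := 1) (by rw [hZc, pow_one])
  have hDcard : ∀ E, Cfsg.IsDefectGroup 2 M B E → Nat.card E = 2 := fun E hE => by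
    rw [Char.card_defectGroup hM hB hE, ← Char.card_defectGroup hM hB hBD, Nat.card_zpowers, hx]
  -- the blocks of the centralizer inducing `B`
  have hdef : ∀ c, Cfsg.IsInducedBlock M (Subgroup.centralizer ({x} : Set G)) c B →
      Cfsg.IsDefectGroup 2 M c (Subgroup.zpowers x') := by
    intro c hc
    obtain ⟨D, hD⟩ := Char.exists_isDefectGroup hM hc.1
    obtain ⟨E, hE, hle⟩ := Char.induced_defect_le hM hc hD
    have hZD : Subgroup.zpowers x' ≤ D := Char.pCore_le_defectGroup hM hc.1 hD _ hZ2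
    have h2 : Nat.card D ≤ 2 := by
      rw [← hDcard E hE, ← Subgroup.card_map_of_injective
        (Subgroup.subtype_injective (Subgroup.centralizer ({x} : Set G)))]
      exact Nat.le_of_dvd Nat.card_pos (Subgroup.card_dvd_of_le hle)
    rwa [Subgroup.eq_of_le_of_card_ge hZD (h2.trans hZc.ge)]
  have huniq : ∀ c, Cfsg.IsInducedBlock M (Subgroup.centralizer ({x} : Set G)) c B → c = b := by
    intro c hc
    have hmap : (Subgroup.zpowers x').map (Subgroup.centralizer ({x} : Set G)).subtype =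
        Subgroup.zpowers x := by
      rw [MonoidHom.map_zpowers]; rfl
    have hH : Subgroup.centralizer ({x} : Set G) = Subgroup.normalizer
        (((Subgroup.zpowers x').map (Subgroup.centralizer ({x} : Set G)).subtype : Subgroup G) : Set G) := by
      refine le_antisymm ?_ fun g hg => ?_
      · exact (Char.centralizer_zpowers_eq (x := x)).ge.trans
          ((Subgroup.centralizer_le_normalizer _).trans (le_of_eq (congrArg
            (fun X : Subgroup G => Subgroup.normalizer (X : Set G)) hmap.symm)))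
      · have h1 : g * x * g⁻¹ ∈ Subgroup.zpowers x :=
          hmap ▸ (Subgroup.mem_normalizer_iff.mp hg x).mp (hmap.symm ▸ Subgroup.mem_zpowers x)
        obtain ⟨k, hk⟩ := Subgroup.mem_zpowers_iff.mp h1
        rw [← zpow_mod_orderOf, hx] at hk
        rcases Int.emod_two_eq_zero_or_one k with h | h <;> norm_num [h] at hk
        · have : g * x * g⁻¹ = 1 := by simpa using hk.symm
          rw [conj_eq_one_iff] at this
          simp [this] at hx
        · exact Subgroup.mem_centralizer_singleton_iff.mpr (eq_mul_inv_iff_mul_eq.mp hk).symm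
    obtain ⟨c0, -, hu⟩ := (Char.first_main hM _ hH).2 B hB (hmap.symm ▸ hBD)
    rw [hu c ⟨hc.1, hdef c hc, hc⟩, hu b ⟨hb.1, hdef b hb, hb⟩]
  -- the block `b`
  have hd : Cfsg.blockDefect 2 b = 1 := by
    have := Char.card_defectGroup hM hb.1 (hdef b hb)
    rw [hZc] at this
    exact (Nat.pow_right_injective le_rfl (this.symm.trans (pow_one 2).symm))
  have hsum := Char.dmin_add_defect (p := 2) (Char.block_nonempty hP hb.1)
  set N := (Nat.card ↥(Subgroup.centralizer ({x} : Set G))).factorization 2 with hN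
  have hfull : ∀ ξ ∈ b, Char.einner 2 (ξ : ↥(Subgroup.centralizer ({x} : Set G)) → ℂ) (ξ : ↥(Subgroup.centralizer ({x} : Set G)) → ℂ) = 1 / 2 ∧
      ∀ g, g * (Char.preg 2 g)⁻¹ ∉ Subgroup.zpowers x' →
        (ξ : ↥(Subgroup.centralizer ({x} : Set G)) → ℂ) g = 0 := by
    intro ξ hξ
    obtain ⟨h1, h2, h3, h4⟩ := Char.central_defect_full hM hZ (k := 1) (by rw [hZc, pow_one]) ξ hb.1 hξ
      (by have := Char.dmin_le (p := 2) hξ; omega)
    refine ⟨?_, h4⟩
    have h5 := Char.zI_spec (p := 2) hp ξ ξ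
    rw [h1, ← h3, pow_succ] at h5
    push_cast at h5
    have h0 : (2 : ℂ) ^ Char.dexp 2 (ξ : ↥(Subgroup.centralizer ({x} : Set G)) → ℂ) ≠ 0 :=
      pow_ne_zero _ two_ne_zero
    rw [mul_assoc] at h5
    rw [eq_div_iff two_ne_zero, mul_comm]
    exact mul_left_cancel₀ h0 (by rw [← h5, mul_one])
  have hreg : ∀ ξ ∈ b, ∀ y : ↥(Subgroup.centralizer ({x} : Set G)), ¬ 2 ∣ orderOf y →
      (ξ : ↥(Subgroup.centralizer ({x} : Set G)) → ℂ) y = (θ : ↥(Subgroup.centralizer ({x} : Set G)) → ℂ) y := by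
    intro ξ hξ
    obtain ⟨s, hs⟩ := Char.regular_part_scalar hM hb.1 (hdef b hb) hZ hθ hξ
    have hs' : ∀ y : ↥(Subgroup.centralizer ({x} : Set G)), ¬ 2 ∣ orderOf y →
        (ξ : ↥(Subgroup.centralizer ({x} : Set G)) → ℂ) y = s * (θ : ↥(Subgroup.centralizer ({x} : Set G)) → ℂ) y := fun y hy => by
      simpa [Char.regInd, hy] using congrFun hs y
    have h1 := hs' 1 (by simp)
    rw [Char.char_one_eq_deg (Char.irr_isCharacter ξ.2), Char.char_one_eq_deg (Char.irr_isCharacter θ.2)] at h1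
    have hθ0 : (Char.deg (θ : ↥(Subgroup.centralizer ({x} : Set G)) → ℂ) : ℂ) ≠ 0 := Nat.cast_ne_zero.mpr (Char.deg_pos θ.2).ne'
    have hsd : s = ((Char.deg (ξ : ↥(Subgroup.centralizer ({x} : Set G)) → ℂ) : ℝ) / (Char.deg (θ : ↥(Subgroup.centralizer ({x} : Set G)) → ℂ) : ℝ) : ℝ) := by
      push_cast; rw [h1, mul_div_cancel_right₀ _ hθ0]
    have hnn : (0 : ℝ) ≤ (Char.deg (ξ : ↥(Subgroup.centralizer ({x} : Set G)) → ℂ) : ℝ) / (Char.deg (θ : ↥(Subgroup.centralizer ({x} : Set G)) → ℂ) : ℝ) := by positivity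
    set r := (Char.deg (ξ : ↥(Subgroup.centralizer ({x} : Set G)) → ℂ) : ℝ) / (Char.deg (θ : ↥(Subgroup.centralizer ({x} : Set G)) → ℂ) : ℝ)
    have hrr : r * r = 1 := by
      have e1 : Char.einner 2 (ξ : ↥(Subgroup.centralizer ({x} : Set G)) → ℂ) (ξ : ↥(Subgroup.centralizer ({x} : Set G)) → ℂ) =
          ((r * r : ℝ) : ℂ) * Char.einner 2 (θ : ↥(Subgroup.centralizer ({x} : Set G)) → ℂ) (θ : ↥(Subgroup.centralizer ({x} : Set G)) → ℂ) := by
        rw [Char.einner_eq_sum, Char.einner_eq_sum, Finset.mul_sum, Finset.mul_sum, Finset.mul_sum]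
        refine Finset.sum_congr rfl fun y hy => ?_
        rw [hs' y (Finset.mem_filter.mp hy).2, map_mul, hsd, Complex.conj_ofReal]
        push_cast
        ring
      rw [(hfull ξ hξ).1, (hfull θ hθ).1] at e1
      have : ((r * r : ℝ) : ℂ) = 1 := by linear_combination (-2) * e1
      exact_mod_cast this
    have hr : r = 1 := by nlinarith
    intro y hy
    rw [hs' y hy, hsd, hr, Complex.ofReal_one, one_mul]
  have hcard_b : ∀ y₁ y₂ : ↥(Subgroup.centralizer ({x} : Set G)), ¬ 2 ∣ orderOf y₁ → ¬ 2 ∣ orderOf y₂ →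
      ∑ ξ : Cfsg.IrrCharacter ↥(Subgroup.centralizer ({x} : Set G)) with ξ ∈ b,
        (starRingEnd ℂ) ((ξ : ↥(Subgroup.centralizer ({x} : Set G)) → ℂ) y₁) * (ξ : ↥(Subgroup.centralizer ({x} : Set G)) → ℂ) y₂ =
      2 * ((starRingEnd ℂ) ((θ : ↥(Subgroup.centralizer ({x} : Set G)) → ℂ) y₁) * (θ : ↥(Subgroup.centralizer ({x} : Set G)) → ℂ) y₂) := by
    intro y₁ y₂ h₁ h₂
    set k := (Finset.univ.filter fun ξ : Cfsg.IrrCharacter ↥(Subgroup.centralizer ({x} : Set G)) => ξ ∈ b).card with hk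
    have hk2 : (k : ℂ) = 2 := by
      have h := Char.sum_einner_sq hM hb.1
      rw [Char.blockRank_eq_one_of_central hM hb.1 (hdef b hb) hZ] at h
      have e : ∀ η ∈ b, ∀ ξ ∈ b, Char.einner 2 (η : ↥(Subgroup.centralizer ({x} : Set G)) → ℂ)
          (ξ : ↥(Subgroup.centralizer ({x} : Set G)) → ℂ) = 1 / 2 := fun η hη ξ hξ => by
        rw [← (hfull θ hθ).1, Char.einner_eq_sum, Char.einner_eq_sum]
        congr 1
        refine Finset.sum_congr rfl fun y hy => ?_
        rw [hreg η hη y (Finset.mem_filter.mp hy).2, hreg ξ hξ y (Finset.mem_filter.mp hy).2]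
      rw [Finset.sum_congr rfl fun η hη => Finset.sum_congr rfl fun ξ hξ => by
        rw [e η (Finset.mem_filter.mp hη).2 ξ (Finset.mem_filter.mp hξ).2,
          e ξ (Finset.mem_filter.mp hξ).2 η (Finset.mem_filter.mp hη).2]] at h
      simp only [Finset.sum_const, nsmul_eq_mul, Nat.cast_one] at h
      have h4 : k * k = 4 := by
        have : (k : ℂ) * k = 4 := by linear_combination 4 * h
        exact_mod_cast this
      have : k = 2 := Nat.mul_self_inj.mp (h4.trans (by norm_num : (4 : ℕ) = 2 * 2))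
      exact_mod_cast this
    rw [Finset.sum_congr rfl (g := fun _ => (starRingEnd ℂ) ((θ : ↥(Subgroup.centralizer ({x} : Set G)) → ℂ) y₁) * (θ : ↥(Subgroup.centralizer ({x} : Set G)) → ℂ) y₂)
      (fun ξ hξ => by
        rw [hreg ξ (Finset.mem_filter.mp hξ).2 y₁ h₁, hreg ξ (Finset.mem_filter.mp hξ).2 y₂ h₂]),
      Finset.sum_const, ← hk, nsmul_eq_mul, hk2]
  -- values on the section of `x`
  let m : Cfsg.IrrCharacter G → ℂ := fun χ =>
    ∑ ξ : Cfsg.IrrCharacter ↥(Subgroup.centralizer ({x} : Set G)) with ξ ∈ b,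
      Cfsg.classInner (Char.secFun x (χ : G → ℂ)) (ξ : ↥(Subgroup.centralizer ({x} : Set G)) → ℂ)
  have hval : ∀ χ ∈ B, ∀ y : ↥(Subgroup.centralizer ({x} : Set G)), ¬ 2 ∣ orderOf y →
      (χ : G → ℂ) (x * (y : G)) = m χ * (θ : ↥(Subgroup.centralizer ({x} : Set G)) → ℂ) y := by
    intro χ hχ y hy
    show Char.secFun x (χ : G → ℂ) y = _
    rw [Char.eq_sum_blockPart hP (Char.isClassFunction_secFun (Char.isClassFunction_character (Char.irr_isCharacter χ.2))) y,
      Finset.sum_eq_single b]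
    · rw [Char.blockPart_eq, Finset.sum_mul]
      refine Finset.sum_congr rfl fun ξ hξ => ?_
      rw [hreg ξ (Finset.mem_filter.mp hξ).2 y hy]
    · intro c hc hne
      obtain ⟨ξ, -, rfl⟩ := Finset.mem_image.mp hc
      exact Char.blockPart_secFun_eq_zero hM hxk hB χ hχ (Char.isPBlock_blockOf M ξ)
        (fun h => hne (huniq _ h)) y hy
    · intro h
      exact absurd (Finset.mem_image.mpr ⟨θ, Finset.mem_univ _, (Char.block_eq_blockOf hP hb.1 hθ).symm⟩) h
  -- they are integers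
  have hθx' : ∀ y : ↥(Subgroup.centralizer ({x} : Set G)), (θ : ↥(Subgroup.centralizer ({x} : Set G)) → ℂ) (x' * y) = (θ : ↥(Subgroup.centralizer ({x} : Set G)) → ℂ) y := by
    obtain ⟨ζ, -, hζ⟩ := Char.exists_central_root hxc θ
    have h1 := hζ 1
    rw [mul_one, hθx x' rfl] at h1
    have hζ1 : ζ = 1 := mul_right_cancel₀ (Char.irr_one_ne_zero θ.2) (h1.symm.trans (one_mul _).symm)
    intro y
    rw [hζ, hζ1, one_mul]
  have hint : ∀ χ ∈ B, ∃ n : ℤ, m χ = n := by
    intro χ hχ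
    have hres := Char.isCharacter_comp (Subgroup.centralizer ({x} : Set G)).subtype (Char.irr_isCharacter χ.2)
    obtain ⟨a, ha⟩ := Char.exists_decomposition hres
    set R : ↥(Subgroup.centralizer ({x} : Set G)) → ℂ :=
      (χ : G → ℂ) ∘ (Subgroup.centralizer ({x} : Set G)).subtype with hR
    have hX : Char.einner 2 R (θ : ↥(Subgroup.centralizer ({x} : Set G)) → ℂ) * 2 =
        ((∑ ξ, (a ξ : ℤ) * Char.wI 2 b θ ξ : ℤ) : ℂ) := by
      have e : Char.einner 2 R (θ : ↥(Subgroup.centralizer ({x} : Set G)) → ℂ) = ∑ ξ, (a ξ : ℂ) * Char.einner 2 (ξ : ↥(Subgroup.centralizer ({x} : Set G)) → ℂ) (θ : ↥(Subgroup.centralizer ({x} : Set G)) → ℂ) := by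
        rw [Char.einner_eq_sum, ha]
        simp only [Char.einner_eq_sum, Finset.sum_apply, Pi.smul_apply, nsmul_eq_mul, Finset.mul_sum,
          Finset.sum_mul]
        rw [Finset.sum_comm]
        exact Finset.sum_congr rfl fun ξ _ => Finset.sum_congr rfl fun y _ => by
          simp only [Pi.mul_apply, Pi.natCast_apply]; ring
      rw [e, Finset.sum_mul, Int.cast_sum]
      refine Finset.sum_congr rfl fun ξ _ => ?_
      rw [← Char.einner_conj, Int.cast_mul, Int.cast_natCast]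
      have h1 := Char.wI_cast_eq hM hb.1 hθ ξ
      rw [hd, pow_one, Nat.cast_ofNat] at h1
      have h2 := congrArg (starRingEnd ℂ) h1
      rw [map_intCast, map_mul, map_ofNat] at h2
      rw [h2]; ring
    have hdec : Cfsg.classInner R (θ : ↥(Subgroup.centralizer ({x} : Set G)) → ℂ) =
        Char.einner 2 R (θ : ↥(Subgroup.centralizer ({x} : Set G)) → ℂ) + m χ * Char.einner 2 (θ : ↥(Subgroup.centralizer ({x} : Set G)) → ℂ) (θ : ↥(Subgroup.centralizer ({x} : Set G)) → ℂ) := by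
      simp only [Cfsg.classInner, Char.einner_eq_sum]
      rw [← Finset.sum_filter_add_sum_filter_not (s := Finset.univ)
        (p := fun y : ↥(Subgroup.centralizer ({x} : Set G)) => ¬ 2 ∣ orderOf y), mul_add,
        mul_left_comm (m χ), Finset.mul_sum (a := m χ)]
      congr 2
      set T := Finset.univ.filter fun y : ↥(Subgroup.centralizer ({x} : Set G)) => ¬ 2 ∣ orderOf y
      rw [← Finset.sum_filter_of_ne (p := fun g => g * (Char.preg 2 g)⁻¹ ∈ Subgroup.zpowers x')
        (fun g _ hg => by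
          by_contra hno
          exact hg (by rw [(hfull θ hθ).2 g hno, map_zero, mul_zero]))]
      refine Finset.sum_bij' (fun g _ => Char.preg 2 g) (fun y _ => x' * y) ?_ ?_ ?_ ?_ ?_
      · intro g _
        exact Finset.mem_filter.mpr ⟨Finset.mem_univ _, (Char.preg_spec hp g).2.1⟩
      · intro y hy
        have hy' := (Finset.mem_filter.mp hy).2
        refine Finset.mem_filter.mpr ⟨Finset.mem_filter.mpr ⟨Finset.mem_univ _, not_not.mpr ?_⟩, ?_⟩
        · by_contra hno
          have h1 := Char.isPPart_unique hp (g := x' * y) (x := x') (x' := 1)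
            ⟨y, rfl, hxc y, ⟨1, by rw [hx'2, pow_one]⟩, hy'⟩
            ⟨x' * y, one_mul _, Commute.one_left _, ⟨0, by simp⟩, hno⟩
          simp [h1] at hx'2
        · rw [Char.preg_of_mul hp (hxc y) ⟨1, by rw [hx'2, pow_one]⟩ hy', mul_inv_cancel_right]
          exact Subgroup.mem_zpowers _
      · intro g hg
        obtain ⟨hg1, hg2⟩ := Finset.mem_filter.mp hg
        have hg1' : 2 ∣ orderOf g := not_not.mp (Finset.mem_filter.mp hg1).2
        obtain ⟨k, hk⟩ := Subgroup.mem_zpowers_iff.mp hg2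
        rw [← zpow_mod_orderOf, hx'2] at hk
        rcases Int.emod_two_eq_zero_or_one k with h | h <;> norm_num [h] at hk
        · have h' := hk.symm
          rw [mul_inv_eq_one] at h'
          exact absurd (h' ▸ hg1') (Char.preg_spec hp g).2.1
        · show x' * Char.preg 2 g = g
          rw [hk, inv_mul_cancel_right]
      · intro y hy
        exact Char.preg_of_mul hp (hxc y) ⟨1, by rw [hx'2, pow_one]⟩ (Finset.mem_filter.mp hy).2
      · intro g hg
        obtain ⟨hg1, hg2⟩ := Finset.mem_filter.mp hg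
        obtain ⟨k, hk⟩ := Subgroup.mem_zpowers_iff.mp hg2
        rw [← zpow_mod_orderOf, hx'2] at hk
        have hgx : g = x' * Char.preg 2 g := by
          rcases Int.emod_two_eq_zero_or_one k with h | h <;> norm_num [h] at hk
          · have h' := hk.symm
            rw [mul_inv_eq_one] at h'
            exact absurd (h' ▸ not_not.mp (Finset.mem_filter.mp hg1).2) (Char.preg_spec hp g).2.1
          · rw [hk, inv_mul_cancel_right]
        conv_lhs => rw [hgx]
        rw [hθx' _, hR, Function.comp_apply]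
        show (χ : G → ℂ) (x * ((Char.preg 2 g : ↥(Subgroup.centralizer ({x} : Set G))) : G)) * _ = _
        rw [hval χ hχ _ (Char.preg_spec hp g).2.1]
        ring
    rw [Char.decomposition_coeff a ha θ, (hfull θ hθ).1] at hdec
    refine ⟨2 * (a θ : ℤ) - ∑ ξ, (a ξ : ℤ) * Char.wI 2 b θ ξ, ?_⟩
    push_cast at hX ⊢
    linear_combination (-2) * hdec - hX
  choose! n hn using hint
  -- the norm of the column of `x`
  have hθ1 : (θ : ↥(Subgroup.centralizer ({x} : Set G)) → ℂ) 1 ≠ 0 := Char.irr_one_ne_zero θ.2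
  have hnorm : ∑ χ : Cfsg.IrrCharacter G with χ ∈ B, (n χ : ℂ) ^ 2 = 2 := by
    have h := Char.sum_section_functional (x := x) hM hxk hB
      (fun c => if c = 1 then (1 : ℂ) else 0)
      (fun c hc => if_neg fun h => by rw [h, orderOf_one] at hc; norm_num at hc)
    simp only [ite_mul, one_mul, zero_mul, Finset.sum_ite_eq', Finset.mem_univ, if_true] at h
    rw [Finset.sum_eq_single b] at h
    · rw [hcard_b 1 1 (by simp) (by simp)] at h
      have e : ∀ χ : Cfsg.IrrCharacter G, χ ∈ B →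
          (starRingEnd ℂ) ((χ : G → ℂ) (x * ((1 : ↥(Subgroup.centralizer ({x} : Set G))) : G))) *
            (χ : G → ℂ) (x * ((1 : ↥(Subgroup.centralizer ({x} : Set G))) : G)) =
          (n χ : ℂ) ^ 2 * ((starRingEnd ℂ) ((θ : ↥(Subgroup.centralizer ({x} : Set G)) → ℂ) 1) * (θ : ↥(Subgroup.centralizer ({x} : Set G)) → ℂ) 1) := fun χ hχ => by
        rw [hval χ hχ 1 (by simp), hn χ hχ, map_mul, map_intCast]; ring
      rw [Finset.sum_congr rfl fun χ hχ => e χ (Finset.mem_filter.mp hχ).2, ← Finset.sum_mul] at h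
      exact mul_right_cancel₀ (mul_ne_zero (by simpa using hθ1) hθ1) h
    · intro c hc hne
      exact absurd (huniq c (Finset.mem_filter.mp hc).2) hne
    · intro hb'
      exact (hb' (Finset.mem_filter.mpr ⟨Finset.mem_image.mpr
        ⟨θ, Finset.mem_univ _, (Char.block_eq_blockOf hP hb.1 hθ).symm⟩, hb⟩)).elim
  have hn0 : ∀ χ ∈ B, n χ ≠ 0 := by
    intro χ hχ h0
    have hvan : ∀ g : G, 2 ∣ orderOf g → (χ : G → ℂ) g = 0 := by
      intro g hg
      by_contra hne
      obtain ⟨z, hz⟩ := Char.exists_isPPart hp g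
      obtain ⟨E, hE, hzE⟩ := Char.mem_defect_of_ne_zero hM hB hχ hz hne
      obtain ⟨c, hc⟩ := Char.defect_groups_conj hM hB hBD hE
      rw [hc, MonoidHom.map_zpowers] at hzE
      obtain ⟨k, hk⟩ := Subgroup.mem_zpowers_iff.mp hzE
      rw [← map_zpow, ← zpow_mod_orderOf, hx] at hk
      obtain ⟨w, hwg, hzw, hzk, hw⟩ := hz
      rcases Int.emod_two_eq_zero_or_one k with h | h <;> norm_num [h] at hk
      · rw [← hwg, ← hk, one_mul] at hg
        exact hw hg
      · have hcm : c⁻¹ * w * c ∈ Subgroup.centralizer ({x} : Set G) := by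
          refine Subgroup.mem_centralizer_singleton_iff.mpr ?_
          have hzw' := hzw.eq
          rw [← hk] at hzw'
          calc c⁻¹ * w * c * x = c⁻¹ * (w * (c * x * c⁻¹)) * c := by group
            _ = c⁻¹ * ((c * x * c⁻¹) * w) * c := by rw [hzw']
            _ = x * (c⁻¹ * w * c) := by group
        refine hne ?_
        have he : g = c * (x * (c⁻¹ * w * c)) * c⁻¹ := by rw [← hwg, ← hk]; group
        rw [he, Char.isClassFunction_character (Char.irr_isCharacter χ.2)]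
        have := hval χ hχ ⟨_, hcm⟩ (by
          rwa [Subgroup.orderOf_mk, show c⁻¹ * w * c = MulAut.conj c⁻¹ w by simp [MulAut.conj_apply],
            MulEquiv.orderOf_eq])
        rw [this, hn χ hχ, h0, Int.cast_zero, zero_mul]
    have h1 : Char.einner 2 (χ : G → ℂ) (χ : G → ℂ) = 1 := by
      rw [← (Char.irr_orth χ.2 χ.2).trans (if_pos rfl), Char.einner_eq_sum, Cfsg.classInner,
        Finset.sum_filter_of_ne (p := fun g : G => ¬ 2 ∣ orderOf g) (f := fun g : G => (χ : G → ℂ) g * (starRingEnd ℂ) ((χ : G → ℂ) g))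
          fun g _ hg hdvd => hg (by rw [hvan g hdvd, zero_mul])]
    have h2 := Char.zI_spec (p := 2) hp χ χ
    rw [h1, mul_one, ← Char.dmin_add_defect (p := 2) (Char.block_nonempty hP hB),
      Char.zI_eq_mul_wI hM hB hχ χ, pow_add] at h2
    push_cast at h2
    have hw : Char.wI 2 B χ χ = 2 ^ Cfsg.blockDefect 2 B := by
      have := mul_left_cancel₀ (pow_ne_zero _ (two_ne_zero' ℂ)) h2
      exact_mod_cast this
    have hsing : Cfsg.blockOf M (χ : G → ℂ) = {χ} := by
      rw [← Char.block_eq_blockOf hP hB hχ]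
      exact Set.eq_singleton_iff_unique_mem.mpr
        ⟨hχ, fun ψ hψ => Char.eq_of_wI_self_eq hM hB hχ hψ (by exact_mod_cast hw)⟩
    have h3 := (Char.singleton_iff_dexp hM χ).mp hsing
    have h4 := Char.dmin_add_defect (p := 2) (Char.block_nonempty hP hB)
    have h5 : Char.dexp 2 (χ : G → ℂ) = Char.dmin 2 B := by
      obtain ⟨χ0, hχ0, he⟩ := Char.exists_dexp_eq_dmin (p := 2) (Char.block_nonempty hP hB)
      have : χ0 = χ := Char.eq_of_wI_self_eq hM hB hχ hχ0 (by exact_mod_cast hw)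
      rw [← this, he]
    have h6 := Char.card_defectGroup hM hB hBD
    rw [Nat.card_zpowers, hx, show Cfsg.blockDefect 2 B = 0 by omega, pow_zero] at h6
    norm_num at h6
  -- two members
  set S := Finset.univ.filter fun χ : Cfsg.IrrCharacter G => χ ∈ B with hS
  have hnormZ : ∑ χ ∈ S, (n χ) ^ 2 = 2 := by exact_mod_cast hnorm
  have hone : ∀ χ ∈ S, 1 ≤ (n χ) ^ 2 := fun χ hχ =>
    (Int.add_one_le_iff.mpr (sq_pos_of_ne_zero (hn0 χ (Finset.mem_filter.mp hχ).2)) : (0 : ℤ) + 1 ≤ _)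
  have hle2 : S.card ≤ 2 := by
    have h := Finset.card_nsmul_le_sum S (fun χ => (n χ) ^ 2) 1 hone
    rw [hnormZ, nsmul_eq_mul, mul_one] at h
    exact_mod_cast h
  -- orthogonality with the regular elements
  have horth : ∀ g : G, ¬ 2 ∣ orderOf g → ∑ χ ∈ S, (n χ : ℂ) * (χ : G → ℂ) g = 0 := by
    intro g hg
    have h := Char.weak_orthogonality hM hB hg (y := x) (by rw [hx])
    rw [Char.finsum_mem_irr] at h
    have e : ∀ χ ∈ S, (χ : G → ℂ) g * (starRingEnd ℂ) ((χ : G → ℂ) x) =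
        (n χ : ℂ) * (χ : G → ℂ) g * (starRingEnd ℂ) ((θ : ↥(Subgroup.centralizer ({x} : Set G)) → ℂ) 1) := fun χ hχ => by
      have hv := hval χ (Finset.mem_filter.mp hχ).2 1 (by simp)
      rw [OneMemClass.coe_one, mul_one, hn χ (Finset.mem_filter.mp hχ).2] at hv
      rw [hv, map_mul, map_intCast]; ring
    rw [Finset.sum_congr rfl e, ← Finset.sum_mul] at h
    exact (mul_eq_zero.mp h).resolve_right (by simpa using hθ1)
  obtain ⟨χ₁, hχ₁⟩ := Char.block_nonempty hP hB
  have hχ₁S : χ₁ ∈ S := Finset.mem_filter.mpr ⟨Finset.mem_univ _, hχ₁⟩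
  obtain ⟨χ₂, hχ₂S, hne12⟩ : ∃ χ ∈ S, χ ≠ χ₁ := by
    by_contra! hno
    have := horth 1 (by simp)
    rw [Finset.sum_eq_single χ₁ (fun χ hχ h => absurd (hno χ hχ) h) (fun h => absurd hχ₁S h)] at this
    exact mul_ne_zero (Int.cast_ne_zero.mpr (hn0 χ₁ hχ₁)) (Char.irr_one_ne_zero χ₁.2) this
  have hχ₂ := (Finset.mem_filter.mp hχ₂S).2
  have hpair : S = {χ₁, χ₂} := (Finset.eq_of_subset_of_card_le
    (Finset.insert_subset hχ₁S (Finset.singleton_subset_iff.mpr hχ₂S))
    (by rw [Finset.card_pair hne12.symm]; exact hle2)).symm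
  have hsq : n χ₁ ^ 2 = 1 ∧ n χ₂ ^ 2 = 1 := by
    have h := hnormZ
    rw [hpair, Finset.sum_pair hne12.symm] at h
    have := hone χ₁ hχ₁S
    have := hone χ₂ hχ₂S
    omega
  have hu1 : n χ₁ = 1 ∨ n χ₁ = -1 := sq_eq_one_iff.mp hsq.1
  have hu2 : n χ₂ = 1 ∨ n χ₂ = -1 := sq_eq_one_iff.mp hsq.2
  have hpairsum : ∀ g : G, ¬ 2 ∣ orderOf g →
      (n χ₁ : ℂ) * (χ₁ : G → ℂ) g + (n χ₂ : ℂ) * (χ₂ : G → ℂ) g = 0 := fun g hg => by
    have h := horth g hg
    rwa [hpair, Finset.sum_pair hne12.symm] at h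
  have hopp : n χ₁ * n χ₂ = -1 := by
    have h := hpairsum 1 (by simp)
    rw [Char.char_one_eq_deg (Char.irr_isCharacter χ₁.2), Char.char_one_eq_deg (Char.irr_isCharacter χ₂.2)] at h
    have h1 : (n χ₁ * Char.deg (χ₁ : G → ℂ) + n χ₂ * Char.deg (χ₂ : G → ℂ) : ℤ) = 0 := by exact_mod_cast h
    have := Char.deg_pos χ₁.2
    have := Char.deg_pos χ₂.2
    rcases hu1 with a | a <;> rcases hu2 with c | c <;> rw [a, c] at h1 ⊢ <;> omega
  have heq12 : ∀ g : G, ¬ 2 ∣ orderOf g → (χ₁ : G → ℂ) g = (χ₂ : G → ℂ) g := fun g hg => by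
    have h := hpairsum g hg
    rcases hu1 with a | a <;> rcases hu2 with c | c <;> rw [a, c] at h hopp <;>
      first
      | omega
      | (push_cast at h; linear_combination h)
      | (push_cast at h; linear_combination -h)
  have hmem : ∀ χ ∈ B, χ = χ₁ ∨ χ = χ₂ := fun χ hχ => by
    have : χ ∈ S := Finset.mem_filter.mpr ⟨Finset.mem_univ _, hχ⟩
    simpa [hpair] using this
  refine ⟨?_, ?_, χ₁, hχ₁, χ₂, hχ₂, hne12.symm, n χ₁, n χ₂, hu1, hu2, hopp, fun y hy => ⟨?_, ?_⟩⟩
  · rw [Nat.card_eq_fintype_card, ← Set.toFinset_card,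
      show B.toFinset = {χ₁, χ₂} by rw [← hpair]; ext; simp [hS], Finset.card_pair hne12.symm]
  · intro χ hχ ψ hψ g hg
    rcases hmem χ hχ with rfl | rfl <;> rcases hmem ψ hψ with rfl | rfl
    exacts [rfl, heq12 g hg, (heq12 g hg).symm, rfl]
  · rw [hval χ₁ hχ₁ y hy, hn χ₁ hχ₁]
  · rw [hval χ₂ hχ₂ y hy, hn χ₂ hχ₂]

end Cfsg.Agent.S4513
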