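import Cfsg.Statements.S4514
import Cfsg.Agent.Lib.Char.ConstantDrop.Converse
import Cfsg.Agent.Lib.Char.PrincipalInflate

set_option autoImplicit false
open Cfsg

namespace Cfsg.Agent.S4514

open Cfsg.Agent.Char Cfsg.Agent.Char.ConstDrop

universe u

/-- The block of the quotient by a subgroup of odd order. -/
theorem drop_quotient_iff {G : Type u} [Group G] [Finite G] {M : Ideal AlgInt}
    (hM : IsPModular 2 M) (N : Subgroup G) [N.Normal] [Fintype (G ⧸ N)] (hN : ¬ 2 ∣ Nat.card N)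
    (x : G) (k : ℂ) :
    (∀ χ : IrrCharacter G, χ ∈ principalBlock M G → (χ : G → ℂ) ≠ (fun _ => 1) →
        (χ : G → ℂ) 1 - (χ : G → ℂ) x = k) ↔ Drop M (x : G ⧸ N) k := by
  classical
  haveI := Fintype.ofFinite G
  constructor
  · intro h ψ hψ
    have h1 := h (inflateEquiv N ψ).1 ((inflate_mem_principal_iff hM N hN ψ).2 (mem_SB.1 hψ).1)
      (fun e => (mem_SB.1 hψ).2 (funext fun q => by
        obtain ⟨g, rfl⟩ := QuotientGroup.mk_surjective q
        exact (inflateEquiv_apply N ψ g).symm.trans (congrFun e g)))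
    rwa [inflateEquiv_apply, inflateEquiv_apply, QuotientGroup.mk_one] at h1
  · intro h χ hχ hne
    obtain ⟨ψ, hψ⟩ := (inflateEquiv N).surjective ⟨χ, principal_trivial_on hM N hN hχ⟩
    have hval : ∀ g : G, (χ : G → ℂ) g = (ψ : G ⧸ N → ℂ) (g : G ⧸ N) := fun g => by
      rw [← inflateEquiv_apply, hψ]
    rw [hval, hval, QuotientGroup.mk_one]
    refine h ψ (mem_SB.2 ⟨(inflate_mem_principal_iff hM N hN ψ).1 (by rw [hψ]; exact hχ), fun e => ?_⟩)
    exact hne (funext fun g => by rw [hval, e])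

/-- Let G be a finite group, u an element of G, and fix a maximal ideal M of the algebraic integers containing 2 (defining the 2-blocks). There is a complex number k with χ(1) − χ(u) = k for every non-principal irreducible character χ in the principal 2-block if and only if one of the following holds: u lies in O(G); or G/O(G) has order 2 and u ∉ O(G); or G/O(G) ≅ PSL(2, 2ⁿ) for some n ≥ 2, u ∉ O(G) and u² ∈ O(G). -/
theorem result {G : Type*} [Group G] [Finite G] (M : Ideal Cfsg.AlgInt) (hM : Cfsg.IsPModular 2 M) (u : G) :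
    (∃ k : ℂ, ∀ χ : Cfsg.IrrCharacter G, χ ∈ Cfsg.principalBlock M G → (χ : G → ℂ) ≠ (fun _ => 1) →
        (χ : G → ℂ) 1 - (χ : G → ℂ) u = k) ↔
      (u ∈ Cfsg.oddCore G ∨ (Nat.card (G ⧸ Cfsg.oddCore G) = 2 ∧ u ∉ Cfsg.oddCore G) ∨
        (∃ (F : Type) (_ : Field F) (_ : Fintype F) (n : ℕ), 2 ≤ n ∧ Fintype.card F = 2 ^ n ∧
          Nonempty (G ⧸ Cfsg.oddCore G ≃* Matrix.ProjectiveSpecialLinearGroup (Fin 2) F) ∧ u ∉ Cfsg.oddCore G ∧ u ^ 2 ∈ Cfsg.oddCore G)) := by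
  classical
  haveI : Fact (Nat.Prime 2) := ⟨Nat.prime_two⟩
  haveI := Fintype.ofFinite (G ⧸ oddCore G)
  have hN : ¬ 2 ∣ Nat.card (oddCore G) := fun h =>
    (Nat.Prime.coprime_iff_not_dvd Nat.prime_two).1 (Fusion.card_pPrimeCore_coprime 2 G).symm h
  simp only [drop_quotient_iff hM (oddCore G) hN u, ← QuotientGroup.eq_one_iff (N := oddCore G),
    QuotientGroup.mk_pow, sq]
  have hO : oddCore (G ⧸ oddCore G) = ⊥ := Fusion.pPrimeCore_quotient_eq_bot
  constructor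
  · rintro ⟨k, hk⟩
    by_cases hu : (u : G ⧸ oddCore G) = 1
    · exact Or.inl hu
    rcases forward hM hO hu hk with h2 | ⟨h2, F, iF, iFF, n, hn, hF, he⟩
    · exact Or.inr (Or.inl ⟨h2, hu⟩)
    · exact Or.inr (Or.inr ⟨F, iF, iFF, n, hn, hF, he, hu, h2⟩)
  · rintro (hu | ⟨h2, hu⟩ | ⟨F, iF, iFF, n, hn, hF, ⟨e⟩, hu, hu2⟩)
    · exact ⟨0, fun χ _ => by rw [hu, sub_self]⟩
    · exact ⟨2, fun χ hχ => drop_two h2 χ (mem_SB.1 hχ).2 hu⟩
    · exact ⟨_, fun χ hχ => drop_psl hn hF e χ (mem_SB.1 hχ).2 hu2 hu⟩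

end Cfsg.Agent.S4514
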