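import Cfsg.Statements.S4518
import Cfsg.Agent.Lib.Char.FongReynolds
import Cfsg.Agent.Lib.Char.GaloisConj
import Cfsg.Agent.Lib.Char.CoverBlocks

set_option autoImplicit false
open Cfsg
open scoped ComplexConjugate
open Cfsg.Agent.Char

namespace Cfsg.Agent.S4518

/-- Let N be a normal subgroup of the finite group G whose index is not divisible by the prime p, and let k be coprime to the order of G with k ^ (p ^ e) ≡ 1 modulo the order of G for some e (so g ↦ g ^ k induces a field automorphism of p-power order on character values). If an irreducible character χ of G satisfies χ (g ^ k) = χ g for all g, then every irreducible constituent θ of the restriction of χ to N satisfies θ (n ^ k) = θ n for all n. -/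
theorem result {G : Type*} [Group G] [Fintype G] (p : ℕ) [Fact p.Prime] (N : Subgroup G) [N.Normal] [Fintype N] (hidx : ¬ p ∣ N.index) (k e : ℕ) (hk : Nat.Coprime k (Nat.card G)) (hke : k ^ (p ^ e) ≡ 1 [MOD Nat.card G]) (χ : Cfsg.IrrCharacter G) (hχ : ∀ g : G, (χ : G → ℂ) (g ^ k) = (χ : G → ℂ) g) (θ : Cfsg.IrrCharacter N) (hθ : Cfsg.classInner (fun n : N => (χ : G → ℂ) n) (θ : N → ℂ) ≠ 0) : ∀ n : N, (θ : N → ℂ) (n ^ k) = (θ : N → ℂ) n := by
  classical
  have hkN : Nat.Coprime k (Nat.card N) := hk.coprime_dvd_right N.card_subgroup_dvd_card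
  let T : IrrCharacter N → IrrCharacter N := fun ψ => ⟨_, isIrrCharacter_pow ψ.2 hkN⟩
  have hT : ∀ (ψ : IrrCharacter N) (n : N), (T ψ : N → ℂ) n = (ψ : N → ℂ) (n ^ k) := fun _ _ => rfl
  have hTc : ∀ (g : G) (ψ : IrrCharacter N),
      T (irrComp (MulAut.conjNormal g) ψ) = irrComp (MulAut.conjNormal g) (T ψ) := fun g ψ =>
    Subtype.ext (funext fun n => by simp [hT, map_pow])
  have hTiter : ∀ (j : ℕ) (ψ : IrrCharacter N) (n : N),
      ((T^[j]) ψ : N → ℂ) n = (ψ : N → ℂ) (n ^ (k ^ j)) := by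
    intro j
    induction j with
    | zero => intro ψ n; simp
    | succ j ih =>
      intro ψ n
      rw [Function.iterate_succ_apply, ih, hT, ← pow_mul, pow_succ]
  have hTmem : ∀ ψ ∈ cliffOrbit N θ, T ψ ∈ cliffOrbit N θ := by
    intro ψ hψ
    obtain ⟨g, rfl⟩ := mem_cliffOrbit.1 hψ
    refine mem_cliffOrbit_of_constituent hθ ?_
    rw [hTc]
    show classInner (fun n : N => (χ : G → ℂ) n) (fun n => (T θ : N → ℂ) (MulAut.conjNormal g n)) ≠ 0
    rw [classInner_restrict_conj (isClassFunction_character (irr_isCharacter χ.2))]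
    refine fun h0 => hθ (Eq.trans ?_ h0)
    simp only [classInner, hT]
    congr 1
    refine (Fintype.sum_equiv (powCoprime (Nat.Coprime.symm hkN)) _ _ fun n => ?_).symm
    rw [powCoprime_apply, SubgroupClass.coe_pow, hχ]
  let H : Subgroup G :=
    { carrier := {g | irrComp (MulAut.conjNormal g) θ = θ}
      one_mem' := irrComp_conj_one θ
      mul_mem' := fun {a b} ha hb => by
        simp only [Set.mem_setOf_eq] at ha hb ⊢
        rw [← irrComp_conj_mul, ha, hb]
      inv_mem' := fun {a} ha => by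
        simp only [Set.mem_setOf_eq] at ha ⊢
        conv_lhs => rw [← ha, irrComp_conj_mul, mul_inv_cancel, irrComp_conj_one] }
  have hNH : N ≤ H := by
    intro a ha
    refine Subtype.ext (funext fun n => ?_)
    rw [irrComp_apply, show MulAut.conjNormal a n = ⟨a, ha⟩ * n * (⟨a, ha⟩ : N)⁻¹ from
      Subtype.ext (by simp [MulAut.conjNormal_apply]),
      isClassFunction_character (irr_isCharacter θ.2)]
  have hcard : ¬ p ∣ Fintype.card {ψ // ψ ∈ cliffOrbit N θ} := by
    have hmul : (cliffOrbit N θ).card * Nat.card H = Nat.card G := card_cliffOrbit_mul θ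
    rw [← H.index_mul_card] at hmul
    rw [Fintype.card_coe, Nat.eq_of_mul_eq_mul_right Nat.card_pos hmul]
    exact fun h => hidx (h.trans (Subgroup.index_dvd_of_le hNH))
  have hper : ∀ ψ : IrrCharacter N, T^[p ^ e] ψ = ψ := fun ψ => Subtype.ext (funext fun n => by
    rw [hTiter, ← pow_mod_natCard, Nat.ModEq.of_dvd N.card_subgroup_dvd_card hke,
      pow_mod_natCard, pow_one])
  let T' : {ψ // ψ ∈ cliffOrbit N θ} → {ψ // ψ ∈ cliffOrbit N θ} := fun ψ => ⟨T ψ, hTmem _ ψ.2⟩
  have hT'iter : ∀ (j : ℕ) ψ, ((T'^[j]) ψ).1 = T^[j] ψ.1 := by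
    intro j
    induction j with
    | zero => intro ψ; rfl
    | succ j ih => intro ψ; rw [Function.iterate_succ_apply, ih, Function.iterate_succ_apply]
  have hT'per : T'^[p ^ e] = id := funext fun ψ => Subtype.ext ((hT'iter _ ψ).trans (hper _))
  have hpe : p ^ e = (p ^ e - 1) + 1 :=
    (Nat.succ_pred_eq_of_pos (pow_pos (Fact.out : p.Prime).pos e)).symm
  let σ : Equiv.Perm {ψ // ψ ∈ cliffOrbit N θ} :=
    { toFun := T'
      invFun := T'^[p ^ e - 1]
      left_inv := fun ψ => by
        rw [← Function.iterate_succ_apply, Nat.succ_eq_add_one, ← hpe, hT'per, id]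
      right_inv := fun ψ => by
        rw [← Function.iterate_succ_apply' T', Nat.succ_eq_add_one, ← hpe, hT'per, id] }
  obtain ⟨⟨ψ, hψ⟩, hfix⟩ := Equiv.Perm.exists_fixed_point_of_prime hcard (σ := σ) (n := e)
    (Equiv.ext fun ψ => by
      rw [Equiv.Perm.coe_pow]
      show T'^[p ^ e] ψ = ψ
      rw [hT'per, id])
  obtain ⟨g, rfl⟩ := mem_cliffOrbit.1 hψ
  have h1 : T (irrComp (MulAut.conjNormal g) θ) = irrComp (MulAut.conjNormal g) θ :=
    congrArg Subtype.val hfix
  intro n
  have h2 := congrFun (congrArg Subtype.val h1) ((MulAut.conjNormal g).symm n)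
  rwa [hTc, irrComp_apply, irrComp_apply, MulEquiv.apply_symm_apply] at h2

end Cfsg.Agent.S4518
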