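import Cfsg.Statements.S4523
import Cfsg.Agent.S0205
import Cfsg.Agent.Lib.Char.RealClassFixed
import Cfsg.Agent.Lib.Char.BlockInter
import Cfsg.Agent.Lib.Solv.Zipper
-- import your own Cfsg.Agent.* helpers here

set_option autoImplicit false
open Cfsg Cfsg.Agent.Char

namespace Cfsg.Agent.S4523

/-- The exponent is prime to the group order, and the power map is an involution. -/
theorem exponent_facts {S : Type*} [Group S] [Finite S] (k : ℕ)
    (hk₁ : ∀ g : S, (∃ j : ℕ, orderOf g = 2 ^ j) → g ^ k = g) (hk₂ : ∀ g : S, Odd (orderOf g) → g ^ k = g⁻¹) :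
    k.Coprime (Nat.card S) ∧ ∀ g : S, (g ^ k) ^ k = g := by
  refine ⟨Nat.coprime_of_dvd fun r hr hrk hrG => ?_, fun g => ?_⟩
  · haveI := Fact.mk hr
    obtain ⟨g, hg⟩ := exists_prime_orderOf_dvd_card' r hrG
    have hgk : g ^ k = 1 := orderOf_dvd_iff_pow_eq_one.mp (hg ▸ hrk)
    have hg1 : g ≠ 1 := fun e => hr.ne_one (by rw [← hg, e, orderOf_one])
    rcases hr.eq_two_or_odd' with h2 | hodd
    · subst h2
      exact hg1 ((hk₁ g ⟨1, by rw [hg, pow_one]⟩).symm.trans hgk)
    · exact hg1 (inv_eq_one.mp ((hk₂ g (hg ▸ hodd)).symm.trans hgk))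
  · obtain ⟨x, y, hxy, hcomm, hx, hy⟩ := exists_isPPart (p := 2) Nat.prime_two g
    have hy' : Odd (orderOf y) := Nat.odd_iff.mpr (Nat.two_dvd_ne_zero.mp hy)
    rw [← hxy, hcomm.mul_pow, hk₁ x hx, hk₂ y hy', (hcomm.inv_right).mul_pow, hk₁ x hx, inv_pow, hk₂ y hy', inv_inv]

/-- A nonabelian simple group has a real element of odd order not centralised by a Sylow two-subgroup. -/
theorem exists_real {S : Type*} [Group S] [Finite S] [IsSimpleGroup S] (hna : ¬ IsMulCommutative S) :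
    ∃ y : S, Odd (orderOf y) ∧ IsConj y y⁻¹ ∧
      (Nat.card (Subgroup.centralizer ({y} : Set S))).factorization 2 < (Nat.card S).factorization 2 := by
  haveI : Fact (Nat.Prime 2) := ⟨Nat.prime_two⟩
  have hns : ¬ Group.IsSolvable S := fun h => hna ⟨⟨fun a b => IsSimpleGroup.comm_iff_isSolvable.2 h a b⟩⟩
  have hev : 2 ∣ Nat.card S := by
    by_contra h
    exact hns (Cfsg.Agent.S0205.result (Nat.odd_iff.2 (by omega)))
  obtain ⟨t, ht⟩ := exists_prime_orderOf_dvd_card' (G := S) 2 hev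
  have hcore : t ∉ Cfsg.pCore 2 S := by
    intro hmem
    rcases Subgroup.Normal.eq_bot_or_eq_top (Cfsg.Agent.Solv.pCore_normal (G := S) 2) with h | h
    · rw [h, Subgroup.mem_bot] at hmem
      rw [hmem, orderOf_one] at ht
      norm_num at ht
    · have h2 := Cfsg.Agent.Solv.pCore_isPGroup (G := S) 2
      rw [h] at h2
      haveI : Group.IsNilpotent (⊤ : Subgroup S) := h2.isNilpotent
      haveI : Group.IsNilpotent S := Group.nilpotent_of_mulEquiv Subgroup.topEquiv
      exact hns inferInstance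
  obtain ⟨y, hy1, hy, hty⟩ := Cfsg.Agent.Solv.exists_odd_inverted ht hcore
  refine ⟨y, hy, isConj_iff.2 ⟨t, hty⟩, ?_⟩
  by_contra hge
  set N := Subgroup.normalizer ((Subgroup.zpowers y : Subgroup S) : Set S)
  set C := Subgroup.centralizer ({y} : Set S) with hC
  have hCz : C = Subgroup.centralizer ((Subgroup.zpowers y : Subgroup S) : Set S) := by
    rw [hC, Subgroup.zpowers_eq_closure, Subgroup.centralizer_closure]
  have hCN : C ≤ N := hCz ▸ Subgroup.centralizer_le_normalizer _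
  have htN : t ∈ N := by
    refine Cfsg.Agent.Solv.mem_normalizer_of_conj_smul ?_
    rw [Cfsg.Agent.Solv.conj_smul_eq_map, MonoidHom.map_zpowers]
    show Subgroup.zpowers (t * y * t⁻¹) = _
    rw [hty, Subgroup.zpowers_inv]
  haveI hnormal : (C.subgroupOf N).Normal := by
    rw [hCz]
    exact Subgroup.normal_subgroupOf_centralizer_normalizer _
  have hindex : ¬ 2 ∣ (C.subgroupOf N).index := by
    intro h
    have h2 : 2 ∣ C.index := h.trans (Subgroup.relIndex_dvd_index_of_le hCN)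
    have hmul : (Nat.card C).factorization 2 + C.index.factorization 2 = (Nat.card S).factorization 2 := by
      rw [← Finsupp.add_apply, ← Nat.factorization_mul Nat.card_pos.ne' Subgroup.index_ne_zero_of_finite,
        Subgroup.card_mul_index]
    have := Nat.Prime.factorization_pos_of_dvd Nat.prime_two Subgroup.index_ne_zero_of_finite h2
    omega
  set q : N ⧸ C.subgroupOf N := QuotientGroup.mk (⟨t, htN⟩ : N)
  have hq2 : orderOf q ∣ 2 := by
    refine (orderOf_map_dvd (QuotientGroup.mk' (C.subgroupOf N)) (⟨t, htN⟩ : N)).trans ?_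
    rw [← Subgroup.orderOf_coe, ht]
  have hqi : orderOf q ∣ (C.subgroupOf N).index := by
    rw [Subgroup.index]; exact orderOf_dvd_natCard q
  have hq1 : q = 1 := by
    rw [← orderOf_eq_one_iff]
    rcases (Nat.dvd_prime Nat.prime_two).1 hq2 with h | h
    · exact h
    · exact absurd (h ▸ hqi) hindex
  have htC : t ∈ C := Subgroup.mem_subgroupOf.1 ((QuotientGroup.eq_one_iff _).1 hq1)
  have h1 : t * y * t⁻¹ = y := mul_inv_eq_iff_eq_mul.2 (Subgroup.mem_centralizer_singleton_iff.1 htC)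
  rw [hty] at h1
  have hd : orderOf y ∣ 2 := orderOf_dvd_of_pow_eq_one (by rw [sq]; nth_rewrite 1 [← h1]; exact inv_mul_cancel y)
  rcases (Nat.dvd_prime Nat.prime_two).1 hd with h | h
  · exact hy1 (orderOf_eq_one_iff.1 h)
  · rw [h] at hy
    exact absurd hy (by decide)

/-- Let S be a non-abelian finite simple group with commutative Sylow 2-subgroups and M a maximal ideal of the algebraic integers containing 2. Let k be a natural number with g ^ k = g for every 2-element g and g ^ k = g⁻¹ for every element g of odd order. Then S has an irreducible character χ₁ of even degree with χ₁ (g ^ k) = χ₁ g for all g, and its principal 2-block contains a character χ₂ other than the principal character with χ₂ (g ^ k) = χ₂ g for all g. -/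
theorem result {S : Type*} [Group S] [Finite S] [IsSimpleGroup S] (hna : ¬ IsMulCommutative S) (P : Sylow 2 S) (hP : IsMulCommutative P) (M : Ideal Cfsg.AlgInt) (hM : Cfsg.IsPModular 2 M) (k : ℕ) (hk₁ : ∀ g : S, (∃ j : ℕ, orderOf g = 2 ^ j) → g ^ k = g) (hk₂ : ∀ g : S, Odd (orderOf g) → g ^ k = g⁻¹) : (∃ χ₁ : Cfsg.IrrCharacter S, Even (Cfsg.charDegree (χ₁ : S → ℂ)) ∧ ∀ g : S, (χ₁ : S → ℂ) (g ^ k) = (χ₁ : S → ℂ) g) ∧ ∃ χ₂ ∈ Cfsg.principalBlock M S, (χ₂ : S → ℂ) ≠ (fun _ => 1) ∧ ∀ g : S, (χ₂ : S → ℂ) (g ^ k) = (χ₂ : S → ℂ) g := by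
  classical
  haveI := Fintype.ofFinite S
  haveI : Fact (Nat.Prime 2) := ⟨Nat.prime_two⟩
  obtain ⟨hk, hk2⟩ := exponent_facts k hk₁ hk₂
  obtain ⟨y, hy, hreal, hlt⟩ := exists_real hna
  have hab : ∀ x ∈ (P : Subgroup S), ∀ z ∈ (P : Subgroup S), x * z = z * x := fun x hx z hz =>
    congrArg Subtype.val (hP.is_comm.comm (⟨x, hx⟩ : (P : Subgroup S)) ⟨z, hz⟩)
  refine ⟨RealClassFixed.exists_fixed_even P hab hk hk2 (fun x hx => hk₁ x ?_) hy (hk₂ y hy) hreal hlt, ?_⟩
  · obtain ⟨j, hj⟩ := IsPGroup.iff_orderOf.1 P.isPGroup' ⟨x, hx⟩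
    exact ⟨j, by rw [← hj, ← Subgroup.orderOf_coe]⟩
  -- the principal block
  have hev : 2 ∣ Nat.card S := Nat.dvd_of_factorization_pos (p := 2) (by omega)
  let σ : IrrCharacter S → IrrCharacter S := fun χ =>
    ⟨fun g => (χ : S → ℂ) (g ^ k), isIrrCharacter_pow χ.2 hk⟩
  have hσ : Function.Involutive σ := fun χ => Subtype.ext (funext fun g => by
    show (χ : S → ℂ) ((g ^ k) ^ k) = _
    rw [hk2])
  have hσB : ∀ χ, χ ∈ principalBlock M S → σ χ ∈ principalBlock M S := fun χ hχ =>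
    principalBlock_pow hM hk (χ := χ) (fun g => rfl) hχ
  have hσd : ∀ χ, charDegree ((σ χ : IrrCharacter S) : S → ℂ) = charDegree (χ : S → ℂ) := fun χ => by
    show ⌊((χ : S → ℂ) (1 ^ k)).re⌋₊ = ⌊((χ : S → ℂ) 1).re⌋₊
    rw [one_pow]
  let one : IrrCharacter S := ⟨fun _ => 1, isIrrCharacter_one⟩
  by_contra hno
  push Not at hno
  let T : Finset (IrrCharacter S) := Finset.univ.filter fun χ => χ ∈ principalBlock M S
  have honeT : one ∈ T := Finset.mem_filter.2 ⟨Finset.mem_univ _, one_mem_principal hM⟩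
  have hσone : σ one = one := Subtype.ext rfl
  have hsum := dvd_sum_sq_principal hM hev
  have hz : ∑ χ ∈ T.erase one, ((charDegree (χ : S → ℂ) : ZMod 2)) ^ 2 = 0 := by
    refine Finset.sum_involution (fun χ _ => σ χ) (fun χ _ => by rw [hσd]; exact CharTwo.add_self_eq_zero _)
      (fun χ hχ _ hfix => ?_) (fun χ hχ => ?_) (fun χ _ => hσ χ)
    · obtain ⟨h1, h2⟩ := Finset.mem_erase.1 hχ
      obtain ⟨g, hg⟩ := hno χ (Finset.mem_filter.1 h2).2 (fun e => h1 (Subtype.ext e))
      exact hg (congrFun (congrArg Subtype.val hfix) g)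
    · obtain ⟨h1, h2⟩ := Finset.mem_erase.1 hχ
      refine Finset.mem_erase.2 ⟨fun e => h1 ?_,
        Finset.mem_filter.2 ⟨Finset.mem_univ _, hσB χ (Finset.mem_filter.1 h2).2⟩⟩
      rw [← hσ χ, e, hσone]
  have htot : ((∑ χ ∈ T, charDegree (χ : S → ℂ) ^ 2 : ℕ) : ZMod 2) = 1 := by
    push_cast
    rw [← Finset.add_sum_erase T _ honeT, hz, add_zero,
      show charDegree ((one : IrrCharacter S) : S → ℂ) = 1 by simp [one, charDegree], Nat.cast_one, one_pow]
  rw [(ZMod.natCast_eq_zero_iff _ _).mpr hsum] at htot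
  exact zero_ne_one htot

end Cfsg.Agent.S4523
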