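import Cfsg.Statements.S4531
import Cfsg.Agent.Lib.Char.DihedralBlock.CentralInvolution
import Cfsg.Agent.Lib.Char.RankTwoSolvable

set_option autoImplicit false
open Cfsg

namespace Cfsg.Agent.S4531

/-- Let the finite group G have a 2-block B (relative to a maximal ideal M of the algebraic integers containing 2) of 2-regular rank three (three irreducible Brauer characters) whose defect group D is dihedral of order 2 ^ n with n ≥ 3 or semidihedral. Then the centre of G has odd order and G is not solvable. -/
theorem result {G : Type*} [Group G] [Finite G] (M : Ideal Cfsg.AlgInt) (hM : Cfsg.IsPModular 2 M) (B : Set (Cfsg.IrrCharacter G)) (hB : Cfsg.IsPBlock M B) (D : Subgroup G) (hD : Cfsg.IsDefectGroup 2 M B D) (hD' : (∃ n : ℕ, 3 ≤ n ∧ Nonempty (D ≃* DihedralGroup (2 ^ (n - 1)))) ∨ Cfsg.IsQuasiDihedral D) (hl : Cfsg.blockRank 2 B = 3) : Odd (Nat.card (Subgroup.center G)) ∧ ¬ Group.IsSolvable G := by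
  haveI : Fintype G := Fintype.ofFinite G
  haveI : Fact (Nat.Prime 2) := ⟨Nat.prime_two⟩
  refine ⟨?_, fun hsol => ?_⟩
  · rw [← Nat.not_even_iff_odd]
    intro he
    obtain ⟨t, ht⟩ := exists_prime_orderOf_dvd_card' (G := Subgroup.center G) 2 (even_iff_two_dvd.mp he)
    have htc : ∀ g : G, (t : G) * g = g * (t : G) := fun g => (Subgroup.mem_center_iff.mp t.2 g).symm
    rw [← Subgroup.orderOf_coe] at ht
    rcases hD' with ⟨n, hn, hdih⟩ | hQ
    · have := Char.DihBlock.rank_one_of_central hM hB hD hn hdih ht htc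
      omega
    · have := Char.DihBlock.rank_le_two_of_central hM hB hD hQ ht htc
      omega
  · have hL : Char.LongCyclic D := by
      rcases hD' with ⟨n, hn, ⟨ι⟩⟩ | hQ
      · refine (Char.longCyclic_dihedral ?_).of_equiv ι.symm
        have := Nat.pow_le_pow_right two_pos (show 2 ≤ n - 1 by omega)
        omega
      · exact Char.longCyclic_quasiDihedral hQ
    have := Char.solvable_rank_le_two hM _ rfl hsol hB hD hL
    omega
end Cfsg.Agent.S4531
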