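import Cfsg.Statements.S4540
import Cfsg.Agent.Lib.Char.TwoSubsectionBounds

set_option autoImplicit false
open Cfsg
open Cfsg.Agent

namespace Cfsg.Agent.S4540

/-- Let B be a 2-block of the finite group G (relative to a maximal ideal M of the algebraic integers containing 2) of defect d with defect group D. Let z be an element of D commuting with every element of D, and let b be a block of the centralizer C of z with defect group D that induces B (a major subsection (z, b)). If b has 2-regular rank at most three, then 3·k(B) ≤ 3·k₀(B) + 2·Σ 2 ^ h(χ), where k(B) is the number of members of B, k₀(B) the number of members of height zero, and the sum runs over the members χ of B of positive height h(χ); this bound is at most 3·2 ^ d, so in particular B contains at most 2 ^ d irreducible characters. -/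
theorem result {G : Type*} [Group G] [Finite G] (M : Ideal Cfsg.AlgInt) (hM : Cfsg.IsPModular 2 M) (B : Set (Cfsg.IrrCharacter G)) (hB : Cfsg.IsPBlock M B) (D : Subgroup G) (hD : Cfsg.IsDefectGroup 2 M B D) (z : G) (hzD : z ∈ D) (hzc : ∀ d ∈ D, d * z = z * d) (b : Set (Cfsg.IrrCharacter ↥(Subgroup.centralizer ({z} : Set G)))) (hb : Cfsg.IsInducedBlock M (Subgroup.centralizer ({z} : Set G)) b B) (hbD : Cfsg.IsDefectGroup 2 M b (D.subgroupOf (Subgroup.centralizer ({z} : Set G)))) (hl : Cfsg.blockRank 2 b ≤ 3) : 3 * Nat.card B ≤ 3 * Nat.card {χ : Cfsg.IrrCharacter G // χ ∈ B ∧ Cfsg.blockHeight 2 B (χ : G → ℂ) = 0} + 2 * (∑ᶠ χ ∈ {χ : Cfsg.IrrCharacter G | χ ∈ B ∧ 1 ≤ Cfsg.blockHeight 2 B (χ : G → ℂ)}, 2 ^ Cfsg.blockHeight 2 B (χ : G → ℂ)) ∧ 3 * Nat.card {χ : Cfsg.IrrCharacter G // χ ∈ B ∧ Cfsg.blockHeight 2 B (χ : G → ℂ) = 0} + 2 * (∑ᶠ χ ∈ {χ : Cfsg.IrrCharacter G | χ ∈ B ∧ 1 ≤ Cfsg.blockHeight 2 B (χ : G → ℂ)}, 2 ^ Cfsg.blockHeight 2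 B (χ : G → ℂ)) ≤ 3 * 2 ^ Cfsg.blockDefect 2 B := by
  classical
  haveI := Fintype.ofFinite G
  obtain ⟨hd, hx⟩ := Char.MajorSub.major_facts hM hB hD hzD hzc hb hbD
  have hmain := Char.MajorSub.major_rank_three hM hx hb hd hl
  have hset : {χ : Cfsg.IrrCharacter G | χ ∈ B ∧ 1 ≤ Cfsg.blockHeight 2 B (χ : G → ℂ)} =
      ↑(Finset.univ.filter fun χ : Cfsg.IrrCharacter G => χ ∈ B ∧ ¬ Cfsg.blockHeight 2 B (χ : G → ℂ) = 0) := by
    ext χ
    simp [Nat.one_le_iff_ne_zero]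
  rw [Char.MajorSub.natCard_heightZero, hset, finsum_mem_coe_finset]
  have hsum : ∑ χ : Cfsg.IrrCharacter G with χ ∈ B, (if Cfsg.blockHeight 2 B (χ : G → ℂ) = 0 then 3
      else 2 * 2 ^ Cfsg.blockHeight 2 B (χ : G → ℂ)) =
      3 * (Finset.univ.filter fun χ : Cfsg.IrrCharacter G => χ ∈ B ∧ Cfsg.blockHeight 2 B (χ : G → ℂ) = 0).card +
        2 * ∑ χ : Cfsg.IrrCharacter G with χ ∈ B ∧ ¬ Cfsg.blockHeight 2 B (χ : G → ℂ) = 0,
          2 ^ Cfsg.blockHeight 2 B (χ : G → ℂ) := by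
    rw [Finset.sum_ite, Finset.sum_const, smul_eq_mul, mul_comm _ 3, Finset.mul_sum, Finset.filter_filter,
      Finset.filter_filter]
  rw [← hsum]
  refine ⟨?_, hmain⟩
  rw [Nat.card_eq_fintype_card, Fintype.card_subtype, Finset.card_eq_sum_ones, Finset.mul_sum]
  refine Finset.sum_le_sum fun χ _ => ?_
  split_ifs with h
  · exact le_rfl
  · have : 2 ^ 1 ≤ 2 ^ Cfsg.blockHeight 2 B (χ : G → ℂ) := Nat.pow_le_pow_right (by norm_num) (by omega)
    omega

end Cfsg.Agent.S4540
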