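import Cfsg.Statements.S4541
import Cfsg.Agent.Lib.Char.TwoSubsectionBounds

set_option autoImplicit false
open Cfsg
open Cfsg.Agent

namespace Cfsg.Agent.S4541

/-- Let B be a 2-block of the finite group G (relative to a maximal ideal M of the algebraic integers containing 2), u a 2-element, and b a block of the centralizer of u inducing B (a subsection (u, b)), of defect q and 2-regular rank l; write s for the integer square root of l and k₀(B) for the number of members of B of height zero. If s is odd then k₀(B) ≤ s·2 ^ q, and otherwise (s + 1)·k₀(B) ≤ l·2 ^ q; in particular k₀(B) ≤ 2 ^ q when l ≤ 3. -/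
theorem result {G : Type*} [Group G] [Finite G] (M : Ideal Cfsg.AlgInt) (hM : Cfsg.IsPModular 2 M) (B : Set (Cfsg.IrrCharacter G)) (hB : Cfsg.IsPBlock M B) (u : G) (hu : ∃ j : ℕ, orderOf u = 2 ^ j) (b : Set (Cfsg.IrrCharacter ↥(Subgroup.centralizer ({u} : Set G)))) (hb : Cfsg.IsInducedBlock M (Subgroup.centralizer ({u} : Set G)) b B) : (Odd (Nat.sqrt (Cfsg.blockRank 2 b)) → Nat.card {χ : Cfsg.IrrCharacter G // χ ∈ B ∧ Cfsg.blockHeight 2 B (χ : G → ℂ) = 0} ≤ Nat.sqrt (Cfsg.blockRank 2 b) * 2 ^ Cfsg.blockDefect 2 b) ∧ (¬ Odd (Nat.sqrt (Cfsg.blockRank 2 b)) → (Nat.sqrt (Cfsg.blockRank 2 b) + 1) * Nat.card {χ : Cfsg.IrrCharacter G // χ ∈ B ∧ Cfsg.blockHeight 2 B (χ : G → ℂ) = 0} ≤ Cfsg.blockRank 2 b * 2 ^ Cfsg.blockDefect 2 b) ∧ (Cfsg.blockRank 2 b ≤ 3 → Nat.card {χ : Cfsg.IrrCharacter G // χ ∈ B ∧ Cfsg.blockHeight 2 B (χ : G → ℂ) = 0} ≤ 2 ^ Cfsg.blockDefect 2 b) := by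
  have hsq : Nat.sqrt (blockRank 2 b) ^ 2 ≤ blockRank 2 b ∧ blockRank 2 b < (Nat.sqrt (blockRank 2 b) + 1) ^ 2 :=
    ⟨Nat.sqrt_le' _, Nat.lt_succ_sqrt' _⟩
  have H := Char.MajorSub.heightZero_le hM hu hb
  generalize Nat.card {χ : Cfsg.IrrCharacter G // χ ∈ B ∧ Cfsg.blockHeight 2 B (χ : G → ℂ) = 0} = n at H ⊢
  generalize Nat.sqrt (blockRank 2 b) = s at H hsq ⊢
  generalize blockRank 2 b = l at H hsq ⊢
  generalize (2 : ℕ) ^ blockDefect 2 b = q at H ⊢
  rcases H with ⟨a, ha, has, hn⟩ | ⟨a, ha, has, hn⟩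
  · refine ⟨fun _ => hn.trans (Nat.mul_le_mul_right q has), fun hs => ?_, fun hl => ?_⟩
    · obtain ⟨m, rfl⟩ : ∃ m, s = a + 1 + m := by
        refine ⟨s - (a + 1), ?_⟩
        have : s ≠ a := fun e => hs (e ▸ ha)
        omega
      calc (a + 1 + m + 1) * n ≤ (a + 1 + m + 1) * (a * q) := Nat.mul_le_mul_left _ hn
        _ = ((a + 1 + m + 1) * a) * q := by ring
        _ ≤ (a + 1 + m) ^ 2 * q := Nat.mul_le_mul_right q (by nlinarith)
        _ ≤ l * q := Nat.mul_le_mul_right q hsq.1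
    · have : a = 1 := by
        have : a ^ 2 ≤ 3 := ((Nat.pow_le_pow_left has 2).trans hsq.1).trans hl
        obtain ⟨m, rfl⟩ := ha
        nlinarith
      rw [this, one_mul] at hn
      exact hn
  · refine ⟨fun hs => ?_, fun _ => (Nat.mul_le_mul_right n (by omega)).trans hn, fun hl => ?_⟩
    · have h2 : s + 2 ≤ a := by obtain ⟨m, rfl⟩ := ha; obtain ⟨m', rfl⟩ := hs; omega
      refine Nat.le_of_mul_le_mul_left (c := s + 2) ?_ (by omega)
      calc (s + 2) * n ≤ a * n := Nat.mul_le_mul_right n h2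
        _ ≤ l * q := hn
        _ ≤ ((s + 2) * s) * q := Nat.mul_le_mul_right q (by nlinarith)
        _ = _ := by ring
    · have h3 : l ≤ a := by
        rcases Nat.eq_zero_or_pos s with h | h
        · subst h; omega
        · obtain ⟨m, rfl⟩ := ha; omega
      refine Nat.le_of_mul_le_mul_left (hn.trans (Nat.mul_le_mul_right q h3)) (by omega)

end Cfsg.Agent.S4541
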