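import Cfsg.Statements.S4550
import Cfsg.Agent.Lib.Char.BlockInter

set_option autoImplicit false
open Cfsg Cfsg.Agent.Char
open scoped ComplexConjugate

namespace Cfsg.Agent.S4550

/-- Let G be a finite group of even order and M a maximal ideal of the algebraic integers containing 2. Let k be a natural number with g ^ k = g ^ 3 for every 2-element g and g ^ k = g for every element g of odd order (such k exist); an irreducible character χ is unchanged by g ↦ g ^ k exactly when it is fixed by the field automorphism that cubes the 2-power roots of unity and fixes the roots of unity of odd order. Then the number of members χ of the principal 2-block of odd degree with χ (g ^ k) = χ g for all g is even. -/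
theorem result {G : Type*} [Group G] [Finite G] (M : Ideal Cfsg.AlgInt) (hM : Cfsg.IsPModular 2 M) (hev : Even (Nat.card G)) (k : ℕ) (hk₁ : ∀ g : G, (∃ j : ℕ, orderOf g = 2 ^ j) → g ^ k = g ^ 3) (hk₂ : ∀ g : G, Odd (orderOf g) → g ^ k = g) : Even (Nat.card {χ : Cfsg.IrrCharacter G // χ ∈ Cfsg.principalBlock M G ∧ Odd (Cfsg.charDegree (χ : G → ℂ)) ∧ ∀ g : G, (χ : G → ℂ) (g ^ k) = (χ : G → ℂ) g}) := by
  classical
  haveI := Fintype.ofFinite G
  set a := (Nat.card G).factorization 2
  have hkc : k.Coprime (Nat.card G) := by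
    refine Nat.coprime_of_dvd fun r hr hrk hrG => ?_
    haveI := Fact.mk hr
    obtain ⟨g, hg⟩ := exists_prime_orderOf_dvd_card' r hrG
    have hgk : g ^ k = 1 := orderOf_dvd_iff_pow_eq_one.mp (hg ▸ hrk)
    have hg1 : g ≠ 1 := fun e => hr.ne_one (by rw [← hg, e, orderOf_one])
    rcases hr.eq_two_or_odd' with h2 | hodd
    · subst h2
      rw [hk₁ g ⟨1, by rw [hg, pow_one]⟩] at hgk
      have := Nat.le_of_dvd (by norm_num) (orderOf_dvd_of_pow_eq_one hgk)
      have h3 : (2 : ℕ) ∣ 3 := hg ▸ orderOf_dvd_of_pow_eq_one hgk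
      norm_num at h3
    · exact hg1 ((hk₂ g (hg ▸ hodd)).symm.trans hgk)
  let σ : IrrCharacter G → IrrCharacter G := fun χ =>
    ⟨fun g => (χ : G → ℂ) (g ^ k), isIrrCharacter_pow χ.2 hkc⟩
  let S := {χ : IrrCharacter G // χ ∈ principalBlock M G ∧ Odd (charDegree (χ : G → ℂ))}
  have hdeg : ∀ χ, charDegree ((σ χ : IrrCharacter G) : G → ℂ) = charDegree (χ : G → ℂ) := fun χ => by
    simp only [charDegree_eq_deg]
    have h1 := char_one_eq_deg (irr_isCharacter (σ χ).2)
    have h2 := char_one_eq_deg (irr_isCharacter χ.2)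
    simp only [σ, one_pow] at h1
    exact_mod_cast h1.symm.trans h2
  have hinj : Function.Injective σ := fun χ ψ h => Subtype.ext (funext fun g => by
    have h1 := congrFun (congrArg Subtype.val h) ((powCoprime (Nat.Coprime.symm hkc)).symm g)
    simp only [σ] at h1
    rwa [← powCoprime_apply (Nat.Coprime.symm hkc), Equiv.apply_symm_apply] at h1)
  let τ : S → S := fun χ => ⟨σ χ.1,
    principalBlock_pow hM hkc (χ := χ.1) (fun g => rfl) χ.2.1, (hdeg χ.1).symm ▸ χ.2.2⟩
  have hτi : Function.Injective τ := fun χ ψ h =>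
    Subtype.ext (hinj (congrArg Subtype.val h))
  let e : Equiv.Perm S := Equiv.ofBijective τ (Finite.injective_iff_bijective.mp hτi)
  have hiter : ∀ m : ℕ, ∀ (χ : S) (g : G),
      (((e ^ m) χ).1 : G → ℂ) g = (χ.1 : G → ℂ) (g ^ k ^ m) := by
    intro m
    induction m with
    | zero => intro χ g; simp
    | succ m ih =>
      intro χ g
      rw [pow_succ, Equiv.Perm.mul_apply, ih]
      show (χ.1 : G → ℂ) ((g ^ k ^ m) ^ k) = _
      rw [← pow_mul, ← pow_succ]
  have hkpow : ∀ g : G, g ^ k ^ (2 ^ a) = g := by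
    intro g
    obtain ⟨x, y, hxy, hcomm, ⟨j, hx⟩, hy⟩ := exists_isPPart (p := 2) Nat.prime_two g
    have hy' : Odd (orderOf y) := Nat.odd_iff.mpr (Nat.two_dvd_ne_zero.mp hy)
    have hxk : ∀ m : ℕ, x ^ k ^ m = x ^ 3 ^ m := by
      intro m
      induction m with
      | zero => simp
      | succ m ih =>
        have hord : ∃ i, orderOf (x ^ 3 ^ m) = 2 ^ i := ⟨j, by
          rw [Nat.Coprime.orderOf_pow (by rw [hx]; exact Nat.Coprime.pow _ _ (by norm_num)), hx]⟩
        rw [pow_succ, pow_mul, ih, hk₁ _ hord, ← pow_mul, ← pow_succ]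
    have hyk : ∀ m : ℕ, y ^ k ^ m = y := by
      intro m
      induction m with
      | zero => simp
      | succ m ih => rw [pow_succ, pow_mul, ih, hk₂ y hy']
    rw [← hxy, hcomm.mul_pow, hxk, hyk]
    congr 1
    conv_rhs => rw [← pow_one x]
    refine pow_eq_pow_iff_modEq.mpr ?_
    rw [hx]
    rcases Nat.eq_zero_or_pos j with rfl | hj
    · simp [Nat.modEq_one]
    have hja : j ≤ a := by
      refine (Nat.prime_two.pow_dvd_iff_le_factorization Nat.card_pos.ne').mp ?_
      exact hx ▸ orderOf_dvd_natCard x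
    have hphi := Nat.ModEq.pow_totient (x := 3) (n := 2 ^ j) (Nat.Coprime.pow_right _ (by norm_num))
    rw [Nat.totient_prime_pow Nat.prime_two hj, show 2 - 1 = 1 from rfl, mul_one] at hphi
    have : 2 ^ a = 2 ^ (j - 1) * 2 ^ (a - (j - 1)) := by rw [← pow_add]; congr 1; omega
    rw [this, pow_mul]
    simpa using hphi.pow (2 ^ (a - (j - 1)))
  have he : e ^ (2 ^ a) = 1 := Equiv.ext fun χ => Subtype.ext (Subtype.ext (funext fun g => by
    rw [hiter, hkpow]; rfl))
  haveI : Fintype S := Fintype.ofFinite S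
  haveI : Fact (Nat.Prime 2) := ⟨Nat.prime_two⟩
  have hmod := Equiv.Perm.card_compl_support_modEq (p := 2) (n := a) he
  have hSeven : Even (Fintype.card S) := by
    have hsum := dvd_sum_sq_principal hM (even_iff_two_dvd.mp hev)
    have hc : ((∑ χ : IrrCharacter G with χ ∈ principalBlock M G,
        charDegree (χ : G → ℂ) ^ 2 : ℕ) : ZMod 2) = (Fintype.card S : ZMod 2) := by
      push_cast
      rw [Fintype.card_subtype, Finset.card_eq_sum_ones, Nat.cast_sum, Finset.sum_filter,
        Finset.sum_filter]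
      refine Finset.sum_congr rfl fun χ _ => ?_
      by_cases h1 : χ ∈ principalBlock M G
      · by_cases h2 : Odd (charDegree (χ : G → ℂ))
        · rw [if_pos h1, if_pos ⟨h1, h2⟩, ZMod.natCast_eq_one_iff_odd.mpr h2]; simp
        · rw [if_pos h1, if_neg fun h => h2 h.2,
            ZMod.natCast_eq_zero_iff_even.mpr (Nat.not_odd_iff_even.mp h2)]; simp
      · rw [if_neg h1, if_neg fun h => h1 h.1]
    rw [(ZMod.natCast_eq_zero_iff _ _).mpr hsum] at hc
    exact ZMod.natCast_eq_zero_iff_even.mp hc.symm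
  rw [Nat.even_iff] at hSeven ⊢
  rw [show Nat.card _ = (e.supportᶜ).card from ?_]
  · rw [Nat.ModEq, hSeven] at hmod
    exact hmod
  rw [← Fintype.card_coe, ← Nat.card_eq_fintype_card]
  refine Nat.card_congr ⟨fun χ => ⟨⟨χ.1, χ.2.1, χ.2.2.1⟩, ?_⟩, fun χ => ⟨χ.1.1, χ.1.2.1, χ.1.2.2, ?_⟩,
    fun χ => rfl, fun χ => rfl⟩
  · rw [Finset.mem_compl, Equiv.Perm.notMem_support]
    exact Subtype.ext (Subtype.ext (funext fun g => χ.2.2.2 g))
  · have h1 := χ.2
    rw [Finset.mem_compl, Equiv.Perm.notMem_support] at h1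
    exact fun g => congrFun (congrArg Subtype.val (congrArg Subtype.val h1)) g

end Cfsg.Agent.S4550
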