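import Cfsg.Statements.S4560
import Cfsg.Agent.Lib.Char.AltPairCharacters

set_option autoImplicit false
open Cfsg
open scoped ComplexConjugate

namespace Cfsg.Agent.S4560

/-- For n ≥ 7 the alternating group on n letters has an irreducible character that vanishes at some 2-element and is the restriction of an irreducible character of the symmetric group, and an irreducible character that vanishes at some element of order 3 and is the restriction of an irreducible character of the symmetric group. -/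
theorem result (n : ℕ) (hn : 7 ≤ n) : (∃ χ : Cfsg.IrrCharacter (alternatingGroup (Fin n)), (∃ x : alternatingGroup (Fin n), (∃ j : ℕ, orderOf x = 2 ^ j) ∧ (χ : alternatingGroup (Fin n) → ℂ) x = 0) ∧ ∃ ψ : Cfsg.IrrCharacter (Equiv.Perm (Fin n)), ∀ x : alternatingGroup (Fin n), (ψ : Equiv.Perm (Fin n) → ℂ) x = (χ : alternatingGroup (Fin n) → ℂ) x) ∧ (∃ χ : Cfsg.IrrCharacter (alternatingGroup (Fin n)), (∃ y : alternatingGroup (Fin n), orderOf y = 3 ∧ (χ : alternatingGroup (Fin n) → ℂ) y = 0) ∧ ∃ ψ : Cfsg.IrrCharacter (Equiv.Perm (Fin n)), ∀ x : alternatingGroup (Fin n), (ψ : Equiv.Perm (Fin n) → ℂ) x = (χ : alternatingGroup (Fin n) → ℂ) x) := by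
  classical
  have hc : Fintype.card (Fin n) = n := Fintype.card_fin n
  have hA : Cfsg.Agent.Char.AltPair.Trans4 (alternatingGroup (Fin n)).subtype :=
    Cfsg.Agent.Char.AltPair.trans4_alternating (by omega)
  have hS : Cfsg.Agent.Char.AltPair.Trans4 (MonoidHom.id (Equiv.Perm (Fin n))) := Cfsg.Agent.Char.AltPair.trans4_id
  obtain ⟨χ₁, hχ₁⟩ := Cfsg.Agent.Char.AltPair.irr_stdC _ hA (by omega)
  obtain ⟨ψ₁, hψ₁⟩ := Cfsg.Agent.Char.AltPair.irr_stdC _ hS (by omega)
  obtain ⟨χ₂, hχ₂⟩ := Cfsg.Agent.Char.AltPair.irr_symC _ hA (by omega)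
  obtain ⟨ψ₂, hψ₂⟩ := Cfsg.Agent.Char.AltPair.irr_symC _ hS (by omega)
  obtain ⟨χ₃, hχ₃⟩ := Cfsg.Agent.Char.AltPair.irr_altC _ hA (by omega)
  obtain ⟨ψ₃, hψ₃⟩ := Cfsg.Agent.Char.AltPair.irr_altC _ hS (by omega)
  have hrep : ∀ k r : ℕ, (Multiset.replicate k r).sum = k * r := fun k r => by
    rw [Multiset.sum_replicate, smul_eq_mul]
  constructor
  · -- 2-elements
    have key : ∀ m : Multiset ℕ, m.sum ≤ n → (∀ r ∈ m, 2 ≤ r) → (∀ r ∈ m, r ∣ 8) →
        Even (m.sum + Multiset.card m) →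
        ∃ x : alternatingGroup (Fin n), (∃ j : ℕ, orderOf x = 2 ^ j) ∧
          (x : Equiv.Perm (Fin n)).cycleType = m ∧
          (Cfsg.Agent.Char.AltPair.fx (x : Equiv.Perm (Fin n))).card = n - m.sum := by
      intro m h1 h2 h8 h4
      obtain ⟨x, hx, ho, hf⟩ := Cfsg.Agent.Char.AltPair.exists_alt_of_cycleType m (hc ▸ h1) h2 h4
      have hd : orderOf x ∣ 2 ^ 3 := by
        rw [ho]
        exact Multiset.lcm_dvd.mpr h8
      obtain ⟨j, -, hj⟩ := (Nat.dvd_prime_pow Nat.prime_two).mp hd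
      exact ⟨x, ⟨j, hj⟩, hx, hf.trans (by rw [hc])⟩
    rcases Nat.even_or_odd n with hev | hodd
    · -- `8`'s and `4`'s covering all points, or all but two
      obtain ⟨b, q, hb, hq, hn4⟩ : ∃ b q : ℕ, b ≤ 1 ∧ Even q ∧
          (8 * b + 4 * (q - b) + 0 = n ∧ b ≤ q ∨ 8 * b + 4 * (q - b) + 2 = n ∧ b ≤ q) := by
        obtain ⟨c, hc⟩ := hev
        rcases Nat.even_or_odd (c / 2) with ⟨d, hd⟩ | ⟨d, hd⟩
        · exact ⟨0, c / 2, by omega, ⟨d, hd⟩, by omega⟩
        · exact ⟨1, c / 2 - 1, le_rfl, ⟨d, by omega⟩, by omega⟩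
      obtain ⟨x, hxo, hxm, hxf⟩ := key (Multiset.replicate b 8 + Multiset.replicate (q - b) 4)
        (by rw [Multiset.sum_add, hrep, hrep]; omega)
        (fun r hr => by
          rcases Multiset.mem_add.mp hr with h | h <;>
            (rw [Multiset.eq_of_mem_replicate h]; norm_num))
        (fun r hr => by
          rcases Multiset.mem_add.mp hr with h | h <;>
            (rw [Multiset.eq_of_mem_replicate h] <;> norm_num))
        (by
          rw [Multiset.sum_add, hrep, hrep, Multiset.card_add, Multiset.card_replicate,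
            Multiset.card_replicate]
          obtain ⟨d, hd⟩ := hq
          rcases hn4 with h | h <;> exact ⟨4 * b + 2 * (q - b) + d, by omega⟩)
      have hsw : (Cfsg.Agent.Char.AltPair.sw (x : Equiv.Perm (Fin n))).card = 0 := by
        refine Cfsg.Agent.Char.AltPair.sw_empty _ fun r hr => ?_
        rw [hxm] at hr
        rcases Multiset.mem_add.mp hr with h | h <;>
          (rw [Multiset.eq_of_mem_replicate h]; norm_num)
      rw [Multiset.sum_add, hrep, hrep] at hxf
      rcases hn4 with h | h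
      · refine ⟨χ₂, ⟨x, hxo, ?_⟩, ψ₂, fun y => by rw [hψ₂, hχ₂]; rfl⟩
        rw [hχ₂]
        have h0 : (Cfsg.Agent.Char.AltPair.fx (x : Equiv.Perm (Fin n))).card = 0 := by omega
        simp [Cfsg.Agent.Char.AltPair.symC, Cfsg.Agent.Char.AltPair.pC, Cfsg.Agent.Char.AltPair.fC, Cfsg.Agent.Char.AltPair.sC, h0, hsw]
      · refine ⟨χ₃, ⟨x, hxo, ?_⟩, ψ₃, fun y => by rw [hψ₃, hχ₃]; rfl⟩
        rw [hχ₃]
        have h0 : (Cfsg.Agent.Char.AltPair.fx (x : Equiv.Perm (Fin n))).card = 2 := by omega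
        simp [Cfsg.Agent.Char.AltPair.altC, Cfsg.Agent.Char.AltPair.pC, Cfsg.Agent.Char.AltPair.fC, Cfsg.Agent.Char.AltPair.sC, h0, hsw]
        norm_num
    · -- one fixed point
      obtain ⟨b, q, e, he, hq, hn4⟩ : ∃ b q e : ℕ, e ≤ 1 ∧ Even (q + e) ∧
          (8 * b + 4 * (q - b) + 2 * e + 1 = n ∧ b ≤ q) := by
        obtain ⟨c, hc⟩ := hodd
        rcases Nat.even_or_odd c with ⟨d, hd⟩ | ⟨d, hd⟩
        · rcases Nat.even_or_odd d with ⟨w, hw⟩ | ⟨w, hw⟩
          · exact ⟨0, d, 0, by omega, ⟨w, by omega⟩, by omega⟩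
          · exact ⟨1, d - 1, 0, by omega, ⟨w, by omega⟩, by omega⟩
        · rcases Nat.even_or_odd d with ⟨w, hw⟩ | ⟨w, hw⟩
          · exact ⟨1, d - 1, 1, le_rfl, ⟨w, by omega⟩, by omega⟩
          · exact ⟨0, d, 1, le_rfl, ⟨w + 1, by omega⟩, by omega⟩
      obtain ⟨x, hxo, hxm, hxf⟩ := key (Multiset.replicate b 8 + Multiset.replicate (q - b) 4 +
          Multiset.replicate e 2)
        (by rw [Multiset.sum_add, Multiset.sum_add, hrep, hrep, hrep]; omega)
        (fun r hr => by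
          rcases Multiset.mem_add.mp hr with h | h
          · rcases Multiset.mem_add.mp h with h | h <;>
              (rw [Multiset.eq_of_mem_replicate h]; norm_num)
          · rw [Multiset.eq_of_mem_replicate h])
        (fun r hr => by
          rcases Multiset.mem_add.mp hr with h | h
          · rcases Multiset.mem_add.mp h with h | h <;>
              (rw [Multiset.eq_of_mem_replicate h] <;> norm_num)
          · rw [Multiset.eq_of_mem_replicate h]; norm_num)
        (by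
          rw [Multiset.sum_add, Multiset.sum_add, hrep, hrep, hrep, Multiset.card_add,
            Multiset.card_add, Multiset.card_replicate, Multiset.card_replicate,
            Multiset.card_replicate]
          obtain ⟨d, hd⟩ := hq
          exact ⟨4 * b + 2 * (q - b) + e + d, by omega⟩)
      rw [Multiset.sum_add, Multiset.sum_add, hrep, hrep, hrep] at hxf
      refine ⟨χ₁, ⟨x, hxo, ?_⟩, ψ₁, fun y => by rw [hψ₁, hχ₁]; rfl⟩
      rw [hχ₁]
      have h0 : (Cfsg.Agent.Char.AltPair.fx (x : Equiv.Perm (Fin n))).card = 1 := by omega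
      simp [Cfsg.Agent.Char.AltPair.stdC, Cfsg.Agent.Char.AltPair.fC, h0]
  · -- elements of order three
    obtain ⟨x, hxm, hxl, hxf⟩ := Cfsg.Agent.Char.AltPair.exists_alt_of_cycleType (Ω := Fin n)
      (Multiset.replicate (n / 3) 3) (by rw [hrep]; omega)
      (fun r hr => by rw [Multiset.eq_of_mem_replicate hr]; norm_num)
      (by rw [hrep, Multiset.card_replicate]; exact ⟨2 * (n / 3), by omega⟩)
    have ho : orderOf x = 3 := by
      have hd : orderOf x ∣ 3 := by
        rw [hxl]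
        exact Multiset.lcm_dvd.mpr fun r hr => by rw [Multiset.eq_of_mem_replicate hr]
      refine ((Nat.dvd_prime Nat.prime_three).mp hd).resolve_left fun h => ?_
      rw [orderOf_eq_one_iff] at h
      have h' : (Multiset.card (Multiset.replicate (n / 3) 3)) = 0 := by
        rw [← hxm, h]
        simp
      rw [Multiset.card_replicate] at h'
      omega
    have hsw : (Cfsg.Agent.Char.AltPair.sw (x : Equiv.Perm (Fin n))).card = 0 := by
      refine Cfsg.Agent.Char.AltPair.sw_empty _ fun r hr => ?_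
      rw [hxm] at hr
      rw [Multiset.eq_of_mem_replicate hr]
    rw [hrep, hc] at hxf
    rcases (show n % 3 = 0 ∨ n % 3 = 1 ∨ n % 3 = 2 by omega) with h | h | h
    · refine ⟨χ₂, ⟨x, ho, ?_⟩, ψ₂, fun y => by rw [hψ₂, hχ₂]; rfl⟩
      rw [hχ₂]
      have h0 : (Cfsg.Agent.Char.AltPair.fx (x : Equiv.Perm (Fin n))).card = 0 := by omega
      simp [Cfsg.Agent.Char.AltPair.symC, Cfsg.Agent.Char.AltPair.pC, Cfsg.Agent.Char.AltPair.fC, Cfsg.Agent.Char.AltPair.sC, h0, hsw]
    · refine ⟨χ₁, ⟨x, ho, ?_⟩, ψ₁, fun y => by rw [hψ₁, hχ₁]; rfl⟩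
      rw [hχ₁]
      have h0 : (Cfsg.Agent.Char.AltPair.fx (x : Equiv.Perm (Fin n))).card = 1 := by omega
      simp [Cfsg.Agent.Char.AltPair.stdC, Cfsg.Agent.Char.AltPair.fC, h0]
    · refine ⟨χ₃, ⟨x, ho, ?_⟩, ψ₃, fun y => by rw [hψ₃, hχ₃]; rfl⟩
      rw [hχ₃]
      have h0 : (Cfsg.Agent.Char.AltPair.fx (x : Equiv.Perm (Fin n))).card = 2 := by omega
      simp [Cfsg.Agent.Char.AltPair.altC, Cfsg.Agent.Char.AltPair.pC, Cfsg.Agent.Char.AltPair.fC, Cfsg.Agent.Char.AltPair.sC, h0, hsw]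
      norm_num

end Cfsg.Agent.S4560
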