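import Cfsg.Statements.S4561
import Cfsg.Agent.Lib.Char.MonomialCentralType

set_option autoImplicit false
universe u
open Cfsg
open scoped ComplexConjugate

namespace Cfsg.Agent.S4561

/-- For every finite solvable group G there is a finite group H with a faithful irreducible character χ whose degree squared equals the index of the centre Z(H) (so χ is fully ramified over the centre), such that G is isomorphic to a subgroup of H/Z(H), the primes dividing the orders of H, of Z(H) and of G are the same, and the order of Z(H) is squarefree. -/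
theorem result {G : Type u} [Group G] [Finite G] (hsolv : Group.IsSolvable G) : ∃ (H : Type u) (_ : Group H) (_ : Finite H) (χ : Cfsg.IrrCharacter H), (∀ h : H, (χ : H → ℂ) h = (χ : H → ℂ) 1 → h = 1) ∧ (Cfsg.charDegree (χ : H → ℂ)) ^ 2 = (Subgroup.center H).index ∧ (∃ f : G →* H ⧸ Subgroup.center H, Function.Injective f) ∧ (∀ p : ℕ, p.Prime → ((p ∣ Nat.card H ↔ p ∣ Nat.card G) ∧ (p ∣ Nat.card (Subgroup.center H) ↔ p ∣ Nat.card G))) ∧ Squarefree (Nat.card (Subgroup.center H)) := by
  classical
  set r := ∏ q ∈ (Nat.card G).primeFactors, q with hr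
  have hG0 : Nat.card G ≠ 0 := Nat.card_pos.ne'
  have hr0 : r ≠ 0 := Finset.prod_ne_zero_iff.2 fun q hq => (Nat.prime_of_mem_primeFactors hq).ne_zero
  have hiff : ∀ q : ℕ, q.Prime → (q ∣ r ↔ q ∣ Nat.card G) := fun q hq => by
    constructor
    · intro h
      obtain ⟨l, hl, hd⟩ := (hq.prime.dvd_finsetProd_iff _).1 h
      rw [(Nat.prime_dvd_prime_iff_eq hq (Nat.prime_of_mem_primeFactors hl)).1 hd]
      exact Nat.dvd_of_mem_primeFactors hl
    · intro h
      exact Finset.dvd_prod_of_mem _ (Nat.mem_primeFactors.2 ⟨hq, h, hG0⟩)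
  have hsf : Squarefree r := Finset.squarefree_prod_of_pairwise_isCoprime (fun i hi j hj hij =>
    Nat.coprime_iff_isRelPrime.1 ((Nat.coprime_primes (Nat.prime_of_mem_primeFactors hi)
      (Nat.prime_of_mem_primeFactors hj)).2 hij))
    (fun i hi => (Nat.prime_of_mem_primeFactors hi).squarefree)
  obtain ⟨W, _, _, A, _, _, e, π, he, hπ, hcoc, hrA, hW⟩ :=
    Cfsg.Agent.Char.CentralType.emb_of_solvable (r := r) _ G rfl hsolv fun q hq hd => (hiff q hq).2 hd
  haveI := Fintype.ofFinite W
  haveI : Fintype A := Fintype.ofBijective π hπ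
  obtain ⟨H, hH, hHf, χ, hfaith, hdeg, hidx, hcenter, f, hf⟩ :=
    Cfsg.Agent.Char.CentralType.exists_central_type hπ hcoc hrA hr0
  refine ⟨H, hH, hHf, χ, hfaith, ?_, ⟨f.comp e, hf.comp he⟩, fun p hp => ⟨?_, ?_⟩, ?_⟩
  · rw [hdeg, hidx]
  · rw [← Subgroup.card_mul_index (Subgroup.center H), hcenter, hidx, hp.dvd_mul]
    refine ⟨fun h => ?_, fun h => Or.inl ((hiff p hp).2 h)⟩
    rcases h with h | h
    · exact (hiff p hp).1 h
    · exact (hiff p hp).1 (hW p hp (by rw [Nat.card_eq_fintype_card]; exact hp.dvd_of_dvd_pow h))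
  · rw [hcenter]; exact hiff p hp
  · rw [hcenter]; exact hsf

end Cfsg.Agent.S4561
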