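import Cfsg.Statements.S4564
import Cfsg.Agent.Lib.Char.FullyRamifiedInduced

set_option autoImplicit false
open Cfsg
open scoped ComplexConjugate

namespace Cfsg.Agent.S4564

/-- Let χ be an irreducible character of the finite group H that is fully ramified over the normal subgroup Z: the restriction of χ to Z is e times an irreducible character of Z with e ^ 2 equal to the index of Z. Let K be a normal subgroup of H containing Z and P a cyclic Sylow p-subgroup of H/K. Then P has a complement in H/K: a subgroup meeting P trivially whose product with P is the whole group. -/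
theorem result {H : Type*} [Group H] [Finite H] (Z : Subgroup H) [Z.Normal] (χ : Cfsg.IrrCharacter H) (hfr : ∃ (θ : Cfsg.IrrCharacter ↥Z) (e : ℕ), e ^ 2 = Z.index ∧ ∀ z : ↥Z, (χ : H → ℂ) z = (e : ℂ) * (θ : ↥Z → ℂ) z) (K : Subgroup H) [K.Normal] (hZK : Z ≤ K) (p : ℕ) [Fact p.Prime] (P : Sylow p (H ⧸ K)) (hcyc : IsCyclic P) : ∃ M : Subgroup (H ⧸ K), M.IsComplement' (P : Subgroup (H ⧸ K)) := by
  classical
  haveI := Fintype.ofFinite H
  obtain ⟨θ, e, he, hθ⟩ := hfr
  haveI := Fintype.ofFinite Z
  obtain ⟨M, hM⟩ := Cfsg.Agent.Char.FROrbit.exists_index_of_cyclic ⟨he, hθ⟩ K hZK P hcyc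
  have hP : Nat.card (P : Subgroup (H ⧸ K)) = M.index := by
    rw [hM]; exact P.card_eq_multiplicity
  have hcard : Nat.card M = (P : Subgroup (H ⧸ K)).index :=
    Nat.eq_of_mul_eq_mul_left (Nat.pos_of_ne_zero M.index_ne_zero_of_finite)
      (by rw [Subgroup.index_mul_card, ← hP, mul_comm, Subgroup.index_mul_card])
  refine ⟨M, Subgroup.isComplement'_of_coprime ?_ ?_⟩
  · rw [hcard, Subgroup.index_mul_card]
  · rw [hcard, P.card_eq_multiplicity]
    exact Nat.Coprime.pow_right _
      ((Fact.out : p.Prime).coprime_iff_not_dvd.2 P.not_dvd_index).symm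

end Cfsg.Agent.S4564
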