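import Cfsg.Statements.S4566
import Cfsg.Agent.Lib.Char.PermLemma

set_option autoImplicit false
open Cfsg
open scoped ComplexConjugate

namespace Cfsg.Agent.S4566

/-- Let N be a central subgroup of the finite group G, ψ a faithful irreducible (hence degree-one) character of N, and χ an irreducible character of G whose restriction to N contains ψ. If g ∈ G and some x ∈ G has commutator x⁻¹ g⁻¹ x g in N but different from 1, then χ g = 0. -/
theorem result {G : Type*} [Group G] [Fintype G] (N : Subgroup G) [Fintype N] (hN : N ≤ Subgroup.center G) (ψ : Cfsg.IrrCharacter ↥N) (hfaith : ∀ n : ↥N, (ψ : ↥N → ℂ) n = (ψ : ↥N → ℂ) 1 → n = 1) (χ : Cfsg.IrrCharacter G) (hover : Cfsg.classInner (fun n : ↥N => (χ : G → ℂ) n) (ψ : ↥N → ℂ) ≠ 0) (g x : G) (hcomm : x⁻¹ * g⁻¹ * x * g ∈ N) (hne : x⁻¹ * g⁻¹ * x * g ≠ 1) : (χ : G → ℂ) g = 0 := by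
  classical
  set z := x⁻¹ * g⁻¹ * x * g with hz
  have hzN : z⁻¹ ∈ N := N.inv_mem hcomm
  have hχ := χ.2
  have hχ1 := Cfsg.Agent.Char.irr_one_ne_zero hχ
  -- the restriction to `N` is a multiple of a linear character
  let l : ↥N →* ℂ :=
    { toFun := fun n => (χ : G → ℂ) n / (χ : G → ℂ) 1
      map_one' := by simp [hχ1]
      map_mul' := fun a b => by
        show (χ : G → ℂ) ((a : G) * b) / _ = _
        rw [Cfsg.Agent.Char.char_central_mul hχ (hN a.2) b]
        field_simp }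
  let L : Cfsg.IrrCharacter ↥N := ⟨fun n => (l.toHomUnits n : ℂ),
    Cfsg.Agent.Char.isIrrCharacter_linear l.toHomUnits⟩
  have hres : (fun n : ↥N => (χ : G → ℂ) n) = (χ : G → ℂ) 1 • (L : ↥N → ℂ) := by
    funext n
    simp [L, l, mul_div_cancel₀ _ hχ1]
  have hψL : ψ = L := by
    by_contra hne'
    apply hover
    rw [hres, Cfsg.Agent.Char.classInner_smul_left, Cfsg.Agent.Char.irrC_orth,
      if_neg (Ne.symm hne'), mul_zero]
  have hne1 : (χ : G → ℂ) z⁻¹ / (χ : G → ℂ) 1 ≠ 1 := by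
    intro h
    have h2 := hfaith ⟨z⁻¹, hzN⟩ (by
      rw [hψL]
      simp [L, l, h, hχ1])
    exact hne (by simpa using congrArg Subtype.val h2)
  have hgz : x⁻¹ * g * x = z⁻¹ * g := by
    have hc := Subgroup.mem_center_iff.1 (hN hzN) g
    rw [← hc, hz]; group
  have e := Cfsg.Agent.Char.isClassFunction_character (Cfsg.Agent.Char.irr_isCharacter hχ) g x⁻¹
  rw [inv_inv, hgz, Cfsg.Agent.Char.char_central_mul hχ (hN hzN)] at e
  have : ((χ : G → ℂ) z⁻¹ / (χ : G → ℂ) 1 - 1) * (χ : G → ℂ) g = 0 := by linear_combination e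
  exact (mul_eq_zero.1 this).resolve_left (sub_ne_zero.2 hne1)

end Cfsg.Agent.S4566
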