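import Cfsg.Statements.S4567
import Cfsg.Agent.Lib.Char.ExtraspecialChar
import Cfsg.Agent.Lib.Char.Convolution
import Cfsg.Agent.Lib.Char.Linear
import Cfsg.Agent.Lib.Char.Inflate

set_option autoImplicit false
open Cfsg Cfsg.Agent.Char
open scoped ComplexConjugate
open scoped ComplexConjugate

namespace Cfsg.Agent.S4567

/-- Let N be a central subgroup of the finite group G and ψ a faithful irreducible (hence degree-one) character of N. Call a coset g N special when every x ∈ G whose commutator x⁻¹ g⁻¹ x g lies in N actually commutes with g (this depends only on the coset). Then the number of irreducible characters of G whose restriction to N contains ψ equals the number of conjugacy classes of G/N consisting of special cosets. -/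
theorem result {G : Type*} [Group G] [Fintype G] (N : Subgroup G) [N.Normal] [Fintype N] (hN : N ≤ Subgroup.center G) (ψ : Cfsg.IrrCharacter ↥N) (hfaith : ∀ n : ↥N, (ψ : ↥N → ℂ) n = (ψ : ↥N → ℂ) 1 → n = 1) : Nat.card {χ : Cfsg.IrrCharacter G // Cfsg.classInner (fun n : ↥N => (χ : G → ℂ) n) (ψ : ↥N → ℂ) ≠ 0} = Nat.card {C : ConjClasses (G ⧸ N) // ∃ g : G, ConjClasses.mk (g : G ⧸ N) = C ∧ ∀ x : G, x⁻¹ * g⁻¹ * x * g ∈ N → x * g = g * x} := by
  classical
  have hNc : ∀ n : N, ∀ g : G, g * n = n * g := fun n g => Subgroup.mem_center_iff.mp (hN n.2) g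
  obtain ⟨l, hl⟩ := exists_hom_of_degree_one (irr_isCharacter ψ.2) (forall_linear_iff_comm.1
    (fun a b => Subtype.ext (hNc b a)) ψ)
  have hl1 : ∀ n : N, (l n : ℂ) = 1 → n = 1 := fun n hn => hfaith n (by
    rw [hl]; simp [hn])
  -- each character contributes its degree or nothing
  have hcases : ∀ χ : IrrCharacter G,
      classInner (fun n : N => (χ : G → ℂ) n) (ψ : N → ℂ) / (χ : G → ℂ) 1 =
        if classInner (fun n : N => (χ : G → ℂ) n) (ψ : N → ℂ) ≠ 0 then 1 else 0 := by
    intro χ
    have h1 := irr_one_ne_zero χ.2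
    have hμ : ∀ n : N, ∀ x : G, (χ : G → ℂ) (x * n) = (χ : G → ℂ) n / (χ : G → ℂ) 1 * (χ : G → ℂ) x := by
      intro n x
      obtain ⟨ω, -, hω⟩ := char_mul_central χ.2 (hN n.2)
      have e := hω 1
      rw [one_mul] at e
      rw [hω x, e, mul_div_cancel_right₀ _ h1]
    have hne : ∀ n : N, (χ : G → ℂ) n / (χ : G → ℂ) 1 ≠ 0 := fun n h0 => h1 (by
      have := hμ n ((n : G)⁻¹)
      rwa [inv_mul_cancel, h0, zero_mul] at this)
    let μ : N →* ℂˣ :=
      { toFun := fun n => Units.mk0 _ (hne n)
        map_one' := Units.ext (by simp [h1])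
        map_mul' := fun a b => Units.ext (by
          simp only [Units.val_mul, Units.val_mk0, Subgroup.coe_mul, hμ b (a : G)]
          field_simp) }
    have hres : (fun n : N => (χ : G → ℂ) n) = (χ : G → ℂ) 1 • fun n : N => (μ n : ℂ) :=
      funext fun n => by
        show (χ : G → ℂ) n = (χ : G → ℂ) 1 * ((χ : G → ℂ) n / (χ : G → ℂ) 1)
        field_simp
    rw [hres, classInner_smul_left, irr_orth (isIrrCharacter_linear μ) ψ.2]
    split_ifs with ha hb hb <;> simp_all
  have hcount : (Nat.card {χ : IrrCharacter G //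
      classInner (fun n : N => (χ : G → ℂ) n) (ψ : N → ℂ) ≠ 0} : ℂ) =
      ∑ χ : IrrCharacter G, classInner (fun n : N => (χ : G → ℂ) n) (ψ : N → ℂ) / (χ : G → ℂ) 1 := by
    rw [Nat.card_eq_fintype_card, Fintype.card_subtype, ← Finset.sum_boole]
    exact Finset.sum_congr rfl fun χ _ => (hcases χ).symm
  set f : G → G → ℂ := fun x y => if h : x * y * x⁻¹ * y⁻¹ ∈ N then conj (l ⟨_, h⟩ : ℂ) else 0 with hf
  have hpairs : ∑ χ : IrrCharacter G, classInner (fun n : N => (χ : G → ℂ) n) (ψ : N → ℂ) / (χ : G → ℂ) 1 =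
      (Nat.card N : ℂ)⁻¹ * (Nat.card G : ℂ)⁻¹ * ∑ x : G, ∑ y : G, f x y := by
    simp only [classInner, hl, mul_div_assoc, Finset.sum_div, Finset.mul_sum]
    rw [Finset.sum_comm]
    simp only [← Finset.mul_sum]
    rw [mul_assoc]
    congr 1
    rw [← Fintype.sum_prod_type' (f := fun x y => f x y),
      ← Finset.sum_fiberwise Finset.univ (fun xy : G × G => xy.1 * xy.2 * xy.1⁻¹ * xy.2⁻¹),
      ← Finset.sum_subset (Finset.subset_univ (Finset.univ.filter (· ∈ N))) fun a _ ha =>
        Finset.sum_eq_zero fun xy hxy => by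
          simp only [hf]
          rw [dif_neg]
          rw [(Finset.mem_filter.mp hxy).2]
          simpa using ha,
      Finset.sum_subtype (p := (· ∈ N)) _ (fun g => by simp), Finset.mul_sum]
    refine Finset.sum_congr rfl fun n _ => Eq.symm ?_
    rw [Finset.sum_congr rfl (g := fun _ => conj (l n : ℂ)) fun xy hxy => by
        have e := (Finset.mem_filter.mp hxy).2
        simp only [hf]
        rw [dif_pos (by rw [e]; exact n.2)]
        congr 3
        exact Subtype.ext e,
      Finset.sum_const, nsmul_eq_mul, ← mul_assoc]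
    have hc := card_commutator_eq (n : G)
    rw [Nat.card_eq_fintype_card, Fintype.card_subtype] at hc
    rw [hc, ← mul_assoc, inv_mul_cancel₀ (Nat.cast_ne_zero.mpr Nat.card_pos.ne'), one_mul,
      Finset.sum_mul]
    exact Finset.sum_congr rfl fun χ _ => by ring
  set π := QuotientGroup.mk' N with hπ
  haveI := Fintype.ofFinite (G ⧸ N)
  haveI := Fintype.ofFinite (ConjClasses (G ⧸ N))
  set S : G → Subgroup G := fun x => (Subgroup.centralizer ({π x} : Set (G ⧸ N))).comap π with hS
  have hmemS : ∀ x y : G, y ∈ S x ↔ x * y * x⁻¹ * y⁻¹ ∈ N := fun x y => by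
    simp only [hS, Subgroup.mem_comap, Subgroup.mem_centralizer_singleton_iff, hπ,
      QuotientGroup.mk'_apply, ← QuotientGroup.eq_one_iff (N := N), QuotientGroup.mk_mul,
      QuotientGroup.mk_inv]
    rw [mul_inv_eq_one, mul_inv_eq_iff_eq_mul]
    exact eq_comm
  set good : G → Prop := fun x => ∀ y ∈ S x, x * y = y * x with hgood
  have hinner : ∀ x : G, ∑ y : G, f x y = if good x then (Nat.card (S x) : ℂ) else 0 := by
    intro x
    haveI := Fintype.ofFinite (S x)
    rw [← Finset.sum_subset (Finset.subset_univ (Finset.univ.filter (· ∈ S x))) fun y _ hy => by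
      simp only [hf]
      rw [dif_neg]
      exact fun h => hy (Finset.mem_filter.mpr ⟨Finset.mem_univ _, (hmemS x y).mpr h⟩),
      Finset.sum_subtype (p := (· ∈ S x)) _ (fun g => by simp)]
    have hadd : ∀ y z : S x, f x ((y * z : S x) : G) = f x y * f x z := fun y z => by
      have hy := (hmemS x y).mp y.2
      have hz := (hmemS x z).mp z.2
      have hyz := (hmemS x (y * z : S x)).mp (y * z).2
      simp only [hf]
      rw [dif_pos hy, dif_pos hz, dif_pos hyz, ← map_mul, ← Units.val_mul, ← map_mul]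
      congr 3
      apply Subtype.ext
      simp only [Subgroup.coe_mul]
      have hc := hNc ⟨_, hz⟩ (y : G)
      calc x * ((y : G) * z) * x⁻¹ * ((y : G) * z)⁻¹
          = x * y * x⁻¹ * ((x * z * x⁻¹ * (z : G)⁻¹) * (y : G)⁻¹) := by group
        _ = x * y * x⁻¹ * ((y : G)⁻¹ * (x * z * x⁻¹ * (z : G)⁻¹)) := by
            have := hNc ⟨_, hz⟩ (y : G)⁻¹
            rw [this]
        _ = _ := by group
    by_cases hg : good x
    · rw [if_pos hg, Finset.sum_congr rfl (g := fun _ => (1 : ℂ)) fun y _ => ?_, Finset.sum_const,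
        Finset.card_univ, nsmul_one, Nat.card_eq_fintype_card]
      simp only [hf]
      rw [dif_pos ((hmemS x y).mp y.2)]
      have e : (⟨x * y * x⁻¹ * (y : G)⁻¹, (hmemS x y).mp y.2⟩ : N) = 1 := Subtype.ext (by
        show x * y * x⁻¹ * (y : G)⁻¹ = 1
        exact mul_inv_eq_one.mpr (mul_inv_eq_iff_eq_mul.mpr (hg y y.2)))
      rw [e, map_one, Units.val_one, map_one]
    · rw [if_neg hg]
      simp only [hgood, not_forall] at hg
      obtain ⟨y₀, hy₀, hne⟩ := hg
      have hc : f x y₀ ≠ 1 := fun h => hne (by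
        simp only [hf, dif_pos ((hmemS x y₀).mp hy₀)] at h
        have h2 := congrArg conj h
        rw [Complex.conj_conj, map_one] at h2
        have h3 := congrArg Subtype.val (hl1 _ h2)
        exact mul_inv_eq_iff_eq_mul.mp (mul_inv_eq_one.mp h3))
      have e : ∑ y : S x, f x y = f x y₀ * ∑ y : S x, f x y := by
        rw [Finset.mul_sum]
        exact (Fintype.sum_equiv (Equiv.mulLeft ⟨y₀, hy₀⟩) _ _ fun y => (hadd ⟨y₀, hy₀⟩ y).symm).symm
      have e2 : (f x y₀ - 1) * ∑ y : S x, f x y = 0 := by rw [sub_mul, one_mul, ← e, sub_self]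
      exact (mul_eq_zero.mp e2).resolve_left (sub_ne_zero.mpr hc)
  set good' : G ⧸ N → Prop := fun q => ∃ g : G, (g : G ⧸ N) = q ∧ good g with hgood'
  have hgiff : ∀ x : G, good' (x : G ⧸ N) ↔ good x := by
    intro x
    refine ⟨fun ⟨g, hgx, hg⟩ y hy => ?_, fun h => ⟨x, rfl, h⟩⟩
    obtain ⟨n, hn, rfl⟩ : ∃ n ∈ N, g = x * n :=
      ⟨x⁻¹ * g, QuotientGroup.eq.mp hgx.symm, by group⟩
    have hy' : y ∈ S (x * n) := by
      simp only [hS, hπ, Subgroup.mem_comap, QuotientGroup.mk'_apply] at hy ⊢
      rwa [hgx]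
    have h1 := hg y hy'
    have h2 := hNc ⟨n, hn⟩ y
    apply mul_right_cancel (b := n)
    calc x * y * n = x * n * y := by rw [mul_assoc, h2]; group
      _ = y * (x * n) := h1
      _ = y * x * n := by group
  have hSc : ∀ x : G, Nat.card (S x) = Nat.card N * Nat.card (Subgroup.centralizer ({(x : G ⧸ N)} : Set (G ⧸ N))) := by
    intro x
    have h1 := Subgroup.index_comap_of_surjective (Subgroup.centralizer ({π x} : Set (G ⧸ N)))
      (QuotientGroup.mk'_surjective N)
    have h2 := (S x).index_mul_card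
    have h3 := (Subgroup.centralizer ({π x} : Set (G ⧸ N))).index_mul_card
    rw [hS, hπ, h1] at h2
    refine Nat.eq_of_mul_eq_mul_left (Nat.pos_of_ne_zero
      (Subgroup.index_ne_zero_of_finite (H := Subgroup.centralizer ({π x} : Set (G ⧸ N))))) ?_
    rw [hS, h2]
    calc Nat.card G = N.index * Nat.card N := N.index_mul_card.symm
      _ = _ := by rw [Subgroup.index_eq_card, ← h3, hπ]; simp only [QuotientGroup.mk'_apply]; ring
  have hsumG : ∑ x : G, (if good x then (Nat.card (S x) : ℂ) else 0) = (Nat.card N : ℂ) * (Nat.card N : ℂ) *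
      ∑ q : G ⧸ N, (if good' q then (Nat.card (Subgroup.centralizer ({q} : Set (G ⧸ N))) : ℂ) else 0) := by
    rw [mul_assoc, Finset.mul_sum, ← sum_comp_mk N]
    refine Finset.sum_congr rfl fun x _ => ?_
    rw [if_congr (hgiff x) rfl rfl]
    split_ifs with h
    · rw [hSc x, Nat.cast_mul]
    · rw [mul_zero]
  have hclass : ∀ a b : G ⧸ N, IsConj a b → (good' a ↔ good' b) := by
    suffices ∀ a b : G ⧸ N, IsConj a b → good' a → good' b from
      fun a b h => ⟨this a b h, this b a h.symm⟩
    rintro a b hab ⟨g, rfl, hg⟩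
    obtain ⟨c, rfl⟩ := isConj_iff.mp hab
    obtain ⟨c, rfl⟩ := QuotientGroup.mk_surjective c
    refine ⟨c * g * c⁻¹, rfl, fun y hy => ?_⟩
    have hy' : c⁻¹ * y * c ∈ S g := by
      simp only [hS, hπ, Subgroup.mem_comap, Subgroup.mem_centralizer_singleton_iff,
        QuotientGroup.mk'_apply, ← QuotientGroup.mk_mul] at hy ⊢
      rw [QuotientGroup.eq] at hy ⊢
      have := (inferInstance : N.Normal).conj_mem _ hy c⁻¹
      group at this ⊢
      exact this
    have h1 := hg _ hy'
    calc c * g * c⁻¹ * y = c * (g * (c⁻¹ * y * c)) * c⁻¹ := by group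
      _ = c * ((c⁻¹ * y * c) * g) * c⁻¹ := by rw [h1]
      _ = y * (c * g * c⁻¹) := by group
  have hQ : ∑ q : G ⧸ N, (if good' q then (Nat.card (Subgroup.centralizer ({q} : Set (G ⧸ N))) : ℂ) else 0) =
      (Nat.card (G ⧸ N) : ℂ) * (Nat.card {C : ConjClasses (G ⧸ N) // ∃ g : G,
        ConjClasses.mk (g : G ⧸ N) = C ∧ ∀ x : G, x⁻¹ * g⁻¹ * x * g ∈ N → x * g = g * x} : ℂ) := by
    rw [Nat.card_eq_fintype_card (α := {C : ConjClasses (G ⧸ N) // _}), Fintype.card_subtype,
      ← Finset.sum_boole, Finset.mul_sum, ← Finset.sum_fiberwise Finset.univ ConjClasses.mk]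
    refine Finset.sum_congr rfl fun C _ => ?_
    induction C using Quotient.inductionOn with | _ c =>
    simp only [show (Quotient.mk _ c : ConjClasses (G ⧸ N)) = ConjClasses.mk c from rfl]
    have hiff : (∃ g : G, ConjClasses.mk (g : G ⧸ N) = ConjClasses.mk c ∧
        ∀ x : G, x⁻¹ * g⁻¹ * x * g ∈ N → x * g = g * x) ↔ good' c := by
      have hg : ∀ g : G, (∀ x : G, x⁻¹ * g⁻¹ * x * g ∈ N → x * g = g * x) ↔ good g := fun g => by
        refine forall_congr' fun x => ?_
        rw [hmemS]
        refine ⟨fun h hm => (h ?_).symm, fun h hm => (h ?_).symm⟩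
        · have := (inferInstance : N.Normal).conj_mem _ (inv_mem hm) (g * x)⁻¹
          group at this ⊢
          exact this
        · have := (inferInstance : N.Normal).conj_mem _ (inv_mem hm) (g * x)
          group at this ⊢
          exact this
      constructor
      · rintro ⟨g, hgc, h⟩
        exact (hclass _ _ (ConjClasses.mk_eq_mk_iff_isConj.mp hgc)).mp ⟨g, rfl, (hg g).mp h⟩
      · rintro ⟨g, rfl, h⟩
        exact ⟨g, rfl, (hg g).mpr h⟩
    rw [Finset.sum_congr rfl fun q hq => if_congr (hclass q c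
      (ConjClasses.mk_eq_mk_iff_isConj.mp (Finset.mem_filter.mp hq).2)) rfl rfl]
    by_cases hc : good' c
    · simp only [if_pos hc, if_pos (hiff.mpr hc), mul_one]
      · rw [Finset.sum_congr rfl (g := fun _ =>
          (Nat.card (Subgroup.centralizer ({c} : Set (G ⧸ N))) : ℂ)) fun q hq => ?_,
          Finset.sum_const, nsmul_eq_mul, ← card_conjClass_mul_centralizer c, Nat.cast_mul]
        · congr 2
          rw [Nat.card_eq_fintype_card, Fintype.card_subtype]
          congr 1
          exact Finset.filter_congr fun q _ => ConjClasses.mk_eq_mk_iff_isConj.trans isConj_comm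
        · obtain ⟨d, hd⟩ := isConj_iff.mp (ConjClasses.mk_eq_mk_iff_isConj.mp (Finset.mem_filter.mp hq).2)
          congr 1
          refine Nat.eq_of_mul_eq_mul_left (Nat.pos_of_ne_zero (card_conjClass_ne_zero c)) ?_
          rw [card_conjClass_mul_centralizer, ← card_conjClass_mul_centralizer q]
          congr 1
          refine Nat.card_congr (Equiv.subtypeEquivRight fun z => ?_)
          have hqc : IsConj q c := isConj_iff.mpr ⟨d, hd⟩
          exact ⟨fun h => hqc.trans h, fun h => hqc.symm.trans h⟩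
    · simp only [if_neg hc, Finset.sum_const_zero, if_neg (fun h => hc (hiff.mp h)), mul_zero]
  refine Nat.cast_injective (R := ℂ) ?_
  rw [hcount, hpairs, Finset.sum_congr rfl fun x _ => hinner x, hsumG, hQ, ← N.index_mul_card,
    Subgroup.index_eq_card, Nat.cast_mul]
  have h1 : (Nat.card N : ℂ) ≠ 0 := Nat.cast_ne_zero.mpr Nat.card_pos.ne'
  have h2 : (Nat.card (G ⧸ N) : ℂ) ≠ 0 := Nat.cast_ne_zero.mpr Nat.card_pos.ne'
  field_simp

end Cfsg.Agent.S4567
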