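import Cfsg.Statements.S4570
import Cfsg.Agent.Lib.Char.FreeInvolution.Main

set_option autoImplicit false
open Cfsg

namespace Cfsg.Agent.S4570

/-- Let G be a finite group with a commutative Sylow 2-subgroup P and M a maximal ideal of the algebraic integers containing 2, and suppose some involution x of G has the property that the principal 2-block of its centralizer has 2-regular rank one. If P has order 8 then the principal 2-block of G contains exactly 8 irreducible characters, and if P has order 16 it contains 8 or 16. -/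
theorem result {G : Type*} [Group G] [Finite G] (M : Ideal Cfsg.AlgInt) (hM : Cfsg.IsPModular 2 M) (P : Sylow 2 G) (hab : IsMulCommutative P) (x : G) (hx : orderOf x = 2) (hl : Cfsg.blockRank 2 (Cfsg.principalBlock M ↥(Subgroup.centralizer ({x} : Set G))) = 1) : (Nat.card P = 8 → Nat.card (Cfsg.principalBlock M G) = 8) ∧ (Nat.card P = 16 → Nat.card (Cfsg.principalBlock M G) = 8 ∨ Nat.card (Cfsg.principalBlock M G) = 16) := by
  classical
  haveI : Fintype G := Fintype.ofFinite _
  haveI : Fact (Nat.Prime 2) := ⟨Nat.prime_two⟩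
  haveI : Fintype (Subgroup.centralizer ({x} : Set G)) := Fintype.ofFinite _
  obtain ⟨Q, hQ⟩ := (IsPGroup.of_card (p := 2) (n := 1) (G := Subgroup.zpowers x)
    (by rw [Nat.card_zpowers, hx, pow_one])).exists_le_sylow
  obtain ⟨e⟩ : Nonempty ((P : Subgroup G) ≃* (Q : Subgroup G)) := ⟨Sylow.equiv P Q⟩
  have hQab : IsMulCommutative (Q : Subgroup G) := ⟨⟨fun a b => e.symm.injective (by
    rw [map_mul, map_mul]; exact hab.is_comm.comm _ _)⟩⟩
  have hcard : Nat.card (P : Subgroup G) = Nat.card (Q : Subgroup G) := Nat.card_congr e.toEquiv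
  have hsq : (⟨x, hQ (Subgroup.mem_zpowers x)⟩ : (Q : Subgroup G)) * ⟨x, hQ (Subgroup.mem_zpowers x)⟩ = 1 :=
    Subtype.ext (by
      have := pow_orderOf_eq_one x
      rwa [hx, pow_two] at this)
  have hnp := (Cfsg.Agent.Char.blockRank_principal_eq_one_iff hM).mp hl
  refine ⟨fun h => ?_, fun h => ?_⟩ <;> have hQc : Nat.card (Q : Subgroup G) = _ := hcard.symm.trans h
  · exact ((Cfsg.Agent.Char.FreeInv.card_principal _ G rfl M hM Q hQab _ hsq hnp
      (by rw [hQc]; norm_num)).1 hQc.le).trans hQc
  · exact (Cfsg.Agent.Char.FreeInv.card_principal _ G rfl M hM Q hQab _ hsq hnp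
      (by rw [hQc])).2 hQc

end Cfsg.Agent.S4570
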