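import Cfsg.Statements.S4582
import Cfsg.Agent.Lib.Char.SylowAbElementary

set_option autoImplicit false
open Cfsg Cfsg.Agent.Char
open scoped commutatorElement
open scoped ComplexConjugate

namespace Cfsg.Agent.S4582

/-- Let N be a normal subgroup of the finite group G, P a Sylow 2-subgroup of G and Q = P ∩ N. Suppose that P/QP' and Q/Q' are elementary abelian (every square of an element of P lies in the subgroup generated by Q and the derived subgroup of P, and every square of an element of Q lies in the derived subgroup of Q), and that the commutator factor group N/N' has odd order. Then P/P' is elementary abelian. -/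
theorem result {G : Type*} [Group G] [Finite G] (N : Subgroup G) [N.Normal] (P : Sylow 2 G)
    (hP : ∀ x ∈ (P : Subgroup G), x ^ 2 ∈ ((P : Subgroup G) ⊓ N) ⊔ ⁅(P : Subgroup G), (P : Subgroup G)⁆)
    (hQ : ∀ x ∈ (P : Subgroup G) ⊓ N, x ^ 2 ∈ ⁅(P : Subgroup G) ⊓ N, (P : Subgroup G) ⊓ N⁆)
    (hodd : Odd (Nat.card (Abelianization N))) :
    ∀ x ∈ (P : Subgroup G), x ^ 2 ∈ ⁅(P : Subgroup G), (P : Subgroup G)⁆ := by
  classical
  haveI := Fintype.ofFinite G
  haveI : Fact (Nat.Prime 2) := ⟨Nat.prime_two⟩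
  have hkill : ∀ (l : (P : Subgroup G) →* ℂˣ) (a : (P : Subgroup G)),
      (a : G) ∈ ⁅(P : Subgroup G), (P : Subgroup G)⁆ → l a = 1 := fun l a ha => by
    rw [← Subgroup.map_subtype_commutator] at ha
    obtain ⟨b, hb, hba⟩ := ha
    obtain rfl : b = a := Subtype.ext hba
    have h : commutator ↥(P : Subgroup G) ≤ l.ker := Subgroup.commutator_le.mpr fun x _ y _ => by
      rw [MonoidHom.mem_ker, map_commutatorElement]
      exact commutatorElement_eq_one_iff_mul_comm.mpr (mul_comm _ _)
    exact MonoidHom.mem_ker.mp (h hb)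
  intro x hx
  rw [← Subgroup.map_subtype_commutator]
  refine ⟨(⟨x, hx⟩ : (P : Subgroup G)) ^ 2, mem_commutator_of_forall_linear fun lam => ?_, by simp⟩
  set H := N ⊔ (P : Subgroup G) with hH
  haveI := Fintype.ofFinite H
  haveI := Fintype.ofFinite (N.subgroupOf H)
  haveI : (N.subgroupOf H).Normal := Subgroup.Normal.comap inferInstance _
  let e : (P : Subgroup G).subgroupOf H ≃* (P : Subgroup G) := Subgroup.subgroupOfEquivOfLe le_sup_right
  obtain ⟨lam', hsq, hagree⟩ := exists_linear_fixed (N.subgroupOf H) ((P : Subgroup G).subgroupOf H)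
    (P.isPGroup'.comap_of_injective _ Subtype.val_injective)
    (fun hd => P.not_dvd_index (hd.trans ⟨_, (Subgroup.relIndex_mul_index le_sup_right).symm⟩))
    (by
      have h1 : N.relIndex H ∣ Nat.card (P : Subgroup G) := by
        rw [hH, sup_comm, Subgroup.relIndex_sup_right]
        exact Subgroup.relIndex_dvd_card _ _
      obtain ⟨a, ha⟩ := P.isPGroup'.exists_card_eq
      obtain ⟨i, -, hi⟩ := (Nat.dvd_prime_pow Nat.prime_two).mp (ha ▸ h1)
      exact ⟨i, hi⟩)
    (by
      rw [Nat.card_congr (MulEquiv.abelianizationCongr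
        (Subgroup.subgroupOfEquivOfLe (le_sup_left : N ≤ H))).toEquiv]
      exact hodd)
    (lam.comp e.toMonoidHom)
    (fun y hy => by
      have hyN : ((e y : (P : Subgroup G)) : G) ∈ (P : Subgroup G) ⊓ N := ⟨(e y).2, hy⟩
      rw [MonoidHom.comp_apply, ← map_pow]
      exact hkill lam _ (Subgroup.commutator_mono inf_le_left inf_le_left (by
        have := hQ _ hyN
        simpa using this)))
  set lam'' := lam'.comp e.symm.toMonoidHom with hlam''
  suffices h : lam ((⟨x, hx⟩ : (P : Subgroup G)) ^ 2) = lam'' ((⟨x, hx⟩ : (P : Subgroup G)) ^ 2) by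
    rw [h, map_pow, hlam'', MonoidHom.comp_apply, hsq]
  set E : Subgroup G := (MonoidHom.eqLocus lam lam'').map (P : Subgroup G).subtype with hE
  have hle : (P : Subgroup G) ⊓ N ⊔ ⁅(P : Subgroup G), (P : Subgroup G)⁆ ≤ E := by
    refine sup_le ?_ ?_
    · rintro y ⟨hyP, hyN⟩
      refine ⟨⟨y, hyP⟩, ?_, rfl⟩
      have h := hagree (e.symm ⟨y, hyP⟩) hyN
      rw [MonoidHom.comp_apply, MulEquiv.coe_toMonoidHom, e.apply_symm_apply] at h
      exact h.symm
    · intro y hy
      exact ⟨⟨y, Subgroup.commutator_le_self _ hy⟩, (hkill lam _ hy).trans (hkill lam'' _ hy).symm, rfl⟩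
  obtain ⟨y, hy, hye⟩ := hle (hP x hx)
  obtain rfl : y = (⟨x, hx⟩ : (P : Subgroup G)) ^ 2 := Subtype.ext (by simpa using hye)
  exact hy

end Cfsg.Agent.S4582
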