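import Cfsg.Statements.S4584
import Cfsg.Agent.Lib.Fusion.NPC

set_option autoImplicit false
open Cfsg

namespace Cfsg.Agent.S4584

/-- Let p be a prime and P a group of order p^4. Then the derived subgroup P' has order p if and only if the centre Z(P) has index p^2 in P. -/
theorem result {P : Type*} [Group P] [Finite P] (p : ℕ) [Fact p.Prime] (hP : Nat.card P = p ^ 4) :
    Nat.card (commutator P) = p ↔ (Subgroup.center P).index = p ^ 2 := by
  classical
  have hp := (Fact.out : p.Prime)
  have hPp : IsPGroup p P := IsPGroup.of_card hP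
  haveI : Group.IsNilpotent P := hPp.isNilpotent
  have center_top : (∀ a b : P, a * b = b * a) → Subgroup.center P = ⊤ := fun h =>
    eq_top_iff.2 (fun a _ => Subgroup.mem_center_iff.2 (fun b => h b a))
  have commem : ∀ x q : P, x * q * x⁻¹ * q⁻¹ ∈ commutator P := fun x q => by
    rw [← commutatorElement_def]
    exact Subgroup.commutator_mem_commutator (Subgroup.mem_top x) (Subgroup.mem_top q)
  constructor
  · intro hc
    have hne : commutator P ≠ ⊥ := fun h => by
      rw [h, Subgroup.card_bot] at hc; exact hp.ne_one hc.symm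
    have hcz : commutator P ≤ Subgroup.center P := by
      have hle : ⁅commutator P, (⊤ : Subgroup P)⁆ ≤ commutator P :=
        Subgroup.commutator_mono le_top le_rfl
      have hd := Subgroup.card_dvd_of_le hle
      rw [hc, Nat.dvd_prime hp] at hd
      rcases hd with h | h
      · have h1 := Subgroup.card_eq_one.1 h
        intro a ha
        rw [Subgroup.mem_center_iff]
        intro b
        have hm := Subgroup.commutator_mem_commutator ha (Subgroup.mem_top b)
        rw [h1, Subgroup.mem_bot, commutatorElement_eq_one_iff_mul_comm] at hm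
        exact hm.symm
      · have he := Subgroup.eq_of_le_of_card_ge hle (by rw [hc, h])
        exact absurd (Cfsg.Agent.Fusion.eq_bot_of_le_commutator_top he.ge) hne
    -- centralizers of noncentral elements have index `p`
    have hC : ∀ x : P, x ∉ Subgroup.center P → (Subgroup.centralizer ({x} : Set P)).index = p := by
      intro x hx
      let φ : P →* commutator P :=
        { toFun := fun q => ⟨x * q * x⁻¹ * q⁻¹, commem x q⟩
          map_one' := Subtype.ext (by simp)
          map_mul' := fun q r => by
            apply Subtype.ext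
            have h := Subgroup.mem_center_iff.1 (hcz (commem x r)) q
            show x * (q * r) * x⁻¹ * (q * r)⁻¹ = x * q * x⁻¹ * q⁻¹ * (x * r * x⁻¹ * r⁻¹)
            calc x * (q * r) * x⁻¹ * (q * r)⁻¹ = x * q * x⁻¹ * (x * r * x⁻¹ * r⁻¹) * q⁻¹ := by group
              _ = x * q * x⁻¹ * (q⁻¹ * (q * (x * r * x⁻¹ * r⁻¹))) * q⁻¹ := by group
              _ = x * q * x⁻¹ * (q⁻¹ * ((x * r * x⁻¹ * r⁻¹) * q)) * q⁻¹ := by rw [h]
              _ = _ := by group }
      have hker : φ.ker = Subgroup.centralizer ({x} : Set P) := by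
        ext q
        rw [MonoidHom.mem_ker, Subgroup.mem_centralizer_singleton_iff]
        constructor
        · intro h
          have h' : x * q * x⁻¹ * q⁻¹ = 1 := congrArg Subtype.val h
          rw [← commutatorElement_def, commutatorElement_eq_one_iff_mul_comm] at h'
          exact h'.symm
        · intro h
          apply Subtype.ext
          show x * q * x⁻¹ * q⁻¹ = 1
          rw [← h]; group
      rw [← hker, Subgroup.index_ker]
      have hd : Nat.card φ.range ∣ p := hc ▸ Subgroup.card_subgroup_dvd_card _
      rcases (Nat.dvd_prime hp).1 hd with h | h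
      · exfalso
        apply hx
        rw [← Subgroup.index_ker, Subgroup.index_eq_one, hker] at h
        rw [Subgroup.mem_center_iff]
        intro q
        exact Subgroup.mem_centralizer_singleton_iff.1 (h ▸ Subgroup.mem_top q)
      · exact h
    -- a pair of noncommuting elements
    obtain ⟨x, hx⟩ : ∃ x : P, x ∉ Subgroup.center P := by
      by_contra h
      simp only [not_exists, not_not] at h
      apply hne
      rw [commutator_def, Subgroup.commutator_eq_bot_iff_le_centralizer]
      intro a _
      rw [Subgroup.mem_centralizer_iff]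
      exact fun b _ => Subgroup.mem_center_iff.1 (h a) b
    obtain ⟨y, hy⟩ : ∃ y : P, y ∉ Subgroup.centralizer ({x} : Set P) := by
      by_contra h
      simp only [not_exists, not_not] at h
      exact hx (Subgroup.mem_center_iff.2 fun q => Subgroup.mem_centralizer_singleton_iff.1 (h q))
    have hyc : y ∉ Subgroup.center P := fun h => hy (by
      rw [Subgroup.mem_centralizer_singleton_iff]; exact (Subgroup.mem_center_iff.1 h x).symm)
    set Cx := Subgroup.centralizer ({x} : Set P)
    set Cy := Subgroup.centralizer ({y} : Set P)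
    set M := Cx ⊓ Cy with hM
    have hzM : Subgroup.center P ≤ M := fun z hz => ⟨Subgroup.mem_centralizer_singleton_iff.2
      (Subgroup.mem_center_iff.1 hz x).symm, Subgroup.mem_centralizer_singleton_iff.2
      (Subgroup.mem_center_iff.1 hz y).symm⟩
    have hzc : Nat.card (Subgroup.center P) * (Subgroup.center P).index = p ^ 4 := by
      rw [Subgroup.card_mul_index, hP]
    -- the commutator of `x` and `y` generates
    have hgen : Subgroup.zpowers (x * y * x⁻¹ * y⁻¹) = commutator P := by
      refine Subgroup.eq_of_le_of_card_ge (Subgroup.zpowers_le.2 (commem x y)) ?_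
      rw [hc, Nat.card_zpowers]
      have hd : orderOf (x * y * x⁻¹ * y⁻¹) ∣ p := by
        rw [← hc, ← Subgroup.orderOf_mk _ (commem x y)]; exact orderOf_dvd_natCard _
      rcases (Nat.dvd_prime hp).1 hd with h | h
      · exfalso
        apply hy
        rw [orderOf_eq_one_iff, ← commutatorElement_def, commutatorElement_eq_one_iff_mul_comm] at h
        exact Subgroup.mem_centralizer_singleton_iff.2 h.symm
      · exact h.ge
    have hMi : M.index = p ^ 2 := by
      have hlt : M < Cx := lt_of_le_of_ne inf_le_left (fun e => by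
        have : x ∈ M := e ▸ Subgroup.mem_centralizer_singleton_iff.2 rfl
        exact hy (Subgroup.mem_centralizer_singleton_iff.2
          (Subgroup.mem_centralizer_singleton_iff.1 this.2).symm))
      have h1 : M.index ≤ p ^ 2 := by
        rw [sq]
        calc M.index ≤ Cx.index * Cy.index := Subgroup.index_inf_le
          _ = p * p := by rw [hC x hx, hC y hyc]
      obtain ⟨k, -, hk⟩ := (Nat.dvd_prime_pow hp).1 (hP ▸ Subgroup.index_dvd_card M)
      have h2 := Subgroup.index_strictAnti hlt
      rw [hC x hx, hk] at h2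
      rw [hk] at h1 ⊢
      have h3 : k ≤ 2 := (Nat.pow_le_pow_iff_right hp.one_lt).1 h1
      have h4 : 1 < k := (Nat.pow_lt_pow_iff_right hp.one_lt).1 (by rwa [pow_one])
      rw [show k = 2 by omega]
    have hMc : Nat.card M = p ^ 2 := by
      have h := M.card_mul_index
      rw [hMi, hP, show p ^ 4 = p ^ 2 * p ^ 2 by ring] at h
      exact Nat.eq_of_mul_eq_mul_right (Nat.pow_pos hp.pos) h
    have hMab := IsPGroup.commutative_of_card_eq_prime_sq hMc
    suffices hMz : M ≤ Subgroup.center P by rw [← le_antisymm hMz hzM, hMi]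
    intro w hw
    rw [Subgroup.mem_center_iff]
    intro q
    have hwx : Commute w x := Subgroup.mem_centralizer_singleton_iff.1 hw.1
    have hwy : Commute w y := Subgroup.mem_centralizer_singleton_iff.1 hw.2
    obtain ⟨i, hi⟩ : x * q * x⁻¹ * q⁻¹ ∈ Subgroup.zpowers (x * y * x⁻¹ * y⁻¹) := hgen.symm ▸ commem x q
    obtain ⟨j, hj⟩ : q * y * q⁻¹ * y⁻¹ ∈ Subgroup.zpowers (x * y * x⁻¹ * y⁻¹) := hgen.symm ▸ commem q y
    simp only at hi hj
    set c := x * y * x⁻¹ * y⁻¹ with hcdef
    have hcc : ∀ (t : P) (n : ℤ), Commute t (c ^ n) := fun t n =>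
      (show Commute t c from Subgroup.mem_center_iff.1 (hcz (commem x y)) t).zpow_right n
    have ey : x * y * x⁻¹ = c * y := by rw [hcdef]; group
    have exq : x * q * x⁻¹ = c ^ i * q := by rw [hi]; group
    have eyn : ∀ n : ℤ, x * y ^ n * x⁻¹ = c ^ n * y ^ n := fun n => by
      rw [← conj_zpow, ey]
      exact ((show Commute y c from Subgroup.mem_center_iff.1 (hcz (commem x y)) y).symm).mul_zpow n
    set q' := q * y ^ (-i) * x ^ (-j) with hq'
    have hqx : x * q' * x⁻¹ = q' := by
      calc x * q' * x⁻¹ = (x * q * x⁻¹) * (x * y ^ (-i) * x⁻¹) * x ^ (-j) := by rw [hq']; group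
        _ = c ^ i * (q * c ^ (-i)) * y ^ (-i) * x ^ (-j) := by rw [exq, eyn]; group
        _ = c ^ i * (c ^ (-i) * q) * y ^ (-i) * x ^ (-j) := by rw [(hcc q (-i)).eq]
        _ = _ := by rw [hq']; group
    have eyq : q * y * q⁻¹ = c ^ j * y := by rw [hj]; group
    have exn : ∀ n : ℤ, x ^ n * y * (x ^ n)⁻¹ = c ^ n * y := by
      intro n
      induction n with
      | zero => simp
      | succ k ih =>
        calc x ^ ((k : ℤ) + 1) * y * (x ^ ((k : ℤ) + 1))⁻¹ = x * (x ^ (k : ℤ) * y * (x ^ (k : ℤ))⁻¹) * x⁻¹ := by group
          _ = (x * c ^ (k : ℤ)) * y * x⁻¹ := by rw [ih]; group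
          _ = (c ^ (k : ℤ) * x) * y * x⁻¹ := by rw [(hcc x k).eq]
          _ = c ^ (k : ℤ) * (x * y * x⁻¹) := by group
          _ = _ := by rw [ey]; group
      | pred k ih =>
        have ey' : x⁻¹ * y * x = c⁻¹ * y := by
          have h1 := eyn 1
          simp only [zpow_one] at h1
          have h2 : y = c * (x⁻¹ * y * x) := by
            calc y = x⁻¹ * (x * y * x⁻¹) * x := by group
              _ = x⁻¹ * (c * y) * x := by rw [h1]
              _ = (x⁻¹ * c) * y * x := by group
              _ = (c * x⁻¹) * y * x := by rw [show x⁻¹ * c = c * x⁻¹ from by simpa using (hcc x⁻¹ 1).eq]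
              _ = _ := by group
          conv_rhs => rw [h2]
          group
        calc x ^ (-(k : ℤ) - 1) * y * (x ^ (-(k : ℤ) - 1))⁻¹
            = x⁻¹ * (x ^ (-(k : ℤ)) * y * (x ^ (-(k : ℤ)))⁻¹) * x := by group
          _ = (x⁻¹ * c ^ (-(k : ℤ))) * y * x := by rw [ih]; group
          _ = (c ^ (-(k : ℤ)) * x⁻¹) * y * x := by rw [(hcc x⁻¹ _).eq]
          _ = c ^ (-(k : ℤ)) * (x⁻¹ * y * x) := by group
          _ = _ := by rw [ey']; group
    have hqy : q' * y * q'⁻¹ = y := by
      calc q' * y * q'⁻¹ = q * y ^ (-i) * (x ^ (-j) * y * (x ^ (-j))⁻¹) * (y ^ (-i))⁻¹ * q⁻¹ := by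
            rw [hq']; group
        _ = q * (y ^ (-i) * c ^ (-j)) * y * (y ^ (-i))⁻¹ * q⁻¹ := by rw [exn]; group
        _ = q * (c ^ (-j) * y ^ (-i)) * y * (y ^ (-i))⁻¹ * q⁻¹ := by rw [(hcc _ _).eq]
        _ = (q * c ^ (-j)) * y * q⁻¹ := by group
        _ = (c ^ (-j) * q) * y * q⁻¹ := by rw [(hcc _ _).eq]
        _ = c ^ (-j) * (q * y * q⁻¹) := by group
        _ = _ := by rw [eyq]; group
    have hq'M : q' ∈ M := ⟨Subgroup.mem_centralizer_singleton_iff.2 ((mul_inv_eq_iff_eq_mul.1 hqx).symm),
      Subgroup.mem_centralizer_singleton_iff.2 (mul_inv_eq_iff_eq_mul.1 hqy)⟩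
    have hcw : Commute w q' := congrArg Subtype.val (hMab ⟨w, hw⟩ ⟨q', hq'M⟩)
    have hq : q = q' * x ^ j * y ^ i := by rw [hq']; group
    rw [hq]
    exact (((hcw.mul_right (hwx.zpow_right j)).mul_right (hwy.zpow_right i)).symm).eq
  · intro hi
    have hidx : ∀ (K : Subgroup P), Subgroup.center P ≤ K → ∀ (w : P), w ∈ K → w ∉ Subgroup.center P →
        K ≠ ⊤ → K.index = p := by
      intro K hK w hwK hwz hKt
      obtain ⟨k, -, hk⟩ := (Nat.dvd_prime_pow hp).1 (hi ▸ Subgroup.index_dvd_of_le hK)
      have h2 := Subgroup.index_strictAnti (lt_of_le_of_ne hK (fun e => hwz (e ▸ hwK)))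
      rw [hi, hk] at h2
      have h3 : k < 2 := (Nat.pow_lt_pow_iff_right hp.one_lt).1 h2
      interval_cases k
      · rw [pow_zero, Subgroup.index_eq_one] at hk; exact absurd hk hKt
      · rw [hk, pow_one]
    obtain ⟨x, hx⟩ : ∃ x : P, x ∉ Subgroup.center P := by
      by_contra h
      simp only [not_exists, not_not] at h
      rw [Subgroup.index_eq_one.2 (eq_top_iff.2 fun a _ => h a)] at hi
      exact (Nat.one_lt_pow (by norm_num) hp.one_lt).ne hi
    have hzle : ∀ w : P, Subgroup.center P ≤ Subgroup.centralizer ({w} : Set P) := fun w z hz =>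
      Subgroup.mem_centralizer_singleton_iff.2 (Subgroup.mem_center_iff.1 hz w).symm
    have hne_top : ∀ w : P, w ∉ Subgroup.center P → Subgroup.centralizer ({w} : Set P) ≠ ⊤ := fun w hw e =>
      hw (Subgroup.mem_center_iff.2 fun q => Subgroup.mem_centralizer_singleton_iff.1 (e ▸ Subgroup.mem_top q))
    obtain ⟨y, hy⟩ : ∃ y : P, y ∉ Subgroup.centralizer ({x} : Set P) := by
      by_contra h
      simp only [not_exists, not_not] at h
      exact hne_top x hx (eq_top_iff.2 fun q _ => h q)
    haveI : Subgroup.Normal (Subgroup.center P) := inferInstance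
    set π := QuotientGroup.mk' (Subgroup.center P)
    have hQ : ∀ a b : P ⧸ Subgroup.center P, a * b = b * a :=
      IsPGroup.commutative_of_card_eq_prime_sq hi
    have hcz : commutator P ≤ Subgroup.center P := by
      rw [commutator_def, Subgroup.commutator_le]
      intro a _ b _
      rw [← QuotientGroup.eq_one_iff, commutatorElement_def]
      show (a : P ⧸ Subgroup.center P) * b * (a : P ⧸ Subgroup.center P)⁻¹ * (b : P ⧸ Subgroup.center P)⁻¹ = 1
      rw [hQ (a : P ⧸ Subgroup.center P) b]; group
    set c := x * y * x⁻¹ * y⁻¹ with hc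
    -- `x, y` and the centre generate
    have hgen : Subgroup.centralizer ({x} : Set P) ⊔ Subgroup.zpowers y = ⊤ := by
      obtain ⟨k, -, hk⟩ := (Nat.dvd_prime_pow hp).1 (hP ▸ Subgroup.index_dvd_card
        (Subgroup.centralizer ({x} : Set P) ⊔ Subgroup.zpowers y))
      have h2 := Subgroup.index_strictAnti (lt_of_le_of_ne (le_sup_left :
        Subgroup.centralizer ({x} : Set P) ≤ _ ⊔ Subgroup.zpowers y)
        (fun e => hy (e ▸ Subgroup.mem_sup_right (Subgroup.mem_zpowers y))))
      rw [hidx _ (hzle x) x (Subgroup.mem_centralizer_singleton_iff.2 rfl) hx (hne_top x hx), hk] at h2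
      have : k < 1 := (Nat.pow_lt_pow_iff_right hp.one_lt).1 (by simpa using h2)
      rw [show k = 0 by omega, pow_zero] at hk
      exact Subgroup.index_eq_one.1 hk
    -- the quotient by the commutator of `x` and `y` is abelian
    have hcn : (Subgroup.zpowers c).Normal := ⟨fun a ha g => by
      have : a ∈ Subgroup.center P := (Subgroup.zpowers_le.2 (hcz (commem x y))) ha
      rw [Subgroup.mem_center_iff.1 this g, mul_assoc, mul_inv_cancel, mul_one]; exact ha⟩
    let N := Subgroup.zpowers c
    have hxy : Commute (x : P ⧸ N) (y : P ⧸ N) := by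
      have : ((c : P) : P ⧸ N) = 1 := (QuotientGroup.eq_one_iff c).2 (Subgroup.mem_zpowers c)
      rw [hc] at this
      simp only [QuotientGroup.mk_mul, QuotientGroup.mk_inv] at this
      rw [← commutatorElement_def, commutatorElement_eq_one_iff_mul_comm] at this
      exact this
    have hxall : ∀ q : P, Commute (x : P ⧸ N) (q : P ⧸ N) := by
      intro q
      have : q ∈ Subgroup.centralizer ({x} : Set P) ⊔ Subgroup.zpowers y := hgen ▸ Subgroup.mem_top q
      let T : Subgroup P := (Subgroup.centralizer ({(x : P ⧸ N)} : Set (P ⧸ N))).comap (QuotientGroup.mk' N)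
      have hT : Subgroup.centralizer ({x} : Set P) ⊔ Subgroup.zpowers y ≤ T := by
        refine sup_le (fun r hr => ?_) ?_
        · show (r : P ⧸ N) ∈ Subgroup.centralizer _
          rw [Subgroup.mem_centralizer_singleton_iff] at hr ⊢
          rw [← QuotientGroup.mk_mul, hr, QuotientGroup.mk_mul]
        · rw [Subgroup.zpowers_le]
          exact Subgroup.mem_centralizer_singleton_iff.2 hxy.symm.eq
      exact (Subgroup.mem_centralizer_singleton_iff.1 (hT this)).symm
    have hle : commutator P ≤ N := by
      rw [commutator_def, Subgroup.commutator_le]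
      intro a _ b _
      rw [← QuotientGroup.eq_one_iff, commutatorElement_def]
      simp only [QuotientGroup.mk_mul, QuotientGroup.mk_inv]
      rw [← commutatorElement_def, commutatorElement_eq_one_iff_mul_comm]
      show Commute (a : P ⧸ N) (b : P ⧸ N)
      -- everything commutes with `x`, and `⟨x, Z⟩` is the centralizer of `x`
      let T : Subgroup P := (Subgroup.centralizer ({(b : P ⧸ N)} : Set (P ⧸ N))).comap (QuotientGroup.mk' N)
      have hzT : ∀ (t : P) , Subgroup.center P ≤
          (Subgroup.centralizer ({(t : P ⧸ N)} : Set (P ⧸ N))).comap (QuotientGroup.mk' N) := by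
        intro t z hz
        show (z : P ⧸ N) ∈ Subgroup.centralizer _
        rw [Subgroup.mem_centralizer_singleton_iff, ← QuotientGroup.mk_mul,
          ← Subgroup.mem_center_iff.1 hz t, QuotientGroup.mk_mul]
      have hCx : Subgroup.zpowers x ⊔ Subgroup.center P = Subgroup.centralizer ({x} : Set P) := by
        refine le_antisymm (sup_le (Subgroup.zpowers_le.2 (Subgroup.mem_centralizer_singleton_iff.2 rfl))
          (hzle x)) ?_
        have hne : Subgroup.zpowers x ⊔ Subgroup.center P ≠ ⊤ := fun e => hy (by
          have : Subgroup.zpowers x ⊔ Subgroup.center P ≤ Subgroup.centralizer ({x} : Set P) :=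
            sup_le (Subgroup.zpowers_le.2 (Subgroup.mem_centralizer_singleton_iff.2 rfl)) (hzle x)
          exact this (e ▸ Subgroup.mem_top y))
        have h1 := hidx _ le_sup_right x (Subgroup.mem_sup_left (Subgroup.mem_zpowers x)) hx hne
        have h2 := hidx _ (hzle x) x (Subgroup.mem_centralizer_singleton_iff.2 rfl) hx (hne_top x hx)
        by_contra hlt
        have h3 := Subgroup.index_strictAnti (lt_of_le_not_ge (sup_le (Subgroup.zpowers_le.2
          (Subgroup.mem_centralizer_singleton_iff.2 rfl)) (hzle x)) hlt)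
        omega
      have hyall : ∀ q : P, Commute (y : P ⧸ N) (q : P ⧸ N) := by
        intro q
        let U : Subgroup P := (Subgroup.centralizer ({(y : P ⧸ N)} : Set (P ⧸ N))).comap (QuotientGroup.mk' N)
        have hU : Subgroup.centralizer ({x} : Set P) ⊔ Subgroup.zpowers y ≤ U := by
          refine sup_le ?_ ?_
          · rw [← hCx]
            refine sup_le ?_ (hzT y)
            rw [Subgroup.zpowers_le]
            exact Subgroup.mem_centralizer_singleton_iff.2 hxy.eq
          · rw [Subgroup.zpowers_le]
            exact Subgroup.mem_centralizer_singleton_iff.2 rfl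
        exact (Subgroup.mem_centralizer_singleton_iff.1 (hU (hgen ▸ Subgroup.mem_top q))).symm
      have hT : Subgroup.centralizer ({x} : Set P) ⊔ Subgroup.zpowers y ≤ T := by
        refine sup_le ?_ ?_
        · rw [← hCx]
          refine sup_le ?_ (hzT b)
          rw [Subgroup.zpowers_le]
          exact Subgroup.mem_centralizer_singleton_iff.2 (hxall b).eq
        · rw [Subgroup.zpowers_le]
          exact Subgroup.mem_centralizer_singleton_iff.2 (hyall b).eq
      exact Subgroup.mem_centralizer_singleton_iff.1 (hT (hgen ▸ Subgroup.mem_top a))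
    have hcp : c ^ p = 1 := by
      -- `x ^ p` is central
      have hxp : y ^ p ∈ Subgroup.centralizer ({x} : Set P) := by
        haveI hn : (Subgroup.centralizer ({x} : Set P)).Normal := ⟨fun a ha g => by
          have h1 : g * a * g⁻¹ * a⁻¹ ∈ Subgroup.center P := hcz (commem g a)
          have : g * a * g⁻¹ = g * a * g⁻¹ * a⁻¹ * a := by group
          rw [this]; exact mul_mem (hzle x h1) ha⟩
        have := (Subgroup.centralizer ({x} : Set P)).pow_index_mem y
        rwa [hidx _ (hzle x) x (Subgroup.mem_centralizer_singleton_iff.2 rfl) hx (hne_top x hx)] at this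
      have hcy : Commute y c := Subgroup.mem_center_iff.1 (hcz (commem x y)) y
      have e : x * y * x⁻¹ = c * y := by rw [hc]; group
      have h1 : x * y ^ p * x⁻¹ = c ^ p * y ^ p := by rw [← conj_pow, e, hcy.symm.mul_pow]
      rw [Subgroup.mem_centralizer_singleton_iff] at hxp
      have h2 : x * y ^ p * x⁻¹ = y ^ p := by rw [← hxp]; group
      exact mul_eq_right.1 (h1.symm.trans h2)
    have hd : Nat.card (commutator P) ∣ p := by
      refine (Subgroup.card_dvd_of_le hle).trans ?_
      rw [Nat.card_zpowers]
      exact orderOf_dvd_of_pow_eq_one hcp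
    rcases (Nat.dvd_prime hp).1 hd with h | h
    · exfalso
      have h1 := Subgroup.card_eq_one.1 h
      have hm := commem x y
      rw [h1, Subgroup.mem_bot, ← commutatorElement_def, commutatorElement_eq_one_iff_mul_comm] at hm
      exact hy (Subgroup.mem_centralizer_singleton_iff.2 hm.symm)
    · exact h

end Cfsg.Agent.S4584
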