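import Cfsg.Statements.S4585
import Cfsg.Agent.S4584
import Cfsg.Agent.Lib.Fusion.NPC
import Cfsg.Agent.Lib.Perm.NilpFrattini

set_option autoImplicit false
open Cfsg
open scoped commutatorElement

namespace Cfsg.Agent.S4585

/-- Let p be a prime and P a group of order p^4. Then P' has index p^2 in P if and only if P has maximal nilpotency class, that is, nilpotency class exactly 3. -/
theorem result {P : Type*} [Group P] [Finite P] (p : ℕ) [Fact p.Prime] (hP : Nat.card P = p ^ 4) :
    (commutator P).index = p ^ 2 ↔ Group.nilpotencyClass P = 3 := by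
  classical
  have hp := (Fact.out : p.Prime)
  have hPp : IsPGroup p P := IsPGroup.of_card hP
  haveI : Group.IsNilpotent P := hPp.isNilpotent
  set g2 := commutator P with hg2
  set g3 := ⁅g2, (⊤ : Subgroup P)⁆ with hg3
  set g4 := ⁅g3, (⊤ : Subgroup P)⁆ with hg4
  have e1 : Subgroup.lowerCentralSeries (⊤ : Subgroup P) 1 = g2 := Subgroup.top_lowerCentralSeries_one
  have e2 : Subgroup.lowerCentralSeries (⊤ : Subgroup P) 2 = g3 := by
    rw [Subgroup.lowerCentralSeries_succ, e1]
  have e3 : Subgroup.lowerCentralSeries (⊤ : Subgroup P) 3 = g4 := by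
    rw [Subgroup.lowerCentralSeries_succ, e2]
  have hcl : Group.nilpotencyClass P = 3 ↔ g4 = ⊥ ∧ g3 ≠ ⊥ := by
    rw [← e2, ← e3, ne_eq, Subgroup.lowerCentralSeries_eq_bot_iff_nilpotencyClass_le,
      Subgroup.lowerCentralSeries_eq_bot_iff_nilpotencyClass_le]
    omega
  rw [hcl]
  have hlt : ∀ K : Subgroup P, K.Normal → K ≠ ⊥ → Nat.card (⁅K, (⊤ : Subgroup P)⁆ : Subgroup P) * p ∣ Nat.card K := by
    intro K hK hne
    have hle : ⁅K, (⊤ : Subgroup P)⁆ ≤ K := Subgroup.commutator_le_left K ⊤
    have hd := Subgroup.card_dvd_of_le hle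
    obtain ⟨a, ha⟩ := IsPGroup.iff_card.1 (hPp.to_subgroup K)
    obtain ⟨b, hb⟩ := IsPGroup.iff_card.1 (hPp.to_subgroup (⁅K, (⊤ : Subgroup P)⁆ : Subgroup P))
    rw [ha, hb] at hd ⊢
    have hab : b ≤ a := (Nat.pow_dvd_pow_iff_le_right hp.one_lt).1 hd
    rw [← pow_succ]
    refine Nat.pow_dvd_pow p ?_
    by_contra h
    have : a = b := by omega
    exact hne (Cfsg.Agent.Fusion.eq_bot_of_le_commutator_top
      (Subgroup.eq_of_le_of_card_ge hle (by rw [ha, hb, this])).ge)
  have hmul := g2.card_mul_index
  constructor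
  · intro hi
    rw [hi, hP, show p ^ 4 = p ^ 2 * p ^ 2 by ring] at hmul
    have hc : Nat.card g2 = p ^ 2 := Nat.eq_of_mul_eq_mul_right (Nat.pow_pos hp.pos) hmul
    have hne2 : g2 ≠ ⊥ := fun h => by
      rw [h, Subgroup.card_bot] at hc
      exact (Nat.one_lt_pow (by norm_num) hp.one_lt).ne hc
    have hne : g3 ≠ ⊥ := by
      intro h
      -- then the commutator subgroup is central
      have hz : g2 ≤ Subgroup.center P := by
        intro a ha
        rw [Subgroup.mem_center_iff]
        intro b
        have hm : ⁅a, b⁆ ∈ g3 := Subgroup.commutator_mem_commutator ha (Subgroup.mem_top b)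
        rw [h, Subgroup.mem_bot, commutatorElement_eq_one_iff_mul_comm] at hm
        exact hm.symm
      obtain ⟨k, hk1', hk⟩ := (Nat.dvd_prime_pow hp).1 (hi ▸ Subgroup.index_dvd_of_le hz)
      have hnoncyc : ∀ k, k ≤ 1 → (Subgroup.center P).index = p ^ k → False := by
        intro k hk1 hk2
        haveI : IsCyclic (P ⧸ Subgroup.center P) := by
          rcases Nat.le_one_iff_eq_zero_or_eq_one.1 hk1 with rfl | rfl
          · haveI : Subsingleton (P ⧸ Subgroup.center P) := Finite.card_le_one_iff_subsingleton.1 (by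
              rw [← Subgroup.index, hk2, pow_zero])
            exact isCyclic_of_subsingleton
          · exact isCyclic_of_prime_card (p := p) (by rw [← Subgroup.index, hk2, pow_one])
        apply hne2
        rw [hg2, commutator_def, Subgroup.commutator_eq_bot_iff_le_centralizer]
        intro a _
        rw [Subgroup.mem_centralizer_iff]
        intro b _
        exact commutative_of_cyclic_center_quotient (QuotientGroup.mk' (Subgroup.center P))
          (by rw [QuotientGroup.ker_mk']) b a
      have hk2 : k = 2 := by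
        by_contra h'
        exact hnoncyc k (by omega) hk
      have := (Cfsg.Agent.S4584.result p hP).2 (by rw [hk, hk2])
      rw [← hg2, hc] at this
      exact absurd this (by
        intro e
        have := (Nat.pow_eq_self_iff hp.one_lt).1 e
        omega)
    refine ⟨?_, hne⟩
    by_contra h4
    have d1 := hlt g2 inferInstance hne2
    have d2 := hlt g3 inferInstance hne
    rw [← hg3, hc] at d1
    rw [← hg4] at d2
    have : Nat.card g4 * (p * p) ∣ p ^ 2 := by
      rw [← mul_assoc]; exact (Nat.mul_dvd_mul_right d2 p).trans d1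
    rw [← sq] at this
    have h1 : Nat.card g4 ∣ 1 := (Nat.mul_dvd_mul_iff_right (Nat.pow_pos hp.pos)).1 (by rwa [one_mul])
    exact h4 (Subgroup.card_eq_one.1 (Nat.dvd_one.1 h1))
  · rintro ⟨h4, h3⟩
    have hne2 : g2 ≠ ⊥ := by
      intro h; apply h3; rw [hg3, h, Subgroup.commutator_bot_left]
    have d1 := hlt g2 inferInstance hne2
    rw [← hg3] at d1
    obtain ⟨a, ha⟩ := IsPGroup.iff_card.1 (hPp.to_subgroup g2)
    obtain ⟨b, hb⟩ := IsPGroup.iff_card.1 (hPp.to_subgroup g3)
    rw [ha, hb, ← pow_succ] at d1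
    have hb1 : b ≠ 0 := fun h => h3 (Subgroup.card_eq_one.1 (by rw [hb, h, pow_zero]))
    have hab := (Nat.pow_dvd_pow_iff_le_right hp.one_lt).1 d1
    obtain ⟨i, -, hi⟩ := (Nat.dvd_prime_pow hp).1 (hP ▸ Subgroup.index_dvd_card g2)
    rw [ha, hi, hP, ← pow_add] at hmul
    have hsum := Nat.pow_right_injective hp.two_le hmul
    rw [hi]
    -- the abelianization is not cyclic
    have hi2 : 2 ≤ i := by
      by_contra h
      haveI : IsCyclic (P ⧸ g2) := by
        rcases Nat.le_one_iff_eq_zero_or_eq_one.1 (by omega : i ≤ 1) with rfl | rfl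
        · haveI : Subsingleton (P ⧸ g2) := Finite.card_le_one_iff_subsingleton.1 (by
            rw [← Subgroup.index, hi, pow_zero])
          exact isCyclic_of_subsingleton
        · exact isCyclic_of_prime_card (p := p) (by rw [← Subgroup.index, hi, pow_one])
      obtain ⟨x, hx⟩ := IsCyclic.exists_generator (α := P ⧸ g2)
      obtain ⟨x, rfl⟩ := QuotientGroup.mk_surjective x
      have htop : Subgroup.zpowers x ⊔ g2 = ⊤ := by
        refine eq_top_iff.2 (fun q _ => ?_)
        obtain ⟨n, hn⟩ := hx (q : P ⧸ g2)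
        simp only [← QuotientGroup.mk_zpow, QuotientGroup.eq] at hn
        have : x ^ n * ((x ^ n)⁻¹ * q) ∈ Subgroup.zpowers x ⊔ g2 :=
          mul_mem (Subgroup.mem_sup_left ⟨n, rfl⟩) (Subgroup.mem_sup_right hn)
        simpa using this
      have hz : Subgroup.zpowers x = ⊤ := by
        apply frattini_nongenerating
        exact eq_top_iff.2 (htop ▸ sup_le_sup_left Cfsg.Agent.Perm.commutator_le_frattini _)
      apply hne2
      rw [hg2, commutator_def, Subgroup.commutator_eq_bot_iff_le_centralizer]
      intro a _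
      rw [Subgroup.mem_centralizer_iff]
      intro b _
      obtain ⟨n, rfl⟩ : a ∈ Subgroup.zpowers x := hz ▸ Subgroup.mem_top a
      obtain ⟨m, rfl⟩ : b ∈ Subgroup.zpowers x := hz ▸ Subgroup.mem_top b
      exact (Commute.zpow_zpow_self x m n).eq
    congr 1
    omega

end Cfsg.Agent.S4585
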