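import Cfsg.Statements.S4586
import Mathlib

set_option autoImplicit false
open Cfsg
open scoped commutatorElement

namespace Cfsg.Agent.S4586

/-- Let p be a prime, P a finite p-group and N a normal subgroup of P of index p. For x ∈ P write c(x) for the number of elements n of N whose commutator x n x⁻¹ n⁻¹ lies in the derived subgroup N' (so c(x)/#N' is the order of the centralizer of x acting on N/N'). Then [P : P'] = p² if and only if c(x) = p·#N' for every x ∈ P outside N, and also if and only if c(x) = p·#N' for some x ∈ P outside N. -/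
theorem result {P : Type*} [Group P] [Finite P] (p : ℕ) [Fact p.Prime] (hP : IsPGroup p P) (N : Subgroup P) [N.Normal] (hN : N.index = p) :
    ((commutator P).index = p ^ 2 ↔ ∀ x : P, x ∉ N →
        Nat.card {n : N // x * n * x⁻¹ * (n : P)⁻¹ ∈ (commutator N).map N.subtype} = p * Nat.card (commutator N)) ∧
    ((commutator P).index = p ^ 2 ↔ ∃ x : P, x ∉ N ∧
        Nat.card {n : N // x * n * x⁻¹ * (n : P)⁻¹ ∈ (commutator N).map N.subtype} = p * Nat.card (commutator N)) := by
  classical
  have hp := (Fact.out : p.Prime)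
  set D := (commutator N).map N.subtype with hD
  have hDc : Nat.card D = Nat.card (commutator N) :=
    Subgroup.card_map_of_injective N.subtype_injective
  have hDn : D.Normal := by
    rw [hD, commutator_def, Subgroup.map_commutator, ← MonoidHom.range_eq_map, Subgroup.range_subtype]
    exact Subgroup.commutator_normal N N
  have hDN : D ≤ N := Subgroup.map_subtype_le _
  have hNN : ∀ a ∈ N, ∀ b ∈ N, a * b * a⁻¹ * b⁻¹ ∈ D := fun a ha b hb =>
    ⟨⁅(⟨a, ha⟩ : N), ⟨b, hb⟩⁆, Subgroup.commutator_mem_commutator (Subgroup.mem_top _) (Subgroup.mem_top _),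
      by simp [commutatorElement_def]⟩
  let π := QuotientGroup.mk' D
  have key : ∀ x : P, x ∉ N →
      Nat.card {n : N // x * n * x⁻¹ * (n : P)⁻¹ ∈ D} * p = (commutator P).index * Nat.card D := by
    intro x hx
    have hcomm : ∀ a ∈ N, ∀ b ∈ N, Commute (π a) (π b) := fun a ha b hb => by
      show π a * π b = π b * π a
      rw [← map_mul, ← map_mul, ← mul_inv_eq_one, ← map_inv, ← map_mul, QuotientGroup.mk'_apply,
        QuotientGroup.eq_one_iff]
      simpa [mul_assoc] using hNN a ha b hb
    have hxN : ∀ n : N, x * n * x⁻¹ ∈ N := fun n => Subgroup.Normal.conj_mem ‹N.Normal› _ n.2 x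
    have hxN' : ∀ n : N, x * n * x⁻¹ * (n : P)⁻¹ ∈ N := fun n => N.mul_mem (hxN n) (N.inv_mem n.2)
    let φ : N →* P ⧸ D :=
      { toFun := fun n => π (x * n * x⁻¹ * (n : P)⁻¹)
        map_one' := by simp
        map_mul' := fun m n => by
          have h : Commute (π (x * n * x⁻¹ * (n : P)⁻¹)) (π (m : P)⁻¹) :=
            hcomm _ (hxN' n) _ (N.inv_mem m.2)
          calc π (x * (m * n : N) * x⁻¹ * ((m * n : N) : P)⁻¹)
              = π (x * m * x⁻¹ * ((x * n * x⁻¹ * (n : P)⁻¹) * (m : P)⁻¹)) := by
                congr 1; simp [mul_assoc]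
            _ = π (x * m * x⁻¹) * (π (x * n * x⁻¹ * (n : P)⁻¹) * π (m : P)⁻¹) := by
                rw [map_mul, map_mul π (x * n * x⁻¹ * (n : P)⁻¹)]
            _ = π (x * m * x⁻¹) * (π (m : P)⁻¹ * π (x * n * x⁻¹ * (n : P)⁻¹)) := by rw [h.eq]
            _ = _ := by rw [← mul_assoc, ← map_mul π _ (m : P)⁻¹] }
    set L := φ.range.comap π with hL
    have hDL : D ≤ L := fun d hd => ⟨1, by
      rw [map_one]; exact ((QuotientGroup.eq_one_iff d).2 hd).symm⟩
    have hgenx : Subgroup.zpowers x ⊔ N = ⊤ := by
      have hlt : N < Subgroup.zpowers x ⊔ N := lt_of_le_of_ne le_sup_right (fun e =>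
        hx (e ▸ Subgroup.mem_sup_left (Subgroup.mem_zpowers x)))
      have := Subgroup.index_strictAnti hlt
      rw [hN] at this
      have hd := Subgroup.index_dvd_of_le hlt.le
      rw [hN, Nat.dvd_prime hp] at hd
      exact Subgroup.index_eq_one.1 (hd.resolve_right this.ne)
    have hφN : ∀ n : N, x * n * x⁻¹ * (n : P)⁻¹ ∈ L := fun n => ⟨n, rfl⟩
    -- `L` is normal
    have hLnorm : L.Normal := by
      constructor
      rintro a ⟨n, hn⟩ g
      have hg : g ∈ Subgroup.zpowers x ⊔ N := hgenx ▸ Subgroup.mem_top g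
      have hstep : ∀ r : P, (∀ m : N, ∃ m' : N, φ m' = π r * φ m * (π r)⁻¹) →
          ∀ b ∈ L, r * b * r⁻¹ ∈ L := by
        rintro r hr b ⟨m, hm⟩
        obtain ⟨m', hm'⟩ := hr m
        exact ⟨m', by rw [hm', hm, map_mul, map_mul, map_inv]⟩
      have hxs : ∀ b ∈ L, x * b * x⁻¹ ∈ L := hstep x (fun m => ⟨⟨_, hxN m⟩, by
        show π (x * (x * m * x⁻¹) * x⁻¹ * (x * m * x⁻¹)⁻¹) = π x * π (x * m * x⁻¹ * (m : P)⁻¹) * (π x)⁻¹
        rw [← map_inv π x, ← map_mul, ← map_mul]
        congr 1; group⟩)
      have hxnorm : x ∈ Subgroup.normalizer (L : Set P) := Subgroup.mem_normalizer_fintype hxs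
      have hNnorm : N ≤ Subgroup.normalizer (L : Set P) := fun r hr => Subgroup.mem_normalizer_fintype
        (hstep r (fun m => ⟨m, by
          show π (x * m * x⁻¹ * (m : P)⁻¹) = π r * π (x * m * x⁻¹ * (m : P)⁻¹) * (π r)⁻¹
          rw [(hcomm r hr _ (hxN' m)).eq, mul_inv_cancel_right]⟩))
      exact (Subgroup.mem_normalizer_iff.1 ((sup_le (Subgroup.zpowers_le.2 hxnorm) hNnorm) hg) a).1 ⟨n, hn⟩
    have hLc : L = commutator P := by
      refine le_antisymm ?_ ?_
      · rintro a ⟨n, hn⟩
        have hDP : D ≤ commutator P := by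
          rw [hD, commutator_def, Subgroup.map_commutator]
          exact Subgroup.commutator_mono le_top le_top
        have h1 : (x * n * x⁻¹ * (n : P)⁻¹)⁻¹ * a ∈ D := QuotientGroup.eq.1 hn
        have h2 : x * n * x⁻¹ * (n : P)⁻¹ ∈ commutator P := by
          rw [← commutatorElement_def]
          exact Subgroup.commutator_mem_commutator (Subgroup.mem_top _) (Subgroup.mem_top _)
        have := mul_mem h2 (hDP h1)
        rwa [mul_inv_cancel_left] at this
      · -- generators commute modulo `L`
        have hxn : ∀ n ∈ N, Commute (x : P ⧸ L) (n : P ⧸ L) := by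
          intro n hn
          have := (QuotientGroup.eq_one_iff (N := L) _).2 (hφN ⟨n, hn⟩)
          simp only [QuotientGroup.mk_mul, QuotientGroup.mk_inv] at this
          rw [← commutatorElement_def, commutatorElement_eq_one_iff_mul_comm] at this
          exact this
        have hnn : ∀ m ∈ N, ∀ n ∈ N, Commute (m : P ⧸ L) (n : P ⧸ L) := by
          intro m hm n hn
          have := (QuotientGroup.eq_one_iff (N := L) _).2 (hDL (hNN m hm n hn))
          simp only [QuotientGroup.mk_mul, QuotientGroup.mk_inv] at this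
          rw [← commutatorElement_def, commutatorElement_eq_one_iff_mul_comm] at this
          exact this
        have hall : ∀ b : P, Subgroup.zpowers x ⊔ N ≤
            (Subgroup.centralizer ({(b : P ⧸ L)} : Set (P ⧸ L))).comap (QuotientGroup.mk' L) := by
          have hx' : Subgroup.zpowers x ⊔ N ≤
              (Subgroup.centralizer ({(x : P ⧸ L)} : Set (P ⧸ L))).comap (QuotientGroup.mk' L) :=
            sup_le (Subgroup.zpowers_le.2 (Subgroup.mem_centralizer_singleton_iff.2 rfl))
              (fun n hn => Subgroup.mem_centralizer_singleton_iff.2 (hxn n hn).symm.eq)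
          have hn' : ∀ n ∈ N, Subgroup.zpowers x ⊔ N ≤
              (Subgroup.centralizer ({(n : P ⧸ L)} : Set (P ⧸ L))).comap (QuotientGroup.mk' L) :=
            fun n hn => sup_le (Subgroup.zpowers_le.2 (Subgroup.mem_centralizer_singleton_iff.2 (hxn n hn).eq))
              (fun m hm => Subgroup.mem_centralizer_singleton_iff.2 (hnn m hm n hn).eq)
          intro b
          refine sup_le (Subgroup.zpowers_le.2 ?_) (fun n hn => ?_)
          · exact Subgroup.mem_centralizer_singleton_iff.2
              (Subgroup.mem_centralizer_singleton_iff.1 (hx' (hgenx ▸ Subgroup.mem_top b))).symm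
          · exact Subgroup.mem_centralizer_singleton_iff.2
              (Subgroup.mem_centralizer_singleton_iff.1 (hn' n hn (hgenx ▸ Subgroup.mem_top b))).symm
        rw [commutator_def, Subgroup.commutator_le]
        intro a _ b _
        rw [← QuotientGroup.eq_one_iff, commutatorElement_def]
        simp only [QuotientGroup.mk_mul, QuotientGroup.mk_inv]
        rw [← commutatorElement_def, commutatorElement_eq_one_iff_mul_comm]
        exact Subgroup.mem_centralizer_singleton_iff.1 (hall b (hgenx ▸ Subgroup.mem_top a))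
    have hker : Nat.card {n : N // x * n * x⁻¹ * (n : P)⁻¹ ∈ D} = Nat.card φ.ker :=
      Nat.card_congr (Equiv.subtypeEquivRight fun n => (QuotientGroup.eq_one_iff _).symm)
    have hrange : Nat.card φ.range * Nat.card D = Nat.card (commutator P) := by
      rw [← hLc]
      have hm : L.map π = φ.range :=
        Subgroup.map_comap_eq_self_of_surjective (QuotientGroup.mk'_surjective D) _
      rw [← hm, ← Nat.card_congr (Subgroup.subgroupOfEquivOfLe hDL).toEquiv]
      have h := (π.comp L.subtype).ker.card_mul_index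
      rw [Subgroup.index_ker, MonoidHom.range_comp, Subgroup.range_subtype] at h
      have hk : (π.comp L.subtype).ker = D.subgroupOf L := by
        ext a; simp [π, Subgroup.mem_subgroupOf]
      rw [hk] at h
      rw [mul_comm, h]
    have hsplit := φ.ker.card_mul_index
    rw [Subgroup.index_ker, ← hker] at hsplit
    have h1 := (commutator P).card_mul_index
    have h2 := N.card_mul_index
    rw [hN, ← h1, ← hsplit] at h2
    -- cancel the order of the range
    have h3 : Nat.card {n : N // x * n * x⁻¹ * (n : P)⁻¹ ∈ D} * p * Nat.card φ.range =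
        (commutator P).index * Nat.card D * Nat.card φ.range := by
      calc _ = Nat.card (commutator P) * (commutator P).index := by rw [← h2]; ring
        _ = _ := by rw [← hrange]; ring
    exact Nat.eq_of_mul_eq_mul_right Nat.card_pos h3
  have hone : ∀ x : P, x ∉ N →
      ((commutator P).index = p ^ 2 ↔ Nat.card {n : N // x * n * x⁻¹ * (n : P)⁻¹ ∈ D} = p * Nat.card (commutator N)) := by
    intro x hx
    have h := key x hx
    rw [← hDc]
    constructor
    · intro hi
      rw [hi] at h
      exact Nat.eq_of_mul_eq_mul_right hp.pos (h.trans (by ring))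
    · intro hc
      rw [hc] at h
      exact Nat.eq_of_mul_eq_mul_right Nat.card_pos (h.symm.trans (by ring))
  obtain ⟨x₀, hx₀⟩ : ∃ x : P, x ∉ N := by
    by_contra h
    simp only [not_exists, not_not] at h
    rw [Subgroup.index_eq_one.2 (eq_top_iff.2 fun a _ => h a)] at hN
    exact hp.ne_one hN.symm
  exact ⟨⟨fun h x hx => (hone x hx).1 h, fun h => (hone x₀ hx₀).2 (h x₀ hx₀)⟩,
    ⟨fun h => ⟨x₀, hx₀, (hone x₀ hx₀).1 h⟩, fun ⟨x, hx, h⟩ => (hone x hx).2 h⟩⟩

end Cfsg.Agent.S4586
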