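import Cfsg.Statements.S4587
import Cfsg.Agent.Lib.Solv.AbelPSquareSemi

set_option autoImplicit false
open Cfsg

namespace Cfsg.Agent.S4587

/-- Let G be a finite group, p a prime and P a Sylow p-subgroup of order at least p². Assume that G has no nontrivial normal subgroup of order prime to p, that the derived subgroup P' of P contains no nontrivial normal subgroup of G, and that G is not almost simple (there is no non-abelian simple normal subgroup of G with trivial centralizer). Then [P : P'] = p² if and only if some p-element x of G has centralizer whose order has p-part exactly p². -/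
theorem result {G : Type*} [Group G] [Finite G] (p : ℕ) [Fact p.Prime] (P : Sylow p G) (hbig : p ^ 2 ∣ Nat.card G) (hcore : Cfsg.pPrimeCore p G = ⊥)
    (hcore' : (⁅(P : Subgroup G), (P : Subgroup G)⁆).normalCore = ⊥) (hnas : ¬ ∃ S : Subgroup G, S.Normal ∧ IsSimpleGroup S ∧ ¬ IsMulCommutative S ∧ Subgroup.centralizer (S : Set G) = ⊥) :
    (⁅(P : Subgroup G), (P : Subgroup G)⁆).relIndex (P : Subgroup G) = p ^ 2 ↔
      ∃ x : G, (∃ k : ℕ, orderOf x = p ^ k) ∧ (Nat.card (Subgroup.centralizer ({x} : Set G))).factorization p = 2 := by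
  have hrel : (⁅(P : Subgroup G), (P : Subgroup G)⁆).relIndex (P : Subgroup G) =
      (commutator (P : Subgroup G)).index := by
    rw [← Solv.PSq.commutator_eq P, Subgroup.relIndex, Subgroup.subgroupOf,
      Subgroup.comap_map_eq_self_of_injective (P : Subgroup G).subtype_injective]
  rw [hrel]
  constructor
  · intro h
    by_cases h0 : Cfsg.pCore p G = ⊥
    · haveI : Nontrivial G := Finite.one_lt_card_iff_nontrivial.1 (lt_of_lt_of_le
        (Nat.one_lt_pow two_ne_zero (Fact.out : p.Prime).one_lt) (Nat.le_of_dvd Nat.card_pos hbig))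
      exact Solv.PSq.of_components P h h0 hcore inferInstance hnas
    · exact Solv.PSq.of_pCore P h h0 hcore'
  · rintro ⟨x, hx, hv⟩
    obtain ⟨b, -, hb⟩ := Solv.PSq.exists_extremal P x hx
    rw [hv] at hb
    have hPc : p ^ 2 ≤ Nat.card (P : Subgroup G) := by
      rw [P.card_eq_multiplicity]
      exact Nat.pow_le_pow_right (Fact.out : p.Prime).pos
        (((Fact.out : p.Prime).pow_dvd_iff_le_factorization Nat.card_pos.ne').1 hbig)
    have h1 := Solv.PSq.card_le_centralizer_mul b
    rw [← (commutator (P : Subgroup G)).card_mul_index, hb, mul_comm] at h1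
    refine le_antisymm (Nat.le_of_mul_le_mul_right h1 Nat.card_pos) ?_
    by_cases hc : ∀ x y : (P : Subgroup G), x * y = y * x
    · rw [Solv.PSq.comm_eq_bot hc, Subgroup.index_bot]
      exact hPc
    · by_contra hlt
      exact hc (Solv.PSq.comm_of_index_lt P.2 (not_le.1 hlt))

end Cfsg.Agent.S4587
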