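import Cfsg.Statements.S4604
import Cfsg.Agent.Lib.Char.PowerCongr

set_option autoImplicit false
open Cfsg
open scoped ComplexConjugate

namespace Cfsg.Agent.S4604

/-- Let G be a finite group, p a prime and p^a the p-part of the order of G. Let x, y ∈ G and let x′, y′ be their p-regular parts: x′ has order prime to p, commutes with x·x′⁻¹, and x·x′⁻¹ has p-power order (likewise for y). Then x′ and y′ are conjugate in G if and only if for every irreducible character χ of G the algebraic integer χ(x)^(p^a) − χ(y)^(p^a) is p times an algebraic integer. -/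
theorem result {G : Type*} [Group G] [Finite G] (p : ℕ) [Fact p.Prime] (x y x' y' : G)
    (hx : (∃ k : ℕ, orderOf (x * x'⁻¹) = p ^ k) ∧ Commute (x * x'⁻¹) x' ∧ ¬ p ∣ orderOf x')
    (hy : (∃ k : ℕ, orderOf (y * y'⁻¹) = p ^ k) ∧ Commute (y * y'⁻¹) y' ∧ ¬ p ∣ orderOf y') :
    IsConj x' y' ↔ ∀ χ : Cfsg.IrrCharacter G, ∃ γ : Cfsg.AlgInt,
      (χ : G → ℂ) x ^ (p ^ (Nat.card G).factorization p) - (χ : G → ℂ) y ^ (p ^ (Nat.card G).factorization p) = (p : ℂ) * (γ : ℂ) := by
  classical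
  haveI := Fintype.ofFinite G
  have hp : p.Prime := Fact.out
  obtain ⟨M, hM⟩ := Char.exists_pModular hp
  have hP := Char.pmod_prime hM
  set a := (Nat.card G).factorization p with ha
  have hpow : ∀ x x' : G, (∃ k : ℕ, orderOf (x * x'⁻¹) = p ^ k) → Commute (x * x'⁻¹) x' →
      x ^ p ^ a = x' ^ p ^ a := by
    intro x x' ⟨k, hk⟩ hc
    have hka : k ≤ a := (hp.pow_dvd_iff_le_factorization Nat.card_pos.ne').mp
      (hk ▸ orderOf_dvd_natCard _)
    have h1 : (x * x'⁻¹) ^ p ^ a = 1 :=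
      orderOf_dvd_iff_pow_eq_one.mp (hk ▸ pow_dvd_pow p hka)
    have e := hc.mul_pow (p ^ a)
    rw [inv_mul_cancel_right, h1, one_mul] at e
    exact e
  have hx' := hpow x x' hx.1 hx.2.1
  have hy' := hpow y y' hy.1 hy.2.1
  constructor
  · intro h χ
    obtain ⟨γ₁, h1⟩ := Char.char_pow_congr (Char.irr_isCharacter χ.2) hp a x
    obtain ⟨γ₂, h2⟩ := Char.char_pow_congr (Char.irr_isCharacter χ.2) hp a y
    obtain ⟨c, hc⟩ := isConj_iff.mp h
    have hχ : (χ : G → ℂ) (x ^ p ^ a) = (χ : G → ℂ) (y ^ p ^ a) := by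
      rw [hx', hy', ← hc, conj_pow, Char.isClassFunction_character (Char.irr_isCharacter χ.2)]
    refine ⟨γ₁ - γ₂, ?_⟩
    simp only [AddSubgroupClass.coe_sub]
    linear_combination h1 - h2 + hχ
  · intro h
    have hreg : ∀ z : G, ¬ p ∣ orderOf z → ¬ p ∣ orderOf (z ^ p ^ a) := fun z hz hd =>
      hz (hd.trans (orderOf_pow_dvd _))
    have hconj : IsConj (x' ^ p ^ a) (y' ^ p ^ a) := by
      refine Char.isConj_of_congr hM (hreg _ hx.2.2) (hreg _ hy.2.2) fun χ => ?_
      obtain ⟨γ₁, h1⟩ := Char.char_pow_congr (Char.irr_isCharacter χ.2) hp a x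
      obtain ⟨γ₂, h2⟩ := Char.char_pow_congr (Char.irr_isCharacter χ.2) hp a y
      obtain ⟨γ, h3⟩ := h χ
      rw [← hx', ← hy']
      have e : (χ : G → ℂ) (x ^ p ^ a) - (χ : G → ℂ) (y ^ p ^ a) =
          (p : ℂ) * ((γ - γ₁ + γ₂ : AlgInt) : ℂ) := by
        simp only [AddMemClass.coe_add, AddSubgroupClass.coe_sub]
        linear_combination h3 - h1 + h2
      rw [e]
      exact Char.memLI_mul_right hP (Char.memLI_p hM)
        (Char.memLocalRing_of_isIntegral hP.ne_top (Char.algInt_isIntegral _))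
    have hN : (p ^ a).Coprime (orderOf x' * orderOf y') :=
      Nat.Coprime.pow_left _ ((hp.coprime_iff_not_dvd).mpr fun hd =>
        (hp.dvd_mul.mp hd).elim hx.2.2 hy.2.2)
    obtain ⟨c, hc⟩ := isConj_iff.mp hconj
    set d := Nat.gcdA (p ^ a) (orderOf x' * orderOf y')
    have key : ∀ z : G, z ^ (orderOf x' * orderOf y') = 1 → (z ^ p ^ a) ^ d = z := by
      intro z hz
      have hb := Nat.gcd_eq_gcd_ab (p ^ a) (orderOf x' * orderOf y')
      rw [hN.gcd_eq_one, Nat.cast_one] at hb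
      calc (z ^ p ^ a) ^ d = z ^ ((((p ^ a : ℕ)) : ℤ) * d) := by rw [zpow_mul, zpow_natCast]
        _ = z ^ ((((p ^ a : ℕ)) : ℤ) * d + ((orderOf x' * orderOf y' : ℕ) : ℤ) *
            Nat.gcdB (p ^ a) (orderOf x' * orderOf y')) := by
          rw [zpow_add, zpow_mul z ((orderOf x' * orderOf y' : ℕ) : ℤ), zpow_natCast, hz, one_zpow,
            mul_one]
        _ = z := by rw [← hb, zpow_one]
    have := congrArg (· ^ d) hc
    simp only [conj_zpow, key x' (by rw [pow_mul, pow_orderOf_eq_one, one_pow]),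
      key y' (by rw [mul_comm, pow_mul, pow_orderOf_eq_one, one_pow])] at this
    exact isConj_iff.mpr ⟨c, this⟩

end Cfsg.Agent.S4604
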