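import Cfsg.Statements.S4608
import Cfsg.Agent.Lib.Char.SmallBlockFive

set_option autoImplicit false
open Cfsg
open Cfsg.Agent

namespace Cfsg.Agent.S4608

/-- Let G be a finite group, p a prime, M a maximal ideal of the algebraic integers containing p, and B a p-block of G with defect group D. If B has p-regular rank one and exactly five irreducible characters, then D is cyclic of order 5, or D has order 8 and is non-abelian (dihedral or quaternion). -/
theorem result {G : Type*} [Group G] [Finite G] (p : ℕ) [Fact p.Prime] (M : Ideal Cfsg.AlgInt) (hM : Cfsg.IsPModular p M) (B : Set (Cfsg.IrrCharacter G)) (hB : Cfsg.IsPBlock M B) (D : Subgroup G) (hD : Cfsg.IsDefectGroup p M B D)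
    (hl : Cfsg.blockRank p B = 1) (hk : Nat.card B = 5) :
    (Nat.card D = 5) ∨ (Nat.card D = 8 ∧ ¬ IsMulCommutative D) := by
  classical
  haveI := Fintype.ofFinite G
  have hcardD := Char.card_defectGroup hM hB hD
  rcases Char.SmallBlockFive.card_five_or_eight hM hB hl hk with h | h
  · exact Or.inl (hcardD.trans h)
  refine Or.inr ⟨hcardD.trans h, fun hc => ?_⟩
  have hp : p = 2 := by
    have hd : blockDefect p B ≠ 0 := fun e => by rw [e, pow_zero] at h; omega
    have hdvd : p ∣ 2 ^ 3 := by
      rw [show (2 : ℕ) ^ 3 = p ^ blockDefect p B by rw [h]; norm_num]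
      exact dvd_pow_self p hd
    exact (Nat.prime_dvd_prime_iff_eq hM.1 Nat.prime_two).mp (hM.1.dvd_of_dvd_pow hdvd)
  subst hp
  have hd3 : blockDefect 2 B = 3 := Nat.pow_right_injective le_rfl (h.trans (by norm_num))
  have hab : ∀ x ∈ D, ∀ y ∈ D, x * y = y * x := fun x hx y hy =>
    congrArg Subtype.val (hc.is_comm.comm (⟨x, hx⟩ : D) ⟨y, hy⟩)
  obtain ⟨e, he⟩ := Char.exists_pair_of_le_defect hM hB hD le_rfl
  obtain ⟨o, ho, hcount⟩ := Char.SmallBlockFive.count_odd hM (Char.maximal_of_defect hM hD he) hab three_ne_zero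
    (by rw [hcardD, hd3]) fun x b hj hx hb hdef => by
      obtain ⟨j, hj⟩ := hj
      letI := Fintype.ofFinite (Subgroup.centralizer ({x} : Set G))
      refine Char.SmallBlockFive.odd_of_central hM hb (hdef.trans hd3)
        (z := (⟨x, Subgroup.mem_centralizer_singleton_iff.mpr rfl⟩ : Subgroup.centralizer ({x} : Set G)))
        (fun c => Subtype.ext (Subgroup.mem_centralizer_singleton_iff.mp c.2).symm) (a := j)
        (fun hj0 => hx (orderOf_eq_one_iff.mp (by rw [hj, hj0, pow_zero]))) ?_
      rw [Subgroup.orderOf_mk, hj]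
  rw [hk, hl] at hcount
  obtain ⟨m, hm⟩ := ho
  omega

end Cfsg.Agent.S4608
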