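import Cfsg.Statements.S4621
import Cfsg.Agent.Lib.Solv.CopPair.Main

set_option autoImplicit false
open Cfsg

namespace Cfsg.Agent.S4621

/-- Let F be a finite field of odd characteristic, V a finite-dimensional vector space over F, and G a finite solvable group acting faithfully and linearly on V with the order of G coprime to the number of vectors of V. Then there are two vectors x, y ∈ V such that the only element of G fixing both x and y is the identity. -/
theorem result {F : Type*} [Field F] [Fintype F] (hF : ringChar F ≠ 2) {V : Type*} [AddCommGroup V] [Module F V] [FiniteDimensional F V] [Finite V]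
    {G : Type*} [Group G] [Finite G] [Group.IsSolvable G] (ρ : Representation F G V) (hfaith : Function.Injective ρ) (hcop : (Nat.card G).Coprime (Nat.card V)) :
    ∃ x y : V, ∀ g : G, ρ g x = x → ρ g y = y → g = 1 := by
  classical
  letI : DistribMulAction G V :=
    { smul := fun g v => ρ g v
      one_smul := fun v => by show ρ 1 v = v; rw [map_one]; rfl
      mul_smul := fun g h v => by show ρ (g * h) v = ρ g (ρ h v); rw [map_mul]; rfl
      smul_zero := fun g => (ρ g).map_zero
      smul_add := fun g => (ρ g).map_add }
  obtain ⟨p, hp⟩ : ∃ p, p = ringChar F := ⟨_, rfl⟩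
  haveI : CharP F p := hp ▸ ringChar.charP F
  have hpp : p.Prime := CharP.char_is_prime F p
  have hexp : ∀ x : V, p • x = 0 := fun x => by
    rw [← Nat.cast_smul_eq_nsmul F, CharP.cast_eq_zero, zero_smul]
  have hodd : Odd (Nat.card V) := by
    rw [Module.natCard_eq_pow_finrank (K := F)]
    refine Odd.pow ?_
    obtain ⟨k, -, hk⟩ := FiniteField.card F p
    rw [Nat.card_eq_fintype_card, hk]
    exact (hpp.odd_of_ne_two (hp ▸ hF)).pow
  obtain ⟨x, y, h⟩ := Cfsg.Agent.Solv.CopPair.base_coprime (A := G) (V := V) inferInstance hodd hcop
    (Cfsg.Agent.Solv.CopPair.cr_of_coprime hpp hexp hcop)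
  refine ⟨x, y, fun g hx hy => hfaith ?_⟩
  rw [map_one]
  exact LinearMap.ext fun v => h g hx hy v

end Cfsg.Agent.S4621
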