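import Cfsg.Statements.S4626
import Cfsg.Agent.Lib.Char.BlockBasic
import Cfsg.Agent.Lib.Char.Codegree
import Cfsg.Agent.Lib.Char.Defect
import Cfsg.Agent.Lib.Char.PrincipalBlock

set_option autoImplicit false
open Cfsg
open scoped ComplexConjugate

namespace Cfsg.Agent.S4626

/-- Let G be a finite group, p a prime, M a maximal ideal of the algebraic integers containing p, P a Sylow p-subgroup of G and N a normal subgroup of index prime to p containing the centralizer C_G(P). Then every irreducible character of G whose kernel contains N lies in the principal p-block of G. -/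
theorem result {G : Type*} [Group G] [Finite G] (p : ℕ) [Fact p.Prime] (M : Ideal Cfsg.AlgInt) (hM : Cfsg.IsPModular p M) (P : Sylow p G) (N : Subgroup G) [N.Normal] (hidx : ¬ p ∣ N.index)
    (hC : Subgroup.centralizer ((P : Subgroup G) : Set G) ≤ N) (χ : Cfsg.IrrCharacter G) (hker : ∀ n ∈ N, (χ : G → ℂ) n = (χ : G → ℂ) 1) :
    χ ∈ Cfsg.principalBlock M G := by
  classical
  have hC_orig : ∀ ⦃y : G⦄, y ∈ Subgroup.centralizer ((P : Subgroup G) : Set G) → y ∈ N := fun _ h => hC h
  have hp : p.Prime := Fact.out
  have := Fintype.ofFinite G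
  have hP := Char.pmod_prime hM
  let t : Cfsg.IrrCharacter G := ⟨fun _ => 1, Char.isIrrCharacter_one⟩
  have hB : Cfsg.IsPBlock M (Cfsg.principalBlock M G) := Char.isPBlock_blockOf M t
  obtain ⟨n, hn⟩ := Char.charOne_eq_natCast (Char.irr_isCharacter χ.2)
  have hn' : n = Cfsg.charDegree (χ : G → ℂ) := by
    rw [Char.charDegree_eq_deg]
    exact_mod_cast hn.symm.trans (Char.char_one_eq_deg (Char.irr_isCharacter χ.2))
  let K : Subgroup G :=
    { carrier := {g | (χ : G → ℂ) g = (χ : G → ℂ) 1}
      one_mem' := rfl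
      mul_mem' := fun {a b} ha hb' => by
        show (χ : G → ℂ) (a * b) = _
        rw [Char.char_mul_of_ker (Char.irr_isCharacter χ.2) ha]; exact hb'
      inv_mem' := fun {a} ha => by
        show (χ : G → ℂ) a⁻¹ = _
        rw [Char.char_inv (Char.irr_isCharacter χ.2), ha, hn, Complex.conj_natCast] }
  have : K.Normal := ⟨fun a ha g => by
    show (χ : G → ℂ) (g * a * g⁻¹) = _
    rw [Char.isClassFunction_character (Char.irr_isCharacter χ.2) a g]; exact ha⟩
  have hnp : ¬ p ∣ n := by
    have hd := Char.charDegree_dvd_index_kernel χ (K := K) fun g => Iff.rfl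
    rw [← hn'] at hd
    exact fun hdp => hidx ((hdp.trans hd).trans (Subgroup.index_dvd_of_le fun a ha => hker a ha))
  refine (Char.mem_block_iff hP hB (Char.self_mem_blockOf hP t) χ).mpr fun g => ?_
  rw [← Char.omega_eq_centralChar, ← Char.omega_eq_centralChar, Char.omega, Char.omega]
  simp only [t, mul_one, div_one, hn]
  by_cases hk : p ∣ Nat.card {y : G // IsConj g y}
  · refine Char.memLI_sub hP ((Char.memLI_natCast_iff hM _).mpr hk) ?_ <;> skip
    rw [div_eq_mul_inv, mul_assoc]
    exact Char.memLI_mul_right hP ((Char.memLI_natCast_iff hM _).mpr hk)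
      (Char.memLR_mul hP (Char.memLR_char hP (Char.irr_isCharacter χ.2) g) (Char.memLR_inv_natCast hM hnp))
  · have hC : ¬ p ∣ (Subgroup.centralizer ({g} : Set G)).index := by
      rwa [← Char.card_conjClass_eq_index]
    set C := Subgroup.centralizer ({g} : Set G)
    let S : Sylow p C := default
    have hS : ¬ p ∣ ((S : Subgroup C).map C.subtype).index := by
      rw [Subgroup.index_map_subtype, hp.dvd_mul]
      exact fun h => h.elim S.not_dvd_index hC
    obtain ⟨Q, hQ⟩ := (S.isPGroup'.map C.subtype).exists_le_sylow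
    have heq : (Q : Subgroup G) = (S : Subgroup C).map C.subtype := by
      by_contra hne
      have hlt := lt_of_le_of_ne hQ (Ne.symm hne)
      refine hS ?_
      obtain ⟨k, hk'⟩ := IsPGroup.iff_card.mp Q.isPGroup'
      obtain ⟨j, hj, hj'⟩ := (Nat.dvd_prime_pow hp).mp
        (hk' ▸ Subgroup.relIndex_dvd_card ((S : Subgroup C).map C.subtype) (Q : Subgroup G))
      have hne1 : ((S : Subgroup C).map C.subtype).relIndex (Q : Subgroup G) ≠ 1 := fun h1 =>
        hlt.not_ge (Subgroup.relIndex_eq_one.mp h1)
      exact (hj' ▸ dvd_pow_self p (fun h => hne1 (by rw [hj', h, pow_zero]))).trans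
        (Subgroup.relIndex_dvd_index_of_le hQ)
    obtain ⟨x, hx⟩ := MulAction.exists_smul_eq G Q P
    have hgN : x * g * x⁻¹ ∈ N := by
      refine hC_orig ?_
      intro u hu
      have hu' : x⁻¹ * u * x ∈ (Q : Subgroup G) := by
        rw [← hx] at hu
        obtain ⟨q, hq, rfl⟩ := hu
        show _ ∈ (Q : Subgroup G)
        convert hq using 1
        simp [mul_assoc]; exact Iff.rfl
      rw [heq] at hu'
      have hc := Subgroup.mem_centralizer_singleton_iff.mp (Subgroup.map_subtype_le _ hu')
      calc u * (x * g * x⁻¹) = x * ((x⁻¹ * u * x) * g) * x⁻¹ := by group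
        _ = x * (g * (x⁻¹ * u * x)) * x⁻¹ := by rw [hc]
        _ = x * g * x⁻¹ * u := by group
    rw [← Char.isClassFunction_character (Char.irr_isCharacter χ.2) g x, hker _ hgN, hn,
      mul_div_assoc, div_self (by rw [← hn]; exact Char.irr_one_ne_zero χ.2), mul_one, sub_self]
    exact Char.memLI_zero hP

end Cfsg.Agent.S4626
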