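import Cfsg.Statements.S4633
import Cfsg.Agent.Lib.Char.KleinFourBlock
import Cfsg.Agent.Lib.Char.FirstMain
import Cfsg.Agent.Lib.Char.SubsectionOrbits
import Cfsg.Agent.Lib.Perm.PByCyclic

set_option autoImplicit false
open Cfsg
open scoped ComplexConjugate

namespace Cfsg.Agent.S4633

/-- Let B be a block of the finite group G relative to a maximal ideal M of the algebraic integers containing the prime p, with a nontrivial cyclic defect group P. Let c be a block of C_G(P) inducing B and T the stabilizer of c in N_G(P) (the elements of N_G(P) conjugating c to itself); T contains C_G(P). Then T/C_G(P) is cyclic of order dividing p − 1, and it acts freely on the non-identity elements of P: an element of T fixing some non-identity element of P under conjugation lies in C_G(P). -/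
theorem result {G : Type*} [Group G] [Finite G] (p : ℕ) [Fact p.Prime] (M : Ideal Cfsg.AlgInt) (hM : Cfsg.IsPModular p M) (B : Set (Cfsg.IrrCharacter G)) (hB : Cfsg.IsPBlock M B) (P : Subgroup G) (hPD : Cfsg.IsDefectGroup p M B P) (hP1 : P ≠ ⊥) (hcyc : IsCyclic P) (c : Set (Cfsg.IrrCharacter (Subgroup.centralizer (P : Set G)))) (hc : Cfsg.IsInducedBlock M (Subgroup.centralizer (P : Set G)) c B) (T : Subgroup G) (hT : ∀ g : G, g ∈ T ↔ (g ∈ Subgroup.normalizer (P : Set G) ∧ Cfsg.StabilizesBlock (Subgroup.centralizer (P : Set G)) c g)) [hn : ((Subgroup.centralizer (P : Set G)).subgroupOf T).Normal] : IsCyclic (T ⧸ (Subgroup.centralizer (P : Set G)).subgroupOf T) ∧ (Subgroup.centralizer (P : Set G)).relIndex T ∣ p - 1 ∧ ∀ g ∈ T, ∀ x ∈ P, x ≠ 1 → g * x * g⁻¹ = x → g ∈ Subgroup.centralizer (P : Set G) := by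
  classical
  haveI := Fintype.ofFinite G
  have hp : p.Prime := Fact.out
  have hMp := Cfsg.Agent.Char.pmod_prime hM
  have hpair := Cfsg.Agent.Char.SubsectionOrbits.pair_of_induced hM (by
    obtain ⟨g0, -, S, rfl⟩ := hPD; exact S.isPGroup'.map _) hc
  have hmax := Cfsg.Agent.Char.maximal_of_defect hM hPD hpair
  have hTS : T = Cfsg.Agent.Char.pairStab hMp hmax.1.1.2 := by
    ext g
    rw [hT, Cfsg.Agent.Char.mem_pairStab]
  set C := Subgroup.centralizer (P : Set G) with hC
  haveI := hcyc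
  obtain ⟨s0, hs0⟩ := IsCyclic.exists_generator (α := P)
  have hPs : P = Subgroup.zpowers (s0 : G) := by
    refine le_antisymm (fun x hx => ?_) (Subgroup.zpowers_le.2 s0.2)
    obtain ⟨k, hk⟩ := Subgroup.mem_zpowers_iff.1 (hs0 ⟨x, hx⟩)
    exact ⟨k, by simpa using congrArg Subtype.val hk⟩
  generalize hs : (s0 : G) = s at hPs
  obtain ⟨n, hn'⟩ := IsPGroup.iff_card.mp hmax.1.1.1
  obtain ⟨j, rfl⟩ : ∃ j, n = j + 1 := ⟨n - 1, by
    have : n ≠ 0 := by rintro rfl; exact hP1 (Subgroup.card_eq_one.1 (by simpa using hn'))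
    omega⟩
  have hso : orderOf s = p ^ (j + 1) := by rw [← Nat.card_zpowers, ← hPs, hn']
  set z := s ^ p ^ j with hz
  have hzo : orderOf z = p := by
    rw [hz, orderOf_pow_of_dvd (pow_ne_zero _ hp.ne_zero) (hso ▸ pow_dvd_pow p (by omega)), hso,
      pow_succ, Nat.mul_div_cancel_left _ (pow_pos hp.pos _)]
  set Z := Subgroup.zpowers z with hZ
  have hZP : Z ≤ P := Subgroup.zpowers_le.2 (hPs ▸ Subgroup.pow_mem _ (Subgroup.mem_zpowers s) _)
  have hab : ∀ x ∈ P, ∀ y ∈ P, x * y = y * x := fun x hx y hy =>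
    congrArg Subtype.val (mul_comm' (⟨x, hx⟩ : P) ⟨y, hy⟩)
  have hr := Cfsg.Agent.Char.KleinBlock.inertial_prime hM hmax hab
  rw [← hTS] at hr
  have hrel : ¬ p ∣ C.relIndex T := fun h => by
    have := hp.factorization_pos_of_dvd Subgroup.index_ne_zero_of_finite h
    rw [show (C.subgroupOf T).index = C.relIndex T from rfl, show (C.relIndex T).factorization p = 0 from hr] at this
    exact lt_irrefl 0 this
  have hkey : ∀ g ∈ T, Commute g z → g ∈ C := by
    intro g hg hgz
    have hgn := ((hT g).1 hg).1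
    obtain ⟨a, m, hm, ha⟩ := Nat.exists_eq_pow_mul_and_not_dvd (orderOf_pos g).ne' p hp.ne_one
    have hy : ¬ p ∣ orderOf (g ^ p ^ a) := by
      rwa [orderOf_pow_of_dvd (pow_ne_zero _ hp.ne_zero) ⟨m, ha⟩, ha,
        Nat.mul_div_cancel_left _ (pow_pos hp.pos _)]
    have hym : g ^ p ^ a * s * (g ^ p ^ a)⁻¹ ∈ Subgroup.zpowers s := by
      rw [← hPs]
      exact (Subgroup.mem_normalizer_iff.1 (pow_mem hgn (p ^ a)) s).1 (hPs ▸ Subgroup.mem_zpowers s)
    have hcs := Cfsg.Agent.Perm.PByCyclic.commute_of_fix hso hy hym (hgz.pow_left _)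
    have hyC : g ^ p ^ a ∈ C := by
      rw [hC, Subgroup.mem_centralizer_iff]
      intro x hx
      rw [SetLike.mem_coe, hPs, Subgroup.mem_zpowers_iff] at hx
      obtain ⟨k, rfl⟩ := hx
      exact (hcs.zpow_right k).eq.symm
    have h1 : ((⟨g, hg⟩ : T) : T ⧸ C.subgroupOf T) ^ p ^ a = 1 := by
      rw [← QuotientGroup.mk_pow, QuotientGroup.eq_one_iff]; exact hyC
    have h2 : ((⟨g, hg⟩ : T) : T ⧸ C.subgroupOf T) ^ C.relIndex T = 1 :=
      pow_card_eq_one' (G := T ⧸ C.subgroupOf T)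
    have h3 := pow_gcd_eq_one.mpr ⟨h1, h2⟩
    rwa [Nat.Coprime.gcd_eq_one (Nat.Coprime.pow_left a (hp.coprime_iff_not_dvd.2 hrel)), pow_one,
      QuotientGroup.eq_one_iff] at h3
  have hnorm : ∀ g ∈ T, g ∈ Subgroup.normalizer (Z : Set G) := by
    have key : ∀ g ∈ T, ∀ x ∈ Z, g * x * g⁻¹ ∈ Z := by
      intro g hg x hx
      obtain ⟨k, rfl⟩ := Subgroup.mem_zpowers_iff.1 hx
      have h1 : g * s * g⁻¹ ∈ Subgroup.zpowers s := hPs ▸
        (Subgroup.mem_normalizer_iff.1 ((hT g).1 hg).1 s).1 (hPs ▸ Subgroup.mem_zpowers s)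
      obtain ⟨l, hl⟩ := Subgroup.mem_zpowers_iff.1 h1
      refine Subgroup.mem_zpowers_iff.2 ⟨l * k, ?_⟩
      rw [hz, ← zpow_natCast, ← zpow_mul, ← zpow_mul, ← conj_zpow, ← hl, ← zpow_mul]
      congr 1; ring
    intro g hg
    rw [Subgroup.mem_normalizer_iff]
    refine fun x => ⟨key g hg x, fun hx => ?_⟩
    have := key g⁻¹ (inv_mem hg) _ hx
    simpa [mul_assoc] using this
  let σ0 : T →* MulAut Z := Subgroup.normalizerMonoidHom Z |>.comp (Subgroup.inclusion hnorm)
  haveI : IsCyclic Z := inferInstance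
  haveI : NeZero p := ⟨hp.ne_zero⟩
  let e : MulAut Z ≃* (ZMod p)ˣ := (IsCyclic.mulAutMulEquiv Z).trans
    (Units.mapEquiv (ZMod.ringEquivCongr (by rw [hZ, Nat.card_zpowers, hzo])).toMulEquiv)
  let σ : T →* (ZMod p)ˣ := e.toMonoidHom.comp σ0
  have hker : σ.ker = C.subgroupOf T := by
    ext t
    rw [MonoidHom.mem_ker, Subgroup.mem_subgroupOf]
    constructor
    · intro h
      have h0 : σ0 t = 1 := e.injective (by rw [map_one]; exact h)
      refine hkey _ t.2 (mul_inv_eq_iff_eq_mul.1 ?_)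
      exact congrArg Subtype.val (DFunLike.congr_fun h0 ⟨z, Subgroup.mem_zpowers z⟩)
    · intro h
      have h0 : σ0 t = 1 := by
        ext ⟨x, hx⟩
        show (t : G) * x * (t : G)⁻¹ = x
        rw [← Subgroup.mem_centralizer_iff.1 h x (hZP hx), mul_inv_cancel_right]
      show e (σ0 t) = 1
      rw [h0, map_one]
  let i : T ⧸ C.subgroupOf T →* (ZMod p)ˣ := (QuotientGroup.kerLift σ).comp
    (QuotientGroup.quotientMulEquivOfEq hker.symm).toMonoidHom
  have hi : Function.Injective i :=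
    (QuotientGroup.kerLift_injective σ).comp (MulEquiv.injective _)
  refine ⟨isCyclic_of_injective i hi, ?_, fun g hg x hx hx1 hgx => ?_⟩
  · have h1 := Subgroup.card_subgroup_dvd_card σ.range
    rw [← Subgroup.index_ker, hker, Nat.card_units, Nat.card_eq_fintype_card, ZMod.card] at h1
    exact h1
  · refine hkey g hg ?_
    have hxc : Commute g x := mul_inv_eq_iff_eq_mul.1 hgx
    rw [hPs, Subgroup.mem_zpowers_iff] at hx
    obtain ⟨k, rfl⟩ := hx
    have hzmem : z ∈ Subgroup.zpowers (s ^ k) := by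
      have hd : orderOf (s ^ k) ∣ p ^ (j + 1) := by
        rw [← hso, orderOf_dvd_iff_pow_eq_one, ← zpow_natCast, ← zpow_mul, mul_comm, zpow_mul,
          zpow_natCast, pow_orderOf_eq_one, one_zpow]
      obtain ⟨i, hi, hi'⟩ := (Nat.dvd_prime_pow hp).1 hd
      obtain ⟨i', rfl⟩ : ∃ i', i = i' + 1 := ⟨i - 1, by
        have : i ≠ 0 := by rintro rfl; exact hx1 (orderOf_eq_one_iff.1 (by simpa using hi'))
        omega⟩
      set w := (s ^ k) ^ p ^ i' with hw
      have hwo : orderOf w = p := by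
        rw [hw, orderOf_pow_of_dvd (pow_ne_zero _ hp.ne_zero) (hi' ▸ pow_dvd_pow p (by omega)), hi',
          pow_succ, Nat.mul_div_cancel_left _ (pow_pos hp.pos _)]
      have hle : Subgroup.zpowers w = Z := by
        have hwP : w ∈ P := hPs ▸ pow_mem (zpow_mem (Subgroup.mem_zpowers s) k) _
        obtain ⟨l, hl⟩ := Subgroup.mem_zpowers_iff.1 (hPs ▸ hwP)
        have h1 : ((p ^ j : ℕ) : ℤ) ∣ l := by
          have h2 : s ^ (l * p) = 1 := by
            rw [zpow_mul, hl, zpow_natCast, ← hwo, pow_orderOf_eq_one]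
          have h3 := orderOf_dvd_iff_zpow_eq_one.2 h2
          rw [hso, pow_succ] at h3
          push_cast at h3 ⊢
          exact (mul_dvd_mul_iff_right (by exact_mod_cast hp.ne_zero)).1 h3
        obtain ⟨t, rfl⟩ := h1
        refine Subgroup.eq_of_le_of_card_ge (Subgroup.zpowers_le.2 ⟨t, ?_⟩)
          (by rw [hZ, Nat.card_zpowers, Nat.card_zpowers, hwo, hzo])
        show z ^ t = w
        rw [← hl, hz, ← zpow_natCast, ← zpow_mul]
      have hzw : z ∈ Subgroup.zpowers w := by rw [hle, hZ]; exact Subgroup.mem_zpowers z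
      exact Subgroup.zpowers_le.2 (pow_mem (Subgroup.mem_zpowers _) _) hzw
    obtain ⟨m, hm⟩ := Subgroup.mem_zpowers_iff.1 hzmem
    exact hm ▸ hxc.zpow_right m

end Cfsg.Agent.S4633
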