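import Cfsg.Statements.S4634
import Cfsg.Agent.Lib.Char.CyclicFrobenius

set_option autoImplicit false
open Cfsg
open Cfsg Cfsg.Agent

namespace Cfsg.Agent.S4634

/-- Let B be a block of the finite group G relative to a maximal ideal M of the algebraic integers containing the prime p, with a nontrivial cyclic defect group P, let c be a block of C_G(P) inducing B, T the stabilizer of c in N_G(P) and e the index of C_G(P) in T. Let F be any finite group of order #P · e having a cyclic subgroup Q of order #P that is its own centralizer (F is then the semidirect product of Q by a cyclic group of order e acting faithfully). Then there is a perfect isometry from the set of all irreducible characters of F onto B whose signs agree on all the characters of F that do not contain Q in their kernel. -/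
theorem result {G : Type*} [Group G] [Finite G] (p : ℕ) [Fact p.Prime] (M : Ideal Cfsg.AlgInt) (hM : Cfsg.IsPModular p M) (B : Set (Cfsg.IrrCharacter G)) (hB : Cfsg.IsPBlock M B) (P : Subgroup G) (hPD : Cfsg.IsDefectGroup p M B P) (hP1 : P ≠ ⊥) (hcyc : IsCyclic P) (c : Set (Cfsg.IrrCharacter (Subgroup.centralizer (P : Set G)))) (hc : Cfsg.IsInducedBlock M (Subgroup.centralizer (P : Set G)) c B) (T : Subgroup G) (hT : ∀ g : G, g ∈ T ↔ (g ∈ Subgroup.normalizer (P : Set G) ∧ Cfsg.StabilizesBlock (Subgroup.centralizer (P : Set G)) c g)) (e : ℕ) (he : (Subgroup.centralizer (P : Set G)).relIndex T = e) (F : Type*) [Group F] [Finite F] (hF : Nat.card F = Nat.card P * e) (Q : Subgroup F) (hQ : IsCyclic Q) (hQcard : Nat.card Q = Nat.card P) (hQC : Subgroup.centralizer (Q : Set F) = Q) : ∃ (I : Cfsg.IrrCharacter F → Cfsg.IrrCharacter G) (ε : Cfsg.IrrCharacter F → ℤ), Cfsg.IsPerfectIsometry p M (Set.univ : Set (Cfsg.IrrCharacter F)) B I ε ∧ ∀ η η' : Cfsg.IrrCharacter F, (∃ x ∈ Q, (η : F → ℂ) x ≠ (η : F → ℂ) 1) → (∃ x ∈ Q, (η'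 : F → ℂ) x ≠ (η' : F → ℂ) 1) → ε η = ε η' := by
  classical
  haveI := Fintype.ofFinite G
  haveI := Fintype.ofFinite F
  obtain ⟨a, ha⟩ := (IsPGroup.iff_card (p := p)).mp (show IsPGroup p P by
    obtain ⟨y, -, hy⟩ := (Char.isDefectGroup_iff B P).mp hPD
    exact hy.isPGroup)
  have ha1 : 1 ≤ a := by
    rcases Nat.eq_zero_or_pos a with h | h
    · exact absurd (Subgroup.card_eq_one.mp (by rw [ha, h, pow_zero])) hP1
    · exact h
  have hpg : IsPGroup p P := IsPGroup.of_card ha
  have hmax := Char.maximal_of_defect hM hPD (Char.SubsectionOrbits.pair_of_induced hM hpg hc)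
  obtain rfl : T = Char.pairStab (Char.pmod_prime hM) hmax.1.1.2 := by
    ext g
    rw [hT, Char.mem_pairStab]
  obtain ⟨σ, hσ, hord⟩ := Char.CyclicRank.exists_gen hcyc ha
  have hdvd : e ∣ p - 1 := he ▸ Char.CyclicStructure.index_dvd hM hmax hσ ha1 hord
  have h : Char.CyclicFrobenius.Frob p a e Q :=
    ⟨hM.1, hQ, hQcard.trans ha, ha1, by rw [hF, ha], hQC, hdvd⟩
  exact Char.CyclicFrobenius.isometry hM hmax hσ ha1 hord he h

end Cfsg.Agent.S4634
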