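import Cfsg.Statements.S4636
import Mathlib

set_option autoImplicit false
open scoped Pointwise
open Cfsg

namespace Cfsg.Agent.S4636

/-- Let P be a nontrivial cyclic p-subgroup of the finite group G and Z its subgroup of order p. For every x outside N_G(Z), P meets its conjugate xPx⁻¹ trivially; consequently N_G(Q) ≤ N_G(Z) for every nontrivial subgroup Q of P. -/
theorem result {G : Type*} [Group G] [Finite G] (p : ℕ) [Fact p.Prime] (P : Subgroup G) (hP : IsPGroup p P) (hP1 : P ≠ ⊥) (hcyc : IsCyclic P) (Z : Subgroup G) (hZ : Z ≤ P) (hZcard : Nat.card Z = p) : (∀ x : G, x ∉ Subgroup.normalizer (Z : Set G) → P ⊓ MulAut.conj x • P = ⊥) ∧ ∀ Q : Subgroup G, Q ≤ P → Q ≠ ⊥ → Subgroup.normalizer (Q : Set G) ≤ Subgroup.normalizer (Z : Set G) := by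
  classical
  haveI := hcyc
  haveI := Fintype.ofFinite P
  -- the elements of `P` killed by `p` all lie in `Z`
  have hsm : ∀ u : G, u ∈ P → u ^ p = 1 → u ∈ Z := by
    intro u hu hup
    let S : Finset P := Finset.univ.filter (fun a : P => a ^ p = 1)
    let T : Finset P := Finset.univ.filter (fun a : P => (a : G) ∈ Z)
    have hTS : T ⊆ S := by
      intro a ha
      simp only [T, S, Finset.mem_filter, Finset.mem_univ, true_and] at ha ⊢
      have : (⟨(a : G), ha⟩ : Z) ^ p = 1 := by rw [← hZcard]; exact pow_card_eq_one'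
      exact Subtype.ext (by simpa using congrArg Subtype.val this)
    have hTc : T.card = p := by
      rw [← hZcard, ← Nat.card_congr (Subgroup.subgroupOfEquivOfLe hZ).toEquiv, Nat.card_eq_fintype_card,
        Fintype.card_subtype]
      rfl
    have hSc : S.card ≤ T.card := by
      rw [hTc]
      exact IsCyclic.card_pow_eq_one_le (Fact.out : p.Prime).pos
    have := Finset.eq_of_subset_of_card_le hTS hSc
    have hmem : (⟨u, hu⟩ : P) ∈ S := by
      simp only [S, Finset.mem_filter, Finset.mem_univ, true_and]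
      exact Subtype.ext (by simpa using hup)
    rw [← this] at hmem
    simpa [T] using hmem
  have hne : ∀ K : Subgroup G, K ≤ P → K ≠ ⊥ → Z ≤ K := by
    intro K hKP hK
    have hKp : IsPGroup p K := hP.to_le hKP
    obtain ⟨k, hk⟩ := IsPGroup.iff_card.1 hKp
    have hk0 : k ≠ 0 := by
      rintro rfl
      exact hK (Subgroup.card_eq_one.1 (by simpa using hk))
    obtain ⟨u, hu⟩ := exists_prime_orderOf_dvd_card' (G := K) p (by rw [hk]; exact dvd_pow_self p hk0)
    have hu' : orderOf (u : G) = p := by rw [Subgroup.orderOf_coe, hu]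
    have huZ : (u : G) ∈ Z := hsm u (hKP u.2) (hu' ▸ pow_orderOf_eq_one (u : G))
    have he : Subgroup.zpowers (u : G) = Z :=
      Subgroup.eq_of_le_of_card_ge (Subgroup.zpowers_le.2 huZ)
        (by rw [Nat.card_zpowers, hu', hZcard])
    rw [← he, Subgroup.zpowers_le]
    exact u.2
  have hZbot : Z ≠ ⊥ := by
    intro h; rw [h, Subgroup.card_bot] at hZcard
    exact (Fact.out : p.Prime).ne_one hZcard.symm
  have norm_of : ∀ x : G, (∀ z ∈ Z, x * z * x⁻¹ ∈ Z) → x ∈ Subgroup.normalizer (Z : Set G) := by
    intro x h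
    exact Subgroup.mem_normalizer_fintype h
  constructor
  · intro x hx
    by_contra hb
    apply hx
    apply norm_of
    intro z hz
    have h1 : Z ≤ P ⊓ MulAut.conj x • P := hne _ inf_le_left hb
    have h2 : x * z * x⁻¹ ∈ MulAut.conj x • Z := by
      simpa [MulAut.smul_def] using Subgroup.smul_mem_pointwise_smul z (MulAut.conj x) Z hz
    have hle : Z ≤ MulAut.conj x • Z := by
      intro w hw
      have hw2 : w ∈ MulAut.conj x • P := (h1 hw).2
      rw [Subgroup.mem_pointwise_smul_iff_inv_smul_mem] at hw2 ⊢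
      refine hsm _ hw2 ?_
      rw [← smul_pow']
      have : (⟨w, hw⟩ : Z) ^ p = 1 := by rw [← hZcard]; exact pow_card_eq_one'
      have h4 : w ^ p = 1 := by simpa using congrArg Subtype.val this
      rw [h4, smul_one]
    have heq : Z = MulAut.conj x • Z := Subgroup.eq_of_le_of_card_ge hle (by
      rw [Nat.card_congr (Subgroup.equivSMul (MulAut.conj x) Z).toEquiv])
    rw [heq]; exact h2
  · intro Q hQP hQ x hx
    apply norm_of
    intro z hz
    have hzQ : x * z * x⁻¹ ∈ Q := (Subgroup.mem_normalizer_iff.1 hx z).1 (hne Q hQP hQ hz)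
    refine hsm _ (hQP hzQ) ?_
    have : (⟨z, hz⟩ : Z) ^ p = 1 := by rw [← hZcard]; exact pow_card_eq_one'
    have h4 : z ^ p = 1 := by simpa using congrArg Subtype.val this
    rw [conj_pow, h4]; group

end Cfsg.Agent.S4636
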