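import Cfsg.Statements.S4638
import Cfsg.Agent.Lib.Char.KleinIsometry

set_option autoImplicit false
open Cfsg
open Cfsg Cfsg.Agent

namespace Cfsg.Agent.S4638

/-- Let B be a block of the finite group G relative to a maximal ideal M of the algebraic integers containing 2, with a Klein four defect group P, and let c be its Brauer correspondent: the block of N_G(P) with defect group P that induces B. Then there is a perfect isometry from c onto B. -/
theorem result {G : Type*} [Group G] [Finite G] (M : Ideal Cfsg.AlgInt) (hM : Cfsg.IsPModular 2 M) (B : Set (Cfsg.IrrCharacter G)) (hB : Cfsg.IsPBlock M B) (P : Subgroup G) (hPD : Cfsg.IsDefectGroup 2 M B P) (hV : IsKleinFour P) (c : Set (Cfsg.IrrCharacter (Subgroup.normalizer (P : Set G)))) (hcD : Cfsg.IsDefectGroup 2 M c (P.subgroupOf (Subgroup.normalizer (P : Set G)))) (hc : Cfsg.IsInducedBlock M (Subgroup.normalizer (P : Set G)) c B) : ∃ (I : Cfsg.IrrCharacter (Subgroup.normalizer (P : Set G)) → Cfsg.IrrCharacter G) (ε : Cfsg.IrrCharacter (Subgroup.normalizer (P : Set G)) → ℤ), Cfsg.IsPerfectIsometry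 2 M c B I ε := by
  classical
  haveI := Fintype.ofFinite G
  haveI := Fintype.ofFinite (Subgroup.normalizer (P : Set G))
  haveI : Fact (Nat.Prime 2) := ⟨Nat.prime_two⟩
  have hmap : (P.subgroupOf (Subgroup.normalizer (P : Set G))).map (Subgroup.normalizer (P : Set G)).subtype = P :=
    Subgroup.map_subgroupOf_eq_of_le Subgroup.le_normalizer
  have hN' : Subgroup.normalizer (((P.subgroupOf (Subgroup.normalizer (P : Set G))).map
      (Subgroup.normalizer (P : Set G)).subtype : Subgroup G) : Set G) ≤ Subgroup.normalizer (P : Set G) := by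
    rw [hmap]
  obtain ⟨e0, he0⟩ := Char.exists_pair_of_le_defect hM hc.1 hcD le_rfl
  have hmaxH := Char.maximal_of_defect hM hcD he0
  have hmaxG := Char.maximal_of_defect (P := (P.subgroupOf (Subgroup.normalizer (P : Set G))).map
    (Subgroup.normalizer (P : Set G)).subtype) hM (by rw [hmap]; exact hPD)
    (Char.pairOf_of_induced hM hc ((Subgroup.centralizer_le_normalizer _).trans hN') he0)
  haveI := hV
  haveI hVH : IsKleinFour (P.subgroupOf (Subgroup.normalizer (P : Set G))) := by
    have ε := Subgroup.subgroupOfEquivOfLe (Subgroup.le_normalizer (H := P))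
    exact ⟨(Nat.card_congr ε.toEquiv).trans hV.card_four, (Monoid.exponent_eq_of_mulEquiv ε).trans hV.exponent_two⟩
  haveI hVG : IsKleinFour ((P.subgroupOf (Subgroup.normalizer (P : Set G))).map
      (Subgroup.normalizer (P : Set G)).subtype) := by
    rw [hmap]; exact hV
  have heq := Char.CyclicCorrespondent.relIndex_lift hM hN' hmaxH.1.1.2
  obtain ⟨e, he⟩ : ∃ e, (Subgroup.centralizer ((P.subgroupOf (Subgroup.normalizer (P : Set G)) :
      Subgroup (Subgroup.normalizer (P : Set G))) : Set (Subgroup.normalizer (P : Set G)))).relIndex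
      (Char.pairStab (Char.pmod_prime hM) hmaxH.1.1.2) = e := ⟨_, rfl⟩
  obtain ⟨he13, h4H, -⟩ := S4637.result M hM c hc.1 _ hcD hVH _
    (Char.CentralPairs.induced_of_pair hM
      (Char.BelowData.le_centralizer Char.KleinIsometry.comm_of_klein le_rfl) he0)
    _ (fun g => Char.mem_pairStab _ hmaxH.1.1.2) e he
  obtain ⟨-, h4G, -⟩ := S4637.result M hM B hB _ (by rw [hmap]; exact hPD) hVG _
    (Char.CentralPairs.induced_of_pair hM
      (Char.BelowData.le_centralizer Char.KleinIsometry.comm_of_klein le_rfl) hmaxG.1)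
    _ (fun g => Char.mem_pairStab _ hmaxG.1.1.2) e (heq.trans he)
  exact Char.KleinIsometry.between hM hmaxG he13 (heq.trans he) h4G hmaxH he h4H

end Cfsg.Agent.S4638
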