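import Cfsg.Statements.S4639
import Cfsg.Agent.Lib.Char.StarCount
import Cfsg.Agent.Lib.Char.PrimeDefectRank

set_option autoImplicit false
open Cfsg
open Cfsg.Agent

namespace Cfsg.Agent.S4639

/-- Let B be a block of the finite group G relative to a maximal ideal M of the algebraic integers containing the prime p, with a nontrivial commutative defect group P. Let c be a block of C_G(P) inducing B, T the stabilizer of c in N_G(P) and e the index of C_G(P) in T. Suppose that T/C_G(P) is commutative (all commutators of elements of T lie in C_G(P)) and acts freely on the non-identity elements of P (an element of T fixing a non-identity element of P under conjugation lies in C_G(P)). Then B has at most e + (#P − 1)/e irreducible characters and p-regular rank at most e; equality holds in the first bound exactly when it holds in the second; and both equalities hold when e ≤ 3. -/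
theorem result {G : Type*} [Group G] [Finite G] (p : ℕ) [Fact p.Prime] (M : Ideal Cfsg.AlgInt) (hM : Cfsg.IsPModular p M) (B : Set (Cfsg.IrrCharacter G)) (hB : Cfsg.IsPBlock M B) (P : Subgroup G) (hPD : Cfsg.IsDefectGroup p M B P) (hP1 : P ≠ ⊥) (hPab : ∀ x ∈ P, ∀ y ∈ P, x * y = y * x) (c : Set (Cfsg.IrrCharacter (Subgroup.centralizer (P : Set G)))) (hc : Cfsg.IsInducedBlock M (Subgroup.centralizer (P : Set G)) c B) (T : Subgroup G) (hT : ∀ g : G, g ∈ T ↔ (g ∈ Subgroup.normalizer (P : Set G) ∧ Cfsg.StabilizesBlock (Subgroup.centralizer (P : Set G)) c g)) (e : ℕ) (he : (Subgroup.centralizer (P : Set G)).relIndex T = e) (hEab : ∀ g ∈ T, ∀ h ∈ T, g * h * g⁻¹ * h⁻¹ ∈ Subgroup.centralizer (P : Set G)) (hfree : ∀ g ∈ T, ∀ x ∈ P, x ≠ 1 → g * x * g⁻¹ = x → g ∈ Subgroup.centralizer (P : Set G)) : Nat.card B ≤ e + (Nat.card P - 1) / e ∧ Cfsg.blockRank p B ≤ e ∧ (Nat.card B = e + (Nat.card P - 1) / e ↔ Cfsg.blockRank p B = e) ∧ (e ≤ 3 → Nat.card B = e + (Nat.card P - 1) / e ∧ Cfsg.blockRank p B = e) := by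
  classical
  haveI := Fintype.ofFinite G
  have hMp := Char.pmod_prime hM
  have hpg : IsPGroup p P := IsPGroup.of_card (Char.card_defectGroup hM hB hPD)
  have hpair := Char.SubsectionOrbits.pair_of_induced hM hpg hc
  have hmax := Char.maximal_of_defect hM hPD hpair
  have hTS : T = Char.pairStab hMp hmax.1.1.2 := by
    ext g
    rw [hT, Char.mem_pairStab]
  subst hTS
  obtain ⟨h1, h2, h3, h4⟩ := Char.StarCount.counts hM hmax hPab hfree hP1 e he
  refine ⟨h1, h2, h3, fun he3 => ?_⟩
  have hl : blockRank p B = e := by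
    rcases h4 he3 with h | ⟨rfl, h13, hl1⟩
    · exact h
    · have hp13 : p = 13 := by
        obtain ⟨n, hn⟩ := IsPGroup.iff_card.mp hpg
        rw [h13] at hn
        have hn0 : n ≠ 0 := fun h => by rw [h] at hn; norm_num at hn
        have hdvd : p ∣ 13 := hn ▸ dvd_pow_self p hn0
        exact (Nat.prime_dvd_prime_iff_eq hM.1 (by norm_num)).mp hdvd
      have := Char.PrimeDefectRank.le_blockRank hM hmax (h13.trans hp13.symm)
      omega
  exact ⟨h3.mpr hl, hl⟩

end Cfsg.Agent.S4639
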