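import Cfsg.Statements.S4641
import Cfsg.Agent.Lib.Char.DecompLattice
import Cfsg.Agent.Lib.Char.BlockDim

set_option autoImplicit false
open Cfsg Cfsg.Agent.Char

namespace Cfsg.Agent.S4641

/-- Let B be a block of the finite group G relative to a maximal ideal M of the algebraic integers containing the prime p, let p^a be the p-part of the order of G and p^d the order of a defect group D of B, and let g be the greatest common divisor of the degrees of the members of B. Then the p-part of g is exactly p^(a−d), and writing g = p^(a−d)·u there is a positive integer v, prime to p and at least the p-regular rank of B (its number of irreducible Brauer characters), with Σ_{χ ∈ B} χ(1)² = p^(2a−d)·u²·v. -/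
theorem result {G : Type*} [Group G] [Finite G] (p : ℕ) [Fact p.Prime] (M : Ideal Cfsg.AlgInt) (hM : Cfsg.IsPModular p M) (B : Set (Cfsg.IrrCharacter G)) (hB : Cfsg.IsPBlock M B) (D : Subgroup G) (hD : Cfsg.IsDefectGroup p M B D) (a d : ℕ) (ha : (Nat.card G).factorization p = a) (hd : Nat.card D = p ^ d) (g : ℕ) (hg1 : ∀ χ ∈ B, g ∣ Cfsg.charDegree (χ : G → ℂ)) (hg2 : ∀ g' : ℕ, (∀ χ ∈ B, g' ∣ Cfsg.charDegree (χ : G → ℂ)) → g' ∣ g) : g.factorization p = a - d ∧ ∃ v : ℕ, 0 < v ∧ ¬ p ∣ v ∧ Cfsg.blockRank p B ≤ v ∧ ∑ᶠ χ ∈ B, Cfsg.charDegree (χ : G → ℂ) ^ 2 = p ^ (2 * a - d) * (g / p ^ (a - d)) ^ 2 * v := by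
  classical
  haveI := Fintype.ofFinite G
  have hp := hM.1
  have hP := pmod_prime hM
  have hne := block_nonempty hP hB
  have hcard := card_defectGroup hM hB hD
  have hdd : d = blockDefect p B := Nat.pow_right_injective hp.two_le (hd.symm.trans hcard)
  have hsum := dmin_add_defect (p := p) hne
  have hamin : a - d = dmin p B := by omega
  obtain ⟨χ0, hχ0, hd0⟩ := exists_dexp_eq_dmin (p := p) hne
  have hdeg0 : deg (χ0 : G → ℂ) ≠ 0 := (deg_pos χ0.2).ne'
  have hg1' : ∀ χ ∈ B, g ∣ deg (χ : G → ℂ) := fun χ hχ => by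
    have := hg1 χ hχ; rwa [charDegree_eq_deg] at this
  have hg0 : g ≠ 0 := fun h => hdeg0 (Nat.eq_zero_of_zero_dvd (h ▸ hg1' χ0 hχ0))
  have hpg : p ^ dmin p B ∣ g := hg2 _ fun χ hχ => by
    rw [charDegree_eq_deg]
    exact (pow_dvd_pow p (dmin_le hχ)).trans (Nat.ordProj_dvd _ _)
  have hfac : g.factorization p = dmin p B := by
    refine le_antisymm ?_ ((hp.pow_dvd_iff_le_factorization hg0).1 hpg)
    rw [← hd0]
    exact (Nat.factorization_le_iff_dvd hg0 hdeg0).2 (hg1' χ0 hχ0) p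
  refine ⟨hfac.trans hamin.symm, ?_⟩
  rw [hamin]
  set u := g / p ^ dmin p B with hu
  have hgu : p ^ dmin p B * u = g := Nat.mul_div_cancel' hpg
  have hu0 : u ≠ 0 := fun h => hg0 (by rw [← hgu, h, mul_zero])
  have hpu : ¬ p ∣ u := by
    have := Nat.not_dvd_ordCompl hp hg0
    rwa [hfac] at this
  have hS : ∑ᶠ χ ∈ B, charDegree (χ : G → ℂ) ^ 2 = ∑ χ ∈ bset B, deg (χ : G → ℂ) ^ 2 := by
    rw [finsum_mem_irr]
    exact Finset.sum_congr rfl fun χ _ => by rw [charDegree_eq_deg]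
  have hfS := factorization_sum_sq hM hB
  rw [ha, ← hdd] at hfS
  rw [hS] at hfS ⊢
  set S := ∑ χ ∈ bset B, deg (χ : G → ℂ) ^ 2 with hSdef
  have hS0 : 0 < S := lt_of_lt_of_le (pow_pos (Nat.pos_of_ne_zero hdeg0) 2)
    (Finset.single_le_sum (f := fun χ : Cfsg.IrrCharacter G => deg (χ : G → ℂ) ^ 2) (fun _ _ => Nat.zero_le _)
      (mem_bset.2 hχ0))
  obtain ⟨v, hv⟩ : p ^ (2 * a - d) * u ^ 2 ∣ S := by
    refine Nat.Coprime.mul_dvd_of_dvd_of_dvd
      ((hp.coprime_iff_not_dvd.2 fun h => hpu (hp.dvd_of_dvd_pow h)).pow_left _) ?_ ?_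
    · exact (hp.pow_dvd_iff_le_factorization hS0.ne').2 hfS.ge
    · refine (pow_dvd_pow_of_dvd (Dvd.intro_left _ hgu) 2).trans ?_
      exact Finset.dvd_sum fun χ hχ => pow_dvd_pow_of_dvd (hg1' χ (mem_bset.1 hχ)) 2
  have hv0 : 0 < v := by
    rcases Nat.eq_zero_or_pos v with h | h
    · rw [h, mul_zero] at hv; omega
    · exact h
  refine ⟨v, hv0, fun hpv => ?_, ?_, hv⟩
  · have h : p ^ (2 * a - d + 1) ∣ S := by
      rw [hv, pow_succ, mul_assoc]
      exact Nat.mul_dvd_mul_left _ (dvd_mul_of_dvd_right hpv _)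
    have := (hp.pow_dvd_iff_le_factorization hS0.ne').1 h
    omega
  · obtain ⟨m, dc, nn, J, hrank, hdeg, hdiv, hpos, hproj⟩ := DecompLattice.exists_block_lattice hM hB
    set Φ : Fin m → ℕ := fun j => ∑ χ ∈ bset B, dc j χ * deg (χ : G → ℂ) with hΦ
    have hsplit : S = ∑ j ∈ J, nn j * Φ j := by
      simp only [hΦ, Finset.mul_sum]
      rw [Finset.sum_comm, hSdef]
      refine Finset.sum_congr rfl fun χ hχ => ?_
      rw [pow_two]
      conv_lhs => arg 1; rw [hdeg χ (mem_bset.1 hχ)]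
      rw [Finset.sum_mul]
      exact Finset.sum_congr rfl fun j _ => by ring
    have hbd : ∀ j ∈ J, p ^ (2 * a - d) * u ^ 2 ≤ nn j * Φ j := by
      intro j hj
      obtain ⟨hΦ0, hΦp⟩ := hproj j hj
      rw [ha] at hΦp
      have h1 : p ^ a * u ∣ Φ j := by
        refine Nat.Coprime.mul_dvd_of_dvd_of_dvd ((hp.coprime_iff_not_dvd.2 hpu).pow_left _) hΦp ?_
        exact (Dvd.intro_left _ hgu).trans
          (Finset.dvd_sum fun χ hχ => (hg1' χ (mem_bset.1 hχ)).mul_left _)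
      have h2 : p ^ dmin p B * u ∣ nn j := hgu ▸ hdiv g hg1' j hj
      calc p ^ (2 * a - d) * u ^ 2 = p ^ dmin p B * u * (p ^ a * u) := by
            rw [show 2 * a - d = dmin p B + a by omega, pow_add]; ring
        _ ≤ nn j * Φ j := Nat.mul_le_mul (Nat.le_of_dvd (hpos j hj) h2) (Nat.le_of_dvd hΦ0 h1)
    have h3 := Finset.card_nsmul_le_sum J _ _ hbd
    rw [← hsplit, smul_eq_mul, hv, mul_comm] at h3
    exact hrank.trans (Nat.le_of_mul_le_mul_left h3 (Nat.mul_pos (pow_pos hp.pos _) (pow_pos (Nat.pos_of_ne_zero hu0) 2)))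

end Cfsg.Agent.S4641
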