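import Cfsg.Statements.S4642
import Cfsg.Agent.Lib.Char.OverInduce
import Cfsg.Agent.Lib.Fusion.PConstrained

set_option autoImplicit false
open Cfsg
open scoped ComplexConjugate

namespace Cfsg.Agent.S4642

/-- Let G be a finite group, p a prime, M a maximal ideal of the algebraic integers containing p, K the largest normal subgroup of G of order prime to p, and L the preimage in G of the largest normal p-subgroup of G/K. Let Q be a Sylow p-subgroup of L and suppose C_G(Q) ≤ L. Let θ be an irreducible character of K invariant under conjugation by every element of G, and let B be the set of irreducible characters of G whose restriction to K contains θ. Then B is a block of G, every Sylow p-subgroup of G is a defect group of B, and B is of principal type: for every p-subgroup R of G exactly one block of C_G(R) induces B. -/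
theorem result {G : Type*} [Group G] [Fintype G] (p : ℕ) [Fact p.Prime] (M : Ideal Cfsg.AlgInt) (hM : Cfsg.IsPModular p M) (K : Subgroup G) (hK : K = Cfsg.pPrimeCore p G) [Fintype K] (L : Subgroup G) (hL : L = Cfsg.pPrimePCore p G) (Q : Subgroup G) (hQL : Q ≤ L) (hQp : IsPGroup p Q) (hQS : ¬ p ∣ Q.relIndex L) (hCQ : Subgroup.centralizer (Q : Set G) ≤ L) (θ : Cfsg.IrrCharacter K) (hθ : ∀ g : G, Cfsg.IsConjCharOf K g (θ : K → ℂ) (θ : K → ℂ)) (B : Set (Cfsg.IrrCharacter G)) (hBdef : ∀ χ : Cfsg.IrrCharacter G, χ ∈ B ↔ Cfsg.classInner (fun k : K => (χ : G → ℂ) k) (θ : K → ℂ) ≠ 0) : Cfsg.IsPBlock M B ∧ (∀ S : Sylow p G, Cfsg.IsDefectGroup p M B S) ∧ ∀ R : Subgroup G, IsPGroup p R → ∃! f : Set (Cfsg.IrrCharacter (Subgroup.centralizer (R : Set G))), Cfsg.IsInducedBlock M (Subgroup.centralizer (R : Set G)) f B := by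
  subst hK hL
  have hp : p.Prime := Fact.out
  haveI : (Cfsg.pPrimePCore p G).Normal := Cfsg.Agent.Fusion.pPrimePCore_normal
  have hKd : ¬ p ∣ Nat.card ↥(Cfsg.pPrimeCore p G) := fun hd =>
    (Nat.Prime.dvd_iff_not_coprime hp).mp hd
      (Cfsg.Agent.Fusion.card_pPrimeCore_coprime p G).symm
  have hctx : Cfsg.Agent.Char.OverCtx p (Cfsg.pPrimeCore p G) (Cfsg.pPrimePCore p G) Q := by
    refine ⟨inferInstance, inferInstance, hKd, Cfsg.Agent.Fusion.pPrimeCore_le_pPrimePCore,
      ?_, hQL, hQp, fun x hx _ => hCQ hx⟩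
    obtain ⟨j, hj⟩ := IsPGroup.iff_card.mp
      (Cfsg.Agent.Fusion.isPGroup_pCore p (G ⧸ Cfsg.pPrimeCore p G))
    refine ⟨j, ?_⟩
    have h2 := Subgroup.relIndex_ker (f := QuotientGroup.mk' (Cfsg.pPrimeCore p G))
      (K := Cfsg.pPrimePCore p G)
    rw [QuotientGroup.ker_mk', Cfsg.Agent.Fusion.map_pPrimePCore] at h2
    rw [h2, hj]
  have hinv : ∀ (g : G) (n : ↥(Cfsg.pPrimeCore p G)),
      (θ : ↥(Cfsg.pPrimeCore p G) → ℂ) ⟨g * n * g⁻¹,
        hctx.normal.conj_mem n n.2 g⟩ = (θ : ↥(Cfsg.pPrimeCore p G) → ℂ) n :=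
    fun g n => hθ g n _ rfl
  obtain ⟨hB, hdef⟩ := hctx.isPBlock hM θ hinv B hBdef
  refine ⟨hB, hdef, fun R hR => ?_⟩
  refine Cfsg.Agent.Char.existsUnique_induced_over hM _ hKd θ
    (fun g n => hθ g n _ (MulAut.conjNormal_apply g n)) B hB hBdef R hR fun β hβ => ?_
  have := Fintype.ofFinite (Subgroup.centralizer (R : Set G))
  obtain ⟨Q', hctx'⟩ := hctx.centralizer hCQ hR
  have := Fintype.ofFinite ((Cfsg.pPrimeCore p G).subgroupOf (Subgroup.centralizer (R : Set G)))
  refine (hctx'.isPBlock hM β (fun g n => by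
    rw [← hβ g n]; exact congrArg _ (Subtype.ext rfl)) _ ?_).1
  exact fun _ => by convert Iff.rfl

end Cfsg.Agent.S4642
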