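import Cfsg.Statements.S4644
import Cfsg.Agent.Lib.Char.InertiaFixedMain

set_option autoImplicit false
open Cfsg
open Cfsg Cfsg.Agent

namespace Cfsg.Agent.S4644

/-- Let B be a block of the finite group G relative to a maximal ideal M of the algebraic integers containing the prime p, with a commutative defect group P; let c be a block of C_G(P) inducing B and T the stabilizer of c in N_G(P). Let u be an element of P fixed under conjugation by every element of T, H = C_G(u) (so C_G(P) ≤ H), and f the block of H induced by c inside H. Then B and f have the same p-regular rank and the same number of irreducible characters. -/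
theorem result {G : Type*} [Group G] [Finite G] (p : ℕ) [Fact p.Prime] (M : Ideal Cfsg.AlgInt) (hM : Cfsg.IsPModular p M) (B : Set (Cfsg.IrrCharacter G)) (hB : Cfsg.IsPBlock M B) (P : Subgroup G) (hPD : Cfsg.IsDefectGroup p M B P) (hPab : ∀ x ∈ P, ∀ y ∈ P, x * y = y * x) (c : Set (Cfsg.IrrCharacter (Subgroup.centralizer (P : Set G)))) (hc : Cfsg.IsInducedBlock M (Subgroup.centralizer (P : Set G)) c B) (T : Subgroup G) (hT : ∀ g : G, g ∈ T ↔ (g ∈ Subgroup.normalizer (P : Set G) ∧ Cfsg.StabilizesBlock (Subgroup.centralizer (P : Set G)) c g)) (u : G) (hu : u ∈ P) (huT : ∀ g ∈ T, g * u * g⁻¹ = u) (H : Subgroup G) (hH : H = Subgroup.centralizer ({u} : Set G)) (f : Set (Cfsg.IrrCharacter H)) (hf : Cfsg.IsInducedBlockIn M H (Subgroup.centralizer (P : Set G)) c f) : Cfsg.blockRank p B = Cfsg.blockRank p f ∧ Nat.card B = Nat.card f := by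
  classical
  haveI := Fintype.ofFinite G
  haveI := Fintype.ofFinite H
  have hMp := Char.pmod_prime hM
  have hpg : IsPGroup p P := IsPGroup.of_card (Char.card_defectGroup hM hB hPD)
  have hmax := Char.maximal_of_defect hM hPD (Char.SubsectionOrbits.pair_of_induced hM hpg hc)
  have hTS : T = Char.pairStab hMp hmax.1.1.2 := by
    ext g
    rw [hT, Char.mem_pairStab]
  subst hTS
  have hH' : H = Subgroup.centralizer (((⊥ : Subgroup G) ⊔ Subgroup.zpowers u : Subgroup G) : Set G) := by
    rw [hH, bot_sup_eq, Char.Star.centralizer_zp]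
  subst hH'
  obtain ⟨hr, hk⟩ := Char.InertiaFixed.counts_fixed hM hmax hPab _ ⊥ bot_le le_rfl u hu fun t ht => huT t ht.1
  have htop : Subgroup.centralizer ((⊥ : Subgroup G) : Set G) = ⊤ := by
    ext g
    simp [Subgroup.mem_centralizer_iff]
  haveI := Fintype.ofFinite (Subgroup.centralizer ((⊥ : Subgroup G) : Set G))
  obtain ⟨hr0, hk0⟩ := Char.InertiaFixed.top_counts (B := B) hM htop
    (Char.InertiaFixed.loc_spec hM hmax hPab bot_le) hc
  have hR : (⊥ : Subgroup G) ⊔ Subgroup.zpowers u ≤ P := sup_le bot_le (Subgroup.zpowers_le.mpr hu)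
  rw [Char.InertiaFixed.loc_unique hM hmax hPab hR hf]
  exact ⟨hr0.symm.trans hr, hk0.symm.trans hk⟩

end Cfsg.Agent.S4644
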