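import Cfsg.Statements.S4645
import Cfsg.Agent.Lib.Char.CyclicDefectFacts
import Cfsg.Agent.Lib.Char.InducedIn
import Cfsg.Agent.Lib.Char.StarNilpotent
import Cfsg.Agent.Lib.Char.BlockNilpotent
import Cfsg.Agent.Lib.Char.CyclicDefectSetting

set_option autoImplicit false
open Cfsg
open Cfsg Cfsg.Agent

namespace Cfsg.Agent.S4645

/-- Let B be a block of the finite group G relative to a maximal ideal M of the algebraic integers containing the prime p, with a nontrivial cyclic defect group P; let c be a block of C_G(P) inducing B and T the stabilizer of c in N_G(P). Let Q be a nontrivial subgroup of P (so C_G(P) ≤ C_G(Q)), f the block of C_G(Q) induced by c inside C_G(Q), and T' the stabilizer of f in N_G(Q). Then T' = T·C_G(Q), the index of C_G(Q) in T' equals the index of C_G(P) in T, f has p-regular rank 1, and f is a nilpotent block of C_G(Q). -/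
theorem result {G : Type*} [Group G] [Finite G] (p : ℕ) [Fact p.Prime] (M : Ideal Cfsg.AlgInt) (hM : Cfsg.IsPModular p M) (B : Set (Cfsg.IrrCharacter G)) (hB : Cfsg.IsPBlock M B) (P : Subgroup G) (hPD : Cfsg.IsDefectGroup p M B P) (hP1 : P ≠ ⊥) (hcyc : IsCyclic P) (c : Set (Cfsg.IrrCharacter (Subgroup.centralizer (P : Set G)))) (hc : Cfsg.IsInducedBlock M (Subgroup.centralizer (P : Set G)) c B) (T : Subgroup G) (hT : ∀ g : G, g ∈ T ↔ (g ∈ Subgroup.normalizer (P : Set G) ∧ Cfsg.StabilizesBlock (Subgroup.centralizer (P : Set G)) c g)) (Q : Subgroup G) (hQP : Q ≤ P) (hQ1 : Q ≠ ⊥) (f : Set (Cfsg.IrrCharacter (Subgroup.centralizer (Q : Set G)))) (hf : Cfsg.IsInducedBlockIn M (Subgroup.centralizer (Q : Set G)) (Subgroup.centralizer (P : Set G)) c f) (T' : Subgroup G) (hT' : ∀ g : G, g ∈ T' ↔ (g ∈ Subgroup.normalizer (Q : Set G) ∧ Cfsg.StabilizesBlock (Subgroup.centralizer (Q : Set G)) f g)) : T' = T ⊔ Subgroup.centralizer (Q : Set G) ∧ (Subgroup.centralizer (Q : Set G)).relIndex T'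 = (Subgroup.centralizer (P : Set G)).relIndex T ∧ Cfsg.blockRank p f = 1 ∧ Cfsg.IsNilpotentBlock p M f := by
  classical
  haveI := Fintype.ofFinite G
  haveI := Fintype.ofFinite (Subgroup.centralizer (Q : Set G))
  have hMp := Char.pmod_prime hM
  have hp := hM.1
  have hpg : IsPGroup p P := IsPGroup.of_card (Char.card_defectGroup hM hB hPD)
  have hpair := Char.SubsectionOrbits.pair_of_induced hM hpg hc
  have hmax := Char.maximal_of_defect hM hPD hpair
  obtain ⟨σ, hσ⟩ : ∃ σ : G, Subgroup.zpowers σ = P :=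
    (Subgroup.isCyclic_iff_exists_zpowers_eq_top P).mp hcyc
  obtain ⟨a, ha, hord⟩ : ∃ a, 1 ≤ a ∧ orderOf σ = p ^ a := by
    refine ⟨blockDefect p B, Nat.pos_of_ne_zero fun h => hP1 (Subgroup.card_eq_one.mp ?_), ?_⟩
    · rw [Char.card_defectGroup hM hB hPD, h, pow_zero]
    · rw [← Nat.card_zpowers, hσ, Char.card_defectGroup hM hB hPD]
  have hab := Char.CyclicLocal.comm_of_gen hσ
  have hPQ : P ≤ Subgroup.centralizer (Q : Set G) := Char.BelowData.le_centralizer hab hQP
  have hTS : T = Char.pairStab hMp hmax.1.1.2 := by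
    ext g
    rw [hT, Char.mem_pairStab]
  subst hTS
  have hQn := Char.InducedIn.normal_of_inducedIn hM hpg hQP hPQ hf
  have hT'S : T' = Char.pairStab hMp hQn.1.2 := by
    ext g
    rw [hT', Char.mem_pairStab]
  subst hT'S
  have hfree : ∀ t ∈ Char.pairStab hMp hmax.1.1.2, (∀ u ∈ Q, t * u = u * t) →
      t ∈ Subgroup.centralizer (P : Set G) := by
    intro t ht hfix
    obtain ⟨u, hu1⟩ := Subgroup.ne_bot_iff_exists_ne_one.mp hQ1
    obtain ⟨u, hu⟩ := u
    replace hu1 : u ≠ 1 := fun h => hu1 (Subtype.ext h)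
    refine Char.CyclicRank.free_action hM hmax hσ ha hord t ht u (hQP hu) hu1 ?_
    rw [hfix u hu, mul_inv_cancel_right]
  have hcard : ∀ R : Subgroup G, R ≤ P → Nat.card R = Nat.card Q → R = Q := by
    intro R hR hcR
    have hn : ∀ S : Subgroup G, S ≤ P → Nat.card S = Nat.card Q →
        ((S.subgroupOf P : Subgroup P) : Set P).toFinset =
          Finset.univ.filter fun x : P => x ^ Nat.card Q = 1 := by
      intro S hS hcS
      refine Finset.eq_of_subset_of_card_le (fun x hx => ?_) ?_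
      · rw [Set.mem_toFinset, SetLike.mem_coe, Subgroup.mem_subgroupOf] at hx
        refine Finset.mem_filter.mpr ⟨Finset.mem_univ _, Subtype.ext ?_⟩
        have h1 : (⟨(x : G), hx⟩ : S) ^ Nat.card S = 1 := pow_card_eq_one'
        rw [hcS] at h1
        exact (congrArg (fun z : S => (z : G)) h1 :)
      · refine (IsCyclic.card_pow_eq_one_le Nat.card_pos).trans (le_of_eq ?_)
        rw [Set.toFinset_card, ← Nat.card_eq_fintype_card]
        exact (hcS.symm.trans (Nat.card_congr (Subgroup.subgroupOfEquivOfLe hS).toEquiv.symm))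
    have h := (hn R hR hcR).trans (hn Q hQP rfl).symm
    rw [Set.toFinset_inj, SetLike.coe_set_eq] at h
    rw [← Subgroup.map_subgroupOf_eq_of_le hR, h, Subgroup.map_subgroupOf_eq_of_le hQP]
  have hnil : IsNilpotentBlock p M f := Char.InducedIn.nilpotent_of_free hM hmax hab hQn hfree
  have hCP : Subgroup.centralizer (P : Set G) ≤ Char.pairStab hMp hmax.1.1.2 :=
    (Char.stabCtx_pairStab hM hpg hmax.1.1.2).cent
  have hCQ : Subgroup.centralizer (Q : Set G) ≤ Char.pairStab hMp hQn.1.2 :=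
    (Char.stabCtx_pairStab hM hQn.1.1 hQn.1.2).cent
  -- the stabilizer above stabilizes the block below
  have hle : Char.pairStab hMp hmax.1.1.2 ≤ Char.pairStab hMp hQn.1.2 := by
    intro t ht
    have htN := ((Char.mem_pairStab _ _).mp ht).1
    have hN : t ∈ Subgroup.normalizer (Q : Set G) := by
      refine Subgroup.mem_normalizer_iff_map_conj_eq.mpr (hcard _ ?_ ?_)
      · rw [← Subgroup.mem_normalizer_iff_map_conj_eq.mp htN]
        exact Subgroup.map_mono hQP
      · exact Subgroup.card_map_of_injective (MulEquiv.injective _)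
    have hu : ∀ x y : BrauerPairIdx G, y = ⟨P, c⟩ → x.1 = Q →
        IsNormalSubpair p M x.1 x.2 y.1 y.2 → x = ⟨Q, f⟩ := by
      rintro ⟨R, f'⟩ y rfl hR h
      simp only at hR
      subst hR
      obtain ⟨g, -, hg⟩ := Char.existsUnique_normalSubpair hM hpg hQP
        (hPQ.trans (Char.centralizer_le_norm _)) hmax.1.1.2
      rw [hg f' h, hg f hQn]
    have h3 : Char.conjIdx t (⟨Q, f⟩ : BrauerPairIdx G) = ⟨Q, f⟩ :=
      hu _ _ (show Char.conjIdx t (⟨P, c⟩ : BrauerPairIdx G) = ⟨P, c⟩ from ht)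
        (Subgroup.mem_normalizer_iff_map_conj_eq.mp hN) (Char.normalSubpair_conj hM t hQn)
    exact h3
  have hsup : Char.pairStab hMp hQn.1.2 = Char.pairStab hMp hmax.1.1.2 ⊔ Subgroup.centralizer (Q : Set G) := by
    refine le_antisymm (fun g hg => ?_) (sup_le hle hCQ)
    have hfix : Char.conjIdx g (⟨Q, f⟩ : BrauerPairIdx G) = ⟨Q, f⟩ := hg
    obtain ⟨x, hx, hxg⟩ := Char.abelian_conj_fix hM hmax hab (Relation.ReflTransGen.single hQn) (g := g)
      (by rw [hfix]; exact Relation.ReflTransGen.single hQn)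
    rw [show Q.map (MulAut.conj g).toMonoidHom = Q from
      Subgroup.mem_normalizer_iff_map_conj_eq.mp ((Char.mem_pairStab _ _).mp hg).1] at hx
    rw [show g = x⁻¹ * (x * g) by group]
    exact Subgroup.mul_mem _ (Subgroup.mem_sup_right (inv_mem hx)) (Subgroup.mem_sup_left hxg)
  refine ⟨hsup, ?_, (Char.Star.nilpotent_rank_one hM hnil).1, hnil⟩
  have hnorm : Char.pairStab hMp hmax.1.1.2 ≤
      Subgroup.normalizer (Subgroup.centralizer (Q : Set G) : Set G) := fun t ht =>
    (((Char.mem_pairStab _ _).mp (hle ht)).2).1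
  rw [hsup, sup_comm, Char.relIndex_sup_of_normalizes hnorm, ← Subgroup.inf_relIndex_right]
  congr 1
  refine le_antisymm ?_ (le_inf (Subgroup.centralizer_le hQP) hCP)
  rintro t ⟨ht1, ht2⟩
  exact hfree t ht2 fun u hu => (ht1 u hu).symm

end Cfsg.Agent.S4645
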