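import Cfsg.Statements.S4648
import Cfsg.Agent.Lib.Char.SmallBlock
import Cfsg.Agent.Lib.Char.KleinFourBlock
import Cfsg.Agent.S4687

set_option autoImplicit false
open Cfsg
open Cfsg.Agent

namespace Cfsg.Agent.S4648

/-- Let B be a block of the finite group G relative to a maximal ideal M of the algebraic integers containing the prime p, with a nontrivial defect group D. If B has p-regular rank 1 and at most four irreducible characters, then B is nilpotent, D has exactly as many elements as B has irreducible characters, and p is 2 or 3. -/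
theorem result {G : Type*} [Group G] [Finite G] (p : ℕ) [Fact p.Prime] (M : Ideal Cfsg.AlgInt) (hM : Cfsg.IsPModular p M) (B : Set (Cfsg.IrrCharacter G)) (hB : Cfsg.IsPBlock M B) (D : Subgroup G) (hD : Cfsg.IsDefectGroup p M B D) (hD1 : D ≠ ⊥) (hl : Cfsg.blockRank p B = 1) (hk : Nat.card B ≤ 4) : Cfsg.IsNilpotentBlock p M B ∧ Nat.card D = Nat.card B ∧ (p = 2 ∨ p = 3) := by
  classical
  haveI := Fintype.ofFinite G
  have hp := hM.1
  have hMp := Char.pmod_prime hM
  have hkd := Char.SmallBlock.card_eq_pow hM hB hl hk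
  have hcardD := Char.card_defectGroup hM hB hD
  have hd0 : blockDefect p B ≠ 0 := fun h => hD1 (Subgroup.card_eq_one.mp (by rw [hcardD, h, pow_zero]))
  have hpd : p ≤ p ^ blockDefect p B := Nat.le_self_pow hd0 p
  have hp23 : p = 2 ∨ p = 3 := by
    have h2 := hp.two_le
    have h4 : p ≠ 4 := fun h => by rw [h] at hp; norm_num at hp
    omega
  refine ⟨?_, by rw [hcardD, hkd], hp23⟩
  have hd2 : blockDefect p B ≤ 2 := by
    by_contra h
    have h3 : 2 ^ 3 ≤ p ^ blockDefect p B :=
      (Nat.pow_le_pow_left hp.two_le 3).trans (Nat.pow_le_pow_right hp.pos (by omega))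
    omega
  have hab : ∀ x ∈ D, ∀ y ∈ D, x * y = y * x := by
    intro x hx y hy
    suffices h : ∀ a b : D, a * b = b * a from congrArg Subtype.val (h ⟨x, hx⟩ ⟨y, hy⟩)
    rcases (show blockDefect p B = 1 ∨ blockDefect p B = 2 by omega) with h | h
    · haveI := isCyclic_of_prime_card (α := D) (p := p) (by rw [hcardD, h, pow_one])
      exact fun a b => IsCyclic.commutative.is_comm.comm a b
    · exact IsPGroup.commutative_of_card_eq_prime_sq (p := p) (by rw [hcardD, h])
  obtain ⟨e, he⟩ := Char.exists_pair_of_le_defect hM hB hD le_rfl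
  have hmax := Char.maximal_of_defect hM hD he
  refine (S4687.result p M hM B D e hmax hab).mpr fun t ht hst => ?_
  have htS : t ∈ Char.pairStab hMp hmax.1.1.2 := (Char.mem_pairStab hMp _).mpr ⟨ht, hst⟩
  obtain ⟨Φ, hΦ, hfib, hcount⟩ := Char.SubsectionOrbits.card_eq_rank_add hM hmax hab
  set S := Finset.univ.filter (fun z : G => z ∈ D ∧ z ≠ 1) with hS
  -- every subsection has rank one
  have hone : ∀ a ∈ S.image Φ, blockRank p a.2 = 1 := by
    intro a ha
    obtain ⟨z, hz, rfl⟩ := Finset.mem_image.mp ha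
    obtain ⟨hzD, hz1⟩ := (Finset.mem_filter.mp hz).2
    obtain ⟨⟨j, hj⟩, hconj, hind, hdef⟩ := hΦ z hzD hz1
    obtain ⟨c, hc⟩ := isConj_iff.mp hconj
    have hx1 : (Φ z).1 ≠ 1 := fun h => hz1 (conj_eq_one_iff.mp (hc.trans h))
    set C := Subgroup.centralizer ({(Φ z).1} : Set G) with hC
    letI := Fintype.ofFinite C
    let z0 : C := ⟨(Φ z).1, Subgroup.mem_centralizer_singleton_iff.mpr rfl⟩
    have hz0c : ∀ w : C, z0 * w = w * z0 := fun w =>
      Subtype.ext (Subgroup.mem_centralizer_singleton_iff.mp w.2).symm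
    have hz0o : orderOf z0 = p ^ j := by rw [Subgroup.orderOf_mk, hj]
    have hb := hind.1
    obtain ⟨Db, hDb⟩ := Char.exists_isDefectGroup hM hb
    have hDbc := Char.card_defectGroup hM hb hDb
    rw [hdef] at hDbc
    haveI hnor : (Subgroup.zpowers z0).Normal := ⟨fun y hy w => by
      obtain ⟨i, rfl⟩ := Subgroup.mem_zpowers_iff.mp hy
      rw [← ((show Commute z0 w from hz0c w).zpow_left i).eq, mul_inv_cancel_right]
      exact hy⟩
    have hle := Char.pCore_le_defectGroup hM hb hDb (Subgroup.zpowers z0)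
      (IsPGroup.of_card (n := j) (by rw [Nat.card_zpowers, hz0o]))
    have hjd : j ≤ blockDefect p B := by
      have h := Subgroup.card_le_of_le hle
      rw [Nat.card_zpowers, hz0o, hDbc] at h
      exact (Nat.pow_le_pow_iff_right hp.one_lt).mp h
    by_cases hje : j = blockDefect p B
    · have hDbz : Subgroup.zpowers z0 = Db :=
        Subgroup.eq_of_le_of_card_ge hle (by rw [hDbc, Nat.card_zpowers, hz0o, hje])
      refine Char.blockRank_eq_one_of_central hM hb hDb ?_
      rw [← hDbz, Subgroup.zpowers_le, Subgroup.mem_center_iff]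
      exact fun w => (hz0c w).symm
    · have hj0 : j ≠ 0 := fun h => hx1 (orderOf_eq_one_iff.mp (by rw [hj, h, pow_zero]))
      have hdeq : blockDefect p B = 2 := by omega
      obtain rfl : p = 2 := by
        rcases hp23 with h | h
        · exact h
        · subst h; rw [hdeq] at hkd; omega
      exact Char.KleinBlock.rank_one_of_central hM hb hz0c
        (by rw [hz0o, show j = 1 by omega, pow_one]) (hdef.trans hdeq)
  -- so the stabilizer fixes every element
  have hScard : S.card = Nat.card D - 1 := by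
    have h1 : S = ((D : Set G).toFinset).erase 1 := by ext z; simp [hS, and_comm]
    rw [h1, Finset.card_erase_of_mem (by simp), Set.toFinset_card, ← Nat.card_eq_fintype_card]
    rfl
  have himg : (S.image Φ).card = S.card := by
    rw [Finset.sum_congr rfl hone, Finset.sum_const, smul_eq_mul, mul_one, hl] at hcount
    rw [hScard, hcardD]
    omega
  have hinj := Finset.card_image_iff.mp himg
  rw [Subgroup.mem_centralizer_iff]
  intro z hz
  by_cases hz1 : z = 1
  · simp [hz1]
  have hzt : t * z * t⁻¹ ∈ D := (Subgroup.mem_normalizer_iff.mp ht z).mp hz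
  have hzt1 : t * z * t⁻¹ ≠ 1 := fun h => hz1 (conj_eq_one_iff.mp h)
  have h := hinj (by simp [hS, show z ∈ D from hz, hz1] : z ∈ (S : Set G)) (by simp [hS, hzt, hzt1] :
    t * z * t⁻¹ ∈ (S : Set G)) ((hfib z hz hz1 _ hzt hzt1).mpr ⟨t, htS, rfl⟩)
  exact (mul_inv_eq_iff_eq_mul.mp h.symm).symm

end Cfsg.Agent.S4648
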