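import Cfsg.Statements.S4649
import Cfsg.Agent.Lib.Char.CyclicDefectFacts
import Cfsg.Agent.S4687
import Cfsg.Agent.Lib.Char.NilpotentAbelian

set_option autoImplicit false
open Cfsg
open Cfsg.Agent

namespace Cfsg.Agent.S4649

/-- A block with cyclic defect group, of a finite group relative to a maximal ideal M of the algebraic integers containing the prime p, is nilpotent if and only if its p-regular rank is 1 (it has a unique irreducible Brauer character). -/
theorem result {G : Type*} [Group G] [Finite G] (p : ℕ) [Fact p.Prime] (M : Ideal Cfsg.AlgInt) (hM : Cfsg.IsPModular p M) (B : Set (Cfsg.IrrCharacter G)) (hB : Cfsg.IsPBlock M B) (P : Subgroup G) (hPD : Cfsg.IsDefectGroup p M B P) (hcyc : IsCyclic P) : Cfsg.IsNilpotentBlock p M B ↔ Cfsg.blockRank p B = 1 := by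
  classical
  haveI := Fintype.ofFinite G
  have hMp := Char.pmod_prime hM
  obtain ⟨c, hc⟩ := Char.exists_pair_of_le_defect hM hB hPD (le_refl P)
  have hmax := Char.maximal_of_defect hM hPD hc
  have hPa := Char.card_defectGroup hM hB hPD
  have hab : ∀ x ∈ P, ∀ y ∈ P, x * y = y * x := by
    letI : CommGroup P := IsCyclic.commGroup
    intro x hx y hy
    exact congrArg Subtype.val (mul_comm (⟨x, hx⟩ : P) ⟨y, hy⟩)
  refine ⟨fun hnil => (Char.NilpotentAbelian.main hM hB hPD hab hnil).1, fun hl => ?_⟩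
  refine (S4687.result p M hM B P c hmax hab).mpr fun x hx hst => ?_
  rcases Nat.eq_zero_or_pos (blockDefect p B) with h0 | ha
  · rw [h0, pow_zero] at hPa
    intro u hu
    rw [Subgroup.card_eq_one.mp hPa, SetLike.mem_coe, Subgroup.mem_bot] at hu
    rw [hu, one_mul, mul_one]
  · obtain ⟨σ, hσ, hord⟩ := Char.CyclicRank.exists_gen hcyc hPa
    obtain ⟨h1, -⟩ := Char.CyclicRank.counts hM hmax hσ ha hord rfl
    rw [hl] at h1
    exact Subgroup.relIndex_eq_one.mp h1.symm ((Char.mem_pairStab hMp hmax.1.1.2).mpr ⟨hx, hst⟩)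

end Cfsg.Agent.S4649
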