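import Cfsg.Statements.S4650
import Cfsg.Agent.Lib.Char.InducedIn
import Cfsg.Agent.Lib.Char.SubsectionOrbits

set_option autoImplicit false
open Cfsg
open Cfsg.Agent

namespace Cfsg.Agent.S4650

/-- Let B be a block of the finite group G relative to a maximal ideal M of the algebraic integers containing the prime p, with a nontrivial commutative defect group P; let c be a block of C_G(P) inducing B and T the stabilizer of c in N_G(P). Then T/C_G(P) acts freely on the non-identity elements of P (an element of T fixing a non-identity element of P under conjugation lies in C_G(P)) if and only if, for every nontrivial subgroup Q of P, the block of C_G(Q) induced by c inside C_G(Q) is a nilpotent block of C_G(Q). -/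
theorem result {G : Type*} [Group G] [Finite G] (p : ℕ) [Fact p.Prime] (M : Ideal Cfsg.AlgInt) (hM : Cfsg.IsPModular p M) (B : Set (Cfsg.IrrCharacter G)) (hB : Cfsg.IsPBlock M B) (P : Subgroup G) (hPD : Cfsg.IsDefectGroup p M B P) (hPab : ∀ x ∈ P, ∀ y ∈ P, x * y = y * x) (hP1 : P ≠ ⊥) (c : Set (Cfsg.IrrCharacter (Subgroup.centralizer (P : Set G)))) (hc : Cfsg.IsInducedBlock M (Subgroup.centralizer (P : Set G)) c B) (T : Subgroup G) (hT : ∀ g : G, g ∈ T ↔ (g ∈ Subgroup.normalizer (P : Set G) ∧ Cfsg.StabilizesBlock (Subgroup.centralizer (P : Set G)) c g)) : (∀ g ∈ T, ∀ x ∈ P, x ≠ 1 → g * x * g⁻¹ = x → g ∈ Subgroup.centralizer (P : Set G)) ↔ ∀ Q : Subgroup G, Q ≤ P → Q ≠ ⊥ → ∀ f : Set (Cfsg.IrrCharacter (Subgroup.centralizer (Q : Set G))), Cfsg.IsInducedBlockIn M (Subgroup.centralizer (Q : Set G)) (Subgroup.centralizer (P : Set G)) c f → Cfsg.IsNilpotentBlock p M f := by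
  classical
  haveI := Fintype.ofFinite G
  haveI := Fintype.ofFinite (Subgroup.centralizer (P : Set G))
  have hP := Char.pmod_prime hM
  have hPg : IsPGroup p P := IsPGroup.of_card (Char.card_defectGroup hM hB hPD)
  have hmax := Char.maximal_of_defect hM hPD (Char.SubsectionOrbits.pair_of_induced hM hPg hc)
  have hT' : ∀ g : G, g ∈ T ↔ g ∈ Char.pairStab hP hmax.1.1.2 := fun g =>
    (hT g).trans (Char.mem_pairStab hP hmax.1.1.2).symm
  constructor
  · intro hfree Q hQP hQ1 f hf
    have hPQ : P ≤ Subgroup.centralizer (Q : Set G) := fun y hy w hw => hPab w (hQP hw) y hy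
    have hn := Char.InducedIn.normal_of_inducedIn hM hPg hQP hPQ hf
    refine Char.InducedIn.nilpotent_of_free hM hmax hPab hn fun t ht hfix => ?_
    obtain ⟨x, hx, hx1⟩ := Subgroup.ne_bot_iff_exists_ne_one.mp hQ1 |> fun ⟨x, hx⟩ =>
      (⟨(x : G), x.2, fun h => hx (Subtype.ext h)⟩ : ∃ x : G, x ∈ Q ∧ x ≠ 1)
    exact hfree t ((hT' t).mpr ht) x (hQP hx) hx1 (by rw [hfix x hx, mul_inv_cancel_right])
  · intro hnil g hg x hx hx1 hgx
    have hQP : Subgroup.zpowers x ≤ P := Subgroup.zpowers_le.mpr hx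
    have hPQ : P ≤ Subgroup.centralizer (Subgroup.zpowers x : Set G) := fun y hy w hw => hPab w (hQP hw) y hy
    have hPP : P ≤ Subgroup.centralizer (P : Set G) := fun y hy w hw => hPab w hw y hy
    obtain ⟨f, hf⟩ := Char.InducedIn.exists_inducedIn hM hPg hQP hPQ hPP hc.1
    have hn := Char.InducedIn.normal_of_inducedIn hM hPg hQP hPQ hf
    refine Char.InducedIn.mem_centralizer_of_nilpotent hM hmax hPab hn
      (hnil _ hQP (Subgroup.zpowers_ne_bot.mpr hx1) f hf) ((hT' g).mp hg) fun u hu => ?_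
    obtain ⟨n, rfl⟩ := Subgroup.mem_zpowers_iff.mp hu
    exact ((Commute.zpow_right (show Commute g x from mul_inv_eq_iff_eq_mul.mp hgx) n)).eq

end Cfsg.Agent.S4650
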