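import Cfsg.Statements.S4657
import Cfsg.Agent.Lib.Char.BrauerPairs

set_option autoImplicit false
open Cfsg
open scoped ComplexConjugate

namespace Cfsg.Agent.S4657

/-- Fix a prime p and a maximal ideal M of the algebraic integers containing p. Every Brauer pair (P, e) of the finite group G is a Brauer pair of exactly one p-block B of G. -/
theorem result {G : Type*} [Group G] [Fintype G] (p : ℕ) [Fact p.Prime] (M : Ideal Cfsg.AlgInt) (hM : Cfsg.IsPModular p M) (P : Subgroup G) (e : Set (Cfsg.IrrCharacter (Subgroup.centralizer (P : Set G)))) (hPe : Cfsg.IsBrauerPair p M P e) : ∃! B : Set (Cfsg.IrrCharacter G), Cfsg.IsBrauerPairOf p M B P e := by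
  classical
  haveI := Fintype.ofFinite (Subgroup.centralizer (P : Set G))
  have hP := Char.pmod_prime hM
  obtain ⟨ξ, hξ⟩ := Char.block_nonempty hP hPe.2
  obtain ⟨B, hB, hone, hΦ⟩ := (Char.isCentralHom_brLam hM hPe.1 le_rfl
    (Subgroup.centralizer_le_normalizer _) ξ).exists_block hM
  have htr : ∀ F : G → ℂ, Char.brRes P (Subgroup.centralizer (P : Set G)) F = Char.tr P F :=
    fun F => funext fun c => by rw [Char.brRes, if_pos c.2]; rfl
  simp only [Char.brLam, htr] at hone hΦ
  have hgood := Char.isGoodFun_of_classFun (M := M) P (Char.isIntClassFun_blockCoeff hM hB)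
  refine ⟨B, ⟨hPe, hB, Char.brOne_of_mem hM hPe.2 hgood hξ (by rwa [Char.brauerOmega_eq])⟩,
    fun B' hB' => ?_⟩
  obtain ⟨χ, hχ⟩ := Char.block_nonempty hP hB
  have h1 := hB'.2.2 ξ hξ
  rw [Char.brauerOmega_eq] at h1
  have h2 := hΦ χ hχ _ (Char.isIntClassFun_blockCoeff hM hB'.2.1)
  rw [Char.lam_blockCoeff] at h2
  by_cases hmem : χ ∈ B'
  · exact Char.block_disjoint hP hB'.2.1 hB hmem hχ
  · rw [if_neg hmem, sub_zero] at h2
    refine absurd ?_ (Char.memLI_one_iff (M := M) hP)
    simpa using Char.memLI_sub hP h2 h1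

end Cfsg.Agent.S4657
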