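import Cfsg.Statements.S4662
import Cfsg.Agent.Lib.Char.BlockFusion

set_option autoImplicit false
open Cfsg
open scoped ComplexConjugate

namespace Cfsg.Agent.S4662

/-- Fix a prime p and a maximal ideal M of the algebraic integers containing p. Let (P, e) be a maximal Brauer pair of the p-block B of the finite group G, Q ≤ P, and f the p-block of C_G(Q) with (Q, f) ≤ (P, e). Let T be the stabilizer of f in N_G(Q). Then the idempotent of f is a block idempotent of T, and N_P(Q) is contained in a defect group of that block of T; moreover for some x in G the conjugate pair (x Q x⁻¹, conjugate of f) again lies below (P, e) and, with T' the stabilizer of the conjugate of f in N_G(x Q x⁻¹), N_P(x Q x⁻¹) is a defect group of the block of T' whose idempotent is that of the conjugate of f. -/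
theorem result {G : Type*} [Group G] [Fintype G] (p : ℕ) [Fact p.Prime] (M : Ideal Cfsg.AlgInt) (hM : Cfsg.IsPModular p M) (B : Set (Cfsg.IrrCharacter G)) (P Q : Subgroup G) (e : Set (Cfsg.IrrCharacter (Subgroup.centralizer (P : Set G)))) (f : Set (Cfsg.IrrCharacter (Subgroup.centralizer (Q : Set G)))) (hmax : Cfsg.IsMaximalBrauerPair p M B P e) (hQP : Q ≤ P) (hf : Cfsg.IsPBlock M f) (hle : Cfsg.SubpairLE p M Q f P e) (T : Subgroup G) (hT : ∀ y : G, y ∈ T ↔ y ∈ Subgroup.normalizer (Q : Set G) ∧ Cfsg.StabilizesBlock (Subgroup.centralizer (Q : Set G)) f y) : (∃ F : Set (Cfsg.IrrCharacter T), Cfsg.IsPBlock M F ∧ (∀ t : T, Cfsg.blockCoeff F t = Cfsg.subgroupBlockCoeff (Subgroup.centralizer (Q : Set G)) f (t : G)) ∧ ∃ D : Subgroup T, Cfsg.IsDefectGroup p M F D ∧ (P ⊓ Subgroup.normalizer (Q : Set G)).subgroupOf T ≤ D) ∧ ∃ x : G, Cfsg.SubpairLE p M (Q.map (MulAut.conj x).toMonoidHom) (Cfsg.conjBlock Q x f) P e ∧ ∀ (T' : Subgroup G), (∀ y : G, y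 ∈ T' ↔ y ∈ Subgroup.normalizer ((Q.map (MulAut.conj x).toMonoidHom) : Set G) ∧ Cfsg.StabilizesBlock (Subgroup.centralizer ((Q.map (MulAut.conj x).toMonoidHom) : Set G)) (Cfsg.conjBlock Q x f) y) → ∃ F' : Set (Cfsg.IrrCharacter T'), Cfsg.IsPBlock M F' ∧ (∀ t : T', Cfsg.blockCoeff F' t = Cfsg.subgroupBlockCoeff (Subgroup.centralizer ((Q.map (MulAut.conj x).toMonoidHom) : Set G)) (Cfsg.conjBlock Q x f) (t : G)) ∧ Cfsg.IsDefectGroup p M F' ((P ⊓ Subgroup.normalizer ((Q.map (MulAut.conj x).toMonoidHom) : Set G)).subgroupOf T') := by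
  classical
  have hMp := Char.pmod_prime hM
  have hPe := hmax.1.1
  have hQp := (Char.isBrauerPair_of_le hPe hle).1
  obtain rfl : T = Char.pairStab hMp hf :=
    Subgroup.ext fun y => (hT y).trans (Char.mem_pairStab hMp hf).symm
  haveI := Fintype.ofFinite (Char.pairStab hMp hf)
  have hctx := Char.stabCtx_pairStab hM hQp hf
  obtain ⟨d, x, hd, hx, -, heq⟩ := Char.exists_fully hM hmax hle hf
  obtain ⟨g0, hg0, -⟩ := Char.over_normalizerIn hM hPe hle
  have hover := Char.isOver_pairStab hM hf (a := (⟨_, g0⟩ : BrauerPairIdx G)) hg0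
  obtain ⟨b, hb, hbc⟩ := hctx.exists_block hM
  refine ⟨⟨b, hb, hbc, ?_⟩, x, hx, fun T' hT' => ?_⟩
  · obtain ⟨h, hh, hsub⟩ := hctx.conj_le_max hM hover hd
    refine ⟨_, Char.isDefectGroup_conj hM (hctx.maxOver_defect hM hb hbc hd) ⟨h, hh⟩⁻¹, ?_⟩
    intro z hz
    refine ⟨⟨h, hh⟩ * z * ⟨h, hh⟩⁻¹, hsub ⟨(z : G), hz, rfl⟩, ?_⟩
    show (⟨h, hh⟩⁻¹ : Char.pairStab hMp hf) * (⟨h, hh⟩ * z * ⟨h, hh⟩⁻¹) * (⟨h, hh⟩⁻¹)⁻¹ = z
    group
  · have hf' := Char.isPBlock_conjBlock x hf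
    obtain rfl : T' = Char.pairStab hMp hf' :=
      Subgroup.ext fun y => (hT' y).trans (Char.mem_pairStab hMp hf').symm
    haveI := Fintype.ofFinite (Char.pairStab hMp hf')
    have hctx' := Char.stabCtx_pairStab hM (hQp.map (MulAut.conj x).toMonoidHom) hf'
    obtain ⟨b', hb', hbc'⟩ := hctx'.exists_block hM
    refine ⟨b', hb', hbc', ?_⟩
    have h2 := hctx'.maxOver_defect hM hb' hbc' (Char.maxOver_conj hM hf x hd)
    rw [← heq] at h2
    exact h2

end Cfsg.Agent.S4662
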