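import Cfsg.Statements.S4663
import Cfsg.Agent.Lib.Char.ThirdMain

set_option autoImplicit false
open Cfsg
open scoped ComplexConjugate

namespace Cfsg.Agent.S4663

/-- Fix a prime p and a maximal ideal M of the algebraic integers containing p. Brauer's Third Main Theorem in the language of Brauer pairs: for the principal p-block B₀ of the finite group G and any p-subgroup Q, a p-block e of C_G(Q) makes (Q, e) a Brauer pair of B₀ if and only if e is the principal p-block of C_G(Q). Equivalently, modulo M the truncation to C_G(Q) of the idempotent of B₀ is the idempotent of the principal block of C_G(Q). -/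
theorem result {G : Type*} [Group G] [Fintype G] (p : ℕ) [Fact p.Prime] (M : Ideal Cfsg.AlgInt) (hM : Cfsg.IsPModular p M) (Q : Subgroup G) (hQ : IsPGroup p Q) (e : Set (Cfsg.IrrCharacter (Subgroup.centralizer (Q : Set G)))) (he : Cfsg.IsPBlock M e) : Cfsg.IsBrauerPairOf p M (Cfsg.principalBlock M G) Q e ↔ e = Cfsg.principalBlock M (Subgroup.centralizer (Q : Set G)) := by
  classical
  haveI := Fintype.ofFinite (Subgroup.centralizer (Q : Set G))
  have hP := Char.pmod_prime hM
  have key : ∀ ξ : IrrCharacter (Subgroup.centralizer (Q : Set G)),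
      brauerOmega Q (blockCoeff (principalBlock M G)) (ξ : _ → ℂ) =
        Char.brLam Q (Subgroup.centralizer (Q : Set G)) (ξ : _ → ℂ)
          (blockCoeff (principalBlock M G)) := fun ξ => by
    rw [brauerOmega, finsum_eq_sum_of_fintype, Char.brLam, Char.lam, Finset.sum_div]
    exact Finset.sum_congr rfl fun x _ => by rw [Char.brRes, if_pos x.2]
  constructor
  · rintro ⟨-, -, h⟩
    obtain ⟨ξ, hξ⟩ := Char.block_nonempty hP he
    have h1 := h ξ hξ
    rw [key, Char.third_main_brauer hM hQ] at h1
    exact (Char.eq_principal_iff hM he hξ).mpr h1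
  · rintro rfl
    refine ⟨⟨hQ, he⟩, Char.isPBlock_principalBlock M, fun ξ hξ => ?_⟩
    rw [key]
    exact (Char.third_main_brauer hM hQ ξ).mpr hξ

end Cfsg.Agent.S4663
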