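import Cfsg.Statements.S4664
import Cfsg.Agent.Lib.Char.BlockInter

set_option autoImplicit false
open Cfsg Cfsg.Agent.Char
open scoped ComplexConjugate

namespace Cfsg.Agent.S4664

/-- Fix a prime p and a maximal ideal M of the algebraic integers containing p, and let B be a p-block of the finite group G. Let m be the p'-part of the order of G and η = exp(2πi/m). Then every coefficient of the idempotent of B lies in the cyclotomic field ℚ(η). -/
theorem result {G : Type*} [Group G] [Fintype G] (p : ℕ) [Fact p.Prime] (M : Ideal Cfsg.AlgInt) (hM : Cfsg.IsPModular p M) (B : Set (Cfsg.IrrCharacter G)) (hB : Cfsg.IsPBlock M B) (g : G) : Cfsg.blockCoeff B g ∈ IntermediateField.adjoin ℚ ({Complex.exp (2 * Real.pi * Complex.I / ((Nat.card G / p ^ (Nat.card G).factorization p : ℕ) : ℂ))} : Set ℂ) := by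
  classical
  set n' := Nat.card G / p ^ (Nat.card G).factorization p with hn'
  rw [blockCoeff, finsum_mem_irr]
  by_cases hg : p ∣ orderOf g
  · have h := weak_orthogonality hM hB (x := (1 : G)) (y := g) (by simp [hM.1.ne_one]) hg
    rw [finsum_mem_irr] at h
    rw [h, mul_zero]
    exact zero_mem _
  have hdvd : orderOf g ∣ n' := by
    refine (Nat.Coprime.dvd_mul_left ?_).mp
      ((orderOf_dvd_natCard g).trans (Nat.ordProj_mul_ordCompl_eq_self (Nat.card G) p).symm.dvd)
    exact Nat.Coprime.pow_right _ ((hM.1.coprime_iff_not_dvd.mpr hg).symm)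
  have hpos : 0 < n' := Nat.ordCompl_pos p Nat.card_pos.ne'
  haveI : NeZero n' := ⟨hpos.ne'⟩
  have hζ := Complex.isPrimitiveRoot_exp n' hpos.ne'
  refine mul_mem (inv_mem (IntermediateField.natCast_mem _ _)) (sum_mem fun χ _ => ?_)
  rw [char_one_eq_deg (irr_isCharacter χ.2), ← char_inv (irr_isCharacter χ.2)]
  refine mul_mem (IntermediateField.natCast_mem _ _) ?_
  obtain ⟨m, ρ, hρ⟩ := irr_isCharacter χ.2
  rw [← hρ]
  obtain ⟨μ, hμ, htr, -⟩ := exists_eigenvalues ρ g⁻¹
  have h1 := htr 1
  rw [pow_one] at h1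
  show ρ.character g⁻¹ ∈ _
  rw [h1]
  refine sum_mem fun i _ => ?_
  obtain ⟨c, hc⟩ := hdvd
  obtain ⟨j, -, hj⟩ := hζ.eq_pow_of_pow_eq_one (ξ := μ i) (by
    rw [hc, pow_mul, ← orderOf_inv, hμ i, one_pow])
  rw [pow_one, ← hj]
  exact pow_mem (IntermediateField.subset_adjoin ℚ _ (Set.mem_singleton _)) j

end Cfsg.Agent.S4664
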