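import Cfsg.Statements.S4665
import Cfsg.Agent.Lib.Char.Ortho
import Cfsg.Agent.Lib.Char.BlockBasic
import Cfsg.Agent.Lib.Char.PParts

set_option autoImplicit false
open Cfsg
open scoped ComplexConjugate

namespace Cfsg.Agent.S4665

/-- Fix a prime p, a maximal ideal M of the algebraic integers containing p, and a p-block B of the finite group G, and let p^a be the p-part of the order of G. Let χ be an integer combination of the irreducible characters in B. If the function that agrees with χ on p-regular elements and vanishes on p-singular elements is again an integer combination of the irreducible characters in B, then p^a divides χ(1). -/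
theorem result {G : Type*} [Group G] [Fintype G] (p : ℕ) [Fact p.Prime] (M : Ideal Cfsg.AlgInt) (hM : Cfsg.IsPModular p M) (B : Set (Cfsg.IrrCharacter G)) (hB : Cfsg.IsPBlock M B) (χ : G → ℂ) (hχ : (∃ n : Cfsg.IrrCharacter G → ℤ, ∀ g : G, χ g = ∑ᶠ ψ ∈ B, (n ψ : ℂ) * (ψ : G → ℂ) g)) (h0 : (∃ n : Cfsg.IrrCharacter G → ℤ, ∀ g : G, Cfsg.pRegularPart p χ g = ∑ᶠ ψ ∈ B, (n ψ : ℂ) * (ψ : G → ℂ) g)) : ∃ k : ℤ, χ 1 = (p ^ (Nat.card G).factorization p : ℂ) * k := by
  classical
  obtain ⟨n, hn⟩ := h0
  obtain ⟨P⟩ : Nonempty (Sylow p G) := inferInstance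
  haveI : Fintype (P : Subgroup G) := Fintype.ofFinite _
  have hval : ∀ g : (P : Subgroup G), Cfsg.pRegularPart p χ (g : G) = if g = 1 then χ 1 else 0 := by
    intro g
    by_cases hg : g = 1
    · subst hg
      rw [if_pos rfl]
      simp [Cfsg.pRegularPart, Cfsg.IsPRegular, (Fact.out : p.Prime).ne_one]
    · rw [if_neg hg]
      unfold Cfsg.pRegularPart
      rw [if_neg]
      intro hreg
      apply hg
      obtain ⟨k, hk⟩ := IsPGroup.iff_orderOf.1 P.2 g
      rw [← Subgroup.orderOf_coe] at hk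
      rcases k with _ | k
      · exact Subtype.ext (orderOf_eq_one_iff.1 (by simpa using hk))
      · exact absurd (hk ▸ dvd_pow_self p (by omega)) hreg
  have key : ∀ ψ : Cfsg.IrrCharacter G, ∃ k : ℕ,
      ∑ g : (P : Subgroup G), (ψ : G → ℂ) g = (Nat.card (P : Subgroup G) : ℂ) * k := by
    intro ψ
    obtain ⟨k, hk⟩ := Cfsg.Agent.Char.classInner_natCast
      (Cfsg.Agent.Char.isCharacter_comp (P : Subgroup G).subtype (Cfsg.Agent.Char.irr_isCharacter ψ.2))
      (Cfsg.Agent.Char.isCharacter_one (G := (P : Subgroup G)))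
    refine ⟨k, ?_⟩
    rw [← hk]
    simp only [Cfsg.classInner, map_one, mul_one, Function.comp]
    rw [← mul_assoc, mul_inv_cancel₀ (Nat.cast_ne_zero.2 Nat.card_pos.ne'), one_mul]
    rfl
  choose k hk using key
  haveI := Fintype.ofFinite (Cfsg.IrrCharacter G)
  refine ⟨∑ ψ : Cfsg.IrrCharacter G, if ψ ∈ B then n ψ * k ψ else 0, ?_⟩
  have hs : ∑ g : (P : Subgroup G), Cfsg.pRegularPart p χ (g : G) = χ 1 := by
    rw [Finset.sum_congr rfl (fun g _ => hval g)]
    simp
  have hPc : (p : ℂ) ^ (Nat.card G).factorization p = (Nat.card (P : Subgroup G) : ℂ) := by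
    rw [Sylow.card_eq_multiplicity P, Nat.cast_pow]
  rw [← hs, Finset.sum_congr rfl (fun (g : (P : Subgroup G)) _ => hn (g : G)), hPc]
  simp only [finsum_eq_sum_of_fintype, finsum_eq_if]
  rw [Finset.sum_comm, Int.cast_sum, Finset.mul_sum]
  refine Finset.sum_congr rfl (fun ψ _ => ?_)
  by_cases hψ : ψ ∈ B
  · simp only [hψ, if_true]
    rw [← Finset.mul_sum, hk]
    push_cast
    ring
  · simp [hψ]

end Cfsg.Agent.S4665
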