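import Cfsg.Statements.S4666
import Cfsg.Agent.Lib.Char.Height

set_option autoImplicit false
open Cfsg
open scoped ComplexConjugate

namespace Cfsg.Agent.S4666

/-- Fix a prime p and a maximal ideal M of the algebraic integers containing p, and a p-block B of the finite group G of defect d. For every integer combination χ of the irreducible characters in B, p^d times the function that agrees with χ on p-regular elements and vanishes elsewhere is again an integer combination of the irreducible characters in B. -/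
theorem result {G : Type*} [Group G] [Fintype G] (p : ℕ) [Fact p.Prime] (M : Ideal Cfsg.AlgInt) (hM : Cfsg.IsPModular p M) (B : Set (Cfsg.IrrCharacter G)) (hB : Cfsg.IsPBlock M B) (χ : G → ℂ) (hχ : (∃ n : Cfsg.IrrCharacter G → ℤ, ∀ g : G, χ g = ∑ᶠ ψ ∈ B, (n ψ : ℂ) * (ψ : G → ℂ) g)) : (∃ n : Cfsg.IrrCharacter G → ℤ, ∀ g : G, (p ^ Cfsg.blockDefect p B : ℂ) * Cfsg.pRegularPart p χ g = ∑ᶠ ψ ∈ B, (n ψ : ℂ) * (ψ : G → ℂ) g) := by
  classical
  obtain ⟨n, hn⟩ := hχ
  have hp := hM.1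
  refine ⟨fun θ => ∑ ψ ∈ Cfsg.Agent.Char.bset B, n ψ * Cfsg.Agent.Char.wI p B ψ θ, fun g => ?_⟩
  have hB' : ∀ f : Cfsg.IrrCharacter G → ℂ, ∑ᶠ ψ ∈ B, f ψ = ∑ ψ ∈ Cfsg.Agent.Char.bset B, f ψ :=
    fun f => finsum_mem_eq_sum_of_subset _ (fun x hx => by simp [Cfsg.Agent.Char.mem_bset, hx.1])
      (fun x hx => by simpa [Cfsg.Agent.Char.mem_bset] using hx)
  have hw : ∀ ψ ∈ B, ∀ θ : Cfsg.IrrCharacter G, (Cfsg.Agent.Char.wI p B ψ θ : ℂ) =
      (p : ℂ) ^ Cfsg.blockDefect p B * Cfsg.Agent.Char.einner p (ψ : G → ℂ) (θ : G → ℂ) := by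
    intro ψ hψ θ
    have h := Cfsg.Agent.Char.zI_spec hp ψ θ
    rw [Cfsg.Agent.Char.zI_eq_mul_wI hM hB hψ θ, ← Cfsg.Agent.Char.dmin_add_defect (p := p)
      (Cfsg.Agent.Char.block_nonempty (Cfsg.Agent.Char.pmod_prime hM) hB), pow_add] at h
    push_cast at h
    refine mul_left_cancel₀ (pow_ne_zero (Cfsg.Agent.Char.dmin p B) (Nat.cast_ne_zero.mpr hp.ne_zero) : (p : ℂ) ^ _ ≠ 0) ?_
    rw [h]; ring
  rw [hB']
  push_cast
  have hreg : Cfsg.pRegularPart p χ g = χ g * Cfsg.Agent.Char.regInd p g := by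
    simp only [Cfsg.pRegularPart, Cfsg.IsPRegular, Cfsg.Agent.Char.regInd]
    by_cases h : p ∣ orderOf g <;> simp [h]
  rw [hreg, hn g, hB', Finset.sum_mul, Finset.mul_sum]
  simp only [Finset.sum_mul]
  rw [Finset.sum_comm]
  refine Finset.sum_congr rfl fun ψ hψ => ?_
  have hψB := Cfsg.Agent.Char.mem_bset.mp hψ
  have h := congrFun (Cfsg.Agent.Char.sum_block_einner hM ψ (p := p)) g
  rw [Pi.mul_apply, Finset.sum_apply] at h
  rw [mul_assoc, h, Finset.mul_sum, Finset.mul_sum]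
  refine Finset.sum_congr ?_ fun θ _ => ?_
  · ext θ
    simp only [Finset.mem_filter, Finset.mem_univ, true_and, Cfsg.Agent.Char.mem_bset]
    rw [Cfsg.Agent.Char.block_eq_blockOf (Cfsg.Agent.Char.pmod_prime hM) hB hψB]
  · rw [hw ψ hψB θ, Pi.smul_apply, smul_eq_mul]; ring

end Cfsg.Agent.S4666
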