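import Cfsg.Statements.S4668
import Cfsg.Agent.Lib.Char.ChainSupport

set_option autoImplicit false
open Cfsg
open scoped ComplexConjugate

namespace Cfsg.Agent.S4668

/-- Fix a prime p and a maximal ideal M of the algebraic integers containing p. Let Q₀ < Q₁ < ⋯ < Q_m be a strictly increasing chain of p-subgroups of the finite group G and N the intersection of their normalizers. Then every block idempotent of N is supported on C_G(Q_m): for every p-block E of N, the idempotent coefficient of E vanishes at every element of N outside C_G(Q_m). -/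
theorem result {G : Type*} [Group G] [Fintype G] (p : ℕ) [Fact p.Prime] (M : Ideal Cfsg.AlgInt) (hM : Cfsg.IsPModular p M) (m : ℕ) (Q : Fin (m + 1) → Subgroup G) (hQ : StrictMono Q) (hQp : ∀ i, IsPGroup p (Q i)) (N : Subgroup G) (hN : ∀ g : G, g ∈ N ↔ ∀ i, g ∈ Subgroup.normalizer (Q i : Set G)) (E : Set (Cfsg.IrrCharacter N)) (hE : Cfsg.IsPBlock M E) (n : N) (hn : (n : G) ∉ Subgroup.centralizer (Q (Fin.last m) : Set G)) : Cfsg.blockCoeff E n = 0 := by
  classical
  haveI := Fintype.ofFinite N
  by_cases hp : p ∣ orderOf n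
  · rw [blockCoeff, Char.weak_orthogonality hM hE (x := 1) (by simp [hM.1.ne_one]) hp, mul_zero]
  set R : Subgroup N := (Q (Fin.last m) ⊓ N).subgroupOf N with hRdef
  haveI : R.Normal := by
    refine ⟨fun x hx u => ?_⟩
    rw [hRdef, Subgroup.mem_subgroupOf] at hx ⊢
    exact ⟨(Subgroup.mem_normalizer_iff.mp ((hN u).mp u.2 _) _).mp hx.1, SetLike.coe_mem _⟩
  have hRp : IsPGroup p R := by
    refine ((hQp (Fin.last m)).to_le (inf_le_left : Q (Fin.last m) ⊓ N ≤ _)).of_equiv
      (Subgroup.subgroupOfEquivOfLe inf_le_right).symm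
  refine Char.blockCoeff_eq_zero_of_not_centralizing hM R hRp hE fun h => hn ?_
  refine Char.centralizes_top_of_chain hM.1 hQ.monotone hQp hN n.2 ?_ fun x hx => ?_
  · rwa [Subgroup.orderOf_coe]
  · exact congrArg (fun y : N => (y : G)) (h ⟨x, hx.2⟩ (Subgroup.mem_subgroupOf.mpr hx))

end Cfsg.Agent.S4668
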