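import Cfsg.Statements.S4673
import Cfsg.Agent.Lib.Char.StabPIndex

set_option autoImplicit false
open Cfsg
open scoped ComplexConjugate

namespace Cfsg.Agent.S4673

/-- Fix a prime p and a maximal ideal M of the algebraic integers containing p. Let N ≤ L be normal subgroups of the finite group G with L/N a p-group, let B be a p-block of G covering the p-block c of N (some member of B has a constituent in c on restriction to N), and suppose that N contains a defect group of B. Then the stabilizer T of c in G satisfies T ∩ L = N. -/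
theorem result {G : Type*} [Group G] [Fintype G] (p : ℕ) [Fact p.Prime] (M : Ideal Cfsg.AlgInt) (hM : Cfsg.IsPModular p M) (N L : Subgroup G) [N.Normal] [L.Normal] [Fintype N] (hNL : N ≤ L) (hLN : ∃ k : ℕ, (N.subgroupOf L).index = p ^ k) (B : Set (Cfsg.IrrCharacter G)) (hB : Cfsg.IsPBlock M B) (c : Set (Cfsg.IrrCharacter N)) (hc : Cfsg.IsPBlock M c) (hcov : (∃ χ ∈ B, ∃ θ ∈ c, Cfsg.classInner (fun n : N => (χ : G → ℂ) n) (θ : N → ℂ) ≠ 0)) (hD : ∃ D : Subgroup G, Cfsg.IsDefectGroup p M B D ∧ D ≤ N) (T : Subgroup G) (hT : ∀ x : G, x ∈ T ↔ Cfsg.StabilizesBlock N c x) : T ⊓ L = N := by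
  have hP := Cfsg.Agent.Char.pmod_prime hM
  have := Fintype.ofFinite L
  set N' := N.subgroupOf L with hN'
  have := Fintype.ofFinite N'
  let e : N' ≃* N := Subgroup.subgroupOfEquivOfLe hNL
  set c' := Cfsg.Agent.Char.irrTransport e '' c with hc'
  obtain ⟨χ, hχ, θ, hθ, hcon⟩ := hcov
  obtain ⟨ψ, hψ, hψθ⟩ := Cfsg.Agent.Char.exists_correspondent_in (T := L) (hNT := hNL) χ hcon
  have hβ := Cfsg.Agent.Char.isPBlock_blockOf M ψ
  obtain ⟨D, hD, hDN⟩ := hD
  obtain ⟨Dβ, hDβ⟩ := Cfsg.Agent.Char.exists_isDefectGroup hM hβ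
  obtain ⟨t, ht⟩ := Cfsg.Agent.Char.defect_le_covering (N := L) hM hB hβ
    ⟨χ, hχ, ψ, Cfsg.Agent.Char.self_mem_blockOf hP ψ, hψ⟩ hD hDβ
  have hDβN : Dβ ≤ N' := fun d hd => by
    obtain ⟨w, hw, hwd⟩ := ht ⟨d, hd, rfl⟩
    have h2 : t * w * t⁻¹ = (d : G) := hwd
    show (d : G) ∈ N
    rw [← h2]
    exact Subgroup.Normal.conj_mem inferInstance w (hDN hw) t
  have hcovc : Cfsg.Agent.Char.Covers (Cfsg.blockOf M (ψ : L → ℂ)) c' := by
    refine ⟨ψ, Cfsg.Agent.Char.self_mem_blockOf hP ψ, _, ⟨θ, hθ, rfl⟩, ?_⟩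
    rw [← Cfsg.Agent.Char.classInner_subgroupOf hNL
      (Cfsg.Agent.Char.resN L hNL (ψ : L → ℂ)) (θ : N → ℂ)] at hψθ
    exact hψθ
  obtain ⟨k, hk⟩ := hLN
  ext x
  constructor
  · rintro ⟨hxT, hxL⟩
    have hst := (Cfsg.Agent.Char.stabilizesBlock_iff hP hc x).mp ((hT x).mp hxT)
    have hx' : Cfsg.StabilizesBlock N' c' (⟨x, hxL⟩ : L) := by
      rw [Cfsg.Agent.Char.stabilizesBlock_iff hP (Cfsg.Agent.Char.isPBlock_transport e hc)]
      conv_rhs => rw [← hst]
      simp only [hc', Set.image_image]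
      refine Set.image_congr fun η _ => Subtype.ext (funext fun m => ?_)
      simp only [Cfsg.Agent.Char.irrTransport_apply]
      exact congrArg _ (Subtype.ext rfl)
    exact Cfsg.Agent.Char.mem_of_stabilizes hM hk (Cfsg.Agent.Char.isPBlock_transport e hc) hβ
      hcovc hDβ hDβN hx'
  · intro hx
    refine ⟨(hT x).mpr ?_, hNL hx⟩
    rw [Cfsg.Agent.Char.stabilizesBlock_iff hP hc]
    refine (Set.image_congr fun η _ => ?_).trans (Set.image_id _)
    refine Subtype.ext (funext fun m => ?_)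
    show (η : N → ℂ) (MulAut.conjNormal x⁻¹ m) = (η : N → ℂ) m
    rw [← Cfsg.Agent.Char.isClassFunction_character (Cfsg.Agent.Char.irr_isCharacter η.2) m
      (⟨x, hx⟩ : N)⁻¹]
    exact congrArg _ (Subtype.ext (by simp [MulAut.conjNormal_apply, mul_assoc]))

end Cfsg.Agent.S4673
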