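import Cfsg.Statements.S4674
import Cfsg.Agent.Lib.Char.HarrisKnorr

set_option autoImplicit false
open Cfsg
open scoped ComplexConjugate

namespace Cfsg.Agent.S4674

/-- Fix a prime p and a maximal ideal M of the algebraic integers containing p. Let N be a normal subgroup of the finite group G, Q a p-subgroup of N, H = N_G(Q) and L = H ∩ N = N_N(Q). Let d be a p-block of N with defect group Q and e the p-block of L with defect group Q that induces d inside N (its Brauer correspondent). Then block induction from H to G is a bijection from the p-blocks of H covering e onto the p-blocks of G covering d: every block of H covering e induces exactly one block of G, and that block covers d; and every block of G covering d is induced by exactly one block of H covering e. -/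
theorem result {G : Type*} [Group G] [Fintype G] (p : ℕ) [Fact p.Prime] (M : Ideal Cfsg.AlgInt) (hM : Cfsg.IsPModular p M) (N : Subgroup G) [N.Normal] [Fintype N] (Q : Subgroup G) (hQ : IsPGroup p Q) (hQN : Q ≤ N) [Fintype ↥(Subgroup.normalizer (Q : Set G) ⊓ N)] (d : Set (Cfsg.IrrCharacter N)) (hd : Cfsg.IsPBlock M d) (hdQ : Cfsg.IsDefectGroup p M d (Q.subgroupOf N)) (e : Set (Cfsg.IrrCharacter ↥(Subgroup.normalizer (Q : Set G) ⊓ N))) (he : Cfsg.IsPBlock M e) (heQ : Cfsg.IsDefectGroup p M e (Q.subgroupOf (Subgroup.normalizer (Q : Set G) ⊓ N))) (hed : Cfsg.IsInducedBlockIn M N (Subgroup.normalizer (Q : Set G) ⊓ N) e d) : (∀ c : Set (Cfsg.IrrCharacter ↥(Subgroup.normalizer (Q : Set G))), Cfsg.IsPBlock M c → (∃ ψ ∈ c, ∃ ξ ∈ e, Cfsg.classInner (fun l : ↥(Subgroup.normalizer (Q : Set G) ⊓ N) => (ψ : ↥(Subgroup.normalizer (Q : Set G)) → ℂ) (Subgroup.inclusion inf_le_left l)) (ξ : ↥(Subgroup.normalizer (Q : Set G) ⊓ N) → ℂ) ≠ 0) → ∃! B : Set (Cfsg.IrrCharacter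 G), Cfsg.IsInducedBlock M (Subgroup.normalizer (Q : Set G)) c B ∧ (∃ χ ∈ B, ∃ θ ∈ d, Cfsg.classInner (fun n : N => (χ : G → ℂ) n) (θ : N → ℂ) ≠ 0)) ∧ (∀ B : Set (Cfsg.IrrCharacter G), Cfsg.IsPBlock M B → (∃ χ ∈ B, ∃ θ ∈ d, Cfsg.classInner (fun n : N => (χ : G → ℂ) n) (θ : N → ℂ) ≠ 0) → ∃! c : Set (Cfsg.IrrCharacter ↥(Subgroup.normalizer (Q : Set G))), (Cfsg.IsPBlock M c ∧ ∃ ψ ∈ c, ∃ ξ ∈ e, Cfsg.classInner (fun l : ↥(Subgroup.normalizer (Q : Set G) ⊓ N) => (ψ : ↥(Subgroup.normalizer (Q : Set G)) → ℂ) (Subgroup.inclusion inf_le_left l)) (ξ : ↥(Subgroup.normalizer (Q : Set G) ⊓ N) → ℂ) ≠ 0) ∧ Cfsg.IsInducedBlock M (Subgroup.normalizer (Q : Set G)) c B) := by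
  classical
  have hP := Char.pmod_prime hM
  have := Fintype.ofFinite (Subgroup.normalizer (Q : Set G))
  have := Fintype.ofFinite ((Subgroup.normalizer (Q : Set G)).subgroupOf N)
  have := Fintype.ofFinite (N.subgroupOf (Subgroup.normalizer (Q : Set G)))
  let α : ↥((Subgroup.normalizer (Q : Set G)) ⊓ N) ≃* (Subgroup.normalizer (Q : Set G)).subgroupOf N :=
    { toFun := fun x => ⟨⟨(x : G), x.2.2⟩, x.2.1⟩
      invFun := fun x => ⟨((x : N) : G), x.2, (x : N).2⟩
      left_inv := fun _ => rfl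
      right_inv := fun _ => rfl
      map_mul' := fun _ _ => rfl }
  set e0 := Char.irrTransport α.symm '' e with he0
  have hQK : Q ≤ (Subgroup.normalizer (Q : Set G)) := Subgroup.le_normalizer
  have hind : Cfsg.IsInducedBlock M ((Subgroup.normalizer (Q : Set G)).subgroupOf N) e0 d := by
    refine ⟨Char.isPBlock_transport _ he, hd, ?_⟩
    rintro _ ⟨ξ, hξ, rfl⟩ θ hθ g
    have h := hed.2.2 ξ hξ θ hθ g
    convert h using 2
    rw [Cfsg.inducedCentralChar, Cfsg.inducedCentralCharIn]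
    refine finsum_mem_eq_of_bijOn α.symm ⟨fun x hx => ?_, α.symm.injective.injOn, fun y hy => ?_⟩
      (fun x _ => ?_)
    · obtain ⟨c, hc⟩ := isConj_iff.mp (hx : IsConj g (x : N))
      refine ⟨c⁻¹, ?_⟩
      show ((c⁻¹ : N) : G) * ((x : N) : G) * ((c⁻¹ : N) : G)⁻¹ = g
      rw [← hc]
      push_cast
      group
    · obtain ⟨c, hc⟩ := hy
      refine ⟨α y, isConj_iff.mpr ⟨c⁻¹, Subtype.ext ?_⟩, α.symm_apply_apply y⟩
      show ((c⁻¹ : N) : G) * (g : G) * ((c⁻¹⁻¹ : N) : G) = (y : G)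
      rw [← hc]
      push_cast
      group
    · rw [Char.irrTransport_apply, Char.irrTransport_apply, map_one]
  have hed' : Cfsg.IsDefectGroup p M e0 ((Q.subgroupOf N).subgroupOf ((Subgroup.normalizer (Q : Set G)).subgroupOf N)) := by
    have h := Char.isDefectGroup_transport α.symm hM.1 heQ
    convert h using 1
    ext x
    constructor
    · intro hx
      exact ⟨α.symm x, hx, α.apply_symm_apply x⟩
    · rintro ⟨y, hy, rfl⟩
      exact hy
  have hctx : Char.HKCtx p M N (Subgroup.normalizer (Q : Set G)) Q d e0 := ⟨rfl, hQ, hQN, hd, hdQ, hed', hind⟩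
  have hcin : ∀ c : Set (Cfsg.IrrCharacter (Subgroup.normalizer (Q : Set G))), Char.CoversIn c e0 ↔
      ∃ ψ ∈ c, ∃ ξ ∈ e, Cfsg.classInner (fun l : ↥((Subgroup.normalizer (Q : Set G)) ⊓ N) => (ψ : (Subgroup.normalizer (Q : Set G)) → ℂ)
        (Subgroup.inclusion inf_le_left l)) (ξ : ↥((Subgroup.normalizer (Q : Set G)) ⊓ N) → ℂ) ≠ 0 := by
    intro c
    let β : N.subgroupOf (Subgroup.normalizer (Q : Set G)) ≃* ↥((Subgroup.normalizer (Q : Set G)) ⊓ N) := (Char.swapEquiv (Subgroup.normalizer (Q : Set G)) N).trans α.symm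
    constructor
    · rintro ⟨ψ, hψ, η, ⟨ξ, hξ, hξη⟩, hne⟩
      refine ⟨ψ, hψ, ξ, hξ, fun h0 => hne ?_⟩
      rw [← Char.classInner_transport_equiv β] at h0
      convert h0 using 2
      · rfl
      funext x
      have := congrFun (congrArg Subtype.val hξη) (Char.swapEquiv (Subgroup.normalizer (Q : Set G)) N x)
      rw [Char.irrTransport_apply, Char.irrTransport_apply] at this
      exact (this.trans (congrArg (η : N.subgroupOf (Subgroup.normalizer (Q : Set G)) → ℂ) (MulEquiv.symm_apply_apply _ x))).symm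
    · rintro ⟨ψ, hψ, ξ, hξ, hne⟩
      refine ⟨ψ, hψ, Char.irrTransport β ξ, ⟨ξ, hξ, Subtype.ext (funext fun x => ?_)⟩, fun h0 => hne ?_⟩
      · rw [Char.irrTransport_apply, Char.irrTransport_apply, Char.irrTransport_apply]
        exact congrArg (fun z => (ξ : ↥((Subgroup.normalizer (Q : Set G)) ⊓ N) → ℂ) (α.symm z))
          ((Char.swapEquiv (Subgroup.normalizer (Q : Set G)) N).apply_symm_apply x).symm
      · rw [← Char.classInner_transport_equiv β]
        convert h0 using 2 <;> rfl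
  refine ⟨fun c hc hcov => ?_, fun B hB hcov => ?_⟩
  · obtain ⟨B, hB⟩ := Char.inducedBlockDefined_of_local hM hQ hQK
      (Subgroup.centralizer_le_normalizer _) le_rfl hc
    refine ⟨B, ⟨hB, hctx.covers_of hM hB ((hcin c).mpr hcov)⟩, ?_⟩
    rintro B' ⟨hB', -⟩
    exact Char.induced_unique hP hB' hB
  · obtain ⟨P, hPd, hPN⟩ := Char.exists_defect_inf_eq hM hB hd hcov hdQ
    have hQP : Q ≤ P := by
      refine le_trans ?_ (inf_le_left (b := N))
      rw [hPN, Subgroup.map_subgroupOf_eq_of_le hQN]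
    obtain ⟨c, hc⟩ := (Char.exists_induced_iff hM hQ hQK (Subgroup.centralizer_le_normalizer _) le_rfl
      hB).mpr ⟨P, hPd, 1, by
        rintro _ ⟨q, hq, rfl⟩
        simpa using hQP hq⟩
    refine ⟨c, ⟨⟨hc.1, (hcin c).mp (hctx.coversIn_of hM hc hcov)⟩, hc⟩, ?_⟩
    rintro c' ⟨-, hc'⟩
    exact hctx.unique hM hc' hc hcov

end Cfsg.Agent.S4674
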