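import Cfsg.Statements.S4679
import Cfsg.Agent.Lib.Char.BlockFusion

set_option autoImplicit false
open Cfsg
open scoped ComplexConjugate

namespace Cfsg.Agent.S4679

/-- Fix a prime p and a maximal ideal M of the algebraic integers containing p, a p-block B of the finite group G with maximal Brauer pair (P, e), its fusion system F on P, a Brauer pair (Q, f) ≤ (P, e), and let T be the stabilizer of f in N_G(Q). Then Q is fully normalized in F if and only if N_P(Q) is a defect group of the block of T whose idempotent is that of f. -/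
theorem result {G : Type*} [Group G] [Fintype G] (p : ℕ) [Fact p.Prime] (M : Ideal Cfsg.AlgInt) (hM : Cfsg.IsPModular p M) (B : Set (Cfsg.IrrCharacter G)) (P : Subgroup G) (e : Set (Cfsg.IrrCharacter (Subgroup.centralizer (P : Set G)))) (hmax : Cfsg.IsMaximalBrauerPair p M B P e) (F : Cfsg.FusionSystem P) (hF : Cfsg.IsBlockFusionSystemOn p M B P e F) (Q : Subgroup G) (f : Set (Cfsg.IrrCharacter (Subgroup.centralizer (Q : Set G)))) (hQP : Q ≤ P) (hf : Cfsg.IsPBlock M f) (hle : Cfsg.SubpairLE p M Q f P e) (T : Subgroup G) (hT : ∀ y : G, y ∈ T ↔ y ∈ Subgroup.normalizer (Q : Set G) ∧ Cfsg.StabilizesBlock (Subgroup.centralizer (Q : Set G)) f y) : F.IsFullyNormalized Q ↔ ∃ F' : Set (Cfsg.IrrCharacter T), Cfsg.IsPBlock M F' ∧ (∀ t : T, Cfsg.blockCoeff F' t = Cfsg.subgroupBlockCoeff (Subgroup.centralizer (Q : Set G)) f (t : G)) ∧ Cfsg.IsDefectGroup p M F' ((P ⊓ Subgroup.normalizer (Q : Set G)).subgroupOf T) := by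
  classical
  have hMp := Char.pmod_prime hM
  have hPe := hmax.1.1
  have hQp := (Char.isBrauerPair_of_le hPe hle).1
  obtain rfl : T = Char.pairStab hMp hf :=
    Subgroup.ext fun y => (hT y).trans (Char.mem_pairStab hMp hf).symm
  haveI := Fintype.ofFinite (Char.pairStab hMp hf)
  have hctx := Char.stabCtx_pairStab hM hQp hf
  obtain ⟨d, x, hd, -, -, -⟩ := Char.exists_fully hM hmax hle hf
  obtain ⟨g0, hg0, -⟩ := Char.over_normalizerIn hM hPe hle
  have hover := Char.isOver_pairStab hM hf (a := (⟨_, g0⟩ : BrauerPairIdx G)) hg0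
  obtain ⟨b, hb, hbc⟩ := hctx.exists_block hM
  rw [Char.fullyNormalized_iff hM hF hle hf hd]
  constructor
  · intro hle'
    exact ⟨b, hb, hbc, hctx.maxOver_defect hM hb hbc
      (d := (⟨P ⊓ Subgroup.normalizer (Q : Set G), g0⟩ : BrauerPairIdx G))
      ⟨hover, fun a ha => (hd.2 a ha).trans hle'⟩⟩
  · rintro ⟨F', hF', hF'c, hdef⟩
    obtain rfl : F' = b := Char.blockCoeff_inj hMp hF' hb
      (funext fun t => (hF'c t).trans (hbc t).symm)
    obtain ⟨y, hy⟩ := Char.defect_groups_conj hM hb hdef (hctx.maxOver_defect hM hb hbc hd)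
    have h1 := congrArg (fun K : Subgroup (Char.pairStab hMp hf) => Nat.card K) hy
    beta_reduce at h1
    have e1 : Nat.card (((P ⊓ Subgroup.normalizer (Q : Set G)).subgroupOf
        (Char.pairStab hMp hf)).map (MulAut.conj y).toMonoidHom) =
        Nat.card ((P ⊓ Subgroup.normalizer (Q : Set G)).subgroupOf (Char.pairStab hMp hf)) :=
      Subgroup.card_map_of_injective (MulEquiv.injective _)
    have e2 := Nat.card_congr (Subgroup.subgroupOfEquivOfLe hd.1.2).toEquiv
    have e3 : Nat.card ((P ⊓ Subgroup.normalizer (Q : Set G)).subgroupOf (Char.pairStab hMp hf)) =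
        Nat.card (P ⊓ Subgroup.normalizer (Q : Set G) : Subgroup G) :=
      Nat.card_congr (Subgroup.subgroupOfEquivOfLe hover.2).toEquiv
    omega

end Cfsg.Agent.S4679
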