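import Cfsg.Statements.S4681
import Cfsg.Agent.Lib.Char.BrauerMax
import Cfsg.Agent.Lib.Char.ThirdMain

set_option autoImplicit false
open Cfsg
open scoped ComplexConjugate

namespace Cfsg.Agent.S4681

/-- Fix a prime p and a maximal ideal M of the algebraic integers containing p. Let B₀ be the principal p-block of the finite group G, P a Sylow p-subgroup and e₀ the principal p-block of C_G(P). Then (P, e₀) is a maximal Brauer pair of B₀, and the fusion system of B₀ on (P, e₀) is the fusion system of G on P: its maps from each subgroup of P are exactly the conjugation maps into P by elements of G. -/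
theorem result {G : Type*} [Group G] [Fintype G] (p : ℕ) [Fact p.Prime] (M : Ideal Cfsg.AlgInt) (hM : Cfsg.IsPModular p M) (S : Sylow p G) : Cfsg.IsMaximalBrauerPair p M (Cfsg.principalBlock M G) (S : Subgroup G) (Cfsg.principalBlock M (Subgroup.centralizer ((S : Subgroup G) : Set G))) ∧ ∀ F : Cfsg.FusionSystem (S : Subgroup G), Cfsg.IsBlockFusionSystemOn p M (Cfsg.principalBlock M G) (S : Subgroup G) (Cfsg.principalBlock M (Subgroup.centralizer ((S : Subgroup G) : Set G))) F → ∀ Q : Subgroup G, F.Hom Q = (Cfsg.groupFusionSystem (S : Subgroup G)).Hom Q := by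
  classical
  haveI := Fintype.ofFinite (Subgroup.centralizer ((S : Subgroup G) : Set G))
  have hP := Char.pmod_prime hM
  have key : ∀ (Q : Subgroup G), IsPGroup p Q →
      ∀ f : Set (IrrCharacter (Subgroup.centralizer (Q : Set G))),
      IsBrauerPairOf p M (principalBlock M G) Q f ↔
        IsBrauerPair p M Q f ∧ f = principalBlock M (Subgroup.centralizer (Q : Set G)) := by
    intro Q hQ f
    haveI := Fintype.ofFinite (Subgroup.centralizer (Q : Set G))
    have hω : ∀ ξ : IrrCharacter (Subgroup.centralizer (Q : Set G)),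
        brauerOmega Q (blockCoeff (principalBlock M G)) (ξ : _ → ℂ) =
          Char.brLam Q (Subgroup.centralizer (Q : Set G)) (ξ : _ → ℂ)
            (blockCoeff (principalBlock M G)) := fun ξ => by
      rw [Char.brauerOmega_eq, Char.brLam]
      exact congrArg _ (funext fun c => by rw [Char.brRes, if_pos c.2]; rfl)
    constructor
    · intro h
      obtain ⟨ξ, hξ⟩ := Char.block_nonempty hP h.1.2
      have h1 := h.2.2 ξ hξ
      rw [hω, Char.third_main_brauer hM hQ] at h1
      exact ⟨h.1, (Char.eq_principal_iff hM h.1.2 hξ).mpr h1⟩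
    · rintro ⟨h, rfl⟩
      refine ⟨h, Char.isPBlock_principalBlock M, fun ξ hξ => ?_⟩
      rw [hω]
      exact (Char.third_main_brauer hM hQ ξ).mpr hξ
  have hS : IsPGroup p (S : Subgroup G) := S.isPGroup'
  have hpair : IsBrauerPairOf p M (principalBlock M G) (S : Subgroup G)
      (principalBlock M (Subgroup.centralizer ((S : Subgroup G) : Set G))) :=
    (key _ hS _).mpr ⟨⟨hS, Char.isPBlock_principalBlock M⟩, rfl⟩
  refine ⟨⟨hpair, fun R g hR hle => S.is_maximal' hR.1.1 (Char.subpair_le hle)⟩, fun F hF Q => ?_⟩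
  ext φ
  rw [hF.2 Q φ]
  constructor
  · rintro ⟨hQ, g, hg, hmap, -⟩
    refine ⟨hQ, fun x => ?_, g, hg⟩
    rw [hg x]
    exact hmap ⟨x, x.2, rfl⟩
  · rintro ⟨hQ, hS', g, hg⟩
    have hmap : Q.map (MulAut.conj g).toMonoidHom ≤ (S : Subgroup G) := by
      rintro _ ⟨x, hx, rfl⟩
      show g * x * g⁻¹ ∈ (S : Subgroup G)
      rw [← hg ⟨x, hx⟩]
      exact hS' ⟨x, hx⟩
    obtain ⟨f, ⟨hf, hfle⟩, -⟩ := Char.existsUnique_subpair hM hpair.1 hQ
    have hQp := hS.to_le hQ
    have hfpair := (Char.brauerPairOf_subpair hM hpair.2.1 hfle).mpr hpair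
    refine ⟨hQ, g, hg, hmap, f, hfle, ?_⟩
    obtain ⟨f', ⟨-, hf'le⟩, -⟩ := Char.existsUnique_subpair hM hpair.1 hmap
    have h1 := (key _ (hQp.map _) f').mp
      ((Char.brauerPairOf_subpair hM hpair.2.1 hf'le).mpr hpair)
    have h2 := (key _ (hQp.map _) _).mp (Char.brauerPairOf_conj g hfpair)
    rwa [h2.2, ← h1.2]

end Cfsg.Agent.S4681
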