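import Cfsg.Statements.S4682
import Cfsg.Agent.Lib.Char.BlockNilpotent

set_option autoImplicit false
open Cfsg
open scoped ComplexConjugate

namespace Cfsg.Agent.S4682

/-- Fix a prime p and a maximal ideal M of the algebraic integers containing p, a p-block B of the finite group G with maximal Brauer pair (P, e), P abelian, and a Brauer pair (Q, f) ≤ (P, e). Let T_Q be the stabilizer of f in N_G(Q) and T_P the stabilizer of e in N_G(P). Then every element of T_Q is a product of an element of T_P and an element of C_G(Q); and the index of C_G(Q) in T_Q equals the index of T_P ∩ C_G(Q) in T_P ∩ N_G(Q). -/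
theorem result {G : Type*} [Group G] [Fintype G] (p : ℕ) [Fact p.Prime] (M : Ideal Cfsg.AlgInt) (hM : Cfsg.IsPModular p M) (B : Set (Cfsg.IrrCharacter G)) (P : Subgroup G) (e : Set (Cfsg.IrrCharacter (Subgroup.centralizer (P : Set G)))) (hmax : Cfsg.IsMaximalBrauerPair p M B P e) (hab : ∀ x ∈ P, ∀ y ∈ P, x * y = y * x) (Q : Subgroup G) (f : Set (Cfsg.IrrCharacter (Subgroup.centralizer (Q : Set G)))) (hQP : Q ≤ P) (hf : Cfsg.IsPBlock M f) (hle : Cfsg.SubpairLE p M Q f P e) (TQ : Subgroup G) (hTQ : ∀ y : G, y ∈ TQ ↔ y ∈ Subgroup.normalizer (Q : Set G) ∧ Cfsg.StabilizesBlock (Subgroup.centralizer (Q : Set G)) f y) (TP : Subgroup G) (hTP : ∀ y : G, y ∈ TP ↔ y ∈ Subgroup.normalizer (P : Set G) ∧ Cfsg.StabilizesBlock (Subgroup.centralizer (P : Set G)) e y) : (∀ x ∈ TQ, ∃ y ∈ TP, ∃ c ∈ Subgroup.centralizer (Q : Set G), x = y * c) ∧ ((Subgroup.centralizer (Q : Set G)).subgroupOf TQ).index = ((TP ⊓ Subgroup.centralizer (Q : Set G)).subgroupOf (TP ⊓ Subgroup.normalizer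 (Q : Set G))).index := by
  classical
  have hMp := Char.pmod_prime hM
  have hPe := hmax.1.1
  have key : ∀ x ∈ TQ, ∃ y ∈ TP, y ∈ TQ ∧ ∃ c ∈ Subgroup.centralizer (Q : Set G), x = y * c := by
    intro x hx
    have hfix : Char.conjIdx x (⟨Q, f⟩ : BrauerPairIdx G) = ⟨Q, f⟩ :=
      (Char.conjIdx_eq_self_iff hMp hf x).mpr ((hTQ x).mp hx)
    obtain ⟨c, hc, hy⟩ := Char.abelian_conj_fix hM hmax hab hle (g := x) (by rw [hfix]; exact hle)
    have hxN := ((hTQ x).mp hx).1
    have hxQ : Q.map (MulAut.conj x).toMonoidHom = Q :=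
      Subgroup.mem_normalizer_iff_map_conj_eq.mp hxN
    rw [hxQ] at hc
    have hy' := (Char.conjIdx_eq_self_iff hMp hPe.2 _).mp hy
    have hcT : c ∈ TQ := (hTQ c).mpr ⟨Char.centralizer_le_norm Q hc,
      Char.stabilizesBlock_of_centralizer hM (Char.isBrauerPair_of_le hPe hle).1 hf hc⟩
    refine ⟨c * x, (hTP _).mpr hy', mul_mem hcT hx, x⁻¹ * c⁻¹ * x, ?_, by group⟩
    simpa using Char.conj_mem_centralizer (Q := Q) (inv_mem hxN) (inv_mem hc)
  refine ⟨fun x hx => let ⟨y, hy, _, h⟩ := key x hx; ⟨y, hy, h⟩, ?_⟩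
  have hback : TP ⊓ Subgroup.normalizer (Q : Set G) ≤ TQ := by
    rintro y ⟨hyP, hyN⟩
    refine (hTQ y).mpr ((Char.conjIdx_eq_self_iff hMp hf y).mp ?_)
    have h1 := Char.subpair_rel_conj hM y
      (hle : Relation.ReflTransGen (NormalSubpairRel p M) (⟨Q, f⟩ : BrauerPairIdx G) ⟨P, e⟩)
    rw [(Char.conjIdx_eq_self_iff hMp hPe.2 y).mpr ((hTP y).mp hyP)] at h1
    have h2 : Q.map (MulAut.conj y).toMonoidHom = Q :=
      Subgroup.mem_normalizer_iff_map_conj_eq.mp hyN
    refine Char.eq_of_rel_card hM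
      (Char.subpair_between hM hPe (Q := Q.map (MulAut.conj y).toMonoidHom)
        (f := conjBlock Q y f) h1 hle h2.le) (by rw [Char.card_conjIdx])
  have hsup : TQ = Subgroup.centralizer (Q : Set G) ⊔ (TP ⊓ Subgroup.normalizer (Q : Set G)) := by
    refine le_antisymm (fun x hx => ?_) (sup_le (fun c hc => (hTQ c).mpr
      ⟨Char.centralizer_le_norm Q hc,
        Char.stabilizesBlock_of_centralizer hM (Char.isBrauerPair_of_le hPe hle).1 hf hc⟩) hback)
    obtain ⟨y, hy, hyQ, c, hc, rfl⟩ := key x hx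
    exact mul_mem (Subgroup.mem_sup_right ⟨hy, ((hTQ y).mp hyQ).1⟩) (Subgroup.mem_sup_left hc)
  show (Subgroup.centralizer (Q : Set G)).relIndex TQ =
    (TP ⊓ Subgroup.centralizer (Q : Set G)).relIndex (TP ⊓ Subgroup.normalizer (Q : Set G))
  rw [hsup, Char.relIndex_sup_of_normalizes (fun y hy => ((hTQ y).mp (hback hy)).2.1),
    ← Subgroup.inf_relIndex_right (Subgroup.centralizer (Q : Set G)),
    ← Subgroup.inf_relIndex_right (TP ⊓ Subgroup.centralizer (Q : Set G))]
  congr 1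
  ext z
  simp only [Subgroup.mem_inf]
  tauto

end Cfsg.Agent.S4682
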