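import Cfsg.Statements.S4694
import Cfsg.Agent.Lib.Char.WeightPair
import Cfsg.Agent.Lib.Char.BrauerPairs

set_option autoImplicit false
open Cfsg
open scoped ComplexConjugate

namespace Cfsg.Agent.S4694

/-- Fix a prime p and a maximal ideal M of the algebraic integers containing p, a p-block B of the finite group G and a Brauer pair (Q, e) of B. Let T be the stabilizer of e in N_G(Q) and suppose that (Q, e) carries a weight: the block of T whose idempotent is that of e contains an irreducible character χ that is constant on the cosets of Q and whose degree has p-part equal to the p-part of the index of Q in T. Then Z(Q) is a defect group of e as a block of C_G(Q), and Q is the largest normal p-subgroup of T: every p-subgroup of T normalized by T lies in Q. -/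
theorem result {G : Type*} [Group G] [Fintype G] (p : ℕ) [Fact p.Prime] (M : Ideal Cfsg.AlgInt) (hM : Cfsg.IsPModular p M) (B : Set (Cfsg.IrrCharacter G)) (Q : Subgroup G) (e : Set (Cfsg.IrrCharacter (Subgroup.centralizer (Q : Set G)))) (hQe : Cfsg.IsBrauerPairOf p M B Q e) (T : Subgroup G) (hT : ∀ y : G, y ∈ T ↔ y ∈ Subgroup.normalizer (Q : Set G) ∧ Cfsg.StabilizesBlock (Subgroup.centralizer (Q : Set G)) e y) (F' : Set (Cfsg.IrrCharacter T)) (hF' : Cfsg.IsPBlock M F') (hF'e : ∀ t : T, Cfsg.blockCoeff F' t = Cfsg.subgroupBlockCoeff (Subgroup.centralizer (Q : Set G)) e (t : G)) (χ : Cfsg.IrrCharacter T) (hχ : χ ∈ F') (hχQ : ∀ q : G, q ∈ Q → ∀ t : T, ∀ t' : T, (t' : G) = q * (t : G) → (χ : T → ℂ) t' = (χ : T → ℂ) t) (hdeg : (Cfsg.charDegree (χ : T → ℂ)).factorization p + (Nat.card Q).factorization p = (Nat.card T).factorization p) : Cfsg.IsDefectGroup p M e ((Q ⊓ Subgroup.centralizer (Q : Set G)).subgroupOf (Subgroup.centralizer (Q : Set G))) ∧ ∀ R : Subgroup G, R ≤ T → IsPGroup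 p R → (∀ t ∈ T, t ∈ Subgroup.normalizer (R : Set G)) → R ≤ Q := by
  classical
  have hMp := Cfsg.Agent.Char.pmod_prime hM
  haveI := Fintype.ofFinite T
  haveI := Fintype.ofFinite (Subgroup.centralizer (Q : Set G))
  have hQN : Q ≤ Subgroup.normalizer (Q : Set G) := Subgroup.le_normalizer
  have hQT : Q ≤ T := fun q hq => (hT q).mpr ⟨hQN hq, by
    refine ⟨?_, fun ξ hξ => ⟨ξ, hξ, fun k k' hk => ?_⟩⟩
    · rw [Subgroup.mem_normalizer_iff]
      intro c
      constructor
      · intro hc
        rw [(Subgroup.mem_centralizer_iff.mp hc q hq), mul_inv_cancel_right]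
        exact hc
      · intro hc
        have h1 := Subgroup.mem_centralizer_iff.mp hc q hq
        have e : q * c * q⁻¹ = c := by
          have h2 : q * c * q⁻¹ = q⁻¹ * (q * c * q⁻¹ * q) := by
            rw [← h1, inv_mul_cancel_left]
          rw [h2]
          group
        exact e ▸ hc
    · rw [show k' = k from Subtype.ext (by
        rw [hk, Subgroup.mem_centralizer_iff.mp k.2 q hq, mul_inv_cancel_right])]⟩
  have hCT : (Subgroup.centralizer (Q : Set G)) ≤ T := fun c hc => (hT c).mpr ⟨Subgroup.centralizer_le_normalizer (Q : Set G) hc, by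
    refine ⟨Subgroup.le_normalizer hc, fun ξ hξ => ⟨ξ, hξ, fun k k' hk => ?_⟩⟩
    rw [show k' = ⟨c, hc⟩ * k * ⟨c, hc⟩⁻¹ from Subtype.ext hk]
    exact Cfsg.Agent.Char.isClassFunction_character (Cfsg.Agent.Char.irr_isCharacter ξ.2) k _⟩
  haveI hQn : (Q.subgroupOf T).Normal := ⟨fun q hq t =>
    (Subgroup.mem_normalizer_iff.mp ((hT t).mp t.2).1 (q : G)).mp hq⟩
  have hQp : IsPGroup p Q := hQe.1.1
  have hQ'p : IsPGroup p (Q.subgroupOf T) :=
    hQp.of_equiv (Subgroup.subgroupOfEquivOfLe hQT).symm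
  have htriv : ∀ u ∈ Q.subgroupOf T, (χ : T → ℂ) u = (χ : T → ℂ) 1 := fun u hu =>
    hχQ (u : G) hu 1 u (by rw [OneMemClass.coe_one, mul_one])
  have hd : (Cfsg.Agent.Char.deg (χ : T → ℂ)).factorization p =
      (Q.subgroupOf T).index.factorization p := by
    rw [← Cfsg.Agent.Char.charDegree_eq_deg]
    have e := congrArg (fun n => n.factorization p) (Subgroup.card_mul_index (Q.subgroupOf T))
    rw [Nat.factorization_mul Nat.card_pos.ne' Subgroup.index_ne_zero_of_finite,
      Finsupp.add_apply, Nat.card_congr (Subgroup.subgroupOfEquivOfLe hQT).toEquiv] at e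
    omega
  refine ⟨?_, fun R hRT hR hRn => ?_⟩
  · let ι : (Subgroup.centralizer (Q : Set G)) →* T := Subgroup.inclusion hCT
    have hn : ι.range.Normal := by
      refine ⟨?_⟩
      rintro _ ⟨c, rfl⟩ t
      have hm : (t : G) * (c : G) * (t : G)⁻¹ ∈ (Subgroup.centralizer (Q : Set G)) :=
        (Subgroup.mem_normalizer_iff.mp ((hT t).mp t.2).2.1 (c : G)).mp c.2
      exact ⟨⟨_, hm⟩, Subtype.ext rfl⟩
    obtain ⟨ψ, hψ, hcd⟩ := Cfsg.Agent.Char.Weight.exists_below (θ := χ) ι hn hQ'p
      (fun q hq c => Subtype.ext (Subgroup.mem_centralizer_iff.mp c.2 (q : G) hq))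
      (Subgroup.inclusion_injective hCT) htriv hd
    have hψe : ψ ∈ e := by
      by_contra hne
      have hres : Cfsg.IsCharacter (Subgroup.centralizer (Q : Set G)) (fun c => (χ : T → ℂ) (ι c)) :=
        Cfsg.Agent.Char.isCharacter_comp ι (Cfsg.Agent.Char.irr_isCharacter χ.2)
      obtain ⟨m, hm⟩ := Cfsg.Agent.Char.exists_decomposition hres
      have h1 := Cfsg.Agent.Char.lam_blockCoeff F' χ
      rw [if_pos hχ, Cfsg.Agent.Char.lam, div_eq_one_iff_eq (Cfsg.Agent.Char.irr_one_ne_zero χ.2)]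
        at h1
      have h2 : ∑ x : T, Cfsg.blockCoeff F' x * (χ : T → ℂ) x =
          ∑ c : (Subgroup.centralizer (Q : Set G)), Cfsg.blockCoeff e c * (χ : T → ℂ) (ι c) := by
        rw [← Finset.sum_filter_of_ne (p := fun x : T => (x : G) ∈ (Subgroup.centralizer (Q : Set G))) (fun x _ hx => by
          by_contra hxC
          exact hx (by rw [hF'e, Cfsg.subgroupBlockCoeff, dif_neg hxC, zero_mul]))]
        refine Finset.sum_bij' (fun x hx => (⟨(x : G), (Finset.mem_filter.mp hx).2⟩ : (Subgroup.centralizer (Q : Set G))))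
          (fun c _ => ι c) (fun x hx => Finset.mem_univ _)
          (fun c _ => Finset.mem_filter.mpr ⟨Finset.mem_univ _, c.2⟩)
          (fun x hx => Subtype.ext rfl) (fun c _ => Subtype.ext rfl) (fun x hx => ?_)
        rw [hF'e, Cfsg.subgroupBlockCoeff, dif_pos (Finset.mem_filter.mp hx).2]
        rfl
      have h3 : ∀ ζ : Cfsg.IrrCharacter (Subgroup.centralizer (Q : Set G)), ∑ c : (Subgroup.centralizer (Q : Set G)), Cfsg.blockCoeff e c * (ζ : (Subgroup.centralizer (Q : Set G)) → ℂ) c =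
          if ζ ∈ e then (ζ : (Subgroup.centralizer (Q : Set G)) → ℂ) 1 else 0 := by
        intro ζ
        have h4 := Cfsg.Agent.Char.lam_blockCoeff e ζ
        rw [Cfsg.Agent.Char.lam, div_eq_iff (Cfsg.Agent.Char.irr_one_ne_zero ζ.2)] at h4
        rw [h4]
        split_ifs <;> simp
      have hev : ∀ c : (Subgroup.centralizer (Q : Set G)), (χ : T → ℂ) (ι c) =
          ∑ ζ : Cfsg.IrrCharacter (Subgroup.centralizer (Q : Set G)), (m ζ : ℂ) * (ζ : (Subgroup.centralizer (Q : Set G)) → ℂ) c := fun c => by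
        have h5 := congrFun hm c
        simpa [Finset.sum_apply, nsmul_eq_mul] using h5
      have h6 : (χ : T → ℂ) 1 = ∑ ζ : Cfsg.IrrCharacter (Subgroup.centralizer (Q : Set G)),
          (m ζ : ℂ) * (ζ : (Subgroup.centralizer (Q : Set G)) → ℂ) 1 := by
        rw [← hev 1, map_one]
      simp only [h2, hev, Finset.mul_sum] at h1
      rw [Finset.sum_comm] at h1
      simp only [mul_left_comm _ ((m _ : ℕ) : ℂ), ← Finset.mul_sum, h3] at h1
      rw [h6] at h1
      have h7 : ∑ ζ : Cfsg.IrrCharacter (Subgroup.centralizer (Q : Set G)), (if ζ ∈ e then 0 else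
          m ζ * Cfsg.Agent.Char.deg (ζ : (Subgroup.centralizer (Q : Set G)) → ℂ)) = 0 := by
        rw [← Nat.cast_eq_zero (R := ℂ), Nat.cast_sum, ← sub_eq_zero.mpr h1.symm,
          ← Finset.sum_sub_distrib]
        refine Finset.sum_congr rfl fun ζ _ => ?_
        rw [Cfsg.Agent.Char.char_one_eq_deg (Cfsg.Agent.Char.irr_isCharacter ζ.2)]
        split_ifs <;> simp
      have h8 := Finset.sum_eq_zero_iff.mp h7 ψ (Finset.mem_univ _)
      rw [if_neg hne] at h8
      exact hψ (by
        rw [Cfsg.Agent.Char.decomposition_coeff m hm ψ,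
          (Nat.mul_eq_zero.mp h8).resolve_right (Cfsg.Agent.Char.deg_pos ψ.2).ne', Nat.cast_zero])
    have hd2 := Cfsg.Agent.Char.Weight.defect hcd hM hQe.1.2 hψe
    have heq : (Q ⊓ (Subgroup.centralizer (Q : Set G))).subgroupOf (Subgroup.centralizer (Q : Set G)) = (Q.subgroupOf T).comap ι := by
      ext c
      exact ⟨fun h => (Subgroup.mem_subgroupOf.mp h).1, fun h => Subgroup.mem_subgroupOf.mpr ⟨h, c.2⟩⟩
    rw [heq]
    exact hd2
  · haveI : (R.subgroupOf T).Normal := ⟨fun r hr t =>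
      (Subgroup.mem_normalizer_iff.mp (hRn t t.2) (r : G)).mp hr⟩
    have h1 := Cfsg.Agent.Char.Weight.normal_pgroup_le hQ'p htriv hd (R.subgroupOf T)
      (hR.of_equiv (Subgroup.subgroupOfEquivOfLe hRT).symm)
    exact fun r hr => Subgroup.mem_subgroupOf.mp (h1 (show (⟨r, hRT hr⟩ : T) ∈ R.subgroupOf T from hr))

end Cfsg.Agent.S4694
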