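import Cfsg.Statements.S4699
import Cfsg.Agent.Lib.Solv.RelTraceCyclic

set_option autoImplicit false
open Cfsg

namespace Cfsg.Agent.S4699

/-- Let p be a prime and G a finite group whose Sylow p-subgroup P is cyclic of order p^n with n ≥ 2 and meets every other Sylow p-subgroup trivially. Then every faithful irreducible representation of G on a finite-dimensional space over a finite field of characteristic p has dimension at least p^n − (p − 1). -/
theorem result {G : Type*} [Group G] [Finite G] (p : ℕ) [Fact p.Prime] (P : Sylow p G) (hcyc : IsCyclic P) (n : ℕ) (hn : 2 ≤ n) (hPn : Nat.card P = p ^ n) (hTI : ∀ Q : Sylow p G, Q ≠ P → (P : Subgroup G) ⊓ (Q : Subgroup G) = ⊥) (F : Type*) [Field F] [Finite F] [CharP F p] (V : Type*) [AddCommGroup V] [Module F V] [FiniteDimensional F V] (ρ : Representation F G V) (hfaith : Function.Injective ρ) (hirr : ρ.IsIrreducible) : p ^ n - (p - 1) ≤ Module.finrank F V := by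
  classical
  haveI : Fintype G := Fintype.ofFinite G
  set N : Subgroup G := Subgroup.normalizer ((P : Subgroup G) : Set G) with hN
  set q : ℕ := p ^ n with hq
  have hp : p.Prime := Fact.out
  obtain ⟨x, hx⟩ := hcyc.exists_generator
  have hox : orderOf x = q := by
    rw [orderOf_eq_card_of_forall_mem_zpowers hx, hPn]
  set a : Module.End F V := ρ (x : G) with ha
  set b : Module.End F V := ρ (x : G)⁻¹ with hb
  have hab : a * b = 1 := by rw [ha, hb, ← map_mul, mul_inv_cancel, map_one]
  have hba : b * a = 1 := by rw [ha, hb, ← map_mul, inv_mul_cancel, map_one]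
  have haq : a ^ q = 1 := by
    rw [ha, ← map_pow, ← SubmonoidClass.coe_pow, ← hox, pow_orderOf_eq_one, OneMemClass.coe_one,
      map_one]
  have hnil : IsNilpotent (a - 1) :=
    ⟨q, by rw [hq, Cfsg.Agent.Solv.RelTrace.sub_one_pow (F := F) p, ← hq, haq, sub_self]⟩
  set D := Module.finrank F V with hDdef
  have hD : (a - 1) ^ D = 0 := by
    have h := LinearMap.aeval_self_charpoly (a - 1)
    rwa [IsNilpotent.charpoly_eq_X_pow_finrank hnil, map_pow, Polynomial.aeval_X] at h
  have hsmall : p ^ (n - 1) < q := Nat.pow_lt_pow_right hp.one_lt (by omega)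
  have hXne : (a - 1) ^ p ^ (n - 1) ≠ 0 := by
    rw [Cfsg.Agent.Solv.RelTrace.sub_one_pow (F := F) p, ne_eq, sub_eq_zero, ha, ← map_pow]
    intro h
    have h1 : ((x : G)) ^ p ^ (n - 1) = 1 := hfaith (by rw [h, map_one])
    have h2 : orderOf x ∣ p ^ (n - 1) := orderOf_dvd_of_pow_eq_one (Subtype.ext (by simpa using h1))
    rw [hox] at h2
    exact absurd (Nat.le_of_dvd (pow_pos hp.pos _) h2) (by omega)
  by_contra hlt
  push Not at hlt
  set m := q - D with hm
  have hmp : p ≤ m := by omega
  -- the automorphisms induced by the normaliser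
  set φ := Subgroup.normalizerMonoidHom (P : Subgroup G) with hφ
  set Γ := φ.range with hΓ
  haveI : Fintype Γ := Fintype.ofFinite Γ
  set d := Fintype.card Γ with hd
  have hd1 : 1 ≤ d := Fintype.card_pos
  have hdp : d ≤ p - 1 := by
    have hdvd : Nat.card Γ ∣ p ^ (n - 1) * (p - 1) := by
      have h := Subgroup.card_subgroup_dvd_card Γ
      rwa [IsCyclic.card_mulAut, hPn, Nat.totient_prime_pow hp (by omega)] at h
    have hcomm : ∀ y z : P, y * z = z * y := fun y z => by
      obtain ⟨i, rfl⟩ := Subgroup.mem_zpowers_iff.1 (hx y)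
      obtain ⟨j, rfl⟩ := Subgroup.mem_zpowers_iff.1 (hx z)
      rw [← zpow_add, ← zpow_add, add_comm]
    have hle : ((P : Subgroup G).subgroupOf N) ≤ φ.ker := fun g hg => by
      rw [MonoidHom.mem_ker]
      refine MulEquiv.ext fun y => Subtype.ext ?_
      have := congrArg (Subtype.val (p := fun z => z ∈ (P : Subgroup G))) (hcomm ⟨g, hg⟩ y)
      rw [Subgroup.coe_mul, Subgroup.coe_mul] at this
      show (g : G) * y * (g : G)⁻¹ = y
      rw [this, mul_inv_cancel_right]
    have hndvd : ¬ p ∣ Nat.card Γ := fun h => by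
      have h1 : Nat.card Γ ∣ (P : Subgroup G).relIndex N := by
        rw [hΓ, ← Subgroup.index_ker]
        exact Subgroup.index_dvd_of_le hle
      have h2 : (P : Subgroup G).relIndex N ∣ (P : Subgroup G).index :=
        Subgroup.relIndex_dvd_index_of_le (Subgroup.le_normalizer)
      exact P.not_dvd_index (h.trans (h1.trans h2))
    have := Nat.le_of_dvd (by have := hp.two_le; omega)
      ((Nat.Coprime.pow_right (n - 1) ((hp.coprime_iff_not_dvd.2 hndvd).symm)).dvd_of_dvd_mul_left hdvd)
    rw [hd, ← Nat.card_eq_fintype_card]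
    exact this
  -- the invariant element of the group algebra
  letI : CommGroup P := IsCyclic.commGroup
  set Φ : MonoidAlgebra F P →ₐ[F] Module.End F V :=
    MonoidAlgebra.lift F (Module.End F V) P (ρ.comp (P : Subgroup G).subtype) with hΦ
  have hΦof : ∀ y : P, Φ (MonoidAlgebra.of F P y) = ρ (y : G) := fun y => by
    rw [hΦ, MonoidAlgebra.lift_of]; rfl
  set w0 : MonoidAlgebra F P :=
    ∏ σ : Γ, (MonoidAlgebra.of F P ((σ : MulAut P) x) - 1) with hw0
  set W := Φ w0 with hW
  have hWN : ∀ g ∈ N, ρ g * W * ρ g⁻¹ = W := by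
    intro g hg
    set σ0 : MulAut P := φ ⟨g, hg⟩ with hσ0
    have key : ∀ z, Φ (MonoidAlgebra.mapDomainAlgHom F F σ0.toMonoidHom z) = ρ g * Φ z * ρ g⁻¹ := by
      intro z
      induction z using MonoidAlgebra.induction_on with
      | of y =>
        have : MonoidAlgebra.mapDomainAlgHom F F σ0.toMonoidHom (MonoidAlgebra.of F P y)
            = MonoidAlgebra.of F P (σ0 y) := by
          simp
        rw [this, hΦof, hΦof, ← map_mul, ← map_mul]
        rfl
      | add z1 z2 h1 h2 => rw [map_add, map_add, h1, h2, map_add, mul_add, add_mul]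
      | smul c z h => rw [map_smul, map_smul, h, map_smul, mul_smul_comm, smul_mul_assoc]
    rw [hW, ← key, hw0, map_prod (MonoidAlgebra.mapDomainAlgHom F F σ0.toMonoidHom)]
    congr 1
    refine Fintype.prod_equiv (Equiv.mulLeft (⟨σ0, ⟨g, hg⟩, rfl⟩ : Γ)) _ _ fun σ => ?_
    rw [map_sub, map_one]
    simp
  obtain ⟨u, hu⟩ : ∃ u : (MonoidAlgebra F P)ˣ,
      w0 = (MonoidAlgebra.of F P x - 1) ^ d * (u : MonoidAlgebra F P) := by
    set t := MonoidAlgebra.of F P x with ht
    have htn : IsNilpotent (t - 1) := ⟨q, by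
      rw [hq, Cfsg.Agent.Solv.RelTrace.sub_one_pow (F := F) p, ← hq, ht, ← map_pow, ← hox,
        pow_orderOf_eq_one, map_one, sub_self]⟩
    have hfac : ∀ σ : Γ, ∃ v : (MonoidAlgebra F P)ˣ,
        MonoidAlgebra.of F P ((σ : MulAut P) x) - 1 = (t - 1) * (v : MonoidAlgebra F P) := by
      intro σ
      obtain ⟨k, hk⟩ : ∃ k : ℕ, x ^ k = (σ : MulAut P) x :=
        Submonoid.mem_powers_iff _ _ |>.1 (mem_powers_iff_mem_zpowers.2 (hx _))
      have hkp : ¬ p ∣ k := fun ⟨l, hl⟩ => by
        have h1 : ((σ : MulAut P) x) ^ p ^ (n - 1) = 1 := by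
          rw [← hk, hl, ← pow_mul, mul_assoc, mul_comm l, ← mul_assoc, ← pow_succ',
            Nat.sub_add_cancel (by omega : 1 ≤ n), ← hq, pow_mul, ← hox, pow_orderOf_eq_one,
            one_pow]
        rw [← map_pow, MulEquiv.map_eq_one_iff] at h1
        have h2 := orderOf_dvd_of_pow_eq_one h1
        rw [hox] at h2
        exact absurd (Nat.le_of_dvd (pow_pos hp.pos _) h2) (by omega)
      obtain ⟨c, hc⟩ : (t - 1) ∣ ∑ i ∈ Finset.range k, (t ^ i - 1) :=
        Finset.dvd_sum fun i _ => sub_one_dvd_pow_sub_one t i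
      have hgu : IsUnit (∑ i ∈ Finset.range k, t ^ i) := by
        have heq : ∑ i ∈ Finset.range k, t ^ i = algebraMap F _ (k : F) + (t - 1) * c := by
          rw [← hc, Finset.sum_sub_distrib, Finset.sum_const, Finset.card_range, nsmul_one,
            map_natCast]
          ring
        rw [heq]
        refine IsNilpotent.isUnit_add_left_of_commute ?_ ?_ (Commute.all _ _)
        · exact (Commute.all _ _).isNilpotent_mul_right htn
        · refine IsUnit.map _ (IsUnit.mk0 _ ?_)
          rwa [ne_eq, CharP.cast_eq_zero_iff F p]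
      refine ⟨hgu.unit, ?_⟩
      rw [← hk, map_pow, ← ht, IsUnit.unit_spec, mul_geom_sum]
    choose v hv using hfac
    refine ⟨∏ σ : Γ, v σ, ?_⟩
    rw [hw0, Units.coe_prod, Finset.prod_congr rfl fun σ _ => hv σ, Finset.prod_mul_distrib,
      Finset.prod_const, Finset.card_univ]
  have hWeq : W = (a - 1) ^ d * Φ (u : MonoidAlgebra F P) := by
    rw [hW, hu, map_mul, map_pow, map_sub, map_one, hΦof]
  -- the relative trace
  haveI : Fintype (G ⧸ N) := Fintype.ofFinite _
  let f : G ⧸ N → Module.End F V := Quotient.lift (fun g : G => ρ g * W * ρ g⁻¹) (by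
    intro g h hgh
    have hmem : g⁻¹ * h ∈ N := QuotientGroup.leftRel_apply.1 hgh
    show ρ g * W * ρ g⁻¹ = ρ h * W * ρ h⁻¹
    obtain ⟨k, rfl⟩ : ∃ k, h = g * k := ⟨g⁻¹ * h, by group⟩
    rw [inv_mul_cancel_left] at hmem
    rw [mul_inv_rev, map_mul, map_mul]
    calc ρ g * W * ρ g⁻¹ = ρ g * (ρ k * W * ρ k⁻¹) * ρ g⁻¹ := by rw [hWN _ hmem]
      _ = _ := by simp only [mul_assoc])
  have hfsmul : ∀ (h : G) (c : G ⧸ N), f (h • c) = ρ h * f c * ρ h⁻¹ := by
    intro h c
    induction c using QuotientGroup.induction_on with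
    | _ g =>
      show ρ (h * g) * W * ρ (h * g)⁻¹ = ρ h * (ρ g * W * ρ g⁻¹) * ρ h⁻¹
      rw [mul_inv_rev, map_mul, map_mul]
      simp only [mul_assoc]
  set ψ := ∑ c : G ⧸ N, f c with hψ
  have hψcomm : ∀ h : G, ρ h * ψ = ψ * ρ h := by
    intro h
    have h1 : ρ h * ψ * ρ h⁻¹ = ψ := by
      rw [hψ, Finset.mul_sum, Finset.sum_mul]
      exact Fintype.sum_equiv (MulAction.toPerm h) _ _ fun c => (hfsmul h c).symm
    calc ρ h * ψ = ρ h * ψ * (ρ h⁻¹ * ρ h) := by rw [← map_mul, inv_mul_cancel, map_one, mul_one]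
      _ = ρ h * ψ * ρ h⁻¹ * ρ h := by simp only [mul_assoc]
      _ = ψ * ρ h := by rw [h1]
  set base : G ⧸ N := ((1 : G) : G ⧸ N) with hbase
  have hrest : ∀ v : V, (∑ c ∈ Finset.univ.erase base, f c) v ∈
      LinearMap.range ((a - 1) ^ m) := by
    intro v
    refine Cfsg.Agent.Solv.RelTrace.sum_free_orbits_mem p n D a b hab hba hD f
      (fun i c => (x : G) ^ i • c) ?_ ?_ ?_ ?_ _ ?_ ?_ v
    · intro c; simp only [pow_zero, one_smul]
    · intro i j c; simp only [smul_smul, ← pow_add]
    · intro c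
      simp only [← hq, ← SubmonoidClass.coe_pow, ← hox, pow_orderOf_eq_one, OneMemClass.coe_one,
        one_smul]
    · intro i c
      rw [hfsmul, ← inv_pow, map_pow, map_pow]
    · intro c hc i
      refine Finset.mem_erase.2 ⟨fun h => (Finset.mem_erase.1 hc).1 ?_, Finset.mem_univ _⟩
      have hxi : ((x : G) ^ i)⁻¹ ∈ N := N.inv_mem (N.pow_mem (Subgroup.le_normalizer x.2) i)
      calc c = ((x : G) ^ i)⁻¹ • ((x : G) ^ i • c) := by rw [inv_smul_smul]
        _ = ((x : G) ^ i)⁻¹ • base := by rw [h]
        _ = base := by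
          rw [hbase, MulAction.Quotient.smul_coe, smul_eq_mul, mul_one]
          exact QuotientGroup.eq.2 (by rw [mul_one, inv_inv]; exact inv_inv ((x : G) ^ i) ▸ N.inv_mem hxi)
    · intro c hc i hi j hj hij
      wlog hle : i ≤ j generalizing i j
      · exact (this j hj i hi hij.symm (by omega)).symm
      obtain ⟨g, rfl⟩ := QuotientGroup.mk_surjective c
      have hstab : (x : G) ^ (j - i) • (g : G ⧸ N) = g := by
        apply MulAction.injective ((x : G) ^ i)
        simp only at hij ⊢
        rw [smul_smul, ← pow_add, Nat.add_sub_cancel' hle, hij]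
      rw [MulAction.Quotient.smul_coe, smul_eq_mul, QuotientGroup.eq] at hstab
      set u0 : G := g⁻¹ * (x : G) ^ (j - i) * g with hu0
      have hu0N : u0 ∈ N := by
        have := N.inv_mem hstab
        rwa [mul_inv_rev, inv_inv, ← mul_assoc] at this
      have hxq : (x : G) ^ q = 1 := by
        rw [← SubmonoidClass.coe_pow, ← hox, pow_orderOf_eq_one, OneMemClass.coe_one]
      have hu0q : u0 ^ q = 1 := by
        rw [hu0, ← MulAut.conj_inv_apply, ← map_pow, ← pow_mul, mul_comm, pow_mul, hxq, one_pow,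
          map_one]
      have hQp : IsPGroup p ↥(Subgroup.zpowers u0) := by
        rintro ⟨y, hy⟩
        obtain ⟨k, rfl⟩ := Subgroup.mem_zpowers_iff.1 hy
        refine ⟨n, Subtype.ext ?_⟩
        rw [SubmonoidClass.coe_pow, OneMemClass.coe_one, ← zpow_natCast, ← zpow_mul, mul_comm,
          zpow_mul, zpow_natCast, ← hq, hu0q, one_zpow]
      have hu0P : u0 ∈ (P : Subgroup G) := by
        have h1 : u0 ∈ Subgroup.zpowers u0 ⊓ Subgroup.normalizer ((P : Subgroup G) : Set G) :=
          Subgroup.mem_inf.2 ⟨Subgroup.mem_zpowers _, hu0N⟩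
        rw [show Subgroup.zpowers u0 ⊓ Subgroup.normalizer ((P : Subgroup G) : Set G) = Subgroup.zpowers u0 ⊓ (P : Subgroup G) from hQp.inf_normalizer_sylow P] at h1
        exact (Subgroup.mem_inf.1 h1).2
      have hmem : (x : G) ^ (j - i) ∈ ((g • P : Sylow p G) : Subgroup G) := by
        have h1 := Subgroup.smul_mem_pointwise_smul u0 (MulAut.conj g) (P : Subgroup G) hu0P
        have h2 : MulAut.conj g • u0 = (x : G) ^ (j - i) := by
          rw [MulAut.smul_def, MulAut.conj_apply, hu0]
          group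
        rwa [h2] at h1
      by_cases hQ : g • P = P
      · have hgN : g ∈ N := Sylow.smul_eq_iff_mem_normalizer.1 hQ
        exfalso
        apply (Finset.mem_erase.1 hc).1
        rw [hbase, QuotientGroup.eq, mul_one]
        exact N.inv_mem hgN
      · have h1 : (x : G) ^ (j - i) ∈ (P : Subgroup G) ⊓ ((g • P : Sylow p G) : Subgroup G) :=
          Subgroup.mem_inf.2 ⟨(P : Subgroup G).pow_mem x.2 _, hmem⟩
        rw [hTI _ hQ, Subgroup.mem_bot] at h1
        have h2 : orderOf x ∣ j - i := orderOf_dvd_of_pow_eq_one (Subtype.ext (by simpa using h1))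
        rw [hox] at h2
        have := Nat.eq_zero_of_dvd_of_lt h2 (by omega)
        omega
  have hW1 : ∀ v : V, W v = ψ v - (∑ c ∈ Finset.univ.erase base, f c) v := by
    intro v
    have h1 : f base = W := by
      show ρ 1 * W * ρ 1⁻¹ = W
      simp
    rw [hψ, ← Finset.add_sum_erase _ _ (Finset.mem_univ base), h1, LinearMap.add_apply,
      add_sub_cancel_right]
  -- Schur
  let ψi : Representation.IntertwiningMap ρ ρ := ⟨ψ, fun h => (hψcomm h).symm⟩
  have hpos : 0 < d ∧ d < m := by have := hp.two_le; omega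
  rcases Representation.IsIrreducible.bijective_or_eq_zero ψi with hbij | hzero
  · have hrange : ∀ v, ψ v ∈ LinearMap.range (a - 1) := by
      intro v
      have h2 : ψ v = W v + (∑ c ∈ Finset.univ.erase base, f c) v := by rw [hW1, sub_add_cancel]
      rw [h2]
      refine Submodule.add_mem _ ?_ ?_
      · rw [hWeq, ← Nat.sub_add_cancel hd1, pow_succ', mul_assoc, Module.End.mul_apply]
        exact LinearMap.mem_range_self _ _
      · obtain ⟨v', hv'⟩ := hrest v
        rw [← hv', ← Nat.sub_add_cancel (by omega : 1 ≤ m), pow_succ', Module.End.mul_apply]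
        exact LinearMap.mem_range_self _ _
    have hsurj : Function.Surjective (a - 1 : Module.End F V) := fun v => by
      obtain ⟨v', hv'⟩ := hbij.2 v
      obtain ⟨z, hz⟩ := hrange v'
      exact ⟨z, hz.trans hv'⟩
    apply hXne
    have hiter : Function.Surjective (((a - 1) ^ D : Module.End F V)) := by
      rw [Module.End.coe_pow]; exact hsurj.iterate D
    refine LinearMap.ext fun v => ?_
    obtain ⟨z, rfl⟩ := hiter v
    rw [hD]
    simp
  · have hψ0 : ψ = 0 := congrArg (fun i : Representation.IntertwiningMap ρ ρ => i.toLinearMap) hzero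
    have hsub : ∀ v, ((a - 1) ^ d) v ∈ LinearMap.range ((a - 1) ^ m) := by
      intro v
      have hinv : W ((Φ ((u⁻¹ : (MonoidAlgebra F P)ˣ) : MonoidAlgebra F P)) v) = ((a - 1) ^ d) v := by
        rw [hWeq, Module.End.mul_apply, ← Module.End.mul_apply (Φ _) (Φ _), ← map_mul, Units.mul_inv,
          map_one, Module.End.one_apply]
      rw [← hinv, hW1, hψ0, LinearMap.zero_apply, zero_sub]
      exact Submodule.neg_mem _ (hrest _)
    have hind : ∀ j : ℕ, ∀ v, ((a - 1) ^ d) v ∈ LinearMap.range ((a - 1) ^ (d + j * (m - d))) := by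
      intro j
      induction j with
      | zero => intro v; simp
      | succ j ih =>
        intro v
        obtain ⟨v', hv'⟩ := hsub v
        obtain ⟨z, hz⟩ := ih v'
        refine ⟨z, ?_⟩
        rw [← hv', show d + (j + 1) * (m - d) = (m - d) + (d + j * (m - d)) by
            rw [Nat.succ_mul]; omega,
          pow_add, Module.End.mul_apply, hz, ← Module.End.mul_apply, ← pow_add,
          Nat.sub_add_cancel hpos.2.le]
    apply hXne
    have hd2 : d ≤ p ^ (n - 1) := le_trans (le_trans hdp (Nat.sub_le _ _))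
      (Nat.le_self_pow (by omega) p)
    rw [← Nat.sub_add_cancel hd2, pow_add]
    refine LinearMap.ext fun v => ?_
    obtain ⟨z, hz⟩ := hind D v
    have hge : D ≤ d + D * (m - d) := by
      have : D * 1 ≤ D * (m - d) := Nat.mul_le_mul_left D (by omega)
      omega
    rw [Module.End.mul_apply, ← hz, pow_eq_zero_of_le hge hD]
    simp

end Cfsg.Agent.S4699
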