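import Cfsg.Statements.S4701
import Cfsg.Agent.Lib.Solv.BrauerReynoldsReduce
-- import your own Cfsg.Agent.* helpers here

set_option autoImplicit false
open Cfsg

namespace Cfsg.Agent.S4701

/-- Let G be a finite perfect group and p a prime dividing the order of G with p^3 larger than the order of G. Suppose a Sylow p-subgroup of G is not normal and G has no normal subgroup of order 2. Then p > 3 and G is isomorphic to PSL(2, p), or to SL(2, 2^m) with p = 2^m + 1. -/
theorem result {G : Type*} [Group G] [Finite G] (hperf : commutator G = ⊤) (p : ℕ) [Fact p.Prime] (hdvd : p ∣ Nat.card G) (hbig : Nat.card G < p ^ 3) (P : Sylow p G) (hP : ¬ (P : Subgroup G).Normal) (h2 : ∀ N : Subgroup G, N.Normal → Nat.card N ≠ 2) : (∃ (F : Type) (_ : Field F) (_ : Fintype F), Fintype.card F = p ∧ 3 < p ∧ Nonempty (G ≃* Matrix.ProjectiveSpecialLinearGroup (Fin 2) F)) ∨ (∃ (m : ℕ) (F : Type) (_ : Field F) (_ : Fintype F), Fintype.card F = 2 ^ m ∧ p = 2 ^ m + 1 ∧ 3 < p ∧ Nonempty (G ≃* Matrix.SpecialLinearGroup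 (Fin 2) F)) := by
  have hp : p.Prime := Fact.out
  obtain ⟨hP1, hn⟩ := Solv.BReyn.large_prime hperf hdvd hbig P hP
  obtain ⟨n, hN⟩ := Solv.BReyn.exists_count (G := G) (p := p)
  obtain ⟨hKp, hmax⟩ := Solv.BReyn.core_spec (G := G) (p := p)
  obtain ⟨hc, -⟩ := Solv.BReyn.reduce hperf P hP1 hN (Solv.BReyn.not_exceptional (hn n hN))
    (pPrimeCore p G) hKp hmax
  have hp3 : 5 ≤ p := by
    rcases hc with ⟨_, _, _, _, h, _⟩ | ⟨_, _, _, _, _, _, h, _⟩ <;>
    · by_contra h5
      have : p = 4 := by omega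
      subst this
      exact absurd hp (by norm_num)
  have hK : pPrimeCore p G = ⊥ := by
    rw [← Subgroup.card_eq_one]
    have hG := Subgroup.card_eq_card_quotient_mul_card_subgroup (pPrimeCore p G)
    have hk := h2 (pPrimeCore p G) inferInstance
    have hk0 : 0 < Nat.card (pPrimeCore p G) := Nat.card_pos
    by_contra h1
    have hk3 : 3 ≤ Nat.card (pPrimeCore p G) := by omega
    have h3 : Nat.card (G ⧸ pPrimeCore p G) * 3 < p ^ 3 := by
      refine lt_of_le_of_lt ?_ hbig
      rw [hG]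
      exact Nat.mul_le_mul_left _ hk3
    obtain ⟨q, rfl⟩ : ∃ q, p = q + 5 := ⟨p - 5, by omega⟩
    rcases hc.card with h | h
    · rw [show (q + 5) ^ 2 - 1 = (q + 4) * (q + 6) by
        rw [Nat.sub_eq_iff_eq_add (by nlinarith)]; ring] at h
      ring_nf at h h3
      nlinarith [Nat.zero_le (q ^ 3), Nat.zero_le (q ^ 2), Nat.zero_le q]
    · rw [show q + 5 - 1 = q + 4 by omega, show q + 5 - 2 = q + 3 by omega] at h
      rw [h] at h3
      nlinarith
  exact hc.congr ((QuotientGroup.quotientBot (G := G)).symm.trans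
    (QuotientGroup.quotientMulEquivOfEq hK.symm))

end Cfsg.Agent.S4701
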