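import Cfsg.Statements.S4707
import Cfsg.Statements.S4707
import Cfsg.Agent.S0720
import Cfsg.Agent.Lib.Lead.DegreeTwoP.Bound
import Cfsg.Agent.Lib.Perm.PermChar
import Cfsg.Agent.Lib.Char.Codegree
import Cfsg.Agent.Lib.Lie.OrderSixty

set_option autoImplicit false
open Cfsg

namespace Cfsg.Agent.S4707

open Cfsg.Agent.Char MulAction

section

variable {α : Type*} [Fintype α] {p : ℕ}

theorem card_dvd_of_transitive {G : Type*} [Group G] [MulAction G α] (hα : Fintype.card α = 2 * p)
    [IsPretransitive G α] (a : α) : Nat.card G = 2 * p * Nat.card (stabilizer G a) := by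
  rw [← hα, ← Nat.card_eq_fintype_card, ← index_stabilizer_of_transitive G a,
    Subgroup.index_mul_card]

theorem normal_dvd {G : Type*} [Group G] [MulAction G α] [FaithfulSMul G α]
    (hprim : IsPreprimitive G α) (hα : Fintype.card α = 2 * p) (hp : 0 < p) (K : Subgroup G)
    [K.Normal] (hK : K ≠ ⊥) : 2 * p ∣ Nat.card K := by
  have hne : fixedPoints K α ≠ Set.univ := by
    intro e
    refine hK ((Subgroup.eq_bot_iff_forall _).2 fun k hk => FaithfulSMul.eq_of_smul_eq_smul
      (α := α) fun c => ?_)
    have hc : c ∈ fixedPoints K α := e ▸ Set.mem_univ c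
    rw [one_smul]
    exact hc ⟨k, hk⟩
  haveI : IsPretransitive K α := IsQuasiPreprimitive.isPretransitive_of_normal hne
  haveI : Nonempty α := Fintype.card_pos_iff.1 (by omega)
  exact ⟨_, card_dvd_of_transitive (G := K) hα (Classical.arbitrary α)⟩

theorem char_of_coprime {K : Type*} [Group K] [Finite K] (L : Subgroup K) [L.Normal]
    (h : (Nat.card L).Coprime L.index) : L.Characteristic := by
  refine Subgroup.characteristic_iff_comap_eq.2 fun φ => (Subgroup.eq_of_le_of_card_ge (fun z hz => ?_) ?_).symm
  · rw [Subgroup.mem_comap, ← QuotientGroup.eq_one_iff, ← orderOf_eq_one_iff]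
    refine Nat.eq_one_of_dvd_coprimes h.symm ?_ ?_
    · rw [Subgroup.index_eq_card]; exact orderOf_dvd_natCard _
    · refine (orderOf_map_dvd (QuotientGroup.mk' L) _).trans ?_
      show orderOf (φ z) ∣ _
      rw [MulEquiv.orderOf_eq, ← Subgroup.orderOf_mk z hz]
      exact orderOf_dvd_natCard _
  · exact (Nat.card_congr (φ.toEquiv.subtypeEquiv fun z => Iff.rfl)).le

end

/-- Let p > 3 be a prime and G a primitive permutation group of degree 2p that is not doubly transitive. If a Sylow p-subgroup of G has normalizer of order 2p, then p = 5 and G is isomorphic to the alternating group of degree 5. -/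
theorem result {α : Type*} [Fintype α] [DecidableEq α] {p : ℕ} [Fact p.Prime] (hp : 3 < p) (hα : Fintype.card α = 2 * p) (G : Subgroup (Equiv.Perm α)) (hprim : MulAction.IsPreprimitive G α) (hnot2 : ¬ MulAction.IsMultiplyPretransitive G α 2) (P : Sylow p G) (hN : Nat.card (Subgroup.normalizer ((P : Subgroup G) : Set G)) = 2 * p) : p = 5 ∧ Nonempty (G ≃* alternatingGroup (Fin 5)) := by
  classical
  have hpp : p.Prime := Fact.out
  haveI := Fintype.ofFinite G
  have htr := hprim.toIsPretransitive
  obtain ⟨a₀⟩ : Nonempty α := Fintype.card_pos_iff.1 (by omega)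
  have hG : Nat.card G = 2 * p * Nat.card (stabilizer G a₀) := card_dvd_of_transitive hα a₀
  obtain ⟨hc3, a, ha, hpa, hsz⟩ :=
    (Cfsg.Agent.S0720.result hpp hα G hprim a₀).resolve_left hnot2
  -- the Sylow subgroup
  have hPp : Nat.card P = p := by
    obtain ⟨n, hn⟩ := P.2.exists_card_eq
    have hdvd : Nat.card P ∣ 2 * p := hN ▸ Subgroup.card_dvd_of_le Subgroup.le_normalizer
    have hn1 : n ≤ 1 := by
      by_contra hlt
      have h2 : p * p ∣ 2 * p := (pow_two p ▸ pow_dvd_pow p (by omega : 2 ≤ n)).trans (hn ▸ hdvd)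
      have := Nat.le_of_dvd (by norm_num) ((Nat.mul_dvd_mul_iff_right hpp.pos).1 h2)
      omega
    have hn0 : n ≠ 0 := by
      rintro rfl
      have := P.dvd_card_of_dvd_card (hG ▸ Dvd.dvd.mul_right (dvd_mul_left p 2) _)
      rw [hn, pow_zero] at this
      exact hpp.ne_one (Nat.dvd_one.1 this)
    rw [hn, show n = 1 by omega, pow_one]
  have hH : ¬ p ∣ Nat.card (stabilizer G a₀) := by
    intro hd
    have h2 : p ^ 2 ∣ Nat.card G := by
      rw [hG, pow_two]
      exact Nat.mul_dvd_mul (dvd_mul_left p 2) hd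
    have h3 := (hpp.pow_dvd_iff_le_factorization Nat.card_pos.ne').1 h2
    have h4 : Nat.card P = p ^ (Nat.card G).factorization p := P.card_eq_multiplicity
    rw [hPp] at h4
    have h5 := Nat.pow_right_injective hpp.two_le ((pow_one p).trans h4)
    omega
  haveI : IsCyclic ↥(P : Subgroup G) := isCyclic_of_prime_card hPp
  have hPC : (P : Subgroup G) ≤ Subgroup.centralizer ((P : Subgroup G) : Set G) :=
    haveI : IsMulCommutative ↥(P : Subgroup G) := IsCyclic.commutative
    Subgroup.le_centralizer _
  have hCN := Subgroup.centralizer_le_normalizer ((P : Subgroup G) : Set G)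
  have hC : Subgroup.centralizer ((P : Subgroup G) : Set G) = (P : Subgroup G) := by
    obtain ⟨d, hd⟩ := Subgroup.card_dvd_of_le hPC
    have h2 := Subgroup.card_dvd_of_le hCN
    rw [hN, hd, hPp, mul_comm 2 p] at h2
    rcases (Nat.dvd_prime Nat.prime_two).1 ((Nat.mul_dvd_mul_iff_left hpp.pos).1 h2) with h | h
    · exact (Subgroup.eq_of_le_of_card_ge hPC (by rw [hd, h, mul_one])).symm
    · exfalso
      have hNC : Subgroup.normalizer ((P : Subgroup G) : Set G) ≤
          Subgroup.centralizer ((P : Subgroup G) : Set G) :=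
        (Subgroup.eq_of_le_of_card_ge hCN (by rw [hN, hd, hPp, h]; omega)).ge
      have hcomp := MonoidHom.ker_transferSylow_isComplement' P hNC
      set K := (MonoidHom.transferSylow P hNC).ker
      have hKp : ¬ p ∣ Nat.card K := by
        have h := Sylow.not_dvd_index P
        rwa [hcomp.index_eq_card] at h
      have hKbot : K = ⊥ := by
        by_contra hne
        exact hKp ((dvd_mul_left p 2).trans (normal_dvd hprim hα hpp.pos K hne))
      have h3 : K.index = p := by rw [hcomp.symm.index_eq_card, hPp]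
      rw [hKbot, Subgroup.index_bot, hG] at h3
      have h4 : 0 < Nat.card (stabilizer G a₀) := Nat.card_pos
      nlinarith
  have htwo : (Subgroup.centralizer ((P : Subgroup G) : Set G)).relIndex
      (Subgroup.normalizer ((P : Subgroup G) : Set G)) = 2 := by
    have h1 := Subgroup.index_mul_card ((Subgroup.centralizer ((P : Subgroup G) : Set G)).subgroupOf
      (Subgroup.normalizer ((P : Subgroup G) : Set G)))
    rw [Nat.card_congr (Subgroup.subgroupOfEquivOfLe hCN).toEquiv, hN, hC, hPp] at h1
    rw [hC]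
    exact Nat.eq_of_mul_eq_mul_right hpp.pos h1
  have H : DegTwoP.Hyp P := ⟨hPp, hC, htwo⟩
  -- the permutation character
  set π := Perm.PermChar.permChar G α with hπ
  have hfix : ∀ y ∈ nonOne P, π (y : G) = 0 := by
    intro y hy
    simp only [hπ, Perm.PermChar.permChar, Nat.cast_eq_zero, Nat.card_eq_zero]
    refine Or.inl ⟨fun c => ?_⟩
    obtain ⟨g, hg⟩ := MulAction.exists_smul_eq G (c : α) a₀
    refine hH ?_
    have hmem : g * (y : G) * g⁻¹ ∈ stabilizer G a₀ := by
      have hc : (y : G) • (c : α) = (c : α) := c.2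
      rw [mem_stabilizer_iff, mul_smul, mul_smul, ← hg, inv_smul_smul, hc]
    have h1 := orderOf_dvd_natCard (⟨_, hmem⟩ : stabilizer G a₀)
    rw [Subgroup.orderOf_mk, ← MulAut.conj_apply, MulEquiv.orderOf_eq] at h1
    have h2 : orderOf (y : G) = p := by
      have h3 := orderOf_dvd_natCard y
      rw [hPp, ← Subgroup.orderOf_coe] at h3
      exact ((Nat.dvd_prime hpp).1 h3).resolve_left fun e =>
        mem_nonOne.1 hy (orderOf_eq_one_iff.1 e)
    rwa [h2] at h1
  obtain ⟨m, hm⟩ := exists_decomposition (Perm.PermChar.isCharacter_permChar (G := G) (Ω := α))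
  set one : IrrCharacter G := ⟨fun _ => 1, isIrrCharacter_one⟩ with hone
  have hm1 : m one = 1 := by
    have h := decomposition_coeff m hm one
    rw [show ((one : IrrCharacter G) : G → ℂ) = fun _ => 1 from rfl,
      Perm.PermChar.inner_one a₀] at h
    exact_mod_cast h.symm
  have hsq : ∑ χ ∈ Finset.univ.erase one, m χ * m χ = 2 := by
    have h := Perm.PermChar.inner_self (G := G) a₀ (Ω := α)
    rw [hc3] at h
    have h' : classInner (Perm.PermChar.permChar G α) (Perm.PermChar.permChar G α) =
        ∑ χ, ((m χ : ℂ) * m χ) := by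
      conv_lhs => rw [hm]
      simp only [← Nat.cast_smul_eq_nsmul ℂ, classInner_sum_left, classInner_smul_left,
        classInner_sum_right, classInner_smul_right, irrC_orth, mul_ite, mul_one, mul_zero,
        Finset.sum_ite_eq, Finset.mem_univ, if_true, Complex.conj_natCast]
      exact Finset.sum_congr rfl fun x _ => by simp
    rw [h'] at h
    have h'' : ∑ χ, m χ * m χ = 3 := by exact_mod_cast h
    rw [← Finset.add_sum_erase _ _ (Finset.mem_univ one), hm1] at h''
    omega
  have hle : ∀ χ ∈ Finset.univ.erase one, m χ ≤ 1 := fun χ hχ => by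
    have := Finset.single_le_sum (f := fun χ => m χ * m χ) (fun _ _ => Nat.zero_le _) hχ
    rw [hsq] at this
    nlinarith
  set S := (Finset.univ.erase one).filter fun χ => m χ = 1 with hS
  have hScard : S.card = 2 := by
    rw [← hsq, hS, Finset.card_filter]
    refine Finset.sum_congr rfl fun χ hχ => ?_
    have := hle χ hχ
    rcases (by omega : m χ = 0 ∨ m χ = 1) with e | e <;> simp [e]
  obtain ⟨u, v, huv, hSuv⟩ := Finset.card_eq_two.1 hScard
  have hval : ∀ g, π g = 1 + ((u : G → ℂ) g + (v : G → ℂ) g) := by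
    intro g
    rw [hπ, congrFun hm g, Finset.sum_apply, ← Finset.add_sum_erase _ _ (Finset.mem_univ one), hm1,
      one_smul]
    congr 1
    rw [← Finset.sum_pair (f := fun χ : IrrCharacter G => (χ : G → ℂ) g) huv, ← hSuv, hS,
      Finset.sum_filter]
    refine Finset.sum_congr rfl fun χ hχ => ?_
    have := hle χ hχ
    rcases (by omega : m χ = 0 ∨ m χ = 1) with e | e <;> simp [e]
  have hne : ∀ χ ∈ S, (χ : G → ℂ) ≠ fun _ => 1 := fun χ hχ e =>
    (Finset.mem_erase.1 (Finset.mem_filter.1 hχ).1).1 (Subtype.ext e)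
  obtain ⟨χ, -, hχ1, hχv⟩ := DegTwoP.exists_degree H hp huv
    (hne u (hSuv ▸ Finset.mem_insert_self _ _))
    (hne v (hSuv ▸ Finset.mem_insert_of_mem (Finset.mem_singleton_self _)))
    (fun y hy => by
      have h := hval (y : G)
      rw [hfix y hy] at h
      linear_combination -h)
    (by
      have h := hval 1
      have h1 : π (1 : G) = 2 * (p : ℂ) := by
        simp only [hπ, Perm.PermChar.permChar]
        rw [show fixedBy α (1 : G) = Set.univ from Set.eq_univ_of_forall (one_smul G),
          Nat.card_univ, Nat.card_eq_fintype_card, hα]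
        push_cast
        rfl
      rw [h1] at h
      linear_combination -h)
  have hker : ∀ g : G, g ≠ 1 → (χ : G → ℂ) g ≠ (χ : G → ℂ) 1 := by
    intro g hg1 hg
    obtain ⟨K, hKn, hK⟩ := exists_charKernel (irr_isCharacter χ.2)
    have hKb : K ≠ ⊥ := fun e => hg1 (Subgroup.mem_bot.1 (e ▸ (hK g).2 hg))
    obtain ⟨x, hx⟩ := exists_prime_orderOf_dvd_card' (G := K) p
      ((dvd_mul_left p 2).trans (normal_dvd hprim hα hpp.pos K hKb))
    have hxo : orderOf (x : G) = p := by rw [Subgroup.orderOf_coe, hx]
    obtain ⟨Q, hQ⟩ := (IsPGroup.of_card (n := 1) (by rw [Nat.card_zpowers, hxo, pow_one]) :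
      IsPGroup p (Subgroup.zpowers (x : G))).exists_le_sylow
    obtain ⟨c, hc⟩ := MulAction.exists_smul_eq G Q P
    have hmem : c * (x : G) * c⁻¹ ∈ (P : Subgroup G) := by
      rw [← hc, Sylow.coe_subgroup_smul]
      exact ⟨(x : G), hQ (Subgroup.mem_zpowers _), rfl⟩
    have hne1 : c * (x : G) * c⁻¹ ≠ 1 := fun e => hpp.ne_one (by
      rw [← hxo, conj_eq_one_iff.1 e, orderOf_one])
    have h1 := hχv ⟨_, hmem⟩ (mem_nonOne.2 hne1)
    have h2 := (hK _).1 (hKn.conj_mem _ x.2 c)
    rw [h1, hχ1] at h2
    have : ((p : ℕ) : ℂ) = 0 := by linear_combination -h2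
    exact hpp.ne_zero (by exact_mod_cast this)
  have hbound := DegTwoP.card_le H hp ⟨hχ1, hχv⟩ hker
  -- arithmetic
  set h := Nat.card (stabilizer G a₀) with hh
  have hmod : h ≡ 1 [MOD p] := by
    have h1 : Nat.card (Sylow p G) = (Subgroup.normalizer ((P : Subgroup G) : Set G)).index :=
      P.card_eq_index_normalizer
    have h2 := Subgroup.index_mul_card (Subgroup.normalizer ((P : Subgroup G) : Set G))
    rw [hN, hG, mul_comm (2 * p)] at h2
    have h3 := Nat.eq_of_mul_eq_mul_right (by omega) h2
    rw [← h3, ← h1]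
    exact card_sylow_modEq_one p G
  have hdvd : a * (2 * a + 1) ∣ h ∧ (a + 1) * (2 * a + 1) ∣ h := by
    have hsplit : ∃ b c : α, b ≠ a₀ ∧ c ≠ a₀ ∧
        Nat.card (orbit (stabilizer G a₀) b) = a * (2 * a + 1) ∧
        Nat.card (orbit (stabilizer G a₀) c) = (a + 1) * (2 * a + 1) := by
      by_contra hno
      push Not at hno
      haveI := Fintype.ofFinite (orbitRel.Quotient (stabilizer G a₀) α)
      have hpart := MulAction.selfEquivSigmaOrbits' (stabilizer G a₀) α
      have hcard := Nat.card_congr hpart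
      rw [Nat.card_sigma, Nat.card_eq_fintype_card, hα] at hcard
      set q₀ : orbitRel.Quotient (stabilizer G a₀) α := Quotient.mk'' a₀
      rw [← Finset.add_sum_erase _ _ (Finset.mem_univ q₀)] at hcard
      have horb : ∀ b : α,
          orbitRel.Quotient.orbit (Quotient.mk'' b : orbitRel.Quotient (stabilizer G a₀) α) =
          orbit (stabilizer G a₀) b := fun b => orbitRel.Quotient.orbit_mk b
      have h0 : Nat.card (orbitRel.Quotient.orbit q₀) = 1 := by
        rw [horb, Nat.card_eq_one_iff_unique]
        refine ⟨⟨fun x y => Subtype.ext ?_⟩, ⟨⟨a₀, mem_orbit_self _⟩⟩⟩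
        obtain ⟨k, hk⟩ := x.2
        obtain ⟨l, hl⟩ := y.2
        rw [← hk, ← hl]
        exact k.2.trans l.2.symm
      have hcq : (Finset.univ.erase q₀).card = 2 := by
        rw [Finset.card_erase_of_mem (Finset.mem_univ _), Finset.card_univ,
          ← Nat.card_eq_fintype_card, hc3]
      obtain ⟨q₁, q₂, hq, he⟩ := Finset.card_eq_two.1 hcq
      obtain ⟨b, rfl⟩ := Quotient.mk''_surjective q₁
      obtain ⟨c, rfl⟩ := Quotient.mk''_surjective q₂
      have hb : b ≠ a₀ := fun e => by
        have := he ▸ Finset.mem_insert_self (Quotient.mk'' b) {Quotient.mk'' c}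
        exact (Finset.mem_erase.1 this).1 (by rw [e])
      have hc : c ≠ a₀ := fun e => by
        have := he ▸ (Finset.mem_insert_of_mem (Finset.mem_singleton_self _) :
          (Quotient.mk'' c : orbitRel.Quotient (stabilizer G a₀) α) ∈
            ({Quotient.mk'' b, Quotient.mk'' c} : Finset _))
        exact (Finset.mem_erase.1 this).1 (by rw [e])
      rw [he, Finset.sum_pair hq, h0, horb, horb] at hcard
      rcases hsz b hb with e | e <;> rcases hsz c hc with e' | e'
      · rw [e, e'] at hcard; omega
      · exact hno b c hb hc e e'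
      · exact hno c b hc hb e' e
      · rw [e, e'] at hcard; omega
    obtain ⟨b, c, -, -, hb, hc⟩ := hsplit
    constructor
    · rw [← hb, Nat.card_congr (orbitEquivQuotientStabilizer (stabilizer G a₀) b)]
      exact Subgroup.card_quotient_dvd_card _
    · rw [← hc, Nat.card_congr (orbitEquivQuotientStabilizer (stabilizer G a₀) c)]
      exact Subgroup.card_quotient_dvd_card _
  obtain ⟨t, ht⟩ : a * (a + 1) * (2 * a + 1) ∣ h := by
    obtain ⟨⟨u, hu⟩, w, hw⟩ := hdvd
    have h1 : a ∣ (a + 1) * w := by
      refine ⟨u, Nat.eq_of_mul_eq_mul_right (by omega : 0 < 2 * a + 1) ?_⟩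
      calc (a + 1) * w * (2 * a + 1) = (a + 1) * (2 * a + 1) * w := by ring
        _ = a * (2 * a + 1) * u := by rw [← hw, ← hu]
        _ = a * u * (2 * a + 1) := by ring
    obtain ⟨t, rfl⟩ := ((Nat.coprime_self_add_right.2 (Nat.coprime_one_right a) :
      a.Coprime (a + 1))).dvd_of_dvd_mul_left h1
    exact ⟨t, hw.trans (by ring)⟩
  have hp1 : p - 1 = 2 * (a * (a + 1)) := by rw [hpa]; ring_nf; omega
  have hsmall : 2 * h ≤ 2 * (a * (a + 1)) * (p - 2) := by
    rw [← hp1]
    refine Nat.le_of_mul_le_mul_left ?_ hpp.pos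
    calc p * (2 * h) = 2 * p * h := by ring
      _ = Nat.card G := hG.symm
      _ ≤ p * (p - 1) * (p - 2) := hbound
      _ = p * ((p - 1) * (p - 2)) := mul_assoc _ _ _
  have ht2 : (2 * a + 1) * t + 2 ≤ p := by
    have h1 : a * (a + 1) * ((2 * a + 1) * t) ≤ a * (a + 1) * (p - 2) := by
      rw [← mul_assoc, ← ht]
      nlinarith
    have := Nat.le_of_mul_le_mul_left h1 (by positivity)
    omega
  have hpdvd : p ∣ (2 * a + 1) * t + 2 := by
    have h2 : (2 * h : ZMod p) = 2 := by
      have := (ZMod.natCast_eq_natCast_iff _ _ _).2 hmod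
      rw [this]; simp
    have h3 : ((2 * (a * (a + 1)) : ℕ) : ZMod p) = -1 := by
      rw [← hp1, Nat.cast_sub hpp.one_le]; simp
    rw [← ZMod.natCast_eq_zero_iff]
    rw [ht] at h2
    push_cast at h2 h3 ⊢
    linear_combination -h2 + ((2 * (a : ZMod p) + 1) * t) * h3
  have hpeq : (2 * a + 1) * t + 2 = p :=
    le_antisymm ht2 (Nat.le_of_dvd (by omega) hpdvd)
  have ha1 : a = 1 := by
    have h4 : (2 * a + 1) * t + 1 = 2 * (a * (a + 1)) := by omega
    have h5 : (2 * a + 1) * (2 * t) + 3 = (2 * a + 1) * (2 * a + 1) := by nlinarith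
    have h6 : 2 * a + 1 ∣ 3 := by
      rw [← Nat.dvd_add_right (dvd_mul_right (2 * a + 1) (2 * t)), h5]
      exact dvd_mul_right _ _
    have := Nat.le_of_dvd (by norm_num) h6
    omega
  subst ha1
  have hp5 : p = 5 := by omega
  refine ⟨hp5, ?_⟩
  have hh6 : h = 6 := by omega
  have hG60 : Nat.card G = 60 := by rw [hG, hh6, hp5]
  have hsimple : IsSimpleGroup G := by
    haveI : Nontrivial G := Finite.one_lt_card_iff_nontrivial.1 (by omega)
    refine ⟨fun K hKn => ?_⟩
    by_contra hor
    push Not at hor
    have hKdvd := normal_dvd hprim hα hpp.pos K hor.1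
    obtain ⟨c, hc⟩ := Subgroup.card_subgroup_dvd_card K
    obtain ⟨e, he⟩ := hKdvd
    rw [hG60] at hc
    have hlt : Nat.card K ≠ 60 := fun e => hor.2 (Subgroup.eq_top_of_card_eq K (by rw [e, hG60]))
    -- the Sylow subgroup lies in `K`
    have hPK : (P : Subgroup G) ≤ K := by
      obtain ⟨x, hx⟩ := exists_prime_orderOf_dvd_card' (G := K) p
        ((dvd_mul_left p 2).trans ⟨e, he⟩)
      obtain ⟨Q, hQ⟩ := (IsPGroup.of_card (n := 1)
        (by rw [Nat.card_zpowers, Subgroup.orderOf_coe, hx, pow_one]) :
        IsPGroup p (Subgroup.zpowers (x : G))).exists_le_sylow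
      have hQK : (Q : Subgroup G) ≤ K := by
        refine le_of_eq_of_le (Subgroup.eq_of_le_of_card_ge hQ ?_).symm
          (Subgroup.zpowers_le.2 x.2)
        rw [Nat.card_zpowers, Subgroup.orderOf_coe, hx, Q.card_eq_multiplicity,
          ← P.card_eq_multiplicity, hPp]
      obtain ⟨g, rfl⟩ := MulAction.exists_smul_eq G Q P
      rw [Sylow.coe_subgroup_smul]
      rintro _ ⟨w, hw, rfl⟩
      exact hKn.conj_mem w (hQK hw) g
    have hfr : Subgroup.normalizer ((P : Subgroup G) : Set G) ⊔ K = ⊤ :=
      Sylow.normalizer_sup_eq_top' P hPK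
    have h1 := Subgroup.relIndex_sup_left (H := Subgroup.normalizer ((P : Subgroup G) : Set G))
      (K := K)
    have h2 : K.relIndex (Subgroup.normalizer ((P : Subgroup G) : Set G)) = K.index := by
      rw [← h1, sup_comm, hfr, Subgroup.relIndex_top_right]
    have h3 : K.index ∣ 2 := by
      rw [← h2, ← htwo]
      exact Subgroup.relIndex_dvd_of_le_left _ (hC.le.trans hPK)
    have h4 : K.index = c := by
      have := Subgroup.card_mul_index K
      rw [hG60] at this
      exact Nat.eq_of_mul_eq_mul_left (Nat.card_pos (α := K)) (this.trans hc)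
    have h5 := Nat.le_of_dvd two_pos h3
    have hc2 : c = 2 := by
      rcases (Nat.dvd_prime Nat.prime_two).1 (h4 ▸ h3) with e | e
      · rw [e, mul_one] at hc; omega
      · exact e
    -- a normal subgroup of order 30 would have a characteristic subgroup of order 6
    have hK30 : Nat.card K = 30 := by rw [hc2] at hc; omega
    set PK : Sylow p K := P.subtype hPK
    have hPKc : Nat.card (PK : Subgroup K) = p :=
      (Nat.card_congr (Subgroup.subgroupOfEquivOfLe hPK).toEquiv).trans hPp
    have hKC : Subgroup.normalizer ((PK : Subgroup K) : Set K) ≤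
        Subgroup.centralizer ((PK : Subgroup K) : Set K) := by
      intro k hk
      have hkN : (k : G) ∈ Subgroup.normalizer ((P : Subgroup G) : Set G) := by
        rw [Subgroup.mem_normalizer_iff]
        intro w
        constructor
        · intro hw
          exact (Subgroup.mem_normalizer_iff.1 hk ⟨w, hPK hw⟩).1 hw
        · intro hw
          have hwK : w ∈ K := by
            have := K.mul_mem (K.mul_mem (K.inv_mem k.2) (hPK hw)) k.2
            simpa [mul_assoc] using this
          exact (Subgroup.mem_normalizer_iff.1 hk ⟨w, hwK⟩).2 hw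
      have hint : K ⊓ Subgroup.normalizer ((P : Subgroup G) : Set G) = (P : Subgroup G) := by
        refine (Subgroup.eq_of_le_of_card_ge (le_inf hPK Subgroup.le_normalizer) ?_).symm
        have h6 := Subgroup.index_mul_card (K.subgroupOf (Subgroup.normalizer ((P : Subgroup G) : Set G)))
        have h7 : Nat.card (K.subgroupOf (Subgroup.normalizer ((P : Subgroup G) : Set G))) =
            Nat.card ↥(K ⊓ Subgroup.normalizer ((P : Subgroup G) : Set G)) := by
          rw [← Subgroup.inf_subgroupOf_right]
          exact Nat.card_congr (Subgroup.subgroupOfEquivOfLe inf_le_right).toEquiv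
        rw [← Subgroup.relIndex, h2, h4, hc2, h7, hN] at h6
        omega
      have hkP : (k : G) ∈ (P : Subgroup G) := hint ▸ ⟨k.2, hkN⟩
      intro q hq
      exact Subtype.ext (hPC hkP (q : G) hq)
    have hcomp := MonoidHom.ker_transferSylow_isComplement' PK hKC
    set L := (MonoidHom.transferSylow PK hKC).ker
    have hLp : ¬ p ∣ Nat.card L := by
      have h := Sylow.not_dvd_index PK
      rwa [hcomp.index_eq_card] at h
    have hLc : Nat.card L = 6 := by
      have := hcomp.card_mul_card
      rw [hPKc, hp5, hK30] at this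
      omega
    have hchar : L.Characteristic := by
      refine char_of_coprime L ?_
      rw [hcomp.symm.index_eq_card, hPKc, hLc, hp5]
      norm_num
    have hLn : (L.map K.subtype).Normal := inferInstance
    have hLne : L.map K.subtype ≠ ⊥ := by
      intro e
      have := congrArg (fun J : Subgroup G => Nat.card J) e
      simp only [Subgroup.card_map_of_injective K.subtype_injective, Subgroup.card_bot] at this
      omega
    have := normal_dvd hprim hα hpp.pos (L.map K.subtype) hLne
    rw [Subgroup.card_map_of_injective K.subtype_injective, hLc, hp5] at this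
    norm_num at this
  exact Cfsg.Agent.Lie.simple_sixty hG60

end Cfsg.Agent.S4707
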