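import Cfsg.Statements.S4708
import Cfsg.Agent.Lib.Char.CoverUnit
import Cfsg.Agent.Lib.Char.FongReynolds

set_option autoImplicit false
open Cfsg
open scoped ComplexConjugate

namespace Cfsg.Agent.S4708

/-- Let p be a prime, M a maximal ideal of the algebraic integers containing p, G a finite group and H a normal subgroup. Write λ(X) for the sum of the squares of the degrees of the irreducible characters in the principal p-block of a group X. Then λ(H) ≤ λ(G) ≤ [G : H]·λ(H). -/
theorem result {G : Type*} [Group G] [Finite G] (p : ℕ) [Fact p.Prime] (M : Ideal Cfsg.AlgInt) (hM : Cfsg.IsPModular p M) (H : Subgroup G) [H.Normal] : (∑ᶠ θ ∈ Cfsg.principalBlock M H, Cfsg.charDegree (θ : H → ℂ) ^ 2) ≤ (∑ᶠ χ ∈ Cfsg.principalBlock M G, Cfsg.charDegree (χ : G → ℂ) ^ 2) ∧ (∑ᶠ χ ∈ Cfsg.principalBlock M G, Cfsg.charDegree (χ : G → ℂ) ^ 2) ≤ H.index * ∑ᶠ θ ∈ Cfsg.principalBlock M H, Cfsg.charDegree (θ : H → ℂ) ^ 2 := by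
  classical
  have := Fintype.ofFinite G
  have := Fintype.ofFinite H
  have hP := Char.pmod_prime hM
  let t : Cfsg.IrrCharacter G := ⟨fun _ => 1, Char.isIrrCharacter_one⟩
  let t' : Cfsg.IrrCharacter H := ⟨fun _ => 1, Char.isIrrCharacter_one⟩
  set b := Cfsg.principalBlock M H with hbd
  set B := Cfsg.principalBlock M G with hBd
  have hb : Cfsg.IsPBlock M b := Char.isPBlock_blockOf M t'
  have hB : Cfsg.IsPBlock M B := Char.isPBlock_blockOf M t
  have ht : t ∈ B := Char.self_mem_blockOf hP t
  have ht' : t' ∈ b := Char.self_mem_blockOf hP t'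
  have htriv : Cfsg.classInner (fun n : H => (t : G → ℂ) n) (t' : H → ℂ) ≠ 0 := fun h0 =>
    Char.irr_one_ne_zero t'.2 (congrFun (Char.classInner_self_eq_zero (a := (t' : H → ℂ)) h0) 1)
  have hcons : ∀ χ ∈ B, ∀ η : Cfsg.IrrCharacter H,
      Cfsg.classInner (fun n : H => (χ : G → ℂ) n) (η : H → ℂ) ≠ 0 → η ∈ b := by
    intro χ hχ η hη
    obtain ⟨g, hg⟩ := Char.mem_orbU_of_sameBlock hM (Char.block_sameBlock hP hB ht hχ) htriv hη
    have hmem : Char.irrComp (MulAut.conjNormal g) η ∈ b :=
      (Char.mem_block_iff hP hb ht' _).mpr (by first | exact hg | exact Char.sameBlock_symm hP hg)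
    have himg : Char.irrTransport (MulAut.conjNormal g⁻¹ : H ≃* H) '' b = b :=
      Char.block_disjoint hP (Char.isPBlock_transport _ hb) hb ⟨t', ht', rfl⟩
        (by convert ht' using 1; exact Subtype.ext (funext fun _ => rfl))
    have := Set.mem_image_of_mem (Char.irrTransport (MulAut.conjNormal g⁻¹ : H ≃* H)) hmem
    rw [himg] at this
    convert this using 1
    refine Subtype.ext (funext fun k => ?_)
    rw [Char.irrTransport_apply, Char.irrComp_apply]
    congr 1
    rw [← MulAut.mul_apply, ← map_mul]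
    simp
  choose m hm using fun χ : Cfsg.IrrCharacter G =>
    Char.exists_decomposition (Char.isCharacter_comp H.subtype (Char.irr_isCharacter χ.2))
  have hmc : ∀ (χ : Cfsg.IrrCharacter G) (η : Cfsg.IrrCharacter H), Cfsg.classInner (fun n : H => (χ : G → ℂ) n) (η : H → ℂ) = m χ η :=
    fun χ η => Char.decomposition_coeff (m χ) (hm χ) η
  choose d hd using fun χ : Cfsg.IrrCharacter G => Char.charOne_eq_natCast (Char.irr_isCharacter χ.2)
  choose e he using fun η : Cfsg.IrrCharacter H => Char.charOne_eq_natCast (Char.irr_isCharacter η.2)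
  have hdd : ∀ χ : Cfsg.IrrCharacter G, Cfsg.charDegree (χ : G → ℂ) = d χ := fun χ => by
    rw [Char.charDegree_eq_deg]
    exact_mod_cast (Char.char_one_eq_deg (Char.irr_isCharacter χ.2)).symm.trans (hd χ)
  have hee : ∀ η : Cfsg.IrrCharacter H, Cfsg.charDegree (η : H → ℂ) = e η := fun η => by
    rw [Char.charDegree_eq_deg]
    exact_mod_cast (Char.char_one_eq_deg (Char.irr_isCharacter η.2)).symm.trans (he η)
  have hres : ∀ χ, d χ = ∑ η, m χ η * e η := by
    intro χ
    have h := congrFun (hm χ) 1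
    simp only [Function.comp_apply, map_one, hd, Finset.sum_apply, nsmul_eq_mul, Pi.mul_apply, Pi.natCast_apply, he] at h
    exact_mod_cast h
  have hind : ∀ η, ∑ χ, m χ η * d χ = H.index * e η := by
    intro η
    have h := congrFun (Char.classFun_expansion (Char.isClassFunction_indFun H (η : H → ℂ))) 1
    simp only [Char.indFun_one, he, Finset.sum_apply, Pi.smul_apply, smul_eq_mul,
      fun χ : Cfsg.IrrCharacter G => Char.frobenius H (η : H → ℂ)
        (Char.isClassFunction_character (Char.irr_isCharacter χ.2)), hd] at h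
    simp only [← Char.classInner_symm (fun n : H => (_ : G → ℂ) n) (η : H → ℂ), hmc,
      Complex.conj_natCast] at h
    exact_mod_cast h.symm
  simp only [Char.finsum_mem_irr, hdd, hee]
  set sB := Finset.univ.filter fun χ : Cfsg.IrrCharacter G => χ ∈ B with hsB
  set sb := Finset.univ.filter fun η : Cfsg.IrrCharacter H => η ∈ b with hsb
  have hres' : ∀ χ ∈ sB, d χ = ∑ η ∈ sb, m χ η * e η := by
    intro χ hχ
    rw [hres χ]
    refine (Finset.sum_subset (Finset.subset_univ _) fun η _ hη => ?_).symm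
    rw [show m χ η = 0 from ?_, zero_mul]
    by_contra h0
    exact hη (Finset.mem_filter.mpr ⟨Finset.mem_univ _, hcons χ (Finset.mem_filter.mp hχ).2 η
      (by rw [hmc]; exact_mod_cast h0)⟩)
  have htot : ∑ χ ∈ sB, d χ ^ 2 = ∑ η ∈ sb, e η * ∑ χ ∈ sB, m χ η * d χ := by
    simp only [Finset.mul_sum]
    rw [Finset.sum_comm]
    refine Finset.sum_congr rfl fun χ hχ => ?_
    rw [pow_two]
    conv_lhs => arg 1; rw [hres' χ hχ]
    rw [Finset.sum_mul]
    exact Finset.sum_congr rfl fun η _ => by ring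
  rw [htot]
  refine ⟨Finset.sum_le_sum fun η hη => ?_, ?_⟩
  · obtain ⟨χ, hχ, hne⟩ := Char.exists_over_of_covered hM hB hb ht ht' htriv (Finset.mem_filter.mp hη).2
    rw [hmc, Nat.cast_ne_zero] at hne
    rw [pow_two]
    refine Nat.mul_le_mul_left _ (le_trans ?_ (Finset.single_le_sum
      (f := fun χ => m χ η * d χ) (fun _ _ => Nat.zero_le _)
      (Finset.mem_filter.mpr ⟨Finset.mem_univ _, hχ⟩)))
    rw [show e η = 1 * e η from (one_mul _).symm]
    refine Nat.mul_le_mul (Nat.pos_of_ne_zero hne) ?_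
    rw [hres χ]
    refine le_trans ?_ (Finset.single_le_sum (f := fun η => m χ η * e η)
      (fun _ _ => Nat.zero_le _) (Finset.mem_univ η))
    exact Nat.le_mul_of_pos_left _ (Nat.pos_of_ne_zero hne)
  · rw [Finset.mul_sum]
    refine Finset.sum_le_sum fun η _ => ?_
    rw [show H.index * e η ^ 2 = e η * (H.index * e η) by ring, ← hind η]
    exact Nat.mul_le_mul_left _ (Finset.sum_le_sum_of_subset (Finset.subset_univ _))

end Cfsg.Agent.S4708
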