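import Cfsg.Statements.S4709
import Cfsg.Agent.Lib.Char.FrobSylowExceptional

set_option autoImplicit false
open Cfsg Cfsg.Agent.Char
open scoped ComplexConjugate

namespace Cfsg.Agent.S4709

/-- Let p be a prime, M a maximal ideal of the algebraic integers containing p, and G a finite group with a nontrivial abelian Sylow p-subgroup P; put N = N_G(P), C = C_G(P). Suppose N/C is cyclic of order m with 1 < m < #P − 1 (C has index m in N and N is generated by C and one element), and C_G(y) ∩ N = C for every non-identity y ∈ P. Put r = (#P − 1)/m. Then there is s ≤ m such that the principal p-block is the disjoint union of a set X of s characters containing the principal character and a set Y of r characters, with integers a_χ ≠ 0 (χ ∈ X), d and a sign δ = ±1, such that: every χ ∈ X takes the value a_χ at every element whose p-part is a non-identity element of P; there is a map ζ from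 the non-principal linear characters ψ of P onto Y, constant on N-conjugacy classes, with ζ_ψ(z) = d + δ·Σ ψ'(y) for every z whose p-part y is a non-identity element of P, the sum running over the N-conjugates ψ' of ψ; (d − δ)^2 + (r − 1) d^2 + Σ_{χ ∈ X} a_χ^2 = m + 1; all members of Y agree on p-regular elements; and (r d − δ) η(g) + Σ_{χ ∈ X} a_χ χ(g) = 0 for every η ∈ Y and every p-regular g. -/
theorem result {G : Type*} [Group G] [Finite G] (p : ℕ) [Fact p.Prime] (M : Ideal Cfsg.AlgInt) (hM : Cfsg.IsPModular p M) (P : Sylow p G) (hab : IsMulCommutative P) (hP1 : Nat.card P ≠ 1) (m : ℕ) (hm1 : 1 < m) (hm2 : m + 1 < Nat.card P) (hCN : (Subgroup.centralizer ((P : Subgroup G) : Set G)).relIndex (Subgroup.normalizer ((P : Subgroup G) : Set G)) = m) (hcyc : ∃ g : G, g ∈ Subgroup.normalizer ((P : Subgroup G) : Set G) ∧ Subgroup.centralizer ((P : Subgroup G) : Set G) ⊔ Subgroup.zpowers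 g = Subgroup.normalizer ((P : Subgroup G) : Set G)) (hfrob : ∀ y : G, y ∈ (P : Subgroup G) → y ≠ 1 → Subgroup.centralizer ({y} : Set G) ⊓ Subgroup.normalizer ((P : Subgroup G) : Set G) = Subgroup.centralizer ((P : Subgroup G) : Set G)) : ∃ (s : ℕ) (X Y : Set (Cfsg.IrrCharacter G)), s ≤ m ∧ Cfsg.principalBlock M G = X ∪ Y ∧ Disjoint X Y ∧ Nat.card X = s ∧ Nat.card Y = (Nat.card P - 1) / m ∧ (∃ χ₁ ∈ X, (χ₁ : G → ℂ) = fun _ => 1) ∧ ∃ (a : Cfsg.IrrCharacter G → ℤ) (d δ : ℤ) (ζ : (↥(P : Subgroup G) →* ℂˣ) → Cfsg.IrrCharacter G), (δ = 1 ∨ δ = -1) ∧ (∀ χ ∈ X, a χ ≠ 0 ∧ ∀ z y : G, Cfsg.IsPPart p z y → y ∈ (P : Subgroup G) → y ≠ 1 → (χ : G → ℂ) z = (a χ : ℂ)) ∧ (∀ ψ : ↥(P : Subgroup G) →* ℂˣ, ψ ≠ 1 → ζ ψ ∈ Y) ∧ (∀ η ∈ Y, ∃ ψ : ↥(P : Subgroup G) →* ℂˣ, ψ ≠ 1 ∧ ζ ψ = η) ∧ (∀ ψ ψ' : ↥(P : Subgroup G) →* ℂˣ, ψ ≠ 1 → (∃ n : G, n ∈ Subgroup.normalizer ((P : Subgroup G) : Set G) ∧ ∀ w w' : ↥(P :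 Subgroup G), (w' : G) = n * w * n⁻¹ → ψ' w' = ψ w) → ζ ψ' = ζ ψ) ∧ (∀ ψ : ↥(P : Subgroup G) →* ℂˣ, ψ ≠ 1 → ∀ (z : G) (y : ↥(P : Subgroup G)), Cfsg.IsPPart p z (y : G) → (y : G) ≠ 1 → (ζ ψ : G → ℂ) z = (d : ℂ) + (δ : ℂ) * ∑ᶠ ψ' ∈ {ψ' : ↥(P : Subgroup G) →* ℂˣ | ∃ n : G, n ∈ Subgroup.normalizer ((P : Subgroup G) : Set G) ∧ ∀ w w' : ↥(P : Subgroup G), (w' : G) = n * w * n⁻¹ → ψ' w' = ψ w}, ((ψ' y : ℂˣ) : ℂ)) ∧ ((d - δ) ^ 2 + ((Nat.card P - 1) / m - 1 : ℤ) * d ^ 2 + ∑ᶠ χ ∈ X, a χ ^ 2 = (m : ℤ) + 1) ∧ (∀ η ∈ Y, ∀ η' ∈ Y, ∀ g : G, ¬ p ∣ orderOf g → (η : G → ℂ) g = (η' : G → ℂ) g) ∧ (∀ η ∈ Y, ∀ g : G, ¬ p ∣ orderOf g → ((((Nat.card P - 1) / m : ℕ) : ℂ) * d - δ) * (η : G → ℂ) g + ∑ᶠ χ ∈ X, (a χ : ℂ) * (χ : G → ℂ) g = 0) := by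
  classical
  haveI := Fintype.ofFinite G
  have h : FrobSylow P m := ⟨hab, hP1, hCN, hfrob⟩
  haveI := h.finite_dual.1
  haveI : Fintype (↥(P : Subgroup G) →* ℂˣ) := Fintype.ofFinite _
  obtain ⟨r, rep, idx, hr0, hcount, hrep, hidx, hmem, hconst⟩ := h.exists_orbit_index
  have hI : OrbitIndex m rep idx := ⟨hcount, hrep, hidx, hmem, hconst⟩
  have hm0 : m ≠ 0 := by omega
  have hr : 2 ≤ r := by
    by_contra hh
    have : r = 1 := by omega
    subst this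
    omega
  have hrdiv : (Nat.card P - 1) / m = r := by
    rw [← hcount, Nat.add_sub_cancel, Nat.mul_div_cancel _ (Nat.pos_of_ne_zero hm0)]
  obtain ⟨X, μ, a, d, δ, hX⟩ := h.exists_principal_exc hM hm0 hr hI
  refine ⟨X.card, (X : Set (IrrCharacter G)), Set.range μ, ?_, ?_, ?_, ?_, ?_,
    ⟨_, Finset.mem_coe.mpr hX.one_mem, rfl⟩, a, d, δ, fun ψ => μ (idx ψ), hX.sign, ?_, ?_, ?_, ?_,
    ?_, ?_, ?_, ?_⟩
  · have h1 : (X.card : ℤ) ≤ ∑ χ ∈ X, a χ ^ 2 := by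
      rw [Finset.card_eq_sum_ones, Nat.cast_sum]
      refine Finset.sum_le_sum fun χ hχ => ?_
      have := sq_pos_of_ne_zero (hX.a_ne χ hχ)
      push_cast
      omega
    have h2 : (1 : ℤ) ≤ (d - δ) ^ 2 + ((r : ℤ) - 1) * d ^ 2 := by
      rcases eq_or_ne d 0 with e | e
      · rcases hX.sign with f | f <;> simp [e, f]
      · have := sq_pos_of_ne_zero e
        have h3 : (2 : ℤ) ≤ (r : ℤ) := by exact_mod_cast hr
        nlinarith [sq_nonneg (d - δ)]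
    have h3 := hX.norm
    omega
  · ext χ
    rw [hX.mem_iff]
    simp
  · refine Set.disjoint_left.mpr ?_
    rintro χ hχ ⟨i, rfl⟩
    exact hX.notMem i (Finset.mem_coe.mp hχ)
  · simp
  · rw [Nat.card_range_of_injective hX.inj, Nat.card_fin, hrdiv]
  · intro χ hχ
    have hχ' := Finset.mem_coe.mp hχ
    refine ⟨hX.a_ne χ hχ', fun z y hz hy hy1 => ?_⟩
    rw [h.principal_apply hM ((hX.mem_iff χ).mpr (Or.inl hχ')) (y := ⟨y, hy⟩) hz hy1]
    exact hX.a_val χ hχ' ⟨y, hy⟩ (mem_nonOne.mpr hy1)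
  · exact fun ψ _ => Set.mem_range_self _
  · rintro η ⟨i, rfl⟩
    exact ⟨rep i, hrep i, congrArg μ (hidx i)⟩
  · intro ψ ψ' hψ hrel
    exact congrArg μ (hconst ψ hψ ψ' (mem_orbP_of_rel hrel))
  · intro ψ hψ z y hz hy
    rw [finsum_orbit_eq, h.principal_apply hM ((hX.mem_iff _).mpr (Or.inr ⟨_, rfl⟩)) hz hy,
      hX.mu_val _ y (mem_nonOne.mpr hy), orbSum, orbSum, orbP_eq_of_mem (hmem ψ hψ)]
  · rw [finsum_mem_coe_finset, ← hX.norm]
    have : ((Nat.card P : ℤ) - 1) / (m : ℤ) = r := by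
      rw [← hcount]
      push_cast
      rw [add_sub_cancel_right, Int.mul_ediv_cancel _ (by exact_mod_cast hm0)]
    rw [this]
  · rintro η ⟨i, rfl⟩ η' ⟨j, rfl⟩ g hg
    exact hX.reg i j g hg
  · rintro η ⟨i, rfl⟩ g hg
    rw [finsum_mem_coe_finset, hrdiv]
    exact hX.rel i g hg

end Cfsg.Agent.S4709
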