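import Cfsg.Statements.S4712
import Cfsg.Agent.Lib.Char.SectionTwistCount

set_option autoImplicit false
open Cfsg Cfsg.Agent.Char

namespace Cfsg.Agent.S4712

/-- Let p be an odd prime, M a maximal ideal of the algebraic integers containing p, G a finite group of order n with p-part p^a, and B a p-block of G. Call an irreducible character χ p-rational when χ(g^k) = χ(g) for every g and every k coprime to n with k ≡ 1 modulo n/p^a (χ is fixed by the Galois automorphisms fixing the roots of unity of order prime to p). Then the number of p-rational irreducible characters in B is at least the p-regular rank of B (the number of irreducible Brauer characters in B). -/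
theorem result {G : Type*} [Group G] [Finite G] (p : ℕ) [Fact p.Prime] (hodd : p ≠ 2) (M : Ideal Cfsg.AlgInt) (hM : Cfsg.IsPModular p M) (B : Set (Cfsg.IrrCharacter G)) (hB : Cfsg.IsPBlock M B) : Cfsg.blockRank p B ≤ Nat.card {χ : Cfsg.IrrCharacter G // χ ∈ B ∧ ∀ k : ℕ, Nat.Coprime k (Nat.card G) → k ≡ 1 [MOD Nat.card G / p ^ (Nat.card G).factorization p] → ∀ g : G, (χ : G → ℂ) (g ^ k) = (χ : G → ℂ) g} := by
  classical
  haveI := Fintype.ofFinite G
  have hp := hM.1
  set n := Nat.card G with hn
  set a := n.factorization p with ha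
  set n' := n / p ^ a with hn'
  have hcard : p ^ a * n' = n := Nat.ordProj_mul_ordCompl_eq_self n p
  have hcop : (p ^ a).Coprime n' := (Nat.coprime_ordCompl hp Nat.card_pos.ne').pow_left a
  haveI : NeZero (p ^ a) := ⟨pow_ne_zero _ hp.ne_zero⟩
  haveI := ZMod.isCyclic_units_of_prime_pow p hp hodd a
  obtain ⟨w, hw⟩ := IsCyclic.exists_generator (α := (ZMod (p ^ a))ˣ)
  obtain ⟨k, hk1, hk2⟩ := Nat.chineseRemainder hcop (w : ZMod (p ^ a)).val 1
  have hkc : k.Coprime n := by
    rw [← hcard]
    refine Nat.Coprime.mul_right ?_ ?_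
    · exact (Nat.ModEq.gcd_eq hk1).trans (ZMod.val_coe_unit_coprime w)
    · exact (Nat.ModEq.gcd_eq hk2).trans (Nat.gcd_one_left _)
  have hfix : ∀ s : G, ¬ p ∣ orderOf s → s ^ k = s := fun s hs => by
    have hd : orderOf s ∣ n' := by
      refine Nat.Coprime.dvd_of_dvd_mul_left (((hp.coprime_iff_not_dvd.2 hs).symm).pow_right a) ?_
      rw [hcard]; exact orderOf_dvd_natCard s
    conv_rhs => rw [← pow_one s]
    exact pow_eq_pow_iff_modEq.2 (hk2.of_dvd hd)
  refine (TwistCount.rank_le_fixed hM hB hkc hfix).trans ?_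
  rw [← Fintype.card_subtype, ← Nat.card_eq_fintype_card]
  refine Nat.card_le_card_of_injective (fun χ => ⟨χ.1, χ.2.1, fun k' hk' hk'1 g => ?_⟩)
    fun x y h => Subtype.ext (congrArg (fun z => z.1) h :)
  have hrep : ∀ i : ℕ, ∀ g : G, (χ.1 : G → ℂ) (g ^ k ^ i) = (χ.1 : G → ℂ) g := by
    intro i
    induction i with
    | zero => intro g; rw [pow_zero, pow_one]
    | succ i ih =>
      intro g
      rw [pow_succ', pow_mul, ih, congrFun χ.2.2 g]
  have hk'p : k'.Coprime (p ^ a) := hk'.coprime_dvd_right (Dvd.intro _ hcard)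
  obtain ⟨i, hi⟩ := ((isOfFinOrder_of_finite w).mem_powers_iff_mem_zpowers).2 (hw (ZMod.unitOfCoprime k' hk'p))
  have hmod : k ^ i ≡ k' [MOD n] := by
    rw [← hcard, ← Nat.modEq_and_modEq_iff_modEq_mul hcop]
    refine ⟨?_, ?_⟩
    · rw [← ZMod.natCast_eq_natCast_iff, Nat.cast_pow,
        (ZMod.natCast_eq_natCast_iff _ _ _).2 hk1, ZMod.natCast_zmod_val, ← Units.val_pow_eq_pow_val,
        show w ^ i = ZMod.unitOfCoprime k' hk'p from hi, ZMod.coe_unitOfCoprime]
    · refine (hk2.pow i).trans ?_
      rw [one_pow]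
      exact hk'1.symm
  rw [pow_eq_pow_mod k' pow_card_eq_one', show k' % Nat.card G = k ^ i % Nat.card G from hmod.symm,
    ← pow_eq_pow_mod _ pow_card_eq_one', hrep i g]

end Cfsg.Agent.S4712
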