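import Cfsg.Statements.S4713
import Cfsg.Agent.Lib.Char.ItoConverse

set_option autoImplicit false
open Cfsg Cfsg.Agent.Char
open scoped ComplexConjugate

namespace Cfsg.Agent.S4713

/-- Let p be a prime and G a finite p-solvable group. Then G has a normal abelian Sylow p-subgroup if and only if the degree of every irreducible character of G is prime to p. -/
theorem result {G : Type*} [Group G] [Finite G] (p : ℕ) [Fact p.Prime] (hsolv : Cfsg.IsPSolvable p G) (P : Sylow p G) : ((P : Subgroup G).Normal ∧ IsMulCommutative P) ↔ ∀ χ : Cfsg.IrrCharacter G, ¬ p ∣ Cfsg.charDegree (χ : G → ℂ) := by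
  haveI := Fintype.ofFinite G
  refine Iff.trans ⟨fun ⟨hn, hc⟩ => ?_, fun ⟨Q, hQn, hQc, hQp, hQi⟩ => ?_⟩ (normal_abelian_sylow_iff hsolv)
  · exact ⟨(P : Subgroup G), hn, fun x hx y hy =>
      congrArg Subtype.val (hc.is_comm.comm ⟨x, hx⟩ ⟨y, hy⟩), P.isPGroup', P.not_dvd_index⟩
  · haveI := hQn
    have h : (P : Subgroup G) = Q := by
      have h1 : (P : Subgroup G) ≤ Q := fun x hx => by
        rw [← QuotientGroup.eq_one_iff (N := Q), ← orderOf_eq_one_iff]
        obtain ⟨a, ha⟩ := P.isPGroup'.exists_card_eq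
        refine Nat.eq_one_of_dvd_coprimes
          ((((Fact.out : p.Prime).coprime_iff_not_dvd).mpr hQi).pow_left a) ?_
          (by rw [Subgroup.index_eq_card]; exact orderOf_dvd_natCard _)
        exact (orderOf_map_dvd (QuotientGroup.mk' Q) x).trans
          (ha ▸ Subgroup.orderOf_dvd_natCard (P : Subgroup G) hx)
      exact (P.is_maximal' hQp h1).symm
    exact ⟨h ▸ hQn, ⟨⟨fun a b => Subtype.ext (hQc a (h ▸ a.2) b (h ▸ b.2))⟩⟩⟩

end Cfsg.Agent.S4713
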