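import Cfsg.Statements.S4714
import Cfsg.Agent.Lib.Char.CentralDefect

set_option autoImplicit false
open Cfsg Cfsg.Agent.Char
open scoped ComplexConjugate

namespace Cfsg.Agent.S4714

/-- Let p be a prime, M a maximal ideal of the algebraic integers containing p, D a p-subgroup of the finite group G with G = D·C_G(D), and B a p-block with defect group D. Let χ be a member of B having D in its kernel (there is exactly one, the canonical character of B). Then the irreducible characters in B are exactly the functions θ on G for which there is an irreducible character ζ of D such that θ(yx) = ζ(y)χ(x) whenever y ∈ D, x has order prime to p and x commutes with y, and θ(z) = 0 whenever the p-part of z does not lie in D. -/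
theorem result {G : Type*} [Group G] [Finite G] (p : ℕ) [Fact p.Prime] (M : Ideal Cfsg.AlgInt) (hM : Cfsg.IsPModular p M) (D : Subgroup G) (hD : IsPGroup p D) (hG : D ⊔ Subgroup.centralizer (D : Set G) = ⊤) (B : Set (Cfsg.IrrCharacter G)) (hB : Cfsg.IsPBlock M B) (hBD : Cfsg.IsDefectGroup p M B D) (χ : Cfsg.IrrCharacter G) (hχ : χ ∈ B) (hχD : ∀ y ∈ D, (χ : G → ℂ) y = (χ : G → ℂ) 1) : (∀ θ : Cfsg.IrrCharacter G, θ ∈ B ↔ ∃ ζ : Cfsg.IrrCharacter D, (∀ (y : D) (x : G), ¬ p ∣ orderOf x → Commute (y : G) x → (θ : G → ℂ) ((y : G) * x) = (ζ : D → ℂ) y * (χ : G → ℂ) x) ∧ (∀ z : G, (∀ y : G, Cfsg.IsPPart p z y → y ∉ D) → (θ : G → ℂ) z = 0)) ∧ ∀ ζ : Cfsg.IrrCharacter D, ∃ θ ∈ B, (∀ (y : D) (x : G), ¬ p ∣ orderOf x → Commute (y : G) x → (θ : G → ℂ) ((y : G) * x) = (ζ : D → ℂ) y * (χ : G → ℂ) x) ∧ (∀ z : G, (∀ y : G, Cfsg.IsPPart p z y → y ∉ D) → (θ : G → ℂ) z = 0) := by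
  classical
  haveI := Fintype.ofFinite G
  haveI := Fintype.ofFinite D
  haveI := normal_of_sup hG
  have hP' := pmod_prime hM
  have hdata : CDData p D χ := by
    refine ⟨hM.1, hD, hG, hχD, ?_⟩
    obtain ⟨φ, hφ⟩ := exists_quotient_char D χ hχD
    have e : deg (φ : G ⧸ D → ℂ) = deg (χ : G → ℂ) := by
      have h := hφ 1
      rw [QuotientGroup.mk_one, char_one_eq_deg (irr_isCharacter φ.2),
        char_one_eq_deg (irr_isCharacter χ.2)] at h
      exact_mod_cast h
    haveI := Fintype.ofFinite (G ⧸ D)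
    refine le_antisymm ?_ ?_
    · rw [← e, Subgroup.index_eq_card]
      exact (Nat.factorization_le_iff_dvd (deg_pos φ.2).ne' Nat.card_pos.ne').mpr
        (deg_dvd_card φ.2) p
    · have h1 := card_defectGroup hM hB hBD
      have h2 := dmin_add_defect (p := p) ⟨χ, hχ⟩
      have h3 := dmin_le (p := p) hχ
      have h4 : (Nat.card G).factorization p =
          Cfsg.blockDefect p B + D.index.factorization p := by
        rw [← Subgroup.card_mul_index D, Nat.factorization_mul Nat.card_pos.ne'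
          Subgroup.index_ne_zero_of_finite, Finsupp.add_apply, h1, hM.1.factorization_pow,
          Finsupp.single_eq_same]
      simp only [dexp, charDegree_eq_deg] at h3
      omega
  have hF : ∀ ζ : IrrCharacter D, ∃ θ ∈ B, (θ : G → ℂ) = thetaXi p χ (ζ : D → ℂ) := by
    intro ζ
    obtain ⟨θ, z, hz, he⟩ := hdata.exists_irr hM ζ
    have hnorm := hdata.thetaXi_norm ζ
    rw [he, classInner_smul_left, classInner_smul_right, irr_self θ.2, mul_one, map_intCast] at hnorm
    have hz2 : z * z = 1 := by exact_mod_cast hnorm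
    have h1 := congrFun he (((1 : D) : G) * 1)
    rw [hdata.thetaXi_mul _ 1 (by rw [orderOf_one]; exact hM.1.not_dvd_one)] at h1
    simp only [OneMemClass.coe_one, mul_one, Pi.smul_apply, smul_eq_mul] at h1
    rw [char_one_eq_deg (irr_isCharacter ζ.2), char_one_eq_deg (irr_isCharacter χ.2),
      char_one_eq_deg (irr_isCharacter θ.2)] at h1
    have h2 : ((deg (ζ : D → ℂ) * deg (χ : G → ℂ) : ℕ) : ℤ) = z * deg (θ : G → ℂ) := by
      have : (((deg (ζ : D → ℂ) * deg (χ : G → ℂ) : ℕ) : ℤ) : ℂ) =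
          ((z * deg (θ : G → ℂ) : ℤ) : ℂ) := by push_cast; exact h1
      exact_mod_cast this
    have hpos : (0 : ℤ) < ((deg (ζ : D → ℂ) * deg (χ : G → ℂ) : ℕ) : ℤ) :=
      Int.natCast_pos.mpr (Nat.mul_pos (deg_pos ζ.2) (deg_pos χ.2))
    have hz1 : z = 1 := by
      rcases mul_self_eq_one_iff.mp hz2 with h | h
      · exact h
      · exfalso; rw [h2, h] at hpos; omega
    rw [hz1, Int.cast_one, one_smul] at he
    refine ⟨θ, ?_, he.symm⟩
    rw [block_eq_blockOf hP' hB hχ]
    show SameBlock M (χ : G → ℂ) (θ : G → ℂ)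
    by_contra hns
    obtain ⟨w, hw, hw0, -, -⟩ := hdata.coeff hM ζ θ
    rw [he, irr_self θ.2] at hw
    have : (w : ℂ) = 0 := by
      rw [hw0 (einner_eq_zero_of_not_sameBlock hM χ θ hns), Int.cast_zero]
    exact one_ne_zero (hw.trans this)
  choose F hFB hFval using hF
  have hprop : ∀ (θ : IrrCharacter G) (ζ : IrrCharacter D),
      ((∀ (y : D) (x : G), ¬ p ∣ orderOf x → Commute (y : G) x →
        (θ : G → ℂ) ((y : G) * x) = (ζ : D → ℂ) y * (χ : G → ℂ) x) ∧
      (∀ z : G, (∀ y : G, Cfsg.IsPPart p z y → y ∉ D) → (θ : G → ℂ) z = 0)) ↔ θ = F ζ := by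
    intro θ ζ
    constructor
    · rintro ⟨h1, h2⟩
      refine Subtype.ext (funext fun g => ?_)
      rw [hFval ζ]
      obtain ⟨y, hxy, hc, hk, hy⟩ := (preg_spec hM.1 g).1
      by_cases hg : pptElem p g ∈ D
      · conv_lhs => rw [← hxy]
        conv_rhs => rw [← hxy]
        rw [show g * (preg p g)⁻¹ = ((⟨_, hg⟩ : D) : G) from rfl, hdata.thetaXi_mul _ _ hy]
        exact h1 ⟨_, hg⟩ y hy hc
      · rw [hdata.thetaXi_zero _ hg]
        refine h2 g fun w hw hwD => hg ?_
        obtain ⟨r, hwr, hcr, hkr, hr⟩ := hw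
        rw [← hwr, ppt_of_mul hM.1 hcr hkr hr]
        exact hwD
    · rintro rfl
      refine ⟨fun y x hx _ => by rw [hFval ζ, hdata.thetaXi_mul _ _ hx], fun z hz => ?_⟩
      rw [hFval ζ, hdata.thetaXi_zero]
      exact hz _ (preg_spec hM.1 z).1
  have hinj : Function.Injective F := by
    intro ζ η he
    refine Subtype.ext (funext fun u => ?_)
    have h := congrFun (congrArg Subtype.val he) ((u : G) * 1)
    rw [hFval, hFval, hdata.thetaXi_mul _ _ (by rw [orderOf_one]; exact hM.1.not_dvd_one),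
      hdata.thetaXi_mul _ _ (by rw [orderOf_one]; exact hM.1.not_dvd_one)] at h
    exact mul_right_cancel₀ (irr_one_ne_zero χ.2) h
  have hsurj : ∀ θ ∈ B, ∃ ζ, θ = F ζ := by
    intro θ hθ
    have hcard := (hdata.block hM hB hχ).2
    rw [← card_irr (G := D)] at hcard
    have hbij := ((Nat.bijective_iff_injective_and_card (fun ζ => (⟨F ζ, hFB ζ⟩ : B))).mpr
      ⟨fun a b h => hinj (congrArg Subtype.val h), hcard.symm⟩)
    obtain ⟨ζ, hζ⟩ := hbij.2 ⟨θ, hθ⟩
    exact ⟨ζ, (congrArg Subtype.val hζ).symm⟩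
  refine ⟨fun θ => ⟨fun hθ => ?_, fun ⟨ζ, h⟩ => (hprop θ ζ).mp h ▸ hFB ζ⟩,
    fun ζ => ⟨F ζ, hFB ζ, (hprop _ ζ).mpr rfl⟩⟩
  obtain ⟨ζ, hζ⟩ := hsurj θ hθ
  exact ⟨ζ, (hprop θ ζ).mpr hζ⟩

end Cfsg.Agent.S4714
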