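import Cfsg.Statements.S4715
import Cfsg.Agent.Lib.Char.CentralPairs

set_option autoImplicit false
open Cfsg
open Cfsg.Agent

namespace Cfsg.Agent.S4715

/-- Let p be a prime, M a maximal ideal of the algebraic integers containing p, B a p-block of the finite group G with defect group D of order p^d, H = D·C_G(D), b a block of H inducing B, T the stabilizer of b in N_G(D) and e = [T : H] the inertial index of B; let n be the integer with p^n ≤ e < p^(n+1) and p^c the order of the centre of D. Then every irreducible character in B has height h with h + c ≤ n + d. -/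
theorem result {G : Type*} [Group G] [Finite G] (p : ℕ) [Fact p.Prime] (M : Ideal Cfsg.AlgInt) (hM : Cfsg.IsPModular p M) (B : Set (Cfsg.IrrCharacter G)) (hB : Cfsg.IsPBlock M B) (D : Subgroup G) (hBD : Cfsg.IsDefectGroup p M B D) (d : ℕ) (hDd : Nat.card D = p ^ d) (H : Subgroup G) (hH : H = D ⊔ Subgroup.centralizer (D : Set G)) (b : Set (Cfsg.IrrCharacter H)) (hind : Cfsg.IsInducedBlock M H b B) (T : Subgroup G) (hT : ∀ g : G, g ∈ T ↔ (g ∈ Subgroup.normalizer (D : Set G) ∧ ∀ θ ∈ b, ∀ θ' : Cfsg.IrrCharacter H, (∀ h h' : H, (h' : G) = g * h * g⁻¹ → (θ' : H → ℂ) h' = (θ : H → ℂ) h) → θ' ∈ b)) (e : ℕ) (he : H.relIndex T = e) (n : ℕ) (hn : p ^ n ≤ e ∧ e < p ^ (n + 1)) (c : ℕ) (hc : Nat.card (Subgroup.center D) = p ^ c) : ∀ χ ∈ B, Cfsg.blockHeight p B (χ : G → ℂ) + c ≤ n + d := by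
  classical
  haveI := Fintype.ofFinite G
  haveI := Fintype.ofFinite H
  have hP := Char.pmod_prime hM
  obtain ⟨P0, rfl⟩ : ∃ P0 : Subgroup H, P0.map H.subtype = D :=
    ⟨D.subgroupOf H, Subgroup.map_subgroupOf_eq_of_le (le_sup_left.trans hH.ge)⟩
  have hC : Subgroup.centralizer ((P0.map H.subtype : Subgroup G) : Set G) ≤ H := le_sup_right.trans hH.ge
  haveI : P0.Normal := by
    have h1 := (Subgroup.normal_subgroupOf_iff_le_normalizer
      (Subgroup.map_subtype_le P0)).mpr (hH.le.trans Char.le_normalizer_of_local)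
    rwa [show (P0.map H.subtype).subgroupOf H = P0 from
      Subgroup.comap_map_eq_self_of_injective (Subgroup.subtype_injective H) _] at h1
  have hp0 : IsPGroup p P0 :=
    (IsPGroup.of_card hDd).of_equiv (P0.equivMapOfInjective _ (Subgroup.subtype_injective H)).symm
  obtain ⟨Db, hDb⟩ := Char.exists_isDefectGroup hM hind.1
  obtain ⟨e0, he0⟩ := Char.exists_pair_of_le_defect hM hind.1 hDb (Char.pCore_le_defectGroup hM hind.1 hDb P0 hp0)
  have heB := Char.pairOf_of_induced hM hind hC he0
  have hmax := Char.maximal_of_defect hM hBD heB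
  have hST : Char.pairStab hP hmax.1.1.2 ≤ T := by
    intro g hg
    obtain ⟨hgN, hst⟩ := (Char.mem_pairStab hP hmax.1.1.2).mp hg
    refine (hT g).mpr ⟨hgN, fun θ hθ θ' hθ' => ?_⟩
    have hgH : g⁻¹ ∈ Subgroup.normalizer (H : Set G) := by
      rw [hH]; exact Char.mem_normalizer_local (inv_mem hgN)
    have hb : Char.irrTransport (Char.conjH H g⁻¹ hgH) '' b = b :=
      Char.pairOf_unique hM (Char.pairOf_transport hM hC he0 hgH he0.1.2
        ((Char.conjIdx_eq_self_iff hP hmax.1.1.2 g).mpr ⟨hgN, hst⟩)) he0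
    rw [← hb]
    refine ⟨θ, hθ, Subtype.ext (funext fun k' => ?_)⟩
    rw [Char.irrTransport_apply]
    refine (hθ' _ k' ?_).symm
    show (k' : G) = g * (g⁻¹ * (k' : G) * g⁻¹⁻¹) * g⁻¹
    group
  have hfix : ∀ h ∈ H, ∀ z ∈ P0.map H.subtype, (∀ x ∈ P0.map H.subtype, x * z = z * x) → h * z = z * h := by
    intro h hh z hz hzc
    have hle : H ≤ Subgroup.centralizer ({z} : Set G) := by
      rw [hH]
      refine sup_le (fun x hx => Subgroup.mem_centralizer_singleton_iff.mpr (hzc x hx)) ?_
      exact Subgroup.centralizer_le (Set.singleton_subset_iff.mpr hz)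
    exact Subgroup.mem_centralizer_singleton_iff.mp (hle hh)
  intro χ hχ
  have key := Char.CentralPairs.card_central_mul_le hM hmax hST hfix hχ
  have hd : blockDefect p B = d := Nat.pow_right_injective hM.1.two_le
    ((Char.card_defectGroup hM hB hBD).symm.trans hDd)
  rw [hc, he, hd] at key
  have h2 : p ^ (c + blockHeight p B (χ : G → ℂ)) < p ^ (n + 1 + d) := by
    rw [pow_add, pow_add p (n + 1) d]
    exact key.trans_lt (Nat.mul_lt_mul_of_pos_right hn.2 (pow_pos hM.1.pos d))
  have := (Nat.pow_lt_pow_iff_right hM.1.one_lt).mp h2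
  omega

end Cfsg.Agent.S4715
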