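import Cfsg.Statements.S4718
import Cfsg.Agent.Lib.Char.Landau

set_option autoImplicit false
universe u
open Cfsg
open scoped ComplexConjugate

namespace Cfsg.Agent.S4718

/-- Let p be a prime and a a natural number. There is a bound N such that every finite group whose Sylow p-subgroups have order p^a and whose only p-block (relative to a maximal ideal of the algebraic integers containing p) is the principal block has order at most N. -/
theorem result (p : ℕ) [Fact p.Prime] (a : ℕ) : ∃ N : ℕ, ∀ (G : Type u) [Group G] [Finite G] (M : Ideal Cfsg.AlgInt), Cfsg.IsPModular p M → (Nat.card G).factorization p = a → (∀ B : Set (Cfsg.IrrCharacter G), Cfsg.IsPBlock M B → B = Cfsg.principalBlock M G) → Nat.card G ≤ N := by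
  obtain ⟨N, hN⟩ := Cfsg.Agent.Char.exists_card_bound_of_classes.{u} (p ^ (2 * a) + 4)
  refine ⟨N, fun G _ _ M hM ha hone => hN G ?_⟩
  have := Fintype.ofFinite G
  have hP := Cfsg.Agent.Char.pmod_prime hM
  rw [← Cfsg.Agent.Char.card_irr, Nat.card_eq_fintype_card, ← Finset.card_univ]
  let χ0 : Cfsg.IrrCharacter G := ⟨_, Cfsg.Agent.Char.isIrrCharacter_one⟩
  have hall : ∀ ψ : Cfsg.IrrCharacter G, ψ ∈ Cfsg.principalBlock M G := fun ψ =>
    hone _ (Cfsg.Agent.Char.isPBlock_blockOf M ψ) ▸ Cfsg.Agent.Char.self_mem_blockOf hP ψ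
  have hB : Cfsg.IsPBlock M (Cfsg.principalBlock M G) :=
    hone _ (Cfsg.Agent.Char.isPBlock_blockOf M χ0) ▸ Cfsg.Agent.Char.isPBlock_blockOf M χ0
  have h := Cfsg.Agent.Char.sum_pow_height_le hM hB
  have hd : Cfsg.blockDefect p (Cfsg.principalBlock M G) ≤ a := by
    have := Cfsg.Agent.Char.dmin_add_defect (p := p) (Cfsg.Agent.Char.block_nonempty hP hB)
    omega
  have hp : 0 < p := hM.1.pos
  have h2 := Nat.pow_le_pow_right hp (Nat.mul_le_mul_left 2 hd)
  have h3 : (Finset.univ : Finset (Cfsg.IrrCharacter G)).card ≤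
      ∑ θ ∈ Cfsg.Agent.Char.bset (Cfsg.principalBlock M G),
        p ^ (2 * Cfsg.blockHeight p (Cfsg.principalBlock M G) (θ : G → ℂ)) := by
    rw [show Cfsg.Agent.Char.bset (Cfsg.principalBlock M G) = Finset.univ from
      Finset.eq_univ_of_forall fun ψ => Cfsg.Agent.Char.mem_bset.mpr (hall ψ), Finset.card_eq_sum_ones]
    exact Finset.sum_le_sum fun θ _ => Nat.one_le_pow _ _ hp
  omega

end Cfsg.Agent.S4718
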