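import Cfsg.Statements.S4720
import Cfsg.Agent.Lib.Char.PrincipalBlock
import Cfsg.Agent.Lib.Char.SectionNorm
import Cfsg.Agent.Lib.Char.SectionPart

set_option autoImplicit false
open Cfsg
open scoped ComplexConjugate

namespace Cfsg.Agent.S4720

/-- Let p be a prime, M a maximal ideal of the algebraic integers containing p, P a p-subgroup of the finite group G, N a subgroup with P ≤ N ≤ N_G(P), and U a nonempty subset of P normalized by N such that an element of U and an element of P that are conjugate in G are already conjugate in N, and such that λ(C_G(y)) = w·#C_N(y) for every y ∈ U with one rational number w, where λ(X) denotes the sum of the squares of the degrees of the irreducible characters in the principal p-block of X. For a complex function θ on P and χ in the principal block of G put a_χ(θ) = #P⁻¹ Σ_{y ∈ P} χ(y) θ(y⁻¹). Then for generalized characters θ, η of P with θ vanishing outside U, Σ_χ a_χ(θ)·conj(a_χ(η)) = (w/#P²)·Σ_{y ∈ P} θ(y)·conj(Σ_{x ∈ N} η(x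 y x⁻¹)) (η extended by zero off P; the conjugates lie in P), the first sum over the principal p-block of G. -/
theorem result {G : Type*} [Group G] [Finite G] (p : ℕ) [Fact p.Prime] (M : Ideal Cfsg.AlgInt) (hM : Cfsg.IsPModular p M) (P : Subgroup G) (hP : IsPGroup p P) (N : Subgroup G) (hPN : P ≤ N) (hNN : N ≤ Subgroup.normalizer (P : Set G)) (U : Set G) (hUne : U.Nonempty) (hUP : U ⊆ (P : Set G)) (hUN : ∀ n ∈ N, ∀ u ∈ U, n * u * n⁻¹ ∈ U) (hfus : ∀ u ∈ U, ∀ g : G, g * u * g⁻¹ ∈ (P : Set G) → ∃ n ∈ N, n * u * n⁻¹ = g * u * g⁻¹) (w : ℚ) (hw : ∀ y ∈ U, ((∑ᶠ ψ ∈ Cfsg.principalBlock M ↥(Subgroup.centralizer ({y} : Set G)), Cfsg.charDegree (ψ : ↥(Subgroup.centralizer ({y} : Set G)) → ℂ) ^ 2) : ℚ) = w * Nat.card ↥(N ⊓ Subgroup.centralizer ({y} : Set G))) (θ η : ↥P → ℂ) (hθ : Cfsg.IsGeneralizedCharacter ↥P θ) (hη : Cfsg.IsGeneralizedCharacter ↥P η) (hθU : ∀ y : ↥P, (y : G) ∉ U → θ y = 0) : ∑ᶠ χ ∈ Cfsg.principalBlock M G, ((Nat.card ↥P : ℂ)⁻¹ * ∑ᶠ y : ↥P, (χ : G → ℂ) (y : G) *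 θ y⁻¹) * (starRingEnd ℂ) ((Nat.card ↥P : ℂ)⁻¹ * ∑ᶠ y : ↥P, (χ : G → ℂ) (y : G) * η y⁻¹) = ((w : ℂ) / ((Nat.card ↥P : ℂ) ^ 2)) * ∑ᶠ y : ↥P, θ y * (starRingEnd ℂ) (∑ᶠ x : ↥N, Cfsg.extendByZero P η ((x : G) * (y : G) * (x : G)⁻¹)) := by
  classical
  have hp : p.Prime := Fact.out
  have := Fintype.ofFinite G
  have := Fintype.ofFinite P
  have := Fintype.ofFinite N
  have hP' := Char.pmod_prime hM
  have hB : Cfsg.IsPBlock M (Cfsg.principalBlock M G) :=
    Char.isPBlock_principalBlock M
  have hpp : ∀ y : P, ∃ k : ℕ, orderOf (y : G) = p ^ k := by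
    intro y
    obtain ⟨k, hk⟩ := hP y
    obtain ⟨j, -, hj⟩ := (Nat.dvd_prime_pow hp).mp (orderOf_dvd_of_pow_eq_one hk)
    exact ⟨j, by rw [Subgroup.orderOf_coe]; exact hj⟩
  -- values of the sums on sections
  set sB := Finset.univ.filter fun χ : Cfsg.IrrCharacter G => χ ∈ Cfsg.principalBlock M G with hsB
  set S : G → G → ℂ := fun a c => ∑ χ ∈ sB, (χ : G → ℂ) a * (starRingEnd ℂ) ((χ : G → ℂ) c) with hS
  have hSoff : ∀ y y' : P, ¬ IsConj (y : G) (y' : G) → S y y' = 0 := by
    intro y y' hne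
    set ϑ : G → ℂ := fun g => ∑ χ : Cfsg.IrrCharacter G,
      (χ : G → ℂ) g * (starRingEnd ℂ) ((χ : G → ℂ) (y' : G)) with hϑd
    have hϑ : Cfsg.IsClassFunction G ϑ := fun a k => by
      simp only [hϑd, Char.isClassFunction_character (Char.irr_isCharacter (Subtype.prop _)) a k]
    have hinner : ∀ χ : Cfsg.IrrCharacter G,
        Cfsg.classInner ϑ (χ : G → ℂ) = (starRingEnd ℂ) ((χ : G → ℂ) (y' : G)) := by
      intro χ
      have e : ϑ = ∑ η : Cfsg.IrrCharacter G,
          (starRingEnd ℂ) ((η : G → ℂ) (y' : G)) • (η : G → ℂ) := by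
        funext g
        simp [hϑd, Finset.sum_apply, mul_comm]
      rw [e, Char.classInner_sum_left]
      simp only [Char.classInner_smul_left, Char.irr_orth (Subtype.prop _) χ.2]
      rw [Finset.sum_eq_single χ (fun η _ hη => by rw [if_neg fun h => hη (Subtype.ext h), mul_zero])
        (fun h => absurd (Finset.mem_univ χ) h), if_pos rfl, mul_one]
    have h := Char.blockPart_eq_zero_of_isPPart hM (hpp y) hϑ (fun u z hu hz => by
      rw [hϑd]
      simp only
      rw [Char.second_orth, if_neg]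
      intro huy
      obtain ⟨k, hk⟩ := hpp y'
      obtain ⟨c, hc⟩ := isConj_iff.mp huy
      have hou : orderOf u = p ^ k := by
        rw [← hk, ← hc, show c * u * c⁻¹ = MulAut.conj c u from rfl, MulEquiv.orderOf_eq]
      have huu : Cfsg.IsPPart p u u :=
        ⟨1, mul_one u, Commute.one_right u, ⟨k, hou⟩, by simp [hp.ne_one]⟩
      exact hne (hz.trans (Char.isPPart_unique hp hu huu ▸ huy)))
      hB (u := (y : G)) (z := (y : G))
      ⟨1, mul_one _, Commute.one_right _, hpp y, by simp [hp.ne_one]⟩ (IsConj.refl _)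
    rw [Char.blockPart_eq] at h
    rw [← h, hS]
    refine Finset.sum_congr rfl fun χ _ => ?_
    rw [hinner, mul_comm]
  have hSon : ∀ y : P, (y : G) ∈ U → ∀ y' : P, IsConj (y : G) (y' : G) →
      S y y' = (w : ℂ) * Nat.card ↥(N ⊓ Subgroup.centralizer ({(y : G)} : Set G)) := by
    intro y hy y' hyy
    have := Fintype.ofFinite (Subgroup.centralizer ({(y : G)} : Set G))
    obtain ⟨c, hc⟩ := isConj_iff.mp hyy
    have hval : ∀ χ : Cfsg.IrrCharacter G, (χ : G → ℂ) y' = (χ : G → ℂ) y := fun χ => by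
      rw [← hc, Char.isClassFunction_character (Char.irr_isCharacter χ.2)]
    have h := Char.sum_section_functional hM (hpp y) hB
      (fun c => if c = 1 then (1 : ℂ) else 0)
      (fun c hc => if_neg fun h => by rw [h, orderOf_one] at hc; exact hp.not_dvd_one hc)
    rw [Char.principal_section_filter hM (hpp y), Finset.sum_singleton] at h
    simp only [ite_mul, one_mul, zero_mul, Finset.sum_ite_eq', Finset.mem_univ, if_true,
      OneMemClass.coe_one, mul_one] at h
    simp only [hS, hval]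
    rw [Finset.sum_congr rfl fun χ _ => mul_comm _ _, h]
    have hw' := congrArg (fun q : ℚ => (q : ℂ)) (hw y hy)
    simp only [Rat.cast_natCast, Rat.cast_mul] at hw'
    rw [← hw', Char.finsum_mem_irr, Rat.cast_sum]
    refine Finset.sum_congr rfl fun ξ _ => ?_
    rw [Char.char_one_eq_deg (Char.irr_isCharacter ξ.2), Complex.conj_natCast, Char.charDegree_eq_deg,
      Rat.cast_pow, Rat.cast_natCast, pow_two]
  -- generalized characters
  have hgen : ∀ f : P → ℂ, Cfsg.IsGeneralizedCharacter P f →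
      ∀ u, f u⁻¹ = (starRingEnd ℂ) (f u) := by
    rintro f ⟨a, b, ha, hb, rfl⟩ u
    simp only [Pi.sub_apply, Char.char_inv ha, Char.char_inv hb, map_sub]
  set Φ : P → ℂ := fun y => ∑ x : N, Cfsg.extendByZero P η ((x : G) * (y : G) * (x : G)⁻¹) with hΦ
  have hΦinv : ∀ y, Φ y⁻¹ = (starRingEnd ℂ) (Φ y) := by
    intro y
    simp only [hΦ, map_sum]
    refine Finset.sum_congr rfl fun x _ => ?_
    have hmem : (x : G) * (y : G) * (x : G)⁻¹ ∈ P :=
      (Subgroup.mem_normalizer_iff.mp (hNN x.2) y).mp y.2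
    rw [show (x : G) * ((y⁻¹ : P) : G) * (x : G)⁻¹ = ((x : G) * (y : G) * (x : G)⁻¹)⁻¹ by
        rw [InvMemClass.coe_inv]; group,
      Char.extendByZero_mem P η (P.inv_mem hmem), Char.extendByZero_mem P η hmem, ← hgen η hη]
    rfl
  -- summing over the fusion class
  have hclass : ∀ y : P, (y : G) ∈ U →
      ∑ y' : P, S y y' * η y' = (w : ℂ) * Φ y := by
    intro y hy
    set cyc := Nat.card ↥(N ⊓ Subgroup.centralizer ({(y : G)} : Set G)) with hcyc
    let f : N → P := fun x => ⟨(x : G) * (y : G) * (x : G)⁻¹,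
      (Subgroup.mem_normalizer_iff.mp (hNN x.2) y).mp y.2⟩
    have hfib : ∀ y' : P, ((Finset.univ.filter fun x : N => f x = y').card : ℂ) =
        if IsConj (y : G) (y' : G) then (cyc : ℂ) else 0 := by
      intro y'
      split_ifs with hcj
      · obtain ⟨g, hg⟩ := isConj_iff.mp hcj
        obtain ⟨n, hn, hny⟩ := hfus y hy g (hg ▸ y'.2)
        congr 1
        rw [hcyc, Nat.card_eq_fintype_card, ← Finset.card_univ]
        refine Finset.card_bij (fun x hx => ⟨n⁻¹ * (x : G), N.mul_mem (N.inv_mem hn) x.2, ?_⟩)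
          (fun x _ => Finset.mem_univ _)
          (fun x _ z _ h => Subtype.ext (by simpa using congrArg Subtype.val h))
          (fun m _ => ⟨⟨n * (m : G), N.mul_mem hn m.2.1⟩, Finset.mem_filter.mpr ⟨Finset.mem_univ _, ?_⟩,
            Subtype.ext (by simp)⟩)
        · have h1 : (x : G) * (y : G) * (x : G)⁻¹ = n * (y : G) * n⁻¹ := by
            rw [hny, hg]; exact congrArg Subtype.val (Finset.mem_filter.mp hx).2
          refine Subgroup.mem_centralizer_singleton_iff.mpr ?_
          calc n⁻¹ * (x : G) * (y : G) = n⁻¹ * ((x : G) * (y : G) * (x : G)⁻¹) * (x : G) := by group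
            _ = (y : G) * (n⁻¹ * (x : G)) := by rw [h1]; group
        · have hm := Subgroup.mem_centralizer_singleton_iff.mp m.2.2
          refine Subtype.ext ?_
          show (n * (m : G)) * (y : G) * (n * (m : G))⁻¹ = y'
          rw [← hg, ← hny, show (n * (m : G)) * (y : G) * (n * (m : G))⁻¹ =
            n * ((m : G) * (y : G) * (m : G)⁻¹) * n⁻¹ by group, hm, mul_inv_cancel_right]
      · rw [Nat.cast_eq_zero, Finset.card_eq_zero, Finset.filter_eq_empty_iff]
        exact fun x _ hx => hcj (isConj_iff.mpr ⟨(x : G), congrArg Subtype.val hx⟩)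
    have e : Φ y = ∑ y' : P, (if IsConj (y : G) (y' : G) then (cyc : ℂ) else 0) * η y' := by
      rw [hΦ]
      simp only
      rw [← Finset.sum_fiberwise Finset.univ f]
      refine Finset.sum_congr rfl fun y' _ => ?_
      rw [← hfib, Finset.sum_congr rfl (g := fun _ => η y') fun x hx => ?_, Finset.sum_const,
        nsmul_eq_mul]
      have hx' := (Finset.mem_filter.mp hx).2
      rw [← hx', Char.extendByZero_mem P η (f x).2]
    rw [e, Finset.mul_sum]
    refine Finset.sum_congr rfl fun y' _ => ?_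
    by_cases hcj : IsConj (y : G) (y' : G)
    · rw [if_pos hcj, hSon y hy y' hcj]; ring
    · rw [if_neg hcj, hSoff y y' hcj]; ring
  have hmain : ∀ y : P, (starRingEnd ℂ) (θ y) * ∑ y' : P, S y y' * η y' =
      (w : ℂ) * ((starRingEnd ℂ) (θ y) * Φ y) := by
    intro y
    by_cases hy : (y : G) ∈ U
    · rw [hclass y hy]; ring
    · rw [hθU y hy, map_zero]; ring
  rw [Char.finsum_mem_irr]
  simp only [finsum_eq_sum_of_fintype]
  have hconjη : ∀ y' : P, (starRingEnd ℂ) (η y'⁻¹) = η y' := fun y' => by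
    rw [hgen η hη, Complex.conj_conj]
  calc ∑ χ ∈ sB, ((Nat.card P : ℂ)⁻¹ * ∑ y : P, (χ : G → ℂ) (y : G) * θ y⁻¹) *
        (starRingEnd ℂ) ((Nat.card P : ℂ)⁻¹ * ∑ y : P, (χ : G → ℂ) (y : G) * η y⁻¹)
      = ((Nat.card P : ℂ)⁻¹) ^ 2 * ∑ y : P, (starRingEnd ℂ) (θ y) * ∑ y' : P, S y y' * η y' := by
        simp only [hS, map_mul, map_inv₀, Complex.conj_natCast, map_sum, hconjη, hgen θ hθ,
          Finset.mul_sum, Finset.sum_mul]
        rw [Finset.sum_comm]
        conv_rhs => enter [2, y]; rw [Finset.sum_comm]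
        rw [Finset.sum_comm]
        conv_rhs => rw [Finset.sum_comm]
        refine Finset.sum_congr rfl fun χ _ => ?_
        rw [Finset.sum_comm]
        refine Finset.sum_congr rfl fun y _ => Finset.sum_congr rfl fun y' _ => ?_
        ring
    _ = ((w : ℂ) / (Nat.card P : ℂ) ^ 2) * ∑ y : P, θ y * (starRingEnd ℂ) (Φ y) := by
        simp only [hmain]
        rw [← Finset.mul_sum, ← Fintype.sum_equiv (Equiv.inv P) (fun y => θ y⁻¹ * Φ y)
          (fun y => θ y * (starRingEnd ℂ) (Φ y)) fun y => by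
            simp only [Equiv.inv_apply, ← hΦinv, inv_inv]]
        simp only [hgen θ hθ]
        ring

end Cfsg.Agent.S4720
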