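import Cfsg.Statements.S4721
import Cfsg.Agent.Lib.Char.FrobSylowInvolution

set_option autoImplicit false
open Cfsg Cfsg.Agent.Char
open scoped ComplexConjugate

namespace Cfsg.Agent.S4721

/-- Let p be a prime, M a maximal ideal of the algebraic integers containing p, and G a finite group with a nontrivial abelian Sylow p-subgroup P, N = N_G(P), C = C_G(P), such that N/C is cyclic of order 3, #P > 4, and C_G(y) ∩ N = C for every non-identity y ∈ P. Then the principal p-block is the disjoint union of a set X of exactly 3 characters containing the principal character and a set Y of (#P − 1)/3 characters, with signs a_χ = ±1 (χ ∈ X, a = 1 at the principal character) and δ = ±1 such that every χ ∈ X takes the value a_χ at every element whose p-part is a non-identity element of P, and there is a map ζ from the non-principal linear characters of P onto Y, constant on N-conjugacy classes, with ζ_ψ(z) = δ·Σ ψ'(y) over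 the N-orbit of ψ, for z with p-part y ≠ 1 in P. If moreover G has an involution lying in no proper normal subgroup of G, then exactly two of the three numbers −δ and a_χ (χ ∈ X non-principal) equal −1, and the product of the degrees of the two non-principal members of X and of any member of Y is a perfect square. -/
theorem result {G : Type*} [Group G] [Finite G] (p : ℕ) [Fact p.Prime] (M : Ideal Cfsg.AlgInt) (hM : Cfsg.IsPModular p M) (P : Sylow p G) (hab : IsMulCommutative P) (hP1 : Nat.card P ≠ 1) (hCN : (Subgroup.centralizer ((P : Subgroup G) : Set G)).relIndex (Subgroup.normalizer ((P : Subgroup G) : Set G)) = 3) (hcyc : ∃ g : G, g ∈ Subgroup.normalizer ((P : Subgroup G) : Set G) ∧ Subgroup.centralizer ((P : Subgroup G) : Set G) ⊔ Subgroup.zpowers g = Subgroup.normalizer ((P : Subgroup G) : Set G)) (hm2 : 3 + 1 < Nat.card P) (hfrob : ∀ y : G, y ∈ (P : Subgroup G) → y ≠ 1 → Subgroup.centralizer ({y} : Set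 G) ⊓ Subgroup.normalizer ((P : Subgroup G) : Set G) = Subgroup.centralizer ((P : Subgroup G) : Set G)) : ∃ (X Y : Set (Cfsg.IrrCharacter G)), Cfsg.principalBlock M G = X ∪ Y ∧ Disjoint X Y ∧ Nat.card X = 3 ∧ Nat.card Y = (Nat.card P - 1) / 3 ∧ (∃ χ₁ ∈ X, (χ₁ : G → ℂ) = fun _ => 1) ∧ ∃ (a : Cfsg.IrrCharacter G → ℤ) (δ : ℤ) (ζ : (↥(P : Subgroup G) →* ℂˣ) → Cfsg.IrrCharacter G), (δ = 1 ∨ δ = -1) ∧ (∀ χ ∈ X, (a χ = 1 ∨ a χ = -1) ∧ ∀ z y : G, Cfsg.IsPPart p z y → y ∈ (P : Subgroup G) → y ≠ 1 → (χ : G → ℂ) z = (a χ : ℂ)) ∧ (∀ ψ : ↥(P : Subgroup G) →* ℂˣ, ψ ≠ 1 → ζ ψ ∈ Y) ∧ (∀ η ∈ Y, ∃ ψ : ↥(P : Subgroup G) →* ℂˣ, ψ ≠ 1 ∧ ζ ψ = η) ∧ (∀ ψ ψ' : ↥(P : Subgroup G) →* ℂˣ, ψ ≠ 1 → (∃ n : G, n ∈ Subgroup.normalizer ((P : Subgroup G) : Set G) ∧ ∀ w w' : ↥(P : Subgroup G), (w' : G) = n * w * n⁻¹ → ψ' w' = ψ w) → ζ ψ' = ζ ψ) ∧ (∀ ψ : ↥(P : Subgroup G) →* ℂˣ, ψ ≠ 1 → ∀ (z : G) (y : ↥(P : Subgroup G)), Cfsg.IsPPart p z (y : G)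 → (y : G) ≠ 1 → (ζ ψ : G → ℂ) z = (δ : ℂ) * ∑ᶠ ψ' ∈ {ψ' : ↥(P : Subgroup G) →* ℂˣ | ∃ n : G, n ∈ Subgroup.normalizer ((P : Subgroup G) : Set G) ∧ ∀ w w' : ↥(P : Subgroup G), (w' : G) = n * w * n⁻¹ → ψ' w' = ψ w}, ((ψ' y : ℂˣ) : ℂ)) ∧ ((∃ t : G, orderOf t = 2 ∧ ∀ K : Subgroup G, K.Normal → t ∈ K → K = ⊤) → Nat.card {χ : Cfsg.IrrCharacter G // χ ∈ X ∧ (χ : G → ℂ) ≠ (fun _ => 1) ∧ a χ = -1} + (if δ = 1 then 1 else 0) = 2 ∧ ∀ η ∈ Y, IsSquare (Cfsg.charDegree (η : G → ℂ) * ∏ᶠ χ ∈ {χ : Cfsg.IrrCharacter G | χ ∈ X ∧ (χ : G → ℂ) ≠ fun _ => 1}, Cfsg.charDegree (χ : G → ℂ))) := by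
  classical
  haveI := Fintype.ofFinite G
  have h : FrobSylow P 3 := ⟨hab, hP1, hCN, hfrob⟩
  haveI := h.finite_dual.1
  haveI : Fintype (↥(P : Subgroup G) →* ℂˣ) := Fintype.ofFinite _
  obtain ⟨r, rep, idx, hr0, hcount, hrep, hidx, hmem, hconst⟩ := h.exists_orbit_index
  have hI : OrbitIndex 3 rep idx := ⟨hcount, hrep, hidx, hmem, hconst⟩
  have hP : 4 < Nat.card P := by omega
  have hr : 2 ≤ r := by omega
  have hrdiv : (Nat.card P - 1) / 3 = r := by omega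
  obtain ⟨X, μ, a, δ, hX⟩ := h.exists_normalized hM hr hI
  obtain ⟨χ₂, χ₃, hne, hpair, hcard, ha⟩ := FrobSylow.exists_three hX
  refine ⟨(X : Set (IrrCharacter G)), Set.range μ, ?_, ?_, ?_, ?_,
    ⟨_, Finset.mem_coe.mpr hX.one_mem, rfl⟩, a, δ, fun ψ => μ (idx ψ), hX.sign, ?_, ?_, ?_, ?_,
    ?_, ?_⟩
  · ext χ
    rw [hX.mem_iff]
    simp
  · refine Set.disjoint_left.mpr ?_
    rintro χ hχ ⟨i, rfl⟩
    exact hX.notMem i (Finset.mem_coe.mp hχ)
  · simpa using hcard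
  · rw [Nat.card_range_of_injective hX.inj, Nat.card_fin, hrdiv]
  · intro χ hχ
    have hχ' := Finset.mem_coe.mp hχ
    refine ⟨ha χ hχ', fun z y hz hy hy1 => ?_⟩
    rw [h.principal_apply hM ((hX.mem_iff χ).mpr (Or.inl hχ')) (y := ⟨y, hy⟩) hz hy1]
    exact hX.a_val χ hχ' ⟨y, hy⟩ (mem_nonOne.mpr hy1)
  · exact fun ψ _ => Set.mem_range_self _
  · rintro η ⟨i, rfl⟩
    exact ⟨rep i, hrep i, congrArg μ (hidx i)⟩
  · intro ψ ψ' hψ hrel
    exact congrArg μ (hconst ψ hψ ψ' (mem_orbP_of_rel hrel))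
  · intro ψ hψ z y hz hy
    rw [finsum_orbit_eq, h.principal_apply hM ((hX.mem_iff _).mpr (Or.inr ⟨_, rfl⟩)) hz hy,
      hX.mu_val _ y (mem_nonOne.mpr hy), Int.cast_zero, zero_add, orbSum, orbSum,
      orbP_eq_of_mem (hmem ψ hψ)]
  · rintro ⟨t, ht, htop⟩
    set e1 : IrrCharacter G := ⟨fun _ => 1, isIrrCharacter_one⟩ with he1
    have hne1 : ∀ χ : IrrCharacter G, (χ : G → ℂ) ≠ (fun _ => 1) ↔ χ ≠ e1 := fun χ =>
      ⟨fun h e => h (by rw [e]), fun h e => h (Subtype.ext e)⟩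
    have key := fun i₀ => h.involution_signs hM hP hI hX ht htop hne hpair i₀
    refine ⟨?_, ?_⟩
    · have hset : Nat.card {χ : IrrCharacter G // χ ∈ (X : Set (IrrCharacter G)) ∧
          (χ : G → ℂ) ≠ (fun _ => 1) ∧ a χ = -1} = ((X.erase e1).filter fun χ => a χ = -1).card := by
        rw [← Nat.card_eq_finsetCard]
        refine Nat.card_congr (Equiv.subtypeEquivRight fun χ => ?_)
        simp only [Finset.mem_coe, Finset.mem_filter, Finset.mem_erase, hne1]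
        tauto
      rw [hset, hpair, Finset.card_filter, Finset.sum_pair hne]
      exact (key ⟨0, by omega⟩).1
    · rintro η ⟨i, rfl⟩
      have hset : {χ : IrrCharacter G | χ ∈ (X : Set (IrrCharacter G)) ∧
          (χ : G → ℂ) ≠ fun _ => 1} = ↑(X.erase e1) := by
        ext χ
        simp only [Set.mem_setOf_eq, Finset.mem_coe, Finset.mem_erase, hne1]
        tauto
      rw [hset, finprod_mem_coe_finset, hpair, Finset.prod_pair hne]
      exact (key i).2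

end Cfsg.Agent.S4721
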