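import Cfsg.Statements.S4722
import Cfsg.Agent.Lib.Char.PrincipalBlock
import Cfsg.Agent.Lib.Char.SectionPart
import Cfsg.Agent.Lib.Char.Coherence
import Cfsg.Agent.Lib.Char.Convolution
import Cfsg.Agent.Lib.Char.Codegree

set_option autoImplicit false
open Cfsg
open scoped ComplexConjugate

namespace Cfsg.Agent.S4722

/-- Let M be a maximal ideal of the algebraic integers containing 2, P a 2-subgroup of the finite group G, U a subset of P, and t an involution of G such that no element of U is inverted by any conjugate of t. Let θ be a generalized character of P vanishing outside U, and for χ in the principal 2-block B₀ put a_χ = #P⁻¹ Σ_{y ∈ P} χ(y) θ(y⁻¹). Then Σ_{χ ∈ B₀} a_χ χ(t)^2/χ(1) = 0, Σ_{χ ∈ B₀} a_χ χ(1) = 0 and Σ_{χ ∈ B₀} a_χ χ(t) = 0. If moreover #P⁻¹ Σ_{y ∈ P} θ(y) ≠ 0, then either at least two of the a_χ have positive real part and at least two have negative real part, or G has a proper normal subgroup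 containing O_2'(G) and t. -/
theorem result {G : Type*} [Group G] [Finite G] (M : Ideal Cfsg.AlgInt) (hM : Cfsg.IsPModular 2 M) (P : Subgroup G) (hP : IsPGroup 2 P) (U : Set G) (hUP : U ⊆ (P : Set G)) (t : G) (ht : orderOf t = 2) (hinv : ∀ u ∈ U, ∀ g : G, (g * t * g⁻¹) * u * (g * t * g⁻¹)⁻¹ ≠ u⁻¹) (θ : ↥P → ℂ) (hθ : Cfsg.IsGeneralizedCharacter ↥P θ) (hθU : ∀ y : ↥P, (y : G) ∉ U → θ y = 0) : (∑ᶠ χ ∈ Cfsg.principalBlock M G, ((Nat.card ↥P : ℂ)⁻¹ * ∑ᶠ y : ↥P, (χ : G → ℂ) (y : G) * θ y⁻¹) * (χ : G → ℂ) t ^ 2 / (χ : G → ℂ) 1 = 0) ∧ (∑ᶠ χ ∈ Cfsg.principalBlock M G, ((Nat.card ↥P : ℂ)⁻¹ * ∑ᶠ y : ↥P, (χ : G → ℂ) (y : G) * θ y⁻¹) * (χ : G → ℂ) 1 = 0) ∧ (∑ᶠ χ ∈ Cfsg.principalBlock M G, ((Nat.card ↥P : ℂ)⁻¹ * ∑ᶠ y : ↥P, (χ : G → ℂ) (y : G) * θ y⁻¹) * (χ : G → ℂ) t = 0) ∧ ((Nat.card ↥P : ℂ)⁻¹ * ∑ᶠ y : ↥P, θ y ≠ 0 → (2 ≤ Nat.card {χ : Cfsg.IrrCharacter G // χ ∈ Cfsg.principalBlock M G ∧ 0 < (((Nat.card ↥P : ℂ)⁻¹ * ∑ᶠ y : ↥P,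 (χ : G → ℂ) (y : G) * θ y⁻¹)).re} ∧ 2 ≤ Nat.card {χ : Cfsg.IrrCharacter G // χ ∈ Cfsg.principalBlock M G ∧ (((Nat.card ↥P : ℂ)⁻¹ * ∑ᶠ y : ↥P, (χ : G → ℂ) (y : G) * θ y⁻¹)).re < 0}) ∨ ∃ K : Subgroup G, K.Normal ∧ K ≠ ⊤ ∧ Cfsg.pPrimeCore 2 G ≤ K ∧ t ∈ K) := by
  classical
  have := Fintype.ofFinite G
  have := Fintype.ofFinite ↥P
  have hP' := Char.pmod_prime hM
  have hB : Cfsg.IsPBlock M (Cfsg.principalBlock M G) := Char.isPBlock_principalBlock M
  have htt : t * t = 1 := by rw [← pow_two, ← ht, pow_orderOf_eq_one]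
  have ht' : t⁻¹ = t := inv_eq_of_mul_eq_one_left htt
  have hpp : ∀ y : P, ∃ k : ℕ, orderOf (y : G) = 2 ^ k := by
    intro y
    obtain ⟨k, hk⟩ := hP y
    obtain ⟨j, -, hj⟩ := (Nat.dvd_prime_pow Nat.prime_two).mp (orderOf_dvd_of_pow_eq_one hk)
    exact ⟨j, by rw [Subgroup.orderOf_coe]; exact hj⟩
  have hval : ∀ χ : Cfsg.IrrCharacter G, (starRingEnd ℂ) ((χ : G → ℂ) t) = (χ : G → ℂ) t := fun χ => by
    rw [← Char.char_inv (Char.irr_isCharacter χ.2), ht']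
  -- coefficient vectors annihilating the columns of `U`
  have hcol : ∀ (F : Cfsg.IrrCharacter G → ℂ) (y : G), (∃ k : ℕ, orderOf y = 2 ^ k) →
      (∀ g z : G, Cfsg.IsPPart 2 g z → IsConj y z →
        ∑ χ : Cfsg.IrrCharacter G, F χ * (χ : G → ℂ) g = 0) →
      ∑ χ : Cfsg.IrrCharacter G with χ ∈ Cfsg.principalBlock M G, F χ * (χ : G → ℂ) y = 0 := by
    intro F y hy hz
    have hϑ : Cfsg.IsClassFunction G (∑ χ : Cfsg.IrrCharacter G, F χ • (χ : G → ℂ)) := fun a k => by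
      simp only [Finset.sum_apply, Pi.smul_apply,
        Char.isClassFunction_character (Char.irr_isCharacter (Subtype.prop _)) a k]
    have h := Char.blockPart_eq_zero_of_isPPart hM hy hϑ (fun g z hg hgz => by
        simpa [Finset.sum_apply] using hz g z hg hgz)
      hB (u := y) (z := y) ⟨1, mul_one _, Commute.one_right _, hy, by simp⟩ (IsConj.refl _)
    rw [Char.blockPart_eq] at h
    rw [← h]
    refine Finset.sum_congr rfl fun χ _ => ?_
    rw [Char.classInner_sum_left]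
    simp only [Char.classInner_smul_left, Char.irr_orth (Subtype.prop _) χ.2]
    rw [Finset.sum_eq_single χ (fun η _ hη => by rw [if_neg fun h => hη (Subtype.ext h), mul_zero])
      (fun h => absurd (Finset.mem_univ χ) h), if_pos rfl, mul_one]
  set a : Cfsg.IrrCharacter G → ℂ := fun χ =>
    (Nat.card ↥P : ℂ)⁻¹ * ∑ᶠ y : ↥P, (χ : G → ℂ) (y : G) * θ y⁻¹ with ha
  -- such vectors are orthogonal to the coefficients
  have horth : ∀ F : Cfsg.IrrCharacter G → ℂ, (∀ u ∈ U, ∀ g z : G, Cfsg.IsPPart 2 g z → IsConj u⁻¹ z →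
        ∑ χ : Cfsg.IrrCharacter G, F χ * (χ : G → ℂ) g = 0) →
      ∑ χ : Cfsg.IrrCharacter G with χ ∈ Cfsg.principalBlock M G, F χ * a χ = 0 := by
    intro F hF
    simp only [ha, finsum_eq_sum_of_fintype, Finset.mul_sum]
    rw [Finset.sum_comm]
    refine Finset.sum_eq_zero fun y _ => ?_
    by_cases hy : ((y⁻¹ : P) : G) ∈ U
    · have h := hcol F (y : G) (hpp y) fun g z hg hz => hF _ hy g z hg (by
        rw [InvMemClass.coe_inv, inv_inv]; exact hz)
      rw [Finset.sum_congr rfl (g := fun χ : Cfsg.IrrCharacter G =>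
        ((Nat.card ↥P : ℂ)⁻¹ * θ y⁻¹) * (F χ * (χ : G → ℂ) (y : G))) (fun χ _ => by ring),
        ← Finset.mul_sum, h, mul_zero]
    · exact Finset.sum_eq_zero fun χ _ => by rw [hθU _ hy]; simp
  -- no conjugate of `t` inverts `u⁻¹`
  have hinv' : ∀ u ∈ U, ∀ g : G, (g * t * g⁻¹) * u⁻¹ * (g * t * g⁻¹)⁻¹ ≠ u := fun u hu g h =>
    hinv u hu g <| by
      conv_rhs => rw [← h]
      group
  have hmain : ∀ u ∈ U, ∀ g z : G, Cfsg.IsPPart 2 g z → IsConj u⁻¹ z → ∀ b : G,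
      (b * t * b⁻¹) * g * (b * t * b⁻¹)⁻¹ ≠ g⁻¹ := by
    intro u hu g z hg hz b hb
    obtain ⟨c, hc⟩ := isConj_iff.mp hz
    obtain ⟨w, hwg, hzw, hzk, hw⟩ := hg
    set k := b * t * b⁻¹ with hk
    have h1 : Cfsg.IsPPart 2 g⁻¹ z⁻¹ :=
      ⟨w⁻¹, by rw [← hwg, ← mul_inv_rev, hzw.eq], hzw.inv_inv,
        by simpa only [orderOf_inv] using hzk, by rwa [orderOf_inv]⟩
    have h2 : Cfsg.IsPPart 2 g⁻¹ (k * z * k⁻¹) :=
      ⟨k * w * k⁻¹, by rw [← hb, ← hwg, conj_mul],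
        hzw.map (MulAut.conj k).toMonoidHom,
        by rw [show k * z * k⁻¹ = MulAut.conj k z from rfl, MulEquiv.orderOf_eq]; exact hzk,
        by rwa [show k * w * k⁻¹ = MulAut.conj k w from rfl, MulEquiv.orderOf_eq]⟩
    have h3 := Char.isPPart_unique Nat.prime_two h2 h1
    rw [← hc, hk] at h3
    refine hinv' u hu (c⁻¹ * b) ?_
    calc (c⁻¹ * b * t * (c⁻¹ * b)⁻¹) * u⁻¹ * (c⁻¹ * b * t * (c⁻¹ * b)⁻¹)⁻¹
        = c⁻¹ * ((b * t * b⁻¹) * (c * u⁻¹ * c⁻¹) * (b * t * b⁻¹)⁻¹) * c := by group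
      _ = u := by rw [h3]; group
  -- the three equations
  have hE1 : ∑ χ : Cfsg.IrrCharacter G with χ ∈ Cfsg.principalBlock M G,
      ((χ : G → ℂ) t ^ 2 / (χ : G → ℂ) 1) * a χ = 0 := horth _ fun u hu g z hg hz => by
    have hF : ∀ χ : Cfsg.IrrCharacter G, (χ : G → ℂ) t ^ 2 / (χ : G → ℂ) 1 =
        (Nat.card G : ℂ)⁻¹ * ∑ x : G, (χ : G → ℂ) (t * (x * t * x⁻¹)) := by
      intro χ
      have h := Char.sum_conj_mul χ.2 t t
      rw [div_eq_iff (Char.irr_one_ne_zero χ.2)]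
      field_simp
      linear_combination -h
    simp only [hF, Finset.mul_sum, Finset.sum_mul]
    rw [Finset.sum_comm]
    refine Finset.sum_eq_zero fun x _ => ?_
    rw [Finset.sum_congr rfl (g := fun χ : Cfsg.IrrCharacter G => (Nat.card G : ℂ)⁻¹ *
      ((χ : G → ℂ) (t * (x * t * x⁻¹)) * (starRingEnd ℂ) ((χ : G → ℂ) g⁻¹))) (fun χ _ => by
        rw [← Char.char_inv (Char.irr_isCharacter χ.2), inv_inv]; ring),
      ← Finset.mul_sum, Char.second_orth, if_neg, mul_zero]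
    intro hcj
    obtain ⟨b, hb⟩ := isConj_iff.mp hcj
    refine hmain u hu g z hg hz b ?_
    have e : g = b * (t * (x * t * x⁻¹))⁻¹ * b⁻¹ := by rw [← inv_inv g, ← hb]; group
    rw [← hb, e]
    have h4 : t * (t * (x * t * x⁻¹))⁻¹ * t⁻¹ = t * (x * t * x⁻¹) := by
      rw [mul_inv_rev, mul_assoc, mul_assoc, ← mul_inv_rev, htt, inv_one, mul_one,
        mul_inv_rev, mul_inv_rev, inv_inv, ht']
      group
    calc _ = b * (t * (t * (x * t * x⁻¹))⁻¹ * t⁻¹) * b⁻¹ := by group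
      _ = _ := by rw [h4]
  have hE2 : ∑ χ : Cfsg.IrrCharacter G with χ ∈ Cfsg.principalBlock M G, (χ : G → ℂ) 1 * a χ = 0 :=
    horth _ fun u hu g z hg hz => by
      rw [Finset.sum_congr rfl (g := fun χ : Cfsg.IrrCharacter G =>
        (χ : G → ℂ) g * (starRingEnd ℂ) ((χ : G → ℂ) 1)) (fun χ _ => by
          rw [← Char.char_inv (Char.irr_isCharacter χ.2), inv_one, mul_comm]),
        Char.second_orth, if_neg]
      intro hcj
      rw [isConj_one_left] at hcj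
      exact hmain u hu g z hg hz 1 (by rw [hcj]; group)
  have hE3 : ∑ χ : Cfsg.IrrCharacter G with χ ∈ Cfsg.principalBlock M G, (χ : G → ℂ) t * a χ = 0 :=
    horth _ fun u hu g z hg hz => by
      rw [Finset.sum_congr rfl (g := fun χ : Cfsg.IrrCharacter G =>
        (χ : G → ℂ) g * (starRingEnd ℂ) ((χ : G → ℂ) t)) (fun χ _ => by rw [hval, mul_comm]),
        Char.second_orth, if_neg]
      intro hcj
      obtain ⟨b, hb⟩ := isConj_iff.mp hcj.symm
      refine hmain u hu g z hg hz b ?_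
      rw [← hb, show (b * t * b⁻¹)⁻¹ = b * t * b⁻¹ by rw [conj_inv, ht'], mul_assoc,
        show (b * t * b⁻¹) * (b * t * b⁻¹) = 1 by rw [conj_mul, htt, mul_one, mul_inv_cancel], mul_one]
  refine ⟨?_, ?_, ?_, fun hne => ?_⟩
  · rw [Char.finsum_mem_irr]
    refine Eq.trans (Finset.sum_congr rfl fun χ _ => ?_) hE1
    rw [mul_div_assoc, mul_comm]
  · rw [Char.finsum_mem_irr]
    exact Eq.trans (Finset.sum_congr rfl fun χ _ => mul_comm _ _) hE2
  · rw [Char.finsum_mem_irr]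
    exact Eq.trans (Finset.sum_congr rfl fun χ _ => mul_comm _ _) hE3
  -- integrality
  have hint : ∀ χ : Cfsg.IrrCharacter G, ∃ n : ℤ, a χ = n := by
    intro χ
    have hθc : ∀ y : P, θ y⁻¹ = (starRingEnd ℂ) (θ y) := by
      intro y
      obtain ⟨f, g, hf, hg, rfl⟩ := hθ
      simp only [Pi.sub_apply, Char.char_inv hf, Char.char_inv hg, map_sub]
    obtain ⟨n, hn⟩ := Char.classInner_gen_int
      (⟨_, 0, Char.isCharacter_comp P.subtype (Char.irr_isCharacter χ.2), Char.isCharacter_zero, (sub_zero _).symm⟩) hθ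
    refine ⟨n, ?_⟩
    rw [← hn]
    simp only [ha, Cfsg.classInner, finsum_eq_sum_of_fintype, hθc]
    rfl
  choose n hn using hint
  let one : Cfsg.IrrCharacter G := ⟨fun _ => 1, Char.isIrrCharacter_one⟩
  have hone : one ∈ Cfsg.principalBlock M G := Char.self_mem_blockOf hP' one
  have hn1 : n one ≠ 0 := by
    intro h
    refine hne ?_
    have h2 := hn one
    rw [h, Int.cast_zero] at h2
    rw [← h2]
    simp only [ha, finsum_eq_sum_of_fintype, one, one_mul]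
    congr 1
    exact (Equiv.sum_comp (Equiv.inv P) θ).symm
  let d : Cfsg.IrrCharacter G → ℝ := fun χ => ((χ : G → ℂ) 1).re
  let v : Cfsg.IrrCharacter G → ℝ := fun χ => ((χ : G → ℂ) t).re
  have hd : ∀ χ : Cfsg.IrrCharacter G, (χ : G → ℂ) 1 = (d χ : ℂ) ∧ 0 < d χ := by
    intro χ
    obtain ⟨m, hm⟩ := Char.charOne_eq_natCast (Char.irr_isCharacter χ.2)
    have h0 := Char.irr_one_ne_zero χ.2
    rw [hm, Nat.cast_ne_zero] at h0
    simp only [d, hm, Complex.natCast_re, Complex.ofReal_natCast, true_and]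
    exact_mod_cast Nat.pos_of_ne_zero h0
  have hv : ∀ χ : Cfsg.IrrCharacter G, (χ : G → ℂ) t = (v χ : ℂ) := fun χ =>
    (Complex.conj_eq_iff_re.mp (hval χ)).symm
  set S := Finset.univ.filter fun χ : Cfsg.IrrCharacter G => χ ∈ Cfsg.principalBlock M G with hS
  have hR1 : ∑ χ ∈ S, (n χ : ℝ) * (v χ ^ 2 / d χ) = 0 := Complex.ofReal_injective <| by
    push_cast
    refine Eq.trans (Finset.sum_congr rfl fun χ _ => ?_) hE1
    rw [hn χ, hv χ, (hd χ).1, mul_comm]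
  have hR2 : ∑ χ ∈ S, (n χ : ℝ) * d χ = 0 := Complex.ofReal_injective <| by
    push_cast
    refine Eq.trans (Finset.sum_congr rfl fun χ _ => ?_) hE2
    rw [hn χ, (hd χ).1, mul_comm]
  have hR3 : ∑ χ ∈ S, (n χ : ℝ) * v χ = 0 := Complex.ofReal_injective <| by
    push_cast
    refine Eq.trans (Finset.sum_congr rfl fun χ _ => ?_) hE3
    rw [hn χ, hv χ, mul_comm]
  -- fewer than two coefficients of one sign
  have hkey : ∀ s : ℝ, s ≠ 0 → (Finset.card (S.filter fun χ => 0 < s * n χ)) < 2 →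
      ∃ K : Subgroup G, K.Normal ∧ K ≠ ⊤ ∧ Cfsg.pPrimeCore 2 G ≤ K ∧ t ∈ K := by
    intro s hs hcard
    have hs1 : one ∈ S := Finset.mem_filter.mpr ⟨Finset.mem_univ _, hone⟩
    have hsn : s * n one ≠ 0 := mul_ne_zero hs (Int.cast_ne_zero.mpr hn1)
    have hR2' : ∑ χ ∈ S, s * n χ * d χ = 0 := by
      simp only [mul_assoc, ← Finset.mul_sum, hR2, mul_zero]
    obtain ⟨χ₀, hχ₀S, hχ₀⟩ : ∃ χ ∈ S, 0 < s * n χ := by
      by_contra! hno
      have := (Finset.sum_eq_zero_iff_of_nonpos fun χ hχ =>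
        mul_nonpos_of_nonpos_of_nonneg (hno χ hχ) (hd χ).2.le).mp hR2' one hs1
      exact (hd one).2.ne' ((mul_eq_zero.mp this).resolve_left hsn)
    have hneg : ∀ χ ∈ S, χ ≠ χ₀ → s * n χ ≤ 0 := by
      intro χ hχ hne'
      by_contra! hpos
      exact hne' (Finset.card_le_one.mp (Nat.le_of_lt_succ hcard) χ
        (Finset.mem_filter.mpr ⟨hχ, hpos⟩) χ₀ (Finset.mem_filter.mpr ⟨hχ₀S, hχ₀⟩))
    set r := v χ₀ / d χ₀ with hr
    have hexp : ∑ χ ∈ S, s * n χ * ((v χ - r * d χ) ^ 2 / d χ) = 0 := by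
      rw [Finset.sum_congr rfl (g := fun χ => s * ((n χ : ℝ) * (v χ ^ 2 / d χ))
        - 2 * r * s * ((n χ : ℝ) * v χ) + r ^ 2 * s * ((n χ : ℝ) * d χ)) (fun χ _ => by
          have := (hd χ).2.ne'
          field_simp; ring)]
      simp only [Finset.sum_add_distrib, Finset.sum_sub_distrib, ← Finset.mul_sum, hR1, hR2, hR3]
      ring
    have hall := (Finset.sum_eq_zero_iff_of_nonpos fun χ hχ => ?_).mp hexp
    · have heq : ∀ χ ∈ S, n χ ≠ 0 → v χ = r * d χ := fun χ hχ h0 => by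
        have h5 := (mul_eq_zero.mp (hall χ hχ)).resolve_left
          (mul_ne_zero hs (Int.cast_ne_zero.mpr h0))
        rw [div_eq_zero_iff, sq_eq_zero_iff, sub_eq_zero] at h5
        exact h5.resolve_right (hd χ).2.ne'
      have hr1 : r = 1 := by
        have := heq one hs1 hn1
        simpa [v, d, one] using this.symm
      obtain ⟨χ, hχS, hχ1, hχn⟩ : ∃ χ ∈ S, χ ≠ one ∧ n χ ≠ 0 := by
        by_contra! hno
        rw [Finset.sum_eq_single one (fun χ hχ h => by rw [hno χ hχ h]; simp)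
          (fun h => absurd hs1 h)] at hR2
        exact mul_ne_zero (Int.cast_ne_zero.mpr hn1) (hd one).2.ne' hR2
      obtain ⟨K, hKn, hK⟩ := Char.exists_charKernel (Char.irr_isCharacter χ.2)
      refine ⟨K, hKn, fun htop => hχ1 ?_, fun x hx => (hK x).mpr ?_, (hK t).mpr ?_⟩
      · have hconst : ∀ g, (χ : G → ℂ) g = (χ : G → ℂ) 1 := fun g => (hK g).mp (htop ▸ Subgroup.mem_top g)
        have h := Char.irr_orth χ.2 one.2
        by_contra hne'
        rw [if_neg fun h => hne' (Subtype.ext h)] at h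
        simp only [Cfsg.classInner, one, map_one, mul_one, hconst, Finset.sum_const,
          Finset.card_univ, nsmul_eq_mul] at h
        rcases mul_eq_zero.mp h with h | h
        · exact Nat.card_pos.ne' (Nat.cast_eq_zero.mp (inv_eq_zero.mp h))
        · rcases mul_eq_zero.mp h with h | h
          · exact Fintype.card_ne_zero (Nat.cast_eq_zero.mp h)
          · exact Char.irr_one_ne_zero χ.2 h
      · exact Char.principal_trivial_on hM (Cfsg.pPrimeCore 2 G)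
          (Nat.prime_two.coprime_iff_not_dvd.mp (Fusion.card_pPrimeCore_coprime 2 G).symm)
          (Finset.mem_filter.mp hχS).2 x hx
      · rw [hv χ, (hd χ).1, heq χ hχS hχn, hr1, one_mul]
    · rcases eq_or_ne χ χ₀ with rfl | hne'
      · rw [hr, div_mul_cancel₀ _ (hd χ).2.ne']; simp
      · exact mul_nonpos_of_nonpos_of_nonneg (hneg χ hχ hne') (div_nonneg (sq_nonneg _) (hd χ).2.le)
  refine or_iff_not_imp_right.mpr fun hno => ⟨?_, ?_⟩
  · by_contra hlt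
    refine hno (hkey 1 one_ne_zero (lt_of_le_of_lt (le_of_eq ?_) (not_le.mp hlt)))
    rw [Nat.card_eq_fintype_card, Fintype.card_subtype, hS, Finset.filter_filter]
    refine congrArg _ (Finset.filter_congr fun χ _ => and_congr_right fun _ => ?_)
    rw [show (Nat.card ↥P : ℂ)⁻¹ * ∑ᶠ y : ↥P, (χ : G → ℂ) (y : G) * θ y⁻¹ = n χ from hn χ,
      Complex.intCast_re]
    simp
  · by_contra hlt
    refine hno (hkey (-1) (neg_ne_zero.mpr one_ne_zero) (lt_of_le_of_lt (le_of_eq ?_) (not_le.mp hlt)))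
    rw [Nat.card_eq_fintype_card, Fintype.card_subtype, hS, Finset.filter_filter]
    refine congrArg _ (Finset.filter_congr fun χ _ => and_congr_right fun _ => ?_)
    rw [show (Nat.card ↥P : ℂ)⁻¹ * ∑ᶠ y : ↥P, (χ : G → ℂ) (y : G) * θ y⁻¹ = n χ from hn χ,
      Complex.intCast_re]
    simp

end Cfsg.Agent.S4722
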