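import Cfsg.Statements.S4723
import Cfsg.Agent.Lib.Char.StableHeightZero

set_option autoImplicit false
open Cfsg
open scoped ComplexConjugate

namespace Cfsg.Agent.S4723

/-- Let p be a prime, M a maximal ideal of the algebraic integers containing p, H a normal subgroup of the finite group G and b a p-block of H. Let T be the stabilizer of b in G. Then b contains a character θ of height zero whose own stabilizer in G (the elements g with θ(g h g⁻¹) = θ(h) for all h ∈ H) has index prime to p in T, i.e. contains a Sylow p-subgroup of T. -/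
theorem result {G : Type*} [Group G] [Finite G] (p : ℕ) [Fact p.Prime] (M : Ideal Cfsg.AlgInt) (hM : Cfsg.IsPModular p M) (H : Subgroup G) [H.Normal] (b : Set (Cfsg.IrrCharacter ↥H)) (hb : Cfsg.IsPBlock M b) (T : Subgroup G) (hT : (∀ g : G, g ∈ T ↔ ∀ θ ∈ b, ∀ θ' : Cfsg.IrrCharacter ↥H, (∀ h h' : ↥H, (h' : G) = g * h * g⁻¹ → (θ' : ↥H → ℂ) h' = (θ : ↥H → ℂ) h) → θ' ∈ b)) : ∃ θ ∈ b, Cfsg.blockHeight p b (θ : ↥H → ℂ) = 0 ∧ ∃ S : Subgroup G, S ≤ T ∧ (∀ g : G, g ∈ S ↔ (g ∈ T ∧ ∀ h h' : ↥H, (h' : G) = g * h * g⁻¹ → (θ : ↥H → ℂ) h' = (θ : ↥H → ℂ) h)) ∧ ¬ p ∣ S.relIndex T := by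
  have := Fintype.ofFinite G
  have := Fintype.ofFinite H
  have hMp := Cfsg.Agent.Char.pmod_prime hM
  have hmemT : ∀ g : G, g ∈ T ↔
      Cfsg.Agent.Char.irrTransport (MulAut.conjNormal g⁻¹ : H ≃* H) '' b = b := by
    intro g
    rw [hT g]
    constructor
    · intro h
      obtain ⟨θ, hθ⟩ := Cfsg.Agent.Char.block_nonempty hMp hb
      exact Cfsg.Agent.Char.block_disjoint hMp (Cfsg.Agent.Char.isPBlock_transport _ hb) hb
        ⟨θ, hθ, rfl⟩ (h θ hθ _ fun k k' hk =>
          Cfsg.Agent.Char.isConjCharOf_transport g θ k k' hk)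
    · intro h θ hθ θ' hθ'
      rw [Cfsg.Agent.Char.eq_transport_of_isConjCharOf (g := g) (θ := θ) (θ' := θ') hθ', ← h]
      exact ⟨θ, hθ, rfl⟩
  have hHT : H ≤ T := fun g hg => by
    rw [hT g]
    intro θ hθ θ' hθ'
    obtain rfl : θ' = θ := Subtype.ext (funext fun k => by
      rw [hθ' ⟨g⁻¹ * (k : G) * g, H.mul_mem (H.mul_mem (H.inv_mem hg) k.2) hg⟩ k (by
        show (k : G) = g * (g⁻¹ * (k : G) * g) * g⁻¹
        group)]
      refine Eq.trans (congrArg _ (Subtype.ext ?_)) (Cfsg.Agent.Char.isClassFunction_character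
        (Cfsg.Agent.Char.irr_isCharacter θ.2) k (⟨g, hg⟩ : H)⁻¹)
      simp [mul_assoc])
    exact hθ
  obtain ⟨P₀⟩ : Nonempty (Sylow p T) := inferInstance
  set P : Subgroup G := (P₀ : Subgroup T).map T.subtype with hPdef
  have hPT : P ≤ T := Subgroup.map_subtype_le _
  have hPp : IsPGroup p P := P₀.isPGroup'.map _
  have hPidx : ¬ p ∣ P.relIndex T := by
    have h1 : P.relIndex T = (P₀ : Subgroup T).index := by
      rw [Subgroup.relIndex, hPdef, ← Subgroup.comap_subtype,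
        Subgroup.comap_map_eq_self_of_injective T.subtype_injective]
    rw [h1]
    exact P₀.not_dvd_index
  set S : Subgroup H := (P ⊓ H).subgroupOf H with hSdef
  have := Fintype.ofFinite S
  have hSp : IsPGroup p S := (hPp.to_le inf_le_left).of_equiv
    (Subgroup.subgroupOfEquivOfLe (inf_le_right : P ⊓ H ≤ H)).symm
  have hSidx : ¬ p ∣ S.index := by
    intro hd
    refine hPidx (dvd_trans ?_
      (Dvd.intro _ (Subgroup.relIndex_mul_relIndex P (P ⊔ H) T le_sup_left (sup_le hPT hHT))))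
    refine dvd_trans hd (dvd_of_eq ?_)
    have e1 := Cfsg.Agent.Char.card_eq_inf_mul_relIndex H P
    have e2 : Nat.card (P ⊔ H : Subgroup G) = Nat.card H * H.relIndex P := by
      rw [← Subgroup.relIndex_bot_left (P ⊔ H), ← Subgroup.relIndex_mul_relIndex ⊥ H (P ⊔ H) bot_le
        le_sup_right, Subgroup.relIndex_bot_left, Subgroup.relIndex_sup_right]
    have e3 : Nat.card (P ⊔ H : Subgroup G) = Nat.card P * P.relIndex (P ⊔ H) := by
      rw [← Subgroup.relIndex_bot_left (P ⊔ H), ← Subgroup.relIndex_mul_relIndex ⊥ P (P ⊔ H) bot_le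
        le_sup_left, Subgroup.relIndex_bot_left]
    have e4 : Nat.card H = Nat.card (H ⊓ P : Subgroup G) * S.index := by
      rw [← Subgroup.card_mul_index S, hSdef, inf_comm P H,
        Nat.card_congr (Subgroup.subgroupOfEquivOfLe (inf_le_left : H ⊓ P ≤ H)).toEquiv]
    refine Nat.eq_of_mul_eq_mul_left (Nat.card_pos (α := P)) ?_
    rw [← e3, e2, e4, e1]
    ring
  obtain ⟨θ, hθ, hh, hfix⟩ := Cfsg.Agent.Char.exists_fixed_height_zero hM hb hPp S hSp hSidx
    (fun u hu s hs => by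
      rw [hSdef, Subgroup.mem_subgroupOf] at hs ⊢
      refine ⟨?_, (MulAut.conjNormal u s).2⟩
      rw [MulAut.conjNormal_apply]
      exact P.mul_mem (P.mul_mem hu hs.1) (P.inv_mem hu))
    (fun u hu => by
      have := (hmemT u⁻¹).mp (T.inv_mem (hPT hu))
      rwa [inv_inv] at this)
  let I : Subgroup G :=
    { carrier := {g | g ∈ T ∧ Cfsg.Agent.Char.irrComp (MulAut.conjNormal g) θ = θ}
      one_mem' := ⟨T.one_mem, Cfsg.Agent.Char.irrComp_conj_one θ⟩
      mul_mem' := fun {a c} ha hc => ⟨T.mul_mem ha.1 hc.1, by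
        rw [← Cfsg.Agent.Char.irrComp_conj_mul a c θ, ha.2, hc.2]⟩
      inv_mem' := fun {a} ha => ⟨T.inv_mem ha.1, by
        conv_lhs => rw [← ha.2]
        rw [Cfsg.Agent.Char.irrComp_conj_mul, mul_inv_cancel, Cfsg.Agent.Char.irrComp_conj_one]⟩ }
  refine ⟨θ, hθ, hh, I, fun g hg => hg.1, fun g => ?_, fun hd => hPidx (hd.trans
    (Subgroup.relIndex_dvd_of_le_left T fun u hu => ⟨hPT hu, hfix u hu⟩))⟩
  refine and_congr_right fun _ => ⟨fun h k k' hk => ?_, fun h => ?_⟩
  · have h1 := congrArg (fun χ : Cfsg.IrrCharacter H => (χ : H → ℂ) k) h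
    simp only [Cfsg.Agent.Char.irrComp_apply] at h1
    rw [← h1]
    exact congrArg _ (Subtype.ext (by rw [MulAut.conjNormal_apply, hk]))
  · refine Subtype.ext (funext fun k => ?_)
    rw [Cfsg.Agent.Char.irrComp_apply]
    exact h k (MulAut.conjNormal g k) (MulAut.conjNormal_apply g k)

end Cfsg.Agent.S4723
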