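import Cfsg.Statements.S4726
import Cfsg.Agent.Lib.Char.InducedDefectCenter

set_option autoImplicit false
open Cfsg
open scoped ComplexConjugate

namespace Cfsg.Agent.S4726

/-- Let p be a prime, M a maximal ideal of the algebraic integers containing p, H a subgroup of the finite group G and b a p-block of H with defect group D₀ such that C_G(D₀) ≤ H. Then b induces a block of G, and for every block B of G induced by b there is a defect group D of B with Z(D) ≤ Z(D₀) ≤ D₀ ≤ D (as subgroups of G). In particular, if the defect groups of B are abelian then D₀ is a defect group of B. -/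
theorem result {G : Type*} [Group G] [Finite G] (p : ℕ) [Fact p.Prime] (M : Ideal Cfsg.AlgInt) (hM : Cfsg.IsPModular p M) (H : Subgroup G) (b : Set (Cfsg.IrrCharacter ↥H)) (hb : Cfsg.IsPBlock M b) (D₀ : Subgroup ↥H) (hD₀ : Cfsg.IsDefectGroup p M b D₀) (hC : Subgroup.centralizer ((D₀.map H.subtype : Subgroup G) : Set G) ≤ H) : Cfsg.InducedBlockDefined M H b ∧ ∀ B : Set (Cfsg.IrrCharacter G), Cfsg.IsInducedBlock M H b B → (∃ D : Subgroup G, Cfsg.IsDefectGroup p M B D ∧ (Subgroup.center ↥D).map D.subtype ≤ ((Subgroup.center ↥D₀).map D₀.subtype).map H.subtype ∧ ((Subgroup.center ↥D₀).map D₀.subtype).map H.subtype ≤ D₀.map H.subtype ∧ D₀.map H.subtype ≤ D) ∧ (∀ D : Subgroup G, Cfsg.IsDefectGroup p M B D → IsMulCommutative ↥D → Cfsg.IsDefectGroup p M B (D₀.map H.subtype)) := by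
  classical
  haveI := Fintype.ofFinite G
  haveI := Fintype.ofFinite H
  obtain ⟨e0, he0⟩ := Cfsg.Agent.Char.exists_pair_of_le_defect hM hb hD₀ le_rfl
  have hmax := Cfsg.Agent.Char.maximal_of_defect hM hD₀ he0
  obtain ⟨B0, hB0⟩ := Cfsg.Agent.Char.exists_pairOf hM (P := D₀.map H.subtype)
    (e := Cfsg.Agent.Char.liftBlock D₀ e0)
    ⟨he0.1.1.map _, Cfsg.Agent.Char.isPBlock_liftBlock D₀ hC he0.1.2⟩
  refine ⟨⟨B0, Cfsg.Agent.Char.IndCenter.induced_of_centralizer hM hC he0 hB0⟩, fun B hind => ?_⟩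
  have hpB := Cfsg.Agent.Char.pairOf_of_induced hM hind hC he0
  obtain ⟨R, hR, hPR, hZ⟩ := Cfsg.Agent.Char.IndCenter.exists_defect_above hM hC hmax hpB
  refine ⟨⟨R, hR, ?_, Subgroup.map_mono (Subgroup.map_subtype_le _), hPR⟩, ?_⟩
  · rintro _ ⟨z, hz, rfl⟩
    have hzc : ∀ y ∈ R, y * (z : G) = z * y := fun y hy =>
      congrArg Subtype.val (Subgroup.mem_center_iff.mp hz ⟨y, hy⟩)
    obtain ⟨u, hu, huz⟩ := hZ z z.2 hzc
    refine ⟨u, ⟨⟨u, hu⟩, Subgroup.mem_center_iff.mpr fun v => ?_, rfl⟩, huz⟩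
    apply Subtype.ext
    apply Subtype.ext
    have h1 := hzc ((v : H) : G) (hPR ⟨v, v.2, rfl⟩)
    rw [← huz] at h1
    exact h1
  · intro D hD hDab
    obtain ⟨t, ht⟩ := Cfsg.Agent.Char.defect_groups_conj hM hind.2.1 hD hR
    have hRab : ∀ y ∈ R, ∀ z ∈ R, y * z = z * y := by
      rw [ht]
      rintro _ ⟨y, hy, rfl⟩ _ ⟨z, hz, rfl⟩
      rw [← map_mul, ← map_mul, show y * z = z * y from
        congrArg Subtype.val (mul_comm' (⟨y, hy⟩ : D) ⟨z, hz⟩)]
    have hRP : R = D₀.map H.subtype :=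
      le_antisymm (fun z hz => hZ z hz fun y hy => hRab y hy z hz) hPR
    exact hRP ▸ hR

end Cfsg.Agent.S4726
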