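import Cfsg.Statements.S4727
import Cfsg.Agent.Lib.Char.PiKernel
import Cfsg.Agent.Lib.Char.SectionPart

set_option autoImplicit false
open Cfsg
open scoped ComplexConjugate

namespace Cfsg.Agent.S4727

/-- Let p be a prime, π a set of primes containing p, M a maximal ideal of the algebraic integers containing p, and B a p-block of the finite group G with defect group D; let B₁ be the block of N_G(D) with defect group D that induces B (the Brauer correspondent of B). Suppose every element of O_π'(N_G(D)), the largest normal subgroup of N_G(D) whose order has no prime divisor in π, lies in the kernel of every member of B₁. If y is a p-element whose centralizer C has a normal Hall π'-subgroup (every element of C whose order has no prime divisor in π lies in O_π'(C)), then χ(y x) = χ(y) for every χ ∈ B and every x ∈ C whose order has no prime divisor in π. -/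
theorem result {G : Type*} [Group G] [Finite G] (p : ℕ) [Fact p.Prime] (M : Ideal Cfsg.AlgInt) (hM : Cfsg.IsPModular p M) (π : Set ℕ) (hpπ : p ∈ π) (B : Set (Cfsg.IrrCharacter G)) (hB : Cfsg.IsPBlock M B) (D : Subgroup G) (hBD : Cfsg.IsDefectGroup p M B D) (B₁ : Set (Cfsg.IrrCharacter ↥(Subgroup.normalizer (D : Set G)))) (hB₁ : Cfsg.IsInducedBlock M (Subgroup.normalizer (D : Set G)) B₁ B) (hB₁D : Cfsg.IsDefectGroup p M B₁ (D.subgroupOf (Subgroup.normalizer (D : Set G)))) (hker : ∀ n : ↥(Subgroup.normalizer (D : Set G)), n ∈ Cfsg.piCore {q | q ∉ π} ↥(Subgroup.normalizer (D : Set G)) → n ∈ Cfsg.blockKer B₁) (y : G) (hy : ∃ k : ℕ, orderOf y = p ^ k) (hC : ∀ x : ↥(Subgroup.centralizer ({y} : Set G)), (∀ q : ℕ, q.Prime → q ∣ orderOf x → q ∉ π) → x ∈ Cfsg.piCore {q | q ∉ π} ↥(Subgroup.centralizer ({y} : Set G))) : ∀ χ ∈ B, ∀ x : G, x ∈ Subgroup.centralizer ({y} : Set G) → (∀ q : ℕ, q.Prime → q ∣ orderOf x → q ∉ π) → (χ : G → ℂ) (y * x) = (χ : G → ℂ) y := by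
  classical
  intro χ hχ x hx hord
  have := Fintype.ofFinite G
  have := Fintype.ofFinite (Subgroup.normalizer (D : Set G))
  have := Fintype.ofFinite (Subgroup.centralizer ({y} : Set G))
  have hP := Char.pmod_prime hM
  have hgood : ∀ (Q : Subgroup G) (e : Set (Cfsg.IrrCharacter (Subgroup.centralizer (Q : Set G)))),
      Cfsg.IsBrauerPairOf p M B Q e → Char.GoodPair π Q e := fun Q e he =>
    Char.goodPair_of_ker hM hpπ hBD hB₁ hB₁D hker he
  have hreg : ¬ p ∣ orderOf x := fun h => hord p hM.1 h hpπ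
  set c : Subgroup.centralizer ({y} : Set G) := ⟨x, hx⟩ with hc
  have hcore : c ∈ Cfsg.piCore {q | q ∉ π} (Subgroup.centralizer ({y} : Set G)) :=
    hC c fun q hq hd => hord q hq (by rwa [← Subgroup.orderOf_coe] at hd)
  have hreg' : ¬ p ∣ orderOf c := by rwa [← Subgroup.orderOf_coe]
  have h1 : ¬ p ∣ orderOf (1 : Subgroup.centralizer ({y} : Set G)) := by simp [hM.1.ne_one]
  suffices Char.secFun y (χ : G → ℂ) c = Char.secFun y (χ : G → ℂ) 1 by
    simpa [Char.secFun] using this
  have hcl := Char.isClassFunction_secFun (x := y)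
    (Char.isClassFunction_character (Char.irr_isCharacter χ.2))
  rw [Char.eq_sum_blockPart hP hcl, Char.eq_sum_blockPart hP hcl]
  refine Finset.sum_congr rfl fun b hb => ?_
  obtain ⟨ξ, -, rfl⟩ := Finset.mem_image.mp hb
  by_cases hind : Cfsg.IsInducedBlock M (Subgroup.centralizer ({y} : Set G))
      (Cfsg.blockOf M (ξ : Subgroup.centralizer ({y} : Set G) → ℂ)) B
  · obtain ⟨D₂, hD₂⟩ := Char.exists_isDefectGroup hM hind.1
    have hym : y ∈ Subgroup.centralizer ({y} : Set G) := Subgroup.mem_centralizer_singleton_iff.mpr rfl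
    set Z := Subgroup.zpowers (⟨y, hym⟩ : Subgroup.centralizer ({y} : Set G))
    have hZ : Z ≤ Subgroup.center (Subgroup.centralizer ({y} : Set G)) :=
      Subgroup.zpowers_le.mpr (Subgroup.mem_center_iff.mpr fun d =>
        Subtype.ext (Char.cent_mul_comm d).symm)
    have : Z.Normal := ⟨fun z hz g => by
      rw [Subgroup.mem_center_iff.mp (hZ hz) g]; simpa using hz⟩
    have hZp : IsPGroup p Z := by
      obtain ⟨k, hk⟩ := hy
      exact IsPGroup.of_card (n := k) (by rw [Nat.card_zpowers, Subgroup.orderOf_mk, hk])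
    have hyD : (⟨y, hym⟩ : Subgroup.centralizer ({y} : Set G)) ∈ D₂ :=
      Char.pCore_le_defectGroup hM hind.1 hD₂ Z hZp (Subgroup.mem_zpowers _)
    have hC' : Subgroup.centralizer ((D₂.map (Subgroup.centralizer ({y} : Set G)).subtype :
        Subgroup G) : Set G) ≤ Subgroup.centralizer ({y} : Set G) :=
      Subgroup.centralizer_le (Set.singleton_subset_iff.mpr ⟨_, hyD, rfl⟩)
    have hker' := Char.piCore_le_ker_of_good hM hpπ hind hD₂ hC' hgood c hcore
    rw [Char.blockPart_eq, Char.blockPart_eq]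
    exact Finset.sum_congr rfl fun η hη => by rw [hker' η (Finset.mem_filter.mp hη).2]
  · rw [Char.blockPart_secFun_eq_zero hM hy hB χ hχ (Char.isPBlock_blockOf M ξ) hind c hreg',
      Char.blockPart_secFun_eq_zero hM hy hB χ hχ (Char.isPBlock_blockOf M ξ) hind 1 h1]

end Cfsg.Agent.S4727
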