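import Cfsg.Statements.S4728
import Cfsg.Agent.Lib.Char.PiKernel
import Cfsg.Agent.Lib.Char.KerPPrime
import Cfsg.Agent.Lib.Char.HarrisKnorr

set_option autoImplicit false
open Cfsg
open scoped ComplexConjugate

namespace Cfsg.Agent.S4728

/-- Let p be a prime, π a set of primes containing p, M a maximal ideal of the algebraic integers containing p, B a p-block of the finite group G with defect group D, and B₁ the block of N_G(D) with defect group D inducing B. Let D₀ be a p-subgroup, H₀ = D₀·C_G(D₀), and b a block of H₀ inducing B. Write O_π'(X) for the largest normal subgroup of X whose order has no prime divisor in π. Suppose that O_π'(C_G(D₀)) is a normal Hall π'-subgroup of C_G(D₀) (it contains every element of C_G(D₀) whose order has no prime divisor in π) and that every element of it lies in the kernel of every member of b. Then every element of O_π'(N_G(D)) lies in the kernel of every member of B₁. -/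
theorem result {G : Type*} [Group G] [Finite G] (p : ℕ) [Fact p.Prime] (M : Ideal Cfsg.AlgInt) (hM : Cfsg.IsPModular p M) (π : Set ℕ) (hpπ : p ∈ π) (B : Set (Cfsg.IrrCharacter G)) (hB : Cfsg.IsPBlock M B) (D : Subgroup G) (hBD : Cfsg.IsDefectGroup p M B D) (B₁ : Set (Cfsg.IrrCharacter ↥(Subgroup.normalizer (D : Set G)))) (hB₁ : Cfsg.IsInducedBlock M (Subgroup.normalizer (D : Set G)) B₁ B) (hB₁D : Cfsg.IsDefectGroup p M B₁ (D.subgroupOf (Subgroup.normalizer (D : Set G)))) (D₀ : Subgroup G) (hD₀ : IsPGroup p D₀) (H₀ : Subgroup G) (hH₀ : H₀ = D₀ ⊔ Subgroup.centralizer (D₀ : Set G)) (b : Set (Cfsg.IrrCharacter ↥H₀)) (hb : Cfsg.IsInducedBlock M H₀ b B) (hcompl : ∀ x : ↥(Subgroup.centralizer (D₀ : Set G)), (∀ q : ℕ, q.Prime → q ∣ orderOf x → q ∉ π) → x ∈ Cfsg.piCore {q | q ∉ π} ↥(Subgroup.centralizer (D₀ : Set G))) (hkerb : ∀ x : ↥(Subgroup.centralizer (D₀ : Set G)), x ∈ Cfsg.piCore {q | q ∉ π} ↥(Subgroup.centralizer (D₀ : Set G)) → ∀ θ ∈ b, ∀ h : ↥H₀, (h : G) = (x : G)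 → (θ : ↥H₀ → ℂ) h = (θ : ↥H₀ → ℂ) 1) : ∀ n : ↥(Subgroup.normalizer (D : Set G)), n ∈ Cfsg.piCore {q | q ∉ π} ↥(Subgroup.normalizer (D : Set G)) → n ∈ Cfsg.blockKer B₁ := by
  classical
  intro n hn
  have := Fintype.ofFinite G
  have := Fintype.ofFinite (Subgroup.normalizer (D : Set G))
  have := Fintype.ofFinite H₀
  have := Fintype.ofFinite (Subgroup.centralizer (D₀ : Set G))
  have hP := Char.pmod_prime hM
  subst hH₀
  set C₀ := (Subgroup.centralizer (D₀ : Set G)).subgroupOf (D₀ ⊔ Subgroup.centralizer (D₀ : Set G)) with hC₀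
  have := Fintype.ofFinite C₀
  have hHN : D₀ ⊔ Subgroup.centralizer (D₀ : Set G) ≤ Subgroup.normalizer (D₀ : Set G) :=
    sup_le Subgroup.le_normalizer (Subgroup.centralizer_le_normalizer _)
  have : C₀.Normal := ⟨fun c hc h => Char.conj_mem_centralizer (hHN h.2) hc⟩
  -- a pair below `b`
  obtain ⟨θ, hθ⟩ := Char.block_nonempty hP hb.1
  obtain ⟨χ, hχ⟩ := Char.block_nonempty hP hB
  obtain ⟨η, hη⟩ : ∃ η : Cfsg.IrrCharacter C₀,
      Cfsg.classInner (fun c : C₀ => (θ : ↥(D₀ ⊔ Subgroup.centralizer (D₀ : Set G)) → ℂ) c) (η : C₀ → ℂ) ≠ 0 := by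
    obtain ⟨m, hm⟩ := Char.exists_decomposition
      (Char.isCharacter_comp C₀.subtype (Char.irr_isCharacter θ.2))
    by_contra hno
    push Not at hno
    refine Char.irr_one_ne_zero θ.2 ?_
    have h1 := congrFun hm 1
    rw [Function.comp_apply, map_one, Finset.sum_apply] at h1
    rw [h1]
    refine Finset.sum_eq_zero fun φ _ => ?_
    have h2 : m φ = 0 := by
      have h3 := hno φ
      rw [show (fun c : C₀ => (θ : ↥(D₀ ⊔ Subgroup.centralizer (D₀ : Set G)) → ℂ) c) = (θ : ↥(D₀ ⊔ Subgroup.centralizer (D₀ : Set G)) → ℂ) ∘ C₀.subtype from rfl,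
        Char.decomposition_coeff m hm φ] at h3
      exact_mod_cast h3
    simp [h2]
  let α : Subgroup.centralizer (D₀ : Set G) ≃* C₀ := (Subgroup.subgroupOfEquivOfLe le_sup_right).symm
  set ξ := Char.irrTransport α η with hξ
  have hblk := Char.isPBlock_blockOf M ξ
  have hpair : Cfsg.IsBrauerPairOf p M B D₀ (Cfsg.blockOf M (ξ : Subgroup.centralizer (D₀ : Set G) → ℂ)) := by
    have heI := Char.isIntClassFun_blockCoeff hM hB
    refine ⟨⟨hD₀, hblk⟩, hB, Char.brOne_of_mem hM hblk (Char.isGoodFun_of_classFun D₀ heI)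
      (Char.self_mem_blockOf hP ξ) ?_⟩
    rw [Char.brauerOmega_eq]
    have h1 := Char.induced_congr_fun hP (fun g => hb.2.2 θ hθ χ hχ g) heI
    rw [Char.lam_blockCoeff, if_pos hχ] at h1
    have h2 := Char.brLam_congr hM hD₀ le_sup_left hHN θ heI
    set f : C₀ → ℂ := fun c => Cfsg.blockCoeff B ((c : _) : G) with hf
    have hginv : Char.GInvariant C₀ f := fun g c => by
      simp only [hf, MulAut.conjNormal_apply, Subgroup.coe_mul, InvMemClass.coe_inv, heI.1 _ (g : G)]
    have hres : Char.brRes D₀ (D₀ ⊔ Subgroup.centralizer (D₀ : Set G)) (Cfsg.blockCoeff B) =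
        Cfsg.extendByZero C₀ f := by
      funext x
      simp only [Char.brRes]
      by_cases hx : (x : G) ∈ Subgroup.centralizer (D₀ : Set G)
      · rw [if_pos hx, Char.extendByZero_mem C₀ f hx]
      · rw [if_neg hx, Char.extendByZero_not_mem C₀ f hx]
    rw [Char.brLam, hres, Char.lam_extend_of_constituent hη hginv,
      ← Char.lam_transport_equiv α] at h2
    exact Char.memLI_trans hP (Char.memLI_symm hP h2) h1
  have hker1 : ∀ c ∈ Char.piK π (Subgroup.centralizer (D₀ : Set G)),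
      ∀ hc : c ∈ Subgroup.centralizer (D₀ : Set G), (ξ : Subgroup.centralizer (D₀ : Set G) → ℂ) ⟨c, hc⟩ = (ξ : Subgroup.centralizer (D₀ : Set G) → ℂ) 1 := by
    rintro _ ⟨k, hk, rfl⟩ hc
    rw [hξ, Char.irrTransport_apply, Char.irrTransport_apply, map_one]
    refine Char.constituent_eq_at_ker (Char.isCharacter_comp C₀.subtype (Char.irr_isCharacter θ.2)) hη ?_
    rw [Function.comp_apply, Function.comp_apply, map_one]
    exact hkerb k hk θ hθ _ rfl
  have hbase : Char.GoodPair π D₀ (Cfsg.blockOf M (ξ : Subgroup.centralizer (D₀ : Set G) → ℂ)) := by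
    have := Char.normal_subgroupOf_of (Char.piK π (Subgroup.centralizer (D₀ : Set G))) _ Char.piK_norm
    have hnd : ¬ p ∣ Nat.card ((Char.piK π (Subgroup.centralizer (D₀ : Set G))).subgroupOf
        (Subgroup.centralizer (D₀ : Set G))) := by
      rw [Nat.card_congr (Subgroup.subgroupOfEquivOfLe (Char.piK_le _)).toEquiv]
      exact Char.piK_not_dvd hM.1 hpπ _
    intro η' hη' c hc
    exact Char.trivial_on_of_sameBlock hM _ hnd
      (Char.block_sameBlock hP hblk (Char.self_mem_blockOf hP ξ) hη')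
      (fun k hk => hker1 k hk k.2) c hc
  -- conjugate below the maximal pair
  obtain ⟨e1, he1, hmax⟩ := Char.exists_max_pair_lift hM hBD hB₁ hB₁D
  obtain ⟨x, hx⟩ := Char.pairs_conj_into_maximal hM hmax hpair
  have := Fintype.ofFinite
    (Subgroup.centralizer ((D₀.map (MulAut.conj x).toMonoidHom : Subgroup G) : Set G))
  have hgood' : Char.GoodPair π (D₀.map (MulAut.conj x).toMonoidHom)
      (Cfsg.conjBlock D₀ x (Cfsg.blockOf M (ξ : Subgroup.centralizer (D₀ : Set G) → ℂ))) := by
    refine Char.goodPair_of_conj (x := x⁻¹) ?_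
    have he : Char.conjIdx x⁻¹ (Char.conjIdx x (⟨D₀, Cfsg.blockOf M (ξ : Subgroup.centralizer (D₀ : Set G) → ℂ)⟩ : Cfsg.BrauerPairIdx G)) =
        ⟨D₀, Cfsg.blockOf M (ξ : Subgroup.centralizer (D₀ : Set G) → ℂ)⟩ := by
      rw [Char.conjIdx_mul hP _ _ _ hblk, inv_mul_cancel, Char.conjIdx_one hP _ hblk]
    have := congrArg (fun a : Cfsg.BrauerPairIdx G => Char.GoodPair π a.1 a.2) he
    exact this.symm.mp hbase
  have hall : ∀ z ∈ Subgroup.centralizer ((D₀.map (MulAut.conj x).toMonoidHom : Subgroup G) : Set G),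
      (∀ q : ℕ, q.Prime → q ∣ orderOf z → q ∉ π) → z ∈ Char.piK π
        (Subgroup.centralizer ((D₀.map (MulAut.conj x).toMonoidHom : Subgroup G) : Set G)) := by
    intro z hz hord
    obtain ⟨w, rfl⟩ : ∃ w, x * w * x⁻¹ = z := ⟨x⁻¹ * z * x, by group⟩
    have hw := (Char.mem_centralizer_map x).mpr hz
    have hcore := hcompl ⟨w, hw⟩ fun q hq hd => hord q hq (by
      rw [show x * w * x⁻¹ = MulAut.conj x w from rfl, MulEquiv.orderOf_eq,
        ← Subgroup.orderOf_mk w hw]
      exact hd)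
    refine (Char.le_piK (K := (Char.piK π (Subgroup.centralizer (D₀ : Set G))).map
      (MulAut.conj x).toMonoidHom) ?_ ?_ fun q hq hd => Char.piK_primes _ hq (by
        rwa [Subgroup.card_map_of_injective (MulEquiv.injective (MulAut.conj x))] at hd))
      ⟨w, ⟨⟨w, hw⟩, hcore, rfl⟩, rfl⟩
    · rintro _ ⟨u, hu, rfl⟩
      exact (Char.mem_centralizer_map x).mp (Char.piK_le _ hu)
    · rintro d hd _ ⟨u, hu, rfl⟩
      have hd' : x⁻¹ * d * x ∈ Subgroup.centralizer (D₀ : Set G) := by
        refine (Char.mem_centralizer_map x).mpr ?_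
        rwa [show x * (x⁻¹ * d * x) * x⁻¹ = d by group]
      refine ⟨x⁻¹ * d * x * u * (x⁻¹ * d * x)⁻¹, Char.piK_norm _ hd' u hu, ?_⟩
      show x * (x⁻¹ * d * x * u * (x⁻¹ * d * x)⁻¹) * x⁻¹ = d * (x * u * x⁻¹) * d⁻¹
      group
  obtain ⟨hgoodP, hallP⟩ := Char.goodPair_up hM hpπ hx hall hgood'
  -- back to the normalizer
  set K := Cfsg.piCore {q | q ∉ π} (Subgroup.normalizer (D : Set G)) with hK
  have hpK : ¬ p ∣ Nat.card K := fun h => S1886.piCore_isPi _ p hM.1 h hpπ
  have hC1 : Subgroup.centralizer (((D.subgroupOf (Subgroup.normalizer (D : Set G))).map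
      (Subgroup.normalizer (D : Set G)).subtype : Subgroup G) : Set G) ≤ Subgroup.normalizer (D : Set G) :=
    (le_of_eq (congrArg (fun X : Subgroup G => Subgroup.centralizer (X : Set G))
      (Subgroup.map_subgroupOf_eq_of_le Subgroup.le_normalizer))).trans
      (Subgroup.centralizer_le_normalizer _)
  intro ψ hψ
  refine (Char.pair_ker_iff hM K hpK he1).mpr ?_ ψ hψ n hn
  intro ζ hζ c hc
  have := Fintype.ofFinite (Subgroup.centralizer ((D.subgroupOf (Subgroup.normalizer (D : Set G)) :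
    Subgroup _) : Set (Subgroup.normalizer (D : Set G))))
  have := Fintype.ofFinite (Subgroup.centralizer (((D.subgroupOf (Subgroup.normalizer (D : Set G))).map
      (Subgroup.normalizer (D : Set G)).subtype : Subgroup G) : Set G))
  have hm : Char.irrTransport (Char.liftEquiv _ hC1).symm ζ ∈
      Char.liftBlock (D.subgroupOf (Subgroup.normalizer (D : Set G))) e1 := by
    rw [Char.liftBlock_eq _ hC1]; exact ⟨ζ, hζ, rfl⟩
  have h2 := hgoodP _ hm (Char.liftEquiv _ hC1 c) ?_
  · rw [Char.irrTransport_apply, Char.irrTransport_apply, MulEquiv.symm_apply_apply, map_one] at h2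
    exact h2
  · refine hallP _ (Char.liftEquiv _ hC1 c).2 fun q hq hd => S1886.piCore_isPi {q | q ∉ π} (G := Subgroup.normalizer (D : Set G)) q hq (hd.trans ?_)
    show orderOf (((c : Subgroup.normalizer (D : Set G))) : G) ∣ Nat.card K
    rw [Subgroup.orderOf_coe, ← Subgroup.orderOf_mk _ hc]
    exact orderOf_dvd_natCard _

end Cfsg.Agent.S4728
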