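import Cfsg.Statements.S4730
import Cfsg.Agent.Lib.Char.Burnside
import Cfsg.Agent.Lib.Char.Contrib

set_option autoImplicit false
open Cfsg Cfsg.Agent.Char
open scoped ComplexConjugate

namespace Cfsg.Agent.S4730

/-- Let p be a prime, M a maximal ideal of the algebraic integers containing p, and G a finite group with trivial centre, Sylow p-subgroup P of order p^a and centre Z(P) of order p^b. If χ is a faithful irreducible character of G whose degree is a power of p, then the p-block of χ has defect at most a − b; in particular, if P is abelian then χ lies in a block of defect zero. -/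
theorem result {G : Type*} [Group G] [Finite G] (p : ℕ) [Fact p.Prime] (M : Ideal Cfsg.AlgInt) (hM : Cfsg.IsPModular p M) (hZ : Subgroup.center G = ⊥) (P : Sylow p G) (a b : ℕ) (ha : Nat.card P = p ^ a) (hb : Nat.card (Subgroup.center ↥(P : Subgroup G)) = p ^ b) (χ : Cfsg.IrrCharacter G) (hfaith : ∀ g : G, (χ : G → ℂ) g = (χ : G → ℂ) 1 → g = 1) (n : ℕ) (hdeg : Cfsg.charDegree (χ : G → ℂ) = p ^ n) : Cfsg.blockDefect p (Cfsg.blockOf M (χ : G → ℂ)) ≤ a - b ∧ (IsMulCommutative ↥(P : Subgroup G) → Cfsg.blockDefect p (Cfsg.blockOf M (χ : G → ℂ)) = 0) := by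
  classical
  haveI := Fintype.ofFinite G
  have hp := hM.1
  have hP' := pmod_prime hM
  set Z := (Subgroup.center ↥(P : Subgroup G)).map (P : Subgroup G).subtype with hZdef
  haveI := Fintype.ofFinite Z
  have hZcard : Nat.card Z = p ^ b := by
    rw [hZdef, Subgroup.card_map_of_injective (P : Subgroup G).subtype_injective]; exact hb
  obtain ⟨d, ρ, hρ, hρχ⟩ := χ.2
  have hd : Module.finrank ℂ (Fin d → ℂ) = p ^ n := by
    rw [← deg_character ρ, hρχ, ← charDegree_eq_deg, hdeg]
  have hvan : ∀ z ∈ Z, z ≠ 1 → (χ : G → ℂ) z = 0 := by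
    intro z hz hz1
    obtain ⟨w, hw, rfl⟩ := hz
    have hle : (P : Subgroup G) ≤ Subgroup.centralizer ({(w : G)} : Set G) := fun u hu => by
      rw [Subgroup.mem_centralizer_singleton_iff]
      exact congrArg Subtype.val (Subgroup.mem_center_iff.mp hw ⟨u, hu⟩)
    have hnd : ¬ p ∣ (Subgroup.centralizer ({(w : G)} : Set G)).index :=
      fun h => P.not_dvd_index (h.trans (Subgroup.index_dvd_of_le hle))
    rcases vanish_or_full ρ hρ (w : G)
      (by rw [hd]; exact (hp.coprime_iff_not_dvd.mpr hnd).pow_left n) with h0 | hfull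
    · rw [← hρχ]; exact h0
    obtain ⟨ω, hω⟩ := (eq_scalar_iff ρ _).mp hfull
    refine absurd ?_ hz1
    have hwc : (w : G) ∈ Subgroup.center G := Subgroup.mem_center_iff.mpr fun u => by
      have h : ρ (u * w) = ρ (w * u) := by
        rw [map_mul, map_mul, hω, ← Module.End.one_eq_id, mul_smul_comm, smul_mul_assoc, one_mul,
          mul_one]
      refine inv_mul_eq_one.mp (hfaith _ ?_) 
      rw [← hρχ, ρ.char_one]
      refine (eq_id_iff ρ _).mpr ?_
      rw [map_mul, ← h, ← map_mul, inv_mul_cancel, map_one]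
      rfl
    exact Subgroup.mem_bot.mp (hZ ▸ hwc)
  have hmin : ∀ ψ ∈ blockOf M (χ : G → ℂ), b ≤ (charDegree (ψ : G → ℂ)).factorization p := by
    intro ψ hψ
    by_contra hlt
    have hterm : ∀ z : Z, z ≠ 1 → MemLocalIdeal M ((ψ : G → ℂ) z / (ψ : G → ℂ) 1) := by
      intro z hz
      have hz1 : (z : G) ≠ 1 := fun h => hz (Subtype.ext h)
      have h := hψ (z : G)
      simp only [centralChar, hvan _ z.2 hz1, mul_zero, zero_div, zero_sub] at h
      have h' := memLI_neg hP' h
      rw [neg_neg] at h'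
      have hnd : ¬ p ∣ (Subgroup.centralizer ({(z : G)} : Set G)).index := by
        obtain ⟨w, hw, hwz⟩ := z.2
        intro hdv
        refine P.not_dvd_index (hdv.trans (Subgroup.index_dvd_of_le fun u hu => ?_))
        rw [Subgroup.mem_centralizer_singleton_iff, ← hwz]
        exact congrArg Subtype.val (Subgroup.mem_center_iff.mp hw ⟨u, hu⟩)
      set i := (Subgroup.centralizer ({(z : G)} : Set G)).index
      have hi : (i : ℂ) ≠ 0 := Nat.cast_ne_zero.mpr fun h0 => hnd (h0 ▸ dvd_zero p)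
      rw [show (ψ : G → ℂ) z / (ψ : G → ℂ) 1 = (i : ℂ)⁻¹ * ((i : ℂ) * (ψ : G → ℂ) z / (ψ : G → ℂ) 1) by
        field_simp]
      exact memLI_mul_left hP' (memLR_inv_natCast hM hnd) h'
    obtain ⟨c, hc, hcd⟩ := deg_eq_pow_mul hp ψ.2
    set e := dexp p (ψ : G → ℂ)
    obtain ⟨m, hm⟩ := classInner_natCast (isCharacter_comp Z.subtype (irr_isCharacter ψ.2))
      (isCharacter_one (G := Z))
    simp only [classInner, map_one, mul_one, Function.comp_apply, Subgroup.coe_subtype,
      inv_mul_eq_iff_eq_mul₀ (Nat.cast_ne_zero.mpr (Nat.card_pos (α := Z)).ne' : (Nat.card Z : ℂ) ≠ 0)] at hm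
    have hsum : MemLocalIdeal M (∑ z : Z, (ψ : G → ℂ) z / (ψ : G → ℂ) 1) := by
      rw [← Finset.sum_div, hm, hZcard, char_one_eq_deg (irr_isCharacter ψ.2), hcd]
      have hlt' : e < b := not_le.mp hlt
      obtain ⟨j, hj⟩ := Nat.exists_eq_add_of_lt hlt'
      rw [show ((p ^ b : ℕ) : ℂ) * (m : ℂ) / ((p ^ e * c : ℕ) : ℂ) =
        ((p : ℕ) : ℂ) * (((p ^ j : ℕ) : ℂ) * (m : ℂ) * (c : ℂ)⁻¹) by
          have : (p : ℂ) ≠ 0 := Nat.cast_ne_zero.mpr hp.ne_zero
          have : (c : ℂ) ≠ 0 := Nat.cast_ne_zero.mpr fun h0 => hc (h0 ▸ dvd_zero p)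
          rw [hj]; push_cast; field_simp; ring]
      exact memLI_mul_right hP' ((memLI_natCast_iff hM p).mpr dvd_rfl)
        (memLR_mul hP' (memLR_mul hP' (memLR_natCast hP' _) (memLR_natCast hP' _))
          (memLR_inv_natCast hM hc))
    rw [← Finset.add_sum_erase _ _ (Finset.mem_univ (1 : Z)), OneMemClass.coe_one,
      div_self (irr_one_ne_zero ψ.2)] at hsum
    have hrest : MemLocalIdeal M (∑ z ∈ Finset.univ.erase (1 : Z), (ψ : G → ℂ) z / (ψ : G → ℂ) 1) :=
      memLI_sum hP' _ _ fun z hz => hterm z (Finset.ne_of_mem_erase hz)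
    exact memLI_one_iff hP' (by simpa using memLI_sub hP' hsum hrest)
  have ha' : (Nat.card G).factorization p = a := by
    have := P.card_eq_multiplicity
    rw [ha] at this
    exact (Nat.pow_right_injective hp.two_le this).symm
  have hd' : blockDefect p (blockOf M (χ : G → ℂ)) ≤ a - b := by
    unfold blockDefect
    rw [ha']
    refine Nat.sub_le_sub_left ?_ a
    refine le_csInf ⟨_, χ, self_mem_blockOf hP' χ, rfl⟩ ?_
    rintro _ ⟨ψ, hψ, rfl⟩
    exact hmin ψ hψ
  refine ⟨hd', fun hab => ?_⟩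
  have hba : b = a := Nat.pow_right_injective hp.two_le (by
    show p ^ b = p ^ a
    rw [← hb, ← ha]
    exact Subgroup.card_eq_iff_eq_top _ |>.mpr ((Subgroup.eq_top_iff' _).mpr fun u =>
      Subgroup.mem_center_iff.mpr fun v => hab.is_comm.comm v u))
  omega

end Cfsg.Agent.S4730
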