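import Cfsg.Statements.S4731
import Cfsg.Agent.Lib.Char.BlockInter

set_option autoImplicit false
open Cfsg Cfsg.Agent.Char
open scoped ComplexConjugate

namespace Cfsg.Agent.S4731

/-- Let p ≠ q be primes, M_p and M_q maximal ideals of the algebraic integers containing p and q respectively, and G a finite group with no element of order pq; let q^b be the q-part of the order of G. For a p-block B_p (relative to M_p), a q-block B_q (relative to M_q) and a p-singular element y, the sum of χ(1)χ(y) over the irreducible characters χ lying in both B_p and B_q is q^b times an algebraic integer. -/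
theorem result {G : Type*} [Group G] [Finite G] (p q : ℕ) [Fact p.Prime] [Fact q.Prime] (hpq : p ≠ q) (Mp Mq : Ideal Cfsg.AlgInt) (hMp : Cfsg.IsPModular p Mp) (hMq : Cfsg.IsPModular q Mq) (hno : ∀ g : G, orderOf g ≠ p * q) (b : ℕ) (hb : (Nat.card G).factorization q = b) (Bp : Set (Cfsg.IrrCharacter G)) (hBp : Cfsg.IsPBlock Mp Bp) (Bq : Set (Cfsg.IrrCharacter G)) (hBq : Cfsg.IsPBlock Mq Bq) (y : G) (hy : p ∣ orderOf y) : ∃ ω : Cfsg.AlgInt, ∑ᶠ χ ∈ Bp ∩ Bq, (Cfsg.charDegree (χ : G → ℂ) : ℂ) * (χ : G → ℂ) y = (q : ℂ) ^ b * (ω : ℂ) := by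
  classical
  haveI := Fintype.ofFinite G
  obtain ⟨Q⟩ := (inferInstance : Nonempty (Sylow q G))
  have hQ : Nat.card (Q : Subgroup G) = q ^ b := by rw [Q.card_eq_multiplicity, hb]
  haveI : Fintype (Q : Subgroup G) := Fintype.ofFinite _
  have hm : ∀ χ : IrrCharacter G, ∃ n : ℕ,
      ∑ w : (Q : Subgroup G), (χ : G → ℂ) (w : G) = (q : ℂ) ^ b * n := fun χ => by
    obtain ⟨n, hn⟩ := classInner_natCast
      (isCharacter_comp (Q : Subgroup G).subtype (irr_isCharacter χ.2))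
      (irr_isCharacter (isIrrCharacter_one (G := ↥(Q : Subgroup G))))
    refine ⟨n, ?_⟩
    rw [← hn, classInner, ← mul_assoc, show ((q : ℂ) ^ b) = (Nat.card (Q : Subgroup G) : ℂ) by
      rw [hQ]; push_cast; rfl, mul_inv_cancel₀ (Nat.cast_ne_zero.mpr Nat.card_pos.ne'), one_mul]
    exact Finset.sum_congr rfl fun w _ => by rw [map_one, mul_one]; rfl
  choose n hn using hm
  refine ⟨⟨∑ χ : IrrCharacter G with χ ∈ Bp ∧ χ ∈ Bq, (χ : G → ℂ) y * (n χ : ℂ),
    IsIntegral.sum _ fun χ _ => (char_isIntegral (irr_isCharacter χ.2) y).mul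
      (isIntegral_algebraMap (R := ℤ) (x := (n χ : ℤ)))⟩, ?_⟩
  rw [finsum_mem_irr]
  show _ = (q : ℂ) ^ b * ∑ χ : IrrCharacter G with χ ∈ Bp ∧ χ ∈ Bq, (χ : G → ℂ) y * (n χ : ℂ)
  have h : ∑ w : (Q : Subgroup G), ∑ χ : IrrCharacter G with χ ∈ Bp ∧ χ ∈ Bq,
      (χ : G → ℂ) y * (χ : G → ℂ) (w : G) =
      ∑ χ : IrrCharacter G with χ ∈ Bp ∧ χ ∈ Bq, (χ : G → ℂ) y * (χ : G → ℂ) 1 := by
    rw [Finset.sum_eq_single (1 : (Q : Subgroup G))]
    · rfl
    · intro w _ hw
      refine sum_inter_eq_zero hMp hMq hpq hno hBp hBq hy ?_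
      obtain ⟨j, hj⟩ := IsPGroup.iff_orderOf.mp Q.isPGroup' w
      rw [Subgroup.orderOf_coe, hj]
      refine dvd_pow_self q fun h0 => hw ?_
      rwa [h0, pow_zero, orderOf_eq_one_iff] at hj
    · simp
  rw [Finset.sum_comm] at h
  simp only [← Finset.mul_sum, hn] at h
  rw [Finset.mul_sum]
  refine (Eq.trans (Finset.sum_congr ?_ fun χ _ => ?_) h.symm).trans
    (Finset.sum_congr rfl fun χ _ => by ring)
  · ext χ; simp [Set.mem_inter_iff]
  · rw [charDegree_eq_deg, ← char_one_eq_deg (irr_isCharacter χ.2)]; ring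

end Cfsg.Agent.S4731
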