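import Cfsg.Statements.S4732
import Cfsg.Agent.Lib.Solv.BrauerFeit.Linear

set_option autoImplicit false
universe u v
open Cfsg

namespace Cfsg.Agent.S4732

/-- Let p be a prime. There is a function f of two natural-number arguments such that every finite group G admitting a faithful representation of degree n over a field of characteristic p, with Sylow p-subgroups of order p^m, has a normal abelian subgroup A with [G : A] < f(m, n). -/
theorem result (p : ℕ) [Fact p.Prime] : ∃ f : ℕ → ℕ → ℕ, ∀ (G : Type u) [Group G] [Finite G] (F : Type v) [Field F] [CharP F p] (n : ℕ) (ρ : Representation F G (Fin n → F)), Function.Injective ρ → ∀ m : ℕ, (Nat.card G).factorization p = m → ∃ A : Subgroup G, A.Normal ∧ IsMulCommutative A ∧ A.index < f m n := by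
  choose B hB using fun m n : ℕ => Cfsg.Agent.Solv.BrauerFeit.exists_bound.{u, v} p m n
  refine ⟨fun m n => B m n + 1, fun G _ _ F _ _ n ρ hρ m hm => ?_⟩
  haveI : CharP (AlgebraicClosure F) p :=
    charP_of_injective_algebraMap (algebraMap F (AlgebraicClosure F)).injective p
  let e : Matrix (Fin n) (Fin n) F →+* Matrix (Fin n) (Fin n) (AlgebraicClosure F) :=
    (algebraMap F (AlgebraicClosure F)).mapMatrix
  let σ : G →* Module.End (AlgebraicClosure F) (Fin n → AlgebraicClosure F) :=
    (Matrix.toLinAlgEquiv' (R := AlgebraicClosure F) (n := Fin n)).toAlgHom.toMonoidHom.comp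
      (e.toMonoidHom.comp ((LinearMap.toMatrixAlgEquiv' (R := F) (n := Fin n)).toAlgHom.toMonoidHom.comp ρ))
  have hσ : Function.Injective σ :=
    (Matrix.toLinAlgEquiv' (R := AlgebraicClosure F) (n := Fin n)).injective.comp
      ((Matrix.map_injective (algebraMap F (AlgebraicClosure F)).injective).comp
        ((LinearMap.toMatrixAlgEquiv' (R := F) (n := Fin n)).injective.comp hρ))
  obtain ⟨A, hn, hc, -, hi⟩ := hB m n G (AlgebraicClosure F) (Fin n → AlgebraicClosure F)
    (by rw [Module.finrank_fin_fun]) σ hσ hm.le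
  exact ⟨A, hn, ⟨⟨fun a b => Subtype.ext (hc a a.2 b b.2)⟩⟩, Nat.lt_succ_of_le hi⟩

end Cfsg.Agent.S4732
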