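import Cfsg.Statements.S4735
import Cfsg.Agent.Lib.Char.PrincipalInflate

set_option autoImplicit false
open Cfsg Cfsg.Agent.Char
open scoped ComplexConjugate

namespace Cfsg.Agent.S4735

/-- Let p be a prime, M a maximal ideal of the algebraic integers containing p, G a finite group, H = O_p'(G) and Ḡ = G/H. For x ∈ G write λ(G, x) for the sum of |χ(x)|^2 over the irreducible characters χ in the principal p-block of G. Then λ(G, x) is a positive integer, λ(G, x) = λ(Ḡ, x̄) where x̄ is the image of x, and λ(G, x) ≤ #C_Ḡ(x̄). Moreover λ(G, 1) = [G : H] if and only if the principal block is the only p-block of Ḡ. -/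
theorem result {G : Type*} [Group G] [Finite G] (p : ℕ) [Fact p.Prime] (M : Ideal Cfsg.AlgInt) (hM : Cfsg.IsPModular p M) (x : G) : (∃ n : ℕ, 0 < n ∧ ∑ᶠ χ ∈ Cfsg.principalBlock M G, Complex.normSq ((χ : G → ℂ) x) = n) ∧ ∑ᶠ χ ∈ Cfsg.principalBlock M G, Complex.normSq ((χ : G → ℂ) x) = ∑ᶠ ψ ∈ Cfsg.principalBlock M (G ⧸ Cfsg.pPrimeCore p G), Complex.normSq ((ψ : G ⧸ Cfsg.pPrimeCore p G → ℂ) (QuotientGroup.mk x)) ∧ ∑ᶠ χ ∈ Cfsg.principalBlock M G, Complex.normSq ((χ : G → ℂ) x) ≤ (Nat.card ↥(Subgroup.centralizer ({(QuotientGroup.mk x : G ⧸ Cfsg.pPrimeCore p G)} : Set (G ⧸ Cfsg.pPrimeCore p G))) : ℝ) ∧ ((∑ᶠ χ ∈ Cfsg.principalBlock M G, Cfsg.charDegree (χ : G → ℂ) ^ 2) = (Cfsg.pPrimeCore p G).index ↔ ∀ B : Set (Cfsg.IrrCharacter (G ⧸ Cfsg.pPrimeCore p G)), Cfsg.IsPBlock M B → B = Cfsg.principalBlock M (G ⧸ Cfsg.pPrimeCore p G)) := by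
  classical
  haveI := Fintype.ofFinite G
  set N := pPrimeCore p G with hN
  haveI : Fintype (G ⧸ N) := Fintype.ofFinite _
  have hNp : ¬ p ∣ Nat.card N :=
    hM.1.coprime_iff_not_dvd.mp (Fusion.card_pPrimeCore_coprime p G).symm
  have e := sum_principal_inflate hM N hNp fun f : G → ℂ => Complex.normSq (f x)
  rw [finsum_mem_irr, finsum_mem_irr]
  refine ⟨principal_normSq_nat hM x, e, ?_, ?_⟩
  · rw [e, ← sum_normSq_all (QuotientGroup.mk x : G ⧸ N)]
    exact Finset.sum_le_sum_of_subset_of_nonneg (Finset.filter_subset _ _)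
      fun χ _ _ => Complex.normSq_nonneg _
  · rw [finsum_mem_irr, sum_principal_inflate hM N hNp fun f : G → ℂ => charDegree f ^ 2]
    have e2 : ∀ ψ : IrrCharacter (G ⧸ N),
        charDegree (fun g : G => (ψ : G ⧸ N → ℂ) (QuotientGroup.mk g)) =
          charDegree (ψ : G ⧸ N → ℂ) := fun ψ => by
      simp only [charDegree, QuotientGroup.mk_one]
    simp only [e2]
    rw [show N.index = Nat.card (G ⧸ N) from rfl, sum_sq_principal_eq_card_iff hM]

end Cfsg.Agent.S4735
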