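import Cfsg.Statements.S4736
import Cfsg.Agent.Lib.Char.ItoConverse
import Cfsg.Agent.Lib.Char.OneBlock
import Cfsg.Agent.Lib.Char.PrincipalInflate
import Cfsg.Agent.Lib.Char.Height

set_option autoImplicit false
open Cfsg Cfsg.Agent.Char
open scoped ComplexConjugate

namespace Cfsg.Agent.S4736

/-- Let p be a prime, M a maximal ideal of the algebraic integers containing p, and G a finite p-solvable group with Sylow p-subgroup P. Then P is abelian if and only if every irreducible character in the principal p-block of G has height zero. -/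
theorem result {G : Type*} [Group G] [Finite G] (p : ℕ) [Fact p.Prime] (M : Ideal Cfsg.AlgInt) (hM : Cfsg.IsPModular p M) (hsolv : Cfsg.IsPSolvable p G) (P : Sylow p G) : IsMulCommutative P ↔ ∀ χ ∈ Cfsg.principalBlock M G, Cfsg.blockHeight p (Cfsg.principalBlock M G) (χ : G → ℂ) = 0 := by
  classical
  haveI := Fintype.ofFinite G
  haveI : (Cfsg.pPrimeCore p G).Normal := Cfsg.Agent.Solv.pPrimeCore_normal p
  set K := Cfsg.pPrimeCore p G with hK
  haveI := Fintype.ofFinite (G ⧸ K)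
  have hp := (Fact.out : p.Prime)
  have hKp : ¬ p ∣ Nat.card K := fun h =>
    hp.ne_one (Nat.eq_one_of_dvd_coprimes (Cfsg.Agent.Fusion.card_pPrimeCore_coprime p G) h dvd_rfl)
  set Q := P.mapSurjective (QuotientGroup.mk'_surjective K) with hQ
  have hQc : (Q : Subgroup (G ⧸ K)) = (P : Subgroup G).map (QuotientGroup.mk' K) := rfl
  have hsolvQ := Cfsg.Agent.Solv.isPSolvable_map hp hsolv _ (QuotientGroup.mk'_surjective K)
  have hcon := centralizer_pCore_le_of_pSolvable hsolvQ Cfsg.Agent.Fusion.pPrimeCore_quotient_eq_bot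
  have hdmin : dmin p (principalBlock M G) = 0 := by
    have h := dmin_le (p := p) (one_mem_principal (G := G) hM)
    have h1 : dexp p (fun _ : G => (1 : ℂ)) = 0 := by simp [dexp, charDegree, deg]
    change _ ≤ dexp p (fun _ : G => (1 : ℂ)) at h
    omega
  have hall : (∀ χ ∈ principalBlock M G, blockHeight p (principalBlock M G) (χ : G → ℂ) = 0) ↔
      ∀ ψ : IrrCharacter (G ⧸ K), ¬ p ∣ deg (ψ : G ⧸ K → ℂ) := by
    have hz : ∀ χ : IrrCharacter G, χ ∈ principalBlock M G →
        (blockHeight p (principalBlock M G) (χ : G → ℂ) = 0 ↔ ¬ p ∣ deg (χ : G → ℂ)) := fun χ hχ => by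
      rw [blockHeight_eq_zero_iff hχ, hdmin]
      show (deg (χ : G → ℂ)).factorization p = 0 ↔ _
      rw [Nat.factorization_eq_zero_iff]
      simp [hp, (deg_pos χ.2).ne']
    have hdeg : ∀ ψ : IrrCharacter (G ⧸ K),
        deg ((inflateEquiv K ψ).1 : G → ℂ) = deg (ψ : G ⧸ K → ℂ) := fun ψ => by
      simp only [deg, inflateEquiv_apply, QuotientGroup.mk_one]
    constructor
    · intro h ψ
      have hmem := (inflate_mem_principal_iff hM K hKp ψ).mpr
        (sameBlock_of_constrained hM hcon ⟨fun _ => 1, isIrrCharacter_one⟩ ψ)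
      rw [← hdeg]
      exact (hz _ hmem).mp (h _ hmem)
    · intro h χ hχ
      obtain ⟨ψ, hψ⟩ := (inflateEquiv K).surjective ⟨χ, principal_trivial_on hM K hKp hχ⟩
      have e := congrArg (fun z => ((Subtype.val z : IrrCharacter G) : G → ℂ)) hψ
      simp only at e
      rw [hz χ hχ, ← e, hdeg]
      exact h ψ
  rw [hall, ← normal_abelian_sylow_iff hsolvQ]
  constructor
  · intro hc
    have hQcomm : ∀ a ∈ (Q : Subgroup (G ⧸ K)), ∀ b ∈ (Q : Subgroup (G ⧸ K)), a * b = b * a := by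
      intro a ha b hb
      rw [hQc] at ha hb
      obtain ⟨x, hx, rfl⟩ := ha
      obtain ⟨y, hy, rfl⟩ := hb
      rw [← map_mul, ← map_mul]
      exact congrArg _ (congrArg Subtype.val (hc.is_comm.comm ⟨x, hx⟩ ⟨y, hy⟩))
    have hQR : (Q : Subgroup (G ⧸ K)) = pCore p (G ⧸ K) := by
      refine le_antisymm (fun a ha => hcon (Subgroup.mem_centralizer_iff.mpr fun b hb => ?_))
        (Cfsg.Agent.Fusion.pCore_le_sylow Q)
      exact hQcomm b (Cfsg.Agent.Fusion.pCore_le_sylow Q hb) a ha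
    exact ⟨(Q : Subgroup (G ⧸ K)), hQR ▸ Cfsg.Agent.Solv.pCore_normal p, hQcomm, Q.isPGroup',
      Q.not_dvd_index⟩
  · rintro ⟨R, hRn, hRc, hRp, hRi⟩
    haveI := hRn
    have hQR : (Q : Subgroup (G ⧸ K)) ≤ R := fun x hx => by
      rw [← QuotientGroup.eq_one_iff (N := R), ← orderOf_eq_one_iff]
      obtain ⟨a, ha⟩ := Q.isPGroup'.exists_card_eq
      refine Nat.eq_one_of_dvd_coprimes ((hp.coprime_iff_not_dvd.mpr hRi).pow_left a) ?_
        (by rw [Subgroup.index_eq_card]; exact orderOf_dvd_natCard _)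
      exact (orderOf_map_dvd (QuotientGroup.mk' R) x).trans
        (ha ▸ Subgroup.orderOf_dvd_natCard (Q : Subgroup (G ⧸ K)) hx)
    refine ⟨⟨fun a b => Subtype.ext ?_⟩⟩
    have hmemQ : ∀ z : (P : Subgroup G), (QuotientGroup.mk (z : G) : G ⧸ K) ∈ R := fun z =>
      hQR (hQc ▸ Subgroup.mem_map_of_mem (QuotientGroup.mk' K) z.2)
    have h1 := hRc _ (hmemQ a) _ (hmemQ b)
    rw [← QuotientGroup.mk_mul, ← QuotientGroup.mk_mul, QuotientGroup.eq] at h1
    have h2 : ((a : G) * b)⁻¹ * (b * a) ∈ K ⊓ (P : Subgroup G) :=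
      Subgroup.mem_inf.mpr ⟨h1, Subgroup.mul_mem _ (Subgroup.inv_mem _ (Subgroup.mul_mem _ a.2 b.2))
        (Subgroup.mul_mem _ b.2 a.2)⟩
    rw [Cfsg.Agent.Fusion.coprime_inf_pGroup (Cfsg.Agent.Fusion.card_pPrimeCore_coprime p G)
      P.isPGroup', Subgroup.mem_bot, inv_mul_eq_one] at h2
    exact h2

end Cfsg.Agent.S4736
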