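import Cfsg.Statements.S4740
import Cfsg.Agent.Lib.Char.Convolution
import Cfsg.Agent.Lib.Char.Contrib

set_option autoImplicit false
open Cfsg Cfsg.Agent.Char
open scoped ComplexConjugate

namespace Cfsg.Agent.S4740

/-- Let p be an odd prime, G a finite group of even order, x an involution of G and P a subgroup of G of order p ^ c such that no conjugate of x inverts a non-identity element of P. If p ^ a is the p-part of the order of C_G(x), then some irreducible character of G has degree divisible by p ^ (c - a). -/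
theorem result {G : Type*} [Group G] [Finite G] (p : ℕ) [Fact p.Prime] (hp2 : p ≠ 2) (hG : Even (Nat.card G)) (x : G) (hx : orderOf x = 2) (P : Subgroup G) (c : ℕ) (hP : Nat.card ↥P = p ^ c) (hinv : ∀ g : G, IsConj x g → ∀ z ∈ P, z ≠ 1 → g * z * g⁻¹ ≠ z⁻¹) (a : ℕ) (ha : (Nat.card ↥(Subgroup.centralizer ({x} : Set G))).factorization p = a) : ∃ χ : Cfsg.IrrCharacter G, p ^ (c - a) ∣ Cfsg.charDegree (χ : G → ℂ) := by
  classical
  haveI := Fintype.ofFinite G
  haveI := Fintype.ofFinite P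
  obtain ⟨M, hM⟩ := exists_pModular (Fact.out : p.Prime)
  have hP' := pmod_prime hM
  have hp : p.Prime := Fact.out
  have hxinv : x⁻¹ = x := inv_eq_of_mul_eq_one_right (by rw [← pow_two, ← hx, pow_orderOf_eq_one])
  set K := Nat.card (Subgroup.centralizer ({x} : Set G)) with hK
  by_contra hno
  push Not at hno
  have hG : (Nat.card G : ℂ) ≠ 0 := Nat.cast_ne_zero.mpr Nat.card_pos.ne'
  set w : IrrCharacter G → ℂ := fun χ => (χ : G → ℂ) x * (χ : G → ℂ) x / (χ : G → ℂ) 1 with hw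
  have hvan : ∀ z ∈ P, z ≠ 1 → ∑ χ : IrrCharacter G, w χ * (χ : G → ℂ) z = 0 := by
    intro z hz hz1
    have hne : ∀ t : G, ¬ IsConj (x * (t * x * t⁻¹)) z⁻¹ := by
      intro t ht
      obtain ⟨k, hk⟩ := isConj_iff.mp ht
      refine hinv (k * x * k⁻¹) (isConj_iff.mpr ⟨k, rfl⟩) z hz hz1 ?_
      have e : z = k * ((t * x * t⁻¹) * x) * k⁻¹ := by
        rw [← inv_inv z, ← hk]
        simp only [mul_inv_rev, inv_inv, hxinv]
        group
      rw [e]
      simp only [mul_inv_rev, inv_inv, hxinv]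
      have hxx : x * x = 1 := by rw [← pow_two, ← hx, pow_orderOf_eq_one]
      calc k * x * k⁻¹ * (k * (t * x * t⁻¹ * x) * k⁻¹) * (k * (x * k⁻¹))
          = k * x * (t * x * t⁻¹) * (x * x) * k⁻¹ := by group
        _ = k * (x * (t * (x * t⁻¹)) * k⁻¹) := by rw [hxx]; group
    have h2 : (Nat.card G : ℂ) * ∑ χ : IrrCharacter G, w χ * (χ : G → ℂ) z = 0 := by
      rw [Finset.mul_sum]
      have h3 : ∀ χ : IrrCharacter G, (Nat.card G : ℂ) * (w χ * (χ : G → ℂ) z) =
          ∑ t : G, (χ : G → ℂ) (x * (t * x * t⁻¹)) * conj ((χ : G → ℂ) z⁻¹) := fun χ => by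
        rw [← Finset.sum_mul, char_inv (irr_isCharacter χ.2), Complex.conj_conj, ← mul_assoc, hw]
        congr 1
        rw [← mul_div_assoc, div_eq_iff (irr_one_ne_zero χ.2), ← mul_assoc, ← sum_conj_mul χ.2 x x,
          mul_comm]
      rw [Finset.sum_congr rfl fun χ _ => h3 χ, Finset.sum_comm]
      exact Finset.sum_eq_zero fun t _ => by rw [second_orth, if_neg (hne t)]
    exact (mul_eq_zero.mp h2).resolve_left hG
  choose m hm using fun χ : IrrCharacter G =>
    classInner_natCast (isCharacter_comp P.subtype (irr_isCharacter χ.2)) (isCharacter_one (G := P))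
  have hPsum : ∀ χ : IrrCharacter G, ∑ z : P, (χ : G → ℂ) z = ((p : ℂ) ^ c) * (m χ : ℂ) := by
    intro χ
    have h := hm χ
    simp only [classInner, map_one, mul_one, Function.comp_apply, Subgroup.coe_subtype,
      inv_mul_eq_iff_eq_mul₀ (Nat.cast_ne_zero.mpr (Nat.card_pos (α := P)).ne' : (Nat.card P : ℂ) ≠ 0)] at h
    rw [h, hP, Nat.cast_pow]
  have htot : ∑ χ : IrrCharacter G, w χ * ((p : ℂ) ^ c * (m χ : ℂ)) = (K : ℂ) := by
    simp only [← hPsum, Finset.mul_sum]
    rw [Finset.sum_comm, Finset.sum_eq_single (1 : P)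
      (fun z _ hz => hvan z z.2 fun h => hz (Subtype.ext h)) (fun h => absurd (Finset.mem_univ _) h)]
    have h := second_orth x x
    rw [if_pos (IsConj.refl x), card_conjClass_eq_index,
      ← (Subgroup.centralizer ({x} : Set G)).index_mul_card, Nat.cast_mul,
      mul_div_cancel_left₀ _ (Nat.cast_ne_zero.mpr Subgroup.index_ne_zero_of_finite)] at h
    rw [hK, ← h]
    refine Finset.sum_congr rfl fun χ _ => ?_
    rw [OneMemClass.coe_one, hw]
    have hr : conj ((χ : G → ℂ) x) = (χ : G → ℂ) x := by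
      rw [← char_inv (irr_isCharacter χ.2), hxinv]
    rw [hr, div_mul_cancel₀ _ (irr_one_ne_zero χ.2)]
  have hterm : ∀ χ : IrrCharacter G, ∃ y, MemLocalRing M y ∧
      w χ * ((p : ℂ) ^ c * (m χ : ℂ)) = y * (p : ℂ) ^ (a + 1) := by
    intro χ
    obtain ⟨d, hd, hdeg⟩ := deg_eq_pow_mul hp χ.2
    set e := dexp p (χ : G → ℂ) with he
    have hlt : e < c - a := by
      by_contra hge
      exact hno χ (dvd_trans (pow_dvd_pow p (not_lt.mp hge)) (Dvd.intro d hdeg.symm))
    refine ⟨(χ : G → ℂ) x * (χ : G → ℂ) x * (m χ : ℂ) * (d : ℂ)⁻¹ * (p : ℂ) ^ (c - e - (a + 1)), ?_, ?_⟩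
    · exact memLR_mul hP' (memLR_mul hP' (memLR_mul hP' (memLR_mul hP'
        (memLR_char hP' (irr_isCharacter χ.2) x) (memLR_char hP' (irr_isCharacter χ.2) x))
        (memLR_natCast hP' _)) (memLR_inv_natCast hM hd))
        (by rw [← Nat.cast_pow]; exact memLR_natCast hP' _)
    · have hp0 : (p : ℂ) ^ e ≠ 0 := pow_ne_zero _ (Nat.cast_ne_zero.mpr hp.ne_zero)
      have hd0 : (d : ℂ) ≠ 0 := Nat.cast_ne_zero.mpr fun h0 => hd (h0 ▸ dvd_zero p)
      rw [hw]
      show (χ : G → ℂ) x * (χ : G → ℂ) x / (χ : G → ℂ) 1 * _ = _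
      rw [char_one_eq_deg (irr_isCharacter χ.2), hdeg, Nat.cast_mul, Nat.cast_pow]
      conv_lhs => rw [show c = e + ((c - e - (a + 1)) + (a + 1)) by omega, pow_add, pow_add]
      field_simp
  choose y hy hye using hterm
  have heq : (∑ χ, y χ) * (p : ℂ) ^ (a + 1) = ((K : ℤ) : ℂ) := by
    rw [Finset.sum_mul, ← Finset.sum_congr rfl fun χ _ => hye χ, htot, Int.cast_natCast]
  have hdvd := int_dvd_of_local hM (memLR_sum hP' _ _ fun χ _ => hy χ) heq
  have hdvd' : p ^ (a + 1) ∣ K := by exact_mod_cast hdvd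
  have := (hp.pow_dvd_iff_le_factorization Nat.card_pos.ne').mp hdvd'
  rw [ha] at this
  omega

end Cfsg.Agent.S4740
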