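import Cfsg.Statements.S4751
import Cfsg.Agent.Lib.Char.RootUnityValues
import Cfsg.Agent.Lib.Char.FourGroupSplit

set_option autoImplicit false
open Cfsg
open scoped ComplexConjugate

namespace Cfsg.Agent.S4751

/-- Let χ be a faithful, non-linear irreducible character of the finite group G (χ g = χ 1 only for g = 1, χ 1 ≠ 1) whose value at every element of order divisible by p is a root of unity, and suppose P = O_p(G) ≠ 1. Then either P is an elementary abelian Sylow p-subgroup of G, C_G(P) is the internal direct product of P and Z(G), G acts transitively by conjugation on the non-principal linear characters of P, and χ 1 = |P| − 1; or p = 2 and G is the internal direct product of a subgroup isomorphic to the symmetric group S₄ and the centre Z(G), which has odd order. -/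
theorem result {G : Type*} [Group G] [Finite G] (p : ℕ) [Fact p.Prime] (χ : Cfsg.IrrCharacter G) (hfaith : ∀ g : G, (χ : G → ℂ) g = (χ : G → ℂ) 1 → g = 1) (hnl : (χ : G → ℂ) 1 ≠ 1) (hroot : ∀ g : G, p ∣ orderOf g → ∃ n : ℕ, 0 < n ∧ ((χ : G → ℂ) g) ^ n = 1) (hP : Cfsg.pCore p G ≠ ⊥) : ((Nat.card ↥(Cfsg.pCore p G)).factorization p = (Nat.card G).factorization p ∧ Cfsg.IsElementaryAbelian p (Cfsg.pCore p G) ∧ Subgroup.centralizer ((Cfsg.pCore p G : Subgroup G) : Set G) = Cfsg.pCore p G ⊔ Subgroup.center G ∧ Cfsg.pCore p G ⊓ Subgroup.center G = ⊥ ∧ (∀ lam mu : ↥(Cfsg.pCore p G) → ℂ, Cfsg.IsCharacter ↥(Cfsg.pCore p G) lam → lam 1 = 1 → lam ≠ (fun _ => (1 : ℂ)) → Cfsg.IsCharacter ↥(Cfsg.pCore p G) mu → mu 1 = 1 → mu ≠ (fun _ => (1 : ℂ)) → ∃ g : G, ∀ (x : G) (hx : x ∈ Cfsg.pCore p G) (hgx : g * x * g⁻¹ ∈ Cfsg.pCore p G), mu ⟨x, hx⟩ = lam ⟨g * x * g⁻¹, hgx⟩) ∧ (χ : G → ℂ) 1 = (Nat.card ↥(Cfsg.pCore p G) : ℂ) - 1) ∨ (p = 2 ∧ Odd (Nat.card ↥(Subgroup.center G)) ∧ ∃ H : Subgroup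 G, Nonempty (↥H ≃* Equiv.Perm (Fin 4)) ∧ H ⊓ Subgroup.center G = ⊥ ∧ H ⊔ Subgroup.center G = ⊤) := by
  classical
  haveI := Fintype.ofFinite G
  haveI hPn : (Cfsg.pCore p G).Normal :=
    Subgroup.normalizer_eq_top_iff.mp ((Subgroup.eq_top_iff' _).mpr fun g => by
      rw [Subgroup.mem_normalizer_iff_map_conj_eq, show Cfsg.pCore p G = sSup _ from rfl,
        sSup_eq_iSup, Subgroup.map_iSup]
      refine iSup_congr fun N => ?_
      rw [Subgroup.map_iSup]
      refine iSup_congr fun hN => ?_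
      haveI := hN.1
      exact Subgroup.mem_normalizer_iff_map_conj_eq.mp (by
        rw [Subgroup.normalizer_eq_top]; exact Subgroup.mem_top g))
  set P := Cfsg.pCore p G with hPdef
  haveI := Fintype.ofFinite P
  have h : Cfsg.Agent.Char.RootValues.Ctx p χ P :=
    { prime := Fact.out
      faith := hfaith
      nonlin := hnl
      norm := fun g hg => by
        obtain ⟨n, hn, hpow⟩ := hroot g hg
        exact Complex.norm_eq_one_of_pow_eq_one hpow hn.ne'
      pgroup := Cfsg.Agent.Solv.pCore_isPGroup p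
      maximal := fun N hN hNp => by haveI := hN; exact Cfsg.Agent.Solv.normal_le_pCore hNp
      ne_bot := hP }
  have hpC := h.center_coprime
  have hinf : P ⊓ Subgroup.center G = ⊥ := by
    obtain ⟨n, hn⟩ := IsPGroup.iff_card.mp h.pgroup
    refine disjoint_iff.mp (Subgroup.disjoint_of_coprime_natCard ?_)
    rw [hn]
    exact Nat.Coprime.pow_left _ (h.prime.coprime_iff_not_dvd.mpr hpC)
  have hC := Cfsg.Agent.Char.RootValues.centralizer_eq h
  obtain ⟨hdq, -, htr⟩ := h.main
  obtain ⟨S, hS⟩ := h.pgroup.exists_le_sylow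
  rcases Cfsg.Agent.Char.RootValues.sylow_bound h S.isPGroup' hS with hcard | ⟨hp2, hcard⟩
  · refine Or.inl ⟨?_, ⟨⟨⟨h.abelian⟩⟩, fun a ha => congrArg Subtype.val (h.elementary ⟨a, ha⟩)⟩,
      hC, hinf, ?_, ?_⟩
    · rw [← hcard, S.card_eq_multiplicity, h.prime.factorization_pow, Finsupp.single_eq_same]
    · intro lam mu hlam hlam1 hlamne hmu hmu1 hmune
      obtain ⟨l, hl⟩ := Cfsg.Agent.Char.exists_hom_of_degree_one hlam hlam1
      obtain ⟨m, hm⟩ := Cfsg.Agent.Char.exists_hom_of_degree_one hmu hmu1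
      obtain ⟨g, hg⟩ := Cfsg.Agent.Char.mem_cliffOrbit.mp (htr
        ⟨lam, hl.symm ▸ Cfsg.Agent.Char.isIrrCharacter_linear l⟩
        ⟨mu, hm.symm ▸ Cfsg.Agent.Char.isIrrCharacter_linear m⟩ hlamne hmune)
      refine ⟨g, fun x hx hgx => ?_⟩
      have e := congrFun (congrArg Subtype.val hg) ⟨x, hx⟩
      rw [Cfsg.Agent.Char.irrComp_apply] at e
      exact e.symm.trans (congrArg lam (Subtype.ext (MulAut.conjNormal_apply g ⟨x, hx⟩)))
    · rw [Cfsg.Agent.Char.char_one_eq_deg (Cfsg.Agent.Char.irr_isCharacter χ.2), ← hdq]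
      push_cast
      ring
  · subst hp2
    refine Or.inr ⟨rfl, (Nat.not_even_iff_odd.mp fun he => hpC (even_iff_two_dvd.mp he)), ?_⟩
    have h4 := Cfsg.Agent.Char.RootValues.card_eq_four h S.isPGroup' hS hcard
    refine Cfsg.Agent.Char.FourSplit.exists_symmetric_four P h4 hC hpC hinf ?_ ?_
    · have hab : ∀ a b : Subgroup.centralizer (P : Set G), a * b = b * a := by
        have hle : P ⊔ Subgroup.center G ≤
            Subgroup.centralizer ((Subgroup.centralizer (P : Set G) : Subgroup G) : Set G) := by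
          refine sup_le (fun x hx => Subgroup.mem_centralizer_iff.mpr fun y hy => ?_)
            (Subgroup.center_le_centralizer _)
          exact (Subgroup.mem_centralizer_iff.mp hy x hx).symm
        intro a b
        exact Subtype.ext (Subgroup.mem_centralizer_iff.mp (hle (hC ▸ b.2 : (b : G) ∈ _)) a a.2)
      haveI := Subgroup.normal_centralizer (H := P)
      have h3 := Cfsg.Agent.Char.deg_dvd_index_abelian_normal χ.2
        (Subgroup.centralizer (P : Set G)) hab
      have hd : Cfsg.Agent.Char.deg (χ : G → ℂ) = 3 := by omega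
      rwa [hd] at h3
    · have h8 : Nat.card (S : Subgroup G) = 8 := by omega
      exact h8 ▸ Subgroup.card_subgroup_dvd_card _

end Cfsg.Agent.S4751
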