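import Cfsg.Statements.S4755
import Cfsg.Agent.Lib.Char.Convolution
import Cfsg.Agent.Lib.Char.Linear

set_option autoImplicit false
open Cfsg Cfsg.Agent.Char
open scoped ComplexConjugate

namespace Cfsg.Agent.S4755

/-- Let x, y be non-identity elements of the finite group G such that χ(x' y') = χ(x') χ(y') for all conjugates x' of x, y' of y and every irreducible character χ. Then the conjugacy class of x y is the set of all products of a conjugate of x with a conjugate of y; every irreducible character of degree greater than 1 vanishes at x y; and the conjugacy class of x y is the coset of the commutator subgroup containing x y. -/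
theorem result {G : Type*} [Group G] [Finite G] (x y : G) (hx : x ≠ 1) (hy : y ≠ 1) (h : ∀ (a b : G) (χ : Cfsg.IrrCharacter G), (χ : G → ℂ) (a * x * a⁻¹ * (b * y * b⁻¹)) = (χ : G → ℂ) (a * x * a⁻¹) * (χ : G → ℂ) (b * y * b⁻¹)) : (∀ z : G, IsConj (x * y) z ↔ ∃ a b : G, z = a * x * a⁻¹ * (b * y * b⁻¹)) ∧ (∀ χ : Cfsg.IrrCharacter G, (χ : G → ℂ) 1 ≠ 1 → (χ : G → ℂ) (x * y) = 0) ∧ (∀ z : G, IsConj (x * y) z ↔ (x * y)⁻¹ * z ∈ commutator G) := by
  classical
  haveI := Fintype.ofFinite G
  have hG : (Nat.card G : ℂ) ≠ 0 := Nat.cast_ne_zero.mpr Nat.card_pos.ne'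
  have hval : ∀ (χ : IrrCharacter G) (a b : G),
      (χ : G → ℂ) (a * x * a⁻¹ * (b * y * b⁻¹)) = (χ : G → ℂ) (x * y) := fun χ a b => by
    rw [h a b χ, isClassFunction_character (irr_isCharacter χ.2) x a,
      isClassFunction_character (irr_isCharacter χ.2) y b]
    simpa using (h 1 1 χ).symm
  have hmul : ∀ χ : IrrCharacter G, (χ : G → ℂ) (x * y) = (χ : G → ℂ) x * (χ : G → ℂ) y :=
    fun χ => by simpa using h 1 1 χ
  have hsep : ∀ z : G, (∀ χ : IrrCharacter G, (χ : G → ℂ) z = (χ : G → ℂ) (x * y)) →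
      IsConj (x * y) z := fun z hz => by
    by_contra hn
    have h1 := second_orth (x * y) z
    rw [if_neg hn, Finset.sum_congr rfl fun χ _ => by rw [hz χ]] at h1
    have h2 := second_orth (x * y) (x * y)
    rw [if_pos (IsConj.refl _), h1] at h2
    exact div_ne_zero hG (Nat.cast_ne_zero.mpr (card_conjClass_ne_zero _)) h2.symm
  have hvan : ∀ χ : IrrCharacter G, (χ : G → ℂ) 1 ≠ 1 → (χ : G → ℂ) (x * y) = 0 := by
    intro χ hχ1
    have h1 := sum_conj_mul χ.2 x y
    rw [Finset.sum_congr rfl fun t _ => by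
      simpa using hval χ 1 t, Finset.sum_const, Finset.card_univ, nsmul_eq_mul,
      ← Nat.card_eq_fintype_card, mul_assoc (Nat.card G : ℂ), ← hmul] at h1
    have h2 : ((χ : G → ℂ) 1 - 1) * ((Nat.card G : ℂ) * (χ : G → ℂ) (x * y)) = 0 := by
      linear_combination h1
    exact (mul_eq_zero.mp ((mul_eq_zero.mp h2).resolve_left (sub_ne_zero.mpr hχ1))).resolve_left hG
  refine ⟨fun z => ⟨fun hz => ?_, ?_⟩, hvan, fun z => ⟨fun hz => ?_, fun hz => ?_⟩⟩
  · obtain ⟨c, hc⟩ := isConj_iff.mp hz
    exact ⟨c, c, by rw [← hc]; group⟩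
  · rintro ⟨a, b, rfl⟩
    exact hsep _ fun χ => hval χ a b
  · obtain ⟨c, hc⟩ := isConj_iff.mp hz
    rw [← hc, show (x * y)⁻¹ * (c * (x * y) * c⁻¹) = (x * y)⁻¹ * c * (x * y) * c⁻¹ by group]
    have := Subgroup.commutator_mem_commutator (Subgroup.mem_top (x * y)⁻¹) (Subgroup.mem_top c)
    rw [commutatorElement_def, inv_inv] at this
    exact this
  · by_contra hn
    have h1 := second_orth (x * y) z
    rw [if_neg hn] at h1
    have hone : ∀ χ : IrrCharacter G, (χ : G → ℂ) (x * y) * conj ((χ : G → ℂ) z) =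
        if (χ : G → ℂ) 1 = 1 then 1 else 0 := by
      intro χ
      split_ifs with h1χ
      · obtain ⟨l, hl⟩ := exists_hom_of_degree_one (irr_isCharacter χ.2) h1χ
        have hk : l ((x * y)⁻¹ * z) = 1 :=
          MonoidHom.mem_ker.mp (Abelianization.commutator_subset_ker l hz)
        rw [map_mul, map_inv, inv_mul_eq_one] at hk
        rw [hl]
        show (l (x * y) : ℂ) * conj (l z : ℂ) = 1
        rw [hk, Complex.mul_conj',
          Complex.norm_eq_one_of_pow_eq_one (linear_pow_card l z) (orderOf_pos z).ne']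
        simp
      · rw [hvan χ h1χ, zero_mul]
    rw [Finset.sum_congr rfl fun χ _ => hone χ, Finset.sum_boole, Nat.cast_eq_zero,
      Finset.card_eq_zero, Finset.filter_eq_empty_iff] at h1
    exact h1 (Finset.mem_univ ⟨fun _ => 1, isIrrCharacter_one⟩) rfl

end Cfsg.Agent.S4755
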