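import Cfsg.Statements.S4756
import Cfsg.Agent.Lib.Char.MultiplicativeCoprime

set_option autoImplicit false
open Cfsg
open scoped ComplexConjugate

namespace Cfsg.Agent.S4756

/-- For a finite group G the following are equivalent. (1) χ(x y) = χ(x) χ(y) for every irreducible character χ and all non-identity elements x, y of prime power orders for two different primes. (2) G is a p-group for some prime p, or G is abelian, or for some prime p: G = A P with P a normal Sylow p-subgroup and A a nontrivial cyclic subgroup of order prime to p such that, with C = C_P(A) and D = [A, P], one has P = C D, C abelian, D normal in G, C ∩ D = 1, and A acts fixed-point-freely on D (no non-identity element of A centralizes a non-identity element of D). -/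
theorem result {G : Type*} [Group G] [Finite G] : (∀ (x y : G) (χ : Cfsg.IrrCharacter G), x ≠ 1 → y ≠ 1 → (∃ p q a b : ℕ, p.Prime ∧ q.Prime ∧ p ≠ q ∧ orderOf x = p ^ a ∧ orderOf y = q ^ b) → (χ : G → ℂ) (x * y) = (χ : G → ℂ) x * (χ : G → ℂ) y) ↔ ((∃ p : ℕ, p.Prime ∧ IsPGroup p G) ∨ IsMulCommutative G ∨ ∃ (p : ℕ) (_ : Fact p.Prime) (P : Sylow p G) (A : Subgroup G), (P : Subgroup G).Normal ∧ IsCyclic ↥A ∧ A ≠ ⊥ ∧ (Nat.card ↥A).Coprime p ∧ A ⊔ (P : Subgroup G) = ⊤ ∧ IsMulCommutative ↥((P : Subgroup G) ⊓ Subgroup.centralizer (A : Set G)) ∧ (⁅A, (P : Subgroup G)⁆).Normal ∧ ((P : Subgroup G) ⊓ Subgroup.centralizer (A : Set G)) ⊔ ⁅A, (P : Subgroup G)⁆ = (P : Subgroup G) ∧ ((P : Subgroup G) ⊓ Subgroup.centralizer (A : Set G)) ⊓ ⁅A, (P : Subgroup G)⁆ = ⊥ ∧ ∀ a ∈ A, a ≠ 1 → ∀ d ∈ ⁅A, (P : Subgroup G)⁆, a * d = d * a → d = 1) := by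
  classical
  haveI := Fintype.ofFinite G
  constructor
  · intro h
    by_cases hG' : commutator G = ⊥
    · exact Or.inr (Or.inl ((commutator_eq_bot_iff _).mp hG'))
    by_cases hpg : ∃ p : ℕ, p.Prime ∧ IsPGroup p G
    · exact Or.inl hpg
    refine Or.inr (Or.inr ?_)
    have hv : ∀ x y : G, x ≠ 1 → y ≠ 1 → (∃ p q a b : ℕ, p.Prime ∧ q.Prime ∧ p ≠ q ∧
        orderOf x = p ^ a ∧ orderOf y = q ^ b) → Cfsg.Agent.Char.MultCoprime.Vanish (x * y) := by
      intro x y hx hy hpq
      refine Cfsg.Agent.Char.MultCoprime.vanish_mul fun χ t => h x _ χ hx (fun h0 => hy ?_) ?_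
      · exact conj_eq_one_iff.mp h0
      · obtain ⟨p, q, a, b, hp, hq, hne, hoa, hob⟩ := hpq
        exact ⟨p, q, a, b, hp, hq, hne, hoa,
          (orderOf_injective (MulAut.conj t).toMonoidHom (MulEquiv.injective _) y).trans hob⟩
    obtain ⟨p, hp, hpd⟩ := Nat.exists_prime_and_dvd
      (fun h1 => hG' (Subgroup.card_eq_one.mp h1) : Nat.card (commutator G) ≠ 1)
    haveI := Fact.mk hp
    obtain ⟨g0, hg0⟩ := exists_prime_orderOf_dvd_card' p hpd
    have hg0' : orderOf (g0 : G) = p ^ 1 := by
      rw [Subgroup.orderOf_coe, hg0, pow_one]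
    have hg0ne : (g0 : G) ≠ 1 := fun h1 => by
      rw [h1, orderOf_one, pow_one] at hg0'
      exact hp.one_lt.ne hg0'
    have hG'p : IsPGroup p (commutator G) := by
      refine IsPGroup.of_card
        (Nat.eq_prime_pow_of_unique_prime_dvd Nat.card_pos.ne' (p := p) fun {q} hq hqd => ?_)
      by_contra hne
      haveI := Fact.mk hq
      obtain ⟨g1, hg1⟩ := exists_prime_orderOf_dvd_card' q hqd
      have hg1' : orderOf (g1 : G) = q ^ 1 := by
        rw [Subgroup.orderOf_coe, hg1, pow_one]
      have hg1ne : (g1 : G) ≠ 1 := fun h1 => by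
        rw [h1, orderOf_one, pow_one] at hg1'
        exact hq.one_lt.ne hg1'
      have hc := Cfsg.Agent.Char.MultCoprime.isConj_of_vanish (g := 1)
        (hv _ _ hg0ne hg1ne ⟨p, q, 1, 1, hp, hq, Ne.symm hne, hg0', hg1'⟩)
        (by rw [inv_one, one_mul]; exact (commutator G).mul_mem g0.2 g1.2)
      rw [isConj_one_right] at hc
      rw [eq_inv_of_mul_eq_one_left hc, orderOf_inv, hg1', pow_one, pow_one] at hg0'
      exact hne hg0'
    obtain ⟨P, hP⟩ := hG'p.exists_le_sylow
    haveI hPn : (P : Subgroup G).Normal := Subgroup.Normal.of_commutator_le (h := hP)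
    obtain ⟨A, hA⟩ := Subgroup.exists_right_complement'_of_coprime
      (N := (P : Subgroup G)) P.card_coprime_index
    have hAP : A ⊓ (P : Subgroup G) = ⊥ := by rw [inf_comm]; exact hA.disjoint.eq_bot
    have hsup : A ⊔ (P : Subgroup G) = ⊤ := by rw [sup_comm]; exact hA.sup_eq_top
    have hAco : (Nat.card A).Coprime p := by
      rw [← hA.symm.index_eq_card, Nat.coprime_comm]
      exact hp.coprime_iff_not_dvd.mpr P.not_dvd_index
    have hAbot : A ≠ ⊥ := by
      rintro rfl
      rw [bot_sup_eq] at hsup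
      exact hpg ⟨p, hp, (P.isPGroup'.of_equiv
        ((MulEquiv.subgroupCongr hsup).trans Subgroup.topEquiv))⟩
    have hAc : IsMulCommutative A := Cfsg.Agent.Char.MultCoprime.commute_of_commutator_le_bot
      (le_bot_iff.mp ((inf_le_inf_left A hP).trans hAP.le))
    set U := Subgroup.centralizer (A : Set G) with hU
    have hprime : ∀ (y : G) (q : ℕ), y ∈ A → q.Prime → orderOf y = q →
        U = Subgroup.centralizer ({y} : Set G) ∧ U ⊓ commutator G = ⊥ ∧ U ⊔ commutator G = ⊤ := by
      intro y q hy hq hyq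
      have hqp : q ≠ p := fun e => by
        have h1 := hAco.coprime_dvd_left (hyq ▸ Subgroup.orderOf_mk y hy ▸ orderOf_dvd_natCard
          (⟨y, hy⟩ : A))
        exact hp.coprime_iff_not_dvd.mp h1.symm e.symm.dvd
      have hy1 : y ≠ 1 := fun e => by
        rw [e, orderOf_one] at hyq
        exact hq.one_lt.ne hyq
      have hgy := hv _ _ hg0ne hy1 ⟨p, q, 1, 1, hp, hq, hqp.symm, hg0', by rw [hyq, pow_one]⟩
      have hyv : Cfsg.Agent.Char.MultCoprime.Vanish y := by
        intro χ hχ
        obtain ⟨t, ht⟩ := isConj_iff.mp (Cfsg.Agent.Char.MultCoprime.isConj_of_vanish (g := y) hgy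
          (by rw [← mul_assoc]; exact (inferInstance : (commutator G).Normal).conj_mem' _ g0.2 y))
        have := hgy χ hχ
        rwa [← ht, Cfsg.Agent.Char.isClassFunction_character (Cfsg.Agent.Char.irr_isCharacter χ.2)]
          at this
      have hinf : Subgroup.centralizer ({y} : Set G) ⊓ commutator G = ⊥ := by
        refine (Subgroup.eq_bot_iff_forall _).mpr fun d hd => ?_
        obtain ⟨k, hk⟩ := IsPGroup.iff_orderOf.mp hG'p ⟨d, hd.2⟩
        rw [Subgroup.orderOf_mk] at hk
        obtain ⟨t, ht⟩ := isConj_iff.mp (Cfsg.Agent.Char.MultCoprime.isConj_of_vanish (g := d * y)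
          hyv (by
            rw [_root_.mul_inv_rev]
            exact (inferInstance : (commutator G).Normal).conj_mem' _ ((commutator G).inv_mem hd.2) y))
        have hcd : Commute d y := Subgroup.mem_centralizer_singleton_iff.mp hd.1
        have hcop : (orderOf d).Coprime (orderOf y) := by
          rw [hk, hyq]
          exact Nat.Coprime.pow_left _ ((Nat.coprime_primes hp hq).mpr hqp.symm)
        have ho := hcd.orderOf_mul_eq_mul_orderOf_of_coprime hcop
        have hconj : orderOf (t * (d * y) * t⁻¹) = orderOf (d * y) :=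
          orderOf_injective (MulAut.conj t).toMonoidHom (MulEquiv.injective _) (d * y)
        rw [ht, ho] at hconj
        exact orderOf_eq_one_iff.mp ((Nat.mul_eq_right (orderOf_pos y).ne').mp hconj.symm)
      have hcard := Cfsg.Agent.Char.MultCoprime.card_centralizer_of_vanish hyv
      have htop : Subgroup.centralizer ({y} : Set G) ⊔ commutator G = ⊤ :=
        (Subgroup.isComplement'_of_card_mul_and_disjoint
          (by rw [hcard, Subgroup.index_mul_card]) (disjoint_iff.mpr hinf)).sup_eq_top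
      have hUy : U = Subgroup.centralizer ({y} : Set G) := by
        refine le_antisymm (Subgroup.centralizer_le (Set.singleton_subset_iff.mpr hy)) ?_
        have hyc := Cfsg.Agent.Char.MultCoprime.commute_of_commutator_le_bot hinf
        intro u hu
        refine Subgroup.mem_centralizer_iff.mpr fun a ha => ?_
        have haC : a ∈ Subgroup.centralizer ({y} : Set G) :=
          Subgroup.mem_centralizer_singleton_iff.mpr
            (congrArg Subtype.val (mul_comm' (⟨a, ha⟩ : A) ⟨y, hy⟩))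
        exact congrArg Subtype.val (mul_comm' (⟨a, haC⟩ : Subgroup.centralizer ({y} : Set G)) ⟨u, hu⟩)
      rw [hUy]
      exact ⟨rfl, hinf, htop⟩
    obtain ⟨⟨a0, ha0⟩, ha0'⟩ := Subgroup.ne_bot_iff_exists_ne_one.mp hAbot
    obtain ⟨m0, q0, hq0, hm0⟩ := Cfsg.Agent.Char.MultCoprime.exists_pow_primeOrder
      (a := a0) (fun e => ha0' (Subtype.ext e))
    obtain ⟨-, hUinf, hUtop⟩ := hprime _ q0 (pow_mem ha0 m0) hq0 hm0
    have hUc : IsMulCommutative U := Cfsg.Agent.Char.MultCoprime.commute_of_commutator_le_bot hUinf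
    have hAN : A ≤ Subgroup.normalizer ((P : Subgroup G) : Set G) := by
      rw [Subgroup.normalizer_eq_top]; exact le_top
    have hDG : ⁅A, (P : Subgroup G)⁆ ≤ commutator G := by
      rw [commutator_def]; exact Subgroup.commutator_mono le_top le_top
    have hcoP : (Nat.card A).Coprime (Nat.card (P : Subgroup G)) := by
      obtain ⟨k, hk⟩ := IsPGroup.iff_card.mp P.isPGroup'
      rw [hk]
      exact hAco.pow_right k
    have hsolP : Group.IsSolvable A ∨ Group.IsSolvable (P : Subgroup G) :=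
      Or.inl (Group.isSolvable_of_comm fun a b => hAc.is_comm.comm a b)
    have hGD : commutator G ≤ ⁅A, (P : Subgroup G)⁆ := by
      intro g hg
      obtain ⟨n, hn, c, hc, rfl⟩ :=
        Cfsg.Agent.Solv.exists_commutator_mul_fixed hAN hcoP hsolP (hP hg)
      rw [Subgroup.commutator_comm] at hn
      have hc1 : c ∈ U ⊓ commutator G :=
        ⟨hc.2, by simpa using (commutator G).mul_mem ((commutator G).inv_mem (hDG hn)) hg⟩
      rw [hUinf, Subgroup.mem_bot] at hc1
      rw [hc1, mul_one]
      exact hn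
    have hD : ⁅A, (P : Subgroup G)⁆ = commutator G := le_antisymm hDG hGD
    have hfpf : ∀ a ∈ A, a ≠ 1 → ∀ d ∈ ⁅A, (P : Subgroup G)⁆, a * d = d * a → d = 1 := by
      intro a ha ha1 d hd had
      obtain ⟨m, q, hq, hm⟩ := Cfsg.Agent.Char.MultCoprime.exists_pow_primeOrder ha1
      obtain ⟨hU1, hinf1, -⟩ := hprime _ q (pow_mem ha m) hq hm
      have : d ∈ U ⊓ commutator G := by
        refine ⟨?_, hDG hd⟩
        show d ∈ U
        rw [hU1, Subgroup.mem_centralizer_singleton_iff]
        exact ((show Commute a d from had).pow_left m).symm.eq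
      rwa [hUinf, Subgroup.mem_bot] at this
    refine ⟨p, inferInstance, P, A, hPn, ?_, hAbot, hAco, hsup, ?_, hD ▸ inferInstance, ?_, ?_, hfpf⟩
    · exact Cfsg.Agent.Char.MultCoprime.isCyclic_of_fpf hAc (hD ▸ hG'p) (hD ▸ hG')
        (by rw [hD, Subgroup.normalizer_eq_top]; exact le_top)
        (hcoP.coprime_dvd_right (Subgroup.card_dvd_of_le (hDG.trans hP))) hfpf
    · exact ⟨⟨fun x y => Subtype.ext (congrArg Subtype.val
        (mul_comm' (⟨x.1, x.2.2⟩ : U) ⟨y.1, y.2.2⟩) :)⟩⟩
    · refine le_antisymm (sup_le inf_le_left (hDG.trans hP)) fun x hx => ?_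
      obtain ⟨n, hn, c, hc, rfl⟩ :=
        Cfsg.Agent.Solv.exists_commutator_mul_fixed hAN hcoP hsolP hx
      rw [Subgroup.commutator_comm] at hn
      exact mul_mem (Subgroup.mem_sup_right hn) (Subgroup.mem_sup_left hc)
    · exact le_bot_iff.mp ((inf_le_inf inf_le_right hDG).trans hUinf.le)
  · rintro (⟨p, hp, hG⟩ | hG | ⟨p, _, P, A, hPn, hcyc, -, hco, hsup, hC, hDn, hCD, -, hfpf⟩) <;>
      intro x y χ hx hy hpq
    · obtain ⟨p', q', a, b, hp', hq', hne, hoa, hob⟩ := hpq
      haveI := Fact.mk hp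
      obtain ⟨i, hi⟩ := IsPGroup.iff_orderOf.mp hG x
      obtain ⟨j, hj⟩ := IsPGroup.iff_orderOf.mp hG y
      refine absurd ?_ hne
      have ha : a ≠ 0 := fun e => hx (orderOf_eq_one_iff.mp (by rw [hoa, e, pow_zero]))
      have hb : b ≠ 0 := fun e => hy (orderOf_eq_one_iff.mp (by rw [hob, e, pow_zero]))
      rw [(Nat.prime_dvd_prime_iff_eq hp' hp).mp
          (hp'.dvd_of_dvd_pow (hi ▸ hoa ▸ dvd_pow_self p' ha)),
        (Nat.prime_dvd_prime_iff_eq hq' hp).mp
          (hq'.dvd_of_dvd_pow (hj ▸ hob ▸ dvd_pow_self q' hb))]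
    · obtain ⟨l, hl⟩ := Cfsg.Agent.Char.MultCoprime.linear_mul (χ := χ)
        (Cfsg.Agent.Char.forall_linear_iff_comm.mp (fun a b => hG.is_comm.comm a b) χ)
      simp only [hl, map_mul, Units.val_mul]
    · obtain ⟨p', q', a, b, hp', hq', hne, hoa, hob⟩ := hpq
      haveI := hPn
      by_cases h1 : (χ : G → ℂ) 1 = 1
      · obtain ⟨l, hl⟩ := Cfsg.Agent.Char.MultCoprime.linear_mul h1
        simp only [hl, map_mul, Units.val_mul]
      obtain ⟨hGP, hvan⟩ := Cfsg.Agent.Char.MultCoprime.vanish_of_structure P.isPGroup'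
        (⟨⟨fun u v => IsCyclic.commGroup.mul_comm u v⟩⟩) hco hsup hC hDn hCD hfpf
      have ha : a ≠ 0 := fun e => hx (orderOf_eq_one_iff.mp (by rw [hoa, e, pow_zero]))
      have hb : b ≠ 0 := fun e => hy (orderOf_eq_one_iff.mp (by rw [hob, e, pow_zero]))
      have hnot : ∀ (z : G) (r k : ℕ), r.Prime → k ≠ 0 → orderOf z = r ^ k → z ∈ (P : Subgroup G) →
          r = p := by
        intro z r k hr hk ho hz
        obtain ⟨i, hi⟩ := IsPGroup.iff_orderOf.mp P.isPGroup' ⟨z, hz⟩
        rw [Subgroup.orderOf_mk, ho] at hi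
        exact (Nat.prime_dvd_prime_iff_eq hr Fact.out).mp
          (hr.dvd_of_dvd_pow (hi ▸ dvd_pow_self r hk))
      have hout : x ∉ (P : Subgroup G) ∨ y ∉ (P : Subgroup G) := by
        by_contra! hh
        exact hne ((hnot x p' a hp' ha hoa hh.1).trans (hnot y q' b hq' hb hob hh.2).symm)
      have hxy : x * y ∉ (P : Subgroup G) := by
        intro hm
        have h2 : QuotientGroup.mk' (P : Subgroup G) x = (QuotientGroup.mk' (P : Subgroup G) y)⁻¹ :=
          eq_inv_of_mul_eq_one_left (by rw [← map_mul]; exact (QuotientGroup.eq_one_iff _).mpr hm)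
        have h3 : orderOf (QuotientGroup.mk' (P : Subgroup G) x) = 1 := by
          refine Nat.eq_one_of_dvd_coprimes (k := orderOf (QuotientGroup.mk' (P : Subgroup G) x))
            (a := p' ^ a) (b := q' ^ b) ?_ (hoa ▸ orderOf_map_dvd _ x) ?_
          · exact Nat.Coprime.pow _ _ ((Nat.coprime_primes hp' hq').mpr hne)
          · rw [h2, orderOf_inv]
            exact hob ▸ orderOf_map_dvd _ y
        rw [orderOf_eq_one_iff] at h3
        rw [h3, eq_comm, inv_eq_one] at h2
        rcases hout with ho | ho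
        · exact ho ((QuotientGroup.eq_one_iff _).mp h3)
        · exact ho ((QuotientGroup.eq_one_iff _).mp h2)
      rw [hvan _ hxy χ h1]
      rcases hout with ho | ho
      · rw [hvan _ ho χ h1, zero_mul]
      · rw [hvan _ ho χ h1, mul_zero]

end Cfsg.Agent.S4756
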