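import Cfsg.Statements.S4757
import Cfsg.Agent.Lib.Char.SelfCentralizing
import Cfsg.Agent.Lib.Char.Linear
import Cfsg.Agent.Lib.Char.BlockBasic
import Cfsg.Agent.Lib.Char.Ortho
import Cfsg.Agent.Lib.Char.Central
import Cfsg.Agent.Lib.Fusion.Cores

set_option autoImplicit false
open Cfsg Cfsg.Agent.Char
open scoped ComplexConjugate
open scoped ComplexConjugate

namespace Cfsg.Agent.S4757

/-- Let u ≠ 1 be an element of the finite group G and c a complex number such that every non-principal irreducible character χ satisfies χ(1) − χ(u) = c or χ(u) = 0. Then the following are equivalent: (a) u has order 2, G is generated by u together with O(G), the largest normal subgroup of G of odd order, and the centralizer of u is {1, u}; (b) G is not perfect; (c) c = 2. -/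
theorem result {G : Type*} [Group G] [Finite G] (u : G) (hu : u ≠ 1) (c : ℂ) (hyp : ∀ χ : Cfsg.IrrCharacter G, (χ : G → ℂ) ≠ (fun _ => (1 : ℂ)) → ((χ : G → ℂ) 1 - (χ : G → ℂ) u = c ∨ (χ : G → ℂ) u = 0)) : ((orderOf u = 2 ∧ Subgroup.zpowers u ⊔ Cfsg.oddCore G = ⊤ ∧ Subgroup.centralizer ({u} : Set G) = Subgroup.zpowers u) ↔ commutator G ≠ ⊤) ∧ (commutator G ≠ ⊤ ↔ c = 2) := by
  classical
  haveI := Fintype.ofFinite G
  haveI : Fact (Nat.Prime 2) := ⟨Nat.prime_two⟩
  have hdeg : ∀ χ : IrrCharacter G, (χ : G → ℂ) 1 = (charDegree (χ : G → ℂ) : ℂ) :=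
    fun χ => char_one_eq_deg (irr_isCharacter χ.2)
  have hpos : ∀ χ : IrrCharacter G, 1 ≤ charDegree (χ : G → ℂ) := fun χ => deg_pos χ.2
  set one : IrrCharacter G := ⟨fun _ => 1, isIrrCharacter_one⟩ with hone
  have hreg : ∑ χ : IrrCharacter G, (χ : G → ℂ) 1 * (χ : G → ℂ) u = 0 := by
    rw [regular_sum, if_neg hu]
  -- the values at `u`
  have hlin : ∀ l : G →* ℂˣ, l ≠ 1 → (l u : ℂ) = 1 - c := fun l hl => by
    rcases hyp ⟨fun g => (l g : ℂ), isIrrCharacter_linear l⟩ (fun h => hl (MonoidHom.ext fun g =>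
      Units.ext (congrFun h g))) with h | h
    · simp only [map_one, Units.val_one] at h
      linear_combination -h
    · exact absurd h (Units.ne_zero (l u))
  have hnt : commutator G ≠ ⊤ ↔ ∃ l : G →* ℂˣ, l ≠ 1 := by
    haveI : Finite (G →* ℂˣ) := Nat.finite_of_card_ne_zero (by rw [card_hom_units]; exact Subgroup.index_ne_zero_of_finite)
    rw [ne_eq, ← Subgroup.index_eq_one, ← card_hom_units, Nat.card_eq_one_iff_unique]
    constructor
    · intro h
      by_contra hne
      simp only [not_exists, not_not] at hne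
      exact h ⟨⟨fun a b => (hne a).trans (hne b).symm⟩, ⟨1⟩⟩
    · rintro ⟨l, hl⟩ ⟨hs, -⟩
      exact hl (Subsingleton.elim l 1)
  have hA : commutator G ≠ ⊤ → c = 2 := by
    intro h
    obtain ⟨l, hl⟩ := hnt.1 h
    have h1 := hlin l hl
    have h2 := hlin l⁻¹ (fun e => hl (MonoidHom.ext fun g => by simpa using DFunLike.congr_fun e g))
    rw [MonoidHom.inv_apply, Units.val_inv_eq_inv_val, h1] at h2
    have hv : (1 - c) ≠ 0 := h1 ▸ Units.ne_zero (l u)
    have hsq : (1 - c) * (1 - c) = 1 := by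
      nth_rw 1 [← h2]
      exact inv_mul_cancel₀ hv
    rcases mul_self_eq_one_iff.1 hsq with h3 | h3
    · exfalso
      have hc : c = 0 := by linear_combination -h3
      have key : ∀ χ : IrrCharacter G, χ ≠ one → 0 ≤ ((χ : G → ℂ) 1 * (χ : G → ℂ) u).re := by
        intro χ hχ
        rcases hyp χ (fun e => hχ (Subtype.ext e)) with h4 | h4
        · rw [hc, sub_eq_zero] at h4
          rw [← h4, hdeg, ← Nat.cast_mul, Complex.natCast_re]
          positivity
        · rw [h4, mul_zero, Complex.zero_re]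
      have hre := congrArg Complex.re hreg
      rw [Complex.re_sum, ← Finset.add_sum_erase _ _ (Finset.mem_univ one)] at hre
      have h5 := Finset.sum_nonneg (s := Finset.univ.erase one) (fun χ hχ => key χ (Finset.ne_of_mem_erase hχ))
      have h6 : ((one : G → ℂ) 1 * (one : G → ℂ) u).re = 1 := by simp [one]
      rw [h6, Complex.zero_re] at hre
      linarith
    · linear_combination -h3
  -- consequences of `c = 2`
  have hB : c = 2 → commutator G ≠ ⊤ ∧ Nat.card (Subgroup.centralizer ({u} : Set G)) = 2 := by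
    intro hc
    have hval : ∀ χ : IrrCharacter G, χ ≠ one → (χ : G → ℂ) u ≠ 0 →
        (χ : G → ℂ) u = (((charDegree (χ : G → ℂ) : ℤ) - 2 : ℤ) : ℂ) := by
      intro χ hχ h0
      have h := (hyp χ (fun e => hχ (Subtype.ext e))).resolve_right h0
      rw [hc, hdeg] at h
      push_cast
      linear_combination -h
    set Z := (Finset.univ.erase one).filter (fun χ : IrrCharacter G => (χ : G → ℂ) u ≠ 0) with hZ
    have hsum : ∑ χ ∈ Z, ((charDegree (χ : G → ℂ) : ℤ) * ((charDegree (χ : G → ℂ) : ℤ) - 2)) = -1 := by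
      have h := hreg
      rw [← Finset.add_sum_erase _ _ (Finset.mem_univ one), ← Finset.sum_filter_of_ne
        (p := fun χ : IrrCharacter G => (χ : G → ℂ) u ≠ 0) (fun χ _ hne h0 => hne (by rw [h0, mul_zero]))] at h
      rw [Finset.sum_congr rfl (g := fun χ : IrrCharacter G =>
        (((charDegree (χ : G → ℂ) : ℤ) * ((charDegree (χ : G → ℂ) : ℤ) - 2) : ℤ) : ℂ)) (fun χ hχ => by
          rw [hdeg, hval χ (Finset.ne_of_mem_erase (Finset.mem_filter.1 hχ).1) (Finset.mem_filter.1 hχ).2]
          push_cast; ring), ← Int.cast_sum] at h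
      have h' : ((∑ χ ∈ Z, ((charDegree (χ : G → ℂ) : ℤ) * ((charDegree (χ : G → ℂ) : ℤ) - 2)) : ℤ) : ℂ) =
          ((-1 : ℤ) : ℂ) := by
        have h1 : (one : G → ℂ) 1 * (one : G → ℂ) u = 1 := by simp [one]
        rw [h1] at h
        rw [hZ, Int.cast_neg, Int.cast_one]
        linear_combination h
      exact_mod_cast h'
    obtain ⟨χ₀, hχ₀, hd₀⟩ : ∃ χ ∈ Z, charDegree (χ : G → ℂ) = 1 := by
      by_contra h
      simp only [not_exists, not_and] at h
      have h2 : 0 ≤ ∑ χ ∈ Z, ((charDegree (χ : G → ℂ) : ℤ) * ((charDegree (χ : G → ℂ) : ℤ) - 2)) :=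
        Finset.sum_nonneg fun χ hχ => mul_nonneg (by positivity) (by have := hpos χ; have := h χ hχ; omega)
      omega
    obtain ⟨l, hl⟩ := exists_hom_of_degree_one (irr_isCharacter χ₀.2) (by rw [hdeg, hd₀, Nat.cast_one])
    have hl1 : l ≠ 1 := fun e => Finset.ne_of_mem_erase (Finset.mem_filter.1 hχ₀).1 (Subtype.ext (by
      rw [hl, e]; rfl))
    -- there is only one non-trivial linear character
    have huniq : ∀ m : G →* ℂˣ, m ≠ 1 → m = l := by
      intro m hm
      by_contra hne
      have h := hlin (l * m⁻¹) (fun e => hne (mul_inv_eq_one.1 e).symm)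
      rw [MonoidHom.mul_apply, MonoidHom.inv_apply, Units.val_mul, Units.val_inv_eq_inv_val, hlin l hl1,
        hlin m hm, hc] at h
      norm_num at h
    have hrest : ∀ χ ∈ Z, χ ≠ χ₀ → False := by
      intro χ hχ hne
      have hd2 : 2 ≤ charDegree (χ : G → ℂ) := by
        by_contra h
        have h1 : charDegree (χ : G → ℂ) = 1 := by have := hpos χ; omega
        obtain ⟨m, hm⟩ := exists_hom_of_degree_one (irr_isCharacter χ.2) (by rw [hdeg, h1, Nat.cast_one])
        have hm1 : m ≠ 1 := fun e => Finset.ne_of_mem_erase (Finset.mem_filter.1 hχ).1 (Subtype.ext (by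
          rw [hm, e]; rfl))
        exact hne (Subtype.ext (by rw [hm, hl, huniq m hm1]))
      have h2 := hsum
      rw [← Finset.add_sum_erase _ _ hχ₀, hd₀] at h2
      have h3 : ∀ ψ ∈ Z.erase χ₀, 0 ≤ (charDegree (ψ : G → ℂ) : ℤ) * ((charDegree (ψ : G → ℂ) : ℤ) - 2) := by
        intro ψ hψ
        refine mul_nonneg (by positivity) ?_
        by_contra h
        have h1 : charDegree (ψ : G → ℂ) = 1 := by have := hpos ψ; omega
        obtain ⟨m, hm⟩ := exists_hom_of_degree_one (irr_isCharacter ψ.2) (by rw [hdeg, h1, Nat.cast_one])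
        have hm1 : m ≠ 1 := fun e => Finset.ne_of_mem_erase
          (Finset.mem_filter.1 (Finset.mem_of_mem_erase hψ)).1 (Subtype.ext (by rw [hm, e]; rfl))
        exact Finset.ne_of_mem_erase hψ (Subtype.ext (by rw [hm, hl, huniq m hm1]))
      have h4 := Finset.single_le_sum h3 (Finset.mem_erase.2 ⟨hne, hχ⟩)
      have h5 : charDegree (χ : G → ℂ) = 2 := by
        by_contra h6
        have : (1 : ℤ) ≤ (charDegree (χ : G → ℂ) : ℤ) - 2 := by omega
        have h7 : (3 : ℤ) ≤ (charDegree (χ : G → ℂ) : ℤ) := by omega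
        simp only [Nat.cast_one] at h2
        nlinarith
      exact (Finset.mem_filter.1 hχ).2 (by
        rw [hval χ (Finset.ne_of_mem_erase (Finset.mem_filter.1 hχ).1) (Finset.mem_filter.1 hχ).2, h5]
        norm_num)
    refine ⟨hnt.2 ⟨l, hl1⟩, ?_⟩
    have h := second_orth u u
    rw [if_pos (IsConj.refl u), ← Finset.add_sum_erase _ _ (Finset.mem_univ one),
      Finset.sum_eq_single_of_mem χ₀ (Finset.mem_filter.1 hχ₀).1 (fun χ hχ hne => by
        by_cases h0 : (χ : G → ℂ) u = 0
        · rw [h0, zero_mul]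
        · exact (hrest χ (Finset.mem_filter.2 ⟨hχ, h0⟩) hne).elim),
      hval χ₀ (Finset.ne_of_mem_erase (Finset.mem_filter.1 hχ₀).1) (Finset.mem_filter.1 hχ₀).2, hd₀] at h
    have h1 : (one : G → ℂ) u * conj ((one : G → ℂ) u) = 1 := by simp [one]
    rw [h1, eq_div_iff (Nat.cast_ne_zero.mpr (card_conjClass_ne_zero u)), card_conjClass_eq_index,
      ← Subgroup.card_mul_index (Subgroup.centralizer ({u} : Set G))] at h
    have h2 : (Nat.card (Subgroup.centralizer ({u} : Set G)) : ℂ) = ((2 : ℕ) : ℂ) := by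
      refine mul_right_cancel₀ (b := ((Subgroup.centralizer ({u} : Set G)).index : ℂ))
        (Nat.cast_ne_zero.mpr Subgroup.index_ne_zero_of_finite) ?_
      rw [Nat.cast_mul] at h
      rw [← h]
      norm_num
    exact_mod_cast h2
  refine ⟨⟨fun ⟨ho, hjoin, hC⟩ htop => ?_, fun h => ?_⟩, hA, fun hc => (hB hc).1⟩
  · have he : (Subgroup.zpowers u).relIndex (Subgroup.normalizer (Subgroup.zpowers u : Set G)) = 1 :=
      Nat.dvd_one.1 (Dvd.intro_left _ (SelfCent.count_classes (p := 2) ho hC))
    have h2 := (SelfCent.exists_complement (p := 2) ho hC he).1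
    rw [htop, Subgroup.index_top] at h2
    omega
  · obtain ⟨-, hcard⟩ := hB (hA h)
    have hle : Subgroup.zpowers u ≤ Subgroup.centralizer ({u} : Set G) :=
      Subgroup.zpowers_le.2 (Subgroup.mem_centralizer_singleton_iff.2 rfl)
    have ho : orderOf u = 2 := by
      have h1 := Subgroup.card_dvd_of_le hle
      rw [hcard, Nat.card_zpowers] at h1
      exact ((Nat.dvd_prime Nat.prime_two).1 h1).resolve_left (fun e => hu (orderOf_eq_one_iff.1 e))
    have hC : Subgroup.centralizer ({u} : Set G) = Subgroup.zpowers u :=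
      (Subgroup.eq_of_le_of_card_ge hle (by rw [hcard, Nat.card_zpowers, ho])).symm
    have he : (Subgroup.zpowers u).relIndex (Subgroup.normalizer (Subgroup.zpowers u : Set G)) = 1 :=
      Nat.dvd_one.1 (Dvd.intro_left _ (SelfCent.count_classes (p := 2) ho hC))
    obtain ⟨hi, hodd⟩ := SelfCent.exists_complement (p := 2) ho hC he
    refine ⟨ho, ?_, hC⟩
    have hcore : commutator G ≤ oddCore G :=
      Cfsg.Agent.Fusion.le_pPrimeCore (Nat.coprime_comm.1 (Nat.prime_two.coprime_iff_not_dvd.2 hodd))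
    refine top_unique (le_trans ?_ (sup_le_sup_left hcore _))
    have hlt : Nat.card (commutator G) < Nat.card (Subgroup.zpowers u ⊔ commutator G : Subgroup G) := by
      refine lt_of_le_of_ne (Nat.le_of_dvd Nat.card_pos
        (Subgroup.card_dvd_of_le le_sup_right)) fun e => hodd ?_
      rw [e, ← ho]
      exact (Nat.card_zpowers u) ▸ Subgroup.card_dvd_of_le le_sup_left
    refine (Subgroup.eq_top_of_le_card _ ?_).ge
    have h1 := Subgroup.card_mul_index (commutator G)
    obtain ⟨k, hk⟩ := Subgroup.card_dvd_of_le (le_sup_right : commutator G ≤ Subgroup.zpowers u ⊔ commutator G)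
    rw [hi] at h1
    rw [hk, ← h1]
    rw [hk] at hlt
    exact Nat.mul_le_mul_left _ (by
      rcases k with _ | _ | k
      · simp at hlt
      · simp at hlt
      · omega)

end Cfsg.Agent.S4757
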