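import Cfsg.Statements.S4762
import Cfsg.Agent.Lib.Char.UniqueDivDegree

set_option autoImplicit false
open Cfsg
open scoped ComplexConjugate

namespace Cfsg.Agent.S4762

/-- Let p be a prime and G a finite nilpotent group. Then G has exactly one irreducible complex character of degree divisible by p if and only if p = 2 and G is an extraspecial 2-group. -/
theorem result {G : Type*} [Group G] [Finite G] [Group.IsNilpotent G] (p : ℕ) [Fact p.Prime] : Nat.card {χ : Cfsg.IrrCharacter G // p ∣ Cfsg.charDegree (χ : G → ℂ)} = 1 ↔ (p = 2 ∧ Cfsg.IsExtraspecial 2 G) := by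
  classical
  haveI := Fintype.ofFinite G
  simp only [Cfsg.Agent.Char.charDegree_eq_deg]
  constructor
  · intro h
    obtain ⟨⟨hs⟩, ⟨χ, hχ⟩⟩ := Nat.card_eq_one_iff_unique.1 h
    have hu : ∀ ψ : IrrCharacter G, p ∣ Cfsg.Agent.Char.deg (ψ : G → ℂ) → ψ = χ := fun ψ hψ =>
      congrArg Subtype.val (hs ⟨ψ, hψ⟩ ⟨χ, hχ⟩)
    exact Cfsg.Agent.Char.extraspecial_of_unique_div
      (Cfsg.Agent.Char.isPGroup_of_unique_div hχ hu) hχ hu
  · rintro ⟨rfl, hE⟩
    exact Cfsg.Agent.Char.unique_div_of_extraspecial hE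

end Cfsg.Agent.S4762
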