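import Cfsg.Statements.S4763
import Cfsg.Agent.Lib.Char.ItoConverse
import Cfsg.Agent.Lib.Char.GlaubermanCount
import Cfsg.Agent.Lib.Char.CoprimeMcKay
import Cfsg.Agent.Lib.Char.KerPPrime
import Cfsg.Agent.Lib.Char.SylowNormalizes
import Cfsg.Agent.Lib.Solv.Coprime

set_option autoImplicit false
open Cfsg Cfsg.Agent.Char
open scoped Pointwise
open scoped ComplexConjugate

namespace Cfsg.Agent.S4763

/-- Let p be a prime and G a finite group that is not nilpotent and has a normal p-complement (a normal subgroup of order prime to p and index a power of p). If G has exactly one irreducible complex character of degree divisible by p, then G has exactly one conjugacy class whose size is divisible by p. -/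
theorem result {G : Type*} [Group G] [Finite G] (p : ℕ) [Fact p.Prime] (hnil : ¬ Group.IsNilpotent G) (N : Subgroup G) [N.Normal] (hN : (Nat.card N).Coprime p) (hidx : ∃ k : ℕ, N.index = p ^ k) (hone : Nat.card {χ : Cfsg.IrrCharacter G // p ∣ Cfsg.charDegree (χ : G → ℂ)} = 1) : Nat.card {C : ConjClasses G // p ∣ Nat.card C.carrier} = 1 := by
  classical
  haveI := Fintype.ofFinite G
  haveI := Fintype.ofFinite N
  have hp := (Fact.out : p.Prime)
  obtain ⟨P⟩ := (inferInstance : Nonempty (Sylow p G))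
  obtain ⟨k, hk⟩ := hidx
  have hPi : ¬ p ∣ (P : Subgroup G).index := P.not_dvd_index
  have hPc : Nat.card (P : Subgroup G) = N.index := by
    have hNp : ¬ p ∣ Nat.card N := fun h =>
      hp.ne_one (Nat.eq_one_of_dvd_coprimes hN h dvd_rfl)
    rw [P.card_eq_multiplicity, ← N.index_mul_card, Nat.factorization_mul
      Subgroup.index_ne_zero_of_finite Nat.card_pos.ne', Finsupp.add_apply, hk,
      hp.factorization_pow, Finsupp.single_eq_same, Nat.factorization_eq_zero_of_not_dvd hNp,
      add_zero]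
  have hcop : (Nat.card N).Coprime (Nat.card (P : Subgroup G)) := by
    rw [hPc, hk]; exact hN.pow_right k
  have hcompl : Subgroup.IsComplement' (P : Subgroup G) N :=
    Subgroup.isComplement'_of_card_mul_and_disjoint (by rw [hPc, N.index_mul_card])
      (Subgroup.disjoint_of_coprime_natCard hcop.symm)
  have hdec : ∀ g : G, ∃ n ∈ N, ∃ u ∈ (P : Subgroup G), g = n * u := fun g => by
    obtain ⟨⟨a, b⟩, hab⟩ := hcompl.symm.2 g
    exact ⟨a, a.2, b, b.2, hab.symm⟩
  have hdisj : ∀ x ∈ (P : Subgroup G), x ∈ N → x = 1 := fun x hx hxN =>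
    Subgroup.disjoint_def.mp hcompl.disjoint hx hxN
  set S1 := {χ : IrrCharacter G // p ∣ charDegree (χ : G → ℂ)} with hS1
  haveI := Fintype.ofFinite S1
  have huniq : ∀ a b : IrrCharacter G, p ∣ charDegree (a : G → ℂ) → p ∣ charDegree (b : G → ℂ) →
      a = b := fun a b ha hb => by
    obtain ⟨h1, -⟩ := Nat.card_eq_one_iff_unique.mp hone
    exact congrArg Subtype.val (h1.elim ⟨a, ha⟩ ⟨b, hb⟩)
  -- the Sylow subgroup is abelian
  haveI := Fintype.ofFinite (G ⧸ N)
  have hab : ∀ a b : G ⧸ N, a * b = b * a := by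
    by_contra hna
    obtain ⟨ψ, hψ⟩ : ∃ ψ : IrrCharacter (G ⧸ N), (ψ : G ⧸ N → ℂ) 1 ≠ 1 := by
      by_contra h
      push Not at h
      exact hna (forall_linear_iff_comm.2 h)
    have hψp : p ∣ deg (ψ : G ⧸ N → ℂ) := by
      obtain ⟨i, -, hi⟩ := (Nat.dvd_prime_pow hp).mp (hk ▸ (Subgroup.index_eq_card N) ▸ deg_dvd_card ψ.2)
      rcases Nat.eq_zero_or_pos i with rfl | hi0
      · exact absurd (by rw [char_one_eq_deg (irr_isCharacter ψ.2), hi]; simp) hψ
      · rw [hi]; exact dvd_pow_self p hi0.ne'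
    set χ₁ := (inflateEquiv N ψ).1 with hχ₁
    have hd1 : deg (χ₁ : G → ℂ) = deg (ψ : G ⧸ N → ℂ) := by
      simp only [deg, hχ₁, inflateEquiv_apply, QuotientGroup.mk_one]
    have hkey : ∀ (χ : IrrCharacter G) (n : N), p ∣ charDegree (χ : G → ℂ) →
        (χ : G → ℂ) n = (χ : G → ℂ) 1 := fun χ n h => by
      rw [huniq χ χ₁ h (by rw [charDegree_eq_deg, hd1]; exact hψp)]
      exact (inflateEquiv N ψ).2 n n.2
    obtain ⟨θ, hθ⟩ : ∃ θ : IrrCharacter N, ∃ n : N, (θ : N → ℂ) n ≠ (θ : N → ℂ) 1 := by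
      by_contra h
      push Not at h
      have hN1 : Subsingleton N := ⟨fun a b => by
        obtain ⟨c, hc⟩ := isConj_iff.mp (isConj_of_irr_eq (g := a) (h := (1 : N)) fun η => h η a)
        obtain ⟨d, hd⟩ := isConj_iff.mp (isConj_of_irr_eq (g := b) (h := (1 : N)) fun η => h η b)
        have ea : a = 1 := by rw [show a = c⁻¹ * (c * a * c⁻¹) * c by group, hc]; group
        have eb : b = 1 := by rw [show b = d⁻¹ * (d * b * d⁻¹) * d by group, hd]; group
        rw [ea, eb]⟩
      refine hnil ?_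
      have hG : IsPGroup p G := IsPGroup.of_card (n := k) (by
        rw [← N.index_mul_card, hk, Nat.card_of_subsingleton (1 : N), mul_one])
      exact hG.isNilpotent
    obtain ⟨n₀, hn₀⟩ := hθ
    by_cases hinv : ∀ (g : G) (n : N), (θ : N → ℂ) (MulAut.conjNormal g n) = (θ : N → ℂ) n
    · have hd : N.index.Coprime (deg (θ : N → ℂ)) := by
        rw [hk]; exact (hN.coprime_dvd_left (deg_dvd_card θ.2)).symm.pow_left k
      obtain ⟨d, σ, hσ⟩ := irr_isCharacter θ.2
      have hinv' : ∀ (g : G) (n : N), detHom σ (MulAut.conjNormal g n) = detHom σ n := fun g n => by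
        apply Units.ext
        have e := detChar_conj_inv N (irr_isCharacter θ.2) hinv g n
        rw [detChar_eq_hom σ hσ] at e
        exact e
      have ho : orderOf (detHom σ) ∣ Nat.card N :=
        orderOf_dvd_of_pow_eq_one (MonoidHom.ext fun z => by
          rw [MonoidHom.pow_apply, MonoidHom.one_apply, ← map_pow, pow_card_eq_one', map_one])
      obtain ⟨μ, hμ, -⟩ := exists_linear_extension_coprime N (detHom σ) hinv'
        (by rw [hk]; exact (hN.coprime_dvd_left ho).symm.pow_left k)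
      obtain ⟨η, hη, hηe⟩ := exists_extension_of_det_extension N θ.2 hinv _
        (char_one_eq_deg (irr_isCharacter θ.2)) hd μ fun n => by rw [hμ, detChar_eq_hom σ hσ]
      have hone' : (fun _ : N => (1 : ℂ)) * (θ : N → ℂ) = (θ : N → ℂ) := funext fun n => one_mul _
      have hgal := gallagher N (fun _ : N => (1 : ℂ)) (θ : N → ℂ) isIrrCharacter_one (fun _ _ => rfl)
        hinv (by rw [hone']; exact θ.2) (irr_isCharacter hη) hηe
      obtain ⟨hχ, -⟩ := hgal.mapsTo (x := (χ₁ : G → ℂ)) ⟨χ₁.2,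
        (constituent_indFun_one_iff N χ₁.2).mpr fun n => (inflateEquiv N ψ).2 n n.2⟩
      have hdχ : p ∣ charDegree ((χ₁ : G → ℂ) * η) := by
        rw [charDegree_eq_deg, show deg ((χ₁ : G → ℂ) * η) = deg (ψ : G ⧸ N → ℂ) * deg (θ : N → ℂ) from
          Nat.cast_injective (R := ℂ) (by
            show ((deg ((χ₁ : G → ℂ) * η) : ℕ) : ℂ) = _
            rw [← char_one_eq_deg (χ := (χ₁ : G → ℂ) * η) (irr_isCharacter hχ), Pi.mul_apply,
              char_one_eq_deg (irr_isCharacter χ₁.2), hd1, Nat.cast_mul]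
            congr 1
            rw [← char_one_eq_deg (irr_isCharacter θ.2), ← hηe]
            rfl)]
        exact dvd_mul_of_dvd_left hψp _
      have h := hkey ⟨_, hχ⟩ n₀ hdχ
      refine hn₀ (mul_left_cancel₀ (irr_one_ne_zero χ₁.2) ?_)
      rw [← hηe, ← hηe]
      calc (χ₁ : G → ℂ) 1 * η n₀ = (χ₁ : G → ℂ) n₀ * η n₀ := by
            rw [(inflateEquiv N ψ).2 n₀ n₀.2]
        _ = (χ₁ : G → ℂ) 1 * η 1 := h
        _ = _ := by rw [OneMemClass.coe_one]
    · obtain ⟨χ, hχ⟩ := exists_constituent_over N θ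
      have h1 := (dvd_mul_right _ (deg (θ : N → ℂ))).trans (orbit_mul_deg_dvd N χ θ hχ)
      obtain ⟨i, -, hi⟩ := (Nat.dvd_prime_pow hp).mp (hk ▸ card_cliffOrbit_dvd_index N θ)
      have hdχ : p ∣ charDegree (χ : G → ℂ) := by
        rcases Nat.eq_zero_or_pos i with rfl | hi0
        · exfalso
          refine hinv fun g n => ?_
          rw [← irrComp_apply, Finset.card_le_one.mp (by rw [hi]; simp) _ (mem_cliffOrbit.mpr ⟨g, rfl⟩) θ
            (self_mem_cliffOrbit θ)]
        · exact (hi ▸ dvd_pow_self p hi0.ne').trans h1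
      have hne : (θ : N → ℂ) ≠ fun _ => 1 := fun h => hn₀ (by rw [h])
      apply hχ
      rw [show (fun n : N => (χ : G → ℂ) n) = (χ : G → ℂ) 1 • fun _ : N => (1 : ℂ) from
        funext fun n => by simp [hkey χ n hdχ], classInner_smul_left,
        irr_orth isIrrCharacter_one θ.2, if_neg hne.symm, mul_zero]
  have hPab : ∀ a ∈ (P : Subgroup G), ∀ b ∈ (P : Subgroup G), a * b = b * a := fun a ha b hb => by
    have h := hab (a : G ⧸ N) (b : G ⧸ N)
    rw [← QuotientGroup.mk_mul, ← QuotientGroup.mk_mul, QuotientGroup.eq] at h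
    have h1 := hdisj ((a * b)⁻¹ * (b * a)) (Subgroup.mul_mem _ (Subgroup.inv_mem _
      (Subgroup.mul_mem _ ha hb)) (Subgroup.mul_mem _ hb ha)) h
    exact inv_mul_eq_one.mp h1
  set C := Subgroup.centralizer ((P : Subgroup G) : Set G) with hC
  have hnormC : Subgroup.normalizer ((P : Subgroup G) : Set G) ≤ C := by
    intro g hg
    obtain ⟨n, hn, u, hu, rfl⟩ := hdec g
    have hnN : n ∈ Subgroup.normalizer ((P : Subgroup G) : Set G) := by
      have := Subgroup.mul_mem _ hg (Subgroup.inv_mem _ (Subgroup.le_normalizer hu))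
      rwa [mul_inv_cancel_right] at this
    refine Subgroup.mul_mem _ (Subgroup.mem_centralizer_iff.mpr fun y hy => ?_)
      (Subgroup.mem_centralizer_iff.mpr fun y hy => hPab y hy u hu)
    have h1 : n * y * n⁻¹ * y⁻¹ ∈ (P : Subgroup G) :=
      Subgroup.mul_mem _ ((Subgroup.mem_normalizer_iff.mp hnN y).mp hy) (Subgroup.inv_mem _ hy)
    have h2 : n * y * n⁻¹ * y⁻¹ ∈ N := by
      rw [show n * y * n⁻¹ * y⁻¹ = n * (y * n⁻¹ * y⁻¹) by group]
      exact Subgroup.mul_mem _ hn ((inferInstance : N.Normal).conj_mem _ (Subgroup.inv_mem _ hn) y)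
    exact (mul_inv_eq_iff_eq_mul.mp (mul_inv_eq_one.mp (hdisj _ h1 h2))).symm
  have hfus : ∀ x ∈ C, ∀ g : G, g * x * g⁻¹ ∈ C → ∃ h ∈ C, g * x * g⁻¹ = h * x * h⁻¹ := by
    intro x hx g hg
    obtain ⟨n, hn, he⟩ := P.conj_eq_normalizer_conj_of_mem_centralizer x g⁻¹ hx
      (by rwa [inv_inv])
    refine ⟨n⁻¹, Subgroup.inv_mem _ (hnormC hn), ?_⟩
    rw [inv_inv] at he ⊢
    exact he
  -- invariant classes of `N`
  set I := {K : ConjClasses N //
    ∀ (s : (P : Subgroup G)) (m : N), ConjClasses.mk m = K →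
      ConjClasses.mk (conjActHom N (P : Subgroup G) (fun s _ m hm =>
        (inferInstance : N.Normal).conj_mem m hm s) s m) = K} with hI
  set φ := conjActHom N (P : Subgroup G) (fun s _ m hm =>
    (inferInstance : N.Normal).conj_mem m hm s) with hφ
  haveI := Fintype.ofFinite (P : Subgroup G)
  have hrep : ∀ K : I, ∃ c : N, ConjClasses.mk c = K.1 ∧ (c : G) ∈ C := by
    rintro ⟨K, hK⟩
    obtain ⟨n, rfl⟩ := ConjClasses.exists_rep K
    letI : MulAction (P : Subgroup G) {m : N // IsConj n m} :=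
      { smul := fun s m => ⟨φ s m.1, ConjClasses.mk_eq_mk_iff_isConj.mp
          (hK s m.1 (ConjClasses.mk_eq_mk_iff_isConj.mpr m.2.symm)).symm⟩
        one_smul := fun m => Subtype.ext (by show φ 1 m.1 = m.1; rw [map_one]; rfl)
        mul_smul := fun a b m => Subtype.ext (by
          show φ (a * b) m.1 = φ a (φ b m.1); rw [map_mul]; rfl) }
    have hnd : ¬ p ∣ Nat.card {m : N // IsConj n m} := fun hd =>
      hp.ne_one (Nat.eq_one_of_dvd_coprimes hN
        (hd.trans ⟨_, (card_conjClass_mul_centralizer n).symm⟩) dvd_rfl)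
    obtain ⟨m, hm⟩ := P.isPGroup'.nonempty_fixed_point_of_prime_not_dvd_card {m : N // IsConj n m} hnd
    refine ⟨m.1, ConjClasses.mk_eq_mk_iff_isConj.mpr m.2.symm, Subgroup.mem_centralizer_iff.mpr
      fun y hy => ?_⟩
    have h3 : φ ⟨y, hy⟩ m.1 = m.1 := congrArg Subtype.val (hm ⟨y, hy⟩)
    have h4 := congrArg Subtype.val h3
    rw [hφ, conjActHom_coe] at h4
    exact mul_inv_eq_iff_eq_mul.mp h4
  choose c hcK hcC using hrep
  set J := {D : ConjClasses G // ¬ p ∣ Nat.card D.carrier} with hJ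
  have hclass : ∀ x : G, Nat.card (ConjClasses.mk x).carrier =
      (Subgroup.centralizer ({x} : Set G)).index := fun x => by
    rw [← card_conjClass_eq_index]
    refine Nat.card_congr (Equiv.subtypeEquivRight fun z => ?_)
    rw [ConjClasses.mem_carrier_iff_mk_eq, ConjClasses.mk_eq_mk_iff_isConj, isConj_comm]
  have hbij : Nat.card I * Nat.card (P : Subgroup G) = Nat.card J := by
    rw [← Nat.card_prod]
    refine Nat.card_eq_of_bijective (fun x => ⟨ConjClasses.mk ((c x.1 : G) * (x.2 : G)), ?_⟩) ⟨?_, ?_⟩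
    · rw [hclass]
      refine fun hd => hPi (hd.trans (Subgroup.index_dvd_of_le fun y hy => ?_))
      rw [Subgroup.mem_centralizer_singleton_iff]
      have h1 : y * (c x.1 : G) = c x.1 * y := Subgroup.mem_centralizer_iff.mp (hcC x.1) y hy
      calc y * ((c x.1 : G) * x.2) = y * c x.1 * x.2 := by group
        _ = c x.1 * (y * x.2) := by rw [h1]; group
        _ = c x.1 * x.2 * y := by rw [hPab y hy _ x.2.2]; group
    · rintro ⟨K, u⟩ ⟨K', u'⟩ he
      replace he := ConjClasses.mk_eq_mk_iff_isConj.mp (congrArg Subtype.val he)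
      obtain ⟨g, hg⟩ := isConj_iff.mp he
      have hxC : ∀ (K : I) (u : (P : Subgroup G)), (c K : G) * u ∈ C := fun K u =>
        Subgroup.mul_mem _ (hcC K) (Subgroup.mem_centralizer_iff.mpr fun y hy => hPab y hy u u.2)
      obtain ⟨h, hh, he'⟩ := hfus _ (hxC K u) g (hg ▸ hxC K' u')
      rw [hg] at he'
      obtain ⟨n, hn, v, hv, rfl⟩ := hdec h
      have hu : u = u' := by
        have h1 := congrArg (QuotientGroup.mk' N) he'
        simp only [map_mul, map_inv, QuotientGroup.mk'_apply,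
          (QuotientGroup.eq_one_iff _).mpr (c K).2, (QuotientGroup.eq_one_iff _).mpr (c K').2,
          one_mul] at h1
        rw [hab (_ * _) (u : G ⧸ N), mul_inv_cancel_right, ← QuotientGroup.mk'_apply,
          ← QuotientGroup.mk'_apply, QuotientGroup.mk'_apply, QuotientGroup.mk'_apply,
          QuotientGroup.eq] at h1
        exact Subtype.ext (inv_mul_eq_one.mp
          (hdisj _ (Subgroup.mul_mem _ (Subgroup.inv_mem _ u'.2) u.2) h1)).symm
      subst hu
      have hvC := Subgroup.mem_centralizer_iff.mp (hcC K) v hv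
      have hnC : n ∈ C := by
        have := Subgroup.mul_mem _ hh (Subgroup.inv_mem _
          (Subgroup.mem_centralizer_iff.mpr fun y hy => hPab y hy v hv : v ∈ C))
        rwa [mul_inv_cancel_right] at this
      have hnu := Subgroup.mem_centralizer_iff.mp hnC u u.2
      have e : (c K' : G) = n * c K * n⁻¹ := by
        apply mul_right_cancel (b := (u : G))
        rw [he']
        calc n * v * ((c K : G) * u) * (n * v)⁻¹ = n * (v * c K) * (u * v⁻¹) * n⁻¹ := by group
          _ = n * (c K * v) * (u * v⁻¹) * n⁻¹ := by rw [hvC]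
          _ = n * c K * ((v * u) * v⁻¹) * n⁻¹ := by group
          _ = n * c K * (u * n⁻¹) := by rw [hPab v hv u u.2]; group
          _ = n * c K * n⁻¹ * u := by
            rw [(Commute.inv_right (show Commute (u : G) n from hnu)).eq]; group
      have e2 : K = K' := Subtype.ext (by
        rw [← hcK K, ← hcK K', ConjClasses.mk_eq_mk_iff_isConj, isConj_iff]
        exact ⟨⟨n, hn⟩, Subtype.ext e.symm⟩)
      rw [e2]
    · rintro ⟨D, hD⟩
      obtain ⟨x, rfl⟩ := ConjClasses.exists_rep D
      rw [hclass] at hD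
      obtain ⟨P', hP'⟩ := exists_sylow_le (p := p) hD
      obtain ⟨g, hg⟩ := MulAction.exists_smul_eq G P' P
      have hxC : g * x * g⁻¹ ∈ C := by
        refine Subgroup.mem_centralizer_iff.mpr fun y hy => ?_
        rw [← hg, Sylow.coe_subgroup_smul, SetLike.mem_coe, Cfsg.Agent.Solv.mem_conj_smul] at hy
        have h1 := Subgroup.mem_centralizer_singleton_iff.mp (hP' hy)
        calc y * (g * x * g⁻¹) = g * ((g⁻¹ * y * g) * x) * g⁻¹ := by group
          _ = g * (x * (g⁻¹ * y * g)) * g⁻¹ := by rw [h1]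
          _ = g * x * g⁻¹ * y := by group
      obtain ⟨n, hn, u, hu, hnu⟩ := hdec (g * x * g⁻¹)
      have hnC : n ∈ C := by
        have := Subgroup.mul_mem _ hxC (Subgroup.inv_mem _
          (Subgroup.mem_centralizer_iff.mpr fun y hy => hPab y hy u hu : u ∈ C))
        rwa [hnu, mul_inv_cancel_right] at this
      have hK : ∀ (s : (P : Subgroup G)) (m : N), ConjClasses.mk m = ConjClasses.mk ⟨n, hn⟩ →
          ConjClasses.mk (φ s m) = ConjClasses.mk ⟨n, hn⟩ := fun s m hm => by
        rw [ConjClasses.mk_eq_mk_iff_isConj] at hm ⊢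
        have h1 : IsConj (φ s m) (φ s ⟨n, hn⟩) := (φ s).toMonoidHom.map_isConj hm
        have h2 : φ s ⟨n, hn⟩ = ⟨n, hn⟩ := Subtype.ext (by
          rw [hφ, conjActHom_coe]
          exact mul_inv_eq_iff_eq_mul.mpr (Subgroup.mem_centralizer_iff.mp hnC s s.2))
        rwa [h2] at h1
      set K : I := ⟨_, hK⟩
      obtain ⟨a, ha⟩ := isConj_iff.mp (ConjClasses.mk_eq_mk_iff_isConj.mp (hcK K))
      refine ⟨⟨K, ⟨u, hu⟩⟩, Subtype.ext (ConjClasses.mk_eq_mk_iff_isConj.mpr ?_)⟩
      show IsConj ((c K : G) * u) x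
      have hfr : ∃ b ∈ C, (b : G) * c K * b⁻¹ = n := by
        have ha' : (a : G) * c K * (a : G)⁻¹ = n := congrArg Subtype.val ha
        obtain ⟨b, hb, he⟩ := hfus _ (hcC K) a (ha' ▸ hnC)
        exact ⟨b, hb, by rw [← he, ha']⟩
      obtain ⟨b, hb, hbn⟩ := hfr
      refine isConj_iff.mpr ⟨g⁻¹ * b, ?_⟩
      have hbu := Subgroup.mem_centralizer_iff.mp hb u hu
      calc g⁻¹ * b * ((c K : G) * u) * (g⁻¹ * b)⁻¹ = g⁻¹ * (b * c K) * (u * b⁻¹) * g := by group
        _ = g⁻¹ * (b * c K * b⁻¹) * u * g := by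
          rw [(Commute.inv_right (show Commute u b from hbu)).eq]; group
        _ = g⁻¹ * (g * x * g⁻¹) * g := by rw [hbn, hnu]; group
        _ = x := by group
  have hirr : Nat.card {χ : IrrCharacter G // ¬ p ∣ charDegree (χ : G → ℂ)} =
      Nat.card I * Nat.card (P : Subgroup G) := by
    have h := card_coprime_degree_complement N (P : Subgroup G) hcompl hcop
    have e1 : Nat.card {θ : IrrCharacter N //
        ∀ (g : G) (n : N), (θ : N → ℂ) (MulAut.conjNormal g n) = (θ : N → ℂ) n} = Nat.card I := by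
      rw [hI, ← card_invariant_eq _ _ N φ rfl (haveI := P.isPGroup'.isNilpotent; inferInstance) hcop]
      refine Nat.card_congr (Equiv.subtypeEquivRight fun θ => ⟨fun h s m => ?_, fun h g n => ?_⟩)
      · rw [← h (s : G) m]
        exact congrArg _ (Subtype.ext (by rw [hφ, conjActHom_coe, MulAut.conjNormal_apply]))
      · obtain ⟨a, ha, u, hu, rfl⟩ := hdec g
        rw [map_mul, MulAut.mul_apply]
        have e : ∀ w : N, (MulAut.conjNormal a w : N) = (⟨a, ha⟩ : N) * w * (⟨a, ha⟩ : N)⁻¹ :=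
          fun w => Subtype.ext (by simp [MulAut.conjNormal_apply])
        rw [e, isClassFunction_character (irr_isCharacter θ.2), ← h ⟨u, hu⟩ n]
        exact congrArg _ (Subtype.ext (by rw [hφ, conjActHom_coe, MulAut.conjNormal_apply]))
    have e2 : Nat.card ((P : Subgroup G) →* ℂˣ) = Nat.card (P : Subgroup G) := by
      letI : CommGroup (P : Subgroup G) :=
        { (inferInstance : Group (P : Subgroup G)) with
          mul_comm := fun a b => Subtype.ext (hPab a a.2 b b.2) }
      haveI : NeZero (Monoid.exponent (P : Subgroup G)) := ⟨Monoid.exponent_ne_zero_of_finite⟩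
      exact CommGroup.card_monoidHom_of_hasEnoughRootsOfUnity _ ℂ
    rw [e1, e2] at h
    rw [← h]
    refine Nat.card_congr (Equiv.subtypeEquivRight fun χ => ?_)
    obtain ⟨a, ha⟩ := P.isPGroup'.exists_card_eq
    rw [ha]
    constructor
    · exact fun h => (hp.coprime_iff_not_dvd.mpr h).symm.pow_right a
    · intro h hd
      rcases Nat.eq_zero_or_pos a with rfl | ha0
      · have h1 : p ∣ Nat.card G := hd.trans (charDegree_eq_deg (χ : G → ℂ) ▸ deg_dvd_card χ.2)
        rw [← N.index_mul_card, ← hPc, ha, pow_zero, one_mul] at h1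
        exact hp.ne_one (Nat.eq_one_of_dvd_coprimes hN h1 dvd_rfl)
      · exact hp.ne_one (Nat.eq_one_of_dvd_coprimes h hd (dvd_pow_self p ha0.ne'))
  have hall : Nat.card (IrrCharacter G) = Nat.card (ConjClasses G) := card_irr
  have hs1 := Nat.card_congr (Equiv.sumCompl fun χ : IrrCharacter G => p ∣ charDegree (χ : G → ℂ))
  have hs2 := Nat.card_congr (Equiv.sumCompl fun D : ConjClasses G => p ∣ Nat.card D.carrier)
  rw [Nat.card_sum, hone, hirr] at hs1
  rw [Nat.card_sum] at hs2
  have hJ' : Nat.card {D : ConjClasses G // ¬ p ∣ Nat.card D.carrier} = Nat.card J := rfl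
  omega

end Cfsg.Agent.S4763
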