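import Cfsg.Statements.S4775
import Cfsg.Agent.Lib.Lie.SuzukiDegrees

set_option autoImplicit false
open Cfsg

namespace Cfsg.Agent.S4775

/-- Let F be a finite field with q = 2^(2m+1) ≥ 8 elements and let S be isomorphic to the Suzuki group over F. Then the vertices of the character degree graph of S are 2 and the primes dividing (q − 1)(q² + 1); the primes dividing (q − 1)(q² + 1) are pairwise adjacent, and 2 is adjacent exactly to the primes dividing q − 1. -/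
theorem result (F : Type*) [Field F] [Fintype F] (m : ℕ) (hm : 1 ≤ m) (q : ℕ) (hq : Fintype.card F = q) (hqm : q = 2 ^ (2 * m + 1)) {S : Type*} [Group S] [Finite S] (hS : Nonempty (S ≃* ↥(Cfsg.Lie.Sz F (2 ^ (m + 1))))) : Cfsg.degreePrimes S = {r : ℕ | r.Prime ∧ (r = 2 ∨ r ∣ (q - 1) * (q ^ 2 + 1))} ∧ ∀ r s : ℕ, (Cfsg.degreeGraph S).Adj r s ↔ (r ≠ s ∧ r.Prime ∧ s.Prime ∧ ((r ∣ (q - 1) * (q ^ 2 + 1) ∧ s ∣ (q - 1) * (q ^ 2 + 1)) ∨ (r = 2 ∧ s ∣ q - 1) ∨ (s = 2 ∧ r ∣ q - 1))) := by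
  classical
  obtain ⟨e⟩ := Cfsg.Agent.Lie.Suzuki.lie_sz_equiv (m := m) (hq.trans hqm) hm
  obtain ⟨e'⟩ := hS
  have hF : Fintype.card F = 2 ^ (2 * m + 1) := hq.trans hqm
  haveI : Fintype (Cfsg.Sz F m) := Fintype.ofFinite _
  haveI : Fintype S := Fintype.ofFinite _
  have f : S ≃* Cfsg.Sz F m := e'.trans e.symm
  have hset : Cfsg.charDegrees S = Cfsg.charDegrees (Cfsg.Sz F m) := by
    ext d
    constructor
    · rintro ⟨χ, rfl⟩
      exact ⟨⟨_, Cfsg.Agent.Char.isIrrCharacter_comp_equiv f.symm χ.2⟩, by simp [Cfsg.charDegree]⟩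
    · rintro ⟨χ, rfl⟩
      exact ⟨⟨_, Cfsg.Agent.Char.isIrrCharacter_comp_equiv f χ.2⟩, by simp [Cfsg.charDegree]⟩
  rw [Cfsg.Agent.Lie.Suzuki.Degrees.charDegrees_eq hF hm, hq] at hset
  obtain ⟨h8, heven, -, hfac⟩ := Cfsg.Agent.Lie.Suzuki.q_facts hF hm
  rw [hq] at h8 heven hfac
  have hle : 2 ^ (m + 1) ≤ 2 ^ (2 * m + 1) := Nat.pow_le_pow_right (by norm_num) (by omega)
  set A := 2 ^ (2 * m + 1) + 2 ^ (m + 1) + 1 with hA
  set B := 2 ^ (2 * m + 1) - 2 ^ (m + 1) + 1 with hB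
  have hprod : A * B = q ^ 2 + 1 := by
    have h2 : (2 ^ (m + 1)) ^ 2 = 2 * 2 ^ (2 * m + 1) := by rw [← pow_mul, ← pow_succ']; congr 1; ring
    rw [hA, hB, hqm]
    zify [hle] at h2 ⊢
    linear_combination -h2
  have h2m : 2 ∣ 2 ^ m := dvd_pow_self 2 (by omega)
  have hmem : ∀ d, d ∈ Cfsg.charDegrees S ↔ d = 1 ∨ d = q ^ 2 ∨ d = q ^ 2 + 1 ∨
      d = (q - 1) * A ∨ d = (q - 1) * B ∨ d = 2 ^ m * (q - 1) := fun d => by
    rw [hset]
    simp only [Set.mem_insert_iff, Set.mem_singleton_iff]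
  have htwo : ∀ n : ℕ, Nat.Prime n → n ∣ q ^ 2 → n = 2 := fun n hn h => by
    have h' := hn.dvd_of_dvd_pow h
    rw [hqm] at h'
    exact (Nat.prime_dvd_prime_iff_eq hn Nat.prime_two).1 (hn.dvd_of_dvd_pow h')
  have hcases : ∀ n : ℕ, n.Prime → n ∣ (q - 1) * (q ^ 2 + 1) → n ∣ q - 1 ∨ n ∣ A ∨ n ∣ B := fun n hn h => by
    rcases hn.dvd_mul.1 h with h | h
    · exact Or.inl h
    · exact Or.inr (hn.dvd_mul.1 (hprod.symm ▸ h))
  have hodd : ¬ 2 ∣ (q - 1) * (q ^ 2 + 1) := fun h => by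
    rcases Nat.prime_two.dvd_mul.1 h with h | h
    · obtain ⟨k, hk⟩ := heven
      omega
    · exact (hfac 2 Nat.prime_two h).1 rfl
  have hAdvd : A ∣ q ^ 2 + 1 := ⟨B, hprod.symm⟩
  have hBdvd : B ∣ q ^ 2 + 1 := ⟨A, by rw [← hprod, mul_comm]⟩
  have hdiv : ∀ n : ℕ, n.Prime → ∀ d ∈ Cfsg.charDegrees S, n ∣ d → n = 2 ∨ n ∣ (q - 1) * (q ^ 2 + 1) := by
    intro n hn d hd hnd
    rcases (hmem d).1 hd with rfl | rfl | rfl | rfl | rfl | rfl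
    · exact absurd hnd hn.not_dvd_one
    · exact Or.inl (htwo n hn hnd)
    · exact Or.inr (hnd.mul_left _)
    · exact Or.inr (hnd.trans (mul_dvd_mul_left _ hAdvd))
    · exact Or.inr (hnd.trans (mul_dvd_mul_left _ hBdvd))
    · rcases hn.dvd_mul.1 hnd with h | h
      · exact Or.inl ((Nat.prime_dvd_prime_iff_eq hn Nat.prime_two).1 (hn.dvd_of_dvd_pow h))
      · exact Or.inr (h.mul_right _)
  have heven' : ∀ s d : ℕ, s.Prime → s ≠ 2 → d ∈ Cfsg.charDegrees S → 2 * s ∣ d → s ∣ q - 1 := by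
    intro s d hs hs2 hd hsd
    have h2d : 2 ∣ d := (dvd_mul_right 2 s).trans hsd
    have hsd' : s ∣ d := (dvd_mul_left s 2).trans hsd
    rcases (hmem d).1 hd with rfl | rfl | rfl | rfl | rfl | rfl
    · exact absurd hsd' hs.not_dvd_one
    · exact absurd (htwo s hs hsd') hs2
    · exact absurd (h2d.mul_left _) hodd
    · exact absurd (h2d.trans (mul_dvd_mul_left _ hAdvd)) hodd
    · exact absurd (h2d.trans (mul_dvd_mul_left _ hBdvd)) hodd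
    · exact (hs.dvd_mul.1 hsd').resolve_left fun h =>
        hs2 ((Nat.prime_dvd_prime_iff_eq hs Nat.prime_two).1 (hs.dvd_of_dvd_pow h))
  have hpair : ∀ r s : ℕ, r.Prime → s.Prime → r ≠ s → r ∣ (q - 1) * (q ^ 2 + 1) → s ∣ (q - 1) * (q ^ 2 + 1) →
      ∃ d ∈ Cfsg.charDegrees S, r * s ∣ d := by
    intro r s hr hs hrs hr' hs'
    have hcop : Nat.Coprime r s := (Nat.coprime_primes hr hs).2 hrs
    rcases hcases r hr hr' with h | h | h <;> rcases hcases s hs hs' with h' | h' | h'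
    · exact ⟨_, (hmem _).2 (Or.inr (Or.inr (Or.inr (Or.inl rfl)))), hcop.mul_dvd_of_dvd_of_dvd (h.mul_right _) (h'.mul_right _)⟩
    · exact ⟨_, (hmem _).2 (Or.inr (Or.inr (Or.inr (Or.inl rfl)))), mul_dvd_mul h h'⟩
    · exact ⟨_, (hmem _).2 (Or.inr (Or.inr (Or.inr (Or.inr (Or.inl rfl))))), mul_dvd_mul h h'⟩
    · exact ⟨_, (hmem _).2 (Or.inr (Or.inr (Or.inr (Or.inl rfl)))), by rw [mul_comm r s]; exact mul_dvd_mul h' h⟩
    · exact ⟨_, (hmem _).2 (Or.inr (Or.inr (Or.inl rfl))), hcop.mul_dvd_of_dvd_of_dvd (h.trans hAdvd) (h'.trans hAdvd)⟩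
    · exact ⟨_, (hmem _).2 (Or.inr (Or.inr (Or.inl rfl))), hcop.mul_dvd_of_dvd_of_dvd (h.trans hAdvd) (h'.trans hBdvd)⟩
    · exact ⟨_, (hmem _).2 (Or.inr (Or.inr (Or.inr (Or.inr (Or.inl rfl))))), by rw [mul_comm r s]; exact mul_dvd_mul h' h⟩
    · exact ⟨_, (hmem _).2 (Or.inr (Or.inr (Or.inl rfl))), hcop.mul_dvd_of_dvd_of_dvd (h.trans hBdvd) (h'.trans hAdvd)⟩
    · exact ⟨_, (hmem _).2 (Or.inr (Or.inr (Or.inl rfl))), hcop.mul_dvd_of_dvd_of_dvd (h.trans hBdvd) (h'.trans hBdvd)⟩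
  refine ⟨Set.ext fun r => ⟨?_, ?_⟩, fun r s => ⟨?_, ?_⟩⟩
  · rintro ⟨hr, d, hd, hrd⟩
    exact ⟨hr, hdiv r hr d hd hrd⟩
  · rintro ⟨hr, h⟩
    refine ⟨hr, ?_⟩
    rcases h with rfl | h
    · exact ⟨_, (hmem _).2 (Or.inr (Or.inr (Or.inr (Or.inr (Or.inr rfl))))), h2m.mul_right _⟩
    rcases hcases r hr h with h | h | h
    · exact ⟨_, (hmem _).2 (Or.inr (Or.inr (Or.inr (Or.inl rfl)))), h.mul_right _⟩
    · exact ⟨_, (hmem _).2 (Or.inr (Or.inr (Or.inr (Or.inl rfl)))), h.mul_left _⟩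
    · exact ⟨_, (hmem _).2 (Or.inr (Or.inr (Or.inr (Or.inr (Or.inl rfl))))), h.mul_left _⟩
  · rintro ⟨hne, hr, hs, d, hd, hrs⟩
    refine ⟨hne, hr, hs, ?_⟩
    by_cases hr2 : r = 2
    · subst hr2
      exact Or.inr (Or.inl ⟨rfl, heven' s d hs (Ne.symm hne) hd hrs⟩)
    by_cases hs2 : s = 2
    · subst hs2
      exact Or.inr (Or.inr ⟨rfl, heven' r d hr hne hd (by rwa [mul_comm])⟩)
    exact Or.inl ⟨(hdiv r hr d hd ((dvd_mul_right r s).trans hrs)).resolve_left hr2,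
      (hdiv s hs d hd ((dvd_mul_left s r).trans hrs)).resolve_left hs2⟩
  · rintro ⟨hne, hr, hs, h⟩
    refine ⟨hne, hr, hs, ?_⟩
    rcases h with ⟨h, h'⟩ | ⟨rfl, h⟩ | ⟨rfl, h⟩
    · exact hpair r s hr hs hne h h'
    · exact ⟨_, (hmem _).2 (Or.inr (Or.inr (Or.inr (Or.inr (Or.inr rfl))))), mul_dvd_mul h2m h⟩
    · exact ⟨_, (hmem _).2 (Or.inr (Or.inr (Or.inr (Or.inr (Or.inr rfl))))), by rw [mul_comm r 2]; exact mul_dvd_mul h2m h⟩

end Cfsg.Agent.S4775
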