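import Cfsg.Statements.S4776
import Cfsg.Agent.Lib.Char.RelDegreeSplit

set_option autoImplicit false
open Cfsg

namespace Cfsg.Agent.S4776

open Cfsg.Agent.Char Cfsg.Agent.Char.RelSplit

variable {G : Type*} [Group G] [Fintype G] (N : Subgroup G) [N.Normal]

theorem index_eq : (commutator N).index = ⁅N, N⁆.relIndex N := by
  refine congrArg Subgroup.index (Subgroup.map_injective N.subtype_injective ?_)
  rw [Subgroup.subgroupOf_map_subtype, inf_eq_left.2 (Subgroup.commutator_le_self N), commutator_def,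
    Subgroup.map_commutator, ← MonoidHom.range_eq_map, Subgroup.range_subtype]

theorem pos_of_mem {a : ℕ} (ha : a ∈ relCharDegrees N) : 0 < a := by
  obtain ⟨χ, -, rfl⟩ := ha
  rw [charDegree_eq_deg]
  exact deg_pos χ.2

theorem rch_of_both {q : ℕ} [hq : Fact q.Prime] {a b : ℕ} (ha : a ∈ relCharDegrees N)
    (hb : b ∈ relCharDegrees N) [Fintype N] (hNG : N ≤ commutator G) (hm : q ∣ (commutator N).index)
    (h : q ∣ a ↔ q ∣ b) : Rch N a b := by
  by_cases hqa : q ∣ a
  · exact rch_of_dvd N ha hb hq.out.one_lt hqa (h.1 hqa)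
  · exact rch_not_dvd N hNG hm ha hb hqa fun h' => hqa (h.2 h')

/-- A degree prime to `q` reaches the degree over a nontrivial linear character of `q`-power order. -/
theorem exists_hom {q : ℕ} [hq : Fact q.Prime] [Fintype N] (hNG : N ≤ commutator G)
    (hm : q ∣ (commutator N).index) {a : ℕ} (ha : a ∈ relCharDegrees N) (hqa : ¬ q ∣ a) :
    ∃ l : N →* ℂˣ, l ^ qp N q = 1 ∧ l ≠ 1 ∧ Rch N a (deg (xi N l : G → ℂ)) := by
  obtain ⟨χ, hχ, rfl⟩ := id ha
  rw [charDegree_eq_deg] at hqa ⊢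
  obtain ⟨x, hx, hx'⟩ := hχ
  obtain ⟨ψ, hψ, hne⟩ : ∃ ψ : IrrCharacter N,
      classInner (fun n : N => (χ : G → ℂ) n) (ψ : N → ℂ) ≠ 0 ∧ ψ ≠ oneC := by
    by_contra hno
    push Not at hno
    exact hx' (SolvDiv.value_of_constituents χ N (y := ⟨x, hx⟩) fun θ hθ => by rw [hno θ hθ]; rfl)
  rcases linked_of_not_dvd N hNG χ ψ hψ hne hqa with h | ⟨l, hl, hi, -, h⟩
  · obtain ⟨w, hw, hw1, -⟩ := exists_fixed_hom N hm
    exact ⟨w, hw, hw1, h w hw hw1⟩
  · refine ⟨l, hl, fun e => hi ?_, h⟩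
    rw [e, Subgroup.index_eq_one, eq_top_iff]
    exact fun g _ => (mem_stL N).2 rfl

theorem card_le [Fintype N] (hN : ⁅N, N⁆ < N) (hNG : N ≤ commutator G) :
    Nat.card (commonDivisorGraph.induce (relCharDegrees N)).ConnectedComponent ≤ 2 := by
  classical
  have hm1 : (commutator N).index ≠ 1 := by
    rw [index_eq, Ne, Subgroup.relIndex_eq_one]; exact hN.not_ge
  obtain ⟨q, hq, hm⟩ := Nat.exists_prime_and_dvd hm1
  haveI := Fact.mk hq
  let f : (commonDivisorGraph.induce (relCharDegrees N)).ConnectedComponent → Fin 2 := fun c =>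
    if q ∣ (c.out : ℕ) then 0 else 1
  refine le_trans (Nat.card_le_card_of_injective f ?_) (le_of_eq (by rw [Nat.card_fin]))
  intro c c' hcc
  have hiff : q ∣ (c.out : ℕ) ↔ q ∣ (c'.out : ℕ) := by
    simp only [f] at hcc
    split_ifs at hcc with h1 h2 h2
    · exact ⟨fun _ => h2, fun _ => h1⟩
    · simp at hcc
    · simp at hcc
    · exact ⟨fun h => absurd h h1, fun h => absurd h h2⟩
  obtain ⟨_, _, h⟩ := rch_of_both N c.out.2 c'.out.2 hNG hm hiff
  have := SimpleGraph.ConnectedComponent.sound h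
  exact (Quot.out_eq c).symm.trans (this.trans (Quot.out_eq c'))

/-- Degrees in different classes split the primes of `|N : N'|` all the same way. -/
theorem split [Fintype N] (hNG : N ≤ commutator G) {a b : ℕ} (ha : a ∈ relCharDegrees N)
    (hb : b ∈ relCharDegrees N) (hab : ¬ Rch N a b) :
    (∀ r : ℕ, r.Prime → r ∣ (commutator N).index → ¬ r ∣ a ∧ r ∣ b) ∨
      (∀ r : ℕ, r.Prime → r ∣ (commutator N).index → r ∣ a ∧ ¬ r ∣ b) := by
  have hone : ∀ r : ℕ, r.Prime → r ∣ (commutator N).index → (r ∣ a ↔ ¬ r ∣ b) := by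
    intro r hr hrm
    haveI := Fact.mk hr
    by_cases h1 : r ∣ a <;> by_cases h2 : r ∣ b
    · exact absurd (rch_of_both N ha hb hNG hrm (iff_of_true h1 h2)) hab
    · exact iff_of_true h1 h2
    · exact iff_of_false h1 (not_not.2 h2)
    · exact absurd (rch_of_both N ha hb hNG hrm (iff_of_false h1 h2)) hab
  by_cases hex : ∃ q : ℕ, q.Prime ∧ q ∣ (commutator N).index ∧ q ∣ a
  swap
  · push Not at hex
    exact Or.inl fun r hr hrm =>
      ⟨hex r hr hrm, not_not.1 fun h => hex r hr hrm ((hone r hr hrm).2 h)⟩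
  obtain ⟨q, hq, hqm, hqa⟩ := hex
  refine Or.inr fun r hr hrm => ?_
  by_contra hcon
  have hra : ¬ r ∣ a := fun h => hcon ⟨h, (hone r hr hrm).1 h⟩
  have hqr : q ≠ r := fun h => hra (h ▸ hqa)
  have hqb : ¬ q ∣ b := (hone q hq hqm).1 hqa
  haveI := Fact.mk hr
  obtain ⟨ν, hν, hν1, haν⟩ := exists_hom N hNG hrm ha hra
  haveI hqF := Fact.mk hq
  obtain ⟨μ, hμ, hμ1, hbμ⟩ := exists_hom N hNG hqm hb hqb
  -- the two powers recover the factors
  have hco : (qp N q).Coprime (qp N r) :=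
    (((Nat.coprime_primes hq hr).2 hqr).pow_left _).pow_right _
  have recov : ∀ {s t : ℕ} {x y : N →* ℂˣ}, s.Coprime t → x ^ s = 1 → y ^ t = 1 →
      ∃ k, (x * y) ^ k = y := by
    intro s t x y hst hx hy
    obtain ⟨k, hk1, hk2⟩ := Nat.chineseRemainder hst 0 1
    have e1 : x ^ k = 1 := (orderOf_dvd_iff_pow_eq_one (G := N →* ℂˣ)).1
      ((orderOf_dvd_of_pow_eq_one (G := N →* ℂˣ) hx).trans (Nat.modEq_zero_iff_dvd.1 hk1))
    have e2 : y ^ k = y ^ 1 :=
      (pow_eq_pow_iff_modEq (G := N →* ℂˣ)).2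
        (hk2.of_dvd (orderOf_dvd_of_pow_eq_one (G := N →* ℂˣ) hy))
    refine ⟨k, ?_⟩
    erw [mul_pow, e1, e2, one_mul, pow_one]
  obtain ⟨k, hk⟩ := recov hco hμ hν
  obtain ⟨k', hk'⟩ := recov hco.symm hν hμ
  have hne : μ * ν ≠ 1 := fun h => by
    rw [h] at hk
    exact hν1 (hk.symm.trans (one_pow (M := N →* ℂˣ) _))
  have hz := xi_mem N hne
  -- the degree over the product reaches both
  have link : ∀ {s : ℕ} [hs : Fact s.Prime] {x y : N →* ℂˣ}, x ^ qp N s = 1 → x ≠ 1 →
      (∃ k, y ^ k = x) →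
      Rch N (deg (xi N y : G → ℂ)) (deg (xi N x : G → ℂ)) := by
    intro s hs x y hx hx1 hpow
    obtain ⟨k, rfl⟩ := hpow
    have hy1 : y ≠ 1 := fun h => hx1 (by rw [h]; exact one_pow (M := N →* ℂˣ) _)
    have hle : stL N y ≤ stL N (y ^ k) := stL_le_pow N y k
    by_cases hi : (stL N (y ^ k)).index = 1
    · refine rch_of_dvd N (xi_mem N hy1) (xi_mem N hx1) hs.out.one_lt ?_ (xi_q N hNG hx hx1 hi)
      have hD : D (tw y oneC : IrrCharacter N) = y := by
        rw [D_tw, D_oneC, deg_oneC]; erw [pow_one, one_mul]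
      have h1 := pow_deg_eq_one N hNG _ _ (xi_spec N y) k fun g => by
        rw [hD]; exact inv_of_index N hi g
      rw [hD] at h1
      obtain ⟨i, -, hi'⟩ := (Nat.dvd_prime_pow hs.out).1 (orderOf_dvd_of_pow_eq_one (G := N →* ℂˣ) hx)
      have hi0 : i ≠ 0 := fun h0 => hx1 (orderOf_eq_one_iff.1 (by rw [hi', h0, pow_zero]))
      exact (dvd_pow_self s hi0).trans (hi' ▸ orderOf_dvd_of_pow_eq_one h1)
    · refine rch_of_dvd N (xi_mem N hy1) (xi_mem N hx1) ?_
        ((Subgroup.index_dvd_of_le hle).trans (stL_index_dvd_xi N y)) (stL_index_dvd_xi N _)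
      have h0 : (stL N (y ^ k)).index ≠ 0 := Subgroup.index_ne_zero_of_finite
      omega
  have hzν : Rch N (deg (xi N (μ * ν) : G → ℂ)) (deg (xi N ν : G → ℂ)) :=
    link (s := r) hν hν1 ⟨k, hk⟩
  have hzμ : Rch N (deg (xi N (μ * ν) : G → ℂ)) (deg (xi N μ : G → ℂ)) :=
    link (s := q) hμ hμ1 ⟨k', by rw [mul_comm (G := N →* ℂˣ) μ ν]; exact hk'⟩
  exact hab (haν.trans N (hzν.symm N |>.trans N (hzμ.trans N (hbμ.symm N))))

/-- Let N be a normal subgroup of the finite group G that is not perfect and is contained in the derived subgroup of G. Consider the common-divisor graph on the relative degree set cd(G|N) (the degrees of the irreducible complex characters of G whose kernel does not contain N; two distinct degrees adjacent when they have a common divisor greater than one). Then this graph has at most two connected components; and if a, b ∈ cd(G|N) lie in different components, then one of a, b is coprime to the index m of the derived subgroup of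 N in N while the other is divisible by every prime divisor of m. -/
theorem result {G : Type*} [Group G] [Finite G] (N : Subgroup G) [N.Normal] (hN : ⁅N, N⁆ < N) (hNG : N ≤ commutator G) : Nat.card (Cfsg.commonDivisorGraph.induce (Cfsg.relCharDegrees N)).ConnectedComponent ≤ 2 ∧ ∀ (a b : ℕ) (ha : a ∈ Cfsg.relCharDegrees N) (hb : b ∈ Cfsg.relCharDegrees N), ¬ (Cfsg.commonDivisorGraph.induce (Cfsg.relCharDegrees N)).Reachable ⟨a, ha⟩ ⟨b, hb⟩ → (Nat.Coprime a (⁅N, N⁆.relIndex N) ∧ ∀ r : ℕ, r.Prime → r ∣ ⁅N, N⁆.relIndex N → r ∣ b) ∨ (Nat.Coprime b (⁅N, N⁆.relIndex N) ∧ ∀ r : ℕ, r.Prime → r ∣ ⁅N, N⁆.relIndex N → r ∣ a) := by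
  classical
  haveI := Fintype.ofFinite G
  haveI := Fintype.ofFinite N
  refine ⟨card_le N hN hNG, fun a b ha hb hr => ?_⟩
  rcases split N hNG ha hb (fun h => hr h.2.2) with h | h
  · refine Or.inl ⟨?_, fun r hr' hrm => (h r hr' (index_eq N ▸ hrm)).2⟩
    exact Nat.coprime_of_dvd fun r hr' hra hrm => (h r hr' (index_eq N ▸ hrm)).1 hra
  · refine Or.inr ⟨?_, fun r hr' hrm => (h r hr' (index_eq N ▸ hrm)).1⟩
    exact Nat.coprime_of_dvd fun r hr' hrb hrm => (h r hr' (index_eq N ▸ hrm)).2 hrb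

end Cfsg.Agent.S4776
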