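import Cfsg.Statements.S4779
import Cfsg.Agent.S4776
import Cfsg.Agent.Lib.Char.RelDegreeDiameter

set_option autoImplicit false
open Cfsg

namespace Cfsg.Agent.S4779

open Cfsg.Agent.Char Cfsg.Agent.Char.RelSplit Cfsg.Agent.S4776

variable {G : Type*} [Group G] [Fintype G]

theorem rel_empty_of_bot (N : Subgroup G) (h : N = ⊥) {a : ℕ} (ha : a ∈ relCharDegrees N) : False := by
  obtain ⟨χ, ⟨x, hx, hx'⟩, -⟩ := ha
  rw [h, Subgroup.mem_bot] at hx
  exact hx' (by rw [hx])

/-- A nontrivial solvable group has a prime in its abelianisation. -/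
theorem exists_prime (N : Subgroup G) [Group.IsSolvable N] (h : N ≠ ⊥) :
    ∃ q : ℕ, q.Prime ∧ q ∣ (commutator N).index := by
  haveI : Nontrivial N := N.nontrivial_iff_ne_bot.2 h
  exact Nat.exists_prime_and_dvd fun h1 =>
    (IsSolvable.commutator_lt_top_of_nontrivial N).ne (Subgroup.index_eq_one.1 h1)

/-- Constituent data of a degree prime to `q`. -/
theorem cases_of_not_dvd (N : Subgroup G) [N.Normal] [Fintype N] (hNG : N ≤ commutator G) (q : ℕ)
    [Fact q.Prime] {a : ℕ} (ha : a ∈ relCharDegrees N) (hqa : ¬ q ∣ a) :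
    ∃ (χ : IrrCharacter G) (ψ : IrrCharacter N), deg (χ : G → ℂ) = a ∧
      classInner (fun n : N => (χ : G → ℂ) n) (ψ : N → ℂ) ≠ 0 ∧ ψ ≠ oneC ∧
      ((∃ l : N →* ℂˣ, l ^ qp N q = 1 ∧ (stL N l).index ≠ 1 ∧ ¬ q ∣ (stL N l).index ∧
        (stL N l).index ∣ a) ∨ lam N q ψ = 1) := by
  obtain ⟨χ, ⟨x, hx, hx'⟩, rfl⟩ := ha
  rw [charDegree_eq_deg] at hqa ⊢
  obtain ⟨ψ, hψ, hne⟩ : ∃ ψ : IrrCharacter N,
      classInner (fun n : N => (χ : G → ℂ) n) (ψ : N → ℂ) ≠ 0 ∧ ψ ≠ oneC := by
    by_contra hno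
    push Not at hno
    exact hx' (SolvDiv.value_of_constituents χ N (y := ⟨x, hx⟩) fun θ hθ => by rw [hno θ hθ]; rfl)
  refine ⟨χ, ψ, rfl, hψ, hne, ?_⟩
  by_cases hl : lam N q ψ = 1
  · exact Or.inr hl
  have hdiv := index_mul_deg_dvd N χ ψ hψ
  have hd : ¬ q ∣ deg (ψ : N → ℂ) := fun h => hqa ((h.mul_left _).trans hdiv)
  have hid : (stL N (lam N q ψ)).index ∣ deg (χ : G → ℂ) :=
    ((Subgroup.index_dvd_of_le (stC_le_stL N)).trans (dvd_mul_right _ _)).trans hdiv
  exact Or.inl ⟨_, lam_pow N hd, fun h => hqa (dvd_of_invariant N hNG χ ψ hψ hd hl h),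
    fun h => hqa (h.trans hid), hid⟩

/-- A constituent trivial on the common kernel cannot have trivial part at `q`. -/
theorem mem_res (N : Subgroup G) [N.Normal] [Fintype N] (q : ℕ) [hq : Fact q.Prime] (χ : IrrCharacter G)
    (ψ : IrrCharacter N) (hψ : classInner (fun n : N => (χ : G → ℂ) n) (ψ : N → ℂ) ≠ 0) (hne : ψ ≠ oneC)
    (hl : lam N q ψ = 1) : deg (χ : G → ℂ) ∈ relCharDegrees (res N q) := by
  by_contra h
  obtain ⟨μ, hμ, rfl⟩ := linear_of_res N q χ ψ hψ h
  have hd : ¬ q ∣ deg ((oneC : IrrCharacter N) : N → ℂ) := by rw [deg_oneC]; exact hq.out.not_dvd_one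
  rw [lam_tw N hd hμ, lam_oneC] at hl
  have hμ1 : μ = 1 := (one_mul μ).symm.trans hl
  exact hne (by rw [hμ1]; exact tw_one _)

theorem core : ∀ (n : ℕ) (N : Subgroup G) [N.Normal] [Group.IsSolvable N], Nat.card N ≤ n →
    N ≤ commutator G → ¬ (commonDivisorGraph.induce (relCharDegrees N)).Preconnected →
    ∀ b c, Rch N b c → Near N b c := by
  intro n
  induction n with
  | zero =>
    intro N _ _ hn
    exact absurd hn (not_le.2 Nat.card_pos)
  | succ n ih =>
    intro N _ _ hn hNG hdisc b c hbc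
    classical
    haveI := Fintype.ofFinite N
    have hbot : N ≠ ⊥ := fun h => hdisc fun u _ => (rel_empty_of_bot N h u.2).elim
    obtain ⟨q, hq, hm⟩ := exists_prime N hbot
    haveI := Fact.mk hq
    -- the two classes are separated
    have hsame : ∀ {u v : ℕ}, Rch N u v → (q ∣ u ↔ q ∣ v) := by
      intro u v huv
      by_contra hne
      refine hdisc fun x y => ?_
      have key : ∀ z : ↥(relCharDegrees N), Rch N (z : ℕ) u := fun z => by
        by_cases hz : q ∣ (z : ℕ) ↔ q ∣ u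
        · exact rch_of_both N z.2 huv.1 hNG hm hz
        · exact Rch.trans N (rch_of_both N z.2 huv.2.1 hNG hm (by tauto)) (Rch.symm N huv)
      exact (Rch.trans N (key x) (Rch.symm N (key y))).2.2
    obtain ⟨x, hx, hqx⟩ : ∃ x ∈ relCharDegrees N, q ∣ x := by
      by_contra hno
      push Not at hno
      exact hdisc fun u v =>
        (rch_of_both N u.2 v.2 hNG hm (iff_of_false (hno _ u.2) (hno _ v.2))).2.2
    obtain ⟨hb, hc, -⟩ := id hbc
    by_cases hqb : q ∣ b
    · exact ⟨b, hb, ⟨q, hq.one_lt, hqb, hqb⟩, ⟨q, hq.one_lt, hqb, (hsame hbc).1 hqb⟩⟩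
    have hqc : ¬ q ∣ c := fun h => hqb ((hsame hbc).2 h)
    obtain ⟨χ, ψ, hχ, hψ, hψ1, hb'⟩ := cases_of_not_dvd N hNG q hb hqb
    obtain ⟨χ', ψ', hχ', hψ', hψ1', hc'⟩ := cases_of_not_dvd N hNG q hc hqc
    subst hχ hχ'
    -- one moved character against a twisted one
    have mixed : ∀ (χ χ' : IrrCharacter G) (ψ : IrrCharacter N),
        classInner (fun n : N => (χ : G → ℂ) n) (ψ : N → ℂ) ≠ 0 → ψ ≠ oneC →
        ¬ q ∣ deg (χ : G → ℂ) → lam N q ψ = 1 → ∀ l : N →* ℂˣ, l ^ qp N q = 1 → (stL N l).index ≠ 1 →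
        (stL N l).index ∣ deg (χ' : G → ℂ) → Near N (deg (χ : G → ℂ)) (deg (χ' : G → ℂ)) := by
      intro χ χ' ψ hψ hψ1 hq' hl l hlp hi hid
      obtain ⟨d, hd, hm1, hm2, -⟩ := twist_near N q hNG χ ψ hψ hψ1 hq' hl hlp (stL_ne N hi)
      have h0 : (stL N l).index ≠ 0 := Subgroup.index_ne_zero_of_finite
      exact ⟨d, hd, hm1, ⟨_, by omega, hm2, hid⟩⟩
    rcases hb' with ⟨l, hl, hi, hiq, hid⟩ | hlam <;> rcases hc' with ⟨l', hl', hi', hiq', hid'⟩ | hlam'
    · have h0 : (stL N l).index ≠ 0 := Subgroup.index_ne_zero_of_finite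
      by_cases hco : (stL N l).index.Coprime (stL N l').index
      · obtain ⟨h1, h2⟩ := moved_link N hl hl' hi hi' hiq hiq' hco
        have hμ : l * l' ≠ 1 := stL_ne N fun e => h1 (by rw [e]; exact Nat.coprime_one_left _)
        have hμ0 : (stL N (l * l')).index ≠ 0 := Subgroup.index_ne_zero_of_finite
        obtain ⟨s, hs, hs1, hs2⟩ := meets_of_not_coprime hμ0 h1
        obtain ⟨s', hs', hs1', hs2'⟩ := meets_of_not_coprime hμ0 h2
        exact ⟨_, xi_mem N hμ, ⟨s, hs, hs2.trans hid, hs1.trans (stL_index_dvd_xi N _)⟩,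
          ⟨s', hs', hs1'.trans (stL_index_dvd_xi N _), hs2'.trans hid'⟩⟩
      · obtain ⟨s, hs, hs1, hs2⟩ := meets_of_not_coprime h0 hco
        exact ⟨_, hb, ⟨s, hs, hs1.trans hid, hs1.trans hid⟩, ⟨s, hs, hs1.trans hid, hs2.trans hid'⟩⟩
    · obtain ⟨d, hd, h1, h2⟩ := mixed χ' χ ψ' hψ' hψ1' hqc hlam' l hl hi hid
      exact ⟨d, hd, h2.symm, h1.symm⟩
    · exact mixed χ χ' ψ hψ hψ1 hqb hlam l' hl' hi' hid'
    · -- both twisted: descend to the common kernel
      let R := res N q
      have hRN : R ≤ N := res_le N q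
      have hmono : relCharDegrees R ⊆ relCharDegrees N := by
        rintro _ ⟨χ, ⟨x, hx, hx'⟩, rfl⟩
        exact ⟨χ, ⟨x, hRN hx, hx'⟩, rfl⟩
      have hbR := mem_res N q χ ψ hψ hψ1 hlam
      have hcR := mem_res N q χ' ψ' hψ' hψ1' hlam'
      have hbx : ¬ Rch N (deg (χ : G → ℂ)) x := fun h => hqb ((hsame h).2 hqx)
      have hxR : x ∈ relCharDegrees R := by
        by_contra h
        obtain ⟨χx, ⟨y, hy, hy'⟩, rfl⟩ := id hx
        rw [charDegree_eq_deg] at h hbx hx hqx
        obtain ⟨θ, hθ, hθ1⟩ : ∃ θ : IrrCharacter N,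
            classInner (fun n : N => (χx : G → ℂ) n) (θ : N → ℂ) ≠ 0 ∧ θ ≠ oneC := by
          by_contra hno
          push Not at hno
          exact hy' (SolvDiv.value_of_constituents χx N (y := ⟨y, hy⟩) fun θ hθ => by rw [hno θ hθ]; rfl)
        obtain ⟨μ, hμ, rfl⟩ := linear_of_res N q χx θ hθ h
        have hμ1 : μ ≠ 1 := fun e => hθ1 (by rw [e]; exact tw_one _)
        obtain ⟨d, hd, hm1, hm2, hm3⟩ := twist_near N q hNG χ ψ hψ hψ1 hqb hlam hμ hμ1
        refine hbx (Rch.trans N (rch_of_meets N hb hd hm1) (rch_of_meets N hd hx ?_))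
        by_cases hi : (stL N μ).index = 1
        · exact ⟨q, hq.one_lt, hm3 hi, hqx⟩
        · have h0 : (stL N μ).index ≠ 0 := Subgroup.index_ne_zero_of_finite
          exact ⟨_, by omega, hm2,
            (dvd_mul_right _ (deg (tw μ oneC : N → ℂ))).trans (index_mul_deg_dvd N χx (tw μ oneC) hθ)⟩
      let f : commonDivisorGraph.induce (relCharDegrees R) →g commonDivisorGraph.induce (relCharDegrees N) :=
        ⟨fun v => ⟨v.1, hmono v.2⟩, fun h => h⟩
      have hlift : ∀ {u v : ℕ}, Rch R u v → Rch N u v := by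
        rintro u v ⟨hu, hv, h⟩
        exact ⟨hmono hu, hmono hv, h.map f⟩
      have hRdisc : ¬ (commonDivisorGraph.induce (relCharDegrees R)).Preconnected := fun h =>
        hbx (hlift ⟨hbR, hxR, h _ _⟩)
      haveI : Group.IsSolvable R := solvable_of_solvable_injective (Subgroup.inclusion_injective hRN)
      haveI := Fintype.ofFinite R
      have hlt : Nat.card R < Nat.card N := by
        by_contra hge
        have he : R = N := Subgroup.eq_of_le_of_card_ge hRN (not_lt.1 hge)
        obtain ⟨w, hw, hw1, -⟩ := exists_fixed_hom N hm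
        refine hw1 (MonoidHom.ext fun m => ?_)
        obtain ⟨hm', hker⟩ : (m : G) ∈ R := he.symm ▸ m.2
        exact hker w hw
      obtain ⟨r, hr, hrm⟩ := exists_prime R (fun h => rel_empty_of_bot R h hxR)
      haveI := Fact.mk hr
      have hNear : Near R (deg (χ : G → ℂ)) (deg (χ' : G → ℂ)) := by
        refine ih R (by omega) (hRN.trans hNG) hRdisc _ _ ?_
        by_cases h : r ∣ deg (χ : G → ℂ) ↔ r ∣ deg (χ' : G → ℂ)
        · exact rch_of_both R hbR hcR (hRN.trans hNG) hrm h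
        exfalso
        by_cases h' : r ∣ deg (χ : G → ℂ) ↔ r ∣ x
        · exact hbx (hlift (rch_of_both R hbR hxR (hRN.trans hNG) hrm h'))
        · exact hbx (Rch.trans N hbc
            (hlift (rch_of_both R hcR hxR (hRN.trans hNG) hrm (by tauto))))
      obtain ⟨d, hd, h1, h2⟩ := hNear
      exact ⟨d, hmono hd, h1, h2⟩

/-- Let N be a solvable normal subgroup of the finite group G contained in the derived subgroup of G, and consider the common-divisor graph on the relative degree set cd(G|N) (degrees of irreducible complex characters of G whose kernel does not contain N, two distinct degrees adjacent when not coprime). If this graph has two vertices that are not joined by any path, then there is a vertex a₀ such that any two distinct vertices in the component of a₀ are adjacent, and any two distinct vertices outside that component are adjacent or have a common neighbour (one component is complete, the other has diameter at most 2). -/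
theorem result {G : Type*} [Group G] [Finite G] (N : Subgroup G) [N.Normal] [Group.IsSolvable N] (hNG : N ≤ commutator G) (hdisc : ¬ (Cfsg.commonDivisorGraph.induce (Cfsg.relCharDegrees N)).Preconnected) : ∃ a₀ : ↥(Cfsg.relCharDegrees N), (∀ b c : ↥(Cfsg.relCharDegrees N), (Cfsg.commonDivisorGraph.induce (Cfsg.relCharDegrees N)).Reachable a₀ b → (Cfsg.commonDivisorGraph.induce (Cfsg.relCharDegrees N)).Reachable a₀ c → b ≠ c → (Cfsg.commonDivisorGraph.induce (Cfsg.relCharDegrees N)).Adj b c) ∧ (∀ b c : ↥(Cfsg.relCharDegrees N), ¬ (Cfsg.commonDivisorGraph.induce (Cfsg.relCharDegrees N)).Reachable a₀ b → ¬ (Cfsg.commonDivisorGraph.induce (Cfsg.relCharDegrees N)).Reachable a₀ c → b ≠ c → (Cfsg.commonDivisorGraph.induce (Cfsg.relCharDegrees N)).Adj b c ∨ ∃ d : ↥(Cfsg.relCharDegrees N), (Cfsg.commonDivisorGraph.induce (Cfsg.relCharDegrees N)).Adj b d ∧ (Cfsg.commonDivisorGraph.induce (Cfsg.relCharDegrees N)).Adj d c) := by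
  classical
  haveI := Fintype.ofFinite G
  haveI := Fintype.ofFinite N
  have hbot : N ≠ ⊥ := fun h => hdisc fun u _ => (rel_empty_of_bot N h u.2).elim
  obtain ⟨q, hq, hm⟩ := exists_prime N hbot
  haveI := Fact.mk hq
  obtain ⟨a₀, hqa⟩ : ∃ a₀ : ↥(relCharDegrees N), q ∣ (a₀ : ℕ) := by
    by_contra hno
    push Not at hno
    exact hdisc fun u v => (rch_of_both N u.2 v.2 hNG hm (iff_of_false (hno u) (hno v))).2.2
  -- the component of `a₀` consists of the degrees divisible by `q`
  have hcls : ∀ z : ↥(relCharDegrees N),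
      (commonDivisorGraph.induce (relCharDegrees N)).Reachable a₀ z ↔ q ∣ (z : ℕ) := by
    intro z
    refine ⟨fun hz => ?_, fun hz => (rch_of_both N a₀.2 z.2 hNG hm (iff_of_true hqa hz)).2.2⟩
    by_contra hqz
    refine hdisc fun u v => ?_
    have key : ∀ w : ↥(relCharDegrees N), (commonDivisorGraph.induce (relCharDegrees N)).Reachable a₀ w :=
      fun w => by
        by_cases hw : q ∣ (w : ℕ)
        · exact (rch_of_both N a₀.2 w.2 hNG hm (iff_of_true hqa hw)).2.2
        · exact hz.trans (rch_of_both N z.2 w.2 hNG hm (iff_of_false hqz hw)).2.2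
    exact (key u).symm.trans (key v)
  refine ⟨a₀, fun b c hb hc hne => adj_of_meets N hne ⟨q, hq.one_lt, (hcls b).1 hb, (hcls c).1 hc⟩,
    fun b c hb hc hne => adj_or_common N hne (core _ N le_rfl hNG hdisc _ _ ?_)⟩
  exact rch_of_both N b.2 c.2 hNG hm
    (iff_of_false (fun h => hb ((hcls b).2 h)) fun h => hc ((hcls c).2 h))

end Cfsg.Agent.S4779
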