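import Cfsg.Statements.S4796
import Cfsg.Agent.Lib.Char.ExtraspecialChar
import Cfsg.Agent.Lib.Char.Degree
import Cfsg.Agent.Lib.Char.CoverBlocks
import Cfsg.Agent.Lib.Solv.Frobenius
import Cfsg.Agent.Lib.Solv.Coprime

set_option autoImplicit false
open Cfsg Cfsg.Agent.Char
open scoped Pointwise
open scoped ComplexConjugate

namespace Cfsg.Agent.S4796

/-- Let G be a finite group with a faithful irreducible complex character χ whose codegree #G / χ(1) is a prime p (for a faithful character the kernel is trivial, so the codegree is #G / χ(1)). Then either G is cyclic of order p, or G is a Frobenius group whose Frobenius kernel has order p: some proper non-trivial subgroup H satisfies H ∩ gHg⁻¹ = 1 for every element g outside H, and the set of elements lying in no conjugate of H, together with the identity, has exactly p elements. -/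
theorem result {G : Type*} [Group G] [Finite G] (χ : Cfsg.IrrCharacter G) (hfaith : ∀ g : G, (χ : G → ℂ) g = (χ : G → ℂ) 1 → g = 1) (p : ℕ) (hp : p.Prime) (hcod : Nat.card G = p * Cfsg.charDegree (χ : G → ℂ)) : (IsCyclic G ∧ Nat.card G = p) ∨ ∃ H : Subgroup G, Cfsg.IsFrobeniusComplement H ∧ Nat.card ↥(Cfsg.frobeniusKernel H) = p := by
  classical
  haveI := Fintype.ofFinite G
  haveI := Fact.mk hp
  have hsq : ∀ {H : Type _} [Group H] [Fintype H] (η : H → ℂ), IsIrrCharacter H η →
      ∀ (Z : Subgroup H), Z ≤ Subgroup.center H → deg η * deg η ≤ Z.index := by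
    intro H _ _ η hη Z hZ
    haveI := Fintype.ofFinite Z
    have h1 := irr_self hη
    rw [classInner, inv_mul_eq_one₀ (Nat.cast_ne_zero.mpr Nat.card_pos.ne')] at h1
    have h2 : ∀ z ∈ Z, Complex.normSq (η z) = (deg η : ℝ) * deg η := fun z hz => by
      obtain ⟨ω, hω, hmul⟩ := char_mul_central hη (hZ hz)
      rw [← one_mul z, hmul, map_mul, Complex.normSq_eq_norm_sq, hω,
        char_one_eq_deg (irr_isCharacter hη), Complex.normSq_natCast]
      ring
    have h3 : (Nat.card H : ℝ) = ∑ x : H, Complex.normSq (η x) := by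
      have := congrArg Complex.re h1
      simp only [Complex.natCast_re, Complex.re_sum, Complex.mul_conj, Complex.ofReal_re] at this
      exact this
    have h4 : ((Nat.card Z * (deg η * deg η) : ℕ) : ℝ) ≤ (Nat.card H : ℝ) := by
      rw [h3]
      refine le_trans (le_of_eq ?_) (Finset.sum_le_sum_of_subset_of_nonneg
        (Finset.subset_univ (Finset.univ.filter (· ∈ Z))) fun i _ _ => Complex.normSq_nonneg _)
      rw [Finset.sum_congr rfl (fun z hz => h2 z (Finset.mem_filter.mp hz).2), Finset.sum_const,
        nsmul_eq_mul, Nat.card_eq_fintype_card, Fintype.card_subtype]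
      push_cast
      ring
    rw [Nat.cast_le, ← Z.index_mul_card, mul_comm Z.index] at h4
    exact Nat.le_of_mul_le_mul_left h4 Nat.card_pos
  set m := deg (χ : G → ℂ) with hm
  have hcard : Nat.card G = p * m := hcod
  have hm0 : 0 < m := deg_pos χ.2
  have hmp : m < p := by
    have hne : (χ : G → ℂ) ≠ fun _ => 1 := fun h => by
      haveI : Subsingleton G := ⟨fun a b => by
        rw [hfaith a (by rw [h]), hfaith b (by rw [h])]⟩
      have := Nat.card_of_subsingleton (1 : G)
      rw [hcard] at this
      exact hp.ne_one (Nat.eq_one_of_mul_eq_one_right this)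
    have h := sum_sq_deg (G := G)
    have h1 : ((m * m + 1 : ℕ) : ℝ) ≤ (Nat.card G : ℝ) := by
      have h2 := congrArg Complex.re h
      rw [Complex.natCast_re] at h2
      rw [← h2, Complex.re_sum]
      set e1 : IrrCharacter G := ⟨fun _ => 1, isIrrCharacter_one⟩
      have hne' : χ ≠ e1 := fun e => hne (congrArg Subtype.val e)
      refine le_trans (le_of_eq ?_) (Finset.sum_le_sum_of_subset_of_nonneg
        (Finset.subset_univ {χ, e1}) fun i _ _ => ?_)
      · rw [Finset.sum_pair hne', char_one_eq_deg (irr_isCharacter χ.2)]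
        simp [e1, hm, pow_two]
      · rw [char_one_eq_deg (irr_isCharacter i.2)]
        simp only [pow_two, Complex.mul_re, Complex.natCast_re, Complex.natCast_im, mul_zero,
          sub_zero]
        positivity
    have h3 : m * m + 1 ≤ p * m := by rw [← hcard]; exact_mod_cast h1
    exact lt_of_mul_lt_mul_right (show m * m < p * m by omega) (Nat.zero_le m)
  have hpm : ¬ p ∣ m := fun h => absurd (Nat.le_of_dvd hm0 h) (by omega)
  obtain ⟨P⟩ := (inferInstance : Nonempty (Sylow p G))
  have hPc : Nat.card (P : Subgroup G) = p := by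
    rw [P.card_eq_multiplicity, hcard, Nat.factorization_mul hp.ne_zero hm0.ne', Finsupp.add_apply,
      hp.factorization_self, Nat.factorization_eq_zero_of_not_dvd hpm, add_zero, pow_one]
  have hPi : (P : Subgroup G).index = m :=
    Nat.eq_of_mul_eq_mul_right hp.pos (by
      have := (P : Subgroup G).index_mul_card
      rw [hPc, hcard] at this
      rw [this, mul_comm])
  haveI hPn : (P : Subgroup G).Normal := by
    have h1 : Nat.card (Sylow p G) = 1 := by
      have h2 := card_sylow_modEq_one p G
      have h3 : Nat.card (Sylow p G) ≤ m :=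
        Nat.le_of_dvd hm0 (hPi ▸ P.card_dvd_index)
      rw [Nat.ModEq, Nat.mod_eq_of_lt (by omega), Nat.mod_eq_of_lt hp.one_lt] at h2
      exact h2
    haveI : Subsingleton (Sylow p G) := (Nat.card_eq_one_iff_unique.mp h1).1
    infer_instance
  haveI hcyc : IsCyclic (P : Subgroup G) := isCyclic_of_prime_card hPc
  set C := Subgroup.centralizer ((P : Subgroup G) : Set G) with hC
  haveI : C.Normal := Subgroup.normal_centralizer
  have hPC : (P : Subgroup G) ≤ C := fun x hx => Subgroup.mem_centralizer_iff.mpr fun y hy => by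
    letI := hcyc.commGroup
    exact congrArg Subtype.val (mul_comm (⟨y, hy⟩ : (P : Subgroup G)) ⟨x, hx⟩)
  have hCP : C = (P : Subgroup G) := by
    haveI := Fintype.ofFinite C
    obtain ⟨θ, hθ⟩ := exists_constituent (N := C) χ
    set Z := (P : Subgroup G).subgroupOf C with hZ
    have hZc : Z ≤ Subgroup.center C := fun z hz => Subgroup.mem_center_iff.mpr fun c =>
      Subtype.ext ((Subgroup.mem_centralizer_iff.mp c.2 z hz).symm)
    have h1 := hsq (θ : C → ℂ) θ.2 Z hZc
    have h2 : ((χ : G → ℂ) 1).re ≤ (indFun C (θ : C → ℂ) 1).re := by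
      refine degree_le_of_classInner_ne_zero (isCharacter_indFun C (irr_isCharacter θ.2)) χ ?_
      rw [frobenius C _ (isClassFunction_character (irr_isCharacter χ.2)), ← classInner_symm]
      exact (map_ne_zero _).mpr hθ
    rw [indFun_one, char_one_eq_deg (irr_isCharacter χ.2), char_one_eq_deg (irr_isCharacter θ.2),
      ← Nat.cast_mul, Complex.natCast_re, Complex.natCast_re, Nat.cast_le] at h2
    have h3 : Z.index * C.index = m := by
      rw [← hPi]
      exact Subgroup.relIndex_mul_index hPC
    have h4 : Z.index ≤ deg (θ : C → ℂ) := by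
      refine Nat.le_of_mul_le_mul_left ?_ (Nat.pos_of_ne_zero (Subgroup.index_ne_zero_of_finite (H := C)))
      rw [mul_comm C.index Z.index, h3]
      exact h2
    have h5 : deg (θ : C → ℂ) * deg (θ : C → ℂ) ≤ deg (θ : C → ℂ) := le_trans h1 h4
    have h6 : deg (θ : C → ℂ) = 1 := by
      have := deg_pos θ.2
      nlinarith
    have h7 : Z.index ≤ 1 := h6 ▸ h4
    refine le_antisymm (Subgroup.relIndex_eq_one.mp ?_) hPC
    have := Nat.pos_of_ne_zero (Subgroup.index_ne_zero_of_finite (H := Z))
    show Z.index = 1
    omega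
  rcases Nat.lt_or_ge 1 m with hm1 | hm1
  · right
    obtain ⟨A, hA⟩ := Subgroup.exists_right_complement'_of_coprime (N := (P : Subgroup G))
      (by rw [hPc, hPi]; exact hp.coprime_iff_not_dvd.mpr hpm)
    have hAc : Nat.card A = m := by rw [← hPi, ← hA.symm.index_eq_card]
    have hdisj : ∀ x ∈ (P : Subgroup G), x ∈ A → x = 1 := fun x hx hxA =>
      Subgroup.disjoint_def.mp hA.disjoint hx hxA
    have hfrob : Cfsg.IsFrobeniusComplement A := by
      refine ⟨fun h => ?_, fun h => ?_, fun g hg => ?_⟩
      · rw [h, Subgroup.card_bot] at hAc; omega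
      · rw [h, Subgroup.card_top, hcard] at hAc; nlinarith [hp.two_le]
      · rw [eq_bot_iff]
        rintro x ⟨hxA, hxg⟩
        replace hxg : x ∈ MulAut.conj g • A := hxg
        replace hxA : x ∈ A := hxA
        rw [Cfsg.Agent.Solv.mem_conj_smul] at hxg
        obtain ⟨⟨u, a⟩, rfl⟩ := hA.2 g
        simp only at hg hxg
        have hu : (u : G) ≠ 1 := fun h => hg (by simpa [h] using a.2)
        have h1 : (u : G)⁻¹ * x * u ∈ A := by
          have := A.mul_mem (A.mul_mem a.2 hxg) (A.inv_mem a.2)
          rwa [show (a : G) * (((u : G) * a)⁻¹ * x * ((u : G) * a)) * (a : G)⁻¹ =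
            (u : G)⁻¹ * x * u by group] at this
        have h2 : x⁻¹ * ((u : G)⁻¹ * x * u) = 1 := by
          refine hdisj _ ?_ (A.mul_mem (A.inv_mem hxA) h1)
          rw [show x⁻¹ * ((u : G)⁻¹ * x * u) = (x⁻¹ * (u : G)⁻¹ * x⁻¹⁻¹) * u by group]
          exact (P : Subgroup G).mul_mem (hPn.conj_mem _ ((P : Subgroup G).inv_mem u.2) _) u.2
        have h3 : (u : G) * x = x * u := by
          have h4 : x = (u : G)⁻¹ * x * u := inv_mul_eq_one.mp h2
          calc (u : G) * x = u * ((u : G)⁻¹ * x * u) := by rw [← h4]
            _ = x * u := by group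
        rw [Subgroup.mem_bot]
        refine hdisj x ?_ hxA
        rw [← hCP, hC, Subgroup.mem_centralizer_iff]
        intro y hy
        obtain ⟨k, hk⟩ := mem_zpowers_of_prime_card hPc
          (g := u) (g' := (⟨y, hy⟩ : (P : Subgroup G))) (fun h => hu (congrArg Subtype.val h))
        have hk' : (u : G) ^ k = y := congrArg Subtype.val hk
        rw [← hk']
        exact (Commute.zpow_left h3 k).eq
    exact ⟨A, hfrob, by rw [Cfsg.Agent.Solv.frob_kernel_card hfrob, hA.index_eq_card, hPc]⟩
  · left
    have hm1' : m = 1 := by omega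
    have hG : Nat.card G = p := by rw [hcard, hm1', mul_one]
    exact ⟨isCyclic_of_prime_card hG, hG⟩

end Cfsg.Agent.S4796
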