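import Cfsg.Statements.S4797
import Cfsg.Agent.Lib.Char.Codegree

set_option autoImplicit false
open Cfsg
open scoped ComplexConjugate

namespace Cfsg.Agent.S4797

/-- The codegree of an irreducible complex character χ of a finite group G is [G : ker χ] / χ(1), where ker χ is the set of elements at which χ takes the value χ(1). A non-trivial finite group is perfect if and only if no irreducible complex character of it has prime codegree. -/
theorem result {G : Type*} [Group G] [Finite G] [Nontrivial G] : commutator G = ⊤ ↔ ∀ χ : Cfsg.IrrCharacter G, ¬ ((Nat.card G / (Nat.card {g : G // (χ : G → ℂ) g = (χ : G → ℂ) 1} * Cfsg.charDegree (χ : G → ℂ)))).Prime := by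
  classical
  haveI := Fintype.ofFinite G
  constructor
  · intro hG χ hp
    obtain ⟨K, hKn, hK⟩ := Char.exists_charKernel (Char.irr_isCharacter χ.2)
    haveI := hKn
    rw [Char.codegree_eq χ hK] at hp
    have hd := Char.charDegree_dvd_index_kernel χ hK
    set n := Cfsg.charDegree (χ : G → ℂ) with hn
    set p := K.index / n with hpdef
    haveI := Fact.mk hp
    have hidx : K.index = p * n := (Nat.div_mul_cancel hd).symm
    have hn0 : 0 < n := Nat.pos_of_ne_zero fun h => by
      rw [h, mul_zero] at hidx
      exact Subgroup.index_ne_zero_of_finite hidx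
    set s : Finset (IrrCharacter G) := Finset.univ.filter fun ψ =>
      ∀ x ∈ K, (ψ : G → ℂ) x = (ψ : G → ℂ) 1
    have hs := Char.sum_sq_quotient K s fun ψ => by simp [s]
    have hχs : χ ∈ s := by simp only [s, Finset.mem_filter, Finset.mem_univ, true_and]; exact fun x hx => (hK x).mp hx
    have hle : n ^ 2 ≤ p * n := by
      rw [← hidx, ← hs]
      exact Finset.single_le_sum (f := fun ψ : IrrCharacter G => Cfsg.charDegree (ψ : G → ℂ) ^ 2)
        (fun _ _ => Nat.zero_le _) hχs
    have hnp : n < p := by
      refine lt_of_le_of_ne (Nat.le_of_mul_le_mul_right (by rwa [pow_two] at hle) hn0) fun e => ?_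
      let one : IrrCharacter G := ⟨fun _ => 1, Char.isIrrCharacter_one⟩
      have hone : Cfsg.charDegree ((one : IrrCharacter G) : G → ℂ) = 1 := by
        simp [one, Cfsg.charDegree]
      have hne : one ≠ χ := fun h => by
        have : n = 1 := by rw [hn, ← h]; exact hone
        exact hp.one_lt.ne' (e.symm.trans this)
      have h2 : ∑ ψ ∈ {one, χ}, Cfsg.charDegree (ψ : G → ℂ) ^ 2 ≤
          ∑ ψ ∈ s, Cfsg.charDegree (ψ : G → ℂ) ^ 2 := by
        refine Finset.sum_le_sum_of_subset (Finset.insert_subset ?_ (Finset.singleton_subset_iff.mpr hχs))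
        simp [s, one]
      rw [Finset.sum_pair hne, hone, hs, hidx, ← hn, ← e] at h2
      nlinarith
    haveI := Fintype.ofFinite (G ⧸ K)
    have hQ : commutator (G ⧸ K) = ⊤ := by
      have := congrArg (Subgroup.map (QuotientGroup.mk' K)) hG
      rwa [commutator_def, Subgroup.map_commutator, ← MonoidHom.range_eq_map,
        MonoidHom.range_eq_top.mpr (QuotientGroup.mk'_surjective K)] at this
    have hcard : Nat.card (G ⧸ K) = p * n := hidx
    obtain ⟨P⟩ : Nonempty (Sylow p (G ⧸ K)) := inferInstance
    have hPcard : Nat.card P = p := by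
      rw [P.card_eq_multiplicity, hcard, Nat.factorization_mul hp.ne_zero hn0.ne',
        Finsupp.add_apply, hp.factorization_self,
        Nat.factorization_eq_zero_of_not_dvd (fun h => absurd (Nat.le_of_dvd hn0 h) (by omega)),
        pow_one]
    have hone : Nat.card (Sylow p (G ⧸ K)) = 1 := by
      have h1 : Nat.card (Sylow p (G ⧸ K)) ∣ n := by
        have h2 := P.card_dvd_index
        have h3 := Subgroup.card_mul_index (P : Subgroup (G ⧸ K))
        rw [hPcard, hcard] at h3
        rwa [Nat.eq_of_mul_eq_mul_left hp.pos h3] at h2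
      have h2 := card_sylow_modEq_one p (G ⧸ K)
      have h3 : Nat.card (Sylow p (G ⧸ K)) < p := (Nat.le_of_dvd hn0 h1).trans_lt hnp
      exact Nat.ModEq.eq_of_lt_of_lt h2 h3 hp.one_lt
    haveI : Subsingleton (Sylow p (G ⧸ K)) := (Nat.card_eq_one_iff_unique.mp hone).1
    haveI hPn : (P : Subgroup (G ⧸ K)).Normal := Sylow.normal_of_subsingleton P
    haveI hPc : IsCyclic P := isCyclic_of_prime_card hPcard
    have hcomm : ∀ a b : MulAut P, a * b = b * a := fun a b =>
      (IsCyclic.mulAutMulEquiv P).injective (by simp only [map_mul, mul_comm])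
    have hker : commutator (G ⧸ K) ≤ (MulAut.conjNormal : G ⧸ K →* MulAut P).ker := by
      rw [commutator_def, Subgroup.commutator_le]
      intro a _ b _
      rw [MonoidHom.mem_ker, map_commutatorElement, commutatorElement_eq_one_iff_mul_comm]
      exact hcomm _ _
    rw [hQ, top_le_iff] at hker
    have hcentral : ∀ x : P, ∀ g : G ⧸ K, g * x * g⁻¹ = x := fun x g => by
      have : (MulAut.conjNormal : G ⧸ K →* MulAut P) g = 1 :=
        MonoidHom.mem_ker.mp (hker ▸ Subgroup.mem_top g)
      have h2 := congrArg Subtype.val (DFunLike.congr_fun this x)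
      rwa [MulAut.conjNormal_apply] at h2
    have hNC : Subgroup.normalizer ((P : Subgroup (G ⧸ K)) : Set (G ⧸ K)) ≤
        Subgroup.centralizer ((P : Subgroup (G ⧸ K)) : Set (G ⧸ K)) := fun g _ x hx => by
      have := hcentral ⟨x, hx⟩ g
      rw [mul_inv_eq_iff_eq_mul] at this
      exact this.symm
    have hcompl := MonoidHom.ker_transferSylow_isComplement' P hNC
    have htop : (MonoidHom.transferSylow P hNC).ker = ⊤ := by
      rw [← top_le_iff, ← hQ, commutator_def, Subgroup.commutator_le]
      intro a _ b _
      rw [MonoidHom.mem_ker, map_commutatorElement, commutatorElement_eq_one_iff_mul_comm]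
      haveI : IsMulCommutative P := inferInstance
      exact mul_comm' _ _
    rw [htop] at hcompl
    have := hcompl.card_mul
    rw [Subgroup.card_top, hPcard] at this
    exact hp.one_lt.ne' (Nat.eq_of_mul_eq_mul_left Nat.card_pos (this.trans (mul_one _).symm))
  · intro h
    by_contra hne
    have hidx : (commutator G).index ≠ 1 := fun h1 => hne (Subgroup.index_eq_one.mp h1)
    obtain ⟨q, hq, hqd⟩ := Nat.exists_prime_and_dvd hidx
    haveI := Fact.mk hq
    haveI : Finite (G →* ℂˣ) := Nat.finite_of_card_ne_zero
      (by rw [Char.card_hom_units]; exact Subgroup.index_ne_zero_of_finite)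
    obtain ⟨l, hl⟩ := exists_prime_orderOf_dvd_card' (G := G →* ℂˣ) q (by rwa [Char.card_hom_units])
    refine h ⟨_, Char.isIrrCharacter_linear l⟩ ?_
    haveI : l.ker.Normal := MonoidHom.normal_ker l
    have hK : ∀ g : G, g ∈ l.ker ↔ (l g : ℂ) = (l 1 : ℂ) := fun g => by
      rw [MonoidHom.mem_ker, map_one, Units.val_one, Units.val_eq_one]
    rw [Char.codegree_eq _ hK]
    have hdeg : Cfsg.charDegree (fun g : G => (l g : ℂ)) = 1 := by simp [Cfsg.charDegree]
    rw [hdeg, Nat.div_one, Subgroup.index_ker]
    have hle : l.range ≤ rootsOfUnity q ℂ := by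
      rintro _ ⟨g, rfl⟩
      rw [mem_rootsOfUnity, ← MonoidHom.pow_apply, ← hl, pow_orderOf_eq_one, MonoidHom.one_apply]
    have hdvd := Subgroup.card_dvd_of_le hle
    haveI : NeZero q := ⟨hq.ne_zero⟩
    rw [Complex.card_rootsOfUnity] at hdvd
    rcases (Nat.dvd_prime hq).mp hdvd with h1 | h1
    · exfalso
      rw [Subgroup.card_eq_one, MonoidHom.range_eq_bot_iff] at h1
      rw [h1, orderOf_one] at hl
      exact hq.one_lt.ne hl
    · rwa [h1]

end Cfsg.Agent.S4797
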