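import Cfsg.Statements.S4798
import Cfsg.Agent.Lib.Char.Codegree
import Cfsg.Agent.Lib.Char.Induction

set_option autoImplicit false
open Cfsg
open scoped ComplexConjugate

namespace Cfsg.Agent.S4798

/-- Let p be a prime and χ a faithful irreducible complex character of the finite group G (χ(g) = χ(1) only for g = 1), so that its codegree is #G / χ(1). Then #G / χ(1) is a power of p if and only if χ is induced from a character of a Sylow p-subgroup of G. -/
theorem result {G : Type*} [Group G] [Fintype G] (p : ℕ) [Fact p.Prime] (χ : Cfsg.IrrCharacter G) (hfaith : ∀ g : G, (χ : G → ℂ) g = (χ : G → ℂ) 1 → g = 1) : (∃ k : ℕ, Nat.card G = p ^ k * Cfsg.charDegree (χ : G → ℂ)) ↔ ∃ (P : Sylow p G) (θ : ↥(P : Subgroup G) → ℂ), Cfsg.IsCharacter ↥(P : Subgroup G) θ ∧ (χ : G → ℂ) = Cfsg.indFun (P : Subgroup G) θ := by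
  classical
  have hp : p.Prime := Fact.out
  have hd := Char.deg_dvd_card χ.2
  have hn := Char.char_one_eq_deg (Char.irr_isCharacter χ.2)
  constructor
  · rintro ⟨k, hk⟩
    rw [Char.charDegree_eq_deg] at hk
    obtain ⟨P⟩ : Nonempty (Sylow p G) := inferInstance
    haveI := Fintype.ofFinite (P : Subgroup G)
    set a := (Nat.card G).factorization p with ha
    have hP : Nat.card P = p ^ a := P.card_eq_multiplicity
    have hG : p ^ a * (P : Subgroup G).index = Nat.card G := by
      rw [← hP]; exact Subgroup.card_mul_index _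
    have hk_le : k ≤ a := (hp.pow_dvd_iff_le_factorization Nat.card_pos.ne').mp (hk ▸ dvd_mul_right _ _)
    have hdeg : Char.deg (χ : G → ℂ) = (P : Subgroup G).index * p ^ (a - k) := by
      refine Nat.eq_of_mul_eq_mul_left (pow_pos hp.pos k) ?_
      rw [← hk, ← hG, ← Nat.mul_assoc, mul_comm (p ^ k) _, Nat.mul_assoc, ← pow_add,
        Nat.add_sub_cancel' hk_le, mul_comm]
    obtain ⟨m, hm⟩ := Char.exists_decomposition
      (Char.isCharacter_comp (P : Subgroup G).subtype (Char.irr_isCharacter χ.2))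
    have hsum : Char.deg (χ : G → ℂ) = ∑ ψ, m ψ * Char.deg (ψ : ↥(P : Subgroup G) → ℂ) := by
      have := congrFun hm 1
      simp only [Function.comp_apply, map_one, Finset.sum_apply, Pi.smul_apply, nsmul_eq_mul,
        Pi.natCast_apply, Pi.mul_apply] at this
      rw [hn, Finset.sum_congr rfl (g := fun ψ => ((m ψ * Char.deg (ψ : ↥(P : Subgroup G) → ℂ) : ℕ) : ℂ))
        (fun ψ _ => by rw [Nat.cast_mul, Char.char_one_eq_deg (Char.irr_isCharacter ψ.2)]),
        ← Nat.cast_sum] at this
      exact_mod_cast this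
    obtain ⟨ψ, hψm, hψd⟩ : ∃ ψ : IrrCharacter (P : Subgroup G),
        m ψ ≠ 0 ∧ Char.deg (ψ : ↥(P : Subgroup G) → ℂ) ≤ p ^ (a - k) := by
      by_contra hall
      push Not at hall
      have hdiv : p ^ (a - k + 1) ∣ Char.deg (χ : G → ℂ) := by
        rw [hsum]
        refine Finset.dvd_sum fun ψ _ => ?_
        rcases eq_or_ne (m ψ) 0 with h | h
        · simp [h]
        · obtain ⟨i, -, hi⟩ := (Nat.dvd_prime_pow hp).mp (hP ▸ Char.deg_dvd_card ψ.2)
          rw [hi]
          exact Dvd.dvd.mul_left (pow_dvd_pow p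
            ((Nat.pow_lt_pow_iff_right hp.one_lt).mp (hi ▸ hall ψ h))) _
      rw [hdeg, mul_comm, pow_succ] at hdiv
      exact P.not_dvd_index ((Nat.mul_dvd_mul_iff_left (pow_pos hp.pos _)).mp hdiv)
    refine ⟨P, ψ, Char.irr_isCharacter ψ.2, ?_⟩
    have hind := Char.isCharacter_indFun (P : Subgroup G) (Char.irr_isCharacter ψ.2)
    obtain ⟨M, hM⟩ := Char.exists_decomposition hind
    have hMχ : 0 < M χ := by
      refine Nat.pos_of_ne_zero fun h0 => hψm ?_
      have h1 := Char.decomposition_coeff M hM χ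
      rw [h0, Char.frobenius _ _ (Char.isClassFunction_character (Char.irr_isCharacter χ.2))] at h1
      have h2 := Char.decomposition_coeff m hm ψ
      rw [← Char.classInner_symm, show ((χ : G → ℂ) ∘ (P : Subgroup G).subtype) =
        (fun h : (P : Subgroup G) => (χ : G → ℂ) h) from rfl, h1] at h2
      simpa using h2.symm
    have hone : ∑ φ, M φ * Char.deg (φ : G → ℂ) ≤ Char.deg (χ : G → ℂ) := by
      have := congrFun hM 1
      rw [Char.indFun_one, Char.char_one_eq_deg (Char.irr_isCharacter ψ.2)] at this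
      simp only [Finset.sum_apply, Pi.smul_apply, nsmul_eq_mul, Pi.natCast_apply, Pi.mul_apply] at this
      rw [Finset.sum_congr rfl (g := fun φ => ((M φ * Char.deg (φ : G → ℂ) : ℕ) : ℂ))
        (fun φ _ => by rw [Nat.cast_mul, Char.char_one_eq_deg (Char.irr_isCharacter φ.2)]),
        ← Nat.cast_sum, ← Nat.cast_mul, Nat.cast_inj] at this
      rw [← this, hdeg]
      exact Nat.mul_le_mul_left _ hψd
    rw [← Finset.add_sum_erase _ _ (Finset.mem_univ χ)] at hone
    have hpos := Char.deg_pos χ.2
    have hM1 : M χ = 1 := by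
      have h3 : M χ * Char.deg (χ : G → ℂ) ≤ 1 * Char.deg (χ : G → ℂ) := by rw [one_mul]; exact le_trans (Nat.le_add_right _ _) hone
      have := Nat.le_of_mul_le_mul_right h3 hpos
      omega
    rw [hM1, one_mul, add_le_iff_nonpos_right, nonpos_iff_eq_zero, Finset.sum_eq_zero_iff] at hone
    rw [hM, Finset.sum_eq_single χ, hM1, one_smul]
    · intro φ hφ hne
      have := hone φ (Finset.mem_erase.mpr ⟨hne, hφ⟩)
      rcases mul_eq_zero.mp this with h | h
      · rw [h, zero_smul]
      · exact absurd h (Char.deg_pos φ.2).ne'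
    · simp
  · rintro ⟨P, θ, hθ, hind⟩
    have hdeg : Char.deg (χ : G → ℂ) = (P : Subgroup G).index * Char.deg θ := by
      have := congrFun hind 1
      rw [Char.indFun_one, hn, Char.char_one_eq_deg hθ] at this
      exact_mod_cast this
    rw [hdeg, ← Subgroup.index_mul_card (P : Subgroup G)] at hd
    rw [mul_comm (P : Subgroup G).index, mul_comm (P : Subgroup G).index,
      Nat.mul_dvd_mul_iff_right (Nat.pos_of_ne_zero Subgroup.index_ne_zero_of_finite)] at hd
    rw [P.card_eq_multiplicity] at hd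
    obtain ⟨i, hi, e⟩ := (Nat.dvd_prime_pow hp).mp hd
    refine ⟨(Nat.card G).factorization p - i, ?_⟩
    rw [Char.charDegree_eq_deg, hdeg, e, ← mul_assoc, mul_comm _ (P : Subgroup G).index, mul_assoc,
      ← pow_add, Nat.sub_add_cancel hi, ← P.card_eq_multiplicity, Subgroup.index_mul_card]

end Cfsg.Agent.S4798
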