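import Cfsg.Statements.S4801
import Cfsg.Agent.Lib.Char.Codegree

set_option autoImplicit false
open Cfsg
open scoped ComplexConjugate

namespace Cfsg.Agent.S4801

/-- The codegree of an irreducible complex character χ of a finite group G is [G : ker χ] / χ(1), where ker χ is the set of elements at which χ takes the value χ(1). Let S be a finite simple group and G a finite group such that every codegree of an irreducible character of S is a codegree of an irreducible character of G. Then the order of S divides the order of G. -/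
theorem result {S : Type*} [Group S] [Finite S] (hS : IsSimpleGroup S) {G : Type*} [Group G] [Finite G] (hsub : ∀ χ : Cfsg.IrrCharacter S, ∃ ψ : Cfsg.IrrCharacter G, (Nat.card S / (Nat.card {g : S // (χ : S → ℂ) g = (χ : S → ℂ) 1} * Cfsg.charDegree (χ : S → ℂ))) = (Nat.card G / (Nat.card {g : G // (ψ : G → ℂ) g = (ψ : G → ℂ) 1} * Cfsg.charDegree (ψ : G → ℂ)))) : Nat.card S ∣ Nat.card G := by
  classical
  refine (Nat.dvd_iff_prime_pow_dvd_dvd _ _).mpr fun q k hq hk => ?_
  rcases Nat.eq_zero_or_pos k with rfl | hk0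
  · simp
  have hqS : q ∣ Nat.card S := (dvd_pow_self q hk0.ne').trans hk
  obtain ⟨χ, hne, hdeg⟩ := Char.exists_irr_ne_one_deg_prime_to (G := S) hq hqS
  obtain ⟨K, hKn, hK⟩ := Char.exists_charKernel (Char.irr_isCharacter χ.2)
  haveI := hKn
  have hbot : K = ⊥ := by
    refine (hS.eq_bot_or_eq_top_of_normal K hKn).resolve_right fun htop => hne ?_
    have hconst : ∀ g, (χ : S → ℂ) g = (χ : S → ℂ) 1 := fun g => (hK g).mp (htop ▸ Subgroup.mem_top g)
    haveI := Fintype.ofFinite S
    have h1 := Char.irr_self χ.2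
    have e : (χ : S → ℂ) = (χ : S → ℂ) 1 • (fun _ => 1) := funext fun g => by simp [hconst g]
    rw [e, Char.classInner_smul_left, Char.classInner_smul_right,
      Char.irr_self Char.isIrrCharacter_one, mul_one, Char.conj_char_one (Char.irr_isCharacter χ.2),
      Char.char_one_eq_deg (Char.irr_isCharacter χ.2), ← Nat.cast_mul, Nat.cast_eq_one,
      mul_eq_one] at h1
    rw [e, Char.char_one_eq_deg (Char.irr_isCharacter χ.2), h1.1, Nat.cast_one, one_smul]
  obtain ⟨ψ, hψ⟩ := hsub χ
  refine dvd_trans ?_ ((hψ ▸ Char.codegree_dvd_card ψ :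
    Nat.card S / (Nat.card {g : S // (χ : S → ℂ) g = (χ : S → ℂ) 1} *
      Cfsg.charDegree (χ : S → ℂ)) ∣ Nat.card G))
  have hd := Char.charDegree_dvd_index_kernel χ hK
  rw [Char.codegree_eq χ hK]
  rw [hbot, Subgroup.index_bot] at hd ⊢
  exact ((Nat.Coprime.pow_left k (hq.coprime_iff_not_dvd.mpr hdeg)).dvd_of_dvd_mul_right
    (by rwa [Nat.div_mul_cancel hd]))

end Cfsg.Agent.S4801
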