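import Cfsg.Statements.S4802
import Cfsg.Agent.Lib.Char.Convolution
import Cfsg.Agent.Lib.Char.Inflate

set_option autoImplicit false
open Cfsg
open scoped ComplexConjugate

namespace Cfsg.Agent.S4802

/-- Let N < M be normal subgroups of the finite group G and g ∈ M ∖ N. Then the conjugacy class of g is exactly M ∖ N if and only if every irreducible complex character of G whose kernel contains N takes the same value at all elements of M ∖ N, and every irreducible complex character of G whose kernel does not contain N vanishes at g. -/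
theorem result {G : Type*} [Group G] [Finite G] (N M : Subgroup G) [N.Normal] [M.Normal] (hNM : N < M) (g : G) (hgM : g ∈ M) (hgN : g ∉ N) : {h : G | IsConj g h} = (M : Set G) \ (N : Set G) ↔ ((∀ χ : Cfsg.IrrCharacter G, (∀ x ∈ N, (χ : G → ℂ) x = (χ : G → ℂ) 1) → ∀ x ∈ M, x ∉ N → ∀ y ∈ M, y ∉ N → (χ : G → ℂ) x = (χ : G → ℂ) y) ∧ (∀ χ : Cfsg.IrrCharacter G, (∃ x ∈ N, (χ : G → ℂ) x ≠ (χ : G → ℂ) 1) → (χ : G → ℂ) g = 0)) := by
  classical
  haveI := Fintype.ofFinite G
  haveI := Fintype.ofFinite (G ⧸ N)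
  set K : Finset (IrrCharacter G) :=
    Finset.univ.filter fun χ => ∀ x ∈ N, (χ : G → ℂ) x = (χ : G → ℂ) 1 with hK
  constructor
  · intro h
    have hcl : ∀ x ∈ M, x ∉ N → IsConj g x := fun x hx hxN => by
      have : x ∈ {h : G | IsConj g h} := by rw [h]; exact ⟨hx, hxN⟩
      exact this
    refine ⟨fun χ _ x hx hxN y hy hyN => ?_, fun χ hχ => ?_⟩
    · obtain ⟨c, hc⟩ := isConj_iff.mp ((hcl x hx hxN).symm.trans (hcl y hy hyN))
      rw [← hc, Char.isClassFunction_character (Char.irr_isCharacter χ.2)]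
    -- the preimage of the class of `gN` is the class of `g`
    have hpre : ∀ x : G, IsConj (QuotientGroup.mk' N g) (QuotientGroup.mk' N x) ↔ IsConj g x := by
      intro x
      refine ⟨fun hx => ?_, fun hx => (QuotientGroup.mk' N).map_isConj hx⟩
      obtain ⟨c, hc⟩ := isConj_iff.mp hx
      obtain ⟨d, rfl⟩ := QuotientGroup.mk'_surjective N c
      rw [← map_inv, ← map_mul, ← map_mul, QuotientGroup.mk'_eq_mk'] at hc
      obtain ⟨n, hn, e⟩ := hc
      refine hcl x ?_ ?_
      · rw [← e]
        exact mul_mem (‹M.Normal›.conj_mem g hgM d) (hNM.le hn)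
      · intro hx
        rw [← e] at hx
        have h2 : d * g * d⁻¹ ∈ N := (Subgroup.mul_mem_cancel_right N hn).mp hx
        have h3 := ‹N.Normal›.conj_mem _ h2 d⁻¹
        exact hgN (by simpa [mul_assoc] using h3)
    have hcard : Nat.card {x : G // IsConj g x} =
        Nat.card N * Nat.card {q : G ⧸ N // IsConj (QuotientGroup.mk' N g) q} := by
      have h1 := Char.sum_comp_mk (N := N)
        (fun q : G ⧸ N => if IsConj (QuotientGroup.mk' N g) q then (1 : ℂ) else 0)
      simp only [Finset.sum_boole] at h1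
      rw [Nat.card_eq_fintype_card, Fintype.card_subtype,
        Nat.card_eq_fintype_card (α := {q : G ⧸ N // IsConj (QuotientGroup.mk' N g) q}),
        Fintype.card_subtype]
      have e : (Finset.univ.filter fun x : G => IsConj g x) = Finset.univ.filter
          fun x : G => IsConj (QuotientGroup.mk' N g) ((x : G ⧸ N)) :=
        Finset.filter_congr fun x _ => (hpre x).symm
      rw [e]
      exact_mod_cast h1
    have hall := Char.second_orth g g
    rw [if_pos (IsConj.refl g), ← Finset.sum_add_sum_compl K] at hall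
    have hquot := Char.second_orth (QuotientGroup.mk' N g) (QuotientGroup.mk' N g)
    rw [if_pos (IsConj.refl _)] at hquot
    have hKsum : ∑ ψ ∈ K, (ψ : G → ℂ) g * (starRingEnd ℂ) ((ψ : G → ℂ) g) =
        ∑ ψ : IrrCharacter (G ⧸ N), (ψ : G ⧸ N → ℂ) (QuotientGroup.mk' N g) *
          (starRingEnd ℂ) ((ψ : G ⧸ N → ℂ) (QuotientGroup.mk' N g)) := by
      rw [Finset.sum_subtype K (p := fun χ : IrrCharacter G => ∀ x ∈ N, (χ : G → ℂ) x = (χ : G → ℂ) 1)
        (fun χ => by simp [hK])]
      exact (Fintype.sum_equiv (Char.inflateEquiv N) _ _ fun ψ => rfl).symm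
    rw [hKsum, hquot] at hall
    have hzero : ∑ ψ ∈ Kᶜ, (ψ : G → ℂ) g * (starRingEnd ℂ) ((ψ : G → ℂ) g) = 0 := by
      have hG : (Nat.card G : ℂ) = (Nat.card N : ℂ) * (Nat.card (G ⧸ N) : ℂ) := by
        rw [Subgroup.card_eq_card_quotient_mul_card_subgroup N, Nat.cast_mul, mul_comm]
      have hN0 : (Nat.card N : ℂ) ≠ 0 := Nat.cast_ne_zero.mpr Nat.card_pos.ne'
      rw [hcard, Nat.cast_mul, hG, mul_div_mul_left _ _ hN0] at hall
      exact add_eq_left.mp hall
    simp only [Complex.mul_conj] at hzero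
    rw [← Complex.ofReal_sum, Complex.ofReal_eq_zero] at hzero
    have hmem : χ ∈ Kᶜ := by
      obtain ⟨x, hx, hne⟩ := hχ
      simp only [hK, Finset.mem_compl, Finset.mem_filter, Finset.mem_univ, true_and]
      exact fun hall => hne (hall x hx)
    exact Complex.normSq_eq_zero.mp
      ((Finset.sum_eq_zero_iff_of_nonneg fun _ _ => Complex.normSq_nonneg _).mp hzero χ hmem)
  · rintro ⟨ha, hb⟩
    ext x
    refine ⟨fun hx => ?_, fun hx => ?_⟩
    · obtain ⟨c, rfl⟩ := isConj_iff.mp hx
      refine ⟨‹M.Normal›.conj_mem g hgM c, fun hmem => ?_⟩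
      have h3 := ‹N.Normal›.conj_mem _ hmem c⁻¹
      exact hgN (by simpa [mul_assoc] using h3)
    · by_contra hc
      have hx2 := Char.second_orth x g
      rw [if_neg fun h : IsConj x g => hc h.symm] at hx2
      have hgg := Char.second_orth g g
      rw [if_pos (IsConj.refl g), Finset.sum_congr rfl (g := fun χ : IrrCharacter G =>
        (χ : G → ℂ) x * (starRingEnd ℂ) ((χ : G → ℂ) g)) ?_, hx2] at hgg
      · exact div_ne_zero (Nat.cast_ne_zero.mpr Nat.card_pos.ne')
          (Nat.cast_ne_zero.mpr (Char.card_conjClass_ne_zero g)) hgg.symm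
      · intro χ _
        by_cases hker : ∀ y ∈ N, (χ : G → ℂ) y = (χ : G → ℂ) 1
        · rw [ha χ hker g hgM hgN x hx.1 hx.2]
        · push Not at hker
          rw [hb χ hker]
          simp

end Cfsg.Agent.S4802
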