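import Cfsg.Statements.S4807
import Cfsg.Agent.Lib.Char.RelMcKay.Main

set_option autoImplicit false
open Cfsg Cfsg.Agent.Char Cfsg.Agent.Char.RelMcKay

attribute [local instance] Fintype.ofFinite

namespace Cfsg.Agent.S4807

/-- Let p be a prime and G a finite p-solvable group, L a normal subgroup of G, S a Sylow p-subgroup of G and P the subgroup generated by L and S (so P/L is a Sylow p-subgroup of G/L), and let ν be an irreducible complex character of L that is invariant under conjugation by every element of P. Let N be the normalizer of P in G (it contains L). Then the number of irreducible characters of G of degree prime to p lying over ν (restriction to L not orthogonal to ν) equals the number of irreducible characters of N of degree prime to p lying over ν. -/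
theorem result {G : Type*} [Group G] [Finite G] (p : ℕ) [Fact p.Prime] (hG : Cfsg.IsPSolvable p G) (L : Subgroup G) [L.Normal] (S : Sylow p G) (P : Subgroup G) (hP : P = L ⊔ (S : Subgroup G)) (hLN : L ≤ (Subgroup.normalizer ((P : Subgroup G) : Set G))) (ν : Cfsg.IrrCharacter ↥L) (hν : ∀ x ∈ P, Cfsg.IsConjCharOf L x (ν : ↥L → ℂ) (ν : ↥L → ℂ)) : Nat.card {χ : Cfsg.IrrCharacter G // ¬ p ∣ Cfsg.charDegree (χ : G → ℂ) ∧ (∑ᶠ l : ↥L, (χ : G → ℂ) (l : G) * (starRingEnd ℂ) ((ν : ↥L → ℂ) l)) ≠ 0} = Nat.card {ψ : Cfsg.IrrCharacter ↥(Subgroup.normalizer ((P : Subgroup G) : Set G)) // ¬ p ∣ Cfsg.charDegree (ψ : ↥(Subgroup.normalizer ((P : Subgroup G) : Set G)) → ℂ) ∧ (∑ᶠ l : ↥L, (ψ : ↥(Subgroup.normalizer ((P : Subgroup G) : Set G)) → ℂ) (Subgroup.inclusion hLN l) * (starRingEnd ℂ) ((ν : ↥L → ℂ) l)) ≠ 0} := by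
  set N := Subgroup.normalizer ((P : Subgroup G) : Set G) with hN
  have hiff : ∀ f : G → ℂ, inn L f (ν : L → ℂ) ≠ 0 ↔
      (∑ᶠ l : L, f l * (starRingEnd ℂ) ((ν : L → ℂ) l)) ≠ 0 := fun f => by
    simp only [inn, classInner, finsum_eq_sum_of_fintype]
    rw [mul_ne_zero_iff]
    exact and_iff_right (inv_ne_zero (Nat.cast_ne_zero.2 Nat.card_pos.ne'))
  have hLnorm : ∀ g : G, g ∈ Subgroup.normalizer (L : Set G) := fun g => by
    rw [Subgroup.normalizer_eq_top]; trivial
  have hν' : L ⊔ (S : Subgroup G) ≤ charStab L (ν : L → ℂ) := fun x hx =>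
    mem_charStab_iff.2 ⟨hLnorm x, fun m m' e => hν x (hP ▸ hx) m m' e⟩
  have h := main_count (Fact.out : p.Prime) hG _ ⊤ L (S : Subgroup G) le_top (fun g _ => hLnorm g)
    le_top S.isPGroup' (by rw [Subgroup.relIndex_top_right]; exact S.not_dvd_index) rfl ν hν'
  rw [top_inf_eq, ← hP, cnt_top] at h
  refine Eq.trans (Eq.trans ?_ h) ?_
  · refine Nat.card_congr (Equiv.subtypeEquivRight fun χ => ?_)
    rw [charDegree_eq_deg, hiff]
  · refine Nat.card_congr (Equiv.subtypeEquivRight fun ψ => ?_)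
    rw [charDegree_eq_deg, hiff]
    refine and_congr_right' (not_congr (Eq.congr_left ?_))
    refine finsum_congr fun l => ?_
    rw [extendByZero_mem N _ (hLN l.2)]
    rfl

end Cfsg.Agent.S4807
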