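import Cfsg.Statements.S4813
import Cfsg.Agent.Lib.Char.PrimeDegreesThree

set_option autoImplicit false
open Cfsg
open scoped ComplexConjugate

namespace Cfsg.Agent.S4813

/-- If every irreducible complex character of the finite group G of degree greater than one has prime degree, then G has at most three distinct irreducible character degrees. -/
theorem result {G : Type*} [Group G] [Finite G] (hprime : ∀ d ∈ Cfsg.charDegrees G, d = 1 ∨ d.Prime) : Nat.card ↥(Cfsg.charDegrees G) ≤ 3 := by
  classical
  haveI := Fintype.ofFinite G
  refine Cfsg.Agent.Char.PrimeDegrees.ncard_degrees_le fun χ => ?_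
  exact hprime _ ⟨χ, rfl⟩

end Cfsg.Agent.S4813
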