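import Cfsg.Statements.S4814
import Cfsg.Agent.Lib.Char.Convolution

set_option autoImplicit false
open Cfsg
open scoped ComplexConjugate

namespace Cfsg.Agent.S4814

/-- Let G be a finite group such that the sum, over the irreducible complex characters χ of G, of 1/χ(1)² is less than 2. Then every element of G is a product of two commutators. -/
theorem result {G : Type*} [Group G] [Finite G]
    (h : ∑ᶠ χ : Cfsg.IrrCharacter G, 1 / ‖(χ : G → ℂ) 1‖ ^ 2 < (2 : ℝ)) (g : G) :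
    ∃ a b c d : G, (a * b * a⁻¹ * b⁻¹) * (c * d * c⁻¹ * d⁻¹) = g := by
  classical
  haveI := Fintype.ofFinite G
  by_contra hne
  push Not at hne
  have h0 := Char.sum_commutator_pairs g
  rw [Finset.sum_eq_zero fun z _ => ?_] at h0
  swap
  · rw [mul_eq_zero, Nat.cast_eq_zero, Nat.cast_eq_zero, Nat.card_eq_zero, Nat.card_eq_zero]
    by_contra hh
    push Not at hh
    obtain ⟨⟨⟨u, hu⟩⟩, ⟨⟨v, hv⟩⟩⟩ := And.intro hh.1.1 hh.2.1
    exact hne u.1 u.2 v.1 v.2 (by rw [hu, hv]; group)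
  have h1 := (mul_eq_zero.mp h0.symm).resolve_left
    (pow_ne_zero _ (Nat.cast_ne_zero.mpr Nat.card_pos.ne'))
  let one : IrrCharacter G := ⟨fun _ => 1, Char.isIrrCharacter_one⟩
  rw [Char.finsum_irr, ← Finset.add_sum_erase _ _ (Finset.mem_univ one)] at h
  rw [← Finset.add_sum_erase _ _ (Finset.mem_univ one)] at h1
  have h2 : ∑ χ ∈ Finset.univ.erase one, ‖(χ : G → ℂ) g / (χ : G → ℂ) 1 ^ 3‖ < 1 := by
    refine lt_of_le_of_lt (Finset.sum_le_sum fun χ _ => ?_) (?_ : ∑ χ ∈ Finset.univ.erase one,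
      1 / ‖(χ : G → ℂ) 1‖ ^ 2 < 1)
    · have hc := Char.irr_isCharacter χ.2
      obtain ⟨n, hn⟩ := Char.charOne_eq_natCast hc
      have hle := Char.char_norm_le hc g
      have hpos : (0 : ℝ) < ‖(χ : G → ℂ) 1‖ := norm_pos_iff.mpr (Char.irr_one_ne_zero χ.2)
      rw [norm_div, norm_pow, div_le_div_iff₀ (by positivity) (by positivity)]
      calc ‖(χ : G → ℂ) g‖ * ‖(χ : G → ℂ) 1‖ ^ 2 ≤ ‖(χ : G → ℂ) 1‖ * ‖(χ : G → ℂ) 1‖ ^ 2 := by
            gcongr
            refine hle.trans_eq ?_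
            rw [hn, Complex.norm_natCast, Complex.natCast_re]
        _ = 1 * ‖(χ : G → ℂ) 1‖ ^ 3 := by ring
    · simp only [one, norm_one, one_pow, div_one] at h ⊢
      linarith
  have h3 : ‖∑ χ ∈ Finset.univ.erase one, (χ : G → ℂ) g / (χ : G → ℂ) 1 ^ 3‖ = 1 := by
    have : ∑ χ ∈ Finset.univ.erase one, (χ : G → ℂ) g / (χ : G → ℂ) 1 ^ 3 = -1 := by
      simp only [one, one_pow, div_one] at h1 ⊢
      linear_combination h1
    rw [this, norm_neg, norm_one]
  have := norm_sum_le (Finset.univ.erase one) fun χ : IrrCharacter G =>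
    (χ : G → ℂ) g / (χ : G → ℂ) 1 ^ 3
  linarith

end Cfsg.Agent.S4814
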