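import Cfsg.Statements.S4825
import Cfsg.Agent.Lib.Char.SectionPart
import Cfsg.Agent.Lib.Char.Clifford
import Cfsg.Agent.Lib.Char.Congr

set_option autoImplicit false
open Cfsg
open scoped ComplexConjugate

namespace Cfsg.Agent.S4825

/-- Let p be a prime, G a finite group with Sylow p-subgroup P, M a maximal ideal of the algebraic integers containing p, and B a p-block of G with defect group P. Let N be a normal subgroup of G not containing P and θ an irreducible character of N. Then the number of irreducible characters in B of degree prime to p lying over θ (having θ as a constituent on restriction to N) is either 0 or at least 2, and when p ≤ 3 it is divisible by p. -/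
theorem result {G : Type*} [Group G] [Fintype G] (p : ℕ) [Fact p.Prime] (P : Sylow p G) (M : Ideal Cfsg.AlgInt) (hM : Cfsg.IsPModular p M) (B : Set (Cfsg.IrrCharacter G)) (hB : Cfsg.IsPBlock M B) (hBP : Cfsg.IsDefectGroup p M B P) (N : Subgroup G) [N.Normal] [Fintype N] (hPN : ¬ (P : Subgroup G) ≤ N) (θ : Cfsg.IrrCharacter N) :
    (Nat.card {χ : Cfsg.IrrCharacter G // χ ∈ B ∧ ¬ p ∣ Cfsg.charDegree (χ : G → ℂ) ∧ Cfsg.classInner (fun n : N => (χ : G → ℂ) n) (θ : N → ℂ) ≠ 0} = 0 ∨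
      2 ≤ Nat.card {χ : Cfsg.IrrCharacter G // χ ∈ B ∧ ¬ p ∣ Cfsg.charDegree (χ : G → ℂ) ∧ Cfsg.classInner (fun n : N => (χ : G → ℂ) n) (θ : N → ℂ) ≠ 0}) ∧
    (p ≤ 3 → p ∣ Nat.card {χ : Cfsg.IrrCharacter G // χ ∈ B ∧ ¬ p ∣ Cfsg.charDegree (χ : G → ℂ) ∧ Cfsg.classInner (fun n : N => (χ : G → ℂ) n) (θ : N → ℂ) ≠ 0}) := by
  classical
  have hp : p.Prime := Fact.out
  obtain ⟨x, hxP, hxN⟩ : ∃ x ∈ (P : Subgroup G), x ∉ N := by
    by_contra hno
    push Not at hno
    exact hPN hno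
  obtain ⟨k, hk⟩ := P.isPGroup' ⟨x, hxP⟩
  have hxk : x ^ p ^ k = 1 := congrArg Subtype.val hk
  obtain ⟨j, -, hj⟩ := (Nat.dvd_prime_pow hp).mp (orderOf_dvd_of_pow_eq_one hxk)
  set ϑ := Cfsg.indFun N (θ : N → ℂ) with hϑd
  have hϑ : Cfsg.IsClassFunction G ϑ := Char.isClassFunction_indFun N _
  have hoff : ∀ g : G, g ∉ N → ϑ g = 0 := by
    intro g hg
    simp only [hϑd, Cfsg.indFun]
    rw [Finset.sum_eq_zero fun y _ => Char.extendByZero_not_mem N _ fun hy => hg (by
      simpa [mul_assoc] using Subgroup.Normal.conj_mem inferInstance _ hy y), mul_zero]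
  have := Fintype.ofFinite (Subgroup.centralizer ({x} : Set G))
  have hz : ∀ c : Subgroup.centralizer ({x} : Set G), ¬ p ∣ orderOf c → ϑ (x * (c : G)) = 0 := by
    intro c hc
    refine hoff _ fun hmem => hxN ?_
    have hm : (x * (c : G)) ^ orderOf c = x ^ orderOf c := by
      rw [Commute.mul_pow (Char.cent_mul_comm c), ← Subgroup.orderOf_coe, pow_orderOf_eq_one, mul_one]
    have hcop : (orderOf x).Coprime (orderOf c) := by
      rw [hj]; exact Nat.Coprime.pow_left _ (hp.coprime_iff_not_dvd.mpr hc)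
    obtain ⟨a, ha⟩ := exists_pow_eq_self_of_coprime hcop.symm
    rw [← ha, ← hm]
    exact N.pow_mem (N.pow_mem hmem _) _
  have hvan := Char.blockPart_eq_zero_of_section hM ⟨j, hj⟩ hϑ hz hB 1 (by simp [hp.ne_one])
  rw [Subgroup.coe_one, mul_one, Char.blockPart_eq] at hvan
  choose d hd using fun χ : Cfsg.IrrCharacter G => Char.charOne_eq_natCast (Char.irr_isCharacter χ.2)
  have hdd : ∀ χ : Cfsg.IrrCharacter G, Cfsg.charDegree (χ : G → ℂ) = d χ := fun χ => by
    rw [Char.charDegree_eq_deg]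
    exact_mod_cast (Char.char_one_eq_deg (Char.irr_isCharacter χ.2)).symm.trans (hd χ)
  set S := Finset.univ.filter fun χ : Cfsg.IrrCharacter G =>
    χ ∈ B ∧ Cfsg.classInner (fun n : N => (χ : G → ℂ) n) (θ : N → ℂ) ≠ 0 with hS
  have hterm : ∀ χ ∈ S, (d χ : ℂ) * (χ : G → ℂ) x =
      ((Char.cliffOrbit N θ).card * (θ : N → ℂ) 1) *
        (Cfsg.classInner ϑ (χ : G → ℂ) * (χ : G → ℂ) x) := by
    intro χ hχ
    obtain ⟨a, ha⟩ := Char.classInner_natCast (Char.isCharacter_comp N.subtype (Char.irr_isCharacter χ.2))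
      (Char.irr_isCharacter θ.2)
    have hcl := congrFun (Char.clifford_restrict χ θ (Finset.mem_filter.mp hχ).2.2) 1
    simp only [Pi.smul_apply, smul_eq_mul, Finset.sum_apply, OneMemClass.coe_one] at hcl
    rw [Finset.sum_congr (s₁ := Char.cliffOrbit N θ)
        (g := fun _ => (θ : N → ℂ) 1) rfl fun φ hφ => by
        obtain ⟨g, rfl⟩ := Char.mem_cliffOrbit.mp hφ
        rw [Char.irrComp_apply, map_one],
      Finset.sum_const, nsmul_eq_mul, hd χ] at hcl
    have hinner : Cfsg.classInner ϑ (χ : G → ℂ) =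
        Cfsg.classInner (fun n : N => (χ : G → ℂ) n) (θ : N → ℂ) := by
      rw [hϑd, Char.frobenius N _ (Char.isClassFunction_character (Char.irr_isCharacter χ.2)),
        ← Char.classInner_symm, show (fun n : N => (χ : G → ℂ) n) = (χ : G → ℂ) ∘ N.subtype from rfl,
        ha, Complex.conj_natCast]
    rw [hinner, hcl]
    ring
  have hzero : ∑ χ ∈ S, (d χ : ℂ) * (χ : G → ℂ) x = 0 := by
    rw [Finset.sum_congr rfl hterm, ← Finset.mul_sum]
    convert mul_zero ((Char.cliffOrbit N θ).card * (θ : N → ℂ) 1) using 2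
    refine Eq.trans ?_ hvan
    refine Finset.sum_subset (fun χ hχ => Finset.mem_filter.mpr
      ⟨Finset.mem_univ _, (Finset.mem_filter.mp hχ).2.1⟩) fun χ hχ hnS => ?_
    have h0 : Cfsg.classInner (fun n : N => (χ : G → ℂ) n) (θ : N → ℂ) = 0 := by
      by_contra h0
      exact hnS (Finset.mem_filter.mpr ⟨Finset.mem_univ _, (Finset.mem_filter.mp hχ).2, h0⟩)
    rw [hϑd, Char.frobenius N _ (Char.isClassFunction_character (Char.irr_isCharacter χ.2)),
      ← Char.classInner_symm, h0, map_zero, zero_mul]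
  have hP' := Char.pmod_prime hM
  have hdvd : p ∣ ∑ χ ∈ S, d χ ^ 2 := by
    rw [← Char.memLI_natCast_iff hM]
    have h : Cfsg.MemLocalIdeal M (∑ χ ∈ S, (d χ : ℂ) * ((χ : G → ℂ) x - (χ : G → ℂ) 1)) :=
      Char.memLI_sum hP' _ _ fun χ _ => Char.memLI_mul_left hP' (Char.memLR_natCast hP' _)
        (Char.char_congr_deg hM (Char.irr_isCharacter χ.2) ⟨j, hj⟩)
    simp only [mul_sub, hd, Finset.sum_sub_distrib, hzero, zero_sub] at h
    have h' := Char.memLI_neg hP' h
    push_cast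
    simpa only [neg_neg, pow_two] using h'
  set X := S.filter fun χ => ¬ p ∣ d χ with hX
  have hXd : p ∣ ∑ χ ∈ X, d χ ^ 2 := by
    rw [← Finset.sum_filter_add_sum_filter_not S (fun χ => ¬ p ∣ d χ)] at hdvd
    refine (Nat.dvd_add_left (Finset.dvd_sum fun χ hχ => ?_)).mp hdvd
    exact dvd_pow (not_not.mp (Finset.mem_filter.mp hχ).2) two_ne_zero
  have hcard : Nat.card {χ : Cfsg.IrrCharacter G // χ ∈ B ∧ ¬ p ∣ Cfsg.charDegree (χ : G → ℂ) ∧
      Cfsg.classInner (fun n : N => (χ : G → ℂ) n) (θ : N → ℂ) ≠ 0} = X.card := by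
    rw [Nat.card_eq_fintype_card, Fintype.card_subtype]
    congr 1
    ext χ
    simp only [hX, hS, Finset.mem_filter, Finset.mem_univ, true_and, hdd]
    tauto
  rw [hcard]
  refine ⟨?_, fun hp3 => ?_⟩
  · by_contra hcon
    push Not at hcon
    obtain ⟨χ, hχ⟩ := Finset.card_eq_one.mp (by omega : X.card = 1)
    rw [hχ, Finset.sum_singleton] at hXd
    exact (Finset.mem_filter.mp (hχ ▸ Finset.mem_singleton_self χ : χ ∈ X)).2
      (hp.dvd_of_dvd_pow hXd)
  · rw [← ZMod.natCast_eq_zero_iff]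
    have hs : ((∑ χ ∈ X, d χ ^ 2 : ℕ) : ZMod p) = (X.card : ZMod p) := by
      rw [Nat.cast_sum, Finset.card_eq_sum_ones, Nat.cast_sum]
      refine Finset.sum_congr rfl fun χ hχ => ?_
      have hne : (d χ : ZMod p) ≠ 0 := by
        rw [Ne, ZMod.natCast_eq_zero_iff]; exact (Finset.mem_filter.mp hχ).2
      obtain rfl | rfl : p = 2 ∨ p = 3 := by
        have := hp.two_le; omega
      · revert hne; rw [Nat.cast_pow, Nat.cast_one]; generalize (d χ : ZMod 2) = a; exact (by decide +revert : ∀ a : ZMod _, a ≠ 0 → a ^ 2 = 1) a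
      · revert hne; rw [Nat.cast_pow, Nat.cast_one]; generalize (d χ : ZMod 3) = a; exact (by decide +revert : ∀ a : ZMod _, a ≠ 0 → a ^ 2 = 1) a
    rw [← hs, ZMod.natCast_eq_zero_iff]
    exact hXd

end Cfsg.Agent.S4825
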