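import Cfsg.Statements.S4828
import Cfsg.Agent.Lib.Char.FirstMain

set_option autoImplicit false
open Cfsg
open scoped ComplexConjugate

namespace Cfsg.Agent.S4828

/-- Let p be a prime, M a maximal ideal of the algebraic integers containing p, and (Q, e) a Brauer pair of the finite group G (Q a p-subgroup, e a block of C_G(Q)). Then (Q, e) is a maximal Brauer pair of some block of G if and only if e contains an irreducible character θ such that θ takes the value θ(1) at every element of Z(Q) = Q ∩ C_G(Q), the p-part of θ(1) times the p-part of the order of Z(Q) equals the p-part of the order of C_G(Q) (θ has defect zero as a character of C_G(Q)/Z(Q)), and every element of N_G(Q) of p-power order that stabilizes e lies in Q·C_G(Q) (the stabilizer of e in N_G(Q) has index prime to p over Q·C_G(Q)). -/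
theorem result {G : Type*} [Group G] [Finite G] (p : ℕ) [Fact p.Prime] (M : Ideal Cfsg.AlgInt) (hM : Cfsg.IsPModular p M) (Q : Subgroup G) (e : Set (Cfsg.IrrCharacter (Subgroup.centralizer (Q : Set G)))) (he : Cfsg.IsBrauerPair p M Q e) :
    (∃ B : Set (Cfsg.IrrCharacter G), Cfsg.IsMaximalBrauerPair p M B Q e) ↔
      ∃ θ ∈ e, (∀ z : Subgroup.centralizer (Q : Set G), (z : G) ∈ Q → (θ : Subgroup.centralizer (Q : Set G) → ℂ) z = (θ : Subgroup.centralizer (Q : Set G) → ℂ) 1) ∧
        (Cfsg.charDegree (θ : Subgroup.centralizer (Q : Set G) → ℂ)).factorization p + (Nat.card ↥(Q ⊓ Subgroup.centralizer (Q : Set G))).factorization p = (Nat.card (Subgroup.centralizer (Q : Set G))).factorization p ∧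
        (∀ g : G, g ∈ Subgroup.normalizer (Q : Set G) → Cfsg.StabilizesBlock (Subgroup.centralizer (Q : Set G)) e g → (∃ k : ℕ, orderOf g = p ^ k) → g ∈ Q ⊔ Subgroup.centralizer (Q : Set G)) := by
  classical
  haveI := Fact.mk hM.1
  haveI := Fintype.ofFinite G
  haveI := Fintype.ofFinite (Subgroup.centralizer (Q : Set G))
  have hMp := Char.pmod_prime hM
  set Z := (Q ⊓ Subgroup.centralizer (Q : Set G)).subgroupOf (Subgroup.centralizer (Q : Set G))
    with hZd
  have hctx := Char.stabCtx_pairStab hM he.1 he.2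
  obtain ⟨d, hd⟩ := hctx.exists_maxOver hM
  have hZc : Z ≤ Subgroup.center (Subgroup.centralizer (Q : Set G)) := fun z hz =>
    Subgroup.mem_center_iff.mpr fun w => Subtype.ext (w.2 _ hz.1).symm
  have hZp : IsPGroup p Z :=
    (he.1.to_le inf_le_left).of_equiv (Subgroup.subgroupOfEquivOfLe inf_le_right).symm
  have hZcard : Nat.card Z = Nat.card (Q ⊓ Subgroup.centralizer (Q : Set G) : Subgroup G) :=
    Char.card_subgroupOf_inf Q _
  set S := Char.pairStab hMp he.2 with hS
  set K := Q ⊔ Subgroup.centralizer (Q : Set G) with hK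
  have hKS : K ≤ S := sup_le hctx.le hctx.cent
  have hQC : Q ≤ Subgroup.normalizer ((Subgroup.centralizer (Q : Set G) : Subgroup G) : Set G) :=
    fun u hu => (hctx.stab u (hctx.le hu)).2.1
  have hKrel : (Subgroup.centralizer (Q : Set G)).relIndex K =
      (Subgroup.centralizer (Q : Set G)).relIndex Q := by
    rw [hK, sup_comm]
    exact Char.relIndex_sup_of_normalizes hQC
  have hmul := Subgroup.relIndex_mul_relIndex (Subgroup.centralizer (Q : Set G)) K S le_sup_right hKS
  constructor
  · rintro ⟨B, hmax⟩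
    have hdQ : d.1 = Q := (Char.maximal_iff_local hM hmax.1).mp hmax d hd.1.1
    have hdefe : IsDefectGroup p M e Z :=
      (hctx.inf_defect_iff hM (a := (⟨Q, e⟩ : BrauerPairIdx G))
        (Char.isNormalSubpair_self hM he.1 he.2) hd).mpr (by rw [hdQ])
    obtain ⟨θ, hθ, htriv, hdeg⟩ := Char.exists_trivial_char hM hZc he.2 hdefe
    rw [hZcard] at hdeg
    refine ⟨θ, hθ, fun z hz => htriv z (Subgroup.mem_subgroupOf.mpr ⟨hz, z.2⟩), hdeg, ?_⟩
    intro g hg hst ⟨k, hk⟩
    have hgS : g ∈ S := (Char.mem_pairStab hMp he.2).mpr ⟨hg, hst⟩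
    haveI : (K.subgroupOf S).Normal := by
      refine (Subgroup.normal_subgroupOf_iff_le_normalizer hKS).mpr fun u hu =>
        Subgroup.mem_normalizer_iff_map_conj_eq.mpr ?_
      have e1 : Q.map (MulAut.conj u).toMonoidHom = Q :=
        Subgroup.mem_normalizer_iff_map_conj_eq.mp (hctx.stab u hu).1
      show K.map (MulAut.conj u).toMonoidHom = K
      rw [hK, Subgroup.map_sup, e1, Char.map_conj_centralizer (hctx.stab u hu).1]
    have hcop : ¬ p ∣ K.relIndex S := by
      have h1 := hctx.maxOver_relIndex hM hd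
      rw [hdQ, ← hKrel] at h1
      intro hdvd
      rw [h1] at hmul
      have hne : (Subgroup.centralizer (Q : Set G)).relIndex S ≠ 0 :=
        Subgroup.index_ne_zero_of_finite
      have h2 := (hM.1.pow_dvd_iff_le_factorization hne).mp
        (((pow_succ _ _).dvd.trans (mul_dvd_mul_left _ hdvd)).trans (dvd_of_eq hmul))
      omega
    have h1 : ((⟨g, hgS⟩ : S) : S ⧸ K.subgroupOf S) ^ (K.relIndex S) = 1 :=
      pow_card_eq_one' (G := S ⧸ K.subgroupOf S)
    have h2 : ((⟨g, hgS⟩ : S) : S ⧸ K.subgroupOf S) ^ (p ^ k) = 1 := by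
      rw [← QuotientGroup.mk_pow, show (⟨g, hgS⟩ : S) ^ p ^ k = 1 from Subtype.ext (by
        simp [← hk, pow_orderOf_eq_one]), QuotientGroup.mk_one]
    have h3 := pow_gcd_eq_one.mpr ⟨h1, h2⟩
    rw [Nat.Coprime.gcd_eq_one (Nat.Coprime.pow_right k
      (hM.1.coprime_iff_not_dvd.mpr hcop).symm), pow_one, QuotientGroup.eq_one_iff] at h3
    exact h3
  · rintro ⟨θ, hθ, htriv, hdeg, hpel⟩
    obtain ⟨hdef, -⟩ := Char.defect_of_trivial_char hM hZc hZp θ (by rw [hZcard]; exact hdeg)
    rw [← Char.block_eq_blockOf hMp he.2 hθ] at hdef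
    obtain ⟨B, hB⟩ := Char.exists_pairOf hM he
    refine ⟨B, (Char.maximal_iff_local hM hB).mpr fun a ha => ?_⟩
    have hQa : Q ≤ a.1 := ha.2.2.1
    obtain ⟨t, ht⟩ := Char.inf_le_defect hM ha hdef
    have hcard := Subgroup.card_le_of_le ht
    rw [Char.card_subgroupOf_inf, Subgroup.card_map_of_injective (MulEquiv.injective _), hZcard]
      at hcard
    have heq : Q ⊓ Subgroup.centralizer (Q : Set G) = a.1 ⊓ Subgroup.centralizer (Q : Set G) :=
      Subgroup.eq_of_le_of_card_ge (inf_le_inf_right _ hQa) hcard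
    refine le_antisymm (fun r hr => ?_) hQa
    obtain ⟨j, hj⟩ := IsPGroup.iff_orderOf.mp ha.2.1.1 ⟨r, hr⟩
    rw [Subgroup.orderOf_mk] at hj
    have hrK := hpel r (ha.2.2.2.1 hr) (ha.2.2.2.2.1 r hr) ⟨j, hj⟩
    have h1 : r ∈ ((Q ⊔ Subgroup.centralizer (Q : Set G) : Subgroup G) : Set G) := hrK
    rw [Subgroup.coe_mul_of_left_le_normalizer_right _ _ hQC] at h1
    obtain ⟨q, hq, c, hc, rfl⟩ := Set.mem_mul.mp h1
    have hca : c ∈ a.1 ⊓ Subgroup.centralizer (Q : Set G) :=
      ⟨by simpa using mul_mem (inv_mem (hQa hq)) hr, hc⟩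
    rw [← heq] at hca
    exact mul_mem hq hca.1

end Cfsg.Agent.S4828
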