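import Cfsg.Statements.S4850
import Cfsg.Agent.Lib.Char.VanishingSingular

set_option autoImplicit false
open Cfsg

namespace Cfsg.Agent.S4850

theorem isSubnormal_of_le_normal_pGroup {G : Type*} [Group G] [Finite G] {p : ℕ} [Fact p.Prime]
    {N : Subgroup G} [hN : N.Normal] (hp : IsPGroup p N) :
    ∀ H : Subgroup G, H ≤ N → H.IsSubnormal := by
  intro H
  induction H using (wellFounded_gt (α := Subgroup G)).induction with
  | _ H ih =>
  intro hle
  rcases eq_or_lt_of_le hle with rfl | hlt
  · exact hN.isSubnormal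
  haveI : Group.IsNilpotent N := hp.isNilpotent
  have hlt' := Group.normalizerCondition_of_isNilpotent (G := N) (H.subgroupOf N)
    (lt_top_iff_ne_top.2 fun h => hlt.not_ge (Subgroup.subgroupOf_eq_top.1 h))
  obtain ⟨M, hM⟩ : ∃ M, M = (Subgroup.normalizer ((H.subgroupOf N : Subgroup N) : Set N)).map N.subtype :=
    ⟨_, rfl⟩
  have hHM : H < M := by
    have h2 := (Subgroup.map_lt_map_iff_of_injective N.subtype_injective).2 hlt'
    rwa [Subgroup.map_subgroupOf_eq_of_le hle, ← hM] at h2
  have hMN : M ≤ N := hM ▸ Subgroup.map_subtype_le _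
  have hn : (H.subgroupOf M).Normal := by
    refine Subgroup.normal_subgroupOf_of_le_normalizer ?_
    rw [hM]
    exact (Subgroup.le_normalizer_map _).trans (by rw [Subgroup.map_subgroupOf_eq_of_le hle])
  exact Subgroup.IsSubnormal.trans hHM.le hn.isSubnormal (ih M hHM hMN)

/-- Let p be a prime and G a finite solvable group whose vanishing elements (elements at which some irreducible character is zero) of order divisible by p all have the same order, with at least one such element. Let P be a Sylow p-subgroup of G. Then the derived subgroup of P is subnormal in G and the image of P in G/O_p(G) is cyclic. -/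
theorem result {G : Type*} [Group G] [Finite G] [hs : Group.IsSolvable G] (p : ℕ) [Fact p.Prime] (b : ℕ) (hvo : {n : ℕ | p ∣ n ∧ ∃ (g : G) (χ : Cfsg.IrrCharacter G), orderOf g = n ∧ (χ : G → ℂ) g = 0} = {b}) (P : Sylow p G) :
    ((commutator ↥(P : Subgroup G)).map (P : Subgroup G).subtype).IsSubnormal ∧ IsCyclic ↥((P : Subgroup G).map (QuotientGroup.mk' (Cfsg.pCore p G))) := by
  classical
  have hb : ∀ g : G, Agent.Char.VanishingSingular.Van g → p ∣ orderOf g → orderOf g = b := by
    rintro g ⟨χ, hχ⟩ hd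
    rw [← Set.mem_singleton_iff, ← hvo]
    exact ⟨hd, g, χ, rfl, hχ⟩
  have hle := Agent.Char.VanishingSingular.card_sylow_le hs hb P
  obtain ⟨N, hN⟩ : ∃ N, N = pCore p G := ⟨_, rfl⟩
  haveI : N.Normal := hN ▸ inferInstance
  have hNp : IsPGroup p N := hN ▸ Agent.Fusion.isPGroup_pCore p G
  rw [← hN] at hle
  have hNP : N ≤ (P : Subgroup G) := by
    obtain ⟨Q, hQ⟩ := hNp.exists_le_sylow
    obtain ⟨g, hg⟩ := MulAction.exists_smul_eq G Q P
    intro n hn
    have h1 : g⁻¹ * n * g ∈ (Q : Subgroup G) :=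
      hQ (by simpa using (inferInstance : N.Normal).conj_mem n hn g⁻¹)
    rw [← hg, Sylow.coe_subgroup_smul]
    exact ⟨_, h1, by simp [mul_assoc]⟩
  obtain ⟨π, hπ⟩ : ∃ π, π = QuotientGroup.mk' N := ⟨_, rfl⟩
  have hcard : Nat.card ((P : Subgroup G).map π) ≤ p := by
    have h2 := Subgroup.relIndex_ker (f := π) (K := (P : Subgroup G))
    rw [hπ, QuotientGroup.ker_mk', ← hπ] at h2
    have h3 := Subgroup.relIndex_mul_relIndex ⊥ N (P : Subgroup G) bot_le hNP
    rw [Subgroup.relIndex_bot_left, Subgroup.relIndex_bot_left, h2] at h3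
    refine Nat.le_of_mul_le_mul_left ?_ (Nat.card_pos (α := N))
    rw [h3, mul_comm (Nat.card N)]
    exact hle
  have hcyc : IsCyclic ((P : Subgroup G).map π) := by
    obtain ⟨k, hk⟩ := IsPGroup.iff_card.1 (P.isPGroup'.map π)
    have hk1 : k ≤ 1 := (Nat.pow_le_pow_iff_right (Fact.out : p.Prime).one_lt).1
      ((pow_one p).symm ▸ hk ▸ hcard)
    interval_cases k
    · haveI := (Nat.card_eq_one_iff_unique.1 (hk.trans (pow_zero p))).1
      infer_instance
    · exact isCyclic_of_prime_card (hk.trans (pow_one p))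
  refine ⟨?_, by subst hN hπ; exact hcyc⟩
  refine isSubnormal_of_le_normal_pGroup hNp _ ?_
  rw [Subgroup.map_subtype_commutator, Subgroup.commutator_le]
  intro a ha c hc
  haveI := hcyc
  let _ := IsCyclic.commGroup (α := (P : Subgroup G).map π)
  refine (QuotientGroup.eq_one_iff _).1 ?_
  rw [← QuotientGroup.mk'_apply, ← hπ, map_commutatorElement, commutatorElement_eq_one_iff_mul_comm]
  exact congrArg Subtype.val (mul_comm (⟨π a, Subgroup.mem_map_of_mem π ha⟩ : (P : Subgroup G).map π)
    ⟨π c, Subgroup.mem_map_of_mem π hc⟩)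

end Cfsg.Agent.S4850
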