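import Cfsg.Statements.S4859
import Cfsg.Agent.Lib.Char.SquareRoots

set_option autoImplicit false
open Cfsg Cfsg.Agent.Char
open scoped ComplexConjugate

namespace Cfsg.Agent.S4859

/-- Let p be an odd prime, G a finite group and x an element of G whose order is a power of p (possibly 1) and whose centralizer has even order. Let y be a 2-element of the centralizer of x whose order is largest among the 2-elements of that centralizer. Then x * y is not a square in G, and some non-principal real-valued irreducible character of G does not vanish at x * y. -/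
theorem result {G : Type*} [Group G] [Finite G] (p : ℕ) [Fact p.Prime] (hp : p ≠ 2) (x : G) (hx : ∃ k : ℕ, orderOf x = p ^ k) (heven : Even (Nat.card (Subgroup.centralizer ({x} : Set G)))) (y : G) (hy : y ∈ Subgroup.centralizer ({x} : Set G)) (hy2 : ∃ k : ℕ, orderOf y = 2 ^ k) (hmax : ∀ z ∈ Subgroup.centralizer ({x} : Set G), (∃ k : ℕ, orderOf z = 2 ^ k) → orderOf z ≤ orderOf y) : (¬ ∃ u : G, u * u = x * y) ∧ ∃ χ : Cfsg.IrrCharacter G, ¬ ((χ : G → ℂ) = fun _ => (1 : ℂ)) ∧ (∀ g : G, ((χ : G → ℂ) g).im = 0) ∧ (χ : G → ℂ) (x * y) ≠ 0 := by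
  classical
  haveI := Fintype.ofFinite G
  obtain ⟨k, hk⟩ := hx
  obtain ⟨l, hl⟩ := hy2
  have hp' : p.Prime := Fact.out
  have hpodd : Odd p := hp'.odd_of_ne_two hp
  have hc : Commute x y := (Subgroup.mem_centralizer_singleton_iff.mp hy).symm
  have hl0 : l ≠ 0 := by
    rintro rfl
    obtain ⟨z, hz⟩ := exists_prime_orderOf_dvd_card' (G := Subgroup.centralizer ({x} : Set G)) 2
      (even_iff_two_dvd.mp heven)
    have := hmax z z.2 ⟨1, by rw [Subgroup.orderOf_coe, hz, pow_one]⟩
    rw [hl, pow_zero, Subgroup.orderOf_coe, hz] at this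
    omega
  have hcop : (orderOf x).Coprime (orderOf y) := by
    rw [hk, hl]
    exact (Nat.coprime_two_right.mpr hpodd).pow k l
  have hxy : orderOf (x * y) = p ^ k * 2 ^ l := by
    rw [hc.orderOf_mul_eq_mul_orderOf_of_coprime hcop, hk, hl]
  have hno : ¬ ∃ u : G, u * u = x * y := by
    rintro ⟨u, hu⟩
    have hou : orderOf u = p ^ k * 2 ^ (l + 1) := by
      have h2 : orderOf (u ^ 2) = p ^ k * 2 ^ l := by rw [pow_two, hu, hxy]
      have hge : 2 ∣ orderOf u := by
        refine Dvd.dvd.trans ?_ (orderOf_pow_dvd (n := 2) (x := u))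
        rw [h2]; exact (dvd_pow_self 2 hl0).mul_left _
      rw [orderOf_pow' _ two_ne_zero, Nat.gcd_eq_right hge] at h2
      rw [pow_succ, ← mul_assoc, ← h2, Nat.div_mul_cancel hge]
    set v := u ^ p ^ k with hv
    have hov : orderOf v = 2 ^ (l + 1) := by
      rw [hv, orderOf_pow' _ (pow_ne_zero _ hp'.ne_zero), hou, Nat.gcd_mul_right_left,
        Nat.mul_div_cancel_left _ (pow_pos hp'.pos k)]
    have hvx : v ∈ Subgroup.centralizer ({x} : Set G) := by
      rw [Subgroup.mem_centralizer_singleton_iff]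
      have h1 : Commute v (x * y) := by
        rw [← hu, hv]
        exact ((Commute.refl u).mul_right (Commute.refl u)).pow_left _
      obtain ⟨i, hi1, hi2⟩ := Nat.chineseRemainder hcop 1 0
      have hxi : (x * y) ^ i = x := by
        rw [hc.mul_pow, pow_eq_pow_iff_modEq.mpr hi1, pow_one, pow_eq_pow_iff_modEq.mpr hi2,
          pow_zero, mul_one]
      have := h1.pow_right i
      rwa [hxi] at this
    have := hmax v hvx ⟨l + 1, hov⟩
    rw [hov, hl, Nat.pow_le_pow_iff_right one_lt_two] at this
    omega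
  refine ⟨hno, ?_⟩
  have h := sum_indicator_mul (x * y)
  rw [show (Finset.univ.filter fun u : G => u * u = x * y) = ∅ from
    Finset.filter_eq_empty_iff.mpr fun u _ hu => hno ⟨u, hu⟩, Finset.card_empty, Nat.cast_zero] at h
  by_contra hnone
  push Not at hnone
  set e1 : IrrCharacter G := ⟨fun _ => 1, isIrrCharacter_one⟩ with he1
  rw [Finset.sum_eq_single e1 (fun χ _ hχ => ?_) (fun h => absurd (Finset.mem_univ _) h)] at h
  · rw [indicator2, he1] at h
    simp [← Nat.card_eq_fintype_card, Nat.card_pos.ne'] at h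
  · by_cases h0 : indicator2 (χ : G → ℂ) = 0
    · rw [h0, zero_mul]
    · rw [hnone χ (fun he => hχ (Subtype.ext he)) (indicator_real χ.2 h0), mul_zero]

end Cfsg.Agent.S4859
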