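import Cfsg.Statements.S4861
import Cfsg.Agent.Lib.Char.RealPrimeDegreeCore

set_option autoImplicit false
open Cfsg
open scoped ComplexConjugate

namespace Cfsg.Agent.S4861

/-- Let p be a prime and G a finite group such that the subgroup generated by the p-elements of G (the smallest normal subgroup of index prime to p) is solvable and every real-valued irreducible complex character of G has degree prime to p. Let K be the subgroup generated by the 2-elements of G (the smallest normal subgroup of odd index). Then the Sylow p-subgroups of K are normal in K. -/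
theorem result {G : Type*} [Group G] [Finite G] (p : ℕ) [Fact p.Prime] (hsolv : Group.IsSolvable ↥(Subgroup.closure {g : G | ∃ k : ℕ, orderOf g = p ^ k})) (hreal : ∀ χ : Cfsg.IrrCharacter G, (∀ g : G, ((χ : G → ℂ) g).im = 0) → ¬ p ∣ Cfsg.charDegree (χ : G → ℂ)) (Q : Sylow p ↥(Subgroup.closure {g : G | ∃ k : ℕ, orderOf g = 2 ^ k})) : (Q : Subgroup ↥(Subgroup.closure {g : G | ∃ k : ℕ, orderOf g = 2 ^ k})).Normal := by
  classical
  haveI := Fintype.ofFinite G
  obtain ⟨Q', hn, hle, hp', hi⟩ := Cfsg.Agent.Char.RealDeg.main (p := p) _ G rfl hsolv hreal (Cfsg.Agent.Char.RealDeg.genP 2 G)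
    inferInstance le_rfl ⟨0, by rw [Subgroup.relIndex_self, pow_zero]⟩
  haveI := hn
  have hQn : (Q'.subgroupOf (Cfsg.Agent.Char.RealDeg.genP 2 G)).Normal := hn.comap _
  have hpg : IsPGroup p (Q'.subgroupOf (Cfsg.Agent.Char.RealDeg.genP 2 G)) :=
    hp'.of_equiv (Subgroup.subgroupOfEquivOfLe hle).symm
  let S : Sylow p ↥(Cfsg.Agent.Char.RealDeg.genP 2 G) := hpg.toSylow hi
  have hS : (S : Subgroup ↥(Cfsg.Agent.Char.RealDeg.genP 2 G)).Normal := by
    exact hQn
  haveI := Sylow.unique_of_normal S hS
  rw [show (Q : Sylow p ↥(Cfsg.Agent.Char.RealDeg.genP 2 G)) = S from Subsingleton.elim (α := Sylow p ↥(Cfsg.Agent.Char.RealDeg.genP 2 G)) Q S]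
  exact hS

end Cfsg.Agent.S4861
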