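import Cfsg.Statements.S4866
import Cfsg.Agent.Lib.Char.RealPerm

set_option autoImplicit false
open Cfsg Cfsg.Agent.Char
open scoped ComplexConjugate

namespace Cfsg.Agent.S4866

/-- Let K be a normal subgroup of odd index in the finite group G. Then G has as many orbits on the real-valued irreducible complex characters of K (acting by conjugation) as it has orbits on the conjugacy classes of K that are real in K; equivalently, the number of G-orbits of real-valued irreducible characters of K equals the number of G-conjugacy classes of elements of K that are conjugate in K to their inverses. -/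
theorem result {G : Type*} [Group G] [Finite G] (K : Subgroup G) [K.Normal] (hodd : Odd K.index) : Nat.card (Quot (fun θ η : {θ : Cfsg.IrrCharacter ↥K // (∀ k : ↥K, ((θ : ↥K → ℂ) k).im = 0)} => ∃ g : G, ∀ k k' : ↥K, (k' : G) = g * (k : G) * g⁻¹ → (η.1 : ↥K → ℂ) k' = (θ.1 : ↥K → ℂ) k)) = Nat.card (Quot (fun x y : {x : ↥K // IsConj x x⁻¹} => ∃ g : G, (y.1 : G) = g * x.1 * g⁻¹)) := by
  classical
  haveI : Fintype G := Fintype.ofFinite G
  haveI : Fintype K := Fintype.ofFinite K
  let X := {θ : Cfsg.IrrCharacter ↥K // (∀ k : ↥K, ((θ : ↥K → ℂ) k).im = 0)}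
  let Y := {C : ConjClasses K // ∀ k, ConjClasses.mk k = C → IsConj k k⁻¹}
  letI : MulAction G X :=
    { smul := fun g θ => ⟨conjIrr K g θ.1, fun k => θ.2 _⟩
      one_smul := fun θ => Subtype.ext (conjIrr_mem K K.one_mem θ.1)
      mul_smul := fun g h θ => Subtype.ext (conjIrr_mul K g h θ.1) }
  letI : MulAction G Y :=
    { smul := fun g C => ⟨ConjClasses.map (MulAut.conjNormal g : MulAut K).toMonoidHom C.1, by
        intro k hk
        obtain ⟨c, hc⟩ := ConjClasses.exists_rep C.1
        rw [← hc] at hk
        have hk' : IsConj k ((MulAut.conjNormal g : MulAut K) c) :=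
          ConjClasses.mk_eq_mk_iff_isConj.mp hk
        have h1 := (MulAut.conjNormal g : MulAut K).toMonoidHom.map_isConj (C.2 c hc)
        rw [MulEquiv.coe_toMonoidHom, map_inv] at h1
        exact hk'.trans (h1.trans (isConj_inv_inv hk'.symm))⟩
      one_smul := fun C => Subtype.ext (map_conjNormal_mem K K.one_mem C.1)
      mul_smul := fun g h C => Subtype.ext (by
        obtain ⟨c, hc⟩ := ConjClasses.exists_rep C.1
        show ConjClasses.map (MulAut.conjNormal (g * h) : MulAut K).toMonoidHom C.1 =
          ConjClasses.map (MulAut.conjNormal g : MulAut K).toMonoidHom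
            (ConjClasses.map (MulAut.conjNormal h : MulAut K).toMonoidHom C.1)
        rw [← hc, map_mul]
        rfl) }
  haveI : Fintype (ConjClasses K) := Fintype.ofFinite _
  haveI : Fintype X := Fintype.ofFinite _
  haveI : Fintype Y := Fintype.ofFinite _
  have hfix : ∀ g : G, Fintype.card (MulAction.fixedBy X g) = Fintype.card (MulAction.fixedBy Y g) := by
    intro g
    rw [← Nat.card_eq_fintype_card, ← Nat.card_eq_fintype_card]
    refine (Nat.card_congr ?_).trans ((card_real_fixed K hodd g).trans (Nat.card_congr ?_))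
    · exact ⟨fun θ => ⟨θ.1.1, (irrConj_eq_iff _).mpr θ.1.2, congrArg Subtype.val θ.2⟩,
        fun θ => ⟨⟨θ.1, (irrConj_eq_iff _).mp θ.2.1⟩, Subtype.ext θ.2.2⟩, fun _ => rfl, fun _ => rfl⟩
    · exact ⟨fun C => ⟨⟨C.1, C.2.1⟩, Subtype.ext C.2.2⟩,
        fun C => ⟨C.1.1, C.1.2, congrArg Subtype.val C.2⟩, fun _ => rfl, fun _ => rfl⟩
  haveI : Fintype (Quotient (MulAction.orbitRel G X)) := Fintype.ofFinite _
  haveI : Fintype (Quotient (MulAction.orbitRel G Y)) := Fintype.ofFinite _
  have hX := MulAction.sum_card_fixedBy_eq_card_orbits_mul_card_group G X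
  have hY := MulAction.sum_card_fixedBy_eq_card_orbits_mul_card_group G Y
  rw [Finset.sum_congr rfl fun g _ => hfix g, hY] at hX
  have hQ : Nat.card (Quotient (MulAction.orbitRel G X)) = Nat.card (Quotient (MulAction.orbitRel G Y)) := by
    rw [Nat.card_eq_fintype_card, Nat.card_eq_fintype_card]
    exact (Nat.eq_of_mul_eq_mul_right Fintype.card_pos hX).symm
  refine Eq.trans (Nat.card_congr (Quot.congrRight fun θ η => ?_)) (hQ.trans (Nat.card_congr ?_))
  · show (∃ g : G, ∀ k k' : ↥K, (k' : G) = g * (k : G) * g⁻¹ → (η.1 : ↥K → ℂ) k' = (θ.1 : ↥K → ℂ) k) ↔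
      θ ∈ MulAction.orbit G η
    constructor
    · rintro ⟨g, hg⟩
      refine ⟨g⁻¹, Subtype.ext (Subtype.ext (funext fun k => ?_))⟩
      show (conjIrr K g⁻¹ η.1 : K → ℂ) k = _
      rw [conjIrr_apply, inv_inv]
      exact hg k _ (by simp [MulAut.conjNormal_apply])
    · rintro ⟨g, hg⟩
      refine ⟨g⁻¹, fun k k' hk => ?_⟩
      rw [← hg]
      show _ = (conjIrr K g η.1 : K → ℂ) k
      rw [conjIrr_apply]
      exact congrArg _ (Subtype.ext (by rw [hk]; simp [MulAut.conjNormal_apply]))
  · refine
      { toFun := Quotient.lift (fun C : Y => Quot.mk _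
          ⟨Quotient.out C.1, C.2 _ (Quotient.out_eq C.1)⟩) ?_
        invFun := Quot.lift (fun x => Quotient.mk _ (⟨ConjClasses.mk x.1, fun k hk => by
          have h1 := ConjClasses.mk_eq_mk_iff_isConj.mp hk
          exact h1.trans (x.2.trans (isConj_inv_inv h1.symm))⟩ : Y)) ?_
        left_inv := ?_
        right_inv := ?_ }
    · rintro a b ⟨g, hg⟩
      obtain ⟨c, hc⟩ := ConjClasses.exists_rep b.1
      have h1 : ConjClasses.mk (Quotient.out a.1) = ConjClasses.mk ((MulAut.conjNormal g : MulAut K) c) := by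
        rw [show ConjClasses.mk (Quotient.out a.1) = a.1 from Quotient.out_eq a.1, ← hg]
        show ConjClasses.map _ b.1 = _
        rw [← hc]
        rfl
      have h2 : IsConj (Quotient.out b.1) c := ConjClasses.mk_eq_mk_iff_isConj.mp
        ((Quotient.out_eq b.1).trans hc.symm)
      obtain ⟨x, hx⟩ := isConj_iff.mp h2
      obtain ⟨y, hy⟩ := isConj_iff.mp (ConjClasses.mk_eq_mk_iff_isConj.mp h1).symm
      refine (Quot.sound ⟨(y : G) * g * x, ?_⟩).symm
      have e : ((Quotient.out a.1 : K) : G) =
          (y : G) * g * x * ((Quotient.out b.1 : K) : G) * ((y : G) * g * x)⁻¹ := by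
        conv_lhs => rw [← hy, ← hx]
        simp [MulAut.conjNormal_apply, mul_assoc]
      exact e
    · rintro a b ⟨g, hg⟩
      refine (Quotient.sound ?_).symm
      refine ⟨g, Subtype.ext ?_⟩
      show ConjClasses.map _ (ConjClasses.mk a.1) = ConjClasses.mk b.1
      show ConjClasses.mk _ = _
      congr 1
      exact Subtype.ext (by rw [hg]; simp [MulAut.conjNormal_apply])
    · intro q
      induction q using Quotient.inductionOn with
      | _ C => exact congrArg (Quotient.mk _) (Subtype.ext (Quotient.out_eq C.1))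
    · intro q
      induction q using Quot.ind with
      | _ x =>
        obtain ⟨y, hy⟩ := isConj_iff.mp (ConjClasses.mk_eq_mk_iff_isConj.mp
          (Quotient.out_eq (ConjClasses.mk x.1)))
        refine Quot.sound ⟨(y : G), ?_⟩
        conv_lhs => rw [← hy]
        simp

end Cfsg.Agent.S4866
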