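import Cfsg.Statements.S4870
import Cfsg.Agent.Lib.Char.LinearTwist

set_option autoImplicit false
open Cfsg Cfsg.Agent.Char
open scoped ComplexConjugate commutatorElement
open scoped ComplexConjugate

namespace Cfsg.Agent.S4870

/-- Let G be a finite group with a non-abelian minimal normal subgroup N, and let φ be an irreducible complex character of N with stabilizer I in G (the elements g with φ(g n g⁻¹) = φ(n) for all n ∈ N) such that φ extends to an irreducible character of I. Put d = φ(1)·[G : I]. Then the number of linear characters of G is at most [G : I] times the number of irreducible characters of G of degree d. -/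
theorem result {G : Type*} [Group G] [Finite G] (N : Subgroup G) (hN : N.Normal) (hN1 : N ≠ ⊥) (hmin : ∀ M : Subgroup G, M.Normal → M ≤ N → M = ⊥ ∨ M = N) (hna : ¬ IsMulCommutative ↥N) (φ : Cfsg.IrrCharacter ↥N) (I : Subgroup G) (hI : ∀ g : G, g ∈ I ↔ ∀ n n' : ↥N, (n' : G) = g * (n : G) * g⁻¹ → (φ : ↥N → ℂ) n' = (φ : ↥N → ℂ) n) (hNI : N ≤ I) (hext : ∃ ψ : Cfsg.IrrCharacter ↥I, ∀ n : ↥N, (ψ : ↥I → ℂ) (Subgroup.inclusion hNI n) = (φ : ↥N → ℂ) n) : Nat.card {χ : Cfsg.IrrCharacter G // Cfsg.charDegree (χ : G → ℂ) = 1} ≤ I.index * Nat.card {χ : Cfsg.IrrCharacter G // Cfsg.charDegree (χ : G → ℂ) = Cfsg.charDegree (φ : ↥N → ℂ) * I.index} := by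
  classical
  haveI := Fintype.ofFinite G
  haveI := hN
  haveI := Fintype.ofFinite N
  haveI := Fintype.ofFinite I
  have hI' : ∀ g : G, g ∈ I ↔ irrComp (MulAut.conjNormal g) φ = φ := fun g => by
    rw [hI g]
    constructor
    · intro h
      refine Subtype.ext (funext fun n => ?_)
      rw [irrComp_apply]
      exact h n _ (MulAut.conjNormal_apply g n)
    · intro h n n' e
      rw [show n' = MulAut.conjNormal g n from Subtype.ext (e.trans (MulAut.conjNormal_apply g n).symm),
        ← irrComp_apply, h]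
  have hperf : ∀ (l : G →* ℂˣ) (n : N), l n = 1 := by
    intro l n
    have hne : ⁅N, N⁆ ≠ ⊥ := fun h => hna ⟨⟨fun a b => Subtype.ext (by
      have h' := (Subgroup.mem_bot.mp (h ▸ Subgroup.commutator_mem_commutator a.2 b.2) :
        ⁅(a : G), (b : G)⁆ = 1)
      exact commutatorElement_eq_one_iff_mul_comm.mp h')⟩⟩
    have hle : ⁅N, N⁆ ≤ N := Subgroup.commutator_le_self N
    have hker : ⁅N, N⁆ ≤ l.ker := Subgroup.commutator_le.mpr fun a _ b _ => by
      rw [MonoidHom.mem_ker, map_commutatorElement]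
      exact commutatorElement_eq_one_iff_mul_comm.mpr (mul_comm _ _)
    rcases hmin ⁅N, N⁆ (Subgroup.commutator_normal N N) hle with h | h
    · exact absurd h hne
    · exact MonoidHom.mem_ker.mp (hker (h.symm ▸ n.2))
  obtain ⟨ψ, hψ⟩ := hext
  haveI := Fintype.ofFinite {χ : Cfsg.IrrCharacter G // Cfsg.charDegree (χ : G → ℂ) = 1}
  choose l hl using fun χ : {χ : Cfsg.IrrCharacter G // Cfsg.charDegree (χ : G → ℂ) = 1} =>
    exists_hom_of_degree_one (irr_isCharacter χ.1.2) (by
      rw [char_one_eq_deg (irr_isCharacter χ.1.2), show deg (χ.1 : G → ℂ) = 1 from χ.2, Nat.cast_one])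
  have hinj : Function.Injective l := fun a b h => Subtype.ext (Subtype.ext (by rw [hl a, hl b, h]))
  rw [Nat.card_eq_fintype_card]
  refine le_of_le_of_eq (card_linear_le N hNI hI' ψ.2 hψ l hinj (fun a n => hperf (l a) n)
    {χ | Cfsg.charDegree (χ : G → ℂ) = Cfsg.charDegree (φ : N → ℂ) * I.index} fun a χ he => ?_) rfl
  show deg (χ : G → ℂ) = deg (φ : N → ℂ) * I.index
  obtain ⟨hirr, hdeg, -, -⟩ := indFun_ext_facts N hNI hI' ψ.2 hψ
  rw [← hdeg]
  simp [deg, he, map_one]

end Cfsg.Agent.S4870
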