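import Cfsg.Statements.S4873
import Cfsg.Agent.Lib.Char.FixedOver
import Cfsg.Agent.Lib.Char.SquareRoots

set_option autoImplicit false
open Cfsg Cfsg.Agent.Char
open scoped ComplexConjugate

namespace Cfsg.Agent.S4873

/-- Let N be a normal subgroup of odd index in the finite group G. Then every irreducible complex character of N with Frobenius–Schur indicator +1 lies under exactly one irreducible character of G with Frobenius–Schur indicator +1. -/
theorem result {G : Type*} [Group G] [Finite G] (N : Subgroup G) [N.Normal] (hodd : Odd N.index) (φ : Cfsg.IrrCharacter ↥N) (hφ : (Nat.card ↥N : ℂ)⁻¹ * ∑ᶠ g : ↥N, (φ : ↥N → ℂ) (g * g) = 1) : ∃! χ : Cfsg.IrrCharacter G, (Nat.card G : ℂ)⁻¹ * ∑ᶠ g : G, (χ : G → ℂ) (g * g) = 1 ∧ (∑ᶠ n : ↥N, (χ : G → ℂ) n * (starRingEnd ℂ) ((φ : ↥N → ℂ) n)) ≠ 0 := by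
  classical
  haveI := Fintype.ofFinite G
  haveI := Fintype.ofFinite N
  set k := Nat.card G - 1 with hk_def
  have hpos : 0 < Nat.card G := Nat.card_pos
  have hk : k.Coprime (Nat.card G) := by
    have h := (Nat.coprime_self_add_right (m := k) (n := 1)).mpr (Nat.coprime_one_right k)
    rwa [show k + 1 = Nat.card G by omega] at h
  have hpow : ∀ g : G, g ^ k = g⁻¹ := fun g => by
    refine eq_inv_of_mul_eq_one_left ?_
    rw [← pow_succ, show k + 1 = Nat.card G by omega, pow_card_eq_one']
  have hpowN : ∀ n : N, n ^ k = n⁻¹ := fun n => Subtype.ext (by simp [hpow])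
  simp only [finsum_eq_sum_of_fintype] at hφ ⊢
  have hφ' : indicator2 (φ : N → ℂ) = 1 := hφ
  have hφfix : ∀ n : N, (φ : N → ℂ) (n ^ k) = (φ : N → ℂ) n := fun n => by
    rw [hpowN, char_inv (irr_isCharacter φ.2), Complex.conj_eq_iff_im,
      indicator_real φ.2 (by rw [hφ']; exact one_ne_zero)]
  obtain ⟨χ, ⟨hχ, hχf⟩, huniq⟩ := fixed_over_unique N hodd hk (fun g _ => hpow g) φ hφfix
  have hfix : ∀ ψ : IrrCharacter G, indicator2 (ψ : G → ℂ) ≠ 0 →
      ∀ g : G, (ψ : G → ℂ) (g ^ k) = (ψ : G → ℂ) g := fun ψ h g => by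
    rw [hpow, char_inv (irr_isCharacter ψ.2), Complex.conj_eq_iff_im, indicator_real ψ.2 h]
  have hcount : ∀ n : N, (Finset.univ.filter fun u : G => u * u = (n : G)).card =
      (Finset.univ.filter fun u : N => u * u = n).card := fun n => by
    symm
    refine Finset.card_bij (fun u _ => (u : G)) ?_ ?_ ?_
    · intro u hu
      simp only [Finset.mem_filter, Finset.mem_univ, true_and] at hu ⊢
      rw [← hu, Subgroup.coe_mul]
    · intro a _ b _ h
      exact Subtype.ext h
    · intro u hu
      simp only [Finset.mem_filter, Finset.mem_univ, true_and] at hu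
      have huN : u ∈ N := by
        rw [← QuotientGroup.eq_one_iff]
        have h2 : (QuotientGroup.mk u : G ⧸ N) ^ 2 = 1 := by
          rw [pow_two, ← QuotientGroup.mk_mul, hu]
          exact (QuotientGroup.eq_one_iff _).mpr n.2
        refine orderOf_eq_one_iff.mp (Nat.eq_one_of_dvd_coprimes (Nat.coprime_two_left.mpr hodd)
          (orderOf_dvd_of_pow_eq_one h2) ?_)
        rw [Subgroup.index_eq_card]
        exact orderOf_dvd_natCard _
      exact ⟨⟨u, huN⟩, by simpa using Subtype.ext hu, rfl⟩
  have hsum : ∑ ψ : IrrCharacter G, indicator2 (ψ : G → ℂ) *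
      classInner (fun n : N => (ψ : G → ℂ) n) (φ : N → ℂ) = 1 := by
    have h1 : (fun n : N => ∑ ψ : IrrCharacter G, indicator2 (ψ : G → ℂ) * (ψ : G → ℂ) n) =
        ∑ η : IrrCharacter N, indicator2 (η : N → ℂ) • (η : N → ℂ) := funext fun n => by
      rw [Finset.sum_apply]
      simp only [Pi.smul_apply, smul_eq_mul]
      rw [sum_indicator_mul, sum_indicator_mul, hcount]
      congr 2
      ext
      simp
    calc _ = classInner (fun n : N => ∑ ψ : IrrCharacter G, indicator2 (ψ : G → ℂ) * (ψ : G → ℂ) n)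
          (φ : N → ℂ) := by
          rw [show (fun n : N => ∑ ψ : IrrCharacter G, indicator2 (ψ : G → ℂ) * (ψ : G → ℂ) n) =
            ∑ ψ : IrrCharacter G, indicator2 (ψ : G → ℂ) • fun n : N => (ψ : G → ℂ) n from
            funext fun n => by simp [Finset.sum_apply], classInner_sum_left]
          simp only [classInner_smul_left]
      _ = _ := by
          rw [h1, classInner_sum_left, Finset.sum_eq_single φ]
          · rw [classInner_smul_left, irr_self φ.2, mul_one, hφ']
          · intro b _ hb
            rw [classInner_smul_left, irrC_orth, if_neg hb, mul_zero]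
          · simp
  rw [Finset.sum_eq_single χ (fun b _ hb => by
      by_cases h0 : classInner (fun n : N => (b : G → ℂ) n) (φ : N → ℂ) = 0
      · rw [h0, mul_zero]
      · by_cases h1 : indicator2 (b : G → ℂ) = 0
        · rw [h1, zero_mul]
        · exact absurd (huniq b ⟨h0, hfix b h1⟩) hb) (by simp)] at hsum
  obtain ⟨m, hm⟩ := classInner_natCast (isCharacter_comp N.subtype (irr_isCharacter χ.2))
    (irr_isCharacter φ.2)
  rw [show classInner (fun n : N => (χ : G → ℂ) n) (φ : N → ℂ) = (m : ℂ) from hm] at hsum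
  have hν : indicator2 (χ : G → ℂ) = 1 := by
    rcases (indicator_trichotomy χ.2).1 with h | h | h 
    · rw [h, zero_mul] at hsum
      exact absurd hsum zero_ne_one
    · exact h
    · rw [h, neg_one_mul] at hsum
      have h' := congrArg Complex.re hsum
      simp only [Complex.neg_re, Complex.natCast_re, Complex.one_re] at h'
      linarith [Nat.cast_nonneg (α := ℝ) m]
  refine ⟨χ, ⟨hν, fun h0 => hχ ?_⟩, fun ψ hψ => huniq ψ ⟨fun h0 => hψ.2 ?_, hfix ψ ?_⟩⟩
  · rw [classInner, h0, mul_zero]
  · rw [classInner] at h0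
    exact (mul_eq_zero.mp h0).resolve_left (by simp [Nat.card_pos.ne'])
  · rw [show indicator2 (ψ : G → ℂ) = 1 from hψ.1]
    exact one_ne_zero

end Cfsg.Agent.S4873
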