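import Cfsg.Statements.S4888
import Cfsg.Agent.Lib.Char.ThompsonDegree
import Cfsg.Agent.Lib.Char.RankOne
import Cfsg.Agent.Lib.Char.BlockInter
import Cfsg.Agent.Lib.Char.Height
import Cfsg.Agent.Lib.Char.RealBlock

set_option autoImplicit false
open Cfsg Cfsg.Agent.Char
open scoped ComplexConjugate

namespace Cfsg.Agent.S4888

theorem detOrder_linear {H : Type*} [Group H] [Finite H] (l : H →* ℂˣ) :
    detOrder (fun g => (l g : ℂ)) = orderOf l := by
  obtain ⟨n, ρ, hρ⟩ := isCharacter_linear l
  obtain rfl : n = 1 := by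
    have h := char_one_eq_dim ρ hρ
    simp only [map_one, Units.val_one] at h
    exact_mod_cast h.symm
  rw [detOrder, detChar_eq ρ hρ, ← orderOf_coe_hom l]
  refine congrArg orderOf (funext fun g => ?_)
  rw [← congrFun hρ g, Representation.character, LinearMap.trace_eq_matrix_trace ℂ (Pi.basisFun ℂ (Fin 1)),
    ← LinearMap.det_toMatrix (Pi.basisFun ℂ (Fin 1)), Matrix.det_fin_one, Matrix.trace_fin_one]

theorem centralChar_sub_mul {H : Type*} [Group H] {M : Ideal AlgInt} (hP : M.IsPrime) [Finite H]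
    {a b : H →* ℂˣ} (ha : SameBlock M (fun _ : H => (1 : ℂ)) (fun g => (a g : ℂ)))
    (hb : SameBlock M (fun _ : H => (1 : ℂ)) (fun g => (b g : ℂ))) :
    SameBlock M (fun _ : H => (1 : ℂ)) (fun g => ((a * b) g : ℂ)) := by
  haveI := Fintype.ofFinite H
  intro g
  have h := memLI_add hP (memLI_mul_left hP (memLR_char hP (isCharacter_linear b) g) (ha g)) (hb g)
  have e : centralChar (fun _ : H => (1 : ℂ)) g - centralChar (fun g => ((a * b) g : ℂ)) g =
      (b g : ℂ) * (centralChar (fun _ : H => (1 : ℂ)) g - centralChar (fun g => (a g : ℂ)) g) +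
      (centralChar (fun _ : H => (1 : ℂ)) g - centralChar (fun g => (b g : ℂ)) g) := by
    simp only [centralChar, MonoidHom.mul_apply, map_one, Units.val_mul, Units.val_one, mul_one, div_one]
    ring
  rw [e]
  exact h

theorem centralChar_sub_inv {H : Type*} [Group H] {M : Ideal AlgInt} (hP : M.IsPrime) [Finite H]
    {a : H →* ℂˣ} (ha : SameBlock M (fun _ : H => (1 : ℂ)) (fun g => (a g : ℂ))) :
    SameBlock M (fun _ : H => (1 : ℂ)) (fun g => (a⁻¹ g : ℂ)) := by
  haveI := Fintype.ofFinite H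
  intro g
  have h := memLI_mul_left hP (memLR_char hP (isCharacter_linear a⁻¹) g) (memLI_neg hP (ha g))
  have e : centralChar (fun _ : H => (1 : ℂ)) g - centralChar (fun g => (a⁻¹ g : ℂ)) g =
      (a⁻¹ g : ℂ) * -(centralChar (fun _ : H => (1 : ℂ)) g - centralChar (fun g => (a g : ℂ)) g) := by
    have h1 : ((a g)⁻¹ : ℂˣ).val * (a g : ℂ) = 1 := Units.inv_mul _
    simp only [centralChar, MonoidHom.inv_apply, inv_one, map_one, Units.val_one, mul_one, div_one]
    linear_combination -(((Subgroup.centralizer ({g} : Set H)).index : ℂ)) * h1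
  rw [e]
  exact h


/-- Let G be a finite group, p a prime and M a maximal ideal of the algebraic integers containing p. Then all height-zero irreducible characters of the principal p-block of G (equivalently, all its characters of degree prime to p) have the same degree if and only if G has a normal p-complement. -/
theorem result {G : Type*} [Group G] [Finite G] (p : ℕ) [Fact p.Prime] (M : Ideal Cfsg.AlgInt) (hM : Cfsg.IsPModular p M) : (∃ d : ℕ, ∀ χ : Cfsg.IrrCharacter G, χ ∈ (Cfsg.principalBlock M G) → Cfsg.blockHeight p (Cfsg.principalBlock M G) (χ : G → ℂ) = 0 → Cfsg.charDegree (χ : G → ℂ) = d) ↔ Cfsg.HasNormalPComplement p G := by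
  classical
  haveI := Fintype.ofFinite G
  have hp := (Fact.out : p.Prime)
  have hP := pmod_prime hM
  set one : IrrCharacter G := ⟨fun _ => 1, isIrrCharacter_one⟩ with hone
  have hmem1 : one ∈ principalBlock M G := one_mem_principal hM
  have hdeg1 : charDegree (fun _ : G => (1 : ℂ)) = 1 := by simp [charDegree]
  have hdmin : dmin p (principalBlock M G) = 0 := by
    have h := dmin_le (p := p) hmem1
    have h1 : dexp p (fun _ : G => (1 : ℂ)) = 0 := by simp [dexp, charDegree, deg]
    change _ ≤ dexp p (fun _ : G => (1 : ℂ)) at h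
    omega
  have hz : ∀ χ : IrrCharacter G, χ ∈ principalBlock M G →
      (blockHeight p (principalBlock M G) (χ : G → ℂ) = 0 ↔ ¬ p ∣ charDegree (χ : G → ℂ)) := fun χ hχ => by
    rw [blockHeight_eq_zero_iff hχ, hdmin]
    show (deg (χ : G → ℂ)).factorization p = 0 ↔ _
    rw [Nat.factorization_eq_zero_iff]
    simp only [hp, not_true_eq_false, false_or, (deg_pos χ.2).ne', or_false]
    rfl
  constructor
  swap
  · intro hN
    obtain ⟨N, hNn, hNc, hNr⟩ := hnpc_iff_regular.1 hN
    refine ⟨1, fun χ hχ h0 => ?_⟩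
    haveI := hNn
    haveI := Fintype.ofFinite (G ⧸ N)
    obtain ⟨ψ, hψ⟩ := (inflateEquiv N).surjective ⟨χ, principal_trivial_on hM N hNc hχ⟩
    have e := congrArg (fun z => ((Subtype.val z : IrrCharacter G) : G → ℂ) 1) hψ
    simp only [inflateEquiv_apply, QuotientGroup.mk_one] at e
    have hd : charDegree (χ : G → ℂ) = deg (ψ : G ⧸ N → ℂ) := by
      show ⌊((χ : G → ℂ) 1).re⌋₊ = ⌊((ψ : G ⧸ N → ℂ) 1).re⌋₊
      rw [e]
    have hq : IsPGroup p (G ⧸ N) := by
      intro x
      obtain ⟨g, rfl⟩ := QuotientGroup.mk_surjective x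
      obtain ⟨k, m, hm, hgm⟩ := Nat.exists_eq_pow_mul_and_not_dvd (orderOf_pos g).ne' p hp.ne_one
      refine ⟨k, ?_⟩
      rw [← QuotientGroup.mk_pow, QuotientGroup.eq_one_iff]
      refine hNr _ ?_
      rw [orderOf_pow' g (pow_ne_zero k hp.ne_zero), hgm, Nat.gcd_mul_right_left,
        Nat.mul_div_cancel_left _ (pow_pos hp.pos k)]
      exact hm
    obtain ⟨n, hn⟩ := IsPGroup.iff_card.1 hq
    obtain ⟨k, -, hk⟩ := (Nat.dvd_prime_pow hp).1 (hn ▸ deg_dvd_card ψ.2)
    rcases Nat.eq_zero_or_pos k with rfl | hk0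
    · rw [hd, hk, pow_zero]
    · exact absurd (hd ▸ hk ▸ dvd_pow_self p hk0.ne') ((hz χ hχ).1 h0)
  rintro ⟨d, hd⟩
  obtain rfl : d = 1 := (hd one hmem1 ((hz one hmem1).2 (by
    show ¬ p ∣ charDegree (fun _ : G => (1 : ℂ))
    rw [hdeg1]; exact hp.not_dvd_one))).symm.trans hdeg1
  rw [Cfsg.Agent.Fusion.hnpc_iff, Cfsg.Agent.Fusion.coprime_card_iff_not_dvd]
  intro hpK
  set K := pResidual p G with hK
  haveI := Fintype.ofFinite K
  obtain ⟨P⟩ : Nonempty (Sylow p G) := inferInstance
  have hKP : K ⊔ (P : Subgroup G) = ⊤ := Cfsg.Agent.Fusion.pResidual_sup_sylow P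
  letI : MulAction (P : Subgroup G) (IrrCharacter K) := irrConjAct K (P : Subgroup G)
  set oneK : IrrCharacter K := ⟨fun _ => 1, isIrrCharacter_one⟩ with honeK
  -- the degrees squared in the principal block of `K`
  let f : IrrCharacter K → ℕ := fun θ =>
    if θ ∈ principalBlock M K then charDegree (θ : K → ℂ) ^ 2 else 0
  have hf : ∀ (a : (P : Subgroup G)) (θ : IrrCharacter K), f (a • θ) = f θ := by
    intro a θ
    have hd : charDegree (a • θ : IrrCharacter K).1 = charDegree (θ : K → ℂ) := by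
      show charDegree (irrComp (MulAut.conjNormal (a : G)⁻¹) θ : K → ℂ) = _
      simp only [charDegree, irrComp_apply, map_one]
    have key : ∀ (b : (P : Subgroup G)) (η : IrrCharacter K),
        η ∈ principalBlock M K → (b • η) ∈ principalBlock M K := by
      intro b η hη
      have h := sameBlock_irrComp (M := M) (MulAut.conjNormal (b : G)⁻¹) (χ := oneK) (ψ := η) hη
      exact h
    have hi : a • θ ∈ principalBlock M K ↔ θ ∈ principalBlock M K :=
      ⟨fun h => by simpa using key a⁻¹ _ h, key a θ⟩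
    simp only [f, hi, hd]
  have hsum : ((∑ θ : IrrCharacter K, f θ : ℕ) : ZMod p) = 0 := by
    rw [CharP.cast_eq_zero_iff (ZMod p) p, ← Finset.sum_filter]
    exact dvd_sum_sq_principal hM hpK
  rw [sum_eq_sum_fixed P.2 f hf] at hsum
  have hfix : ∀ θ : IrrCharacter K, θ ∈ MulAction.fixedPoints (P : Subgroup G) (IrrCharacter K) ↔
      ∀ (g : G) (k : K), (θ : K → ℂ) (MulAut.conjNormal g k) = (θ : K → ℂ) k :=
    fun θ => mem_fixed_iff K hKP θ
  have hreg : ∀ g : G, ¬ p ∣ orderOf g → g ∈ K := fun g hg =>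
    Subgroup.subset_closure (Nat.coprime_comm.1 (hp.coprime_iff_not_dvd.2 hg))
  obtain ⟨j, hj⟩ : ∃ j, K.index = p ^ j :=
    IsPGroup.iff_card.1 (Cfsg.Agent.Fusion.isPGroup_quotient_pResidual (G := G) (p := p))
  -- the fixed ones of degree prime to `p` are linear
  have hlin : ∀ θ : IrrCharacter K, θ ∈ principalBlock M K →
      (∀ (g : G) (k : K), (θ : K → ℂ) (MulAut.conjNormal g k) = (θ : K → ℂ) k) →
      ¬ p ∣ charDegree (θ : K → ℂ) → charDegree (θ : K → ℂ) = 1 := by
    intro θ hθB hinv hθd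
    have hcop : ∀ n : ℕ, ¬ p ∣ n → K.index.Coprime n := fun n hn => by
      rw [hj]
      exact ((Nat.Prime.coprime_iff_not_dvd hp).2 hn).pow_left j
    obtain ⟨χ, ⟨hχ, hχK, -⟩, -⟩ := Cfsg.Agent.S0867.result K (θ : K → ℂ) θ.2 (fun g k => hinv g k)
      (charDegree (θ : K → ℂ)) (char_one_eq_deg (irr_isCharacter θ.2))
      ((hcop _ (detOrder_not_dvd θ hinv)).mul_right (hcop _ hθd))
    have hd1 : χ 1 = (θ : K → ℂ) 1 := by
      rw [← hχK 1, OneMemClass.coe_one]
    have hdd : charDegree χ = charDegree (θ : K → ℂ) := by simp only [charDegree, hd1]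
    have hχB : (⟨χ, hχ⟩ : IrrCharacter G) ∈ principalBlock M G := by
      rw [← lam_regInd_unit_iff hM]
      have e : lam χ (regInd p) = lam (θ : K → ℂ) (regInd p) := by
        simp only [lam, hd1]
        congr 1
        rw [← Finset.sum_subset (Finset.subset_univ (Finset.univ.filter fun x : G => x ∈ K))
          (fun x _ hx => by
            have hxr : p ∣ orderOf x := by
              by_contra h
              exact hx (Finset.mem_filter.2 ⟨Finset.mem_univ _, hreg x h⟩)
            simp [regInd, hxr]),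
          Finset.sum_subtype (Finset.univ.filter fun x : G => x ∈ K) (p := fun x => x ∈ K) (fun x => by simp)]
        refine Finset.sum_congr rfl fun k _ => ?_
        simp only [regInd, Subgroup.orderOf_coe, hχK]
      show ¬ MemLocalIdeal M (lam χ (regInd p))
      rw [e]
      exact (lam_regInd_unit_iff hM θ).2 hθB
    rw [← hdd]
    exact hd ⟨χ, hχ⟩ hχB ((hz _ hχB).2 (by rw [show charDegree _ = _ from hdd]; exact hθd))
  -- they form a group of order prime to `p`
  let L : Subgroup (K →* ℂˣ) :=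
    { carrier := {l | SameBlock M (fun _ : K => (1 : ℂ)) (fun k => (l k : ℂ)) ∧
        ∀ (g : G) (k : K), l (MulAut.conjNormal g k) = l k}
      one_mem' := ⟨fun g => by simpa using memLI_zero hP, fun g k => rfl⟩
      mul_mem' := fun {a b} ha hb => ⟨centralChar_sub_mul hP ha.1 hb.1, fun g k => by
        rw [MonoidHom.mul_apply, MonoidHom.mul_apply, ha.2, hb.2]⟩
      inv_mem' := fun {a} ha => ⟨centralChar_sub_inv hP ha.1, fun g k => by
        rw [MonoidHom.inv_apply, MonoidHom.inv_apply, ha.2]⟩ }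
  have hLp : ¬ p ∣ Nat.card L := by
    intro h
    obtain ⟨l, hl⟩ := exists_prime_orderOf_dvd_card' p h
    have hno := detOrder_not_dvd (⟨fun k => ((l : K →* ℂˣ) k : ℂ), isIrrCharacter_linear _⟩ :
      IrrCharacter K) (fun g k => by
        show ((l : K →* ℂˣ) (MulAut.conjNormal g k) : ℂ) = ((l : K →* ℂˣ) k : ℂ)
        rw [l.2.2])
    rw [show detOrder _ = _ from detOrder_linear (l : K →* ℂˣ), Subgroup.orderOf_coe, hl] at hno
    exact hno dvd_rfl
  refine hLp ((CharP.cast_eq_zero_iff (ZMod p) p _).1 ?_)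
  set T := Finset.univ.filter (fun θ : IrrCharacter K => θ ∈ MulAction.fixedPoints (P : Subgroup G) (IrrCharacter K) ∧
    θ ∈ principalBlock M K ∧ charDegree (θ : K → ℂ) = 1) with hT
  have hcardT : Nat.card L = T.card := by
    let e : L ≃ {θ : IrrCharacter K // θ ∈ MulAction.fixedPoints (P : Subgroup G) (IrrCharacter K) ∧
        θ ∈ principalBlock M K ∧ charDegree (θ : K → ℂ) = 1} :=
      Equiv.ofBijective (fun l => ⟨⟨fun k => ((l : K →* ℂˣ) k : ℂ), isIrrCharacter_linear _⟩,
        (hfix _).2 (fun g k => by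
          show ((l : K →* ℂˣ) (MulAut.conjNormal g k) : ℂ) = ((l : K →* ℂˣ) k : ℂ)
          rw [l.2.2]), l.2.1, by simp [charDegree]⟩)
        ⟨fun a b h => Subtype.ext (MonoidHom.ext fun k => Units.ext
            (congrFun (congrArg Subtype.val (congrArg Subtype.val h)) k)),
          fun ⟨θ, hθf, hθB, hθd⟩ => by
            have h1 : (θ : K → ℂ) 1 = 1 := by
              rw [char_one_eq_deg (irr_isCharacter θ.2)]
              exact_mod_cast hθd
            obtain ⟨l, hl⟩ := exists_hom_of_degree_one (irr_isCharacter θ.2) h1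
            refine ⟨⟨l, ?_, fun g k => Units.ext ?_⟩, Subtype.ext (Subtype.ext hl.symm)⟩
            · rw [← hl]; exact hθB
            · have := (hfix θ).1 hθf g k
              rwa [hl] at this⟩
    rw [Nat.card_congr e, Nat.card_eq_fintype_card, Fintype.card_subtype]
  rw [hcardT, ← hsum, hT, Finset.card_filter, Finset.sum_filter, Nat.cast_sum, Nat.cast_sum]
  refine Finset.sum_congr rfl fun θ _ => ?_
  by_cases h1 : θ ∈ MulAction.fixedPoints (P : Subgroup G) (IrrCharacter K)
  swap
  · rw [if_neg (fun h => h1 h.1), if_neg h1]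
  rw [if_pos h1]
  by_cases h2 : θ ∈ principalBlock M K
  swap
  · rw [if_neg (fun h => h2 h.2.1)]
    simp only [f, if_neg h2]
  simp only [f, if_pos h2, h1, h2, true_and]
  by_cases h3 : p ∣ charDegree (θ : K → ℂ)
  · rw [if_neg (show ¬ charDegree (θ : K → ℂ) = 1 from fun h => hp.not_dvd_one (h ▸ h3)), Nat.cast_pow,
      (CharP.cast_eq_zero_iff (ZMod p) p _).2 h3, zero_pow two_ne_zero, Nat.cast_zero]
  · have := hlin θ h2 ((hfix θ).1 h1) h3
    simp [this]

end Cfsg.Agent.S4888
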