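import Cfsg.Statements.S4889
import Cfsg.Agent.Lib.Char.EqualDegreesAbelian
-- import your own Cfsg.Agent.* helpers here

set_option autoImplicit false
open Cfsg

namespace Cfsg.Agent.S4889

/-- Let G be a finite group, p a prime, M a maximal ideal of the algebraic integers containing p, and B a p-block of G that has an abelian defect group and in which every irreducible character has height zero. Then all irreducible characters of B have the same degree if and only if B is a nilpotent block. -/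
theorem result {G : Type*} [Group G] [Finite G] (p : ℕ) [Fact p.Prime] (M : Ideal Cfsg.AlgInt) (hM : Cfsg.IsPModular p M) (B : Set (Cfsg.IrrCharacter G)) (hB : Cfsg.IsPBlock M B) (D : Subgroup G) (hD : Cfsg.IsDefectGroup p M B D) (hDab : IsMulCommutative ↥D) (h0 : ∀ χ : Cfsg.IrrCharacter G, χ ∈ B → Cfsg.blockHeight p B (χ : G → ℂ) = 0) : (∃ d : ℕ, ∀ χ : Cfsg.IrrCharacter G, χ ∈ B → Cfsg.charDegree (χ : G → ℂ) = d) ↔ Cfsg.IsNilpotentBlock p M B := by
  classical
  haveI := Fintype.ofFinite G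
  have hab : ∀ x ∈ D, ∀ y ∈ D, x * y = y * x := fun x hx y hy =>
    congrArg Subtype.val (hDab.is_comm.comm (⟨x, hx⟩ : D) ⟨y, hy⟩)
  constructor
  · rintro ⟨d, hd⟩
    exact Cfsg.Agent.Char.EqualAb.nilpotent_of_equal hM hB hD hab (d := d)
      (fun χ hχ => by rw [← Cfsg.Agent.Char.charDegree_eq_deg]; exact hd χ hχ) h0
  · intro hnil
    obtain ⟨χ₀, hχ₀⟩ := Cfsg.Agent.Char.block_nonempty (Cfsg.Agent.Char.pmod_prime hM) hB
    refine ⟨Cfsg.charDegree (χ₀ : G → ℂ), fun χ hχ => ?_⟩
    have h := Cfsg.Agent.Char.NilpotentAbelian.regular_eq hM hB hD hab hnil hχ hχ₀ (x := 1)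
      (by simp [hM.1.ne_one])
    simp only [Cfsg.Agent.Char.charDegree_eq_deg]
    rw [Cfsg.Agent.Char.char_one_eq_deg (Cfsg.Agent.Char.irr_isCharacter χ.2),
      Cfsg.Agent.Char.char_one_eq_deg (Cfsg.Agent.Char.irr_isCharacter χ₀.2)] at h
    exact_mod_cast h

end Cfsg.Agent.S4889
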