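import Cfsg.Statements.S4911
import Cfsg.Agent.Lib.Char.RealPerm

set_option autoImplicit false
open Cfsg Cfsg.Agent.Char
open scoped ComplexConjugate

namespace Cfsg.Agent.S4911

/-- Let P and K be subgroups of a finite group with P a p-group normalizing K and K of order prime to p. Then the number of P-invariant real-valued irreducible complex characters of K equals the number of conjugacy classes of K that are real (closed under inversion) and P-invariant. Moreover, if every real-valued irreducible character of K is P-invariant, then every real element of K (one conjugate in K to its inverse) is conjugate in K to an element centralized by P. -/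
theorem result {G : Type*} [Group G] [Finite G] (p : ℕ) [Fact p.Prime] (P K : Subgroup G) (hP : IsPGroup p ↥P) (hK : ¬ p ∣ Nat.card ↥K) (hPK : P ≤ Subgroup.normalizer (K : Set G)) : Nat.card {θ : Cfsg.IrrCharacter ↥K // (∀ k : ↥K, ((θ : ↥K → ℂ) k).im = 0) ∧ (∀ x ∈ P, ∀ k k' : ↥K, (k' : G) = x * (k : G) * x⁻¹ → (θ : ↥K → ℂ) k' = (θ : ↥K → ℂ) k)} = Nat.card {c : ConjClasses ↥K // (∀ k : ↥K, ConjClasses.mk k = c → IsConj k k⁻¹) ∧ ∀ k : ↥K, ConjClasses.mk k = c → ∀ x ∈ P, ∀ k' : ↥K, (k' : G) = x * (k : G) * x⁻¹ → ConjClasses.mk k' = c} ∧ ((∀ θ : Cfsg.IrrCharacter ↥K, (∀ k : ↥K, ((θ : ↥K → ℂ) k).im = 0) → (∀ x ∈ P, ∀ k k' : ↥K, (k' : G) = x * (k : G) * x⁻¹ → (θ : ↥K → ℂ) k' = (θ : ↥K → ℂ) k)) → ∀ k : ↥K, IsConj k k⁻¹ → ∃ k' : ↥K, IsConj k k' ∧ ∀ x ∈ P, x * (k' : G) * x⁻¹ = (k' : G)) := by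
  classical
  haveI : Fintype K := Fintype.ofFinite K
  have hnorm : ∀ x ∈ P, ∀ k ∈ K, x * k * x⁻¹ ∈ K := fun x hx k hk =>
    (Subgroup.mem_normalizer_iff.mp (hPK hx) k).mp hk
  let φ : P →* MulAut K := conjActHom K P hnorm
  let C : Subgroup K := fixSub φ ⊤
  haveI : Fintype C := Fintype.ofFinite C
  obtain ⟨M, hM⟩ := exists_pModular (p := p) Fact.out
  have h : CoprimeFix M p φ C.subtype :=
    { pmod := hM, pgroup := hP, coprime := hK, inj := C.subtype_injective
      range := fun g => by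
        rw [Subgroup.range_subtype]
        exact ⟨fun hg s => hg s (Subgroup.mem_top s), fun hg n _ => hg n⟩ }
  have hiffχ : ∀ θ : IrrCharacter K,
      ((∀ k, ((θ : K → ℂ) k).im = 0) ∧ ∀ x ∈ P, ∀ k k' : K, (k' : G) = x * (k : G) * x⁻¹ →
        (θ : K → ℂ) k' = (θ : K → ℂ) k) ↔
      (irrConj θ = θ ∧ ∀ s g, (θ : K → ℂ) (φ s g) = (θ : K → ℂ) g) := fun θ => by
    rw [irrConj_eq_iff]
    refine and_congr_right fun _ => ⟨fun hh s g => hh s s.2 g _ rfl, fun hh x hx k k' hk => ?_⟩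
    rw [show k' = φ ⟨x, hx⟩ k from Subtype.ext hk]
    exact hh _ _
  have hiffC : ∀ c : ConjClasses K,
      ((∀ k : K, ConjClasses.mk k = c → IsConj k k⁻¹) ∧ ∀ k : K, ConjClasses.mk k = c → ∀ x ∈ P,
        ∀ k' : K, (k' : G) = x * (k : G) * x⁻¹ → ConjClasses.mk k' = c) ↔
      ((∀ g, ConjClasses.mk g = c → IsConj g g⁻¹) ∧
        ∀ s g, ConjClasses.mk g = c → ConjClasses.mk (φ s g) = c) := fun c => by
    refine and_congr_right fun _ => ⟨fun hh s g hg => hh g hg s s.2 _ rfl, fun hh k hk x hx k' hk' => ?_⟩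
    rw [show k' = φ ⟨x, hx⟩ k from Subtype.ext hk']
    exact hh _ _ hk
  have hcard := card_invariant_real h
  refine ⟨?_, fun hall k hk => ?_⟩
  · rw [Nat.card_congr (Equiv.subtypeEquivRight hiffχ), hcard,
      Nat.card_congr (Equiv.subtypeEquivRight hiffC)]
  have hsub : Nat.card {θ : IrrCharacter K // irrConj θ = θ} =
      Nat.card {θ : IrrCharacter K // irrConj θ = θ ∧ ∀ s g, (θ : K → ℂ) (φ s g) = (θ : K → ℂ) g} :=
    Nat.card_congr (Equiv.subtypeEquivRight fun θ => ⟨fun hθ => (hiffχ θ).mp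
      ⟨(irrConj_eq_iff θ).mp hθ, hall θ ((irrConj_eq_iff θ).mp hθ)⟩, fun hh => hh.1⟩)
  rw [card_real_irr_eq_card_real_classes, hcard] at hsub
  haveI : Fintype (ConjClasses K) := Fintype.ofFinite _
  simp only [Nat.card_eq_fintype_card, Fintype.card_subtype] at hsub
  have heq := Finset.eq_of_subset_of_card_le
    (s := Finset.univ.filter fun c : ConjClasses K => (∀ g, ConjClasses.mk g = c → IsConj g g⁻¹) ∧
      ∀ s g, ConjClasses.mk g = c → ConjClasses.mk (φ s g) = c)
    (fun c hc => Finset.mem_filter.mpr ⟨Finset.mem_univ _, (Finset.mem_filter.mp hc).2.1⟩) hsub.le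
  have hmem : ConjClasses.mk k ∈ Finset.univ.filter fun c : ConjClasses K =>
      ∀ g, ConjClasses.mk g = c → IsConj g g⁻¹ := Finset.mem_filter.mpr ⟨Finset.mem_univ _, fun g hg => by
    have h1 := ConjClasses.mk_eq_mk_iff_isConj.mp hg
    exact h1.trans (hk.trans (isConj_inv_inv h1.symm))⟩
  rw [← heq] at hmem
  obtain ⟨c, hc⟩ := exists_fixed_rep φ C.subtype hM.1 hP hK h.range (g := k) fun s =>
    (ConjClasses.mk_eq_mk_iff_isConj.mp ((Finset.mem_filter.mp hmem).2.2 s k rfl)).symm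
  refine ⟨C.subtype c, hc, fun x hx => ?_⟩
  exact congrArg Subtype.val (c.2 ⟨x, hx⟩ (Subgroup.mem_top _))

end Cfsg.Agent.S4911
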