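import Cfsg.Statements.S4914
import Cfsg.Agent.Lib.Char.RelFixMain

set_option autoImplicit false
open Cfsg
open scoped ComplexConjugate

namespace Cfsg.Agent.S4914

/-- Let P and K be subgroups of a finite group G with P a p-group normalizing K, and suppose K has a normal Sylow p-subgroup Q. Let C be the subgroup of those k ∈ K whose commutator with every element of P lies in Q (so that C/Q is the fixed-point subgroup of P on K/Q). Then there is a bijection f from the P-invariant irreducible complex characters of K onto the P-invariant irreducible complex characters of C such that, for every P-invariant irreducible character χ of K, the multiplicity of f(χ) in the restriction of χ to C is a natural number congruent to 1 or to −1 modulo p, every other P-invariant irreducible character of C occurs in that restriction with multiplicity divisible by p, and the degrees of χ and f(χ) are congruent modulo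 p up to sign. -/
theorem result {G : Type*} [Group G] [Finite G] (p : ℕ) [Fact p.Prime] (P K Q C : Subgroup G) (hP : IsPGroup p ↥P) (hPK : P ≤ Subgroup.normalizer (K : Set G)) (hQK : Q ≤ K) (hQn : ∀ k ∈ K, ∀ q ∈ Q, k * q * k⁻¹ ∈ Q) (hQp : ∃ a : ℕ, Nat.card ↥Q = p ^ a) (hQsyl : ¬ p ∣ Q.relIndex K) (hCK : C ≤ K) (hC : ∀ k : G, k ∈ C ↔ (k ∈ K ∧ ∀ x ∈ P, x * k * x⁻¹ * k⁻¹ ∈ Q)) : ∃ f : {χ : Cfsg.IrrCharacter ↥K // (∀ x ∈ P, ∀ k k' : ↥K, (k' : G) = x * (k : G) * x⁻¹ → (χ : ↥K → ℂ) k' = (χ : ↥K → ℂ) k)} → {ξ : Cfsg.IrrCharacter ↥C // (∀ x ∈ P, ∀ k k' : ↥C, (k' : G) = x * (k : G) * x⁻¹ → (ξ : ↥C → ℂ) k' = (ξ : ↥C → ℂ) k)}, Function.Bijective f ∧ ∀ χ, (∀ ξ : {ξ : Cfsg.IrrCharacter ↥C // (∀ x ∈ P, ∀ k k' : ↥C, (k' : G) = x * (k : G) * x⁻¹ → (ξ : ↥C → ℂ) k' = (ξ : ↥C → ℂ) k)}, ∃ m : ℕ, (Nat.card ↥C : ℂ)⁻¹ * ∑ᶠ c : ↥C, (χ.1 : ↥K → ℂ) (Subgroup.inclusion hCK c) * (starRingEnd ℂ) ((ξ.1 : ↥C → ℂ) c) = (m : ℂ)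 ∧ (ξ = f χ → ((m : ZMod p) = 1 ∨ (m : ZMod p) = -1)) ∧ (ξ ≠ f χ → p ∣ m)) ∧ ((Cfsg.charDegree ((f χ).1 : ↥C → ℂ) : ZMod p) = (Cfsg.charDegree (χ.1 : ↥K → ℂ) : ZMod p) ∨ (Cfsg.charDegree ((f χ).1 : ↥C → ℂ) : ZMod p) = -(Cfsg.charDegree (χ.1 : ↥K → ℂ) : ZMod p)) := by
  classical
  haveI := Fintype.ofFinite G
  haveI : Fintype K := Fintype.ofFinite _
  haveI : Fintype C := Fintype.ofFinite _
  let N : Subgroup K := Q.subgroupOf K
  haveI : N.Normal := ⟨fun q hq k => hQn k k.2 q hq⟩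
  haveI : Fintype N := Fintype.ofFinite _
  obtain ⟨a, ha⟩ := hQp
  have hidx : ¬ p ∣ N.index := hQsyl
  have hN : IsPGroup p N :=
    (IsPGroup.of_card ha).of_equiv (Subgroup.subgroupOfEquivOfLe hQK).symm
  have hPK' : ∀ s ∈ P, ∀ g ∈ K, s * g * s⁻¹ ∈ K := fun s hs g hg =>
    (Subgroup.mem_normalizer_iff.mp (hPK hs) g).mp hg
  -- the normal Sylow subgroup is stable
  have hstab : ∀ s, ∀ n ∈ N, Cfsg.Agent.Char.conjActHom K P hPK' s n ∈ N := by
    intro s n hn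
    set y := Cfsg.Agent.Char.conjActHom K P hPK' s n with hy
    obtain ⟨b, hb⟩ := IsPGroup.iff_card.mp hN
    have h1 : n ^ p ^ b = 1 := by
      have h := congrArg Subtype.val (pow_card_eq_one' (x := (⟨n, hn⟩ : N)))
      rwa [hb] at h
    have h2 : y ^ p ^ b = 1 := by rw [hy, ← map_pow, h1, map_one]
    have hcop : N.index.Coprime (p ^ b) :=
      Nat.Coprime.pow_right b (((Fact.out : p.Prime).coprime_iff_not_dvd.mpr hidx).symm)
    rw [← QuotientGroup.eq_one_iff, ← orderOf_eq_one_iff]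
    refine Nat.eq_one_of_dvd_coprimes hcop (orderOf_dvd_of_pow_eq_one ?_)
      (orderOf_dvd_of_pow_eq_one ?_)
    · rw [← QuotientGroup.mk_pow, QuotientGroup.eq_one_iff]
      exact N.pow_index_mem y
    · rw [← QuotientGroup.mk_pow, h2, QuotientGroup.mk_one]
  have hPC : ∀ s ∈ P, ∀ g ∈ C, s * g * s⁻¹ ∈ C := by
    intro s hs g hg
    obtain ⟨hgK, hgQ⟩ := (hC g).1 hg
    have hq := hgQ s hs
    have hQC : s * g * s⁻¹ * g⁻¹ ∈ C := (hC _).2 ⟨hQK hq, fun x hx => by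
      refine Q.mul_mem ?_ (Q.inv_mem hq)
      exact hstab ⟨x, hx⟩ ⟨_, hQK hq⟩ hq⟩
    simpa using C.mul_mem hQC hg
  have hCfix : ∀ g : K, g ∈ (Subgroup.inclusion hCK).range ↔
      ∀ s, Cfsg.Agent.Char.conjActHom K P hPK' s g * g⁻¹ ∈ N := by
    intro g
    constructor
    · rintro ⟨c, rfl⟩ s
      exact ((hC c).1 c.2).2 s s.2
    · intro h
      exact ⟨⟨g, (hC g).2 ⟨g.2, fun x hx => h ⟨x, hx⟩⟩⟩, Subtype.ext rfl⟩
  obtain ⟨F, hF, hFp⟩ := Cfsg.Agent.Char.relFix_main (Cfsg.Agent.Char.conjActHom K P hPK') N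
    (Subgroup.inclusion hCK) (Cfsg.Agent.Char.conjActHom C P hPC) Fact.out hP hN hidx hstab
    (Subgroup.inclusion_injective hCK) hCfix (fun s c => Subtype.ext rfl)
  have toK : ∀ χ : IrrCharacter K,
      (∀ x ∈ P, ∀ k k' : K, (k' : G) = x * (k : G) * x⁻¹ → (χ : K → ℂ) k' = (χ : K → ℂ) k) ↔
        Cfsg.Agent.Char.IsActInvariant (Cfsg.Agent.Char.conjActHom K P hPK') (χ : K → ℂ) :=
    fun χ => ⟨fun h s k => h s s.2 k _ rfl, fun h x hx k k' hk => by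
      rw [← h ⟨x, hx⟩ k]
      exact congrArg _ (Subtype.ext hk)⟩
  have toC : ∀ χ : IrrCharacter C,
      (∀ x ∈ P, ∀ k k' : C, (k' : G) = x * (k : G) * x⁻¹ → (χ : C → ℂ) k' = (χ : C → ℂ) k) ↔
        Cfsg.Agent.Char.IsActInvariant (Cfsg.Agent.Char.conjActHom C P hPC) (χ : C → ℂ) :=
    fun χ => ⟨fun h s k => h s s.2 k _ rfl, fun h x hx k k' hk => by
      rw [← h ⟨x, hx⟩ k]
      exact congrArg _ (Subtype.ext hk)⟩
  let eK := Equiv.subtypeEquivRight toK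
  let eC := Equiv.subtypeEquivRight toC
  refine ⟨fun χ => eC.symm (F (eK χ)), (eC.symm.bijective.comp hF).comp eK.bijective,
    fun χ => ⟨fun ξ => ?_, (hFp (eK χ)).2⟩⟩
  obtain ⟨m, hm, h1, h2⟩ := (hFp (eK χ)).1 (eC ξ)
  refine ⟨m, ?_, fun he => h1 (by rw [he, Equiv.apply_symm_apply]),
    fun he => h2 fun h => he ((eC.symm_apply_apply ξ).symm.trans (congrArg eC.symm h))⟩
  rw [finsum_eq_sum_of_fintype]
  exact hm

end Cfsg.Agent.S4914
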