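import Cfsg.Statements.S4916
import Cfsg.Agent.Lib.Char.BlockInter
import Cfsg.Agent.Lib.Char.BlockRankCard

set_option autoImplicit false
open Cfsg Cfsg.Agent.Char
open scoped ComplexConjugate

namespace Cfsg.Agent.S4916

/-- Let G be a finite group, p a prime and M a maximal ideal of the algebraic integers containing p. Then the principal character is the only irreducible character of degree prime to p in the principal p-block of G if and only if p does not divide the order of G. -/
theorem result {G : Type*} [Group G] [Finite G] (p : ℕ) [Fact p.Prime] (M : Ideal Cfsg.AlgInt) (hM : Cfsg.IsPModular p M) : (∀ χ : Cfsg.IrrCharacter G, χ ∈ Cfsg.principalBlock M G → ¬ p ∣ Cfsg.charDegree (χ : G → ℂ) → (χ : G → ℂ) = fun _ => (1 : ℂ)) ↔ ¬ p ∣ Nat.card G := by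
  classical
  haveI := Fintype.ofFinite G
  have hp : p.Prime := Fact.out
  have hB := isPBlock_principalBlock (G := G) M
  set e1 : IrrCharacter G := ⟨fun _ => 1, isIrrCharacter_one⟩
  have he1 : e1 ∈ principalBlock M G := one_mem_principal hM
  have hd1 : charDegree (e1 : G → ℂ) = 1 := by
    rw [charDegree_eq_deg]
    have h : ((deg (e1 : G → ℂ) : ℕ) : ℂ) = 1 := (char_one_eq_deg (irr_isCharacter e1.2)).symm
    exact_mod_cast h
  constructor
  · intro h hdiv
    have h1 := dvd_sum_sq_principal hM hdiv
    rw [← Finset.add_sum_erase _ _ (Finset.mem_filter.mpr ⟨Finset.mem_univ _, he1⟩), hd1] at h1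
    refine hp.not_dvd_one ?_
    have h2 : p ∣ ∑ x ∈ (Finset.univ.filter fun χ => χ ∈ principalBlock M G).erase e1,
        charDegree (x : G → ℂ) ^ 2 := by
      refine Finset.dvd_sum fun χ hχ => dvd_pow ?_ two_ne_zero
      obtain ⟨hne, hmem⟩ := Finset.mem_erase.mp hχ
      by_contra hd
      exact hne (Subtype.ext (h χ (Finset.mem_filter.mp hmem).2 hd))
    simpa using (Nat.dvd_add_left h2).mp h1
  · intro hdiv χ hχ _
    have hd : blockDefect p (principalBlock M G) = 0 := by
      have := dmin_add_defect (p := p) (block_nonempty (pmod_prime hM) hB)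
      have := Nat.factorization_eq_zero_of_not_dvd hdiv
      omega
    have hc := ((defect_zero_iff_rank hM hB).1.mp hd).1
    have hs := (Nat.card_eq_one_iff_unique.mp hc).1
    exact congrArg Subtype.val
      (congrArg Subtype.val (hs.elim ⟨χ, hχ⟩ ⟨e1, he1⟩) : χ = e1)

end Cfsg.Agent.S4916
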