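import Cfsg.Statements.S4931
import Cfsg.Agent.S0081
import Cfsg.Agent.Lib.Char.PrincipalBlock
import Cfsg.Agent.Lib.Char.Inflate
import Cfsg.Agent.Lib.Char.DegreeDvd
import Cfsg.Agent.Lib.Char.BrauerConj
import Cfsg.Agent.Lib.Fusion.NPC
import Cfsg.Agent.Lib.Solv.PGroupPhi

set_option autoImplicit false
open Cfsg Cfsg.Agent.Char
open scoped Pointwise commutatorElement
open scoped ComplexConjugate

namespace Cfsg.Agent.S4931

/-- An element with all character values equal to the degrees is trivial. -/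
theorem eq_one_of_forall_irr {H : Type*} [Group H] [Finite H] {x : H}
    (h : ∀ ψ : IrrCharacter H, (ψ : H → ℂ) x = (ψ : H → ℂ) 1) : x = 1 := by
  classical
  haveI := Fintype.ofFinite H
  by_contra hx
  have h1 := regular_sum (G := H) x
  rw [if_neg hx, Finset.sum_congr rfl (fun ψ _ => by rw [h ψ, ← pow_two]), sum_sq_deg] at h1
  exact Nat.cast_ne_zero.2 Nat.card_pos.ne' h1

theorem pResidual_map_le {p : ℕ} {H H' : Type*} [Group H] [Group H'] [Finite H] (f : H →* H') :
    (pResidual p H).map f ≤ pResidual p H' := by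
  rw [pResidual, MonoidHom.map_closure, Subgroup.closure_le]
  rintro _ ⟨w, hw, rfl⟩
  exact Subgroup.subset_closure (Nat.Coprime.coprime_dvd_left (orderOf_map_dvd f w) hw)

/-- A complement criterion: self-normalizing `P` in `R`, and a normal subgroup meeting `P` in its
derived subgroup with commutative image. -/
theorem not_dvd_pResidual {R : Type*} [Group R] [Finite R] {p : ℕ} [Fact p.Prime] (P : Sylow p R)
    (hPn : Subgroup.normalizer ((P : Subgroup R) : Set R) ≤ (P : Subgroup R))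
    (K : Subgroup R) [K.Normal] (hPK : ⁅(P : Subgroup R), (P : Subgroup R)⁆ ≤ K)
    (hKP : K ⊓ (P : Subgroup R) ≤ ⁅(P : Subgroup R), (P : Subgroup R)⁆) :
    ¬ p ∣ Nat.card (pResidual p R) := by
  have hp : p.Prime := Fact.out
  have hπ := QuotientGroup.mk'_surjective K
  set Q := P.mapSurjective hπ with hQ
  have hQc : (Q : Subgroup (R ⧸ K)) = (P : Subgroup R).map (QuotientGroup.mk' K) := rfl
  -- the image is self-normalizing and commutative
  have hnc : Subgroup.normalizer ((Q : Subgroup (R ⧸ K)) : Set (R ⧸ K)) ≤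
      Subgroup.centralizer ((Q : Subgroup (R ⧸ K)) : Set (R ⧸ K)) := by
    intro z hz
    obtain ⟨r, rfl⟩ := hπ z
    set Y := (P : Subgroup R) ⊔ K with hY
    set Mz := Subgroup.normalizer (Y : Set R) with hMz
    have hYc : Y = ((Q : Subgroup (R ⧸ K))).comap (QuotientGroup.mk' K) := by
      rw [hQc, Subgroup.comap_map_eq, QuotientGroup.ker_mk']
    have hr : r ∈ Mz := by
      rw [hMz, Subgroup.mem_normalizer_iff]
      intro w
      rw [hYc, Subgroup.mem_comap, Subgroup.mem_comap, map_mul, map_mul, map_inv]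
      exact Subgroup.mem_normalizer_iff.1 hz _
    have hPM : (P : Subgroup R) ≤ Mz := le_sup_left.trans Subgroup.le_normalizer
    haveI : (Y.subgroupOf Mz).Normal := Subgroup.normal_in_normalizer
    have hfr : Subgroup.normalizer (((P.subtype hPM : Sylow p Mz) : Subgroup Mz) : Set Mz) ⊔
        Y.subgroupOf Mz = ⊤ :=
      Sylow.normalizer_sup_eq_top' (P.subtype hPM) (fun w hw => Subgroup.mem_sup_left hw)
    have hle : Subgroup.normalizer (((P.subtype hPM : Sylow p Mz) : Subgroup Mz) : Set Mz) ≤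
        Y.subgroupOf Mz := by
      intro w hw
      refine Subgroup.mem_sup_left (hPn ?_)
      rw [Subgroup.mem_normalizer_iff] at hw ⊢
      intro v
      constructor
      · intro hv
        exact (hw ⟨v, hPM hv⟩).1 hv
      · intro hv
        have hvM : v ∈ Mz := by
          have := mul_mem (mul_mem (inv_mem w.2) (hPM hv)) w.2
          simpa [mul_assoc] using this
        exact (hw ⟨v, hvM⟩).2 hv
    have hrY : r ∈ Y := (sup_le hle le_rfl) (hfr.ge (Subgroup.mem_top (⟨r, hr⟩ : Mz)))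
    have hzQ : QuotientGroup.mk' K r ∈ (Q : Subgroup (R ⧸ K)) := by rw [hYc] at hrY; exact hrY
    rw [Subgroup.mem_centralizer_iff]
    intro v hv
    rw [hQc] at hzQ
    obtain ⟨a, ha, hav⟩ := Subgroup.mem_map.1 (hQc ▸ hv : v ∈ (P : Subgroup R).map (QuotientGroup.mk' K))
    obtain ⟨b, hb, hbz⟩ := Subgroup.mem_map.1 hzQ
    rw [← hav, ← hbz, ← commutatorElement_eq_one_iff_mul_comm, ← map_commutatorElement,
      ← MonoidHom.mem_ker, QuotientGroup.ker_mk']
    exact hPK (Subgroup.commutator_mem_commutator ha hb)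
  have hq : (Nat.card (pResidual p (R ⧸ K))).Coprime p :=
    Cfsg.Agent.Fusion.hnpc_iff.1 (Cfsg.Agent.Fusion.hnpc_of_normalizer_le_centralizer Q hnc)
  haveI : (pResidual p R).Normal := inferInstance
  have hint : pResidual p R ⊓ (P : Subgroup R) ≤ ⁅(P : Subgroup R), (P : Subgroup R)⁆ := by
    rintro x ⟨hx1, hx2⟩
    refine hKP ⟨?_, hx2⟩
    have h1 : QuotientGroup.mk' K x ∈ pResidual p (R ⧸ K) :=
      pResidual_map_le _ (Subgroup.mem_map_of_mem _ hx1)
    have hd1 : orderOf (QuotientGroup.mk' K x) ∣ Nat.card (pResidual p (R ⧸ K)) :=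
      Subgroup.orderOf_mk _ h1 ▸ orderOf_dvd_natCard _
    obtain ⟨k, hk⟩ := P.isPGroup' ⟨x, hx2⟩
    have hd2 : orderOf (QuotientGroup.mk' K x) ∣ p ^ k :=
      (orderOf_map_dvd _ x).trans (orderOf_dvd_of_pow_eq_one (congrArg Subtype.val hk))
    show x ∈ K
    rw [← QuotientGroup.eq_one_iff]
    exact orderOf_eq_one_iff.1 (Nat.eq_one_of_dvd_coprimes (hq.pow_right k) hd1 hd2)
  have hfrat : pResidual p R ⊓ (P : Subgroup R) ≤ (frattini (P : Subgroup R)).map (P : Subgroup R).subtype := by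
    refine hint.trans ?_
    have h1 := Subgroup.map_mono (f := (P : Subgroup R).subtype)
      (Cfsg.Agent.Solv.commutator_le_frattini_pgroup P.isPGroup')
    rwa [commutator_def, Subgroup.map_commutator, ← MonoidHom.range_eq_map, Subgroup.range_subtype] at h1
  have h2 := Cfsg.Agent.Fusion.hnpc_iff.1 (Cfsg.Agent.S0081.result P (pResidual p R) hfrat)
  have htop : pResidual p (pResidual p R) = ⊤ := by
    refine top_unique fun w _ => ?_
    have hmap : pResidual p R ≤ (pResidual p (pResidual p R)).map (pResidual p R).subtype := by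
      conv_lhs => rw [pResidual]
      rw [Subgroup.closure_le]
      intro g hg
      refine Subgroup.mem_map.2 ⟨⟨g, Subgroup.subset_closure hg⟩, Subgroup.subset_closure ?_, rfl⟩
      refine Nat.Coprime.coprime_dvd_left ?_ hg
      rw [← Subgroup.orderOf_coe]
    obtain ⟨v, hv, hvw⟩ := Subgroup.mem_map.1 (hmap w.2)
    rwa [← Subtype.ext (show (v : R) = (w : R) from hvw)]
  rw [htop, Subgroup.card_top] at h2
  exact fun h => hp.ne_one (Nat.eq_one_of_dvd_coprimes h2 h dvd_rfl)


/-- Let G be a finite group, p a prime and P a Sylow p-subgroup of G with normalizer N. Then every irreducible complex character of N of degree not divisible by p is the restriction of an irreducible character of G if and only if there is a normal subgroup K of G with KN = G and K ∩ N = 1. -/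
theorem result {G : Type*} [Group G] [Finite G] (p : ℕ) [Fact p.Prime] (P : Sylow p G) :
    (∀ θ : Cfsg.IrrCharacter ↥(Subgroup.normalizer ((P : Subgroup G) : Set G)), ¬ p ∣ Cfsg.charDegree (θ : ↥(Subgroup.normalizer ((P : Subgroup G) : Set G)) → ℂ) →
        ∃ χ : Cfsg.IrrCharacter G, ∀ x : ↥(Subgroup.normalizer ((P : Subgroup G) : Set G)), (χ : G → ℂ) x = (θ : ↥(Subgroup.normalizer ((P : Subgroup G) : Set G)) → ℂ) x) ↔
      ∃ K : Subgroup G, K.Normal ∧ K ⊔ Subgroup.normalizer ((P : Subgroup G) : Set G) = ⊤ ∧ K ⊓ Subgroup.normalizer ((P : Subgroup G) : Set G) = ⊥ := by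
  classical
  haveI := Fintype.ofFinite G
  haveI : ∀ H : Subgroup G, Fintype H := fun H => Fintype.ofFinite H
  have hp : p.Prime := Fact.out
  set N := Subgroup.normalizer ((P : Subgroup G) : Set G) with hN
  have hPN : (P : Subgroup G) ≤ N := Subgroup.le_normalizer
  constructor
  swap
  · rintro ⟨K, hK, hjoin, hmeet⟩ θ -
    haveI := hK
    haveI := Fintype.ofFinite (G ⧸ K)
    let f : N →* G ⧸ K := (QuotientGroup.mk' K).comp N.subtype
    have hf : Function.Bijective f := by
      refine ⟨(injective_iff_map_eq_one f).2 fun w hw => Subtype.ext ?_, fun z => ?_⟩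
      · have : (w : G) ∈ K ⊓ N := ⟨(QuotientGroup.eq_one_iff _).1 hw, w.2⟩
        rwa [hmeet, Subgroup.mem_bot] at this
      · obtain ⟨g, rfl⟩ := QuotientGroup.mk'_surjective K z
        have hg : g ∈ ((N ⊔ K : Subgroup G) : Set G) := by rw [sup_comm, hjoin]; trivial
        rw [Subgroup.mul_normal] at hg
        obtain ⟨a, ha, k, hk, rfl⟩ := hg
        refine ⟨⟨a, ha⟩, ?_⟩
        show QuotientGroup.mk' K a = QuotientGroup.mk' K (a * k)
        rw [map_mul, show QuotientGroup.mk' K k = 1 from (QuotientGroup.eq_one_iff k).2 hk, mul_one]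
    let e : N ≃* G ⧸ K := MulEquiv.ofBijective f hf
    refine ⟨(inflateEquiv K (irrTransport e.symm θ)).1, fun x => ?_⟩
    rw [inflateEquiv_apply]
    show (θ : N → ℂ) (e.symm (e x)) = _
    rw [MulEquiv.symm_apply_apply]
  intro hext
  set PN := (P : Subgroup G).subgroupOf N with hPN'
  haveI hPNn : PN.Normal := Subgroup.normal_in_normalizer
  set D := ⁅PN, PN⁆ with hD
  have hDP : D ≤ PN := Subgroup.commutator_le_left PN PN
  have hmapD : D.map N.subtype = ⁅(P : Subgroup G), (P : Subgroup G)⁆ := by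
    rw [hD, Subgroup.map_commutator, hPN', Subgroup.subgroupOf_map_subtype, inf_eq_left.2 hPN]
  have hidx : ¬ p ∣ PN.index := fun h => P.not_dvd_index
    (h.trans (Subgroup.relIndex_dvd_index_of_le hPN))
  have hex : ∀ (W : Subgroup N) [W.Normal], D ≤ W → ∀ ψ : IrrCharacter (N ⧸ W),
      ∃ χ : IrrCharacter G, ∀ x : N, (χ : G → ℂ) x = (ψ : N ⧸ W → ℂ) (QuotientGroup.mk x) := by
    intro W _ hW ψ
    haveI := Fintype.ofFinite (N ⧸ W)
    set A := PN.map (QuotientGroup.mk' W)
    haveI : A.Normal := hPNn.map _ (QuotientGroup.mk'_surjective W)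
    have hA : ∀ a b : A, a * b = b * a := fun a b => by
      obtain ⟨u, hu, hua⟩ := Subgroup.mem_map.1 a.2
      obtain ⟨v, hv, hvb⟩ := Subgroup.mem_map.1 b.2
      refine Subtype.ext ?_
      rw [Subgroup.coe_mul, Subgroup.coe_mul, ← hua, ← hvb, ← commutatorElement_eq_one_iff_mul_comm,
        ← map_commutatorElement, ← MonoidHom.mem_ker, QuotientGroup.ker_mk']
      exact hW (Subgroup.commutator_mem_commutator hu hv)
    have hd : ¬ p ∣ deg (ψ : N ⧸ W → ℂ) := fun h =>
      hidx ((h.trans (deg_dvd_index_abelian_normal ψ.2 A hA)).trans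
        (Subgroup.index_map_dvd _ (QuotientGroup.mk'_surjective W)))
    obtain ⟨χ, hχ⟩ := hext (inflateEquiv W ψ).1 (by
      show ¬ p ∣ deg _
      simpa only [deg, inflateEquiv_apply, QuotientGroup.mk_one] using hd)
    exact ⟨χ, fun x => by rw [hχ x, inflateEquiv_apply]⟩
  set S := {χ : IrrCharacter G | ∀ d ∈ D, (χ : G → ℂ) (d : N) = (χ : G → ℂ) 1}
  set SP := {χ : IrrCharacter G | ∀ d ∈ PN, (χ : G → ℂ) (d : N) = (χ : G → ℂ) 1}
  set K := blockKerSub S with hK
  set R := blockKerSub SP with hR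
  haveI : K.Normal := blockKerSub_normal S
  haveI : R.Normal := blockKerSub_normal SP
  have hsep : ∀ (W : Subgroup N) [W.Normal], D ≤ W → ∀ x : N,
      (x : G) ∈ blockKerSub {χ : IrrCharacter G | ∀ d ∈ W, (χ : G → ℂ) (d : N) = (χ : G → ℂ) 1} → x ∈ W := by
    intro W _ hW x hx
    rw [← QuotientGroup.eq_one_iff]
    refine eq_one_of_forall_irr fun ψ => ?_
    obtain ⟨χ, hχ⟩ := hex W hW ψ
    have h1 := hx χ (fun d hd => by
      rw [hχ d, (QuotientGroup.eq_one_iff d).2 hd, ← OneMemClass.coe_one N, hχ 1, QuotientGroup.mk_one])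
    rw [hχ x, ← OneMemClass.coe_one N, hχ 1, QuotientGroup.mk_one] at h1
    exact h1
  have hPR : (P : Subgroup G) ≤ R := fun x hx χ hχ => hχ ⟨x, hPN hx⟩ hx
  have hRN : ∀ x ∈ R, x ∈ N → x ∈ (P : Subgroup G) := fun x hx hxN => hsep PN hDP ⟨x, hxN⟩ hx
  have hPd : ⁅(P : Subgroup G), (P : Subgroup G)⁆ ≤ K := by
    rw [← hmapD]
    rintro _ ⟨d, hd, rfl⟩ χ hχ
    exact hχ d hd
  have hKN : ∀ x ∈ K, x ∈ N → x ∈ ⁅(P : Subgroup G), (P : Subgroup G)⁆ := fun x hx hxN => by
    rw [← hmapD]
    exact ⟨⟨x, hxN⟩, hsep D le_rfl ⟨x, hxN⟩ hx, rfl⟩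
  -- inside `R`
  set PR := P.subtype hPR with hPR'
  have hPRc : (PR : Subgroup R) = (P : Subgroup G).subgroupOf R := rfl
  have hmapPR : ⁅(PR : Subgroup R), (PR : Subgroup R)⁆.map R.subtype = ⁅(P : Subgroup G), (P : Subgroup G)⁆ := by
    rw [Subgroup.map_commutator, hPRc, Subgroup.subgroupOf_map_subtype, inf_eq_left.2 hPR]
  have hres := not_dvd_pResidual PR
    (by
      intro w hw
      rw [hPRc, Subgroup.mem_subgroupOf]
      refine hRN _ w.2 ?_
      rw [hN, Subgroup.mem_normalizer_iff]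
      intro v
      constructor
      · intro hv
        exact (Subgroup.mem_normalizer_iff.1 hw ⟨v, hPR hv⟩).1 hv
      · intro hv
        have hvR : v ∈ R := by
          have := mul_mem (mul_mem (inv_mem w.2) (hPR hv)) w.2
          simpa [mul_assoc] using this
        exact (Subgroup.mem_normalizer_iff.1 hw ⟨v, hvR⟩).2 hv)
    (K.subgroupOf R)
    (fun w hw => hPd (hmapPR ▸ Subgroup.mem_map_of_mem R.subtype hw))
    (fun w hw => by
      have h1 : (w : G) ∈ ⁅(P : Subgroup G), (P : Subgroup G)⁆ := hKN _ hw.1 (hPN hw.2)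
      rw [← hmapPR] at h1
      obtain ⟨v, hv, hvw⟩ := h1
      rwa [← Subtype.ext (show (v : G) = (w : G) from hvw)])
  set Q := (pResidual p R).map R.subtype with hQ
  haveI hQn : Q.Normal := ⟨fun n hn g => by
    obtain ⟨w, hw, rfl⟩ := Subgroup.mem_map.1 hn
    refine Subgroup.mem_map.2 ⟨MulAut.conjNormal g w, ?_, by simp [MulAut.conjNormal_apply]⟩
    exact pResidual_map_le (MulAut.conjNormal g : MulAut R).toMonoidHom (Subgroup.mem_map_of_mem _ hw)⟩
  have hfr : N ⊔ R = ⊤ := Sylow.normalizer_sup_eq_top' P hPR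
  refine ⟨Q, hQn, top_unique ?_, ?_⟩
  · rw [← hfr]
    refine sup_le le_sup_right fun w hw => ?_
    have h1 : (⟨w, hw⟩ : R) ∈ pResidual p R ⊔ (PR : Subgroup R) := by
      rw [Cfsg.Agent.Fusion.pResidual_sup_sylow PR]; trivial
    have h2 := Subgroup.mem_map_of_mem R.subtype h1
    rw [Subgroup.map_sup] at h2
    refine SetLike.le_def.1 (sup_le_sup_left ?_ _) h2
    rintro _ ⟨v, hv, rfl⟩
    exact hPN hv
  · rw [Subgroup.eq_bot_iff_forall]
    rintro x ⟨hxQ, hxN⟩
    obtain ⟨w, hw, rfl⟩ := Subgroup.mem_map.1 hxQ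
    obtain ⟨k, hk⟩ := P.isPGroup' ⟨_, hRN _ w.2 hxN⟩
    have hd1 : orderOf w ∣ Nat.card (pResidual p R) := Subgroup.orderOf_mk _ hw ▸ orderOf_dvd_natCard _
    have hd2 : orderOf w ∣ p ^ k := by
      rw [← Subgroup.orderOf_coe]
      exact orderOf_dvd_of_pow_eq_one (congrArg Subtype.val hk)
    rw [orderOf_eq_one_iff.1 (Nat.eq_one_of_dvd_coprimes
      ((Nat.coprime_comm.1 (hp.coprime_iff_not_dvd.2 hres)).pow_right k) hd1 hd2), map_one]

end Cfsg.Agent.S4931
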