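import Cfsg.Statements.S4955
import Cfsg.Agent.Lib.Char.Zeros
import Cfsg.Agent.Lib.Char.CoprimeMcKay
import Cfsg.Agent.Lib.Char.Rational
import Cfsg.Agent.Lib.Char.Codegree
import Cfsg.Agent.Lib.Char.DegreeDvd
import Cfsg.Agent.Lib.Char.Congr
import Cfsg.Agent.Lib.Char.LocalRing
import Cfsg.Agent.Lib.Char.Inflate

set_option autoImplicit false
open Cfsg Cfsg.Agent.Char
open scoped ComplexConjugate
open scoped ComplexConjugate

namespace Cfsg.Agent.S4955

/-- Let X be a finite group with an abelian normal Sylow p-subgroup V (a normal p-subgroup of index prime to p in which any two elements commute), and let G be a complement to V in X. Then for every v in V, writing C for the centralizer of v in G, the number k(X) of conjugacy classes of X satisfies k(X) ≤ (order of C)·(order of V) − ((order of G) − k(G)); the statement is written with the subtracted term moved to the left. In particular, if some v in V is centralized by no nonidentity element of G, then k(X) is at most the order of V. -/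
theorem result {X : Type*} [Group X] [Finite X] (p : ℕ) [Fact p.Prime] (V : Subgroup X) [V.Normal] (hVp : IsPGroup p V) (hidx : ¬ p ∣ V.index) (hab : ∀ a ∈ V, ∀ b ∈ V, a * b = b * a) (G : Subgroup X) (hGV : Subgroup.IsComplement' V G) (v : X) (hv : v ∈ V) : Nat.card (ConjClasses X) + Nat.card G ≤ Nat.card ↥(G ⊓ Subgroup.centralizer ({v} : Set X)) * Nat.card V + Nat.card (ConjClasses G) := by
  classical
  haveI := Fintype.ofFinite X
  have hp : p.Prime := Fact.out
  haveI := Fintype.ofFinite (X ⧸ V)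
  obtain ⟨M, hM⟩ := exists_pModular hp
  let S : Finset X := Finset.univ.filter fun x => ∃ k : ℕ, k.Coprime (Nat.card X) ∧ v ^ k = x
  have hSne : v ∈ S := Finset.mem_filter.2 ⟨Finset.mem_univ _, 1, Nat.coprime_one_left _, pow_one v⟩
  have hSstab : ∀ k : ℕ, k.Coprime (Nat.card X) → ∀ x ∈ S, x ^ k ∈ S := by
    intro k hk x hx
    obtain ⟨-, l, hl, rfl⟩ := Finset.mem_filter.1 hx
    exact Finset.mem_filter.2 ⟨Finset.mem_univ _, l * k, hl.mul_left hk, pow_mul v l k⟩
  have hSV : ∀ x ∈ S, x ∈ V := fun x hx => by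
    obtain ⟨-, l, -, rfl⟩ := Finset.mem_filter.1 hx
    exact pow_mem hv l
  have hSC : ∀ x ∈ S, Subgroup.centralizer ({x} : Set X) = Subgroup.centralizer ({v} : Set X) := by
    intro x hx
    obtain ⟨-, l, hl, rfl⟩ := Finset.mem_filter.1 hx
    obtain ⟨m, hm⟩ := exists_pow_eq_self_of_coprime (n := l) (x := v)
      (hl.coprime_dvd_right (orderOf_dvd_natCard v))
    refine le_antisymm (fun w hw => ?_) fun w hw => ?_
    · rw [Subgroup.mem_centralizer_singleton_iff, ← hm]
      exact ((show Commute w (v ^ l) from Subgroup.mem_centralizer_singleton_iff.1 hw).pow_right m).eq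
    · rw [Subgroup.mem_centralizer_singleton_iff]
      exact ((show Commute w v from Subgroup.mem_centralizer_singleton_iff.1 hw).pow_right l).eq
  -- characters trivial on `V`
  set T := Finset.univ.filter fun χ : IrrCharacter X => ∀ n ∈ V, (χ : X → ℂ) n = (χ : X → ℂ) 1 with hT
  have hTcard : T.card = Nat.card (ConjClasses G) := by
    have e : G ≃* X ⧸ V := MulEquiv.ofBijective ((QuotientGroup.mk' V).comp G.subtype) (by
      refine ⟨(injective_iff_map_eq_one _).2 fun g hg => ?_, fun q => ?_⟩
      · have h1 : (g : X) ∈ V := (QuotientGroup.eq_one_iff _).1 hg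
        exact Subtype.ext (by
          have := (hGV : Function.Bijective _).1 (a₁ := (⟨(g : X), h1⟩, 1)) (a₂ := (1, g)) (by simp)
          exact (congrArg (fun z : ↥V × ↥G => (z.2 : X)) this).symm)
      · obtain ⟨x, rfl⟩ := QuotientGroup.mk'_surjective V q
        obtain ⟨⟨a, g⟩, h⟩ := (hGV : Function.Bijective _).2 x
        refine ⟨g, ?_⟩
        show QuotientGroup.mk' V (g : X) = _
        rw [← h]
        simp [(QuotientGroup.eq_one_iff (a : X)).2 a.2])
    haveI := Fintype.ofFinite G
    rw [← card_irr, card_irr_congr e, hT, ← Fintype.card_subtype, ← Nat.card_eq_fintype_card]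
    exact Nat.card_congr (inflateEquiv V).symm
  have hsumT : ∑ χ ∈ T, ((charDegree (χ : X → ℂ) : ℝ)) ^ 2 = (Nat.card G : ℝ) := by
    rw [← hGV.symm.index_eq_card]
    exact_mod_cast sum_sq_quotient V T (fun χ => by simp [hT])
  -- every character is nonzero on `S`
  have hne : ∀ χ : IrrCharacter X, ∀ x ∈ S, (χ : X → ℂ) x ≠ 0 := by
    intro χ x hx h0
    have hd : ¬ p ∣ deg (χ : X → ℂ) := fun h => hidx
      (h.trans (deg_dvd_index_abelian_normal χ.2 V fun a b => Subtype.ext (hab a a.2 b b.2)))
    obtain ⟨j, hj⟩ := IsPGroup.iff_orderOf.1 hVp ⟨x, hSV x hx⟩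
    rw [Subgroup.orderOf_mk] at hj
    have h := char_congr_deg hM (irr_isCharacter χ.2) ⟨j, hj⟩
    rw [h0, zero_sub, char_one_eq_deg (irr_isCharacter χ.2)] at h
    have h2 := memLI_neg (pmod_prime hM) h
    rw [neg_neg] at h2
    exact hd ((memLI_natCast_iff hM _).1 h2)
  have hχ : ∀ χ : IrrCharacter X, (S.card : ℝ) ≤ ∑ x ∈ S, Complex.normSq ((χ : X → ℂ) x) := by
    intro χ
    refine card_le_sum_of_galEquiv (T := (χ : X → ℂ) * fun g => conj ((χ : X → ℂ) g))
      (galEquiv_mul (galEquiv_char (irr_isCharacter χ.2)) (galEquiv_char (isCharacter_conj (irr_isCharacter χ.2))))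
      (fun x => char_isIntegral (isCharacter_mul (irr_isCharacter χ.2) (isCharacter_conj (irr_isCharacter χ.2))) x)
      (fun x => Complex.mul_conj _) S hSstab (fun x hx => Complex.normSq_pos.2 (hne χ x hx))
  have hcol : ∀ x ∈ S, ∑ χ : IrrCharacter X, Complex.normSq ((χ : X → ℂ) x) =
      (Nat.card ↥(G ⊓ Subgroup.centralizer ({v} : Set X)) * Nat.card V : ℕ) := by
    intro x hx
    have hb := second_orth x x
    rw [if_pos (IsConj.refl x)] at hb
    have hce : Nat.card ↥(Subgroup.centralizer ({v} : Set X)) =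
        Nat.card ↥(G ⊓ Subgroup.centralizer ({v} : Set X)) * Nat.card V := by
      rw [mul_comm, ← Nat.card_prod]
      symm
      refine Nat.card_congr (Equiv.ofBijective (fun z => (⟨(z.1 : X) * (z.2 : X),
        mul_mem (Subgroup.mem_centralizer_singleton_iff.2 (hab _ z.1.2 _ hv)) z.2.2.2⟩ :
          Subgroup.centralizer ({v} : Set X))) ⟨fun a b h => ?_, fun w => ?_⟩)
      · have h' := (hGV : Function.Bijective _).1 (a₁ := (a.1, ⟨a.2.1, a.2.2.1⟩)) (a₂ := (b.1, ⟨b.2.1, b.2.2.1⟩))
          (congrArg Subtype.val h)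
        exact Prod.ext (congrArg Prod.fst h' :) (Subtype.ext (congrArg (fun z : ↥V × ↥G => (z.2 : X)) h' :))
      · obtain ⟨⟨a, g⟩, h⟩ := (hGV : Function.Bijective _).2 (w : X)
        refine ⟨(a, ⟨g, g.2, ?_⟩), Subtype.ext h⟩
        have e : (g : X) = (a : X)⁻¹ * (w : X) := by rw [← h]; simp
        rw [e]
        show (a : X)⁻¹ * (w : X) ∈ Subgroup.centralizer ({v} : Set X)
        exact mul_mem (inv_mem (show (a : X) ∈ Subgroup.centralizer ({v} : Set X) from Subgroup.mem_centralizer_singleton_iff.2 (hab _ a.2 _ hv))) w.2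
    have hcy : (Nat.card X : ℂ) / Nat.card {z : X // IsConj x z} =
        (Nat.card ↥(G ⊓ Subgroup.centralizer ({v} : Set X)) * Nat.card V : ℕ) := by
      rw [div_eq_iff (Nat.cast_ne_zero.mpr (card_conjClass_ne_zero x)), card_conjClass_eq_index, hSC x hx,
        ← hce, ← Nat.cast_mul, Subgroup.card_mul_index]
    rw [hcy] at hb
    have hb' := congrArg Complex.re hb
    rw [Complex.re_sum] at hb'
    simp only [Complex.mul_conj, Complex.ofReal_re, Complex.natCast_re] at hb'
    exact hb'
  have hTval : ∀ χ ∈ T, ∀ x ∈ S, Complex.normSq ((χ : X → ℂ) x) = (charDegree (χ : X → ℂ) : ℝ) ^ 2 := by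
    intro χ hχT x hx
    rw [(Finset.mem_filter.1 hχT).2 x (hSV x hx), char_one_eq_deg (irr_isCharacter χ.2), Complex.normSq_natCast,
      pow_two]
    rfl
  have hmain : (S.card : ℝ) * ((Nat.card G : ℝ) + ((Nat.card (ConjClasses X) : ℝ) - Nat.card (ConjClasses G))) ≤
      (S.card : ℝ) * (Nat.card ↥(G ⊓ Subgroup.centralizer ({v} : Set X)) * Nat.card V : ℕ) := by
    have h1 : ∑ x ∈ S, ∑ χ : IrrCharacter X, Complex.normSq ((χ : X → ℂ) x) =
        (S.card : ℝ) * (Nat.card ↥(G ⊓ Subgroup.centralizer ({v} : Set X)) * Nat.card V : ℕ) := by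
      rw [Finset.sum_congr rfl hcol, Finset.sum_const, nsmul_eq_mul]
    rw [← h1, Finset.sum_comm, ← Finset.sum_add_sum_compl T, mul_add]
    refine add_le_add ?_ ?_
    · rw [← hsumT, Finset.mul_sum]
      refine le_of_eq (Finset.sum_congr rfl fun χ hχT => ?_)
      rw [Finset.sum_congr rfl (hTval χ hχT), Finset.sum_const, nsmul_eq_mul]
    · refine le_trans (le_of_eq ?_) (Finset.sum_le_sum fun χ _ => hχ χ)
      rw [Finset.sum_const, nsmul_eq_mul, mul_comm (S.card : ℝ), Finset.card_compl, hTcard,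
        ← Nat.card_eq_fintype_card, card_irr, Nat.cast_sub]
      rw [← hTcard, ← card_irr, Nat.card_eq_fintype_card]
      exact Finset.card_le_univ T
  have h := le_of_mul_le_mul_left hmain (by exact_mod_cast Finset.card_pos.2 ⟨v, hSne⟩)
  have h' : ((Nat.card (ConjClasses X) + Nat.card G : ℕ) : ℝ) ≤
      ((Nat.card ↥(G ⊓ Subgroup.centralizer ({v} : Set X)) * Nat.card V + Nat.card (ConjClasses G) : ℕ) : ℝ) := by
    push_cast at h ⊢
    linarith
  exact_mod_cast h'

end Cfsg.Agent.S4955
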