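import Cfsg.Statements.S4956
import Cfsg.Agent.Lib.Char.CommPairs

set_option autoImplicit false
open Cfsg
open scoped ComplexConjugate

namespace Cfsg.Agent.S4956

/-- Let X be a finite group, V an abelian normal subgroup of X (any two elements of V commute) and G a complement to V in X whose order is coprime to that of V. Let S be a set of representatives of the orbits of G on V under conjugation: S lies in V and every element of V is conjugate under G to exactly one member of S. Then the number of conjugacy classes of X equals the sum, over s in S, of the number of conjugacy classes of the centralizer of s in G. -/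
theorem result {X : Type*} [Group X] [Finite X] (V : Subgroup X) [V.Normal] (hab : ∀ a ∈ V, ∀ b ∈ V, a * b = b * a) (G : Subgroup X) (hGV : Subgroup.IsComplement' V G) (hcop : (Nat.card V).Coprime (Nat.card G)) (S : Finset X) (hSV : ∀ s ∈ S, s ∈ V) (hrep : ∀ v ∈ V, ∃! s, s ∈ S ∧ ∃ g ∈ G, g * v * g⁻¹ = s) : Nat.card (ConjClasses X) = ∑ s ∈ S, Nat.card (ConjClasses ↥(G ⊓ Subgroup.centralizer ({s} : Set X))) := by
  classical
  haveI := Fintype.ofFinite X
  letI : CommGroup ↥V := { (inferInstance : Group ↥V) with mul_comm := fun a b => Subtype.ext (hab a a.2 b b.2) }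
  let φ : ↥G →* MulAut ↥V := (MulAut.conjNormal (H := V)).comp G.subtype
  have hφ : ∀ (g : G) (v : V), ((φ g v : V) : X) = g * v * (g : X)⁻¹ := fun g v => by
    show ((MulAut.conjNormal (g : X) v : V) : X) = _
    rw [MulAut.conjNormal_apply]
  have hXc : Nat.card X = Nat.card V * Nat.card G := (Subgroup.IsComplement'.card_mul hGV).symm
  let PG := {p : ↥G × ↥G // Commute p.1 p.2}
  haveI := Fintype.ofFinite PG
  have hcomm : ∀ (a b : V) (g h : G), Commute ((a : X) * g) ((b : X) * h) ↔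
      (Commute g h ∧ a * φ g b = b * φ h a) := by
    intro a b g h
    have e1 : (a : X) * g * ((b : X) * h) = ((a * φ g b : V) : X) * ((g * h : G) : X) := by
      rw [Subgroup.coe_mul, Subgroup.coe_mul, hφ]; group
    have e2 : (b : X) * h * ((a : X) * g) = ((b * φ h a : V) : X) * ((h * g : G) : X) := by
      rw [Subgroup.coe_mul, Subgroup.coe_mul, hφ]; group
    show (a : X) * g * ((b : X) * h) = (b : X) * h * ((a : X) * g) ↔ _
    rw [e1, e2]
    constructor
    · intro he
      have := (hGV : Function.Bijective _).1 (a₁ := (a * φ g b, g * h)) (a₂ := (b * φ h a, h * g)) he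
      exact ⟨congrArg Prod.snd this, congrArg Prod.fst this⟩
    · rintro ⟨h1, h2⟩
      rw [h1.eq, h2]
  let E : {p : X × X // Commute p.1 p.2} ≃
      Σ q : PG, {ab : V × V // ab.1 * φ q.1.1 ab.2 = ab.2 * φ q.1.2 ab.1} :=
    (Equiv.ofBijective (fun z : Σ q : PG, {ab : V × V // ab.1 * φ q.1.1 ab.2 = ab.2 * φ q.1.2 ab.1} =>
      (⟨((z.2.1.1 : X) * (z.1.1.1 : X), (z.2.1.2 : X) * (z.1.1.2 : X)),
        (hcomm _ _ _ _).2 ⟨z.1.2, z.2.2⟩⟩ : {p : X × X // Commute p.1 p.2}))
      ⟨fun z z' he => by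
        obtain ⟨⟨⟨g, h⟩, hgh⟩, ⟨⟨a, b⟩, hT⟩⟩ := z
        obtain ⟨⟨⟨g', h'⟩, hgh'⟩, ⟨⟨a', b'⟩, hT'⟩⟩ := z'
        have he' := congrArg Subtype.val he
        have k1 := (hGV : Function.Bijective _).1 (a₁ := (a, g)) (a₂ := (a', g')) (congrArg Prod.fst he')
        have k2 := (hGV : Function.Bijective _).1 (a₁ := (b, h)) (a₂ := (b', h')) (congrArg Prod.snd he')
        obtain ⟨rfl, rfl⟩ := Prod.mk.injEq _ _ _ _ ▸ k1
        obtain ⟨rfl, rfl⟩ := Prod.mk.injEq _ _ _ _ ▸ k2
        rfl,
      fun p => by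
        obtain ⟨⟨a, g⟩, h1⟩ := (hGV : Function.Bijective _).2 p.1.1
        obtain ⟨⟨b, h⟩, h2⟩ := (hGV : Function.Bijective _).2 p.1.2
        have hc := p.2
        rw [← h1, ← h2] at hc
        obtain ⟨k1, k2⟩ := (hcomm a b g h).1 hc
        exact ⟨⟨⟨(g, h), k1⟩, ⟨(a, b), k2⟩⟩, Subtype.ext (Prod.ext h1 h2)⟩⟩).symm
  have hk : Nat.card (ConjClasses X) * Nat.card G =
      ∑ q : PG, Nat.card {v : V // φ q.1.1 v = v ∧ φ q.1.2 v = v} := by
    have h0 := card_comm_eq_card_conjClasses_mul_card X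
    rw [Nat.card_congr E, Nat.card_sigma, Finset.sum_congr rfl (fun q _ =>
      Cfsg.Agent.Char.card_pair_fibre φ hcop q.2.eq), ← Finset.mul_sum, hXc] at h0
    refine Nat.eq_of_mul_eq_mul_left (Nat.card_pos (α := V)) ?_
    rw [h0]; ring
  -- sum over the points of `V`
  let f : V → ℕ := fun v => Nat.card {p : PG // φ p.1.1 v = v ∧ φ p.1.2 v = v}
  have hswap : ∑ q : PG, Nat.card {v : V // φ q.1.1 v = v ∧ φ q.1.2 v = v} = ∑ v : V, f v := by
    simp only [f, Nat.card_eq_fintype_card, Fintype.card_subtype, Finset.card_filter]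
    exact Finset.sum_comm
  have hmemC : ∀ (v : V) (g : G), (g : X) ∈ G ⊓ Subgroup.centralizer ({(v : X)} : Set X) ↔ φ g v = v := by
    intro v g
    rw [Subgroup.mem_inf, Subgroup.mem_centralizer_singleton_iff, Subtype.ext_iff, hφ, mul_inv_eq_iff_eq_mul]
    simp
  have hfs : ∀ v : V, f v = Nat.card (ConjClasses ↥(G ⊓ Subgroup.centralizer ({(v : X)} : Set X))) *
      Nat.card ↥(G ⊓ Subgroup.centralizer ({(v : X)} : Set X)) := by
    intro v
    rw [← card_comm_eq_card_conjClasses_mul_card]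
    exact Nat.card_congr
      { toFun := fun p => ⟨(⟨p.1.1.1, (hmemC v _).2 p.2.1⟩, ⟨p.1.1.2, (hmemC v _).2 p.2.2⟩),
          Subtype.ext (show (p.1.1.1 : X) * p.1.1.2 = p.1.1.2 * p.1.1.1 from congrArg Subtype.val p.1.2.eq)⟩
        invFun := fun p => ⟨⟨(⟨p.1.1, p.1.1.2.1⟩, ⟨p.1.2, p.1.2.2.1⟩),
          Subtype.ext (show (p.1.1 : X) * p.1.2 = p.1.2 * p.1.1 from congrArg Subtype.val p.2.eq)⟩,
          (hmemC v _).1 p.1.1.2, (hmemC v _).1 p.1.2.2⟩
        left_inv := fun p => rfl
        right_inv := fun p => rfl }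
  have hfinv : ∀ (c : G) (v : V), f (φ c v) = f v := by
    intro c v
    have key : ∀ g : G, φ (c * g * c⁻¹) (φ c v) = φ c v ↔ φ g v = v := fun g => by
      rw [← MulAut.mul_apply, ← map_mul, inv_mul_cancel_right, map_mul, MulAut.mul_apply,
        EmbeddingLike.apply_eq_iff_eq]
    symm
    refine Nat.card_congr (((Equiv.prodCongr (MulAut.conj c).toEquiv (MulAut.conj c).toEquiv).subtypeEquiv
      fun p => ?_).subtypeEquiv fun p => ?_)
    · show Commute p.1 p.2 ↔ Commute (MulAut.conj c p.1) (MulAut.conj c p.2)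
      exact ⟨fun h => h.map (MulAut.conj c), fun h => by simpa [mul_assoc] using h.map (MulAut.conj c).symm⟩
    · exact and_congr (key p.1.1).symm (key p.1.2).symm
  letI : MulAction ↥G ↥V := MulAction.compHom ↥V φ
  have hr : ∀ v : V, ∃ s : {s // s ∈ S}, ∃ c : G, ((φ c v : V) : X) = s := fun v => by
    obtain ⟨s, ⟨hs, g, hg, he⟩, -⟩ := hrep v v.2
    exact ⟨⟨s, hs⟩, ⟨g, hg⟩, by rw [hφ]; exact he⟩
  choose r rc hrc using hr
  rw [hswap, ← Finset.sum_fiberwise_of_maps_to (t := Finset.univ) (g := r) (fun v _ => Finset.mem_univ _)] at hk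
  have hfib : ∀ s : {s // s ∈ S}, ∑ v ∈ Finset.univ.filter (fun v => r v = s), f v =
      Nat.card (ConjClasses ↥(G ⊓ Subgroup.centralizer ({(s : X)} : Set X))) * Nat.card G := by
    intro s
    let s' : V := ⟨s.1, hSV _ s.2⟩
    have horb : ∀ v : V, r v = s ↔ v ∈ MulAction.orbit G s' := by
      intro v
      constructor
      · intro h
        refine ⟨(rc v)⁻¹, ?_⟩
        show φ (rc v)⁻¹ s' = v
        have e : s' = φ (rc v) v := Subtype.ext (by rw [hrc v, h])
        rw [e, ← MulAut.mul_apply, ← map_mul, inv_mul_cancel, map_one, MulAut.one_apply]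
      · rintro ⟨c, rfl⟩
        refine Subtype.ext ((hrep _ (φ c s').2).unique ⟨(r _).2, rc (φ c s'), (rc _).2, ?_⟩
          ⟨s.2, (c⁻¹ : G), (c⁻¹ : G).2, ?_⟩)
        · rw [← hφ]; exact hrc _
        · rw [hφ]
          show ((c⁻¹ : G) : X) * ((c : X) * s.1 * (c : X)⁻¹) * ((c⁻¹ : G) : X)⁻¹ = s.1
          rw [Subgroup.coe_inv]; group
    rw [Finset.sum_congr rfl (g := fun _ => f s') (fun v hv => by
      obtain ⟨c, hc⟩ := (horb v).1 (Finset.mem_filter.1 hv).2
      rw [← hc]; exact hfinv c s'), Finset.sum_const, smul_eq_mul, hfs s']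
    have hcard : (Finset.univ.filter fun v => r v = s).card = Nat.card (MulAction.orbit G s') := by
      rw [← Fintype.card_subtype, ← Nat.card_eq_fintype_card]
      exact Nat.card_congr (Equiv.subtypeEquivRight horb)
    have hstab : Nat.card (MulAction.stabilizer G s') =
        Nat.card ↥(G ⊓ Subgroup.centralizer ({(s : X)} : Set X)) :=
      Nat.card_congr
        { toFun := fun g => ⟨g.1, (hmemC s' g.1).2 g.2⟩
          invFun := fun g => ⟨⟨g.1, g.2.1⟩, (hmemC s' ⟨g.1, g.2.1⟩).1 g.2⟩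
          left_inv := fun g => rfl
          right_inv := fun g => rfl }
    have hos := Nat.card_congr (MulAction.orbitProdStabilizerEquivGroup G s')
    rw [Nat.card_prod, hstab] at hos
    rw [hcard, ← hos]
    ring
  rw [Finset.sum_congr rfl (fun s _ => hfib s), ← Finset.sum_mul] at hk
  rw [Nat.eq_of_mul_eq_mul_right Nat.card_pos hk, ← Finset.sum_coe_sort S]

end Cfsg.Agent.S4956
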