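import Cfsg.Statements.S4964
import Cfsg.Agent.Lib.Char.QuotientBlocks
import Cfsg.Agent.Lib.Solv.HallHigman
import Cfsg.Agent.Lib.Solv.PGroupPhi

set_option autoImplicit false
open Cfsg
open scoped ComplexConjugate commutatorElement

namespace Cfsg.Agent.S4964

/-- Let D be a normal p-subgroup of the finite group G, let D′ be its commutator subgroup (normal in G), and fix a maximal ideal M of the algebraic integers containing p. Then (i) two irreducible characters of G ⧸ D′ lie in the same p-block if and only if their inflations to G do, and (ii) every p-block of G contains the inflation of some irreducible character of G ⧸ D′; so inflation induces a bijection between the p-blocks of G ⧸ D′ and the p-blocks of G. -/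
theorem result {G : Type*} [Group G] [Finite G] (p : ℕ) [Fact p.Prime] (M : Ideal Cfsg.AlgInt) (hM : Cfsg.IsPModular p M) (D : Subgroup G) [D.Normal] (hD : IsPGroup p D) : (∀ χ ψ : Cfsg.IrrCharacter (G ⧸ ⁅D, D⁆), Cfsg.SameBlock M (χ : G ⧸ ⁅D, D⁆ → ℂ) (ψ : G ⧸ ⁅D, D⁆ → ℂ) ↔ Cfsg.SameBlock M ((χ : G ⧸ ⁅D, D⁆ → ℂ) ∘ QuotientGroup.mk) ((ψ : G ⧸ ⁅D, D⁆ → ℂ) ∘ QuotientGroup.mk)) ∧ ∀ B : Set (Cfsg.IrrCharacter G), Cfsg.IsPBlock M B → ∃ χ : Cfsg.IrrCharacter (G ⧸ ⁅D, D⁆), ∃ θ ∈ B, (θ : G → ℂ) = (χ : G ⧸ ⁅D, D⁆ → ℂ) ∘ QuotientGroup.mk := by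
  have := Fintype.ofFinite G
  have hMp := Cfsg.Agent.Char.pmod_prime hM
  have hle : ⁅D, D⁆ ≤ D := Subgroup.commutator_le_left D D
  have hNp : IsPGroup p (⁅D, D⁆ : Subgroup G) := hD.to_le hle
  have := Fintype.ofFinite (⁅D, D⁆ : Subgroup G)
  have := Fintype.ofFinite (G ⧸ ⁅D, D⁆)
  refine ⟨fun χ ψ => ⟨fun h => Cfsg.Agent.Char.sameBlock_inflate hMp h, fun h => ?_⟩, fun B hB => ?_⟩
  · refine Cfsg.Agent.Char.sameBlock_of_inflate hM (fun g hg => ?_) h
    by_cases hgD : g ∈ Subgroup.centralizer (D : Set G)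
    · left
      rw [Cfsg.Agent.Char.clsRatio_eq_one hM.1 hNp hg fun n hn => hgD n (hle hn)]
      exact hM.1.not_dvd_one
    · right
      intro χ
      haveI : (D.map (QuotientGroup.mk' ⁅D, D⁆)).Normal :=
        Subgroup.Normal.map inferInstance _ (QuotientGroup.mk'_surjective _)
      refine Cfsg.Agent.Char.omega_memLI_of_not_centralizing hM (D.map (QuotientGroup.mk' ⁅D, D⁆))
        (hD.map _) χ fun hc => hgD ?_
      refine Cfsg.Agent.Solv.centralizes_of_frattini D hD g
        (by rw [Subgroup.normalizer_eq_top D]; trivial)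
        (((Nat.Prime.coprime_iff_not_dvd hM.1).mpr hg).symm) fun x hx => ?_
      refine Subgroup.map_mono (f := D.subtype) (Cfsg.Agent.Solv.commutator_le_frattini_pgroup hD) ?_
      rw [commutator_def, Subgroup.map_commutator, ← MonoidHom.range_eq_map, Subgroup.range_subtype]
      refine (QuotientGroup.eq_one_iff _).mp ?_
      show QuotientGroup.mk' ⁅D, D⁆ ⁅x, g⁆ = 1
      rw [map_commutatorElement, commutatorElement_eq_one_iff_mul_comm]
      exact Subgroup.mem_centralizer_iff.mp hc _ ⟨x, hx, rfl⟩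
  · obtain ⟨χ, hχ⟩ := Cfsg.Agent.Char.exists_inflate_mem hM hNp hB
    exact ⟨χ, _, hχ, rfl⟩

end Cfsg.Agent.S4964
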