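import Cfsg.Statements.S4965
import Mathlib

set_option autoImplicit false
open Cfsg

namespace Cfsg.Agent.S4965

/-- Let X be a finite group with an abelian normal subgroup V (any two elements of V commute), and let φ be the action of X ⧸ V on V induced by conjugation (well defined because V is abelian; the hypothesis hφ says that the class of x acts as conjugation by x). Then X has at most as many conjugacy classes as the semidirect product of V by X ⧸ V formed with this action: the split extension has the largest class number among extensions with the given action. -/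
theorem result {X : Type*} [Group X] [Finite X] (V : Subgroup X) [V.Normal] (hab : ∀ a ∈ V, ∀ b ∈ V, a * b = b * a) (φ : X ⧸ V →* MulAut ↥V) (hφ : ∀ (x : X) (v : ↥V), ((φ (QuotientGroup.mk x) v : ↥V) : X) = x * v * x⁻¹) : Nat.card (ConjClasses X) ≤ Nat.card (ConjClasses (SemidirectProduct ↥V (X ⧸ V) φ)) := by
  classical
  haveI : Finite (SemidirectProduct ↥V (X ⧸ V) φ) := Finite.of_equiv _ SemidirectProduct.equivProd.symm
  set S := SemidirectProduct ↥V (X ⧸ V) φ
  have hcard : Nat.card S = Nat.card X := by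
    rw [Nat.card_congr SemidirectProduct.equivProd, Nat.card_prod, mul_comm,
      ← Subgroup.card_eq_card_quotient_mul_card_subgroup]
  let L : (X ⧸ V) × (X ⧸ V) → X × X := fun q =>
    if h : ∃ xy : X × X, (QuotientGroup.mk xy.1 : X ⧸ V) = q.1 ∧ (QuotientGroup.mk xy.2 : X ⧸ V) = q.2 ∧
      Commute xy.1 xy.2 then h.choose else (1, 1)
  have hL : ∀ p : {p : X × X // Commute p.1 p.2},
      (QuotientGroup.mk (L (QuotientGroup.mk p.1.1, QuotientGroup.mk p.1.2)).1 : X ⧸ V) = QuotientGroup.mk p.1.1 ∧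
      (QuotientGroup.mk (L (QuotientGroup.mk p.1.1, QuotientGroup.mk p.1.2)).2 : X ⧸ V) = QuotientGroup.mk p.1.2 ∧
      Commute (L (QuotientGroup.mk p.1.1, QuotientGroup.mk p.1.2)).1
        (L (QuotientGroup.mk p.1.1, QuotientGroup.mk p.1.2)).2 := by
    intro p
    have h : ∃ xy : X × X, (QuotientGroup.mk xy.1 : X ⧸ V) = QuotientGroup.mk p.1.1 ∧
        (QuotientGroup.mk xy.2 : X ⧸ V) = QuotientGroup.mk p.1.2 ∧ Commute xy.1 xy.2 :=
      ⟨p.1, rfl, rfl, p.2⟩
    simp only [L, dif_pos h]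
    exact h.choose_spec
  have hdiff : ∀ x y : X, (QuotientGroup.mk y : X ⧸ V) = QuotientGroup.mk x → x * y⁻¹ ∈ V := fun x y h => by
    rw [← QuotientGroup.eq_one_iff, QuotientGroup.mk_mul, QuotientGroup.mk_inv, h, mul_inv_cancel]
  let A : {p : X × X // Commute p.1 p.2} → ↥V × ↥V := fun p =>
    (⟨p.1.1 * (L (QuotientGroup.mk p.1.1, QuotientGroup.mk p.1.2)).1⁻¹, hdiff _ _ (hL p).1⟩,
     ⟨p.1.2 * (L (QuotientGroup.mk p.1.1, QuotientGroup.mk p.1.2)).2⁻¹, hdiff _ _ (hL p).2.1⟩)
  let f : {p : X × X // Commute p.1 p.2} → {p : S × S // Commute p.1 p.2} := fun p =>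
    ⟨(⟨(A p).1, QuotientGroup.mk p.1.1⟩, ⟨(A p).2, QuotientGroup.mk p.1.2⟩), by
      obtain ⟨h1, h2, h3⟩ := hL p
      set x₀ := (L (QuotientGroup.mk p.1.1, QuotientGroup.mk p.1.2)).1
      set y₀ := (L (QuotientGroup.mk p.1.1, QuotientGroup.mk p.1.2)).2
      refine SemidirectProduct.ext ?_ ?_
      · rw [SemidirectProduct.mul_left, SemidirectProduct.mul_left, ← h1, ← h2]
        refine Subtype.ext ?_
        rw [Subgroup.coe_mul, Subgroup.coe_mul, hφ, hφ]
        show p.1.1 * x₀⁻¹ * (x₀ * (p.1.2 * y₀⁻¹) * x₀⁻¹) = p.1.2 * y₀⁻¹ * (y₀ * (p.1.1 * x₀⁻¹) * y₀⁻¹)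
        calc p.1.1 * x₀⁻¹ * (x₀ * (p.1.2 * y₀⁻¹) * x₀⁻¹)
            = p.1.1 * p.1.2 * (x₀ * y₀)⁻¹ := by group
          _ = p.1.2 * p.1.1 * (y₀ * x₀)⁻¹ := by rw [p.2.eq, h3.eq]
          _ = _ := by group
      · show (QuotientGroup.mk p.1.1 : X ⧸ V) * QuotientGroup.mk p.1.2 = _
        rw [← QuotientGroup.mk_mul, p.2.eq]
        rfl⟩
  have hf : Function.Injective f := by
    intro p p' h
    have h1 := congrArg (fun z : {p : S × S // Commute p.1 p.2} => z.1.1) h
    have h2 := congrArg (fun z : {p : S × S // Commute p.1 p.2} => z.1.2) h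
    have r1 : (QuotientGroup.mk p.1.1 : X ⧸ V) = QuotientGroup.mk p'.1.1 := congrArg SemidirectProduct.right h1
    have r2 : (QuotientGroup.mk p.1.2 : X ⧸ V) = QuotientGroup.mk p'.1.2 := congrArg SemidirectProduct.right h2
    have l1 := congrArg (fun z : S => (z.left : X)) h1
    have l2 := congrArg (fun z : S => (z.left : X)) h2
    simp only [f, A, r1, r2] at l1 l2
    exact Subtype.ext (Prod.ext (mul_right_cancel l1) (mul_right_cancel l2))
  have h := Nat.card_le_card_of_injective f hf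
  rw [card_comm_eq_card_conjClasses_mul_card, card_comm_eq_card_conjClasses_mul_card, hcard] at h
  exact Nat.le_of_mul_le_mul_right h Nat.card_pos

end Cfsg.Agent.S4965
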