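import Cfsg.Statements.S4966
import Cfsg.Agent.Lib.Char.SelfDualModule

set_option autoImplicit false
open Cfsg Cfsg.Agent.Char

namespace Cfsg.Agent.S4966

/-- Let F be a finite field of characteristic p, G a finite group of order prime to p, and V a finite-dimensional representation of G over F carrying a nondegenerate G-invariant bilinear form (equivalently, V is self-dual). Then V is the direct sum of two G-invariant subspaces U and W such that U carries a G-invariant alternating bilinear form that is nondegenerate on U and W carries a G-invariant symmetric bilinear form that is nondegenerate on W; moreover when p = 2 the decomposition can be chosen with G acting trivially on W. -/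
theorem result {F : Type*} [Field F] [Fintype F] (p : ℕ) [Fact p.Prime] [CharP F p] {G : Type*} [Group G] [Finite G] (hcop : ¬ p ∣ Nat.card G) {V : Type*} [AddCommGroup V] [Module F V] [FiniteDimensional F V] (ρ : Representation F G V) (B : LinearMap.BilinForm F V) (hB : B.Nondegenerate) (hBinv : ∀ g : G, ∀ x y : V, B (ρ g x) (ρ g y) = B x y) : ∃ U W : Submodule F V, IsCompl U W ∧ (∀ g : G, ∀ u ∈ U, ρ g u ∈ U) ∧ (∀ g : G, ∀ w ∈ W, ρ g w ∈ W) ∧ (∃ A : LinearMap.BilinForm F V, (∀ x : V, A x x = 0) ∧ (∀ g : G, ∀ x ∈ U, ∀ y ∈ U, A (ρ g x) (ρ g y) = A x y) ∧ (∀ x ∈ U, (∀ y ∈ U, A x y = 0) → x = 0)) ∧ (∃ S : LinearMap.BilinForm F V, (∀ x y : V, S x y = S y x) ∧ (∀ g : G, ∀ x ∈ W, ∀ y ∈ W, S (ρ g x) (ρ g y) = S x y) ∧ (∀ x ∈ W, (∀ y ∈ W, S x y = 0) → x = 0)) ∧ (p = 2 → ∀ g : G, ∀ w ∈ W, ρ g w = w) := by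
  classical
  haveI : NeZero (Nat.card G : F) := ⟨fun h => hcop ((CharP.cast_eq_zero_iff F p _).1 h)⟩
  have hinv : SelfDual.Inv ρ (⊤ : Submodule F V) := fun _ _ _ => trivial
  obtain ⟨U, W, hUW, hsup, ⟨iU, A, a1, a2, a3⟩, iW, ⟨S, s1, s2, s3⟩, t⟩ :=
    SelfDual.exists_decomp ρ p B _ ⊤ rfl hinv (fun g x _ y _ => hBinv g x y)
      (fun x _ h => hB.1 x fun y => h y trivial)
  have hc : IsCompl U W := IsCompl.of_eq hUW hsup
  let π := U.subtype.comp (Submodule.linearProjOfIsCompl U W hc)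
  let π' := W.subtype.comp (Submodule.linearProjOfIsCompl W U hc.symm)
  have hπ : ∀ x ∈ U, π x = x := fun x hx =>
    congrArg Subtype.val (Submodule.linearProjOfIsCompl_apply_left hc (⟨x, hx⟩ : U))
  have hπ' : ∀ x ∈ W, π' x = x := fun x hx =>
    congrArg Subtype.val (Submodule.linearProjOfIsCompl_apply_left hc.symm (⟨x, hx⟩ : W))
  refine ⟨U, W, hc, iU, iW, ⟨A.compl₁₂ π π, fun x => a1 _ (Subtype.mem _), fun g x hx y hy => ?_,
    fun x hx h => a3 x hx fun y hy => ?_⟩, ⟨S.compl₁₂ π' π', fun x y => s1 _ (Subtype.mem _) _ (Subtype.mem _),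
    fun g x hx y hy => ?_, fun x hx h => s3 x hx fun y hy => ?_⟩, t⟩
  · rw [LinearMap.compl₁₂_apply, LinearMap.compl₁₂_apply, hπ _ (iU g x hx), hπ _ (iU g y hy), hπ x hx, hπ y hy]
    exact a2 g x hx y hy
  · have := h y hy
    rwa [LinearMap.compl₁₂_apply, hπ x hx, hπ y hy] at this
  · rw [LinearMap.compl₁₂_apply, LinearMap.compl₁₂_apply, hπ' _ (iW g x hx), hπ' _ (iW g y hy), hπ' x hx, hπ' y hy]
    exact s2 g x hx y hy
  · have := h y hy
    rwa [LinearMap.compl₁₂_apply, hπ' x hx, hπ' y hy] at this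

end Cfsg.Agent.S4966
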