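import Cfsg.Statements.S4978
import Cfsg.Agent.Lib.Solv.FocalAutPGroup
import Cfsg.Agent.Lib.Solv.BlockOrbitSquares

set_option autoImplicit false
open Cfsg

namespace Cfsg.Agent.S4978

/-- Let p be a prime and B a p-block of the finite group G (relative to a maximal ideal M of the algebraic integers containing p) with a nontrivial defect group D whose automorphism group is a p-group (for a p-group D this is the same as its outer automorphism group being a p-group). Then the number of irreducible characters of height zero in B is divisible by p; if p > 3 this number is at least 2p, and if moreover p ≡ 3 (mod 4) it is at least 3p. -/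
theorem result {G : Type*} [Group G] [Finite G] (p : ℕ) [Fact p.Prime] (M : Ideal Cfsg.AlgInt) (hM : Cfsg.IsPModular p M) (B : Set (Cfsg.IrrCharacter G)) (hB : Cfsg.IsPBlock M B) (D : Subgroup G) (hD : Cfsg.IsDefectGroup p M B D) (hD1 : D ≠ ⊥) (hAut : IsPGroup p (MulAut ↥D)) : p ∣ Nat.card {χ : Cfsg.IrrCharacter G // χ ∈ B ∧ Cfsg.blockHeight p B (χ : G → ℂ) = 0} ∧ (3 < p → 2 * p ≤ Nat.card {χ : Cfsg.IrrCharacter G // χ ∈ B ∧ Cfsg.blockHeight p B (χ : G → ℂ) = 0}) ∧ (3 < p → p % 4 = 3 → 3 * p ≤ Nat.card {χ : Cfsg.IrrCharacter G // χ ∈ B ∧ Cfsg.blockHeight p B (χ : G → ℂ) = 0}) := by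
  classical
  haveI := Fintype.ofFinite G
  have hp : p.Prime := Fact.out
  have hDp : IsPGroup p D := IsPGroup.of_card (Cfsg.Agent.Char.card_defectGroup hM hB hD)
  have hcardD := Cfsg.Agent.Char.card_defectGroup hM hB hD
  have hd1 : 1 ≤ blockDefect p B := by
    by_contra h
    rw [show blockDefect p B = 0 by omega, pow_zero] at hcardD
    exact hD1 (Subgroup.eq_bot_of_card_eq _ hcardD)
  obtain hsmall | hbig := Nat.lt_or_ge 3 p |>.symm
  · exact ⟨Cfsg.Agent.Solv.BlockSquares.count_small hM hsmall hB hD hd1,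
      fun h => absurd h (by omega), fun h => absurd h (by omega)⟩
  have hp5 : 5 ≤ p := by
    by_contra h
    have h4 : p = 4 := by omega
    rw [h4] at hp
    norm_num at hp
  have hd2 : 2 ≤ blockDefect p B := by
    by_contra h
    rw [show blockDefect p B = 1 by omega, pow_one] at hcardD
    haveI : IsCyclic D := isCyclic_of_prime_card hcardD
    obtain ⟨j, hj⟩ := IsPGroup.iff_card.mp hAut
    rw [IsCyclic.card_mulAut, hcardD, Nat.totient_prime hp] at hj
    rcases Nat.eq_zero_or_pos j with rfl | hj0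
    · rw [pow_zero] at hj
      omega
    · have h1 := Nat.le_self_pow hj0.ne' p
      omega
  obtain ⟨e, he⟩ := Cfsg.Agent.Char.exists_pair_of_le_defect hM hB hD le_rfl
  have hmax := Cfsg.Agent.Char.maximal_of_defect hM hD he
  have hF := Cfsg.Agent.Char.blockFusion_isOn hM hmax
  set F := Cfsg.Agent.Char.blockFusion hM hmax
  have hne := Cfsg.Agent.Solv.focal_ne_top hp5 hDp (Cfsg.Agent.Char.saturated hM hF) hD1 hAut
  obtain ⟨r, f, hcount, hsum, hex⟩ := Cfsg.Agent.Solv.BlockSquares.height_zero_orbits hM hF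
  obtain ⟨i, hi⟩ := hDp.index (F.focalSubgroup.subgroupOf D)
  rw [hi] at hcount hsum
  have hi0 : i ≠ 0 := fun h => hne (Subgroup.index_eq_one.mp (by rw [hi, h, pow_zero]))
  have hr : r ≠ 0 := by
    intro h
    obtain ⟨χ, hχ, h0⟩ := Cfsg.Agent.Char.exists_height_zero (p := p)
      (Cfsg.Agent.Char.block_nonempty (Cfsg.Agent.Char.pmod_prime hM) hB)
    haveI : Nonempty {χ : Cfsg.IrrCharacter G // χ ∈ B ∧ Cfsg.blockHeight p B (χ : G → ℂ) = 0} :=
      ⟨⟨χ, hχ, h0⟩⟩
    rw [h, mul_zero] at hcount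
    exact Nat.card_pos.ne' hcount
  have hcong := Cfsg.Agent.Solv.BlockSquares.height_zero_congr hM hB hD hd2 le_rfl
  rw [hsum] at hcong
  have hf : ∀ k, ¬ p ∣ f k ∧ ∃ c, c ^ 2 = f k := fun k => by
    obtain ⟨χ, hχ, h0, e'⟩ := hex k
    refine ⟨fun h => ?_, _, e'⟩
    rw [← e'] at h
    exact (Cfsg.Agent.Solv.BlockSquares.redDeg_dvd_iff hM hχ).mp (hp.dvd_of_dvd_pow h) h0
  rw [hcount]
  refine ⟨dvd_mul_of_dvd_left (dvd_pow_self p hi0) r, ?_⟩
  rcases Nat.lt_or_ge i 2 with hi2 | hi2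
  swap
  · have h1 : p * p ≤ p ^ i * r := by
      rw [← pow_two]
      exact le_mul_of_le_of_one_le (Nat.pow_le_pow_right hp.pos hi2) (Nat.one_le_iff_ne_zero.mpr hr)
    have h2 : 3 * p ≤ p * p := Nat.mul_le_mul_right p (by omega)
    exact ⟨fun _ => by omega, fun _ _ => by omega⟩
  obtain rfl : i = 1 := by omega
  rw [pow_one] at hcong ⊢
  rw [pow_two] at hcong
  have hdiv : p ∣ ∑ k, f k := Nat.dvd_of_mul_dvd_mul_left hp.pos hcong
  have hr2 : 2 ≤ r := by
    by_contra h
    obtain rfl : r = 1 := by omega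
    rw [Fin.sum_univ_one] at hdiv
    exact (hf 0).1 hdiv
  refine ⟨fun _ => by rw [mul_comm p r]; exact Nat.mul_le_mul_right p hr2, fun _ h34 => ?_⟩
  rw [mul_comm p r]
  refine Nat.mul_le_mul_right p ?_
  by_contra h
  obtain rfl : r = 2 := by omega
  rw [Fin.sum_univ_two] at hdiv
  obtain ⟨h0, c₀, hc₀⟩ := hf 0
  obtain ⟨-, c₁, hc₁⟩ := hf 1
  rw [← hc₀, ← hc₁] at hdiv
  rw [← hc₀] at h0
  have h0' : (c₀ : ZMod p) ≠ 0 := fun hh =>
    h0 (dvd_pow ((ZMod.natCast_eq_zero_iff _ p).mp hh) two_ne_zero)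
  have hz : (c₀ : ZMod p) ^ 2 + (c₁ : ZMod p) ^ 2 = 0 := by
    exact_mod_cast (ZMod.natCast_eq_zero_iff _ p).mpr hdiv
  have hsq : ((c₁ : ZMod p) / (c₀ : ZMod p)) ^ 2 = -1 := by
    rw [div_pow, div_eq_iff (pow_ne_zero 2 h0')]
    linear_combination hz
  exact ZMod.mod_four_ne_three_of_sq_eq_neg_one hsq h34

end Cfsg.Agent.S4978
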