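import Cfsg.Statements.S4989
import Cfsg.Agent.Lib.Char.Zeros
import Cfsg.Agent.Lib.Char.Central

set_option autoImplicit false
open Cfsg
open scoped ComplexConjugate

namespace Cfsg.Agent.S4989

/-- Let H be a subgroup of the finite group G and χ an irreducible complex character of G. Then the inner product of the restriction of χ to H with itself, (1/#H)·Σ_{h ∈ H} |χ(h)|², is at most 1 + #(Z ∖ H)/#H, where Z is the set of zeros of χ in G. -/
theorem result {G : Type*} [Group G] [Finite G] (H : Subgroup G) (χ : Cfsg.IrrCharacter G) : (Nat.card ↥H : ℝ)⁻¹ * ∑ᶠ h : ↥H, ‖(χ : G → ℂ) h‖ ^ 2 ≤ 1 + (Set.ncard ({x : G | (χ : G → ℂ) x = 0} \ (H : Set G)) : ℝ) / (Nat.card ↥H : ℝ) := by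
  classical
  haveI := Fintype.ofFinite G
  haveI := Fintype.ofFinite H
  have hχc := Cfsg.Agent.Char.irr_isCharacter χ.2
  set f := fun x : G => ‖(χ : G → ℂ) x‖ ^ 2 with hf
  have htot : ∑ x : G, f x = (Nat.card G : ℝ) := by
    have h := Cfsg.Agent.Char.irr_self χ.2
    simp only [Cfsg.classInner] at h
    rw [inv_mul_eq_one₀ (Nat.cast_ne_zero.2 Nat.card_pos.ne')] at h
    apply Complex.ofReal_injective
    push_cast
    rw [h]
    simp [hf, Complex.mul_conj']
  set S := Finset.univ.filter (fun x : G => x ∉ H ∧ (χ : G → ℂ) x ≠ 0) with hSdef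
  set Z := Finset.univ.filter (fun x : G => x ∉ H ∧ (χ : G → ℂ) x = 0) with hZdef
  have hS : (S.card : ℝ) ≤ ∑ x ∈ S, f x := Cfsg.Agent.Char.card_le_sum_norm_sq
    (Cfsg.Agent.Char.galEquiv_char hχc) (Cfsg.Agent.Char.char_isIntegral hχc)
    (Cfsg.Agent.Char.char_inv hχc) S
    (fun k hk x hx => by
      simp only [hSdef, Finset.mem_filter, Finset.mem_univ, true_and] at hx ⊢
      exact ⟨fun h => hx.1 ((Cfsg.Agent.Char.pow_coprime_mem_iff H hk x).1 h),
        Cfsg.Agent.Char.ne_zero_pow_of_galEquiv (Cfsg.Agent.Char.galEquiv_char hχc) hk hx.2⟩)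
    (fun x hx => (Finset.mem_filter.1 hx).2.2)
  have hZ : Z.card = Set.ncard ({x : G | (χ : G → ℂ) x = 0} \ (H : Set G)) := by
    rw [← Set.ncard_coe_finset]
    congr 1
    ext x
    simp [hZdef, and_comm]
  have hsplit := Finset.sum_filter_add_sum_filter_not Finset.univ (fun x : G => x ∈ H) f
  have hSle : ∑ x ∈ S, f x ≤ ∑ x ∈ Finset.univ.filter (fun x : G => ¬ x ∈ H), f x :=
    Finset.sum_le_sum_of_subset_of_nonneg (fun x hx => by
      simp only [hSdef, Finset.mem_filter, Finset.mem_univ, true_and] at hx ⊢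
      exact hx.1) (fun _ _ _ => sq_nonneg _)
  have hcard : (Nat.card H : ℝ) + (S.card : ℝ) + Z.card = Nat.card G := by
    have h1 := Finset.card_filter_add_card_filter_not (s := (Finset.univ : Finset G)) (fun x : G => x ∈ H)
    have h2 := Finset.card_filter_add_card_filter_not
      (s := Finset.univ.filter (fun x : G => ¬ x ∈ H)) (fun x : G => (χ : G → ℂ) x = 0)
    rw [Finset.filter_filter, Finset.filter_filter] at h2
    have h3 : Nat.card H = (Finset.univ.filter (fun x : G => x ∈ H)).card := by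
      rw [Nat.card_eq_fintype_card, Fintype.card_subtype]
    have h4 : Nat.card G = (Finset.univ : Finset G).card := Nat.card_eq_fintype_card
    rw [← Nat.cast_add, ← Nat.cast_add]
    exact congrArg Nat.cast (show Nat.card H + S.card + Z.card = Nat.card G by
      rw [h3, h4, ← h1, ← h2]
      simp only [hSdef, hZdef, ne_eq]
      ring)
  have hH : ∑ x ∈ Finset.univ.filter (fun x : G => x ∈ H), f x = ∑ᶠ h : H, ‖(χ : G → ℂ) h‖ ^ 2 := by
    rw [finsum_eq_sum_of_fintype, Finset.sum_subtype (Finset.univ.filter fun x : G => x ∈ H)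
      (p := fun x : G => x ∈ H) (fun x => by simp)]
  rw [← hZ, ← hH]
  have hpos : (0 : ℝ) < Nat.card H := Nat.cast_pos.2 Nat.card_pos
  rw [show (1 : ℝ) + (Z.card : ℝ) / Nat.card H = ((Nat.card H : ℝ) + Z.card) / Nat.card H by
    field_simp, inv_mul_eq_div]
  refine div_le_div_of_nonneg_right ?_ hpos.le
  linarith

end Cfsg.Agent.S4989
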