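import Cfsg.Statements.S4993
import Cfsg.Agent.Lib.Char.PrimitiveDegree
import Cfsg.Agent.Lib.Char.Codegree
import Cfsg.Agent.Lib.Char.BlockBasic

set_option autoImplicit false
open Cfsg Cfsg.Agent Cfsg.Agent.Char

namespace Cfsg.Agent.S4993

/-- Let G be a group of odd order whose order has exactly two prime divisors and whose quotient by its Fitting subgroup is nilpotent (G is metanilpotent), and let χ be a primitive irreducible complex character of G (not induced from a character of any proper subgroup). Then χ(1) divides the size of some conjugacy class of G. -/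
theorem result {G : Type*} [Group G] [Fintype G] (hodd : Odd (Nat.card G)) (h2 : (Nat.card G).primeFactors.card = 2) [hF : (Cfsg.fittingSubgroup G).Normal] (hmeta : Group.IsNilpotent (G ⧸ Cfsg.fittingSubgroup G)) (χ : Cfsg.IrrCharacter G) (hprim : ¬ ∃ (H : Subgroup G), H ≠ ⊤ ∧ ∃ θ : ↥H → ℂ, Cfsg.IsCharacter ↥H θ ∧ Cfsg.indFun H θ = (χ : G → ℂ)) : ∃ g : G, Cfsg.charDegree (χ : G → ℂ) ∣ (Subgroup.centralizer ({g} : Set G)).index := by
  classical
  obtain ⟨K, hKn, hK⟩ := exists_charKernel (irr_isCharacter χ.2)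
  haveI := Fintype.ofFinite (G ⧸ K)
  obtain ⟨χ', hχ'⟩ := exists_deflate K χ.2 (fun n hn => (hK n).1 hn)
  have hf : ∀ x : G ⧸ K, (χ' : G ⧸ K → ℂ) x = (χ' : G ⧸ K → ℂ) 1 → x = 1 := by
    intro x hx
    obtain ⟨g, rfl⟩ := QuotientGroup.mk_surjective x
    rw [← QuotientGroup.mk_one, hχ', hχ'] at hx
    exact (QuotientGroup.eq_one_iff g).2 ((hK g).2 hx)
  have hprim' : Prim.IsPrimitive χ' := Prim.primitive_deflate K hχ' hprim
  haveI : (fittingSubgroup (G ⧸ K)).Normal := Solv.fittingSubgroup_normal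
  haveI := hmeta
  haveI : Group.IsNilpotent ((G ⧸ K) ⧸ fittingSubgroup (G ⧸ K)) := by
    haveI : Group.IsNilpotent (fittingSubgroup G) := Solv.fittingSubgroup_nilpotent
    haveI hn : ((fittingSubgroup G).map (QuotientGroup.mk' K)).Normal :=
      Subgroup.Normal.map inferInstance _ (QuotientGroup.mk'_surjective K)
    have hle : fittingSubgroup G ≤ ((QuotientGroup.mk' (fittingSubgroup (G ⧸ K))).comp
        (QuotientGroup.mk' K)).ker := fun g hg => by
      rw [MonoidHom.mem_ker, MonoidHom.comp_apply, QuotientGroup.mk'_apply, QuotientGroup.mk'_apply,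
        QuotientGroup.eq_one_iff]
      exact Solv.normal_le_fitting (Group.nilpotent_of_surjective
        ((QuotientGroup.mk' K).subgroupMap (fittingSubgroup G))
        (MonoidHom.subgroupMap_surjective _ _)) ⟨g, hg, rfl⟩
    exact Group.nilpotent_of_surjective (QuotientGroup.lift _ _ hle)
      (QuotientGroup.lift_surjective_of_surjective _
        ((QuotientGroup.mk' (fittingSubgroup (G ⧸ K))).comp (QuotientGroup.mk' K))
        ((QuotientGroup.mk'_surjective (fittingSubgroup (G ⧸ K))).comp (QuotientGroup.mk'_surjective K)) hle)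
  obtain ⟨p, q, hpq, hpqs⟩ := Finset.card_eq_two.1 h2
  have hp : p.Prime := Nat.prime_of_mem_primeFactors (hpqs ▸ Finset.mem_insert_self p {q})
  have hq : q.Prime := Nat.prime_of_mem_primeFactors
    (hpqs ▸ Finset.mem_insert_of_mem (Finset.mem_singleton_self q))
  have hpr : ∀ r, r.Prime → r ∣ Nat.card (G ⧸ K) → r = p ∨ r = q := fun r hr hd => by
    have : r ∈ (Nat.card G).primeFactors := Nat.mem_primeFactors.2
      ⟨hr, hd.trans (Subgroup.card_quotient_dvd_card K), Nat.card_pos.ne'⟩
    rw [hpqs] at this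
    simpa using this
  obtain ⟨x, hx⟩ := Prim.deg_dvd_index hp hq hpq hpr hprim' hf _ rfl
  obtain ⟨g, rfl⟩ := QuotientGroup.mk_surjective x
  refine ⟨g, ?_⟩
  have hdeg : deg (χ' : G ⧸ K → ℂ) = deg (χ : G → ℂ) := Nat.cast_injective (R := ℂ) (by
    rw [← char_one_eq_deg (irr_isCharacter χ'.2), ← char_one_eq_deg (irr_isCharacter χ.2),
      ← QuotientGroup.mk_one, hχ'])
  rw [charDegree_eq_deg, ← hdeg]
  refine hx.trans ?_
  rw [← Subgroup.index_comap_of_surjective _ (QuotientGroup.mk'_surjective K)]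
  refine Subgroup.index_dvd_of_le fun y hy => ?_
  rw [Subgroup.mem_centralizer_singleton_iff] at hy
  rw [Subgroup.mem_comap, Subgroup.mem_centralizer_singleton_iff]
  exact congrArg (QuotientGroup.mk' K) hy

end Cfsg.Agent.S4993
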