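import Cfsg.Statements.S4996
import Cfsg.Agent.Lib.Char.Zeros
import Cfsg.Agent.Lib.Char.Gallagher

set_option autoImplicit false
open Cfsg
open scoped ComplexConjugate

namespace Cfsg.Agent.S4996

/-- Let N be a normal subgroup of the finite group G and χ an irreducible complex character of G. Then the restriction of χ to N is not irreducible if and only if χ vanishes on some whole coset Nx of N in G. -/
theorem result {G : Type*} [Group G] [Finite G] (N : Subgroup G) [N.Normal] (χ : Cfsg.IrrCharacter G) : ¬ Cfsg.IsIrrCharacter ↥N (fun n : ↥N => (χ : G → ℂ) n) ↔ ∃ x : G, ∀ n : ↥N, (χ : G → ℂ) ((n : G) * x) = 0 := by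
  classical
  haveI := Fintype.ofFinite G
  haveI := Fintype.ofFinite N
  have hχc := Cfsg.Agent.Char.irr_isCharacter χ.2
  set a : G → ℂ := fun g => (χ : G → ℂ) g * conj ((χ : G → ℂ) g) with ha
  have hac : Cfsg.IsClassFunction G a := fun g k => by
    simp only [ha, Cfsg.Agent.Char.isClassFunction_character hχc g k]
  set F := Cfsg.Agent.Char.cosetAvg N a with hF
  have hNc : (Nat.card N : ℝ) ≠ 0 := Nat.cast_ne_zero.2 Nat.card_pos.ne'
  set r : G → ℝ := fun g => (Nat.card N : ℝ)⁻¹ * ∑ n : N, ‖(χ : G → ℂ) ((n : G) * g)‖ ^ 2 with hr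
  have hFr : ∀ g, F g = (r g : ℂ) := fun g => by
    simp [hF, hr, ha, Cfsg.Agent.Char.cosetAvg, Complex.mul_conj']
  constructor
  · intro hred
    by_contra hne
    simp only [not_exists, not_forall] at hne
    have hrpos : ∀ g, 0 < r g := fun g => by
      obtain ⟨n, hn⟩ := hne g
      exact mul_pos (by positivity) (Finset.sum_pos' (fun _ _ => sq_nonneg _)
        ⟨n, Finset.mem_univ _, pow_pos (norm_pos_iff.2 hn) 2⟩)
    -- `F` is integral
    have hnat : ∀ β : Cfsg.IrrCharacter G, ∃ k : ℕ, Cfsg.classInner a (β : G → ℂ) = k := fun β =>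
      Cfsg.Agent.Char.classInner_natCast (Cfsg.Agent.Char.isCharacter_mul hχc
        (Cfsg.Agent.Char.isCharacter_conj hχc)) (Cfsg.Agent.Char.irr_isCharacter β.2)
    choose k hk using hnat
    set triv := Finset.univ.filter (fun β : Cfsg.IrrCharacter G => ∀ n : N, (β : G → ℂ) n = (β : G → ℂ) 1)
      with htriv
    set F₀ : G → ℂ := ∑ β ∈ triv, (k β : ℂ) • (β : G → ℂ) with hF₀
    have hFF : F = F₀ := by
      refine Cfsg.Agent.Char.coset_ext N (Cfsg.Agent.Char.cosetAvg_class N hac) ?_
        (Cfsg.Agent.Char.cosetAvg_mul N a) ?_ fun β hβ hβN => ?_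
      · intro g x
        simp only [hF₀, Finset.sum_apply, Pi.smul_apply]
        exact Finset.sum_congr rfl fun β _ => by
          rw [Cfsg.Agent.Char.isClassFunction_character (Cfsg.Agent.Char.irr_isCharacter β.2)]
      · intro n g
        simp only [hF₀, Finset.sum_apply, Pi.smul_apply]
        exact Finset.sum_congr rfl fun β hβ => by
          rw [Cfsg.Agent.Char.trivial_mul N β.2 (Finset.mem_filter.1 hβ).2]
      · rw [hF, Cfsg.Agent.Char.classInner_cosetAvg N a β (Cfsg.Agent.Char.trivial_mul N hβ hβN), hF₀,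
          Cfsg.Agent.Char.classInner_sum_left, Finset.sum_eq_single (⟨β, hβ⟩ : Cfsg.IrrCharacter G)]
        · rw [Cfsg.Agent.Char.classInner_smul_left, Cfsg.Agent.Char.irr_self hβ, mul_one]
          exact hk ⟨β, hβ⟩
        · intro b _ hb
          rw [Cfsg.Agent.Char.classInner_smul_left, show Cfsg.classInner (b : G → ℂ) β = 0 from by
            rw [show β = ((⟨β, hβ⟩ : Cfsg.IrrCharacter G) : G → ℂ) from rfl, Cfsg.Agent.Char.irrC_orth,
              if_neg hb], mul_zero]
        · intro h
          exact absurd (Finset.mem_filter.2 ⟨Finset.mem_univ _, hβN⟩) h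
    have hI : ∀ g, IsIntegral ℤ (F g) := fun g => by
      rw [hFF, hF₀, Finset.sum_apply]
      exact IsIntegral.sum _ fun β _ => (isIntegral_algebraMap (R := ℤ) (x := (k β : ℤ))).mul
        (Cfsg.Agent.Char.char_isIntegral (Cfsg.Agent.Char.irr_isCharacter β.2) g) |> (by simpa using ·)
    have hG : Cfsg.Agent.Char.GalEquiv F := by
      rw [hFF]
      intro g
      have hmem : ∀ β : Cfsg.IrrCharacter G, (k β : ℂ) • (β : G → ℂ) g ∈ Cfsg.Agent.Char.cyc (Nat.card G) :=
        fun β => by
          obtain ⟨hm, -⟩ := Cfsg.Agent.Char.galEquiv_char (Cfsg.Agent.Char.irr_isCharacter β.2) g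
          simpa using mul_mem (IntermediateField.natCast_mem _ (k β)) hm
      have e0 : F₀ g = ∑ β ∈ triv, (k β : ℂ) • (β : G → ℂ) g := by simp [hF₀]
      refine ⟨e0 ▸ sum_mem fun β _ => hmem β, fun φ j hj hφ => ?_⟩
      have e : (⟨F₀ g, e0 ▸ sum_mem fun β _ => hmem β⟩ : Cfsg.Agent.Char.cyc (Nat.card G)) =
          ∑ β ∈ triv, (k β : Cfsg.Agent.Char.cyc (Nat.card G)) *
            ⟨(β : G → ℂ) g, (Cfsg.Agent.Char.galEquiv_char (Cfsg.Agent.Char.irr_isCharacter β.2) g).1⟩ := by
        ext
        simp [e0]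
      rw [e, map_sum]
      simp only [map_mul, map_natCast, hF₀, Finset.sum_apply, Pi.smul_apply, smul_eq_mul]
      refine Finset.sum_congr rfl fun β _ => ?_
      rw [(Cfsg.Agent.Char.galEquiv_char (Cfsg.Agent.Char.irr_isCharacter β.2) g).2 φ j hj hφ]
    set S := Finset.univ.filter (fun g : G => g ∉ N) with hS
    have hlow := Cfsg.Agent.Char.card_le_sum_of_galEquiv hG hI hFr S (fun j hj x hx => by
      simp only [hS, Finset.mem_filter, Finset.mem_univ, true_and] at hx ⊢
      exact fun h => hx ((Cfsg.Agent.Char.pow_coprime_mem_iff N hj x).1 h)) (fun x _ => hrpos x)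
    have htot : ∑ g : G, r g = (Nat.card G : ℝ) := by
      have h := Cfsg.Agent.Char.classInner_cosetAvg N a (fun _ => 1) (fun _ _ => rfl)
      have h2 : Cfsg.classInner a (fun _ => 1) = 1 := by
        refine Eq.trans ?_ (Cfsg.Agent.Char.irr_self χ.2)
        simp [Cfsg.classInner, ha]
      rw [h2, ← hF] at h
      simp only [Cfsg.classInner, map_one, mul_one, hFr] at h
      rw [inv_mul_eq_one₀ (Nat.cast_ne_zero.2 Nat.card_pos.ne')] at h
      exact_mod_cast h.symm
    obtain ⟨m, hm⟩ := Cfsg.Agent.Char.classInner_natCast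
      (Cfsg.Agent.Char.isCharacter_comp N.subtype hχc) (Cfsg.Agent.Char.isCharacter_comp N.subtype hχc)
    have hm2 : 2 ≤ m := by
      rcases Nat.lt_or_ge m 2 with h | h
      · interval_cases m
        · exfalso
          have := congrFun (Cfsg.Agent.Char.classInner_self_eq_zero (a := (χ : G → ℂ) ∘ N.subtype)
            (by simpa using hm)) 1
          exact Cfsg.Agent.Char.irr_one_ne_zero χ.2 this
        · exact absurd (Cfsg.Agent.Char.isIrr_of_norm_one (Cfsg.Agent.Char.isCharacter_comp N.subtype hχc)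
            (by simpa using hm)) hred
      · exact h
    have hN : ∀ g, g ∈ N → r g = m := fun g hg => by
      have h1 : F g = F 1 := by
        have := Cfsg.Agent.Char.cosetAvg_mul N a ⟨g, hg⟩ 1
        simpa using this
      have h2 : F 1 = (m : ℂ) := by
        rw [← hm, hF]
        simp [Cfsg.Agent.Char.cosetAvg, Cfsg.classInner, ha]
      rw [h2, hFr] at h1
      exact_mod_cast h1
    have hsplit := Finset.sum_filter_add_sum_filter_not Finset.univ (fun x : G => x ∈ N) r
    rw [Finset.sum_congr rfl (fun g hg => hN g (Finset.mem_filter.1 hg).2), Finset.sum_const, htot,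
      nsmul_eq_mul] at hsplit
    have hc1 := Finset.card_filter_add_card_filter_not (s := (Finset.univ : Finset G)) (fun x : G => x ∈ N)
    have hpos : 0 < (Finset.univ.filter (fun x : G => x ∈ N)).card :=
      Finset.card_pos.2 ⟨1, by simp⟩
    have hc1' : ((Finset.univ.filter (fun x : G => x ∈ N)).card : ℝ) + S.card = Nat.card G := by
      rw [Nat.card_eq_fintype_card, ← Finset.card_univ, ← hc1, Nat.cast_add]
    have hpos' : (0 : ℝ) < (Finset.univ.filter (fun x : G => x ∈ N)).card := by exact_mod_cast hpos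
    have hm' : (2 : ℝ) ≤ m := by exact_mod_cast hm2
    nlinarith
  · rintro ⟨x, hx⟩ hirr
    have h : F x = 0 := by
      simp [hF, ha, Cfsg.Agent.Char.cosetAvg, hx]
    have hone : F = fun _ => 1 := by
      refine Cfsg.Agent.Char.coset_ext N (Cfsg.Agent.Char.cosetAvg_class N hac) (fun _ _ => rfl)
        (Cfsg.Agent.Char.cosetAvg_mul N a) (fun _ _ => rfl) fun β hβ hβN => ?_
      set ϑ : N → ℂ := fun n : N => (χ : G → ℂ) n with hϑ
      have hone' : ((fun _ => 1) * ϑ : N → ℂ) = ϑ := funext fun n => one_mul _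
      have hbij := Cfsg.Agent.Char.gallagher N (fun _ => 1) ϑ Cfsg.Agent.Char.isIrrCharacter_one
        (fun _ _ => rfl) (fun g n => by
          simp only [hϑ, MulAut.conjNormal_apply]
          exact Cfsg.Agent.Char.isClassFunction_character hχc _ _) (by rw [hone']; exact hirr) hχc (fun _ => rfl)
      rw [hone'] at hbij
      have hdom : ∀ γ : G → ℂ, Cfsg.IsIrrCharacter G γ → (∀ n : N, γ n = γ 1) →
          Cfsg.IsIrrCharacter G γ ∧ Cfsg.classInner (Cfsg.indFun N fun _ => 1) γ ≠ 0 :=
        fun γ hγ hγN => ⟨hγ, (Cfsg.Agent.Char.constituent_indFun_one_iff N hγ).2 hγN⟩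
      have h1 := hbij.1 (hdom β hβ hβN)
      rw [hF, Cfsg.Agent.Char.classInner_cosetAvg N a β (Cfsg.Agent.Char.trivial_mul N hβ hβN)]
      have e1 : Cfsg.classInner a β = Cfsg.classInner (χ : G → ℂ) (β * (χ : G → ℂ)) := by
        simp only [Cfsg.classInner, ha, Pi.mul_apply, map_mul]
        congr 1
        exact Finset.sum_congr rfl fun g _ => by ring
      rw [e1]
      have o1 := Cfsg.Agent.Char.irrC_orth χ ⟨_, h1.1⟩
      have o2 := Cfsg.Agent.Char.irrC_orth (⟨_, Cfsg.Agent.Char.isIrrCharacter_one⟩ : Cfsg.IrrCharacter G) ⟨β, hβ⟩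
      refine o1.trans (Eq.trans ?_ o2.symm)
      by_cases hb : β = fun _ => 1
      · subst hb
        rw [if_pos rfl, if_pos (Subtype.ext (show (χ : G → ℂ) = (fun _ => 1) * (χ : G → ℂ) from
          (one_mul _).symm))]
      · rw [if_neg, if_neg]
        · exact fun he => hb (congrArg Subtype.val he).symm
        · exact fun he => hb (hbij.2.1 (hdom β hβ hβN) (hdom _ Cfsg.Agent.Char.isIrrCharacter_one fun _ => rfl)
            ((congrArg Subtype.val he).symm.trans (one_mul _).symm))
    rw [hone] at h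
    exact one_ne_zero h

end Cfsg.Agent.S4996
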