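import Cfsg.Statements.S4997
import Cfsg.Agent.Lib.Char.VanishingSingular

set_option autoImplicit false
open Cfsg

namespace Cfsg.Agent.S4997

/-- Let p be an odd prime and G a finite solvable group with exactly one conjugacy class consisting of vanishing elements (elements at which some irreducible complex character is zero) of order divisible by p. Let P be a Sylow p-subgroup of G. Then the order of P is at most p times the order of the largest normal p-subgroup of G. -/
theorem result {G : Type*} [Group G] [Finite G] (hsolv : Group.IsSolvable G) (p : ℕ) [Fact p.Prime] (hp : p ≠ 2) (h1 : Set.ncard {C : ConjClasses G | (∀ g ∈ C.carrier, ∃ χ : Cfsg.IrrCharacter G, (χ : G → ℂ) g = 0) ∧ ∃ g ∈ C.carrier, p ∣ orderOf g} = 1) (P : Sylow p G) : Nat.card ↥(P : Subgroup G) ≤ p * Nat.card ↥(Cfsg.pCore p G) := by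
  classical
  haveI := Fintype.ofFinite G
  obtain ⟨C, hC⟩ := Set.ncard_eq_one.1 h1
  have key : ∀ g : G, Agent.Char.VanishingSingular.Van g → p ∣ orderOf g → ConjClasses.mk g = C := by
    rintro g ⟨χ, hχ⟩ hd
    rw [← Set.mem_singleton_iff, ← hC]
    refine ⟨fun a ha => ⟨χ, ?_⟩, g, ConjClasses.mem_carrier_mk, hd⟩
    rw [ConjClasses.mem_carrier_iff_mk_eq, ConjClasses.mk_eq_mk_iff_isConj, isConj_iff] at ha
    obtain ⟨c, hc⟩ := ha
    rw [← hχ, ← hc, Agent.Char.isClassFunction_character (Agent.Char.irr_isCharacter χ.2)]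
  obtain ⟨g₀, rfl⟩ := ConjClasses.mk_surjective C
  refine Agent.Char.VanishingSingular.card_sylow_le hsolv (b := orderOf g₀) (fun g hg hd => ?_) P
  obtain ⟨c, hc⟩ := isConj_iff.1 (ConjClasses.mk_eq_mk_iff_isConj.1 (key g hg hd))
  rw [← hc]
  exact (MulEquiv.orderOf_eq (MulAut.conj c) g).symm

end Cfsg.Agent.S4997
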