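import Cfsg.Statements.S5001
import Cfsg.Agent.Lib.Char.Defect
import Cfsg.Agent.Lib.Char.Height
import Cfsg.Agent.Lib.Char.KerPPrime
import Cfsg.Agent.Lib.Char.Contribution

set_option autoImplicit false
open Cfsg
open scoped ComplexConjugate

namespace Cfsg.Agent.S5001

/-- Let p be a prime, G a finite group and B a p-block of G (relative to a maximal ideal M of the algebraic integers containing p) with defect group D. Let Z be a central p-subgroup of G contained in D and λ a linear character of Z (a homomorphism to the nonzero complex numbers). Say an irreducible character χ of G lies over λ when χ(z) = χ(1)λ(z) for all z ∈ Z. If some irreducible character in B lying over λ has height zero, then λ extends to a linear character of D. -/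
theorem result {G : Type*} [Group G] [Finite G] (p : ℕ) [Fact p.Prime] (M : Ideal Cfsg.AlgInt) (hM : Cfsg.IsPModular p M) (B : Set (Cfsg.IrrCharacter G)) (hB : Cfsg.IsPBlock M B) (D : Subgroup G) (hD : Cfsg.IsDefectGroup p M B D) (Z : Subgroup G) (hZc : Z ≤ Subgroup.center G) (hZp : IsPGroup p ↥Z) (hZD : Z ≤ D) (lam : ↥Z →* ℂˣ) (χ : Cfsg.IrrCharacter G) (hχ : χ ∈ B) (hover : (∀ z : ↥Z, (χ : G → ℂ) z = (χ : G → ℂ) 1 * (lam z : ℂ))) (h0 : Cfsg.blockHeight p B (χ : G → ℂ) = 0) : (∃ μ : ↥D →* ℂˣ, ∀ z : ↥Z, μ ⟨(z : G), hZD z.2⟩ = lam z) := by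
  classical
  have hp : p.Prime := Fact.out
  have := Fintype.ofFinite G
  have hP := Char.pmod_prime hM
  obtain ⟨g, hg, hDg⟩ := (Char.isDefectGroup_iff B D).mp hD
  -- the value at the defect class is a unit
  have hu : ¬ Cfsg.MemLocalIdeal M ((χ : G → ℂ) g) := by
    intro hv
    refine hg.2.2 χ hχ ?_
    obtain ⟨n, hn⟩ := Char.charOne_eq_natCast (Char.irr_isCharacter χ.2)
    have hn' : n = Char.deg (χ : G → ℂ) := by
      exact_mod_cast hn.symm.trans (Char.char_one_eq_deg (Char.irr_isCharacter χ.2))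
    have hn0 : n ≠ 0 := fun h => Char.irr_one_ne_zero χ.2 (by rw [hn, h, Nat.cast_zero])
    have hdef := Char.factorization_centralizer_defectClass hM hB hg
    have hd0 := (Char.blockHeight_eq_zero_iff hχ).mp h0
    have hadd := Char.dmin_add_defect (p := p) (Char.block_nonempty hP hB)
    have hcard := congrArg (fun k => k.factorization p) (Char.card_conjClass_mul_centralizer g)
    simp only [Nat.factorization_mul (Char.card_conjClass_ne_zero g) Nat.card_pos.ne',
      Finsupp.add_apply] at hcard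
    have he : (Nat.card {x : G // IsConj g x}).factorization p = n.factorization p := by
      rw [hn', show (Char.deg (χ : G → ℂ)).factorization p = Char.dexp p (χ : G → ℂ) from rfl, hd0]
      omega
    set k := Nat.card {x : G // IsConj g x} with hk
    have hk' := Nat.ordProj_mul_ordCompl_eq_self k p
    have hn'' := Nat.ordProj_mul_ordCompl_eq_self n p
    rw [he] at hk'
    have hp0 : ((p : ℂ) ^ n.factorization p) ≠ 0 := pow_ne_zero _ (Nat.cast_ne_zero.mpr hp.ne_zero)
    rw [← Char.omega_eq_centralChar, Char.omega, ← hk, hn]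
    rw [show (k : ℂ) = ((p ^ n.factorization p * (k / p ^ n.factorization p) : ℕ) : ℂ) by rw [hk'],
      show ((n : ℕ) : ℂ) = ((p ^ n.factorization p * (n / p ^ n.factorization p) : ℕ) : ℂ) by rw [hn'']]
    push_cast
    rw [show ∀ a b c : ℂ, ((p : ℂ) ^ n.factorization p * a) * b / ((p : ℂ) ^ n.factorization p * c) =
        (a * c⁻¹) * b from fun a b c => by field_simp]
    exact Char.memLI_mul_left hP (Char.memLR_mul hP (Char.memLR_natCast hP _)
      (Char.memLR_inv_natCast hM (Nat.not_dvd_ordCompl hp hn0))) hv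
  -- a constituent on ⟨g⟩D of degree prime to p
  set A := Subgroup.zpowers g ⊔ D with hA
  have hgA : g ∈ A := le_sup_left (b := D) (Subgroup.mem_zpowers g)
  have hAc : A ≤ Subgroup.centralizer ({g} : Set G) :=
    sup_le (Subgroup.zpowers_le.mpr (Subgroup.mem_centralizer_singleton_iff.mpr rfl)) hDg.le
  obtain ⟨m, hm⟩ := Char.exists_decomposition (Char.isCharacter_comp A.subtype (Char.irr_isCharacter χ.2))
  have hgv := congrFun hm ⟨g, hgA⟩
  simp only [Function.comp_apply, Subgroup.coe_subtype, Finset.sum_apply, nsmul_eq_mul, Pi.mul_apply,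
    Pi.natCast_apply] at hgv
  obtain ⟨η, -, hη⟩ : ∃ η ∈ (Finset.univ : Finset (Cfsg.IrrCharacter A)),
      ¬ Cfsg.MemLocalIdeal M ((m η : ℂ) * (η : A → ℂ) ⟨g, hgA⟩) := by
    by_contra hno
    push Not at hno
    exact hu (hgv ▸ Char.memLI_sum hP _ _ hno)
  have hm0 : m η ≠ 0 := fun h => hη (by rw [h, Nat.cast_zero, zero_mul]; exact Char.memLI_zero hP)
  have hdeg : ¬ p ∣ Cfsg.charDegree (η : A → ℂ) := by
    intro hd
    obtain ⟨ζ, hζ, hζc⟩ := Char.exists_central_root (z := (⟨g, hgA⟩ : A))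
      (fun c => Subtype.ext (Subgroup.mem_centralizer_singleton_iff.mp (hAc c.2)).symm) η
    refine hη (Char.memLI_mul_left hP (Char.memLR_natCast hP _) ?_)
    have hval := hζc 1
    rw [mul_one, Char.char_one_eq_deg (Char.irr_isCharacter η.2)] at hval
    rw [hval]
    refine Char.memLI_mul_left hP (Char.memLocalRing_of_isIntegral hP.ne_top ?_)
      ((Char.memLI_natCast_iff hM _).mpr (by rwa [← Char.charDegree_eq_deg]))
    exact IsIntegral.of_pow (orderOf_pos _) (by rw [hζ]; exact isIntegral_one)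
  let PA : Subgroup A := D.subgroupOf A
  have hDA : D ≤ A := le_sup_right
  have := Fintype.ofFinite PA
  obtain ⟨μ, hμ⟩ := Char.exists_linear_constituent PA
    (hDg.isPGroup.of_equiv (Subgroup.subgroupOfEquivOfLe hDA).symm) hdeg
  refine ⟨μ.comp (Subgroup.subgroupOfEquivOfLe hDA).symm.toMonoidHom, fun z => ?_⟩
  -- the inner product of χ with μ on D
  set f : PA → ℂ := fun u => (χ : G → ℂ) ((u : A) : G) with hf
  have hinner : Cfsg.classInner f (fun u => (μ u : ℂ)) ≠ 0 := by
    have hfe : f = ∑ ξ : Cfsg.IrrCharacter A, (m ξ : ℂ) • (fun u : PA => (ξ : A → ℂ) u) := by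
      funext u
      have h := congrFun hm u
      simpa [hf] using h
    rw [hfe, Char.classInner_sum_left]
    simp only [Char.classInner_smul_left]
    choose c hc using fun ξ : Cfsg.IrrCharacter A => Char.classInner_natCast
      (Char.isCharacter_comp PA.subtype (Char.irr_isCharacter ξ.2))
      (Char.irr_isCharacter (Char.isIrrCharacter_linear μ))
    have hc' : ∀ ξ : Cfsg.IrrCharacter A, Cfsg.classInner (fun u : PA => (ξ : A → ℂ) u)
        (fun u => (μ u : ℂ)) = c ξ := hc
    simp only [hc']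
    intro h0'
    have h1 : ∑ ξ, m ξ * c ξ = 0 := by exact_mod_cast h0'
    have h2 := Finset.sum_eq_zero_iff.mp h1 η (Finset.mem_univ _)
    rw [hc' η] at hμ
    exact hμ (by rw [(Nat.mul_eq_zero.mp h2).resolve_left hm0, Nat.cast_zero])
  let u₀ : PA := ⟨⟨(z : G), hDA (hZD z.2)⟩, Subgroup.mem_subgroupOf.mpr (hZD z.2)⟩
  have he : (μ.comp (Subgroup.subgroupOfEquivOfLe hDA).symm.toMonoidHom) ⟨(z : G), hZD z.2⟩ = μ u₀ := rfl
  rw [he]
  have hzc := Subgroup.mem_center_iff.mp (hZc z.2)
  obtain ⟨ζ, -, hζc⟩ := Char.exists_central_root (z := (z : G)) (fun c => (hzc c).symm) χ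
  have hζ : ζ = (lam z : ℂ) := by
    have h := hζc 1
    rw [mul_one, hover z, mul_comm ζ] at h
    exact (mul_left_cancel₀ (Char.irr_one_ne_zero χ.2) h).symm
  have hroot : (μ u₀ : ℂ) * (starRingEnd ℂ) (μ u₀ : ℂ) = 1 := by
    have h := Char.linear_pow_card μ u₀
    rw [Complex.mul_conj', Complex.norm_eq_one_of_pow_eq_one h (orderOf_pos _).ne']
    simp
  have htr : Cfsg.classInner f (fun u => (μ u : ℂ)) =
      (lam z : ℂ) * (starRingEnd ℂ) (μ u₀ : ℂ) * Cfsg.classInner f (fun u => (μ u : ℂ)) := by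
    simp only [Cfsg.classInner, Finset.mul_sum]
    refine (Fintype.sum_equiv (Equiv.mulLeft u₀) _ _ fun u => ?_).symm
    show _ = _ * (f (u₀ * u) * _)
    rw [show f (u₀ * u) = ζ * f u from hζc _, hζ]
    simp only [Equiv.coe_mulLeft, map_mul, Units.val_mul]
    ring
  have h1 : (lam z : ℂ) * (starRingEnd ℂ) (μ u₀ : ℂ) = 1 := by
    have := mul_right_cancel₀ hinner ((one_mul _).trans htr)
    exact this.symm
  refine Units.ext ?_
  calc (μ u₀ : ℂ) = (μ u₀ : ℂ) * ((lam z : ℂ) * (starRingEnd ℂ) (μ u₀ : ℂ)) := by rw [h1, mul_one]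
    _ = (lam z : ℂ) * ((μ u₀ : ℂ) * (starRingEnd ℂ) (μ u₀ : ℂ)) := by ring
    _ = _ := by rw [hroot, mul_one]

end Cfsg.Agent.S5001
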