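import Cfsg.Statements.S5005
import Cfsg.Agent.Lib.Char.MathieuTwentyTwoBlock

set_option autoImplicit false
open Cfsg
open scoped ComplexConjugate

namespace Cfsg.Agent.S5005

/-- All irreducible complex characters of the Mathieu group `M₂₂` lie in a single 2-block: any two of them lie in the same block relative to every maximal ideal of the algebraic integers containing 2. -/
theorem result (M : Ideal Cfsg.AlgInt) (hM : Cfsg.IsPModular 2 M)
    (χ ψ : Cfsg.IrrCharacter ↥Cfsg.Spor.M22) : Cfsg.SameBlock M (χ : ↥Cfsg.Spor.M22 → ℂ) (ψ : ↥Cfsg.Spor.M22 → ℂ) := by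
  classical
  haveI := Fintype.ofFinite ↥Cfsg.Spor.M22
  have hP := Char.pmod_prime hM
  have h1 := Char.m22_block_principal hM (Char.isPBlock_blockOf M χ)
  have h2 := Char.m22_block_principal hM (Char.isPBlock_blockOf M ψ)
  have h3 : ψ ∈ blockOf M (χ : ↥Cfsg.Spor.M22 → ℂ) := by
    rw [h1, ← h2]; exact Char.self_mem_blockOf hP ψ
  exact h3

end Cfsg.Agent.S5005
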