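import Cfsg.Statements.S5011
import Mathlib

set_option autoImplicit false
open Cfsg

namespace Cfsg.Agent.S5011

/-- Let G be a finite non-abelian simple group and ρ an irreducible complex representation of G on a space of dimension greater than one (irreducible in the sense that the only subspaces invariant under every ρ(x) are 0 and the whole space). Then for every non-identity element g of G, the centralizer of g does not act irreducibly: there is a non-zero proper subspace invariant under ρ(c) for every c commuting with g. -/
theorem result {G : Type*} [Group G] [Finite G] [IsSimpleGroup G]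
    (hG : ¬ IsMulCommutative G) {V : Type*} [AddCommGroup V] [Module ℂ V] [FiniteDimensional ℂ V]
    (ρ : Representation ℂ G V)
    (hirr : ∀ W : Submodule ℂ V, (∀ x : G, ∀ v ∈ W, ρ x v ∈ W) → W = ⊥ ∨ W = ⊤)
    (hdim : 1 < Module.finrank ℂ V) (g : G) (hg : g ≠ 1) :
    ∃ W : Submodule ℂ V, W ≠ ⊥ ∧ W ≠ ⊤ ∧ ∀ c ∈ Subgroup.centralizer ({g} : Set G), ∀ v ∈ W, ρ c v ∈ W := by
  obtain ⟨c, hc⟩ : ∃ c, Module.End.HasEigenvalue (ρ g) c := by
    haveI : Nontrivial V := Module.nontrivial_of_finrank_pos (R := ℂ) (by omega)
    exact Module.End.exists_eigenvalue (ρ g)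
  set W := Module.End.eigenspace (ρ g) c with hW
  by_cases htop : W = ⊤
  · exfalso
    let S : Subgroup G :=
      { carrier := {x | ∃ a : ℂ, ∀ v, ρ x v = a • v}
        one_mem' := ⟨1, by simp⟩
        mul_mem' := by
          rintro x y ⟨a, ha⟩ ⟨b, hb⟩
          exact ⟨b * a, fun v => by rw [map_mul, Module.End.mul_apply, hb, map_smul, ha, smul_smul]⟩
        inv_mem' := by
          rintro x ⟨a, ha⟩
          refine ⟨a⁻¹, fun v => ?_⟩
          have h1 : a • ρ x⁻¹ v = v := by
            rw [← ha]
            rw [← Module.End.mul_apply, ← map_mul, mul_inv_cancel, map_one, Module.End.one_apply]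
          by_cases ha0 : a = 0
          · rw [ha0, zero_smul] at h1
            rw [← h1]; simp
          · conv_rhs => rw [← h1]
            rw [inv_smul_smul₀ ha0] }
    have hgS : g ∈ S := ⟨c, fun v => by
      have : v ∈ W := by rw [htop]; trivial
      exact Module.End.mem_eigenspace_iff.1 this⟩
    have hSn : S.Normal := ⟨fun x ⟨a, ha⟩ y => ⟨a, fun v => by
      rw [map_mul, map_mul, Module.End.mul_apply, Module.End.mul_apply, ha, map_smul,
        ← Module.End.mul_apply, ← map_mul, mul_inv_cancel, map_one, Module.End.one_apply]⟩⟩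
    have hStop : S = ⊤ := by
      rcases hSn.eq_bot_or_eq_top with h | h
      · exact absurd (by rwa [h, Subgroup.mem_bot] at hgS) hg
      · exact h
    haveI : Nontrivial V := Module.nontrivial_of_finrank_pos (R := ℂ) (by omega)
    obtain ⟨v, hv⟩ := exists_ne (0 : V)
    rcases hirr (Submodule.span ℂ {v}) (fun x w hw => by
      obtain ⟨a, ha⟩ : x ∈ S := hStop ▸ Subgroup.mem_top x
      rw [ha]; exact Submodule.smul_mem _ _ hw) with h | h
    · exact hv (by simpa using h)
    · have := congrArg (fun U : Submodule ℂ V => Module.finrank ℂ U) h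
      simp only [finrank_top, finrank_span_singleton hv] at this
      omega
  · refine ⟨W, hc, htop, fun x hx v hv => ?_⟩
    rw [Subgroup.mem_centralizer_singleton_iff] at hx
    rw [hW, Module.End.mem_eigenspace_iff] at hv ⊢
    rw [← Module.End.mul_apply, ← map_mul, ← hx, map_mul, Module.End.mul_apply, hv, map_smul]

end Cfsg.Agent.S5011
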