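import Cfsg.Statements.S5012
import Cfsg.Agent.Lib.Char.LieBlocks.Linear
import Cfsg.Agent.Lib.Char.LieBlocks.Symp
import Cfsg.Agent.Lib.Char.LieBlocks.Unit
import Cfsg.Agent.Lib.Char.LieBlocks.Orth
import Cfsg.Agent.Lib.Char.LieBlocks.Chev
import Cfsg.Agent.Lib.Char.LieBlocks.TwistFamilies
import Cfsg.Agent.Lib.Char.LieBlocks.Suzuki

set_option autoImplicit false
open Cfsg

namespace Cfsg.Agent.S5012

/-- Let G be a finite simple group of Lie type in characteristic p. Then every p-block of G has defect zero or full defect: its defect is 0 or the exponent of p in the order of G (its defect groups are trivial or Sylow p-subgroups). -/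
theorem result {G : Type*} [Group G] [Finite G] (p : ℕ) [Fact p.Prime] (hG : Cfsg.IsLieTypeChar p G) (M : Ideal Cfsg.AlgInt) (hM : Cfsg.IsPModular p M) (B : Set (Cfsg.IrrCharacter G)) (hB : Cfsg.IsPBlock M B) : Cfsg.blockDefect p B = 0 ∨ Cfsg.blockDefect p B = (Nat.card G).factorization p := by
  haveI := Fintype.ofFinite G
  have h : Cfsg.Agent.Char.LieBlocks.CentCond p G := by
    rcases hG with h | h | h | h | h | h | h | h | ⟨rfl, h⟩ | ⟨rfl, h⟩ | ⟨rfl, h⟩
    · exact Cfsg.Agent.Char.LieBlocks.centCond_psl h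
    · exact Cfsg.Agent.Char.LieBlocks.centCond_psp h
    · exact Cfsg.Agent.Char.LieBlocks.centCond_psu h
    · exact Cfsg.Agent.Char.LieBlocks.centCond_pomega_odd h
    · exact Cfsg.Agent.Char.LieBlocks.centCond_pomega_plus h
    · exact Cfsg.Agent.Char.LieBlocks.centCond_pomega_minus h
    · exact Cfsg.Agent.Char.LieBlocks.centCond_exceptional h
    · exact Cfsg.Agent.Char.LieBlocks.centCond_twistedE6D4 h
    · exact Cfsg.Agent.Char.LieBlocks.centCond_suzuki h
    · exact Cfsg.Agent.Char.LieBlocks.centCond_ree_two h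
    · exact Cfsg.Agent.Char.LieBlocks.centCond_ree_three h
  exact h.dichotomy hM hB

end Cfsg.Agent.S5012
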