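import Cfsg.Statements.S5014
import Cfsg.Agent.Lib.Classical.RankOneAction
-- import your own Cfsg.Agent.* helpers here

set_option autoImplicit false
open Cfsg

namespace Cfsg.Agent.S5014

open Cfsg.Agent.Classical.RankOne

/-- Let X = ⟨A, B⟩ be a rank one group with unipotent subgroups A and B and let Ω be the set of conjugates of A under X. Then Ω has at least three members, X acts doubly transitively on Ω by conjugation (any two ordered pairs of distinct members are carried to one another by a single element of X), and A acts regularly on Ω with A removed: for C, D in Ω different from A there is exactly one element of A conjugating C to D. -/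
theorem result {G : Type*} [Group G] {A B : Subgroup G} (h : Cfsg.IsRankOnePair A B) :
    (∃ C₁ ∈ Cfsg.unipotentSubgroups A B, ∃ C₂ ∈ Cfsg.unipotentSubgroups A B, ∃ C₃ ∈ Cfsg.unipotentSubgroups A B,
      C₁ ≠ C₂ ∧ C₁ ≠ C₃ ∧ C₂ ≠ C₃) ∧
    (∀ C₁ ∈ Cfsg.unipotentSubgroups A B, ∀ C₂ ∈ Cfsg.unipotentSubgroups A B, ∀ D₁ ∈ Cfsg.unipotentSubgroups A B,
      ∀ D₂ ∈ Cfsg.unipotentSubgroups A B, C₁ ≠ C₂ → D₁ ≠ D₂ →
        ∃ x ∈ A ⊔ B, Cfsg.conjBy C₁ x = D₁ ∧ Cfsg.conjBy C₂ x = D₂) ∧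
    (∀ C ∈ Cfsg.unipotentSubgroups A B, ∀ D ∈ Cfsg.unipotentSubgroups A B, C ≠ A → D ≠ A →
      ∃! a : G, a ∈ A ∧ Cfsg.conjBy C a = D) := by
  refine ⟨?_, ?_, ?_⟩
  · obtain ⟨a, ha, ha1⟩ := left_ne_bot h
    refine ⟨A, left_mem, B, right_mem h, Cfsg.conjBy B a, conj_mem' (right_mem h) (Subgroup.mem_sup_left ha),
      h.ne, fun he => h.ne ?_, fun he => ha1 (fix_right h ha he.symm)⟩
    exact conjBy_inj ((conjBy_of_mem ha).trans he)
  · intro C₁ h1 C₂ h2 D₁ g1 D₂ g2 hne hne'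
    obtain ⟨x, hx, rfl, rfl⟩ := two_trans h h1 h2 hne
    obtain ⟨y, hy, rfl, rfl⟩ := two_trans h g1 g2 hne'
    refine ⟨y * x⁻¹, mul_mem hy (inv_mem hx), ?_, ?_⟩ <;> rw [conjBy_mul, conjBy_cancel]
  · intro C hC D hD hCA hDA
    obtain ⟨a1, ha1, rfl⟩ := (unipotent_cases h hC).resolve_left hCA
    obtain ⟨a2, ha2, rfl⟩ := (unipotent_cases h hD).resolve_left hDA
    refine ⟨a2 * a1⁻¹, ⟨mul_mem ha2 (inv_mem ha1), by rw [conjBy_mul, conjBy_cancel]⟩, ?_⟩
    rintro a ⟨ha, he⟩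
    have e : Cfsg.conjBy B (a2⁻¹ * (a * a1)) = B := by
      rw [conjBy_mul, conjBy_mul, he, conjBy_cancel]
    have := fix_right h (mul_mem (inv_mem ha2) (mul_mem ha ha1)) e
    rw [inv_mul_eq_one] at this
    rw [this, mul_inv_cancel_right]

end Cfsg.Agent.S5014
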