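import Cfsg.Statements.S5015
import Cfsg.Agent.Lib.Classical.RankOneAction
-- import your own Cfsg.Agent.* helpers here

set_option autoImplicit false
open Cfsg

namespace Cfsg.Agent.S5015

open Cfsg.Agent.Classical.RankOne

/-- Let a group Y act doubly transitively on a set Ω with at least three points, and suppose that the stabilizer of a point α contains a nilpotent subgroup A, normalized by that stabilizer, which acts regularly on the points other than α. Then for any y in Y moving α, the subgroups A and y A y⁻¹ are the unipotent subgroups of a rank one group, and the normal closure of A in Y (the subgroup generated by all conjugates of A) is generated by A and y A y⁻¹ alone. -/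
theorem result {Y Ω : Type*} [Group Y] [MulAction Y Ω]
    (h2 : MulAction.IsMultiplyPretransitive Y Ω 2) (hΩ : 3 ≤ ENat.card Ω) (α : Ω) (A : Subgroup Y)
    (hA : A ≤ MulAction.stabilizer Y α) (hAn : ∀ y ∈ MulAction.stabilizer Y α, Cfsg.conjBy A y = A)
    (hnil : Group.IsNilpotent A) (hreg : ∀ β γ : Ω, β ≠ α → γ ≠ α → ∃! a : Y, a ∈ A ∧ a • β = γ)
    (y : Y) (hy : y ∉ MulAction.stabilizer Y α) :
    Cfsg.IsRankOnePair A (Cfsg.conjBy A y) ∧ Subgroup.normalClosure (A : Set Y) = A ⊔ Cfsg.conjBy A y := by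
  have hdet : ∀ z z' : Y, z • α = z' • α → Cfsg.conjBy A z = Cfsg.conjBy A z' := by
    intro z z' hz
    have hm : z'⁻¹ * z ∈ MulAction.stabilizer Y α := by
      rw [MulAction.mem_stabilizer_iff, mul_smul, hz, inv_smul_smul]
    have e := congrArg (Cfsg.conjBy · z') (hAn _ hm)
    rwa [← conjBy_mul, mul_inv_cancel_left] at e
  have hfix : ∀ a ∈ A, a • α = α := fun a ha => hA ha
  have hβ : y • α ≠ α := hy
  obtain ⟨δ, hδα, hδβ⟩ : ∃ δ, δ ≠ α ∧ δ ≠ y • α := by
    by_contra hno
    simp only [not_exists, not_and, not_not] at hno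
    have hsub : (Set.univ : Set Ω) ⊆ {α, y • α} := fun x _ => by
      by_cases hx : x = α
      · exact Or.inl hx
      · exact Or.inr (hno x hx)
    have h3 : 3 ≤ (Set.univ : Set Ω).encard := by rwa [Set.encard_univ]
    have h2' := (h3.trans (Set.encard_le_encard hsub)).trans_eq (Set.encard_pair hβ.symm)
    exact absurd h2' (by decide)
  have hBfix : ∀ b ∈ Cfsg.conjBy A y, b • (y • α) = y • α := by
    rintro _ ⟨a, ha, rfl⟩
    change (y * a * y⁻¹) • (y • α) = y • α
    rw [mul_smul, inv_smul_smul, mul_smul, hfix a ha]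
  have huniq : ∀ a ∈ A, ∀ β, β ≠ α → a • β = β → a = 1 := fun a ha β hβ' he =>
    (hreg β β hβ' hβ').unique ⟨ha, he⟩ ⟨one_mem _, one_smul _ _⟩
  have hregB : ∀ γ, γ ≠ y • α → ∃ b ∈ Cfsg.conjBy A y, b • α = γ := by
    intro γ hγ
    obtain ⟨a, ⟨ha, he⟩, -⟩ := hreg (y⁻¹ • α) (y⁻¹ • γ)
      (fun h => hβ (by rw [inv_smul_eq_iff] at h; exact h.symm))
      (fun h => hγ (by rw [inv_smul_eq_iff] at h; exact h))
    refine ⟨y * a * y⁻¹, ⟨a, ha, rfl⟩, ?_⟩
    rw [mul_smul, mul_smul, he, smul_inv_smul]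
  have hne : A ≠ Cfsg.conjBy A y := by
    intro he
    obtain ⟨a, ⟨ha, hd⟩, -⟩ := hreg (y • α) δ hβ hδα
    exact hδβ (hd.symm.trans (hBfix a (he ▸ ha)))
  refine ⟨⟨hne, hnil, ?_, ?_, ?_⟩, le_antisymm ?_ ?_⟩
  · haveI := hnil
    exact nilpotent_of_surjective _ ((MulAut.conj y).toMonoidHom.subgroupMap_surjective A)
  · intro a ha ha1
    have hγ : a⁻¹ • (y • α) ≠ y • α := fun he => inv_ne_one.2 ha1 (huniq _ (inv_mem ha) _ hβ he)
    obtain ⟨b, hb, hbe⟩ := hregB _ hγ
    refine ⟨b⁻¹, inv_mem hb, fun h1 => ?_, ?_⟩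
    · rw [inv_eq_one] at h1
      rw [h1, one_smul, eq_inv_smul_iff, hfix a ha] at hbe
      exact hβ hbe.symm
    · rw [inv_inv, ← conjBy_mul]
      exact hdet _ _ (by rw [hbe, mul_smul])
  · intro b hb hb1
    have hγ : b⁻¹ • α ≠ α := by
      intro he
      obtain ⟨a, ha, rfl⟩ := hb
      apply hb1
      have hy' : y⁻¹ • α ≠ α := fun h => hβ (by rw [inv_smul_eq_iff] at h; exact h.symm)
      have e : a • (y⁻¹ • α) = y⁻¹ • α := by
        rw [inv_smul_eq_iff] at he
        change α = (y * a * y⁻¹) • α at he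
        rw [mul_smul, mul_smul, ← inv_smul_eq_iff] at he
        exact he.symm
      simp [huniq a ha _ hy' e]
    obtain ⟨a, ⟨ha, hae⟩, -⟩ := hreg (y • α) (b⁻¹ • α) hβ hγ
    refine ⟨a⁻¹, inv_mem ha, fun h1 => ?_, ?_⟩
    · rw [inv_eq_one] at h1
      rw [h1, one_smul, eq_inv_smul_iff, hBfix b hb] at hae
      exact hβ hae
    · rw [inv_inv, ← conjBy_mul]
      exact hdet _ _ (by rw [mul_smul, hae])
  · rw [Subgroup.normalClosure]
    refine (Subgroup.closure_le _).2 ?_
    intro x hx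
    obtain ⟨a, ha, hc⟩ := Group.mem_conjugatesOfSet_iff.1 hx
    obtain ⟨z, rfl⟩ := isConj_iff.1 hc
    have hxz : z * a * z⁻¹ ∈ Cfsg.conjBy A z := ⟨a, ha, rfl⟩
    by_cases hz : z • α = α
    · rw [hAn z hz] at hxz
      exact Subgroup.mem_sup_left hxz
    · obtain ⟨a', ⟨ha', hae⟩, -⟩ := hreg (y • α) (z • α) hβ hz
      rw [hdet z (a' * y) (by rw [mul_smul, hae]), conjBy_mul] at hxz
      obtain ⟨w, hw, hwx⟩ := hxz
      rw [← hwx]
      exact mul_mem (mul_mem (Subgroup.mem_sup_left ha') (Subgroup.mem_sup_right hw))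
        (inv_mem (Subgroup.mem_sup_left ha'))
  · refine sup_le Subgroup.le_normalClosure ?_
    rintro _ ⟨a, ha, rfl⟩
    exact Subgroup.normalClosure_normal.conj_mem a (Subgroup.subset_normalClosure ha) y

end Cfsg.Agent.S5015
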