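import Cfsg.Statements.S5016
import Cfsg.Agent.Lib.Classical.RankOneBasic

set_option autoImplicit false
open Cfsg

namespace Cfsg.Agent.S5016

variable {k : Type*} [Field k]

/-- Upper unitriangular element. -/
def up (t : k) : Matrix.SpecialLinearGroup (Fin 2) k := ⟨!![1, t; 0, 1], by simp⟩

/-- Lower unitriangular element. -/
def lo (t : k) : Matrix.SpecialLinearGroup (Fin 2) k := ⟨!![1, 0; t, 1], by simp⟩

theorem up_coe (t : k) : (up t : Matrix (Fin 2) (Fin 2) k) = !![1, t; 0, 1] := rfl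

theorem lo_coe (t : k) : (lo t : Matrix (Fin 2) (Fin 2) k) = !![1, 0; t, 1] := rfl

theorem up_add (s t : k) : up (s + t) = up s * up t := by
  ext i j; fin_cases i <;> fin_cases j <;> simp [up_coe, Matrix.mul_apply, Fin.sum_univ_two, Matrix.SpecialLinearGroup.coe_mul, add_comm]

theorem lo_add (s t : k) : lo (s + t) = lo s * lo t := by
  ext i j; fin_cases i <;> fin_cases j <;> simp [lo_coe, Matrix.mul_apply, Fin.sum_univ_two, Matrix.SpecialLinearGroup.coe_mul, add_comm]

theorem up_zero : up (0 : k) = 1 := by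
  ext i j; fin_cases i <;> fin_cases j <;> simp [up]

theorem lo_zero : lo (0 : k) = 1 := by
  ext i j; fin_cases i <;> fin_cases j <;> simp [lo]

theorem up_inv (t : k) : (up t)⁻¹ = up (-t) :=
  inv_eq_of_mul_eq_one_right (by rw [← up_add, add_neg_cancel, up_zero])

theorem lo_inv (t : k) : (lo t)⁻¹ = lo (-t) :=
  inv_eq_of_mul_eq_one_right (by rw [← lo_add, add_neg_cancel, lo_zero])

theorem mem_upper {g : Matrix.SpecialLinearGroup (Fin 2) k} : g ∈ upperUnipotentSL2 k ↔ ∃ t, g = up t := by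
  constructor
  · intro hg
    induction hg using Subgroup.closure_induction with
    | mem g hg =>
      refine ⟨(g : Matrix (Fin 2) (Fin 2) k) 0 1, ?_⟩
      obtain ⟨h1, h2, h3⟩ := hg
      ext i j; fin_cases i <;> fin_cases j <;> simp [up, h1, h2, h3]
    | one => exact ⟨0, up_zero.symm⟩
    | mul g h _ _ ihg ihh =>
      obtain ⟨s, rfl⟩ := ihg; obtain ⟨t, rfl⟩ := ihh; exact ⟨_, (up_add s t).symm⟩
    | inv g _ ih => obtain ⟨s, rfl⟩ := ih; exact ⟨_, up_inv s⟩
  · rintro ⟨t, rfl⟩; exact Subgroup.subset_closure ⟨by simp [up], by simp [up], by simp [up]⟩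

theorem mem_lower {g : Matrix.SpecialLinearGroup (Fin 2) k} : g ∈ lowerUnipotentSL2 k ↔ ∃ t, g = lo t := by
  constructor
  · intro hg
    induction hg using Subgroup.closure_induction with
    | mem g hg =>
      refine ⟨(g : Matrix (Fin 2) (Fin 2) k) 1 0, ?_⟩
      obtain ⟨h1, h2, h3⟩ := hg
      ext i j; fin_cases i <;> fin_cases j <;> simp [lo, h1, h2, h3]
    | one => exact ⟨0, lo_zero.symm⟩
    | mul g h _ _ ihg ihh =>
      obtain ⟨s, rfl⟩ := ihg; obtain ⟨t, rfl⟩ := ihh; exact ⟨_, (lo_add s t).symm⟩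
    | inv g _ ih => obtain ⟨s, rfl⟩ := ih; exact ⟨_, lo_inv s⟩
  · rintro ⟨t, rfl⟩; exact Subgroup.subset_closure ⟨by simp [lo], by simp [lo], by simp [lo]⟩

/-- The braid identity. -/
theorem braid (x y s t : k) (h : x * y = 1) (hs : s = -(t * y * y)) :
    up (-y) * lo t * up y = lo (-x) * up s * lo x := by
  subst hs
  have h1 : x * (t * y * y) = t * y := by linear_combination (t * y) * h
  have h2 : x * x * (t * y * y) = t := by linear_combination (t * (x * y + 1)) * h
  ext i j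
  fin_cases i <;> fin_cases j <;> simp [up_coe, lo_coe, Matrix.mul_apply, Fin.sum_univ_two, Matrix.SpecialLinearGroup.coe_mul]
  all_goals grind

theorem braid' (x y s t : k) (h : x * y = 1) (hs : s = -(t * y * y)) :
    lo (-y) * up t * lo y = up (-x) * lo s * up x := by
  subst hs
  have h1 : x * (t * y * y) = t * y := by linear_combination (t * y) * h
  have h2 : x * x * (t * y * y) = t := by linear_combination (t * (x * y + 1)) * h
  ext i j
  fin_cases i <;> fin_cases j <;> simp [up_coe, lo_coe, Matrix.mul_apply, Fin.sum_univ_two, Matrix.SpecialLinearGroup.coe_mul]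
  all_goals grind

theorem cond_lo : RankOneCondition (lowerUnipotentSL2 k) (upperUnipotentSL2 k) := by
  intro a ha ha1
  obtain ⟨x, rfl⟩ := mem_lower.mp ha
  have hx : x ≠ 0 := fun h => ha1 (by rw [h, lo_zero])
  refine ⟨up x⁻¹, mem_upper.mpr ⟨_, rfl⟩, fun h => ?_, ?_⟩
  · exact inv_ne_zero hx (by simpa [up] using congrArg (fun g : Matrix.SpecialLinearGroup (Fin 2) k => (g : Matrix (Fin 2) (Fin 2) k) 0 1) h)
  ext g
  rw [Agent.Classical.RankOne.mem_conjBy, Agent.Classical.RankOne.mem_conjBy, inv_inv, inv_inv]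
  constructor
  · intro hg
    obtain ⟨t, ht⟩ := mem_lower.mp hg
    refine mem_upper.mpr ⟨-(t * x⁻¹ * x⁻¹), ?_⟩
    have h := braid x x⁻¹ _ t (mul_inv_cancel₀ hx) rfl
    rw [← up_inv x⁻¹, ← lo_inv x, ← ht] at h
    simp only [← mul_assoc, inv_mul_cancel, one_mul, inv_mul_cancel_right] at h
    rw [h]; group
  · intro hg
    obtain ⟨s, hs⟩ := mem_upper.mp hg
    refine mem_lower.mpr ⟨-(s * x * x), ?_⟩
    have h := braid x x⁻¹ s (-(s * x * x)) (mul_inv_cancel₀ hx) (by field_simp)
    rw [← up_inv x⁻¹, ← lo_inv x, ← hs] at h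
    simp only [← mul_assoc, inv_mul_cancel, one_mul, inv_mul_cancel_right] at h
    rw [← h]; group

theorem cond_up : RankOneCondition (upperUnipotentSL2 k) (lowerUnipotentSL2 k) := by
  intro a ha ha1
  obtain ⟨x, rfl⟩ := mem_upper.mp ha
  have hx : x ≠ 0 := fun h => ha1 (by rw [h, up_zero])
  refine ⟨lo x⁻¹, mem_lower.mpr ⟨_, rfl⟩, fun h => ?_, ?_⟩
  · exact inv_ne_zero hx (by simpa [lo] using congrArg (fun g : Matrix.SpecialLinearGroup (Fin 2) k => (g : Matrix (Fin 2) (Fin 2) k) 1 0) h)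
  ext g
  rw [Agent.Classical.RankOne.mem_conjBy, Agent.Classical.RankOne.mem_conjBy, inv_inv, inv_inv]
  constructor
  · intro hg
    obtain ⟨t, ht⟩ := mem_upper.mp hg
    refine mem_lower.mpr ⟨-(t * x⁻¹ * x⁻¹), ?_⟩
    have h := braid' x x⁻¹ _ t (mul_inv_cancel₀ hx) rfl
    rw [← lo_inv x⁻¹, ← up_inv x, ← ht] at h
    simp only [← mul_assoc, inv_mul_cancel, one_mul, inv_mul_cancel_right] at h
    rw [h]; group
  · intro hg
    obtain ⟨s, hs⟩ := mem_lower.mp hg
    refine mem_upper.mpr ⟨-(s * x * x), ?_⟩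
    have h := braid' x x⁻¹ s (-(s * x * x)) (mul_inv_cancel₀ hx) (by field_simp)
    rw [← lo_inv x⁻¹, ← up_inv x, ← hs] at h
    simp only [← mul_assoc, inv_mul_cancel, one_mul, inv_mul_cancel_right] at h
    rw [← h]; group

/-- For any field k, the special linear group SL₂(k) is a special rank one group with abelian unipotent subgroups, the unipotent subgroups being the group of lower unitriangular matrices and the group of upper unitriangular matrices. -/
theorem result (k : Type*) [Field k] :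
    Cfsg.IsRankOneGroup (Matrix.SpecialLinearGroup (Fin 2) k) (Cfsg.lowerUnipotentSL2 k) (Cfsg.upperUnipotentSL2 k) ∧
    Cfsg.IsSpecialRankOnePair (Cfsg.lowerUnipotentSL2 k) (Cfsg.upperUnipotentSL2 k) ∧
    Cfsg.HasAbelianUnipotents (Cfsg.lowerUnipotentSL2 k) (Cfsg.upperUnipotentSL2 k) := by
  classical
  have hcA : IsMulCommutative (lowerUnipotentSL2 k) := ⟨⟨fun ⟨a, ha⟩ ⟨b, hb⟩ => by
    obtain ⟨s, rfl⟩ := mem_lower.mp ha; obtain ⟨t, rfl⟩ := mem_lower.mp hb
    apply Subtype.ext; change lo s * lo t = lo t * lo s; rw [← lo_add, ← lo_add, add_comm]⟩⟩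
  have hcB : IsMulCommutative (upperUnipotentSL2 k) := ⟨⟨fun ⟨a, ha⟩ ⟨b, hb⟩ => by
    obtain ⟨s, rfl⟩ := mem_upper.mp ha; obtain ⟨t, rfl⟩ := mem_upper.mp hb
    apply Subtype.ext; change up s * up t = up t * up s; rw [← up_add, ← up_add, add_comm]⟩⟩
  have hnil : ∀ H : Subgroup (Matrix.SpecialLinearGroup (Fin 2) k), IsMulCommutative H → Group.IsNilpotent H := fun H hH => by
    letI : CommGroup H := { (inferInstance : Group H) with mul_comm := hH.is_comm.comm }
    infer_instance
  have hne : lowerUnipotentSL2 k ≠ upperUnipotentSL2 k := fun h => by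
    obtain ⟨t, ht⟩ := mem_upper.mp (h ▸ mem_lower.mpr ⟨1, rfl⟩ : lo (1 : k) ∈ upperUnipotentSL2 k)
    simpa [up, lo] using congrArg (fun g : Matrix.SpecialLinearGroup (Fin 2) k => (g : Matrix (Fin 2) (Fin 2) k) 1 0) ht
  have hpair : IsRankOnePair (lowerUnipotentSL2 k) (upperUnipotentSL2 k) :=
    ⟨hne, hnil _ hcA, hnil _ hcB, cond_lo, cond_up⟩
  refine ⟨⟨?_, hpair⟩, ⟨hpair, ?_⟩, hcA, hcB⟩
  · rw [eq_top_iff]
    intro g _
    have key : ∀ g : Matrix.SpecialLinearGroup (Fin 2) k, (g : Matrix (Fin 2) (Fin 2) k) 1 0 ≠ 0 →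
        g ∈ lowerUnipotentSL2 k ⊔ upperUnipotentSL2 k := by
      intro g hc
      set a := (g : Matrix (Fin 2) (Fin 2) k) 0 0
      set b := (g : Matrix (Fin 2) (Fin 2) k) 0 1
      set c := (g : Matrix (Fin 2) (Fin 2) k) 1 0
      set d := (g : Matrix (Fin 2) (Fin 2) k) 1 1
      have hdet : a * d - b * c = 1 := by
        have := g.det_coe
        rwa [Matrix.det_fin_two] at this
      have e : g = up ((a - 1) / c) * lo c * up ((d - 1) / c) := by
        ext i j
        fin_cases i <;> fin_cases j <;> simp [up_coe, lo_coe, Matrix.mul_apply, Fin.sum_univ_two, Matrix.SpecialLinearGroup.coe_mul]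
        all_goals (try field_simp)
        all_goals grind
      rw [e]
      exact mul_mem (mul_mem (Subgroup.mem_sup_right (mem_upper.mpr ⟨_, rfl⟩))
        (Subgroup.mem_sup_left (mem_lower.mpr ⟨_, rfl⟩))) (Subgroup.mem_sup_right (mem_upper.mpr ⟨_, rfl⟩))
    by_cases hc : (g : Matrix (Fin 2) (Fin 2) k) 1 0 = 0
    · have ha : (g : Matrix (Fin 2) (Fin 2) k) 0 0 ≠ 0 := fun h0 => by
        have := g.det_coe
        rw [Matrix.det_fin_two, h0, hc] at this
        simp at this
      have h1 := key (lo 1 * g) (by simp [lo_coe, Matrix.mul_apply, Fin.sum_univ_two, Matrix.SpecialLinearGroup.coe_mul, hc, ha])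
      have h2 := mul_mem (inv_mem (Subgroup.mem_sup_left (T := upperUnipotentSL2 k) (mem_lower.mpr ⟨(1 : k), rfl⟩))) h1
      rwa [inv_mul_cancel_left] at h2
    · exact key g hc
  · intro a ha ha1 b hb hb1 hab
    obtain ⟨x, rfl⟩ := mem_lower.mp ha
    obtain ⟨y, rfl⟩ := mem_upper.mp hb
    have hx : x ≠ 0 := fun h => ha1 (by rw [h, lo_zero])
    have hmem : lo x * ((up y)⁻¹ * lo (-1) * up y) * (lo x)⁻¹ ∈ upperUnipotentSL2 k := by
      have h1 : (up y)⁻¹ * lo (-1) * up y ∈ conjBy (lowerUnipotentSL2 k) (up y)⁻¹ := by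
        rw [Agent.Classical.RankOne.mem_conjBy, inv_inv]
        refine mem_lower.mpr ⟨-1, ?_⟩
        group
      rw [hab, Agent.Classical.RankOne.mem_conjBy, inv_inv] at h1
      exact h1
    obtain ⟨s, hs⟩ := mem_upper.mp hmem
    rw [up_inv, lo_inv] at hs
    have e00 := congrArg (fun g : Matrix.SpecialLinearGroup (Fin 2) k => (g : Matrix (Fin 2) (Fin 2) k) 0 0) hs
    simp [up_coe, lo_coe, Matrix.mul_apply, Fin.sum_univ_two, Matrix.SpecialLinearGroup.coe_mul] at e00
    have e10 := congrArg (fun g : Matrix.SpecialLinearGroup (Fin 2) k => (g : Matrix (Fin 2) (Fin 2) k) 1 0) hs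
    simp [up_coe, lo_coe, Matrix.mul_apply, Fin.sum_univ_two, Matrix.SpecialLinearGroup.coe_mul] at e10
    have hxy : x * y = 1 := by
      have hy : y ≠ 0 := fun h => hb1 (by rw [h, up_zero])
      grind
    rw [up_inv, lo_inv]
    exact braid x y (-y) x hxy (by linear_combination y * hxy)

end Cfsg.Agent.S5016
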