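import Cfsg.Statements.S5019
import Cfsg.Agent.Lib.Classical.RankOneGroup
import Cfsg.Agent.Lib.Classical.RankOneAction

set_option autoImplicit false
open Cfsg

namespace Cfsg.Agent.S5019

open Cfsg.Agent.Classical.RankOne

variable {X : Type*} [Group X] {N : Type*} [AddCommGroup N] [DistribMulAction X N]

/-- `n` is fixed by the subgroup. -/
def Fx (A : Subgroup X) (n : N) : Prop := ∀ a ∈ A, a • n = n

/-- `A` acts quadratically. -/
def Quad (A : Subgroup X) (N : Type*) [AddCommGroup N] [DistribMulAction X N] : Prop :=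
  ∀ a ∈ A, ∀ n : N, Fx A (a • n - n)

theorem inv_smul_quad {A : Subgroup X} (hq : Quad A N) {a : X} (ha : a ∈ A) (n : N) :
    a⁻¹ • n = n - (a • n - n) := by
  rw [inv_smul_eq_iff, smul_sub, hq a ha n a ha]
  abel

theorem Fx.add {A : Subgroup X} {m n : N} (hm : Fx A m) (hn : Fx A n) : Fx A (m + n) :=
  fun a ha => by rw [smul_add, hm a ha, hn a ha]

theorem Fx.sub {A : Subgroup X} {m n : N} (hm : Fx A m) (hn : Fx A n) : Fx A (m - n) :=
  fun a ha => by rw [smul_sub, hm a ha, hn a ha]

theorem Fx.of_conj {A : Subgroup X} (hq : Quad A N) (g : X) : Quad (Cfsg.conjBy A g) N := by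
  rintro _ ⟨a, ha, rfl⟩ n _ ⟨a', ha', rfl⟩
  show (g * a' * g⁻¹) • ((g * a * g⁻¹) • n - n) = (g * a * g⁻¹) • n - n
  have e : (g * a * g⁻¹) • n - n = g • (a • (g⁻¹ • n) - g⁻¹ • n) := by
    rw [smul_sub, smul_inv_smul, mul_smul, mul_smul]
  rw [e, mul_smul, mul_smul, inv_smul_smul, hq a ha _ a' ha']

/-- The image of `a - 1` is fixed by `a b - 1` modulo the fixed points of both subgroups. -/
theorem key {A B : Subgroup X} (hA : Quad A N) (hB : Quad B N) {a b : X} (ha : a ∈ A) (hb : b ∈ B)
    (he : Cfsg.conjBy A b⁻¹ = Cfsg.conjBy B a⁻¹) (n : N) :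
    let w := (a • n - n) - (a • (b • (a • n - n) - (a • n - n)) - (b • (a • n - n) - (a • n - n)))
    Fx A w ∧ Fx B w := by
  intro w
  set p := a • n - n with hp
  obtain ⟨b', hb', hy⟩ : b⁻¹ * a * b⁻¹⁻¹ ∈ Cfsg.conjBy B a⁻¹ := he ▸ ⟨a, ha, rfl⟩
  change a⁻¹ * b' * a⁻¹⁻¹ = b⁻¹ * a * b⁻¹⁻¹ at hy
  rw [inv_inv, inv_inv] at hy
  set m := a • (b⁻¹ • n) with hm
  set q := b' • m - m with hqd
  have hqB : Fx B q := hB b' hb' m
  have e1 : b⁻¹ • p = a⁻¹ • q := by
    calc b⁻¹ • p = (b⁻¹ * a * b) • (b⁻¹ • n) - b⁻¹ • n := by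
          rw [mul_smul, mul_smul, smul_inv_smul, hp, smul_sub]
      _ = a⁻¹ • q := by rw [← hy, mul_smul, mul_smul, hqd, smul_sub, hm, inv_smul_smul]
  rw [inv_smul_quad hB hb, inv_smul_quad hA ha] at e1
  have hz : p + (a • q - q) = q + (b • p - p) := by
    calc p + (a • q - q) = (p - (b • p - p)) + (b • p - p) + (a • q - q) := by abel
      _ = _ := by rw [e1]; abel
  set z := p + (a • q - q) with hzd
  have hzA : Fx A z := (hA a ha n).add (hA a ha q)
  have hzB : Fx B z := hz ▸ hqB.add (hB b hb p)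
  have hw : w = z := by
    have e2 : b • p - p = z - q := by rw [hz]; abel
    show p - (a • (b • p - p) - (b • p - p)) = z
    rw [e2, smul_sub, hzA a ha, hzd]
    abel
  rw [hw]
  exact ⟨hzA, hzB⟩
/-- Let X be a rank one group with abelian unipotent subgroups A and B, and suppose X acts on an abelian group N (written additively) in such a way that A acts quadratically, meaning a' • (a • n − n) = a • n − n for all a, a' in A and n in N, while X as a whole does not: y • (x • n − n) ≠ x • n − n for some x, y in X and n in N. Then X is a special rank one group. -/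
theorem result {X : Type*} [Group X] {A B : Subgroup X} (h : Cfsg.IsRankOneGroup X A B)
    (hab : Cfsg.HasAbelianUnipotents A B) {N : Type*} [AddCommGroup N] [DistribMulAction X N]
    (hq : ∀ a ∈ A, ∀ a' ∈ A, ∀ n : N, a' • (a • n - n) = a • n - n)
    (hX : ∃ x y : X, ∃ n : N, y • (x • n - n) ≠ x • n - n) : Cfsg.IsSpecialRankOnePair A B := by
  refine ⟨h.2, fun a ha ha1 b hb hb1 he => ?_⟩
  have hA : Quad A N := fun a ha n a' ha' => hq a ha a' ha' n
  have hB : Quad B N := by
    obtain ⟨g, -, hg⟩ := right_mem h.2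
    exact hg ▸ Fx.of_conj hA g
  let F : Subgroup X → N → Prop := Fx
  have hall : ∀ n : N, Fx A n → Fx B n → ∀ x : X, x • n = n := by
    intro n h1 h2 x
    let S : Subgroup X :=
      { carrier := {x | x • n = n}
        one_mem' := one_smul _ _
        mul_mem' := fun {x y} hx hy => by show (x * y) • n = n; rw [mul_smul, hy, hx]
        inv_mem' := fun {x} hx => inv_smul_eq_iff.2 hx.symm }
    have hle : A ⊔ B ≤ S := sup_le h1 h2
    exact hle (h.1 ▸ Subgroup.mem_top x)
  let Z : AddSubgroup N :=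
    { carrier := {n | ∀ x : X, x • n = n}
      zero_mem' := fun x => smul_zero x
      add_mem' := fun {m n} hm hn x => by rw [smul_add, hm x, hn x]
      neg_mem' := fun {n} hn x => by rw [smul_neg, hn x] }
  let K : Subgroup X :=
    { carrier := {x | ∀ n : N, x • n - n ∈ Z}
      one_mem' := fun n => by rw [one_smul, sub_self]; exact Z.zero_mem
      mul_mem' := fun {x y} hx hy n => by
        have := Z.add_mem (hx (y • n)) (hy n)
        rwa [← mul_smul, sub_add_sub_cancel] at this
      inv_mem' := fun {x} hx n => by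
        have := Z.neg_mem (hx (x⁻¹ • n))
        rwa [smul_inv_smul, neg_sub] at this }
  have hKn : K.Normal := ⟨fun x hx g n => by
    have h1 := hx (g⁻¹ • n)
    have h2 : (g * x * g⁻¹) • n - n = g • (x • (g⁻¹ • n) - g⁻¹ • n) := by
      rw [smul_sub, smul_inv_smul, mul_smul, mul_smul]
    rw [h2, h1 g]
    exact h1⟩
  have hKc : K ≤ Subgroup.center X := by
    rcases normal_or_central h hKn with htop | hc
    · exfalso
      have hX' := hX
      obtain ⟨x, y, n, hne⟩ := hX'
      have h' : Cfsg.IsRankOneGroup X B A := ⟨by rw [sup_comm]; exact h.1, Cfsg.RankOnePair_symm h.2⟩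
      have hfix : ∀ P : Subgroup X, Quad P N → K ⊔ P = ⊤ → Fx P (x • n - n) := by
        intro P hP hKP
        obtain ⟨k, hk, p, hp, rfl⟩ := Subgroup.mem_sup_of_normal_left.1 (hKP ▸ Subgroup.mem_top x)
        have e : (k * p) • n - n = (k • (p • n) - p • n) + (p • n - n) := by rw [mul_smul]; abel
        rw [e]
        exact Fx.add (fun z _ => hk (p • n) z) (hP p hp n)
      rcases normal_or_central h' hKn with htop' | hc'
      · exact hne (hall _ (hfix A hA htop) (hfix B hB htop') y)
      · have hA1 : ∀ a ∈ A, a = 1 := by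
          intro a ha
          by_contra ha1
          obtain ⟨b, hb, hn⟩ := not_centralise h.2 ha ha1
          obtain ⟨k, hk, a', ha', hb'⟩ := Subgroup.mem_sup_of_normal_left.1 (htop ▸ Subgroup.mem_top b)
          refine hn ?_
          have e1 := Subgroup.mem_center_iff.1 (hc' hk) a
          have e2 : a * a' = a' * a := commute_of_bracket_bot (commutative_bracket hab.1) ha ha'
          rw [← hb', ← mul_assoc, e1, mul_assoc, e2, mul_assoc]
        obtain ⟨a, ha, ha1⟩ := left_ne_bot h.2
        exact ha1 (hA1 a ha)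
    · exact hc
  -- the two elements agree modulo the fixed points
  set u := b⁻¹ * a * b with hu
  set v := a⁻¹ * b⁻¹ * a with hv
  have huv : u * v⁻¹ ∈ K := by
    intro n
    set n' := v⁻¹ • n with hn'
    have hdiff : u • n' - v • n' ∈ Z := by
      obtain ⟨h1, h2⟩ := key hA hB ha hb he n'
      obtain ⟨h3, h4⟩ := key hB hA hb ha he.symm n'
      have hsum := Z.add_mem (hall _ h1 h2) (hall _ h4 h3)
      convert hsum using 1
      have hβ : ∀ k : N, b • (b • k - k) = b • k - k := fun k => hB b hb k b hb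
      have hα : ∀ k : N, a • (a • k - k) = a • k - k := fun k => hA a ha k a ha
      have hβ' : ∀ k : N, b • b • k = b • k - k + b • k := fun k => by
        have := hβ k; rw [smul_sub, sub_eq_iff_eq_add] at this; exact this
      have hα' : ∀ k : N, a • a • k = a • k - k + a • k := fun k => by
        have := hα k; rw [smul_sub, sub_eq_iff_eq_add] at this; exact this
      simp only [hu, hv, mul_smul, inv_smul_quad hA ha, inv_smul_quad hB hb, smul_sub, smul_add, hα', hβ']
      abel
    rwa [mul_smul, show n = v • n' from (smul_inv_smul v n).symm, inv_smul_smul]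
  have hmem : u * v⁻¹ ∈ Cfsg.conjBy A b⁻¹ := by
    refine mul_mem ⟨a, ha, ?_⟩ (inv_mem (he ▸ ⟨b⁻¹, inv_mem hb, ?_⟩))
    · show b⁻¹ * a * b⁻¹⁻¹ = u
      rw [inv_inv]
    · show a⁻¹ * b⁻¹ * a⁻¹⁻¹ = v
      rw [inv_inv]
  by_contra hne
  have h1 : u * v⁻¹ ≠ 1 := fun h0 => hne (mul_inv_eq_one.1 h0)
  obtain ⟨c, -, hn⟩ := not_centralise (conj_pair h.2 b⁻¹) hmem h1
  exact hn ((Subgroup.mem_center_iff.1 (hKc huv)) c).symm

end Cfsg.Agent.S5019
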