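import Cfsg.Statements.S5022
import Cfsg.Agent.Lib.Classical.SpecialRankOne
import Cfsg.Agent.Lib.Classical.RankOneGroup
import Cfsg.Agent.Lib.Classical.SL2Relations

set_option autoImplicit false
open Cfsg

namespace Cfsg.Agent.S5022

open Cfsg.Agent.Classical Cfsg.Agent.Classical.RankOne

theorem pow_val_add {G : Type*} [Monoid G] {p : ℕ} [Fact p.Prime] {a : G} (ha : a ^ p = 1) (x y : ZMod p) :
    a ^ (x + y).val = a ^ x.val * a ^ y.val := by
  rw [← pow_add, ZMod.val_add, ← pow_eq_pow_mod _ ha]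

theorem pow_val_mul {G : Type*} [Monoid G] {p : ℕ} [Fact p.Prime] {a : G} (ha : a ^ p = 1) (x y : ZMod p) :
    (a ^ x.val) ^ y.val = a ^ (x * y).val := by
  rw [← pow_mul, ZMod.val_mul, ← pow_eq_pow_mod _ ha]

theorem pow_val_neg {G : Type*} [Group G] {p : ℕ} [Fact p.Prime] {a : G} (ha : a ^ p = 1) (x : ZMod p) :
    a ^ (-x).val = (a ^ x.val)⁻¹ := by
  refine eq_inv_of_mul_eq_one_left ?_
  rw [← pow_val_add ha, neg_add_cancel, ZMod.val_zero, pow_zero]

theorem pow_val_one {G : Type*} [Monoid G] {p : ℕ} [hp : Fact p.Prime] (a : G) : a ^ (1 : ZMod p).val = a := by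
  haveI : Fact (1 < p) := ⟨hp.out.one_lt⟩
  rw [ZMod.val_one, pow_one]

/-- The pair belonging to a power. -/
theorem rel_pow {X : Type*} [Group X] {A B : Subgroup X} (hsp : Sp A B) {p : ℕ} [hp : Fact p.Prime]
    {a b : X} (r : Rel A B a b) (ha : a ^ p = 1) {s : ZMod p} (hs : s ≠ 0) :
    Rel A B (a ^ s.val) (b ^ (s⁻¹).val) := by
  have hb : b ^ p = 1 := (hsp.pow_eq_one_iff r p).1 ha
  have hne : a ^ s.val ≠ 1 := fun e => r.ne (by
    have := pow_val_mul ha s s⁻¹
    rw [e, one_pow, mul_inv_cancel₀ hs, pow_val_one] at this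
    exact this.symm)
  obtain ⟨v, rv⟩ := hsp.exists_right (pow_mem r.memA _) hne
  have hk : 1 ≤ s.val := Nat.one_le_iff_ne_zero.2 fun e => hs ((ZMod.val_eq_zero s).1 e)
  have hv : v ^ s.val = b := Sp.pow_root _ hk hsp r hne rv
  have hvp : v ^ p = 1 := (hsp.pow_eq_one_iff rv p).1 (by rw [← pow_mul, mul_comm, pow_mul, ha, one_pow])
  have : b ^ (s⁻¹).val = v := by rw [← hv, pow_val_mul hvp, mul_inv_cancel₀ hs, pow_val_one]
  rwa [this]
/-- Let X be a special rank one group with abelian unipotent subgroups A and B, where A is an elementary abelian p-group for the prime p. Then for every non-identity a in A and the non-identity b in B with b⁻¹ A b = a⁻¹ B a, the subgroup generated by a and b is isomorphic to SL₂(p) or to PSL₂(p). -/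
theorem result {X : Type*} [Group X] {A B : Subgroup X} (h : Cfsg.IsRankOneGroup X A B)
    (hs : Cfsg.IsSpecialRankOnePair A B) (hab : Cfsg.HasAbelianUnipotents A B)
    {p : ℕ} [Fact p.Prime] (hA : Cfsg.IsElementaryAbelian p A)
    {a b : X} (ha : a ∈ A) (ha1 : a ≠ 1) (hb : b ∈ B) (hb1 : b ≠ 1) (hab' : Cfsg.conjBy A b⁻¹ = Cfsg.conjBy B a⁻¹) :
    Nonempty (↥(Subgroup.closure ({a, b} : Set X)) ≃* Matrix.SpecialLinearGroup (Fin 2) (ZMod p)) ∨
    Nonempty (↥(Subgroup.closure ({a, b} : Set X)) ≃* Matrix.ProjectiveSpecialLinearGroup (Fin 2) (ZMod p)) := by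
  have hsp : Sp A B := ⟨hs.1, hab.1, hab.2, hs.2⟩
  have r : Rel A B a b := ⟨ha, hb, ha1, hb1, hab'⟩
  have hap : a ^ p = 1 := hA.2 a ha
  have hbp : b ^ p = 1 := (hsp.pow_eq_one_iff r p).1 hap
  set Y : Subgroup X := Subgroup.closure ({a, b} : Set X) with hY
  have haY : a ∈ Y := Subgroup.subset_closure (Or.inl rfl)
  have hbY : b ∈ Y := Subgroup.subset_closure (Or.inr rfl)
  let U : ZMod p → Y := fun x => ⟨a, haY⟩ ^ x.val
  let L : ZMod p → Y := fun x => ⟨b, hbY⟩ ^ x.val
  have haY' : (⟨a, haY⟩ : Y) ^ p = 1 := Subtype.ext hap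
  have hbY' : (⟨b, hbY⟩ : Y) ^ p = 1 := Subtype.ext hbp
  have hrel : SL2Rel.Rels U L := by
    refine ⟨fun x y => pow_val_add haY' x y, fun x y => pow_val_add hbY' x y, fun s hs x => ?_, ?_⟩
    · refine Subtype.ext ?_
      show (a ^ s.val * b ^ (-s⁻¹).val * a ^ s.val) * a ^ x.val *
        (a ^ s.val * b ^ (-s⁻¹).val * a ^ s.val)⁻¹ = b ^ (-x / s ^ 2).val
      have hrs := rel_pow hsp r hap hs
      have e : a ^ x.val = (a ^ s.val) ^ (s⁻¹ * x).val := by
        rw [pow_val_mul hap, mul_inv_cancel_left₀ hs]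
      rw [e, pow_val_neg hbp]
      show mu (a ^ s.val) (b ^ (s⁻¹).val) * _ * (mu (a ^ s.val) (b ^ (s⁻¹).val))⁻¹ = _
      rw [hsp.pow_conj hrs, pow_val_mul hbp, ← pow_val_neg hbp]
      congr 2
      field_simp
    · apply Subgroup.map_injective Y.subtype_injective
      rw [MonoidHom.map_closure, ← MonoidHom.range_eq_map, Subgroup.range_subtype]
      refine le_antisymm ((Subgroup.closure_le _).2 ?_) (Subgroup.closure_mono ?_)
      · rintro _ ⟨g, -, rfl⟩; exact g.2
      · rintro g (rfl | rfl)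
        · exact ⟨U 1, Or.inl ⟨1, rfl⟩, pow_val_one _⟩
        · exact ⟨L 1, Or.inr ⟨1, rfl⟩, pow_val_one _⟩
  obtain ⟨φ, hφU, hφL, hsurj⟩ := SL2Rel.exists_hom hrel
  have hker : φ.ker ≤ Subgroup.center _ := by
    have hR : Cfsg.IsRankOneGroup (Matrix.SpecialLinearGroup (Fin 2) (ZMod p))
        (Cfsg.upperUnipotentSL2 (ZMod p)) (Cfsg.lowerUnipotentSL2 (ZMod p)) :=
      ⟨TransRoot.unipotents_sup, TransRoot.sl2_pair⟩
    rcases normal_or_central hR (φ.normal_ker) with htop | hc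
    · exfalso
      have hle : (⊤ : Subgroup Y) ≤ Subgroup.zpowers ⟨a, haY⟩ := by
        rw [← MonoidHom.range_eq_top.2 hsurj, MonoidHom.range_eq_map, ← htop, Subgroup.map_sup, sup_le_iff]
        refine ⟨?_, ?_⟩
        · rw [(Subgroup.map_eq_bot_iff _).2 le_rfl]; exact bot_le
        · rintro _ ⟨g, hg, rfl⟩
          obtain ⟨c, rfl⟩ := TransRoot.mem_upperUnipotentSL2.1 hg
          rw [show φ (Matrix.SpecialLinearGroup.transvection _ c) = U c from hφU c]
          exact pow_mem (Subgroup.mem_zpowers _) _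
      obtain ⟨n, hn⟩ := hle (Subgroup.mem_top (⟨b, hbY⟩ : Y))
      have hbA : b ∈ A := by
        have e : a ^ n = b := congrArg Subtype.val hn
        rw [← e]; exact zpow_mem ha n
      exact hb1 (fix_right hsp.pair hbA (conjBy_of_mem hb))
    · exact hc
  have hiso := QuotientGroup.quotientKerEquivOfSurjective φ hsurj
  by_cases hbot : φ.ker = ⊥
  · exact Or.inl ⟨(MulEquiv.ofBijective φ ⟨(MonoidHom.ker_eq_bot_iff φ).1 hbot, hsurj⟩).symm⟩
  · refine Or.inr ⟨hiso.symm.trans (QuotientGroup.quotientMulEquivOfEq (le_antisymm hker ?_))⟩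
    obtain ⟨z, hz, hz1⟩ := (Subgroup.bot_or_exists_ne_one _).resolve_left hbot
    intro w hw
    have hsc : ∀ g ∈ Subgroup.center (Matrix.SpecialLinearGroup (Fin 2) (ZMod p)),
        g = 1 ∨ (g : Matrix (Fin 2) (Fin 2) (ZMod p)) = Matrix.scalar (Fin 2) (-1) := by
      intro g hg
      obtain ⟨c, hc, hcg⟩ := Matrix.SpecialLinearGroup.mem_center_iff.1 hg
      rw [Fintype.card_fin, sq_eq_one_iff] at hc
      rcases hc with rfl | rfl
      · exact Or.inl (Subtype.ext (hcg.symm.trans (map_one _)))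
      · exact Or.inr hcg.symm
    rcases hsc w hw with rfl | e
    · exact one_mem _
    · have e' := (hsc z (hker hz)).resolve_left hz1
      rwa [show w = z from Subtype.ext (e.trans e'.symm)]

end Cfsg.Agent.S5022
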