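import Cfsg.Statements.S5020
import Cfsg.Agent.S5022
import Cfsg.Agent.Lib.Local.Basics

set_option autoImplicit false
open Cfsg

namespace Cfsg.Agent.S5020

open Cfsg.Agent.Classical.RankOne
open scoped commutatorElement

variable {X : Type*} [Group X] {A B : Subgroup X}

theorem conj_diag (h : Cfsg.IsRankOneGroup X A B) {g : X} (hA : Cfsg.conjBy A g = B)
    (hB : Cfsg.conjBy B g = A) :
    Cfsg.conjBy (Cfsg.rankOneDiagonal A B) g = Cfsg.rankOneDiagonal A B := by
  ext z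
  rw [mem_conjBy]
  simp only [Cfsg.rankOneDiagonal, Subgroup.mem_inf, h.1, Subgroup.mem_top, true_and,
    mem_normalizer_iff_conjBy]
  have key : ∀ P Q : Subgroup X, Cfsg.conjBy P g = Q →
      (Cfsg.conjBy P (g⁻¹ * z * g) = P ↔ Cfsg.conjBy Q z = Q) := by
    intro P Q hPQ
    rw [conjBy_mul, conjBy_mul, hPQ]
    constructor
    · intro e
      have := congrArg (Cfsg.conjBy · g) e
      rwa [conjBy_cancel', hPQ] at this
    · intro e
      rw [e, ← hPQ, conjBy_cancel]
  rw [key A B hA, key B A hB, and_comm]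

/-- The relation of an element with its partner, modulo `[B, H]`. -/
theorem mod_diag (h : Cfsg.IsRankOneGroup X A B) (hsp : Sp A B) {a b u y : X} (r : Rel A B a b)
    (ru : Rel A B u y) : mu a b * u * (mu a b)⁻¹ * y ∈ ⁅B, Cfsg.rankOneDiagonal A B⁆ := by
  set d := mu a b * (mu u y)⁻¹ with hd
  have hdH : d ∈ Cfsg.rankOneDiagonal A B := by
    simp only [Cfsg.rankOneDiagonal, Subgroup.mem_inf, h.1, Subgroup.mem_top, true_and,
      mem_normalizer_iff_conjBy]
    constructor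
    · rw [hd, conjBy_mul,
        show Cfsg.conjBy A (mu u y)⁻¹ = B by
          conv_lhs => rw [← hsp.mu_conj_B ru]
          rw [conjBy_cancel],
        hsp.mu_conj_B r]
    · rw [hd, conjBy_mul,
        show Cfsg.conjBy B (mu u y)⁻¹ = A by
          conv_lhs => rw [← mu_conj_A ru]
          rw [conjBy_cancel],
        mu_conj_A r]
  have e : mu a b * u * (mu a b)⁻¹ = d * y⁻¹ * d⁻¹ := by
    rw [← hsp.mu_conj_self ru, hd]; group
  rw [e, show d * y⁻¹ * d⁻¹ * y = ⁅d, y⁻¹⁆ by rw [commutatorElement_def, inv_inv],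
    Subgroup.commutator_comm]
  exact Subgroup.commutator_mem_commutator hdH (inv_mem ru.memB)

/-- The identity. -/
theorem sq_mul_mem (h : Cfsg.IsRankOneGroup X A B) (hsp : Sp A B) {a x : X} (ha : a ∈ A) (hx : x ∈ A)
    (ha1 : a ≠ 1) (hx1 : x ≠ 1) (hax : a * x ≠ 1) : a * x * x ∈ ⁅A, Cfsg.rankOneDiagonal A B⁆ := by
  obtain ⟨b, r⟩ := hsp.exists_right ha ha1
  obtain ⟨v, rv⟩ := hsp.exists_right (mul_mem ha hx) hax
  set μ := mu a b with hμ
  have hμA : Cfsg.conjBy A μ = B := mu_conj_A r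
  have hμB : Cfsg.conjBy B μ = A := hsp.mu_conj_B r
  set w := μ * x * μ⁻¹ with hw
  have hwB : w ∈ B := hμA ▸ ⟨x, hx, rfl⟩
  have hw1 : w ≠ 1 := fun e => hx1 (by rwa [hw, mul_inv_eq_one, mul_eq_left] at e)
  obtain ⟨u, ru⟩ := hsp.exists_left hwB hw1
  have conj_rel : ∀ {p q : X}, Rel A B p q → Cfsg.conjBy B p = Cfsg.conjBy A q := fun {p q} s => by
    have := (hsp.rel_inv s).eq
    rwa [inv_inv, inv_inv, eq_comm] at this
  have e1 : Cfsg.conjBy B (a⁻¹ * u) = Cfsg.conjBy A (b⁻¹ * v) := by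
    have h1 : Cfsg.conjBy B (μ * x) = Cfsg.conjBy A w := by
      rw [show μ * x = w * μ by rw [hw]; group, conjBy_mul, hμB]
    have h2 : Cfsg.conjBy B (μ * x) = Cfsg.conjBy A (a * b⁻¹ * v) := by
      rw [show μ * x = a * b⁻¹ * (a * x) by rw [hμ, mu]; group, conjBy_mul, conj_rel rv, ← conjBy_mul]
    rw [conjBy_mul, conj_rel ru, ← h1, h2, ← conjBy_mul]
    congr 1; group
  have hne' : b⁻¹ * v ≠ 1 := by
    intro e
    rw [e, conjBy_one] at e1
    have := congrArg (Cfsg.conjBy · (a⁻¹ * u)⁻¹) e1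
    rw [conjBy_cancel, conjBy_of_mem (inv_mem (mul_mem (inv_mem ha) ru.memA))] at this
    exact hsp.pair.ne this.symm
  have hne : a⁻¹ * u ≠ 1 := by
    intro e
    rw [e, conjBy_one] at e1
    have := congrArg (Cfsg.conjBy · (b⁻¹ * v)⁻¹) e1
    rw [conjBy_cancel, conjBy_of_mem (inv_mem (mul_mem (inv_mem r.memB) rv.memB))] at this
    exact hsp.pair.ne this.symm
  have r3 : Rel A B (a⁻¹ * u) (b⁻¹ * v) := by
    have e2 : Cfsg.conjBy A (b⁻¹ * v) = Cfsg.conjBy B (a⁻¹ * u) := e1.symm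
    have r' : Rel A B (a⁻¹ * u)⁻¹ (b⁻¹ * v)⁻¹ :=
      ⟨inv_mem (mul_mem (inv_mem ha) ru.memA), inv_mem (mul_mem (inv_mem r.memB) rv.memB),
        inv_ne_one.2 hne, inv_ne_one.2 hne', by rw [inv_inv, inv_inv]; exact e2⟩
    simpa using hsp.rel_inv r'
  have i1 := mod_diag h hsp r rv
  have i2 := mod_diag h hsp r ru
  have i3 := mod_diag h hsp r r3
  set B₀ := ⁅B, Cfsg.rankOneDiagonal A B⁆
  have hφ : ∀ p q : X, μ * (p * q) * μ⁻¹ = (μ * p * μ⁻¹) * (μ * q * μ⁻¹) := fun p q => by group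
  have hφa : μ * a * μ⁻¹ = b⁻¹ := hsp.mu_conj_self r
  have hφai : μ * a⁻¹ * μ⁻¹ = b := by
    rw [show μ * a⁻¹ * μ⁻¹ = (μ * a * μ⁻¹)⁻¹ by group, hφa, inv_inv]
  rw [hφ, hφa, ← hw] at i1
  rw [hφ, hφai] at i3
  set z := μ * u * μ⁻¹
  have hzB : z ∈ B := hμA ▸ ⟨u, ru.memA, rfl⟩
  have cB : ∀ p q : X, p ∈ B → q ∈ B → Commute p q := fun p q hp hq => comm_A hsp.symm hp hq
  have i3' : z * v ∈ B₀ := by
    rw [show z * v = b * z * (b⁻¹ * v) by
      rw [(cB b z r.memB hzB).eq]; group]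
    exact i3
  have i4 : v * w⁻¹ ∈ B₀ := by
    have : (z * w)⁻¹ * (z * v) ∈ B₀ := mul_mem (inv_mem i2) i3'
    rwa [show (z * w)⁻¹ * (z * v) = w⁻¹ * v by group, (cB w⁻¹ v (inv_mem hwB) rv.memB).eq] at this
  have i5 : b⁻¹ * w * w ∈ B₀ := by
    have : b⁻¹ * w * v * (v * w⁻¹)⁻¹ ∈ B₀ := mul_mem i1 (inv_mem i4)
    rwa [show b⁻¹ * w * v * (v * w⁻¹)⁻¹ = b⁻¹ * w * (v * w * v⁻¹) by group,
      (cB v w rv.memB hwB).eq, mul_inv_cancel_right] at this
  have himg : Cfsg.conjBy ⁅A, Cfsg.rankOneDiagonal A B⁆ μ = B₀ := by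
    rw [Cfsg.conjBy, Subgroup.map_commutator, show Subgroup.map (MulAut.conj μ).toMonoidHom A = B from hμA,
      show Subgroup.map (MulAut.conj μ).toMonoidHom (Cfsg.rankOneDiagonal A B) = _ from conj_diag h hμA hμB]
  rw [← himg, mem_conjBy] at i5
  rwa [show μ⁻¹ * (b⁻¹ * w * w) * μ = a * x * x by rw [← hφa, hw]; group] at i5

theorem psl_two : Nonempty (Matrix.ProjectiveSpecialLinearGroup (Fin 2) (ZMod 2) ≃*
    Matrix.SpecialLinearGroup (Fin 2) (ZMod 2)) := by
  have key : ∀ c : ZMod 2, c ^ 2 = 1 → c = 1 := by decide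
  have h : Subgroup.center (Matrix.SpecialLinearGroup (Fin 2) (ZMod 2)) = ⊥ := by
    rw [Subgroup.eq_bot_iff_forall]
    intro g hg
    obtain ⟨c, hc, hcg⟩ := Matrix.SpecialLinearGroup.mem_center_iff.1 hg
    rw [Fintype.card_fin] at hc
    have hc1 : c = 1 := key c hc
    subst hc1
    exact Subtype.ext (hcg.symm.trans (map_one _))
  exact ⟨(QuotientGroup.quotientMulEquivOfEq h).trans QuotientGroup.quotientBot⟩
/-- Let X be a special rank one group with abelian unipotent subgroups A and B, and H = N(A) ∩ N(B) its diagonal subgroup. Then either A has at most three elements and X is isomorphic to SL₂(2), SL₂(3) or PSL₂(3); or X = X' A with the commutator subgroup X' quasisimple and the commutator subgroup ⁅A, H⁆ having more than three elements. -/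
theorem result {X : Type*} [Group X] {A B : Subgroup X} (h : Cfsg.IsRankOneGroup X A B)
    (hs : Cfsg.IsSpecialRankOnePair A B) (hab : Cfsg.HasAbelianUnipotents A B) :
    (ENat.card A ≤ 3 ∧ (Nonempty (X ≃* Matrix.SpecialLinearGroup (Fin 2) (ZMod 2)) ∨
        Nonempty (X ≃* Matrix.SpecialLinearGroup (Fin 2) (ZMod 3)) ∨
        Nonempty (X ≃* Matrix.ProjectiveSpecialLinearGroup (Fin 2) (ZMod 3)))) ∨
    (commutator X ⊔ A = ⊤ ∧ Cfsg.IsQuasisimple (commutator X) ∧
      3 < ENat.card ↥(⁅A, Cfsg.rankOneDiagonal A B⁆ : Subgroup X)) := by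
  classical
  have hsp : Sp A B := ⟨hs.1, hab.1, hab.2, hs.2⟩
  obtain ⟨a, ha, ha1⟩ := left_ne_bot h.2
  obtain ⟨b, r⟩ := hsp.exists_right ha ha1
  by_cases hsmall : ENat.card A ≤ 3
  · refine Or.inl ⟨hsmall, ?_⟩
    have : Finite A := ENat.card_lt_top.1 (lt_of_le_of_lt hsmall (by exact_mod_cast ENat.coe_lt_top 3))
    have hc3 : Nat.card A ≤ 3 := by
      have h1 := hsmall
      rw [ENat.card_eq_coe_natCard] at h1
      exact_mod_cast h1
    have hc2 : 1 < Nat.card A :=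
      Finite.one_lt_card_iff_nontrivial.2 ⟨⟨⟨a, ha⟩, 1, fun e => ha1 (congrArg Subtype.val e)⟩⟩
    have htop : Subgroup.closure ({a, b} : Set X) = ⊤ := by
      have hza : Subgroup.zpowers (⟨a, ha⟩ : A) = ⊤ := by
        rcases (by omega : Nat.card A = 2 ∨ Nat.card A = 3) with e | e
        · exact @zpowers_eq_top_of_prime_card A _ 2 ⟨Nat.prime_two⟩ e _ fun e => ha1 (congrArg Subtype.val e)
        · exact @zpowers_eq_top_of_prime_card A _ 3 ⟨Nat.prime_three⟩ e _ fun e => ha1 (congrArg Subtype.val e)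
      have hA : A ≤ Subgroup.closure ({a, b} : Set X) := by
        intro x hx
        have hx' : (⟨x, hx⟩ : A) ∈ Subgroup.zpowers (⟨a, ha⟩ : A) := by rw [hza]; exact Subgroup.mem_top _
        obtain ⟨n, hn⟩ := hx'
        have e : a ^ n = x := congrArg Subtype.val hn
        rw [← e]
        exact zpow_mem (show a ∈ Subgroup.closure ({a, b} : Set X) from Subgroup.subset_closure (Set.mem_insert _ _)) n
      rw [eq_top_iff, ← h.1]
      refine sup_le hA ?_
      intro y hy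
      rw [← mu_conj_A r] at hy
      obtain ⟨x, hx, rfl⟩ := hy
      have hm : mu a b ∈ Subgroup.closure ({a, b} : Set X) :=
        mul_mem (mul_mem (Subgroup.subset_closure (Set.mem_insert _ _))
          (inv_mem (Subgroup.subset_closure (Set.mem_insert_of_mem _ rfl)))) (Subgroup.subset_closure (Set.mem_insert _ _))
      exact mul_mem (mul_mem hm (hA hx)) (inv_mem hm)
    have hel : ∀ p, Nat.card A = p → Cfsg.IsElementaryAbelian p A := fun p hp =>
      ⟨hab.1, fun x hx => by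
        have : (⟨x, hx⟩ : A) ^ p = 1 := hp ▸ pow_card_eq_one'
        exact congrArg Subtype.val this⟩
    rcases (by omega : Nat.card A = 2 ∨ Nat.card A = 3) with e | e
    · haveI : Fact (Nat.Prime 2) := ⟨Nat.prime_two⟩
      rcases Cfsg.Agent.S5022.result h hs hab (hel 2 e) r.memA r.ne r.memB r.ne' r.eq with f | f
      · rw [htop] at f
        obtain ⟨f⟩ := f
        exact Or.inl ⟨Subgroup.topEquiv.symm.trans f⟩
      · rw [htop] at f
        obtain ⟨f⟩ := f
        obtain ⟨g⟩ := psl_two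
        exact Or.inl ⟨(Subgroup.topEquiv.symm.trans f).trans g⟩
    · haveI : Fact (Nat.Prime 3) := ⟨Nat.prime_three⟩
      rcases Cfsg.Agent.S5022.result h hs hab (hel 3 e) r.memA r.ne r.memB r.ne' r.eq with f | f
      · rw [htop] at f
        obtain ⟨f⟩ := f
        exact Or.inr (Or.inl ⟨Subgroup.topEquiv.symm.trans f⟩)
      · rw [htop] at f
        obtain ⟨f⟩ := f
        exact Or.inr (Or.inr ⟨Subgroup.topEquiv.symm.trans f⟩)
  refine Or.inr ?_
  have out : ∀ p q t : A, ∃ z : A, z ≠ p ∧ z ≠ q ∧ z ≠ t := by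
    intro p q t
    by_contra hno
    apply hsmall
    simp only [not_exists, not_and_or, not_not] at hno
    have huniv : (Set.univ : Set A) ⊆ ({p, q, t} : Finset A) := fun z _ => by
      simp only [Finset.coe_insert, Finset.coe_singleton]
      exact hno z
    have : Finite A := Set.finite_univ_iff.1 ((Finset.finite_toSet _).subset huniv)
    rw [ENat.card_eq_coe_natCard]
    have := Set.ncard_le_ncard huniv (Finset.finite_toSet _)
    rw [Set.ncard_univ, Set.ncard_coe_finset] at this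
    exact_mod_cast this.trans Finset.card_le_three
  have hall : A ≤ ⁅A, Cfsg.rankOneDiagonal A B⁆ := by
    intro a ha
    by_cases ha1 : a = 1
    · rw [ha1]; exact one_mem _
    obtain ⟨a2, h21, h22, -⟩ := out 1 ⟨a⁻¹, inv_mem ha⟩ 1
    obtain ⟨c, hc1, hc2, hc3⟩ := out 1 (⟨a, ha⟩ * a2) a2
    have h1 : (a * a2 : X) ≠ 1 := fun e => h22 (Subtype.ext (eq_inv_of_mul_eq_one_right e))
    have hx1 : ((c⁻¹ : A) : X) ≠ 1 := fun e => hc1 (inv_eq_one.1 (Subtype.ext e))
    have k1 := sq_mul_mem h hsp (mul_mem ha a2.2) (c⁻¹).2 h1 hx1 fun e => hc2 (by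
      have e' : (⟨a, ha⟩ * a2) * c⁻¹ = 1 := Subtype.ext e
      exact (mul_inv_eq_one.1 e').symm)
    have k2 := sq_mul_mem h hsp a2.2 (c⁻¹).2 (fun e => h21 (Subtype.ext e)) hx1 fun e => hc3 (by
      have e' : a2 * c⁻¹ = 1 := Subtype.ext e
      exact (mul_inv_eq_one.1 e').symm)
    have := mul_mem k1 (inv_mem k2)
    rwa [show a * (a2 : X) * (c⁻¹ : A) * (c⁻¹ : A) * ((a2 : X) * (c⁻¹ : A) * (c⁻¹ : A))⁻¹ = a by group] at this
  have hperf : commutator X = ⊤ := by
    have hA : A ≤ commutator X :=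
      hall.trans ((Subgroup.commutator_mono le_top le_top).trans_eq (commutator_def X).symm)
    rw [eq_top_iff, ← h.1]
    refine sup_le hA fun y hy => ?_
    rw [← mu_conj_A r] at hy
    obtain ⟨x, hx, rfl⟩ := hy
    exact (inferInstance : (commutator X).Normal).conj_mem x (hA hx) _
  refine ⟨by rw [hperf, top_sup_eq], ?_, ?_⟩
  · exact Cfsg.Agent.Local.isQuasisimple_congr ((Subgroup.topEquiv.symm).trans (MulEquiv.subgroupCongr hperf.symm))
      (quasisimple_of_perfect h ⟨hperf⟩)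
  · refine lt_of_lt_of_le (not_le.1 hsmall) ?_
    exact ENat.card_le_card_of_injective (f := Subgroup.inclusion hall) (Subgroup.inclusion_injective hall)

end Cfsg.Agent.S5020
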