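import Cfsg.Statements.S5021
import Cfsg.Agent.Lib.Classical.SpecialRankOne

set_option autoImplicit false
open Cfsg

namespace Cfsg.Agent.S5021

open Cfsg.Agent.Classical.RankOne
/-- In a special rank one group with abelian unipotent subgroups A and B, either A is an elementary abelian p-group for some prime p, or A is torsion-free and divisible (every element of A has an n-th root in A for every positive n). -/
theorem result {X : Type*} [Group X] {A B : Subgroup X} (h : Cfsg.IsRankOneGroup X A B)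
    (hs : Cfsg.IsSpecialRankOnePair A B) (hab : Cfsg.HasAbelianUnipotents A B) :
    (∃ p : ℕ, p.Prime ∧ Cfsg.IsElementaryAbelian p A) ∨
    ((∀ a ∈ A, a ≠ 1 → ¬ IsOfFinOrder a) ∧ ∀ a ∈ A, ∀ n : ℕ, 0 < n → ∃ c ∈ A, c ^ n = a) := by
  have hsp : Sp A B := ⟨hs.1, hab.1, hab.2, hs.2⟩
  by_cases htf : ∀ a ∈ A, a ≠ 1 → ¬ IsOfFinOrder a
  · refine Or.inr ⟨htf, fun a ha n hn => ?_⟩
    by_cases ha1 : a = 1
    · exact ⟨1, one_mem _, by rw [one_pow, ha1]⟩
    refine hsp.exists_root ha hn fun e => htf a ha ha1 ?_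
    exact isOfFinOrder_iff_pow_eq_one.2 ⟨n, hn, e⟩
  · simp only [not_forall, not_not] at htf
    obtain ⟨a, ha, ha1, hfin⟩ := htf
    refine Or.inl ⟨orderOf a, hsp.prime_order ha ha1 hfin, hab.1, fun x hx => ?_⟩
    by_contra hne
    refine ha1 ?_
    have e : (a * x) ^ orderOf a = x ^ orderOf a := by
      rw [Commute.mul_pow (comm_A hsp ha hx), pow_orderOf_eq_one, one_mul]
    have := hsp.eq_of_pow_eq (mul_mem ha hx) hx hfin.orderOf_pos (e ▸ hne) e
    exact mul_eq_right.1 this

end Cfsg.Agent.S5021
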