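import Cfsg.Statements.S5023
import Cfsg.Agent.Lib.Classical.RankOneBasic

set_option autoImplicit false
open Cfsg

namespace Cfsg.Agent.S5023

/-- Let X be a rank one group with unipotent subgroups A and B that acts faithfully on an abelian group V (written additively) with A acting quadratically: a' • (a • v − v) = a • v − v for all a, a' in A and v in V. Then A is either torsion-free or an elementary abelian p-group for some prime p. -/
theorem result {X : Type*} [Group X] {A B : Subgroup X} (h : Cfsg.IsRankOneGroup X A B)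
    {V : Type*} [AddCommGroup V] [DistribMulAction X V] (hf : ∀ x : X, (∀ v : V, x • v = v) → x = 1)
    (hq : ∀ a ∈ A, ∀ a' ∈ A, ∀ v : V, a' • (a • v - v) = a • v - v) :
    (∀ a ∈ A, a ≠ 1 → ¬ IsOfFinOrder a) ∨ ∃ p : ℕ, p.Prime ∧ Cfsg.IsElementaryAbelian p A := by
  classical
  have hAB : A ⊔ B = ⊤ := h.1
  have hR := h.2
  let D : X → V → V := fun a v => a • v - v
  -- additivity on A
  have hmul : ∀ a ∈ A, ∀ a' ∈ A, ∀ v : V, D (a' * a) v = D a' v + D a v := by
    intro a ha a' ha' v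
    have := hq a ha a' ha' v
    simp only [D, mul_smul, smul_sub] at this ⊢
    rw [sub_eq_iff_eq_add] at this
    rw [this]; abel
  have hpow : ∀ a ∈ A, ∀ n : ℕ, ∀ v : V, D (a ^ n) v = n • D a v := by
    intro a ha n
    induction n with
    | zero => intro v; simp [D]
    | succ n ih => intro v; rw [pow_succ, hmul a ha _ (pow_mem ha n), ih, succ_nsmul]
  have hD0 : ∀ x : X, (∀ v, D x v = 0) → x = 1 := fun x hx => hf x fun v => sub_eq_zero.mp (hx v)
  by_cases htf : ∀ a ∈ A, a ≠ 1 → ¬ IsOfFinOrder a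
  · exact Or.inl htf
  right
  simp only [not_forall, not_not] at htf
  obtain ⟨a₀, ha₀, ha₀1, hfin⟩ := htf
  obtain ⟨p, hp, hdvd⟩ := (orderOf a₀).exists_prime_and_dvd (fun h1 => ha₀1 (orderOf_eq_one_iff.mp h1))
  set a₁ := a₀ ^ (orderOf a₀ / p) with ha₁def
  have ha₁ : a₁ ∈ A := pow_mem ha₀ _
  have hord : orderOf a₁ = p := orderOf_pow_orderOf_div hfin.orderOf_pos.ne' hdvd
  have ha₁1 : a₁ ≠ 1 := fun h1 => hp.ne_one (by rw [← hord, h1, orderOf_one])
  have hp0 : ∀ v, p • D a₁ v = 0 := fun v => by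
    rw [← hpow a₁ ha₁ p v, ← hord, pow_orderOf_eq_one]; simp [D]
  refine ⟨p, hp, ⟨⟨?_⟩⟩, fun a ha => ?_⟩
  · rintro ⟨a, ha⟩ ⟨b, hb⟩
    apply Subtype.ext
    change a * b = b * a
    refine inv_mul_eq_one.mp (hf _ fun v => ?_) |>.symm
    have e : (a * b) • v = (b * a) • v := by
      have e1 := hmul b hb a ha v
      have e2 := hmul a ha b hb v
      simp only [D] at e1 e2
      exact sub_left_inj.mp (e1.trans (by rw [e2]; abel))
    rw [mul_smul, e, inv_smul_smul]
  -- elements fixing p • V pointwise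
  have hscal : ∀ (x : X) (n : ℕ) (v : V), x • (n • v) = n • (x • v) := fun x n v => smul_comm x n v
  let K : Subgroup X :=
    { carrier := {x | ∀ v : V, x • (p • v) = p • v}
      one_mem' := fun v => one_smul _ _
      mul_mem' := fun {x y} hx hy v => by rw [mul_smul, hy v, hx v]
      inv_mem' := fun {x} hx v => inv_smul_eq_iff.mpr (hx v).symm }
  have hKn : ∀ x ∈ K, ∀ y : X, y * x * y⁻¹ ∈ K := fun x hx y v => by
    rw [mul_smul, mul_smul, hscal, hx, ← hscal, smul_inv_smul]
  have ha₁K : a₁ ∈ K := fun v => by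
    have := hp0 v
    simp only [D, smul_sub, sub_eq_zero] at this
    rw [hscal]; exact this
  obtain ⟨b₁, hb₁, -, hb₁e⟩ := hR.cond_left a₁ ha₁ ha₁1
  -- B is a conjugate of A
  have hBconj : Cfsg.conjBy A (a₁ * b₁⁻¹) = B := by
    rw [Cfsg.Agent.Classical.RankOne.conjBy_mul, hb₁e, ← Cfsg.Agent.Classical.RankOne.conjBy_mul,
      mul_inv_cancel, Cfsg.Agent.Classical.RankOne.conjBy_one]
  have hBq : ∀ b ∈ B, ∀ b' ∈ B, ∀ v : V, b' • (b • v - v) = b • v - v := by
    intro b hb b' hb' v
    rw [← hBconj, Cfsg.Agent.Classical.RankOne.mem_conjBy] at hb hb'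
    have := hq _ hb _ hb' ((a₁ * b₁⁻¹)⁻¹ • v)
    simp only [← mul_smul, smul_sub] at this ⊢
    have h2 := congrArg ((a₁ * b₁⁻¹) • ·) this
    simp only [smul_sub, ← mul_smul] at h2
    simpa [mul_assoc] using h2
  -- images of A and B on p • V agree
  have hAK : ∀ b ∈ B, ∃ a ∈ A, ∀ v : V, b • (p • v) = a • (p • v) := by
    intro b hb
    -- conjugate by b₁
    have hm : b₁ * (a₁⁻¹ * b * a₁) * b₁⁻¹ ∈ A := by
      have h3 : a₁⁻¹ * b * a₁ ∈ Cfsg.conjBy A b₁⁻¹ := by
        rw [hb₁e, Cfsg.Agent.Classical.RankOne.mem_conjBy]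
        simpa [mul_assoc] using hb
      rw [Cfsg.Agent.Classical.RankOne.mem_conjBy, inv_inv] at h3
      exact h3
    refine ⟨_, hm, fun v => ?_⟩
    have hk : ∀ w : V, (a₁⁻¹ * b * a₁) • (p • w) = b • (p • w) := fun w => by
      rw [mul_smul, mul_smul, ha₁K w, hscal b p w]
      exact inv_smul_eq_iff.mpr (ha₁K _).symm
    have hB : ∀ w : V, b₁ • (b • w - w) = b • w - w := fun w => hBq b hb b₁ hb₁ w
    rw [mul_smul, mul_smul, hscal b₁⁻¹, hk, ← hscal b₁⁻¹]
    have h4 := hB (b₁⁻¹ • (p • v))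
    rw [smul_sub, smul_inv_smul, sub_eq_iff_eq_add] at h4
    have h5 := hB (p • v)
    have h6 := hBq b₁⁻¹ (inv_mem hb₁) b hb (p • v)
    rw [h4]
    rw [smul_sub, sub_eq_iff_eq_add] at h6
    rw [h6]
    abel
  have hfix : ∀ a ∈ A, ∀ w : V, ∀ x : X, x • D a (p • w) = D a (p • w) := by
    intro a ha w
    suffices ⊤ ≤ MulAction.stabilizer X (D a (p • w)) from fun x => this (Subgroup.mem_top x)
    rw [← hAB, sup_le_iff]
    refine ⟨fun a' ha' => hq a ha a' ha' _, fun b hb => ?_⟩
    obtain ⟨a', ha', he⟩ := hAK b hb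
    change b • D a (p • w) = D a (p • w)
    have e : D a (p • w) = p • D a w := by simp only [D, hscal, smul_sub]
    rw [e, he, ← e]
    exact hq a ha a' ha' _
  set c := a ^ p with hc
  have hcD : ∀ v, D c v = D a (p • v) := fun v => by
    rw [hpow a ha p v]; simp only [D, hscal, smul_sub]
  -- c kills commutators
  have hkill : ∀ (x : X) (v : V), D c (x • v) = D c v := by
    intro x
    have hx : x ∈ A ⊔ B := hAB ▸ Subgroup.mem_top x
    let S : Subgroup X :=
      { carrier := {x | ∀ v : V, D c (x • v) = D c v}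
        one_mem' := fun v => by rw [one_smul]
        mul_mem' := fun {x y} hx hy v => by rw [mul_smul, hx, hy]
        inv_mem' := fun {x} hx v => by rw [← hx (x⁻¹ • v), smul_inv_smul] }
    suffices A ⊔ B ≤ S from this hx
    have hA' : A ≤ S := fun a' ha' v => by
      rw [hcD, hcD]
      have h1 : a' • (p • v) = D a' (p • v) + p • v := by simp only [D]; abel
      have h2 : D a (D a' (p • v)) = 0 := sub_eq_zero.mpr (hfix a' ha' v a)
      have h3 : D a (D a' (p • v) + p • v) = D a (D a' (p • v)) + D a (p • v) := by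
        simp only [D, smul_add]; abel
      rw [← hscal, h1, h3, h2, zero_add]
    refine sup_le hA' fun b hb v => ?_
    obtain ⟨a', ha', he⟩ := hAK b hb
    rw [← hA' ha' v, hcD, hcD, ← hscal, he v, ← hscal]
  have hcomm : ∀ x : X, x * c = c * x := fun x => by
    refine inv_mul_eq_one.mp (hf _ fun v => ?_) |>.symm
    rw [mul_smul, inv_smul_eq_iff, mul_smul, mul_smul]
    have h1 := hkill x v
    have h2 : x • D c v = D c v := by rw [hcD]; exact hfix a ha v x
    simp only [D, smul_sub] at h1 h2 ⊢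
    have : x • (c • v) = c • v - v + x • v := by
      rw [← h2]; abel
    rw [this]
    rw [← h1]; abel
  by_contra hc1
  obtain ⟨b, -, hb⟩ := Cfsg.Agent.Classical.RankOne.not_centralise hR (pow_mem ha p) hc1
  exact hb (hcomm b).symm

end Cfsg.Agent.S5023
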