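import Cfsg.Statements.S5024
import Cfsg.Agent.Lib.Classical.RankOneAction
-- import your own Cfsg.Agent.* helpers here

set_option autoImplicit false
open Cfsg

namespace Cfsg.Agent.S5024

open Cfsg.Agent.Classical.RankOne

/-- Let S be a set of abstract root subgroups of G, A and C members of S, B a rank one partner of A in S and D a rank one partner of C in S. If the rank one group ⟨A, B⟩ is contained in ⟨C, D⟩ then the two coincide, and C and D are conjugates of A inside ⟨A, B⟩. -/
theorem result {G : Type*} [Group G] {S : Set (Subgroup G)} (hS : Cfsg.IsRootSubgroupSet S)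
    {A B C D : Subgroup G} (hA : A ∈ S) (hC : C ∈ S) (hB : B ∈ Cfsg.rankOnePartners S A) (hD : D ∈ Cfsg.rankOnePartners S C)
    (hle : A ⊔ B ≤ C ⊔ D) : A ⊔ B = C ⊔ D ∧ C ∈ Cfsg.unipotentSubgroups A B ∧ D ∈ Cfsg.unipotentSubgroups A B := by
  obtain ⟨hB, hAB⟩ := hB
  obtain ⟨hD, hCD⟩ := hD
  have key : ∀ P Q : Subgroup G, P ∈ S → Cfsg.IsRankOnePair P Q → P ⊔ Q ≤ C ⊔ D →
      P ∈ Cfsg.unipotentSubgroups C D := by
    intro P Q hP hPQ hle'
    have hPY : P ≤ C ⊔ D := le_sup_left.trans hle'
    by_contra hnot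
    have hall : ∀ C' ∈ Cfsg.unipotentSubgroups C D, ⁅P, C'⁆ = ⊥ := by
      intro C' hC'
      obtain ⟨x, hx, rfl⟩ := hC'
      have hC'S := hS.conj_mem C hC x
      have hmem : Cfsg.conjBy C x ∈ Cfsg.unipotentSubgroups C D := ⟨x, hx, rfl⟩
      have hpartner := conj_pair hCD x
      rcases hS.pair P hP _ hC'S with h0 | h1 | h2
      · exact h0
      · obtain ⟨p, hp, hp1⟩ := left_ne_bot h1
        obtain ⟨c, hc, -, e⟩ := h1.cond_left p hp hp1
        rw [conjBy_eq_iff, inv_inv] at e
        exact absurd (e ▸ conj_mem' (conj_mem' hmem (inv_mem (hPY hp))) (unipotent_le hmem hc)) hnot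
      · exfalso
        have hfixp : ∀ p ∈ P, Cfsg.conjBy (Cfsg.conjBy C x) p = Cfsg.conjBy C x := fun p hp => by
          by_contra hne
          exact not_commuting (pair_of_ne hCD (conj_mem' hmem (hPY hp)) hmem hne).1
            (comm_case_conj (hS.commutative _ hC'S) h2 hp)
        have hEle : ⁅P, Cfsg.conjBy C x⁆ ≤ Cfsg.conjBy C x := by
          rw [Subgroup.commutator_le]
          intro p hp c hc
          have : p * c * p⁻¹ ∈ Cfsg.conjBy C x := by
            have := Subgroup.mem_map_of_mem (MulAut.conj p).toMonoidHom hc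
            change _ ∈ Cfsg.conjBy (Cfsg.conjBy C x) p at this
            rw [hfixp p hp] at this
            exact this
          exact mul_mem this (inv_mem hc)
        obtain ⟨d, hd, hd1⟩ := (Subgroup.bot_or_exists_ne_one _).resolve_left (hS.ne_bot _ h2.1)
        have hE := eq_of_inter hS hpartner (hS.conj_mem D hD x) h2.1 (hEle hd) hd hd1
        refine hS.ne_bot _ h2.1 ((Subgroup.eq_bot_iff_forall _).2 ?_)
        intro e he
        have hcomm : ⁅P, Cfsg.conjBy C x⁆ = ⊥ := by
          rw [Subgroup.commutator_eq_bot_iff_le_centralizer]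
          intro p hp c hc
          exact h2.2.1 c (by rw [hE]; exact hc) p (Subgroup.mem_sup_left hp)
        rwa [hcomm, Subgroup.mem_bot] at he
    obtain ⟨p, hp, hp1⟩ := left_ne_bot hPQ
    obtain ⟨q, hq, hn⟩ := not_centralise hPQ hp hp1
    have hcen : C ⊔ D ≤ Subgroup.centralizer {p} := by
      refine sup_le ?_ ?_ <;> intro c hc <;> rw [Subgroup.mem_centralizer_singleton_iff]
      · exact (commute_of_bracket_bot (hall C left_mem) hp hc).symm
      · exact (commute_of_bracket_bot (hall D (right_mem hCD)) hp hc).symm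
    exact hn (Subgroup.mem_centralizer_singleton_iff.1 (hcen (hle' (Subgroup.mem_sup_right hq)))).symm
  have hA' := key A B hA hAB hle
  have hB' := key B A hB (Cfsg.RankOnePair_symm hAB) (sup_comm A B ▸ hle)
  have heq : A ⊔ B = C ⊔ D := (pair_of_ne hCD hA' hB' hAB.ne).2
  obtain ⟨x, hx, hCx, hDx⟩ := two_trans hCD hA' hB' hAB.ne
  have hC' : C ∈ Cfsg.unipotentSubgroups A B :=
    ⟨x⁻¹, heq ▸ inv_mem hx, by rw [← hCx, conjBy_cancel]⟩
  have hD' : D ∈ Cfsg.unipotentSubgroups A B := by
    obtain ⟨u, hu, hDu⟩ := right_mem hCD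
    exact hDu ▸ conj_mem' hC' (heq ▸ hu)
  exact ⟨heq, hC', hD'⟩

end Cfsg.Agent.S5024
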