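import Cfsg.Statements.S5026
import Cfsg.Agent.Lib.Classical.RankOneAction
-- import your own Cfsg.Agent.* helpers here

set_option autoImplicit false
open Cfsg

namespace Cfsg.Agent.S5026

open Cfsg.Agent.Classical.RankOne

/-- Let S be a degenerate set of abstract root subgroups of G (a set of abstract transvection groups) and let a, b be commuting non-identity elements of members of S with a b ≠ 1. Then the members of S centralizing a b are exactly those centralizing both a and b. -/
theorem result {G : Type*} [Group G] {S : Set (Subgroup G)} (hS : Cfsg.IsRootSubgroupSet S) (hdeg : Cfsg.IsDegenerateRootSet S)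
    {a b : G} (ha : a ∈ Cfsg.rootElements S) (hb : b ∈ Cfsg.rootElements S) (hab : a * b = b * a) (hab1 : a * b ≠ 1) :
    Cfsg.centralizingMembers S (Subgroup.zpowers (a * b)) =
      Cfsg.centralizingMembers S (Subgroup.zpowers a) ∩ Cfsg.centralizingMembers S (Subgroup.zpowers b) := by
  ext C
  refine ⟨fun hC => ?_, ?_⟩
  · obtain ⟨hCS, hcen⟩ := hC
    have hab' : ∀ c ∈ C, a * b * c = c * (a * b) := fun c hc =>
      hcen hc (a * b) (Subgroup.mem_zpowers _)
    have hca : ∀ c ∈ C, a * c = c * a := by
      by_contra hno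
      obtain ⟨ha1, A, hA, haA⟩ := ha
      obtain ⟨hb1, B, hB, hbB⟩ := hb
      rcases hS.pair A hA C hCS with h0 | h1 | h2
      · exact hno fun c hc => commute_of_bracket_bot h0 haA hc
      · have e : Cfsg.conjBy C (a * b) = C := conjBy_eq_self_of_comm hab'
        have hact : Cfsg.conjBy C a⁻¹⁻¹ = Cfsg.conjBy C b⁻¹ := by
          rw [inv_inv]
          conv_rhs => rw [← e, ← conjBy_mul, hab, inv_mul_cancel_left]
        obtain ⟨-, hBm⟩ := mem_of_same_action hS h1 hCS hB (inv_mem haA) (inv_ne_one.2 ha1) hbB hb1 hact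
        have hbX : b ∈ A ⊔ C := unipotent_le hBm hbB
        have hfixA : Cfsg.conjBy B a = B := by
          have hm := conj_mem' hBm (Subgroup.mem_sup_left (T := C) haA)
          refine fix_only h1 hBm hm hbB hb1 ?_
          rw [← conjBy_mul, ← hab, conjBy_mul, conjBy_of_mem hbB]
        have hBA : B = A := fix_only h1 left_mem hBm haA ha1 hfixA
        have habA : a * b ∈ A := mul_mem haA (hBA ▸ hbB)
        obtain ⟨c, hc, hn⟩ := not_centralise h1 habA hab1
        exact hn (hab' c hc)
      · exact hdeg A hA C hCS h2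
    have hcb : ∀ c ∈ C, b * c = c * b := fun c hc => by
      have e := hab' c hc
      rw [mul_assoc, ← mul_assoc c, ← hca c hc, mul_assoc] at e
      exact mul_left_cancel e
    refine ⟨⟨hCS, ?_⟩, ⟨hCS, ?_⟩⟩ <;> rintro c hc _ ⟨n, rfl⟩
    · exact (Commute.zpow_left (hca c hc) n).eq
    · exact (Commute.zpow_left (hcb c hc) n).eq
  · rintro ⟨⟨hCS, ha'⟩, ⟨-, hb'⟩⟩
    refine ⟨hCS, ?_⟩
    rintro c hc _ ⟨n, rfl⟩
    have h1 : Commute a c := ha' hc a (Subgroup.mem_zpowers _)
    have h2 : Commute b c := hb' hc b (Subgroup.mem_zpowers _)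
    exact ((h1.mul_left h2).zpow_left n).eq

end Cfsg.Agent.S5026
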