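import Cfsg.Statements.S5027
import Cfsg.Agent.Lib.Classical.RankOneAction
import Cfsg.Agent.Lib.Classical.RankOneTranslate
-- import your own Cfsg.Agent.* helpers here

set_option autoImplicit false
open Cfsg

namespace Cfsg.Agent.S5027

open Cfsg.Agent.Classical.RankOne

/-- Let S be a set of abstract root subgroups of G such that every member of S has a rank one partner in S (the graph of rank one pairs on S has no isolated vertex). Then the second centre of G equals its centre. -/
theorem result {G : Type*} [Group G] {S : Set (Subgroup G)} (hS : Cfsg.IsRootSubgroupSet S)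
    (hF : ∀ A ∈ S, ¬ Cfsg.IsIsolatedIn (Cfsg.FAdj S) S A) : Subgroup.upperCentralSeries G 2 = Subgroup.center G := by
  refine le_antisymm (fun z hz => ?_) ?_
  · rw [Subgroup.mem_center_iff]
    have hz' : ∀ g : G, z * g * z⁻¹ * g⁻¹ ∈ Subgroup.center G := fun g => by
      have := (Subgroup.mem_upperCentralSeries_succ_iff.1 hz) g
      rwa [Subgroup.upperCentralSeries_one] at this
    have hall : ∀ A ∈ S, A ≤ Subgroup.centralizer {z} := by
      intro A hA a ha
      rw [Subgroup.mem_centralizer_singleton_iff]
      by_cases ha1 : a = 1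
      · simp [ha1]
      by_contra hne
      obtain ⟨B, hB⟩ : ∃ B, B ∈ Cfsg.rankOnePartners S A := by
        by_contra hno
        refine hF A hA ⟨hA, fun B => ⟨fun h => hno ⟨B, h.2.1, h.2.2⟩, fun h => hno ⟨B, h.1, ?_⟩⟩⟩
        exact Cfsg.RankOnePair_symm h.2.2
      have hw : z * a * z⁻¹ * a⁻¹ ≠ 1 := fun h => hne (by
        rw [mul_inv_eq_one, mul_inv_eq_iff_eq_mul] at h
        exact h.symm)
      refine centralizing_translate hS hA hB ?_ hw a ha ha1 ?_
      · exact Subgroup.center_le_centralizer _ (hz' a)
      · rw [inv_mul_cancel_right]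
        exact ⟨fun h => ha1 (by simpa using h), Cfsg.conjBy A z, hS.conj_mem A hA z, ⟨a, ha, rfl⟩⟩
    intro g
    have : g ∈ (⨆ A ∈ S, A) := by rw [hS.generates]; trivial
    exact Subgroup.mem_centralizer_singleton_iff.1 ((iSup₂_le hall) this)
  · rw [← Subgroup.upperCentralSeries_one]
    exact Subgroup.upperCentralSeries_mono G one_le_two

end Cfsg.Agent.S5027
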