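import Cfsg.Statements.S5029
import Cfsg.Agent.Lib.Classical.RankOneCommutator

set_option autoImplicit false
open Cfsg

namespace Cfsg.Agent.S5029

open Cfsg.Agent.Classical.RankOne
open scoped IsMulCommutative commutatorElement
/-- Let S be a set of abstract root subgroups of G, A ∈ S having a rank one partner in S, and B ∈ S with C = ⁅A, B⁆ ∈ S. Then the members of S contained in AC are the conjugates of A by elements of B together with C, they partition AC, the members of S inside AC partition AC so that A is a line partner of C, and for every non-identity a ∈ A the map b ↦ a⁻¹ b⁻¹ a b is an isomorphism from B onto C. -/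
theorem result {G : Type*} [Group G] {S : Set (Subgroup G)} (hS : Cfsg.IsRootSubgroupSet S)
    {A B : Subgroup G} (hA : ¬ Cfsg.IsIsolatedIn (Cfsg.FAdj S) S A) (hAS : A ∈ S) (hB : B ∈ S) (hC : ⁅A, B⁆ ∈ S) :
    Cfsg.membersIn S (A ⊔ ⁅A, B⁆) = (fun b : G => Cfsg.conjBy A b) '' (B : Set G) ∪ {⁅A, B⁆} ∧
    Cfsg.IsSubgroupPartition (A ⊔ ⁅A, B⁆) (Cfsg.membersIn S (A ⊔ ⁅A, B⁆)) ∧
    A ∈ Cfsg.linePartners S ⁅A, B⁆ ∧
    ∀ a ∈ A, a ≠ 1 → ∃ φ : ↥B ≃* ↥⁅A, B⁆, ∀ b : ↥B, (φ b : G) = a⁻¹ * (b : G)⁻¹ * a * b := by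
  obtain ⟨A', hA', hAA⟩ := exists_partner hA hAS
  have h := commutator_case hS hAS hB hC
  have hpart := partition_sup hS hAA hAS hA' hB h
  refine ⟨membersIn_sup hS hAA hAS hA' hB h, hpart, ⟨⟨hAS, (bracket_ne_left hS h).symm, ?_⟩, ?_⟩, ?_⟩
  · rw [Subgroup.commutator_eq_bot_iff_le_centralizer]
    intro c hc a ha
    exact (h.2.1 c hc a (Subgroup.mem_sup_left ha)).symm
  · rwa [sup_comm ⁅A, B⁆ A]
  intro a ha ha1
  have hinj : Function.Injective (bracketHom h (inv_mem ha)) := by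
    rw [← MonoidHom.ker_eq_bot_iff, Subgroup.eq_bot_iff_forall]
    intro b hb
    exact Subtype.ext (bracket_injective hS hAA hAS hA' h (inv_mem ha) (inv_ne_one.2 ha1) b.2
      (commutatorElement_eq_one_iff_mul_comm.1 (MonoidHom.mem_ker.1 hb)))
  have : IsMulCommutative B := hS.commutative B hB
  refine ⟨(MulEquiv.inv B).trans ((MonoidHom.ofInjective hinj).trans
    (MulEquiv.subgroupCongr (bracketHom_range h (inv_mem ha) (inv_ne_one.2 ha1)))), fun b => ?_⟩
  show ⁅a⁻¹, ((b⁻¹ : B) : G)⁆ = _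
  simp [commutatorElement_def]

end Cfsg.Agent.S5029
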