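import Cfsg.Statements.S5030
import Cfsg.Agent.Lib.Classical.RankOneCommutator

set_option autoImplicit false
open Cfsg

namespace Cfsg.Agent.S5030

open Cfsg.Agent.Classical.RankOne
open scoped commutatorElement

variable {G : Type*} [Group G] {S : Set (Subgroup G)}

theorem comm_iff {P Q : Subgroup G} : ⁅P, Q⁆ = ⊥ ↔ ∀ p ∈ P, ∀ q ∈ Q, p * q = q * p := by
  refine ⟨fun h p hp q hq => commute_of_bracket_bot h hp hq, fun h => ?_⟩
  rw [Subgroup.commutator_eq_bot_iff_le_centralizer]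
  exact fun p hp => Subgroup.mem_centralizer_iff.2 fun q hq => (h p hp q hq).symm

theorem sup_comm_bot {P Q R : Subgroup G} (hP : ⁅P, R⁆ = ⊥) (hQ : ⁅Q, R⁆ = ⊥) : ⁅P ⊔ Q, R⁆ = ⊥ := by
  rw [Subgroup.commutator_eq_bot_iff_le_centralizer] at *
  exact sup_le hP hQ

theorem conj_comm_bot {P Q : Subgroup G} (h : ⁅P, Q⁆ = ⊥) (x : G) :
    ⁅Cfsg.conjBy P x, Cfsg.conjBy Q x⁆ = ⊥ := by
  rw [Cfsg.conjBy, Cfsg.conjBy, ← Subgroup.map_commutator, h, Subgroup.map_bot]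

/-- `A` and a non-trivial conjugate of it under `B` generate `A [A, B]`. -/
theorem sup_conj {A B : Subgroup G} (h : Cfsg.RootCommutatorCase S A B) {b : G} (hb : b ∈ B) (hb1 : b ≠ 1) :
    A ⊔ Cfsg.conjBy A b = A ⊔ ⁅A, B⁆ := by
  refine le_antisymm (sup_le le_sup_left (conj_le_sup hb)) (sup_le le_sup_left ?_)
  conv_lhs => rw [← h.2.2.2 b hb hb1]
  rw [Subgroup.closure_le]
  rintro _ ⟨a, ha, rfl⟩
  rw [SetLike.mem_coe]
  show a * b * a⁻¹ * b⁻¹ ∈ _
  rw [show a * b * a⁻¹ * b⁻¹ = a * (b * a⁻¹ * b⁻¹) by group]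
  exact mul_mem (Subgroup.mem_sup_left ha) (Subgroup.mem_sup_right ⟨a⁻¹, inv_mem ha, rfl⟩)

theorem self_line (hS : Cfsg.IsRootSubgroupSet S) {A B : Subgroup G} (hA : A ∈ S)
    (h : Cfsg.RootCommutatorCase S A B) : ⁅A ⊔ ⁅A, B⁆, A⁆ = ⊥ :=
  sup_comm_bot (commutative_bracket (hS.commutative A hA))
    (comm_iff.2 fun c hc a ha => h.2.1 c hc a (Subgroup.mem_sup_left ha))

theorem no_pair (hS : Cfsg.IsRootSubgroupSet S) {A B C : Subgroup G} (hC : C ∈ S)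
    (h : Cfsg.RootCommutatorCase S A B) (hAC : ⁅A, C⁆ = ⊥) {x : G} (hx : x ∈ B) :
    ¬ Cfsg.IsRankOnePair A (Cfsg.conjBy C x) := by
  intro hp
  obtain ⟨a, ha, ha1⟩ := left_ne_bot hp
  set C' := Cfsg.conjBy C x with hC'
  have hy : ∀ q ∈ C', x * a * x⁻¹ * q = q * (x * a * x⁻¹) := fun q hq =>
    commute_of_bracket_bot (conj_comm_bot hAC x) ⟨a, ha, rfl⟩ hq
  set d := a⁻¹ * (x * a * x⁻¹) with hd
  have hdD : d ∈ ⁅A, B⁆ := by
    rw [show d = ⁅a⁻¹, x⁆ by rw [hd, commutatorElement_def]; group]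
    exact Subgroup.commutator_mem_commutator (inv_mem ha) hx
  have hd1 : d ≠ 1 := by
    intro h0
    rw [hd, inv_mul_eq_one] at h0
    exact ha1 (fix_right hp ha (conjBy_eq_self_of_comm fun q hq => by rw [h0]; exact hy q hq))
  have hact : Cfsg.conjBy C' a⁻¹ = Cfsg.conjBy C' (d⁻¹)⁻¹ := by
    rw [inv_inv, hd, conjBy_mul C' a⁻¹, conjBy_eq_self_of_comm hy]
  obtain ⟨-, hu⟩ := mem_of_same_action hS hp (hS.conj_mem C hC x) h.1 ha ha1 (inv_mem hdD)
    (inv_ne_one.2 hd1) hact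
  have hfix : Cfsg.conjBy ⁅A, B⁆ a = ⁅A, B⁆ :=
    conjBy_eq_self_of_comm fun c hc => (h.2.1 c hc a (Subgroup.mem_sup_left ha)).symm
  exact bracket_ne_left hS h (fix_only hp left_mem hu ha ha1 hfix)

theorem comm_transfer (hS : Cfsg.IsRootSubgroupSet S) {A B C : Subgroup G} (hA : A ∈ S)
    (h : Cfsg.RootCommutatorCase S A B) (hAC : ⁅A, C⁆ = ⊥) {b : G} (hb : b ∈ B) (hb1 : b ≠ 1)
    (h0 : ⁅A, Cfsg.conjBy C b⁻¹⁆ = ⊥) : ⁅Cfsg.conjBy A b⁻¹, C⁆ = ⊥ := by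
  have h1 := conj_comm_bot h0 b
  rw [conjBy_cancel'] at h1
  have h2 : ⁅A ⊔ Cfsg.conjBy A b, C⁆ = ⊥ := sup_comm_bot hAC h1
  rw [sup_conj h hb hb1, Subgroup.commutator_eq_bot_iff_le_centralizer] at h2
  rw [Subgroup.commutator_eq_bot_iff_le_centralizer]
  exact le_trans (conj_le_sup (inv_mem hb)) h2

theorem comm_mem_of_gen {P Q F : Subgroup G} (hP : ⁅P, P⁆ = ⊥) (hQ : ⁅Q, Q⁆ = ⊥)
    (hPQ : ∀ p ∈ P, ∀ q ∈ Q, ⁅p, q⁆ ∈ F) (hF : ∀ f ∈ F, ∀ x ∈ P ⊔ Q, f * x = x * f) :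
    ∀ x ∈ P ⊔ Q, ∀ y ∈ P ⊔ Q, ⁅x, y⁆ ∈ F := by
  have mk : ∀ y ∈ P ⊔ Q, ∀ s : Set G, s ⊆ (↑(P ⊔ Q) : Set G) → (∀ x ∈ s, ⁅x, y⁆ ∈ F) →
      ∀ x ∈ Subgroup.closure s, ⁅x, y⁆ ∈ F := by
    intro y hy s hs hsF x hx
    have hle : Subgroup.closure s ≤ P ⊔ Q := (Subgroup.closure_le _).2 hs
    induction hx using Subgroup.closure_induction with
    | mem x hx => exact hsF x hx
    | one => rw [commutatorElement_one_left]; exact one_mem _
    | mul x x' hx hx' ih ih' =>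
      rw [show ⁅x * x', y⁆ = x * ⁅x', y⁆ * x⁻¹ * ⁅x, y⁆ by simp [commutatorElement_def]; group,
        ← hF _ ih' x (hle hx), mul_inv_cancel_right]
      exact mul_mem ih' ih
    | inv x hx ih =>
      have e : Commute ⁅x, y⁆ x := hF _ ih x (hle hx)
      rw [show ⁅x⁻¹, y⁆ = x⁻¹ * ⁅x, y⁆⁻¹ * x by simp [commutatorElement_def]; group,
        ← (e.inv_inv).eq, inv_mul_cancel_right]
      exact inv_mem ih
  have hsub : (P : Set G) ∪ Q ⊆ (↑(P ⊔ Q) : Set G) :=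
    Set.union_subset (fun p hp => Subgroup.mem_sup_left hp) fun q hq => Subgroup.mem_sup_right hq
  have hcl : P ⊔ Q = Subgroup.closure ((P : Set G) ∪ Q) := (Subgroup.sup_eq_closure P Q)
  have h1 : ∀ y ∈ (P : Set G) ∪ Q, ∀ x ∈ P ⊔ Q, ⁅x, y⁆ ∈ F := by
    intro y hy x hx
    refine mk y (hsub hy) _ hsub ?_ x (hcl ▸ hx)
    rintro z (hz | hz) <;> rcases hy with hy | hy
    · rw [commutatorElement_eq_one_iff_mul_comm.2 (comm_iff.1 hP z hz y hy)]; exact one_mem _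
    · exact hPQ z hz y hy
    · rw [← commutatorElement_inv]; exact inv_mem (hPQ y hy z hz)
    · rw [commutatorElement_eq_one_iff_mul_comm.2 (comm_iff.1 hQ z hz y hy)]; exact one_mem _
  intro x hx y hy
  rw [← commutatorElement_inv]
  refine inv_mem (mk x hx _ hsub (fun z hz => ?_) y (hcl ▸ hy))
  rw [← commutatorElement_inv]
  exact inv_mem (h1 z hz x hx)

theorem class_two (hS : Cfsg.IsRootSubgroupSet S) {P Q : Subgroup G} (hP : P ∈ S) (hQ : Q ∈ S)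
    (hn : ¬ Cfsg.IsRankOnePair P Q) :
    ∀ x ∈ P ⊔ Q, ∀ y ∈ P ⊔ Q, ∀ z ∈ P ⊔ Q, Commute ⁅x, y⁆ z := by
  rcases hS.pair P hP Q hQ with h | h | h
  · intro x hx y hy z hz
    have := comm_mem_of_gen (F := ⊥) (commutative_bracket (hS.commutative P hP))
      (commutative_bracket (hS.commutative Q hQ))
      (fun p hp q hq => Subgroup.mem_bot.2
        (commutatorElement_eq_one_iff_mul_comm.2 (commute_of_bracket_bot h hp hq)))
      (fun f hf x _ => by rw [Subgroup.mem_bot.1 hf, one_mul, mul_one]) x hx y hy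
    rw [Subgroup.mem_bot.1 this]
    exact Commute.one_left z
  · exact absurd h hn
  · intro x hx y hy z hz
    exact h.2.1 _ (comm_mem_of_gen (commutative_bracket (hS.commutative P hP))
      (commutative_bracket (hS.commutative Q hQ))
      (fun p hp q hq => Subgroup.commutator_mem_commutator hp hq) h.2.1 x hx y hy) z hz

theorem class_two' (hS : Cfsg.IsRootSubgroupSet S) {P Q : Subgroup G} (hP : P ∈ S) (hQ : Q ∈ S)
    (hn : ¬ Cfsg.IsRankOnePair P Q) : ⁅⁅P ⊔ Q, P ⊔ Q⁆, P ⊔ Q⁆ = ⊥ := by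
  rw [Subgroup.commutator_eq_bot_iff_le_centralizer, Subgroup.commutator_le]
  intro x hx y hy
  exact Subgroup.mem_centralizer_iff.2 fun z hz => (class_two hS hP hQ hn x hx y hy z hz).symm.eq

theorem commutative_sup (hS : Cfsg.IsRootSubgroupSet S) {P Q : Subgroup G} (hP : P ∈ S) (hQ : Q ∈ S) :
    IsMulCommutative ↥(P ⊔ Q) ↔ ⁅P, Q⁆ = ⊥ := by
  constructor
  · intro h
    exact comm_iff.2 fun p hp q hq =>
      congrArg Subtype.val (h.is_comm.comm ⟨p, Subgroup.mem_sup_left hp⟩ ⟨q, Subgroup.mem_sup_right hq⟩)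
  · intro h
    refine ⟨⟨fun u v => Subtype.ext ?_⟩⟩
    show (u : G) * v = v * u
    have := comm_mem_of_gen (F := ⊥) (commutative_bracket (hS.commutative P hP))
      (commutative_bracket (hS.commutative Q hQ))
      (fun p hp q hq => Subgroup.mem_bot.2
        (commutatorElement_eq_one_iff_mul_comm.2 (commute_of_bracket_bot h hp hq)))
      (fun f hf x _ => by rw [Subgroup.mem_bot.1 hf, one_mul, mul_one]) u u.2 v v.2
    exact commutatorElement_eq_one_iff_mul_comm.1 (Subgroup.mem_bot.1 this)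

/-- An element lies in the next term of the upper central series once its commutators with generators do. -/
theorem mem_succ {R : Type*} [Group R] (s : Set R) (hs : Subgroup.closure s = ⊤) (x : R) (n : ℕ)
    (h : ∀ g ∈ s, ⁅x, g⁆ ∈ Subgroup.upperCentralSeries R n) : x ∈ Subgroup.upperCentralSeries R (n + 1) := by
  rw [Subgroup.mem_upperCentralSeries_succ_iff]
  intro y
  have hy : y ∈ Subgroup.closure s := hs ▸ Subgroup.mem_top y
  have hn : (Subgroup.upperCentralSeries R n).Normal := inferInstance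
  induction hy using Subgroup.closure_induction with
  | mem g hg => exact h g hg
  | one => simp
  | mul g g' _ _ ih ih' =>
    rw [show ⁅x, g * g'⁆ = ⁅x, g⁆ * (g * ⁅x, g'⁆ * g⁻¹) by simp [commutatorElement_def]; group]
    exact mul_mem ih (hn.conj_mem _ ih' g)
  | inv g _ ih =>
    rw [show ⁅x, g⁻¹⁆ = g⁻¹ * ⁅x, g⁆⁻¹ * g⁻¹⁻¹ by simp [commutatorElement_def]; group]
    exact hn.conj_mem _ (inv_mem ih) g⁻¹
/-- Let S be a set of abstract root subgroups of G and A, B, C ∈ S with ⁅A, B⁆ ∈ S and ⁅B, C⁆ ∈ S, where A and C are different and commute. For a non-identity b ∈ B put X = ⟨A, b⁻¹ C b⟩ and Y = ⟨b⁻¹ A b, C⟩ and R = ⟨A, B, C⟩. Then X and Y are either both abelian or both nilpotent of class exactly two; X and Y commute elementwise; XY is normal in R with R = (XY) B; and R is nilpotent. -/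
theorem result {G : Type*} [Group G] {S : Set (Subgroup G)} (hS : Cfsg.IsRootSubgroupSet S)
    {A B C : Subgroup G} (hA : A ∈ S) (hB : B ∈ S) (hC : C ∈ S) (hAB : ⁅A, B⁆ ∈ S) (hBC : ⁅B, C⁆ ∈ S)
    (hAC : C ∈ Cfsg.commutingPartners S A)
    {b : G} (hb : b ∈ B) (hb1 : b ≠ 1) :
    ((IsMulCommutative ↥(A ⊔ Cfsg.conjBy C b⁻¹) ∧ IsMulCommutative ↥(Cfsg.conjBy A b⁻¹ ⊔ C)) ∨
      ((¬ IsMulCommutative ↥(A ⊔ Cfsg.conjBy C b⁻¹) ∧
          ⁅⁅A ⊔ Cfsg.conjBy C b⁻¹, A ⊔ Cfsg.conjBy C b⁻¹⁆, A ⊔ Cfsg.conjBy C b⁻¹⁆ = ⊥) ∧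
        (¬ IsMulCommutative ↥(Cfsg.conjBy A b⁻¹ ⊔ C) ∧
          ⁅⁅Cfsg.conjBy A b⁻¹ ⊔ C, Cfsg.conjBy A b⁻¹ ⊔ C⁆, Cfsg.conjBy A b⁻¹ ⊔ C⁆ = ⊥))) ∧
    ⁅A ⊔ Cfsg.conjBy C b⁻¹, Cfsg.conjBy A b⁻¹ ⊔ C⁆ = ⊥ ∧
    (∀ r ∈ A ⊔ B ⊔ C, Cfsg.conjBy ((A ⊔ Cfsg.conjBy C b⁻¹) ⊔ (Cfsg.conjBy A b⁻¹ ⊔ C)) r =
      (A ⊔ Cfsg.conjBy C b⁻¹) ⊔ (Cfsg.conjBy A b⁻¹ ⊔ C)) ∧
    ((A ⊔ Cfsg.conjBy C b⁻¹) ⊔ (Cfsg.conjBy A b⁻¹ ⊔ C)) ⊔ B = A ⊔ B ⊔ C ∧
    Group.IsNilpotent ↥(A ⊔ B ⊔ C) := by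
  obtain ⟨-, -, hAC0⟩ := hAC
  have hcA := commutator_case hS hA hB hAB
  have hCB : ⁅C, B⁆ ∈ S := by rwa [Subgroup.commutator_comm]
  have hcC := commutator_case hS hC hB hCB
  have hCA0 : ⁅C, A⁆ = ⊥ := by rwa [Subgroup.commutator_comm]
  set A' := Cfsg.conjBy A b⁻¹ with hA'
  set C' := Cfsg.conjBy C b⁻¹ with hC'
  have hb' : b⁻¹ ∈ B := inv_mem hb
  have hb'1 : b⁻¹ ≠ 1 := inv_ne_one.2 hb1
  have hA'S := hS.conj_mem A hA b⁻¹
  have hC'S := hS.conj_mem C hC b⁻¹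
  have hX : ¬ Cfsg.IsRankOnePair A C' := no_pair hS hC hcA hAC0 hb'
  have hY : ¬ Cfsg.IsRankOnePair A' C := fun h => no_pair hS hA hcC hCA0 hb' (Cfsg.RankOnePair_symm h)
  have hXY : ⁅A ⊔ C', A' ⊔ C⁆ = ⊥ := by
    refine sup_comm_bot ?_ ?_ <;> rw [Subgroup.commutator_comm] <;> refine sup_comm_bot ?_ ?_
    · exact le_bot_iff.1 ((Subgroup.commutator_mono (conj_le_sup hb') le_rfl).trans_eq (self_line hS hA hcA))
    · exact hCA0
    · exact conj_comm_bot hAC0 b⁻¹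
    · rw [Subgroup.commutator_comm]
      exact le_bot_iff.1 ((Subgroup.commutator_mono (conj_le_sup hb') le_rfl).trans_eq (self_line hS hC hcC))
  have hiff : ⁅A, C'⁆ = ⊥ ↔ ⁅A', C⁆ = ⊥ := by
    refine ⟨fun h => comm_transfer hS hA hcA hAC0 hb hb1 h, fun h => ?_⟩
    rw [Subgroup.commutator_comm] at h ⊢
    exact comm_transfer hS hC hcC hCA0 hb hb1 h
  have hN : (A ⊔ C') ⊔ (A' ⊔ C) = (A ⊔ ⁅A, B⁆) ⊔ (C ⊔ ⁅C, B⁆) := by
    rw [← sup_conj hcA hb' hb'1, ← sup_conj hcC hb' hb'1]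
    simp only [hA', hC', sup_assoc, sup_left_comm, sup_comm]
  set N := (A ⊔ C') ⊔ (A' ⊔ C) with hNdef
  have hAN : A ≤ N := le_sup_left.trans le_sup_left
  have hCN : C ≤ N := le_sup_right.trans le_sup_right
  refine ⟨?_, hXY, ?_, ?_, ?_⟩
  · by_cases h0 : ⁅A, C'⁆ = ⊥
    · exact Or.inl ⟨(commutative_sup hS hA hC'S).2 h0, (commutative_sup hS hA'S hC).2 (hiff.1 h0)⟩
    · exact Or.inr ⟨⟨fun hc => h0 ((commutative_sup hS hA hC'S).1 hc), class_two' hS hA hC'S hX⟩,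
        ⟨fun hc => h0 (hiff.2 ((commutative_sup hS hA'S hC).1 hc)), class_two' hS hA'S hC hY⟩⟩
  · intro r hr
    refine mem_normalizer_iff_conjBy.1 ?_
    have hle : A ⊔ B ⊔ C ≤ Subgroup.normalizer (N : Set G) := by
      refine sup_le (sup_le (hAN.trans Subgroup.le_normalizer) ?_) (hCN.trans Subgroup.le_normalizer)
      intro y hy
      rw [mem_normalizer_iff_conjBy]
      have key : ∀ y ∈ B, Cfsg.conjBy N y ≤ N := by
        intro y hy
        have hfixD : ∀ {P : Subgroup G}, Cfsg.RootCommutatorCase S P B →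
            Cfsg.conjBy (P ⊔ ⁅P, B⁆) y ≤ P ⊔ ⁅P, B⁆ := fun {P} hP => by
          rw [conjBy_sup, conjBy_eq_self_of_comm (A := ⁅P, B⁆)
            (fun c hc => (hP.2.1 c hc y (Subgroup.mem_sup_right hy)).symm)]
          exact sup_le (conj_le_sup hy) le_sup_right
        rw [hN, conjBy_sup]
        exact sup_le_sup (hfixD hcA) (hfixD hcC)
      refine le_antisymm (key y hy) ?_
      have h1 := conjBy_le (g := y) (key y⁻¹ (inv_mem hy))
      rwa [conjBy_cancel'] at h1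
    exact hle hr
  · refine le_antisymm (sup_le ?_ (le_sup_right.trans le_sup_left))
      (sup_le (sup_le (hAN.trans le_sup_left) le_sup_right) (hCN.trans le_sup_left))
    rw [hN]
    have hbr : ∀ {P : Subgroup G}, P ≤ A ⊔ B ⊔ C → ⁅P, B⁆ ≤ A ⊔ B ⊔ C := fun {P} hP =>
      Subgroup.commutator_le.2 fun p hp q hq => by
        have hq' : q ∈ A ⊔ B ⊔ C := Subgroup.mem_sup_left (Subgroup.mem_sup_right hq)
        exact mul_mem (mul_mem (mul_mem (hP hp) hq') (inv_mem (hP hp))) (inv_mem hq')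
    have hA0 : A ≤ A ⊔ B ⊔ C := le_sup_left.trans le_sup_left
    exact sup_le (sup_le hA0 (hbr hA0)) (sup_le le_sup_right (hbr le_sup_right))
  -- nilpotency through the upper central series
  set R := A ⊔ B ⊔ C with hR
  have hAR : A ≤ R := le_sup_left.trans le_sup_left
  have hBR : B ≤ R := le_sup_right.trans le_sup_left
  have hCR : C ≤ R := le_sup_right
  have hNR : N ≤ R := by
    rw [hN]
    refine sup_le (sup_le hAR (Subgroup.commutator_le.2 fun p hp q hq => ?_))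
      (sup_le hCR (Subgroup.commutator_le.2 fun p hp q hq => ?_))
    · exact mul_mem (mul_mem (mul_mem (hAR hp) (hBR hq)) (inv_mem (hAR hp))) (inv_mem (hBR hq))
    · exact mul_mem (mul_mem (mul_mem (hCR hp) (hBR hq)) (inv_mem (hCR hp))) (inv_mem (hBR hq))
  have hDN : ∀ d ∈ ⁅A, B⁆, d ∈ N := fun d hd => hN ▸ Subgroup.mem_sup_left (Subgroup.mem_sup_right hd)
  have hEN : ∀ e ∈ ⁅C, B⁆, e ∈ N := fun e he => hN ▸ Subgroup.mem_sup_right (Subgroup.mem_sup_right he)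
  have hcen : ∀ x ∈ N, ∀ y ∈ N, ∀ z ∈ N, Commute ⁅x, y⁆ z := by
    have hprod : ∀ x ∈ N, ∃ p ∈ A ⊔ C', ∃ q ∈ A' ⊔ C, x = p * q := by
      intro x hx
      have hle : A' ⊔ C ≤ Subgroup.normalizer ((A ⊔ C' : Subgroup G) : Set G) := fun q hq =>
        mem_normalizer_iff_conjBy.2 (conjBy_eq_self_of_comm fun p hp => (comm_iff.1 hXY p hp q hq).symm)
      have hx' : x ∈ (((A ⊔ C') ⊔ (A' ⊔ C) : Subgroup G) : Set G) := hx
      rw [Subgroup.coe_mul_of_right_le_normalizer_left _ _ hle] at hx'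
      obtain ⟨p, hp, q, hq, e⟩ := hx'
      exact ⟨p, hp, q, hq, e.symm⟩
    intro x hx y hy z hz
    obtain ⟨p, hp, q, hq, rfl⟩ := hprod x hx
    obtain ⟨p', hp', q', hq', rfl⟩ := hprod y hy
    obtain ⟨p'', hp'', q'', hq'', rfl⟩ := hprod z hz
    have hc : ∀ u ∈ A ⊔ C', ∀ v ∈ A' ⊔ C, Commute u v := fun u hu v hv => comm_iff.1 hXY u hu v hv
    have e : ⁅p * q, p' * q'⁆ = ⁅p, p'⁆ * ⁅q, q'⁆ := by
      have e1 : Commute q p' := (hc p' hp' q hq).symm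
      have e2 : Commute q' p := (hc p hp q' hq').symm
      have e3 : Commute q p'⁻¹ := e1.inv_right
      simp only [commutatorElement_def, mul_inv_rev]
      calc p * q * (p' * q') * (q⁻¹ * p⁻¹) * (q'⁻¹ * p'⁻¹)
          = p * (q * p') * q' * q⁻¹ * (p⁻¹ * q'⁻¹) * p'⁻¹ := by group
        _ = p * p' * (q * q' * q⁻¹ * q'⁻¹) * (p⁻¹ * p'⁻¹) := by
            rw [e1.eq, (e2.symm.inv_inv).eq]; group
        _ = _ := by
            have e4 : Commute (p⁻¹ * p'⁻¹) (q * q' * q⁻¹ * q'⁻¹) :=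
              hc _ (mul_mem (inv_mem hp) (inv_mem hp')) _
                (mul_mem (mul_mem (mul_mem hq hq') (inv_mem hq)) (inv_mem hq'))
            rw [mul_assoc, ← e4.eq]; group
    rw [e]
    have hpX : ⁅p, p'⁆ ∈ A ⊔ C' := mul_mem (mul_mem (mul_mem hp hp') (inv_mem hp)) (inv_mem hp')
    have hqY : ⁅q, q'⁆ ∈ A' ⊔ C := mul_mem (mul_mem (mul_mem hq hq') (inv_mem hq)) (inv_mem hq')
    refine Commute.mul_left ?_ ?_
    · exact (class_two hS hA hC'S hX p hp p' hp' p'' hp'').mul_right (hc _ hpX q'' hq'')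
    · exact ((hc p'' hp'' _ hqY).symm).mul_right (class_two hS hA'S hC hY q hq q' hq' q'' hq'')
  let s : Set R := {g | (g : G) ∈ A ∨ (g : G) ∈ B ∨ (g : G) ∈ C}
  have hs : Subgroup.closure s = ⊤ := by
    apply Subgroup.map_injective R.subtype_injective
    rw [MonoidHom.map_closure, ← MonoidHom.range_eq_map, Subgroup.range_subtype]
    refine le_antisymm ((Subgroup.closure_le _).2 ?_) ?_
    · rintro _ ⟨g, -, rfl⟩; exact g.2
    · exact sup_le (sup_le (fun g hg => Subgroup.subset_closure ⟨⟨g, hAR hg⟩, Or.inl hg, rfl⟩)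
        (fun g hg => Subgroup.subset_closure ⟨⟨g, hBR hg⟩, Or.inr (Or.inl hg), rfl⟩))
        (fun g hg => Subgroup.subset_closure ⟨⟨g, hCR hg⟩, Or.inr (Or.inr hg), rfl⟩)
  have hmono : ∀ {i j : ℕ}, i ≤ j → Subgroup.upperCentralSeries R i ≤ Subgroup.upperCentralSeries R j :=
    fun h => Subgroup.upperCentralSeries_mono R h
  have hone : ∀ (i : ℕ) (u v : R), Commute (u : G) v → ⁅u, v⁆ ∈ Subgroup.upperCentralSeries R i := by
    intro i u v h
    rw [commutatorElement_eq_one_iff_mul_comm.2 (Subtype.ext h.eq : u * v = v * u)]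
    exact one_mem _
  have hcA' : ∀ (g : R), (g : G) ∈ B → ∀ d ∈ ⁅A, B⁆, Commute d (g : G) := fun g hg d hd =>
    hcA.2.1 d hd g (Subgroup.mem_sup_right hg)
  have hcC' : ∀ (g : R), (g : G) ∈ B → ∀ e ∈ ⁅C, B⁆, Commute e (g : G) := fun g hg e he =>
    hcC.2.1 e he g (Subgroup.mem_sup_right hg)
  -- level one: commutators of `[A, B]` with `[C, B]`
  have L1 : ∀ d e : R, (d : G) ∈ ⁅A, B⁆ → (e : G) ∈ ⁅C, B⁆ →
      ⁅d, e⁆ ∈ Subgroup.upperCentralSeries R 1 := by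
    intro d e hd he
    refine mem_succ s hs _ 0 fun g hg => hone 0 _ g ?_
    show Commute ⁅(d : G), (e : G)⁆ g
    rcases hg with hg | hg | hg
    · exact hcen _ (hDN _ hd) _ (hEN _ he) _ (hAN hg)
    · rw [commutatorElement_def]
      exact (((hcA' g hg _ hd).mul_left (hcC' g hg _ he)).mul_left (hcA' g hg _ hd).inv_left).mul_left
        (hcC' g hg _ he).inv_left
    · exact hcen _ (hDN _ hd) _ (hEN _ he) _ (hCN hg)
  -- level two
  have L2 : ∀ (P Q : Subgroup G), P ≤ N → (∀ g : R, (g : G) ∈ B → ∀ q ∈ ⁅Q, B⁆, Commute q (g : G)) →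
      ⁅Q, B⁆ ≤ N → (∀ d e : R, (d : G) ∈ ⁅P, B⁆ → (e : G) ∈ ⁅Q, B⁆ → ⁅d, e⁆ ∈ Subgroup.upperCentralSeries R 1) →
      ⁅P, B⁆ ≤ N → ∀ p e : R, (p : G) ∈ P → (e : G) ∈ ⁅Q, B⁆ → ⁅p, e⁆ ∈ Subgroup.upperCentralSeries R 2 := by
    intro P Q hPN hQc hQN h1 hPBN p e hp he
    refine mem_succ s hs _ 1 fun g hg => ?_
    rcases hg with hg | hg | hg
    · exact hone 1 _ g (hcen _ (hPN hp) _ (hQN he) _ (hAN hg))
    · set d : R := ⁅g, p⁆ with hd
      have hdP : (d : G) ∈ ⁅P, B⁆ := by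
        rw [Subgroup.commutator_comm]
        exact Subgroup.commutator_mem_commutator hg hp
      have e1 : g * ⁅p, e⁆ * g⁻¹ = d * ⁅p, e⁆ * d⁻¹ * ⁅d, e⁆ := by
        have he' : g * e * g⁻¹ = e := by
          have h' : g * e = e * g := Subtype.ext (hQc g hg _ he).symm.eq
          rw [h', mul_inv_cancel_right]
        calc g * ⁅p, e⁆ * g⁻¹ = ⁅d * p, g * e * g⁻¹⁆ := by simp [hd, commutatorElement_def]; group
          _ = _ := by rw [he']; simp [commutatorElement_def]; group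
      have e2 : d * ⁅p, e⁆ * d⁻¹ = ⁅p, e⁆ := by
        have h' : d * ⁅p, e⁆ = ⁅p, e⁆ * d :=
          Subtype.ext (hcen _ (hPN hp) _ (hQN he) _ (hPBN hdP)).symm.eq
        rw [h', mul_inv_cancel_right]
      rw [e2] at e1
      rw [show ⁅⁅p, e⁆, g⁆ = ⁅p, e⁆ * (g * ⁅p, e⁆ * g⁻¹)⁻¹ by simp [commutatorElement_def]; group, e1,
        mul_inv_rev, ← mul_assoc]
      exact (inferInstance : (Subgroup.upperCentralSeries R 1).Normal).conj_mem _ (inv_mem (h1 d e hdP he)) _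
    · exact hone 1 _ g (hcen _ (hPN hp) _ (hQN he) _ (hCN hg))
  have hDle : ⁅A, B⁆ ≤ N := hDN
  have hEle : ⁅C, B⁆ ≤ N := hEN
  have L2a := L2 A C hAN hcC' hEle L1 hDle
  have L2c := L2 C A hCN hcA' hDle (fun e d he hd => by
    rw [← commutatorElement_inv]; exact inv_mem (L1 d e hd he)) hEle
  -- level three
  have L3d : ∀ d : R, (d : G) ∈ ⁅A, B⁆ → d ∈ Subgroup.upperCentralSeries R 3 := by
    intro d hd
    refine mem_succ s hs _ 2 fun g hg => ?_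
    rcases hg with hg | hg | hg
    · exact hone 2 d g (hcA.2.1 _ hd _ (Subgroup.mem_sup_left hg))
    · exact hone 2 d g (hcA' g hg _ hd)
    · rw [← commutatorElement_inv]; exact inv_mem (L2c g d hg hd)
  have L3e : ∀ e : R, (e : G) ∈ ⁅C, B⁆ → e ∈ Subgroup.upperCentralSeries R 3 := by
    intro e he
    refine mem_succ s hs _ 2 fun g hg => ?_
    rcases hg with hg | hg | hg
    · rw [← commutatorElement_inv]; exact inv_mem (L2a g e hg he)
    · exact hone 2 e g (hcC' g hg _ he)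
    · exact hone 2 e g (hcC.2.1 _ he _ (Subgroup.mem_sup_left hg))
  have L4 : ∀ x : R, (x : G) ∈ A ∨ (x : G) ∈ C → x ∈ Subgroup.upperCentralSeries R 4 := by
    intro x hx
    refine mem_succ s hs _ 3 fun g hg => ?_
    rcases hg with hg | hg | hg <;> rcases hx with hx | hx
    · exact hone 3 x g (commute_of_bracket_bot (commutative_bracket (hS.commutative A hA)) hx hg)
    · exact hone 3 x g (commute_of_bracket_bot hCA0 hx hg)
    · exact L3d _ (Subgroup.commutator_mem_commutator hx hg)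
    · exact L3e _ (Subgroup.commutator_mem_commutator hx hg)
    · exact hone 3 x g (commute_of_bracket_bot hAC0 hx hg)
    · exact hone 3 x g (commute_of_bracket_bot (commutative_bracket (hS.commutative C hC)) hx hg)
  refine ⟨⟨5, ?_⟩⟩
  rw [eq_top_iff, ← hs, Subgroup.closure_le]
  rintro x (hx | hx | hx)
  · exact hmono (by norm_num) (L4 x (Or.inl hx))
  · refine mem_succ s hs _ 4 fun g hg => ?_
    rcases hg with hg | hg | hg
    · rw [← commutatorElement_inv]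
      exact inv_mem (hmono (by norm_num) (L3d _ (Subgroup.commutator_mem_commutator hg hx)))
    · exact hone 4 x g (commute_of_bracket_bot (commutative_bracket (hS.commutative B hB)) hx hg)
    · rw [← commutatorElement_inv]
      exact inv_mem (hmono (by norm_num) (L3e _ (Subgroup.commutator_mem_commutator hg hx)))
  · exact hmono (by norm_num) (L4 x (Or.inr hx))

end Cfsg.Agent.S5030
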