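import Cfsg.Statements.S5031
import Cfsg.Agent.Lib.Classical.RankOneCommutator

set_option autoImplicit false
open Cfsg

namespace Cfsg.Agent.S5031

open Cfsg.Agent.Classical.RankOne
open scoped commutatorElement

theorem commutes_conj {G : Type*} [Group G] {S : Set (Subgroup G)} (hS : Cfsg.IsRootSubgroupSet S)
    {A A' : Subgroup G} (hA : A ∈ S) {x : G} (hx : x ∈ A') (hA' : A' ∈ S)
    (hn : ¬ Cfsg.IsRankOnePair A' A) : ⁅Cfsg.conjBy A x, A⁆ = ⊥ := by
  rcases hS.pair A' hA' A hA with h | h | h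
  · rw [conjBy_eq_self_of_comm (fun a ha => commute_of_bracket_bot h hx ha)]
    exact commutative_bracket (hS.commutative A hA)
  · exact absurd h hn
  · exact comm_case_conj (hS.commutative A hA) h hx

/-- The member through `a b` is a rank one partner of every partner of `A` lying in another component. -/
theorem key {G : Type*} [Group G] {S : Set (Subgroup G)} (hS : Cfsg.IsRootSubgroupSet S)
    {A A' B E : Subgroup G} (hA' : A' ∈ S) (hB : B ∈ S) (hE : E ∈ S) (hAA : Cfsg.IsRankOnePair A A')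
    (hcomm : ⁅A, B⁆ = ⊥) (hBA : ¬ Cfsg.IsRankOnePair B A') {a b : G} (ha : a ∈ A) (ha1 : a ≠ 1)
    (hb : b ∈ B) (hab : a * b ∈ E) : Cfsg.IsRankOnePair E A' := by
  by_contra hn
  set Q := Cfsg.conjBy A' b with hQ
  have h1 : ⁅Q, A'⁆ = ⊥ := commutes_conj hS hA' hb hB hBA
  have h2 : ⁅Cfsg.conjBy Q a, A'⁆ = ⊥ := by
    rw [hQ, ← conjBy_mul]
    exact commutes_conj hS hA' hab hE hn
  have h3 : ⁅Q, Cfsg.conjBy A' a⁻¹⁆ = ⊥ := by
    have h := congrArg (fun K : Subgroup G => Cfsg.conjBy K a⁻¹) h2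
    change (Subgroup.map _ ⁅_, _⁆) = Subgroup.map _ ⊥ at h
    rw [Subgroup.map_commutator, Subgroup.map_bot] at h
    change ⁅Cfsg.conjBy (Cfsg.conjBy Q a) a⁻¹, Cfsg.conjBy A' a⁻¹⁆ = ⊥ at h
    rwa [conjBy_cancel] at h
  have hne : Cfsg.conjBy A' a⁻¹ ≠ A' := not_normalise hAA ha ha1
  have hsup := (pair_of_ne hAA (conj_mem' (right_mem hAA) (Subgroup.mem_sup_left (inv_mem ha)))
    (right_mem hAA) hne).2
  have hX : A ≤ Subgroup.centralizer (Q : Set G) := by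
    refine le_trans (le_sup_left (b := A')) ?_
    rw [← hsup]
    refine sup_le ?_ ?_ <;> rw [← Subgroup.commutator_eq_bot_iff_le_centralizer, Subgroup.commutator_comm]
    · exact h3
    · exact h1
  refine not_commuting hAA ?_
  rw [Subgroup.commutator_eq_bot_iff_le_centralizer]
  intro x hx y hy
  have e := hX hx (b * y * b⁻¹) ⟨y, hy, rfl⟩
  have e2 := commute_of_bracket_bot hcomm hx hb
  have e3 : b⁻¹ * x = x * b⁻¹ := (Commute.inv_right (Commute.symm e2 : Commute b x).symm).symm.eq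
  calc y * x = b⁻¹ * (b * y * b⁻¹ * x) * b := by
        rw [show b⁻¹ * (b * y * b⁻¹ * x) * b = y * (b⁻¹ * x) * b by group, e3]; group
    _ = b⁻¹ * (x * (b * y * b⁻¹)) * b := by rw [e]
    _ = x * y := by rw [show b⁻¹ * (x * (b * y * b⁻¹)) * b = b⁻¹ * x * b * y by group, e3]; group
/-- Let S be a set of abstract root subgroups of G and let A, B ∈ S lie in different connected components of the graph of rank one pairs on S, each component having more than one member. Then B is not a line partner of A. -/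
theorem result {G : Type*} [Group G] {S : Set (Subgroup G)} (hS : Cfsg.IsRootSubgroupSet S)
    {A B : Subgroup G} (hA : A ∈ S) (hB : B ∈ S)
    (hne : Cfsg.componentOf (Cfsg.FAdj S) S A ≠ Cfsg.componentOf (Cfsg.FAdj S) S B)
    (hA2 : ∃ A' ∈ Cfsg.componentOf (Cfsg.FAdj S) S A, A' ≠ A) (hB2 : ∃ B' ∈ Cfsg.componentOf (Cfsg.FAdj S) S B, B' ≠ B) :
    B ∉ Cfsg.linePartners S A := by
  rintro ⟨⟨-, -, hcomm⟩, hpart⟩
  have hsymm : ∀ P Q, Cfsg.FAdj S P Q → Cfsg.FAdj S Q P := fun P Q h =>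
    ⟨h.2.1, h.1, Cfsg.RankOnePair_symm h.2.2⟩
  have hrev : ∀ P Q, Relation.ReflTransGen (Cfsg.FAdj S) P Q → Relation.ReflTransGen (Cfsg.FAdj S) Q P := by
    intro P Q h
    induction h with
    | refl => exact Relation.ReflTransGen.refl
    | tail _ hadj ih => exact ih.head (hsymm _ _ hadj)
  have hdiff : ∀ P, P ∈ Cfsg.componentOf (Cfsg.FAdj S) S A → ¬ P ∈ Cfsg.componentOf (Cfsg.FAdj S) S B := by
    rintro P ⟨-, hAP⟩ ⟨-, hBP⟩
    refine hne (Set.ext fun X => ⟨fun hX => ⟨hX.1, (hBP.trans (hrev _ _ hAP)).trans hX.2⟩,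
      fun hX => ⟨hX.1, (hAP.trans (hrev _ _ hBP)).trans hX.2⟩⟩)
  have hpartner : ∀ P : Subgroup G, (∃ Q ∈ Cfsg.componentOf (Cfsg.FAdj S) S P, Q ≠ P) →
      ∃ Q, Q ∈ S ∧ Cfsg.IsRankOnePair P Q := by
    rintro P ⟨Q, hQ, hne⟩
    rcases hQ.2.cases_head with h | ⟨R, hR, -⟩
    · exact absurd h.symm hne
    · exact ⟨R, hR.2.1, hR.2.2⟩
  obtain ⟨A', hA', hAA⟩ := hpartner A hA2
  obtain ⟨B', hB', hBB⟩ := hpartner B hB2
  have hmA : A' ∈ Cfsg.componentOf (Cfsg.FAdj S) S A := ⟨hA', .single ⟨hA, hA', hAA⟩⟩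
  have hmB : B' ∈ Cfsg.componentOf (Cfsg.FAdj S) S B := ⟨hB', .single ⟨hB, hB', hBB⟩⟩
  have hBA : ¬ Cfsg.IsRankOnePair B A' := fun h => hdiff A' hmA ⟨hA', .single ⟨hB, hA', h⟩⟩
  have hAB : ¬ Cfsg.IsRankOnePair A B' := fun h => hdiff B' ⟨hB', .single ⟨hA, hB', h⟩⟩ hmB
  obtain ⟨a, ha, ha1⟩ := left_ne_bot hAA
  obtain ⟨b, hb, hb1⟩ := left_ne_bot hBB
  have hab1 : a * b ≠ 1 := by
    intro h
    have haB : a ∈ B := by rw [eq_inv_of_mul_eq_one_left h]; exact inv_mem hb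
    have hBA' : B = A := eq_of_inter hS hAA hA' hB ha haB ha1
    exact hne (by rw [hBA'])
  obtain ⟨E, hE, habE⟩ := hpart.2.1 (a * b)
    (mul_mem (Subgroup.mem_sup_left ha) (Subgroup.mem_sup_right hb)) hab1
  have h1 := key hS hA' hB hE.1 hAA hcomm hBA ha ha1 hb habE
  have h2 := key hS hB' hA hE.1 hBB (by rw [Subgroup.commutator_comm]; exact hcomm) hAB hb hb1 ha
    (commute_of_bracket_bot hcomm ha hb ▸ habE)
  refine hdiff E ⟨hE.1, hmA.2.tail ⟨hA', hE.1, Cfsg.RankOnePair_symm h1⟩⟩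
    ⟨hE.1, hmB.2.tail ⟨hB', hE.1, Cfsg.RankOnePair_symm h2⟩⟩

end Cfsg.Agent.S5031
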