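import Cfsg.Statements.S5032
import Cfsg.Agent.Lib.Classical.RankOneCommutator
import Cfsg.Agent.S5031

set_option autoImplicit false
open Cfsg

namespace Cfsg.Agent.S5032

open Cfsg.Agent.Classical.RankOne
open scoped commutatorElement

variable {G : Type*} [Group G] {S : Set (Subgroup G)}

theorem adj_conj (hS : Cfsg.IsRootSubgroupSet S) (g : G) {P Q : Subgroup G} (h : Cfsg.FAdj S P Q) :
    Cfsg.FAdj S (Cfsg.conjBy P g) (Cfsg.conjBy Q g) :=
  ⟨hS.conj_mem _ h.1 g, hS.conj_mem _ h.2.1 g, conj_pair h.2.2 g⟩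

theorem reach_conj (hS : Cfsg.IsRootSubgroupSet S) (g : G) {P Q : Subgroup G}
    (h : Relation.ReflTransGen (Cfsg.FAdj S) P Q) :
    Relation.ReflTransGen (Cfsg.FAdj S) (Cfsg.conjBy P g) (Cfsg.conjBy Q g) := by
  induction h with
  | refl => exact Relation.ReflTransGen.refl
  | tail _ hadj ih => exact ih.tail (adj_conj hS g hadj)

theorem reach_symm {P Q : Subgroup G} (h : Relation.ReflTransGen (Cfsg.FAdj S) P Q) :
    Relation.ReflTransGen (Cfsg.FAdj S) Q P := by
  induction h with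
  | refl => exact Relation.ReflTransGen.refl
  | tail _ hadj ih => exact ih.head ⟨hadj.2.1, hadj.1, Cfsg.RankOnePair_symm hadj.2.2⟩

theorem reach_gen (hS : Cfsg.IsRootSubgroupSet S) (hall : ∀ A ∈ S, ∃ A', A' ∈ S ∧ Cfsg.IsRankOnePair A A')
    {A B : Subgroup G} (hA : A ∈ S) (hB : B ∈ S) {b : G} (hb : b ∈ B) :
    Relation.ReflTransGen (Cfsg.FAdj S) A (Cfsg.conjBy A b) := by
  obtain ⟨A', hA', hAA⟩ := hall A hA
  by_cases he : Cfsg.conjBy A b = A
  · rw [he]
  rcases hS.pair A hA B hB with h | h | h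
  · exact absurd (conjBy_eq_self_of_comm fun a ha => (commute_of_bracket_bot h ha hb).symm) he
  · have h1 : Cfsg.FAdj S A B := ⟨hA, hB, h⟩
    have h2 := adj_conj hS b h1
    rw [conjBy_of_mem hb] at h2
    exact (Relation.ReflTransGen.single h1).tail ⟨h2.2.1, h2.1, Cfsg.RankOnePair_symm h2.2.2⟩
  by_contra hcon
  have hb1 : b ≠ 1 := fun h => he (by rw [h, conjBy_one])
  have hAb := hS.conj_mem A hA b
  obtain ⟨A'', hA'', hAA''⟩ := hall _ hAb
  refine Cfsg.Agent.S5031.result hS hA hAb ?_ ?_ ?_ ⟨⟨hAb, he, ?_⟩, ?_⟩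
  · intro heq
    exact hcon (show Cfsg.conjBy A b ∈ Cfsg.componentOf (Cfsg.FAdj S) S A from
      heq ▸ ⟨hAb, Relation.ReflTransGen.refl⟩).2
  · exact ⟨A', ⟨hA', .single ⟨hA, hA', hAA⟩⟩, hAA.ne.symm⟩
  · exact ⟨A'', ⟨hA'', .single ⟨hAb, hA'', hAA''⟩⟩, hAA''.ne.symm⟩
  · rw [Subgroup.commutator_eq_bot_iff_le_centralizer]
    intro x hx y hy
    obtain ⟨a, ha, rfl⟩ := hy
    have e := h.2.1 _ (Subgroup.commutator_mem_commutator (inv_mem ha) hb) x (Subgroup.mem_sup_left hx)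
    have e2 : a * x = x * a := commute_of_bracket_bot (commutative_bracket (hS.commutative A hA)) ha hx
    change b * a * b⁻¹ * x = x * (b * a * b⁻¹)
    rw [show b * a * b⁻¹ = a * ⁅a⁻¹, b⁆ by rw [commutatorElement_def]; group, mul_assoc, e,
      ← mul_assoc, e2, mul_assoc]
  · have hsup : A ⊔ Cfsg.conjBy A b = A ⊔ ⁅A, B⁆ := by
      refine le_antisymm (sup_le le_sup_left (conj_le_sup hb)) (sup_le le_sup_left ?_)
      conv_lhs => rw [← h.2.2.2 b hb hb1]
      rw [Subgroup.closure_le]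
      rintro _ ⟨a, ha, rfl⟩
      rw [SetLike.mem_coe]
      show a * b * a⁻¹ * b⁻¹ ∈ _
      rw [show a * b * a⁻¹ * b⁻¹ = a * (b * a⁻¹ * b⁻¹) by group]
      exact mul_mem (Subgroup.mem_sup_left ha) (Subgroup.mem_sup_right ⟨a⁻¹, inv_mem ha, rfl⟩)
    rw [hsup]
    exact partition_sup hS hAA hA hA' hB h
/-- Let S be a set of abstract root subgroups of G with more than one member. Then the graph of rank one pairs on S is connected if and only if S is a single conjugacy class of G and some member of S has a rank one partner in S. -/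
theorem result {G : Type*} [Group G] {S : Set (Subgroup G)} (hS : Cfsg.IsRootSubgroupSet S) (h2 : ∃ A ∈ S, ∃ B ∈ S, A ≠ B) :
    Cfsg.IsConnectedFamily (Cfsg.FAdj S) S ↔
      (Cfsg.IsConjClassOfSubgroups S ∧ ∃ A ∈ S, ¬ Cfsg.IsIsolatedIn (Cfsg.FAdj S) S A) := by
  constructor
  · intro hc
    refine ⟨⟨?_, fun A hA B hB => ?_⟩, ?_⟩
    · obtain ⟨A, hA, -⟩ := h2
      exact ⟨A, hA⟩
    · have hr := hc A hA B hB
      clear hB
      induction hr with
      | refl => exact ⟨1, (conjBy_one A).symm⟩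
      | tail _ hadj ih =>
        obtain ⟨g, hg⟩ := ih
        obtain ⟨x, -, hx⟩ := right_mem hadj.2.2
        exact ⟨x * g, by rw [conjBy_mul, ← hg]; exact hx⟩
    · obtain ⟨A, hA, B, hB, hne⟩ := h2
      refine ⟨A, hA, fun hiso => ?_⟩
      rcases (hc A hA B hB).cases_head with h | ⟨C, hC, -⟩
      · exact hne h
      · exact (hiso.2 C).1 hC
  rintro ⟨⟨-, hconj⟩, A₀, hA₀, hiso⟩
  obtain ⟨A₀', hA₀', hAA₀⟩ := exists_partner hiso hA₀
  have hall : ∀ A ∈ S, ∃ A', A' ∈ S ∧ Cfsg.IsRankOnePair A A' := by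
    intro A hA
    obtain ⟨g, rfl⟩ := hconj A₀ hA₀ A hA
    exact ⟨_, hS.conj_mem A₀' hA₀' g, conj_pair hAA₀ g⟩
  have key : ∀ g : G, ∀ A ∈ S, Relation.ReflTransGen (Cfsg.FAdj S) A (Cfsg.conjBy A g) := by
    let K : Subgroup G :=
      { carrier := {g | ∀ A ∈ S, Relation.ReflTransGen (Cfsg.FAdj S) A (Cfsg.conjBy A g)}
        one_mem' := fun A _ => by rw [conjBy_one]
        mul_mem' := fun {g g'} hg hg' A hA => by
          rw [conjBy_mul]
          exact (hg' A hA).trans (hg _ (hS.conj_mem A hA g'))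
        inv_mem' := fun {g} hg A hA => by
          have := hg _ (hS.conj_mem A hA g⁻¹)
          rw [conjBy_cancel'] at this
          exact reach_symm this }
    have hle : (⨆ B ∈ S, B) ≤ K := iSup₂_le fun B hB b hb A hA => reach_gen hS hall hA hB hb
    rw [hS.generates] at hle
    exact fun g => hle trivial
  intro A hA B hB
  obtain ⟨g, rfl⟩ := hconj A hA B hB
  exact key g A hA

end Cfsg.Agent.S5032
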