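import Cfsg.Statements.S5036
import Cfsg.Agent.Lib.Classical.RankOneCommutator

set_option autoImplicit false
open Cfsg

namespace Cfsg.Agent.S5036

open Cfsg.Agent.Classical.RankOne
open scoped commutatorElement

variable {G : Type*} [Group G] {S : Set (Subgroup G)}

/-- The symmetric form of the hypotheses. -/
structure Config (S : Set (Subgroup G)) (A B C D : Subgroup G) : Prop where
  hS : Cfsg.IsRootSubgroupSet S
  hA : A ∈ S
  hB : B ∈ S
  hC : C ∈ S
  hD : D ∈ S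
  eC : ⁅A, B⁆ = C
  eA : ⁅C, D⁆ = A

namespace Config

variable {A B C D : Subgroup G}

theorem symm (h : Config S A B C D) : Config S C D A B :=
  ⟨h.hS, h.hC, h.hD, h.hA, h.hB, h.eA, h.eC⟩

theorem case (h : Config S A B C D) : Cfsg.RootCommutatorCase S A B :=
  commutator_case h.hS h.hA h.hB (h.eC ▸ h.hC)

theorem C_comm_B (h : Config S A B C D) {c b : G} (hc : c ∈ C) (hb : b ∈ B) : c * b = b * c :=
  h.case.2.1 c (h.eC.symm ▸ hc) b (Subgroup.mem_sup_right hb)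

theorem C_comm_A (h : Config S A B C D) {c a : G} (hc : c ∈ C) (ha : a ∈ A) : c * a = a * c :=
  h.case.2.1 c (h.eC.symm ▸ hc) a (Subgroup.mem_sup_left ha)

theorem C_ne_bot (h : Config S A B C D) : C ≠ ⊥ := h.hS.ne_bot _ h.hC

theorem not_fixed (h : Config S A B C D) {a : G} (ha : a ∈ A) (hall : ∀ b ∈ B, a * b = b * a) :
    a = 1 := by
  by_contra ha1
  refine h.C_ne_bot ?_
  rw [← h.eC, ← h.case.2.2.1 a ha ha1, Subgroup.closure_eq_bot_iff]
  rintro _ ⟨b, hb, rfl⟩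
  exact Set.mem_singleton_iff.2 (by
    show a * b * a⁻¹ * b⁻¹ = 1
    rw [hall b hb]; group)

theorem inter (h : Config S A B C D) {z : G} (hz : z ∈ A) (hz' : z ∈ C) : z = 1 :=
  h.not_fixed hz fun _ hb => h.C_comm_B hz' hb

theorem conj_C (h : Config S A B C D) {b : G} (hb : b ∈ B) : Cfsg.conjBy C b = C :=
  conjBy_eq_self_of_comm fun _ hc => (h.C_comm_B hc hb).symm

theorem conj_N (h : Config S A B C D) {b : G} (hb : b ∈ B) : Cfsg.conjBy (A ⊔ C) b = A ⊔ C := by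
  have key : ∀ x ∈ B, Cfsg.conjBy (A ⊔ C) x ≤ A ⊔ C := fun x hx => by
    rw [conjBy_sup, h.conj_C hx]
    have h1 := conj_le_sup (A := A) hx
    rw [h.eC] at h1
    exact sup_le h1 le_sup_right
  refine le_antisymm (key b hb) ?_
  have h1 := conjBy_le (g := b) (key b⁻¹ (inv_mem hb))
  rwa [conjBy_cancel'] at h1

theorem conj_N' (h : Config S A B C D) {d : G} (hd : d ∈ D) : Cfsg.conjBy (A ⊔ C) d = A ⊔ C := by
  rw [sup_comm]; exact h.symm.conj_N hd

theorem normal_N (h : Config S A B C D) {x : G} (hx : x ∈ B ⊔ D) : Cfsg.conjBy (A ⊔ C) x = A ⊔ C := by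
  rw [← mem_normalizer_iff_conjBy]
  have hle : B ⊔ D ≤ Subgroup.normalizer ((A ⊔ C : Subgroup G) : Set G) :=
    sup_le (fun b hb => mem_normalizer_iff_conjBy.2 (h.conj_N hb))
      (fun d hd => mem_normalizer_iff_conjBy.2 (h.conj_N' hd))
  exact hle hx

theorem fixed_eq (h : Config S A B C D) {x : G} (hx : x ∈ A ⊔ C) (hall : ∀ b ∈ B, x * b = b * x) :
    x ∈ C := by
  rcases mem_sup_cases h.case (h.eC.symm ▸ hx) with hc | ⟨a, ha, ha1, b₀, hb₀, rfl⟩
  · exact h.eC ▸ hc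
  refine absurd (h.not_fixed ha fun b hb => ?_) ha1
  have e := hall b hb
  have hc := commute_of_bracket_bot (commutative_bracket (h.hS.commutative B h.hB)) hb₀ hb
  have hc' : b₀⁻¹ * b = b * b₀⁻¹ := (Commute.inv_left (hc : Commute b₀ b)).eq
  calc a * b = b₀⁻¹ * (b₀ * a * b₀⁻¹ * b) * b₀ := by
        rw [show b₀⁻¹ * (b₀ * a * b₀⁻¹ * b) * b₀ = a * (b₀⁻¹ * b) * b₀ by group, hc']; group
    _ = b₀⁻¹ * (b * (b₀ * a * b₀⁻¹)) * b₀ := by rw [e]
    _ = b * a := by
        rw [show b₀⁻¹ * (b * (b₀ * a * b₀⁻¹)) * b₀ = b₀⁻¹ * b * b₀ * a by group, hc']; group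

/-- A centraliser of `B` inside `B ⊔ D` normalising `N` normalises `C`. -/
theorem conj_C_of_central (h : Config S A B C D) {e : G} (hN : Cfsg.conjBy (A ⊔ C) e = A ⊔ C)
    (he : ∀ b ∈ B, e * b = b * e) : Cfsg.conjBy C e = C := by
  have key : ∀ g : G, Cfsg.conjBy (A ⊔ C) g = A ⊔ C → (∀ b ∈ B, g * b = b * g) →
      Cfsg.conjBy C g ≤ C := by
    intro g hgN hg y hy
    refine h.fixed_eq ?_ fun b hb => ?_
    · rw [← hgN]; exact conjBy_le le_sup_right hy
    · obtain ⟨c, hc, rfl⟩ := hy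
      show g * c * g⁻¹ * b = b * (g * c * g⁻¹)
      have h1 : Commute g b := hg b hb
      exact ((h1.mul_left (h.C_comm_B hc hb : Commute c b)).mul_left h1.inv_left).eq
  refine le_antisymm (key e hN he) ?_
  have h1 := conjBy_le (g := e) (key e⁻¹ (by rw [← hN, conjBy_cancel, hN])
    fun b hb => (Commute.inv_left (he b hb : Commute e b)).eq)
  rwa [conjBy_cancel'] at h1

theorem not_pair_of_fix {P Q : Subgroup G} (hP : P ≠ ⊥) (hfix : ∀ x ∈ P, Cfsg.conjBy Q x = Q) :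
    ¬ Cfsg.IsRankOnePair P Q := fun h => by
  obtain ⟨x, hx, hx1⟩ := left_ne_bot h
  exact not_normalise h hx hx1 (hfix x⁻¹ (inv_mem hx))

theorem pair (h : Config S A B C D) : Cfsg.IsRankOnePair B D := by
  rcases h.hS.pair B h.hB D h.hD with h0 | h1 | h2
  · refine absurd ?_ h.C_ne_bot
    rw [← h.eC, Subgroup.commutator_eq_bot_iff_le_centralizer, ← h.eA, Subgroup.commutator_le]
    intro c hc d hd
    rw [Subgroup.mem_centralizer_iff]
    intro b hb
    have h1 : Commute c b := h.C_comm_B hc hb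
    have h2 : Commute d b := (commute_of_bracket_bot h0 hb hd).symm
    rw [commutatorElement_def]
    exact (((h1.mul_left h2).mul_left h1.inv_left).mul_left h2.inv_left).symm.eq
  · exact h1
  exfalso
  set E := ⁅B, D⁆ with hE
  have hEle : E ≤ B ⊔ D := Subgroup.commutator_le.2 fun b hb d hd =>
    mul_mem (mul_mem (mul_mem (Subgroup.mem_sup_left hb) (Subgroup.mem_sup_right hd))
      (inv_mem (Subgroup.mem_sup_left hb))) (inv_mem (Subgroup.mem_sup_right hd))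
  have hEB : ∀ e ∈ E, ∀ b ∈ B, e * b = b * e := fun e he b hb => h2.2.1 e he b (Subgroup.mem_sup_left hb)
  have hED : ∀ e ∈ E, ∀ d ∈ D, e * d = d * e := fun e he d hd => h2.2.1 e he d (Subgroup.mem_sup_right hd)
  have hEC : ∀ e ∈ E, Cfsg.conjBy C e = C := fun e he =>
    h.conj_C_of_central (h.normal_N (hEle he)) (hEB e he)
  have hEA : ∀ e ∈ E, Cfsg.conjBy A e = A := fun e he => h.symm.conj_C_of_central
    (by rw [sup_comm]; exact h.normal_N (hEle he)) (hED e he)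
  have hEA' : ⁅E, A⁆ = ⊥ := by
    rcases h.hS.pair E h2.1 A h.hA with k0 | k1 | k2
    · exact k0
    · exact absurd k1 (not_pair_of_fix (h.hS.ne_bot _ h2.1) hEA)
    exfalso
    obtain ⟨m, hm, hm1⟩ := (Subgroup.bot_or_exists_ne_one _).resolve_left (h.hS.ne_bot _ k2.1)
    have hMA : ⁅E, A⁆ ≤ A := Subgroup.commutator_le.2 fun e he a ha => by
      have : e * a * e⁻¹ ∈ A :=
        (Subgroup.mem_normalizer_iff.1 (mem_normalizer_iff_conjBy.2 (hEA e he)) a).1 ha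
      exact mul_mem this (inv_mem ha)
    have hcomA := commutative_bracket (h.hS.commutative A h.hA)
    -- the commutator map with `B` carries `[E, A]` into `[E, C]`
    have key : ∀ x ∈ ⁅E, A⁆, x ∈ A ∧ ∀ b ∈ B, ⁅x, b⁆ ∈ ⁅E, C⁆ := by
      let K : Subgroup G :=
        { carrier := {x | x ∈ A ∧ ∀ b ∈ B, ⁅x, b⁆ ∈ ⁅E, C⁆}
          one_mem' := ⟨one_mem _, fun b _ => by rw [commutatorElement_one_left]; exact one_mem _⟩
          mul_mem' := fun {x y} hx hy => ⟨mul_mem hx.1 hy.1, fun b hb => by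
            have e1 := h.C_comm_A (h.eC ▸ Subgroup.commutator_mem_commutator hy.1 hb) hx.1
            rw [show ⁅x * y, b⁆ = x * ⁅y, b⁆ * x⁻¹ * ⁅x, b⁆ by simp [commutatorElement_def]; group,
              ← e1, mul_inv_cancel_right]
            exact mul_mem (hy.2 b hb) (hx.2 b hb)⟩
          inv_mem' := fun {x} hx => ⟨inv_mem hx.1, fun b hb => by
            have e1 := h.C_comm_A (h.eC ▸ Subgroup.commutator_mem_commutator hx.1 hb) (inv_mem hx.1)
            have e2 : ⁅x⁻¹, b⁆ = x⁻¹ * ⁅x, b⁆⁻¹ * x := by simp [commutatorElement_def]; group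
            have e3 : Commute ⁅x, b⁆ x⁻¹ := e1
            rw [e2, ← (Commute.inv_left e3).eq, inv_mul_cancel_right]
            exact inv_mem (hx.2 b hb)⟩ }
      intro x hx
      refine (Subgroup.commutator_le.2 ?_ : ⁅E, A⁆ ≤ K) hx
      intro e he a ha
      refine ⟨hMA (Subgroup.commutator_mem_commutator he ha), fun b hb => ?_⟩
      have hab : ⁅a, b⁆ ∈ C := h.eC ▸ Subgroup.commutator_mem_commutator ha hb
      have hconj : e * a * e⁻¹ ∈ A :=
        (Subgroup.mem_normalizer_iff.1 (mem_normalizer_iff_conjBy.2 (hEA e he)) a).1 ha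
      have e1 : ⁅e * a * e⁻¹, b⁆ = e * ⁅a, b⁆ * e⁻¹ := by
        have hh : Commute e b := hEB e he b hb
        have h' : e * b * e⁻¹ = b := by rw [hh.eq, mul_inv_cancel_right]
        calc ⁅e * a * e⁻¹, b⁆ = ⁅e * a * e⁻¹, e * b * e⁻¹⁆ := by rw [h']
          _ = _ := by simp [commutatorElement_def]; group
      have e2 : ⁅a⁻¹, b⁆ = ⁅a, b⁆⁻¹ := by
        have e3 : Commute ⁅a, b⁆ a⁻¹ := h.C_comm_A hab (inv_mem ha)
        rw [show ⁅a⁻¹, b⁆ = a⁻¹ * ⁅a, b⁆⁻¹ * a by simp [commutatorElement_def]; group,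
          ← (Commute.inv_left e3).eq, inv_mul_cancel_right]
      have e4 : ⁅⁅e, a⁆, b⁆ = ⁅e, ⁅a, b⁆⁆ := by
        rw [show ⁅e, a⁆ = (e * a * e⁻¹) * a⁻¹ by rw [commutatorElement_def],
          show ⁅(e * a * e⁻¹) * a⁻¹, b⁆ = (e * a * e⁻¹) * ⁅a⁻¹, b⁆ * (e * a * e⁻¹)⁻¹ * ⁅e * a * e⁻¹, b⁆ by
            simp [commutatorElement_def]; group,
          ← h.C_comm_A (h.eC ▸ Subgroup.commutator_mem_commutator (inv_mem ha) hb) hconj,
          mul_inv_cancel_right, e1, e2]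
        have e5 : Commute ⁅a, b⁆⁻¹ (e * ⁅a, b⁆ * e⁻¹) :=
          commute_of_bracket_bot (commutative_bracket (h.hS.commutative C h.hC)) (inv_mem hab)
            ((Subgroup.mem_normalizer_iff.1 (mem_normalizer_iff_conjBy.2 (hEC e he)) _).1 hab)
        rw [e5.eq, commutatorElement_def e ⁅a, b⁆]
      rw [e4]
      exact Subgroup.commutator_mem_commutator he hab
    have hCle : C ≤ ⁅E, C⁆ := by
      conv_lhs => rw [← h.eC, ← h.case.2.2.1 m (hMA hm) hm1]
      rw [Subgroup.closure_le]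
      rintro _ ⟨b, hb, rfl⟩
      exact (key m hm).2 b hb
    rcases h.hS.pair E h2.1 C h.hC with l0 | l1 | l2
    · exact h.C_ne_bot (le_bot_iff.1 (l0 ▸ hCle))
    · exact not_pair_of_fix (h.hS.ne_bot _ h2.1) hEC l1
    · refine h.hS.ne_bot _ l2.1 ?_
      rw [Subgroup.commutator_eq_bot_iff_le_centralizer]
      intro e he c hc
      exact l2.2.1 c (hCle hc) e (Subgroup.mem_sup_left he)
  have hEC' : ∀ e ∈ E, ∀ c ∈ C, Commute e c := by
    intro e he c hc
    have hle : C ≤ Subgroup.centralizer {e} := by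
      rw [← h.eC, Subgroup.commutator_le]
      intro a ha b hb
      rw [Subgroup.mem_centralizer_singleton_iff, commutatorElement_def]
      have h1 : Commute e a := commute_of_bracket_bot hEA' he ha
      have h3 : Commute e b := hEB e he b hb
      exact (((h1.mul_right h3).mul_right h1.inv_right).mul_right h3.inv_right).symm.eq
    exact (Subgroup.mem_centralizer_singleton_iff.1 (hle hc)).symm
  obtain ⟨a, ha, ha1⟩ := (Subgroup.bot_or_exists_ne_one _).resolve_left (h.hS.ne_bot _ h.hA)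
  refine ha1 (h.not_fixed ha ?_)
  intro b hb
  have hle : A ≤ Subgroup.centralizer {b} := by
    rw [← h.eA, Subgroup.commutator_le]
    intro c hc d hd
    rw [Subgroup.mem_centralizer_singleton_iff]
    -- `d⁻¹ b d` differs from `b` by an element of `E`
    have he : ⁅d⁻¹, b⁆ ∈ E := by
      rw [hE, Subgroup.commutator_comm]
      exact Subgroup.commutator_mem_commutator (inv_mem hd) hb
    have h1 : Commute (⁅d⁻¹, b⁆ * b) c := (hEC' _ he c hc).mul_left (h.C_comm_B hc hb).symm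
    have h3 : Commute b (d * c * d⁻¹) := by
      have h6 := h1.map (MulAut.conj d).toMonoidHom
      simp only [MulEquiv.toMonoidHom_eq_coe, MonoidHom.coe_coe, MulAut.conj_apply] at h6
      rwa [show d * (⁅d⁻¹, b⁆ * b) * d⁻¹ = b by simp [commutatorElement_def]; group] at h6
    have h4 : Commute b c := (h.C_comm_B hc hb).symm
    rw [show ⁅c, d⁆ = c * (d * c⁻¹ * d⁻¹) by simp [commutatorElement_def]; group]
    have h5 : Commute b (d * c⁻¹ * d⁻¹) := by
      have := h3.inv_right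
      rwa [show (d * c * d⁻¹)⁻¹ = d * c⁻¹ * d⁻¹ by group] at this
    exact (h4.mul_right h5).symm.eq
  exact Subgroup.mem_centralizer_singleton_iff.1 (hle ha)

theorem fixed_iff (h : Config S A B C D) (x : G) :
    x ∈ C ↔ x ∈ A ⊔ C ∧ ∀ b ∈ B, x * b = b * x :=
  ⟨fun hx => ⟨Subgroup.mem_sup_right hx, fun _ hb => h.C_comm_B hx hb⟩, fun hx => h.fixed_eq hx.1 hx.2⟩

theorem fixed_congr (h : Config S A B C D) {x y : G} (hx : x ∈ B ⊔ D) (hy : y ∈ B ⊔ D)
    (he : Cfsg.conjBy B x = Cfsg.conjBy D y) : Cfsg.conjBy C x = Cfsg.conjBy A y := by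
  ext z
  rw [mem_conjBy, mem_conjBy, h.fixed_iff, h.symm.fixed_iff]
  refine and_congr ?_ ?_
  · rw [← mem_conjBy, h.normal_N hx, ← mem_conjBy, sup_comm C A, h.normal_N hy]
  · have key : ∀ (P : Subgroup G) (g : G), (∀ p ∈ P, g⁻¹ * z * g * p = p * (g⁻¹ * z * g)) ↔
        ∀ q ∈ Cfsg.conjBy P g, z * q = q * z := by
      intro P g
      constructor
      · rintro hp _ ⟨p, hp', rfl⟩
        have e := hp p hp'
        show z * (g * p * g⁻¹) = g * p * g⁻¹ * z
        calc z * (g * p * g⁻¹) = g * (g⁻¹ * z * g * p) * g⁻¹ := by group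
          _ = _ := by rw [e]; group
      · intro hq p hp'
        have e := hq _ ⟨p, hp', rfl⟩
        change z * (g * p * g⁻¹) = g * p * g⁻¹ * z at e
        calc g⁻¹ * z * g * p = g⁻¹ * (z * (g * p * g⁻¹)) * g := by group
          _ = _ := by rw [e]; group
    rw [key B x, key D y, he]

/-- A non-trivial element of `D` moves `C` to a conjugate of `A` under `B`. -/
theorem move (h : Config S A B C D) {d : G} (hd : d ∈ D) (hd1 : d ≠ 1) :
    ∃ b ∈ B, b ≠ 1 ∧ Cfsg.conjBy C d = Cfsg.conjBy A b := by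
  obtain ⟨b, hb, hb1, e⟩ := h.pair.cond_right d⁻¹ (inv_mem hd) (inv_ne_one.2 hd1)
  rw [inv_inv] at e
  exact ⟨b⁻¹, inv_mem hb, inv_ne_one.2 hb1,
    h.fixed_congr (Subgroup.mem_sup_right hd) (Subgroup.mem_sup_left (inv_mem hb)) e.symm⟩

theorem move' (h : Config S A B C D) {b : G} (hb : b ∈ B) (hb1 : b ≠ 1) :
    ∃ d ∈ D, d ≠ 1 ∧ Cfsg.conjBy A b = Cfsg.conjBy C d := h.symm.move hb hb1

theorem disjoint (h : Config S A B C D) {b z : G} (hb : b ∈ B) (hb1 : b ≠ 1) (hz : z ∈ A)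
    (hz' : z ∈ Cfsg.conjBy A b) : z = 1 := by
  obtain ⟨d, hd, -, e⟩ := h.move' hb hb1
  rw [e, mem_conjBy] at hz'
  have e2 : d⁻¹ * z * d = z := by
    rw [mul_assoc, h.symm.C_comm_B hz hd, inv_mul_cancel_left]
  rw [e2] at hz'
  exact h.inter hz hz'

theorem move_ne (h : Config S A B C D) {b : G} (hb : b ∈ B) (hb1 : b ≠ 1) : Cfsg.conjBy A b ≠ A := by
  intro e
  obtain ⟨a, ha, ha1⟩ := (Subgroup.bot_or_exists_ne_one _).resolve_left (h.hS.ne_bot _ h.hA)
  exact ha1 (h.disjoint hb hb1 ha (e.symm ▸ ha))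

theorem A_ne_C (h : Config S A B C D) : A ≠ C := fun e => by
  obtain ⟨a, ha, ha1⟩ := (Subgroup.bot_or_exists_ne_one _).resolve_left (h.hS.ne_bot _ h.hA)
  exact ha1 (h.inter ha (e ▸ ha))

theorem orbit (h : Config S A B C D) :
    {E | ∃ x ∈ B ⊔ D, E = Cfsg.conjBy A x} = (fun b : G => Cfsg.conjBy A b) '' (B : Set G) ∪ {C} := by
  set T : Set (Subgroup G) := (fun b : G => Cfsg.conjBy A b) '' (B : Set G) ∪ {C} with hT
  have hBT : ∀ b ∈ B, ∀ E ∈ T, Cfsg.conjBy E b ∈ T := by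
    rintro b hb E (⟨b', hb', rfl⟩ | rfl)
    · exact Or.inl ⟨b * b', mul_mem hb hb', conjBy_mul _ _ _⟩
    · exact Or.inr (h.conj_C hb)
  have hCT : ∀ d ∈ D, Cfsg.conjBy C d ∈ T := by
    intro d hd
    by_cases hd1 : d = 1
    · exact Or.inr (by rw [hd1, conjBy_one]; rfl)
    · obtain ⟨b, hb, -, e⟩ := h.move hd hd1
      exact Or.inl ⟨b, hb, e.symm⟩
  have hDT : ∀ d ∈ D, ∀ E ∈ T, Cfsg.conjBy E d ∈ T := by
    rintro d hd E (⟨b', hb', rfl⟩ | rfl)
    · by_cases hb1 : b' = 1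
      · refine Or.inl ⟨1, one_mem _, ?_⟩
        show Cfsg.conjBy A 1 = Cfsg.conjBy (Cfsg.conjBy A b') d
        rw [hb1, conjBy_one, h.symm.conj_C hd]
      · obtain ⟨d', hd', -, e⟩ := h.move' hb' hb1
        show Cfsg.conjBy (Cfsg.conjBy A b') d ∈ T
        rw [e, ← conjBy_mul]
        exact hCT _ (mul_mem hd hd')
    · exact hCT d hd
  apply Set.Subset.antisymm
  · rintro E ⟨x, hx, rfl⟩
    let K : Subgroup G :=
      { carrier := {g | ∀ E, E ∈ T ↔ Cfsg.conjBy E g ∈ T}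
        one_mem' := fun E => by rw [conjBy_one]
        mul_mem' := fun {g g'} hg hg' E => by rw [hg' E, hg (Cfsg.conjBy E g'), conjBy_mul]
        inv_mem' := fun {g} hg E => by rw [hg (Cfsg.conjBy E g⁻¹), conjBy_cancel'] }
    have hle : B ⊔ D ≤ K := sup_le
      (fun b hb E => ⟨hBT b hb E, fun hE => by simpa [conjBy_cancel] using hBT b⁻¹ (inv_mem hb) _ hE⟩)
      (fun d hd E => ⟨hDT d hd E, fun hE => by simpa [conjBy_cancel] using hDT d⁻¹ (inv_mem hd) _ hE⟩)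
    exact (hle hx A).1 (Or.inl ⟨1, one_mem _, conjBy_one A⟩)
  · rintro E (⟨b, hb, rfl⟩ | rfl)
    · exact ⟨b, Subgroup.mem_sup_left hb, rfl⟩
    · obtain ⟨d, hd, hd1⟩ := left_ne_bot (Cfsg.RankOnePair_symm h.pair)
      obtain ⟨b, hb, -, e⟩ := h.move hd hd1
      exact ⟨d⁻¹ * b, mul_mem (Subgroup.mem_sup_right (inv_mem hd)) (Subgroup.mem_sup_left hb),
        by rw [conjBy_mul, ← e, conjBy_cancel]⟩

theorem orbit_eq (h : Config S A B C D) :
    {E | ∃ x ∈ B ⊔ D, E = Cfsg.conjBy A x} = {E | ∃ x ∈ B ⊔ D, E = Cfsg.conjBy C x} := by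
  obtain ⟨x, hx, e⟩ : C ∈ {E | ∃ x ∈ B ⊔ D, E = Cfsg.conjBy A x} := by
    rw [h.orbit]; exact Or.inr rfl
  ext E
  constructor
  · rintro ⟨y, hy, rfl⟩
    exact ⟨y * x⁻¹, mul_mem hy (inv_mem hx), by rw [e, ← conjBy_mul, inv_mul_cancel_right]⟩
  · rintro ⟨y, hy, rfl⟩
    exact ⟨y * x, mul_mem hy hx, by rw [e, conjBy_mul]⟩

theorem partition (h : Config S A B C D) :
    Cfsg.IsSubgroupPartition (A ⊔ C) ((fun b : G => Cfsg.conjBy A b) '' (B : Set G) ∪ {C}) := by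
  refine ⟨?_, fun x hx hx1 => ?_, ?_⟩
  · rintro E (⟨b, hb, rfl⟩ | rfl)
    · exact h.eC ▸ conj_le_sup hb
    · exact le_sup_right
  · rcases mem_sup_cases h.case (h.eC.symm ▸ hx) with hc | ⟨a, ha, -, b, hb, rfl⟩
    · exact ⟨_, Or.inr rfl, h.eC ▸ hc⟩
    · exact ⟨_, Or.inl ⟨b, hb, rfl⟩, ⟨a, ha, rfl⟩⟩
  · have k1 : ∀ b ∈ B, Cfsg.conjBy A b ⊓ C = ⊥ := by
      intro b hb
      rw [Subgroup.eq_bot_iff_forall]
      rintro z ⟨hz, hz'⟩
      change z ∈ Cfsg.conjBy A b at hz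
      change z ∈ C at hz'
      rw [mem_conjBy] at hz
      have e : b⁻¹ * z * b = z := by rw [mul_assoc, h.C_comm_B hz' hb, inv_mul_cancel_left]
      rw [e] at hz
      exact h.inter hz hz'
    rintro E (⟨b, hb, rfl⟩ | rfl) F hF hne
    · rcases hF with ⟨b', hb', rfl⟩ | rfl
      · rw [Subgroup.eq_bot_iff_forall]
        rintro z ⟨hz, hz'⟩
        change z ∈ Cfsg.conjBy A b at hz
        change z ∈ Cfsg.conjBy A b' at hz'
        rw [mem_conjBy] at hz hz'
        have hb1 : b⁻¹ * b' ≠ 1 := fun e => hne (by rw [inv_mul_eq_one.1 e])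
        have h1 : b⁻¹ * z * b = 1 := h.disjoint (mul_mem (inv_mem hb) hb') hb1 hz (by
          rw [mem_conjBy]; simpa [mul_assoc] using hz')
        calc z = b * (b⁻¹ * z * b) * b⁻¹ := by group
          _ = 1 := by rw [h1]; group
      · exact k1 b hb
    · rcases hF with ⟨b', hb', rfl⟩ | rfl
      · rw [inf_comm]; exact k1 b' hb'
      · exact absurd rfl hne

theorem act_fix (h : Config S A B C D) {x : G} (hx : x ∈ B ⊔ D)
    (hN : ∀ n ∈ A ⊔ C, x * n = n * x) {b : G} (hb : b ∈ B) : x * b = b * x := by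
  have hC : Cfsg.conjBy C x = C := conjBy_eq_self_of_comm fun c hc => hN c (Subgroup.mem_sup_right hc)
  have hBx : Cfsg.conjBy B x = B := by
    rcases unipotent_cases h.pair ⟨x, hx, rfl⟩ with e | ⟨b', hb', e⟩
    · exact e
    exfalso
    have e2 := h.fixed_congr hx (Subgroup.mem_sup_left hb') e
    rw [hC] at e2
    have e3 : Cfsg.conjBy C b'⁻¹ = A := by
      conv_lhs => rw [e2]
      rw [conjBy_cancel]
    rw [h.conj_C (inv_mem hb')] at e3
    exact h.A_ne_C e3.symm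
  set b₀ := x * b * x⁻¹ * b⁻¹ with hb₀
  have hmem : b₀ ∈ B := mul_mem
    ((Subgroup.mem_normalizer_iff.1 (mem_normalizer_iff_conjBy.2 hBx) b).1 hb) (inv_mem hb)
  by_contra hne
  have hne1 : b₀ ≠ 1 := fun e => hne (by
    rw [hb₀, mul_inv_eq_one, mul_inv_eq_iff_eq_mul] at e
    exact e)
  refine h.move_ne hmem hne1 ?_
  refine conjBy_eq_self_of_comm fun a ha => ?_
  have han : a ∈ A ⊔ C := Subgroup.mem_sup_left ha
  have h1 : ∀ y ∈ B ⊔ D, y⁻¹ * a * y ∈ A ⊔ C := fun y hy => by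
    rw [← mem_conjBy, h.normal_N hy]; exact han
  have hbm : b ∈ B ⊔ D := Subgroup.mem_sup_left hb
  have e1 := hN _ (h1 b hbm)
  have hxa : x * a = a * x := hN a han
  calc b₀ * a = x * b * x⁻¹ * (b⁻¹ * a * b) * b⁻¹ := by rw [hb₀]; group
    _ = x * b * ((b⁻¹ * a * b) * x⁻¹) * b⁻¹ := by
        rw [← (Commute.inv_left (e1 : Commute x (b⁻¹ * a * b))).eq]; group
    _ = x * a * b * x⁻¹ * b⁻¹ := by group
    _ = a * b₀ := by rw [hxa, hb₀]; group

end Config
/-- Let S be a set of abstract root subgroups of G, A, B ∈ S with C = ⁅A, B⁆ ∈ S, and D ∈ S with ⁅D, C⁆ = A. Put X = ⟨B, D⟩ and N = AC. Then B, D form a rank one pair; the conjugates of A under X are the conjugates of C under X, namely the conjugates of A by elements of B together with C, equally the conjugates of C by elements of D together with A, and they partition N; and the centralizer of N in X is central in X. -/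
theorem result {G : Type*} [Group G] {S : Set (Subgroup G)} (hS : Cfsg.IsRootSubgroupSet S)
    {A B D : Subgroup G} (hA : A ∈ S) (hB : B ∈ S) (hC : ⁅A, B⁆ ∈ S) (hD : D ∈ S) (hDC : ⁅D, ⁅A, B⁆⁆ = A) :
    Cfsg.IsRankOnePair B D ∧
    {E | ∃ x ∈ B ⊔ D, E = Cfsg.conjBy A x} = {E | ∃ x ∈ B ⊔ D, E = Cfsg.conjBy ⁅A, B⁆ x} ∧
    {E | ∃ x ∈ B ⊔ D, E = Cfsg.conjBy A x} = (fun b : G => Cfsg.conjBy A b) '' (B : Set G) ∪ {⁅A, B⁆} ∧
    {E | ∃ x ∈ B ⊔ D, E = Cfsg.conjBy A x} = (fun d : G => Cfsg.conjBy ⁅A, B⁆ d) '' (D : Set G) ∪ {A} ∧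
    Cfsg.IsSubgroupPartition (A ⊔ ⁅A, B⁆) {E | ∃ x ∈ B ⊔ D, E = Cfsg.conjBy A x} ∧
    ∀ x ∈ (B ⊔ D) ⊓ Subgroup.centralizer ((A ⊔ ⁅A, B⁆ : Subgroup G) : Set G), ∀ y ∈ B ⊔ D, x * y = y * x := by
  have h : Config S A B ⁅A, B⁆ D := ⟨hS, hA, hB, hC, hD, rfl, by rw [Subgroup.commutator_comm]; exact hDC⟩
  refine ⟨h.pair, h.orbit_eq, h.orbit, ?_, ?_, ?_⟩
  · rw [h.orbit_eq]
    have := h.symm.orbit
    rwa [sup_comm D B] at this
  · rw [h.orbit]; exact h.partition
  · rintro x ⟨hx, hxN⟩ y hy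
    have hN : ∀ n ∈ A ⊔ ⁅A, B⁆, x * n = n * x := fun n hn =>
      ((Subgroup.mem_centralizer_iff.1 hxN) n hn).symm
    have hle : B ⊔ D ≤ Subgroup.centralizer {x} := by
      refine sup_le ?_ ?_ <;> intro z hz <;> rw [Subgroup.mem_centralizer_singleton_iff]
      · exact (h.act_fix hx hN hz).symm
      · exact (h.symm.act_fix (sup_comm B D ▸ hx) (sup_comm A ⁅A, B⁆ ▸ hN) hz).symm
    exact (Subgroup.mem_centralizer_singleton_iff.1 (hle hy)).symm

end Cfsg.Agent.S5036
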