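import Cfsg.Statements.S5037
import Cfsg.Agent.Lib.Classical.RootClass
import Cfsg.Agent.S5036

set_option autoImplicit false
open Cfsg

namespace Cfsg.Agent.S5037

open Cfsg.Agent.Classical.RankOne
open scoped commutatorElement

/-- Let S be a class of abstract root subgroups of G that is either degenerate or non-degenerate (so either the commutator case never occurs, or all three cases occur), and A ≠ C members of S. If every member of S commuting with A commutes with C, then A and C have the same commuting members of S; and if every rank one partner of A is a rank one partner of C, then A and C commute and have the same rank one partners. -/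
theorem result {G : Type*} [Group G] {S : Set (Subgroup G)} (hS : Cfsg.IsRootSubgroupClass S)
    (hdn : Cfsg.IsDegenerateRootSet S ∨ Cfsg.IsNondegenerateRootSet S)
    {A C : Subgroup G} (hA : A ∈ S) (hC : C ∈ S) (hAC : A ≠ C) :
    (Cfsg.centralizingMembers S A ⊆ Cfsg.centralizingMembers S C →
      Cfsg.centralizingMembers S A = Cfsg.centralizingMembers S C) ∧
    (Cfsg.rankOnePartners S A ⊆ Cfsg.rankOnePartners S C →
      ⁅A, C⁆ = ⊥ ∧ Cfsg.rankOnePartners S A = Cfsg.rankOnePartners S C) := by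
  have hS1 := hS.1
  have hex : ∃ P ∈ S, ∃ Q ∈ S, Cfsg.IsRankOnePair P Q := by
    rcases hdn with hd | hn
    · by_contra hno
      have hc : ∀ P ∈ S, ∀ Q ∈ S, ⁅P, Q⁆ = ⊥ := fun P hP Q hQ =>
        (hS1.pair P hP Q hQ).resolve_right (by
          rintro (h | h)
          · exact hno ⟨P, hP, Q, hQ, h⟩
          · exact hd P hP Q hQ h)
      obtain ⟨g, hg⟩ := hS.2.2 A hA C hC
      have hle : (⊤ : Subgroup G) ≤ Subgroup.centralizer (A : Set G) := hS1.generates ▸
        iSup₂_le fun Q hQ => Subgroup.commutator_eq_bot_iff_le_centralizer.1 (hc Q hQ A hA)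
      exact hAC (hg.trans (conjBy_eq_self_of_comm fun a ha =>
        (Subgroup.mem_centralizer_iff.1 (hle (Subgroup.mem_top g)) a ha).symm)).symm
    · exact hn.2.1
  have hall := hall_of_class hS hex
  have memC : ∀ {X Y : Subgroup G},
      X ∈ Cfsg.centralizingMembers S Y ↔ X ∈ S ∧ ⁅X, Y⁆ = ⊥ := fun {X Y} => by
    rw [Subgroup.commutator_eq_bot_iff_le_centralizer]; rfl
  have bot_conj : ∀ {X Y : Subgroup G} (g : G),
      ⁅X, Y⁆ = ⊥ → ⁅Cfsg.conjBy X g, Cfsg.conjBy Y g⁆ = ⊥ := fun g h => by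
    rw [Cfsg.conjBy, Cfsg.conjBy, ← Subgroup.map_commutator, h, Subgroup.map_bot]
  constructor
  · intro hsub
    have hcom : ⁅A, C⁆ = ⊥ := (memC.1 (hsub (memC.2 ⟨hA, commutative_bracket (hS1.commutative A hA)⟩))).2
    obtain ⟨D, hD, hCD⟩ := hall C hC
    have hnc : ⁅A, D⁆ ≠ ⊥ := fun h => not_commuting hCD (by
      rw [Subgroup.commutator_comm]
      exact (memC.1 (hsub (memC.2 ⟨hD, by rw [Subgroup.commutator_comm]; exact h⟩))).2)
    have hAD : Cfsg.IsRankOnePair A D := by
      refine ((hS1.pair A hA D hD).resolve_left hnc).resolve_right fun h => hnc ?_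
      have hE : ⁅⁅A, D⁆, C⁆ = ⊥ := (memC.1 (hsub (memC.2 ⟨h.1, le_bot_iff.1
        (Subgroup.commutator_le.2 fun x hx y hy => Subgroup.mem_bot.2
          (commutatorElement_eq_one_iff_mul_comm.2 (h.2.1 x hx y (Subgroup.mem_sup_left hy))))⟩))).2
      obtain ⟨c, hc, hc1⟩ := left_ne_bot hCD
      obtain ⟨t, ht, -, e⟩ := hCD.cond_left c hc hc1
      have h1 : ⁅Cfsg.conjBy A t, C⁆ = ⊥ := le_bot_iff.1 ((Subgroup.commutator_mono (conj_le_sup ht) le_rfl).trans_eq
        (Subgroup.commutator_eq_bot_iff_le_centralizer.2 (sup_le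
          (Subgroup.commutator_eq_bot_iff_le_centralizer.1 hcom)
          (Subgroup.commutator_eq_bot_iff_le_centralizer.1 hE))))
      have h2 := bot_conj c (bot_conj t⁻¹ h1)
      rwa [conjBy_cancel, e, conjBy_cancel', conjBy_eq_self_of_comm
        fun a ha => (commute_of_bracket_bot hcom ha hc).symm] at h2
    have hrev := rel_symm (fun P Q => P ∈ S ∧ Cfsg.centralizingMembers S P ⊆ Cfsg.centralizingMembers S Q)
      (fun P Q g h => ⟨hS1.conj_mem P h.1 g, fun X hX => by
        have hX' := memC.1 hX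
        have h1 := memC.1 (h.2 (memC.2 ⟨hS1.conj_mem X hX'.1 g⁻¹,
          by simpa only [conjBy_cancel] using bot_conj g⁻¹ hX'.2⟩))
        exact memC.2 ⟨hX'.1, by simpa only [conjBy_cancel'] using bot_conj g h1.2⟩⟩)
      (fun P Q T h h' => ⟨h.1, h.2.trans h'.2⟩)
      (fun P Q h hp => not_commuting hp
        (memC.1 (h.2 (memC.2 ⟨h.1, commutative_bracket (hS1.commutative P h.1)⟩))).2)
      hcom hAD hCD ⟨hA, hsub⟩
    exact Set.Subset.antisymm hsub hrev.2
  · intro hsub
    have hcom : ⁅A, C⁆ = ⊥ := by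
      rcases hS1.pair A hA C hC with h | h | h
      · exact h
      · exact absurd rfl (hsub ⟨hC, h⟩).2.ne
      · exfalso
        have h' : Cfsg.RootCommutatorCase S C A :=
          commutator_case hS1 hC hA (by rw [Subgroup.commutator_comm]; exact h.1)
        obtain ⟨F, hF, hEF, hCF⟩ := exists_opposite hS1 hall hC hA h'
        have hp := (Cfsg.Agent.S5036.result hS1 hC hA h'.1 hF
          (by rw [Subgroup.commutator_comm]; exact hEF)).1
        exact not_commuting (hsub ⟨hF, hp⟩).2 hCF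
    obtain ⟨D, hD, hAD⟩ := hall A hA
    have hrev := rel_symm (fun P Q => Cfsg.rankOnePartners S P ⊆ Cfsg.rankOnePartners S Q ∧ Q ∈ S)
      (fun P Q g h => ⟨fun X hX => by
        have h1 := h.1 (show Cfsg.conjBy X g⁻¹ ∈ Cfsg.rankOnePartners S P from
          ⟨hS1.conj_mem X hX.1 _, by simpa only [conjBy_cancel] using conj_pair hX.2 g⁻¹⟩)
        exact ⟨hX.1, by simpa only [conjBy_cancel'] using conj_pair h1.2 g⟩, hS1.conj_mem Q h.2 g⟩)
      (fun P Q T h h' => ⟨h.1.trans h'.1, h'.2⟩)
      (fun P Q h hp => (h.1 ⟨h.2, hp⟩).2.ne rfl)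
      hcom hAD (hsub ⟨hD, hAD⟩).2 ⟨hsub, hC⟩
    exact ⟨hcom, Set.Subset.antisymm hsub hrev.1⟩

end Cfsg.Agent.S5037
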