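import Cfsg.Statements.S5033
import Cfsg.Agent.Lib.Classical.RootClass
import Cfsg.Agent.S5020
import Cfsg.Agent.S5032
import Cfsg.Agent.S5037
-- import your own Cfsg.Agent.* helpers here

set_option autoImplicit false
open Cfsg

namespace Cfsg.Agent.S5033

open Cfsg.Agent.Classical.RankOne
open scoped commutatorElement

variable {G : Type*} [Group G] {S : Set (Subgroup G)}

/-- What is needed of the group generated by a rank one pair in the degenerate case. -/
structure BigPair (P Q : Subgroup G) : Prop where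
  perfect : ⁅⁅P ⊔ Q, P ⊔ Q⁆, ⁅P ⊔ Q, P ⊔ Q⁆⁆ = ⁅P ⊔ Q, P ⊔ Q⁆
  meet : ∃ x ∈ P, x ∈ ⁅P ⊔ Q, P ⊔ Q⁆ ∧ x ≠ 1
  gen : P ⊔ Q ≤ ⁅P ⊔ Q, P ⊔ Q⁆ ⊔ P
  dich : ∀ M : Subgroup G, (∀ k ∈ ⁅P ⊔ Q, P ⊔ Q⁆, ∀ m ∈ M, m ∈ ⁅P ⊔ Q, P ⊔ Q⁆ → k * m * k⁻¹ ∈ M) →
    ⁅P ⊔ Q, P ⊔ Q⁆ ≤ M ∨
      ∀ m ∈ M, m ∈ ⁅P ⊔ Q, P ⊔ Q⁆ → ∀ k ∈ ⁅P ⊔ Q, P ⊔ Q⁆, k * m = m * k

/-- A normal subgroup of a quasisimple group is central or the whole group. -/
theorem qs_dich {H : Type*} [Group H] (h : Cfsg.IsQuasisimple H) (N : Subgroup H) (hN : N.Normal) :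
    N = ⊤ ∨ N ≤ Subgroup.center H := by
  haveI := h.1
  haveI := h.2
  haveI := hN
  have hmap := hN.map (QuotientGroup.mk' (Subgroup.center H)) (QuotientGroup.mk'_surjective _)
  rcases hmap.eq_bot_or_eq_top with h1 | h1
  · right
    intro x hx
    have h2 := Subgroup.mem_map_of_mem (QuotientGroup.mk' (Subgroup.center H)) hx
    rw [h1, Subgroup.mem_bot] at h2
    exact (QuotientGroup.eq_one_iff x).1 h2
  · left
    have h2 : N ⊔ Subgroup.center H = ⊤ := by
      have h3 := congrArg (Subgroup.comap (QuotientGroup.mk' (Subgroup.center H))) h1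
      rwa [Subgroup.comap_map_eq, QuotientGroup.ker_mk', Subgroup.comap_top] at h3
    rw [eq_top_iff, ← Group.IsPerfect.commutator_eq_top (G := H), commutator_def, Subgroup.commutator_le]
    intro x hx y hy
    rw [← h2] at hx hy
    obtain ⟨n, hn, z, hz, rfl⟩ := Subgroup.mem_sup_of_normal_left.1 hx
    obtain ⟨n', hn', z', hz', rfl⟩ := Subgroup.mem_sup_of_normal_left.1 hy
    have e : ⁅n * z, n' * z'⁆ = ⁅n, n'⁆ := by
      have c1 := Subgroup.mem_center_iff.1 hz
      have c2 := Subgroup.mem_center_iff.1 hz'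
      rw [commutatorElement_def, commutatorElement_def, mul_inv_rev, mul_inv_rev]
      calc n * z * (n' * z') * (z⁻¹ * n⁻¹) * (z'⁻¹ * n'⁻¹)
          = n * (z * (n' * z') * z⁻¹) * (n⁻¹ * z'⁻¹ * n'⁻¹) := by group
        _ = n * (n' * z') * (n⁻¹ * z'⁻¹ * n'⁻¹) := by rw [← c1 (n' * z'), mul_inv_cancel_right]
        _ = n * n' * (z' * n⁻¹ * z'⁻¹) * n'⁻¹ := by group
        _ = n * n' * n⁻¹ * n'⁻¹ := by rw [← c2 n⁻¹, mul_inv_cancel_right]
    rw [e]
    exact Subgroup.commutator_le_left N N (Subgroup.commutator_mem_commutator hn hn')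

/-- Rank one pairs with more than three root elements are big. -/
theorem bigPair {P Q : Subgroup G} (hP : IsMulCommutative P) (hQ : IsMulCommutative Q)
    (hs : Cfsg.IsSpecialRankOnePair P Q) (h3 : 3 < ENat.card P) : BigPair P Q := by
  set X := P ⊔ Q with hX
  have hPX : P ≤ X := le_sup_left
  have hQX : Q ≤ X := le_sup_right
  have comm : ∀ R : Subgroup G, IsMulCommutative R → IsMulCommutative (R.subgroupOf X) := fun R hR =>
    ⟨⟨fun x y => Subtype.ext (Subtype.ext (by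
      have := hR.1.1 ⟨(x : X), x.2⟩ ⟨(y : X), y.2⟩
      simpa using congrArg Subtype.val this))⟩⟩
  have hgrp : Cfsg.IsRankOneGroup X (P.subgroupOf X) (Q.subgroupOf X) :=
    ⟨by rw [← Subgroup.subgroupOf_sup hPX hQX, Subgroup.subgroupOf_self], pair_subgroupOf hs.1 hPX hQX⟩
  have hspec : Cfsg.IsSpecialRankOnePair (P.subgroupOf X) (Q.subgroupOf X) := by
    refine ⟨hgrp.2, fun a ha ha1 b hb hb1 e => ?_⟩
    apply Subtype.ext
    simp only [Subgroup.coe_mul, Subgroup.coe_inv]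
    refine hs.2 a ha (fun h => ha1 (Subtype.ext h)) b hb (fun h => hb1 (Subtype.ext h)) ?_
    have e2 := congrArg (Subgroup.map X.subtype) e
    rw [map_conjBy, map_conjBy, Subgroup.map_subgroupOf_eq_of_le hPX,
      Subgroup.map_subgroupOf_eq_of_le hQX] at e2
    simpa using e2
  have hcard : ENat.card ↥(P.subgroupOf X) = ENat.card P :=
    ENat.card_congr (Subgroup.subgroupOfEquivOfLe hPX).toEquiv
  rcases Cfsg.Agent.S5020.result hgrp hspec ⟨comm P hP, comm Q hQ⟩ with ⟨h, -⟩ | ⟨hsup, hqs, hH⟩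
  · exact absurd (hcard ▸ h) (not_le.2 h3)
  have hK : (commutator X).map X.subtype = ⁅X, X⁆ := Subgroup.map_subtype_commutator X
  have hmemK : ∀ x : X, x ∈ commutator X ↔ (x : G) ∈ ⁅X, X⁆ := fun x => by
    rw [← hK]
    exact ⟨fun h => Subgroup.mem_map_of_mem X.subtype h,
      fun ⟨y, hy, e⟩ => Subtype.ext e ▸ hy⟩
  refine ⟨?_, ?_, ?_, ?_⟩
  · rw [← hK, ← Subgroup.map_commutator]
    exact congrArg _ (Subgroup.isPerfect_iff.1 hqs.1)
  · set L := ⁅P.subgroupOf X, Cfsg.rankOneDiagonal (P.subgroupOf X) (Q.subgroupOf X)⁆ with hL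
    have hne : L ≠ ⊥ := fun e => by
      rw [e] at hH
      have hone : ENat.card ↥(⊥ : Subgroup X) = 1 := by simp
      rw [hone] at hH
      exact absurd hH (by decide)
    obtain ⟨x, hx, hx1⟩ := (Subgroup.bot_or_exists_ne_one L).resolve_left hne
    refine ⟨x, ?_, (hmemK x).1 (Subgroup.commutator_mono le_top le_top hx), fun e => hx1 (Subtype.ext e)⟩
    have hle : L ≤ P.subgroupOf X := Subgroup.commutator_le.2 fun p hp d hd => by
      have hdn : d ∈ Subgroup.normalizer ((P.subgroupOf X : Subgroup X) : Set X) := hd.1.2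
      have hd2 : d * p⁻¹ * d⁻¹ ∈ P.subgroupOf X := (Subgroup.mem_normalizer_iff.1 hdn _).1 (inv_mem hp)
      rw [commutatorElement_def, show p * d * p⁻¹ * d⁻¹ = p * (d * p⁻¹ * d⁻¹) by group]
      exact mul_mem hp hd2
    exact hle hx
  · intro x hx
    obtain ⟨k, hk, p, hp, e⟩ := Subgroup.mem_sup_of_normal_left.1 (hsup.symm ▸ Subgroup.mem_top (⟨x, hx⟩ : X))
    have e' : (k : G) * (p : G) = x := congrArg Subtype.val e
    rw [← e']
    exact mul_mem (Subgroup.mem_sup_left ((hmemK k).1 hk)) (Subgroup.mem_sup_right hp)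
  · intro M hM
    set N := (M.subgroupOf X).subgroupOf (commutator X) with hN
    have hNn : N.Normal := ⟨fun n hn k => by
      show ((k * n * k⁻¹ : commutator X) : X).1 ∈ M
      exact hM _ ((hmemK k).1 k.2) _ hn ((hmemK n).1 n.2)⟩
    rcases qs_dich hqs N hNn with h | h
    · left
      intro y hy
      rw [← hK] at hy
      obtain ⟨z, hz, rfl⟩ := hy
      exact (h ▸ Subgroup.mem_top (⟨z, hz⟩ : commutator X) : (⟨z, hz⟩ : commutator X) ∈ N)
    · right
      intro m hm hmK k hkK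
      rw [← hK] at hmK hkK
      obtain ⟨m', hm', rfl⟩ := hmK
      obtain ⟨k', hk', rfl⟩ := hkK
      exact congrArg (fun t : commutator X => ((t : X) : G))
        (Subgroup.mem_center_iff.1 (h (show (⟨m', hm'⟩ : commutator X) ∈ N from hm)) ⟨k', hk'⟩)

/-- A normal subgroup containing the commutator of every two members contains the commutator subgroup. -/
theorem comm_le (hS : Cfsg.IsRootSubgroupSet S) (N : Subgroup G) [N.Normal]
    (h : ∀ P ∈ S, ∀ Q ∈ S, ⁅P, Q⁆ ≤ N) : commutator G ≤ N := by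
  set f := QuotientGroup.mk' N with hf
  have hmem : ∀ P ∈ S, P ≤ (Subgroup.center (G ⧸ N)).comap f := fun P hP x hx => by
    rw [Subgroup.mem_comap, Subgroup.mem_center_iff]
    have hle : (⊤ : Subgroup G) ≤ (Subgroup.centralizer {f x}).comap f := by
      rw [← hS.generates]
      refine iSup₂_le fun Q hQ y hy => ?_
      rw [Subgroup.mem_comap, Subgroup.mem_centralizer_singleton_iff]
      have := h Q hQ P hP (Subgroup.commutator_mem_commutator hy hx)
      rw [← QuotientGroup.eq_one_iff] at this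
      change f ⁅y, x⁆ = 1 at this
      rw [map_commutatorElement, commutatorElement_eq_one_iff_mul_comm] at this
      exact this
    intro q
    obtain ⟨g, rfl⟩ := QuotientGroup.mk'_surjective N q
    exact Subgroup.mem_centralizer_singleton_iff.1 (hle (Subgroup.mem_top g))
  have htop : (⊤ : Subgroup G) ≤ (Subgroup.center (G ⧸ N)).comap f := hS.generates ▸ iSup₂_le hmem
  rw [commutator_def, Subgroup.commutator_le]
  intro x _ y _
  rw [← QuotientGroup.eq_one_iff]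
  change f ⁅x, y⁆ = 1
  rw [map_commutatorElement, commutatorElement_eq_one_iff_mul_comm]
  exact Subgroup.mem_center_iff.1 (htop (Subgroup.mem_top y)) _

/-- A member whose element moves a member into `M`, and a member commuting with only one of two members
equal modulo `M`. -/
theorem move_case (hS : Cfsg.IsRootSubgroupSet S)
    (h2' : ∀ A ∈ S, ∀ C ∈ S, A ≠ C → Cfsg.centralizingMembers S A ≠ Cfsg.centralizingMembers S C)
    {M : Subgroup G} (hMle : M ≤ commutator G) (hMn : ∀ g ∈ commutator G, ∀ m ∈ M, g * m * g⁻¹ ∈ M)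
    {A : Subgroup G} (hA : A ∈ S) {n : G} (hn : n ∈ M) (hne : Cfsg.conjBy A n ≠ A) :
    ∃ E ∈ S, ∃ C ∈ S, ⁅E, C⁆ ≠ ⊥ ∧
      ∀ e ∈ E, e ∈ commutator G → ∀ c ∈ C, c ∈ commutator G → e * c * e⁻¹ * c⁻¹ ∈ M := by
  have hnorm : (commutator G).Normal := inferInstance
  have key : ∀ E ∈ S, ∀ A' : Subgroup G, ∀ C' ∈ S, ⁅E, A'⁆ = ⊥ → ⁅E, C'⁆ ≠ ⊥ →
      (∀ c ∈ C', c ∈ commutator G → ∃ a ∈ A', a ∈ commutator G ∧ a⁻¹ * c ∈ M) →
      ∃ E ∈ S, ∃ C ∈ S, ⁅E, C⁆ ≠ ⊥ ∧
        ∀ e ∈ E, e ∈ commutator G → ∀ c ∈ C, c ∈ commutator G → e * c * e⁻¹ * c⁻¹ ∈ M := by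
    intro E hE A' C' hC' h0 h1 hlink
    refine ⟨E, hE, C', hC', h1, fun e he heG c hc hcG => ?_⟩
    obtain ⟨a, ha, haG, hm⟩ := hlink c hc hcG
    have hea := commute_of_bracket_bot h0 he ha
    have : e * c * e⁻¹ * c⁻¹ = a * (e * (a⁻¹ * c) * e⁻¹ * (a⁻¹ * c)⁻¹) * a⁻¹ := by
      calc e * c * e⁻¹ * c⁻¹ = (e * a) * (a⁻¹ * c) * e⁻¹ * c⁻¹ := by group
        _ = (a * e) * (a⁻¹ * c) * e⁻¹ * c⁻¹ := by rw [hea]
        _ = _ := by group
    rw [this]
    exact hMn a haG _ (mul_mem (hMn e heG _ hm) (inv_mem hm))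
  have hC : Cfsg.conjBy A n ∈ S := hS.conj_mem A hA n
  have hsets := h2' _ hC A hA hne
  have memC : ∀ {X Y : Subgroup G},
      X ∈ Cfsg.centralizingMembers S Y ↔ X ∈ S ∧ ⁅X, Y⁆ = ⊥ := fun {X Y} => by
    rw [Subgroup.commutator_eq_bot_iff_le_centralizer]; rfl
  by_cases hsub : Cfsg.centralizingMembers S A ⊆ Cfsg.centralizingMembers S (Cfsg.conjBy A n)
  · obtain ⟨E, hE, hEn⟩ := Set.not_subset.1 fun h => hsets (Set.Subset.antisymm h hsub)
    have hE' := memC.1 hE
    refine key E hE'.1 _ A hA hE'.2 (fun h => hEn (memC.2 ⟨hE'.1, h⟩)) fun a ha haG => ?_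
    refine ⟨n * a * n⁻¹, ⟨a, ha, rfl⟩, hnorm.conj_mem a haG n, ?_⟩
    rw [show (n * a * n⁻¹)⁻¹ * a = n * (a⁻¹ * n⁻¹ * a) by group]
    refine mul_mem hn ?_
    simpa using hMn a⁻¹ (inv_mem haG) _ (inv_mem hn)
  · obtain ⟨E, hE, hEn⟩ := Set.not_subset.1 hsub
    have hE' := memC.1 hE
    refine key E hE'.1 _ _ hC hE'.2 (fun h => hEn (memC.2 ⟨hE'.1, h⟩)) fun c hc hcG => ?_
    obtain ⟨a, ha, rfl⟩ := hc
    change n * a * n⁻¹ ∈ commutator G at hcG
    have haG : a ∈ commutator G := by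
      have := hnorm.conj_mem _ hcG n⁻¹
      simpa [mul_assoc] using this
    refine ⟨a, ha, haG, ?_⟩
    show a⁻¹ * (n * a * n⁻¹) ∈ M
    rw [show a⁻¹ * (n * a * n⁻¹) = (a⁻¹ * n * a) * n⁻¹ by group]
    refine mul_mem ?_ (inv_mem hn)
    simpa using hMn a⁻¹ (inv_mem haG) _ hn

/-- The degenerate case: normal subgroups of the derived group. -/
theorem deg_dich (hS : Cfsg.IsRootSubgroupSet S) (hd : Cfsg.IsDegenerateRootSet S)
    (h1 : Cfsg.IsConnectedFamily (Cfsg.FAdj S) S) (hSne : S.Nonempty)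
    (h2' : ∀ A ∈ S, ∀ C ∈ S, A ≠ C → Cfsg.centralizingMembers S A ≠ Cfsg.centralizingMembers S C)
    (hall : ∀ A ∈ S, ∃ A', A' ∈ S ∧ Cfsg.IsRankOnePair A A')
    (hbig : ∀ P ∈ S, ∀ Q ∈ S, Cfsg.IsRankOnePair P Q → BigPair P Q)
    (M : Subgroup G) (hMle : M ≤ commutator G) (hMn : ∀ g ∈ commutator G, ∀ m ∈ M, g * m * g⁻¹ ∈ M) :
    commutator G ≤ M ∨ ∀ m ∈ M, ∀ g ∈ commutator G, g * m = m * g := by
  have hX : ∀ P Q : Subgroup G, ⁅P ⊔ Q, P ⊔ Q⁆ ≤ commutator G := fun P Q => by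
    rw [commutator_def]; exact Subgroup.commutator_mono le_top le_top
  -- a subgroup normalised by the derived group and meeting a member contains it
  have meet : ∀ N : Subgroup G, (∀ g ∈ commutator G, ∀ m ∈ N, g * m * g⁻¹ ∈ N) →
      (∃ A ∈ S, ∃ a ∈ A, a ∈ N ∧ a ≠ 1) → commutator G ≤ N := by
    intro N hNn ⟨A, hA, a, ha, haN, ha1⟩
    have step : ∀ P ∈ S, ∀ Q ∈ S, Cfsg.IsRankOnePair P Q → (∃ p ∈ P, p ∈ N ∧ p ≠ 1) →
        ⁅P ⊔ Q, P ⊔ Q⁆ ≤ N := by
      intro P hP Q hQ hPQ ⟨p, hp, hpN, hp1⟩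
      have hb := hbig P hP Q hQ hPQ
      set K := ⁅P ⊔ Q, P ⊔ Q⁆ with hK
      rcases hb.dich N fun k hk m hm _ => hNn k (hX P Q hk) m hm with h | h
      · exact h
      exfalso
      have hpc : ∀ x ∈ K, p * x * p⁻¹ * x⁻¹ ∈ N ∧ p * x * p⁻¹ * x⁻¹ ∈ K := fun x hx => by
        refine ⟨?_, Subgroup.commutator_mem_commutator (Subgroup.mem_sup_left hp)
          (Subgroup.commutator_le_self _ hx)⟩
        rw [show p * x * p⁻¹ * x⁻¹ = p * (x * p⁻¹ * x⁻¹) by group]
        exact mul_mem hpN (hNn x (hX P Q hx) _ (inv_mem hpN))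
      have hadd : ∀ x ∈ K, ∀ y ∈ K, p * (x * y) * p⁻¹ * (x * y)⁻¹ =
          (p * x * p⁻¹ * x⁻¹) * (p * y * p⁻¹ * y⁻¹) := fun x hx y hy => by
        have e := h _ (hpc y hy).1 (hpc y hy).2 x hx
        calc p * (x * y) * p⁻¹ * (x * y)⁻¹
            = (p * x * p⁻¹ * x⁻¹) * (x * (p * y * p⁻¹ * y⁻¹) * x⁻¹) := by group
          _ = _ := by rw [e, mul_inv_cancel_right]
      have hcen : K ≤ Subgroup.centralizer {p} := by
        rw [hK, ← hb.perfect, Subgroup.commutator_le]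
        intro x hx y hy
        rw [Subgroup.mem_centralizer_singleton_iff]
        have e1 := hadd x hx y hy
        have e2 := hadd y hy x hx
        have e3 := hadd (x * y * x⁻¹ * y⁻¹)
          (Subgroup.commutator_le_self _ (Subgroup.commutator_mem_commutator hx hy)) (y * x) (mul_mem hy hx)
        rw [show x * y * x⁻¹ * y⁻¹ * (y * x) = x * y by group, e1, e2] at e3
        have cc : (p * x * p⁻¹ * x⁻¹) * (p * y * p⁻¹ * y⁻¹) =
            (p * y * p⁻¹ * y⁻¹) * (p * x * p⁻¹ * x⁻¹) :=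
          (h _ (hpc y hy).1 (hpc y hy).2 _ (hpc x hx).2)
        rw [cc] at e3
        have e4 : p * (x * y * x⁻¹ * y⁻¹) * p⁻¹ * (x * y * x⁻¹ * y⁻¹)⁻¹ = 1 := by
          have := right_eq_mul.1 e3
          exact this
        rw [mul_inv_eq_one, mul_inv_eq_iff_eq_mul] at e4
        rw [commutatorElement_def]
        exact e4.symm
      obtain ⟨q, hq, hne⟩ := not_centralise hPQ hp hp1
      have hle : P ⊔ Q ≤ Subgroup.centralizer {p} := hb.gen.trans (sup_le hcen fun x hx =>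
        Subgroup.mem_centralizer_singleton_iff.2
          (commute_of_bracket_bot (commutative_bracket (hS.commutative P hP)) hx hp))
      exact hne (Subgroup.mem_centralizer_singleton_iff.1 (hle (Subgroup.mem_sup_right hq))).symm
    have all_meet : ∀ B ∈ S, ∃ p ∈ B, p ∈ N ∧ p ≠ 1 := fun B hB => by
      have hp := h1 A hA B hB
      clear hB
      induction hp with
      | refl => exact ⟨a, ha, haN, ha1⟩
      | tail _ hadj ih =>
        obtain ⟨q, hq, hqK, hq1⟩ := (hbig _ hadj.2.1 _ hadj.1 (Cfsg.RankOnePair_symm hadj.2.2)).meet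
        refine ⟨q, hq, step _ hadj.1 _ hadj.2.1 hadj.2.2 ih ?_, hq1⟩
        rwa [sup_comm] at hqK
    have hpairs : ∀ P ∈ S, ∀ Q ∈ S, Cfsg.IsRankOnePair P Q → ⁅P ⊔ Q, P ⊔ Q⁆ ≤ N :=
      fun P hP Q hQ h => step P hP Q hQ h (all_meet P hP)
    refine le_trans (comm_le hS N.normalCore fun P hP Q hQ => ?_) N.normalCore_le
    rcases hS.pair P hP Q hQ with h | h | h
    · rw [h]; exact bot_le
    · intro x hx g
      have h' : g * x * g⁻¹ ∈ ⁅Cfsg.conjBy P g, Cfsg.conjBy Q g⁆ := by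
        rw [Cfsg.conjBy, Cfsg.conjBy, ← Subgroup.map_commutator]
        exact ⟨x, hx, rfl⟩
      exact hpairs _ (hS.conj_mem P hP g) _ (hS.conj_mem Q hQ g) (conj_pair h g)
        (Subgroup.commutator_mono le_sup_left le_sup_right h')
    · exact absurd h (hd P hP Q hQ)
  by_cases hmeet : ∃ A ∈ S, ∃ a ∈ A, a ∈ M ∧ a ≠ 1
  · exact Or.inl (meet M hMn hmeet)
  right
  push Not at hmeet
  by_cases hfix : ∀ n ∈ M, ∀ A ∈ S, Cfsg.conjBy A n = A
  · -- then `M` centralises every `A ⊓ G'`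
    intro m hm
    have hle : commutator G ≤ Subgroup.centralizer (M : Set G) := by
      refine meet _ (fun g hg z hz => Subgroup.mem_centralizer_iff.2 fun w hw => ?_) ?_
      · have hw' : g⁻¹ * w * g ∈ M := by simpa using hMn g⁻¹ (inv_mem hg) w hw
        have e := Subgroup.mem_centralizer_iff.1 hz _ hw'
        calc w * (g * z * g⁻¹) = g * ((g⁻¹ * w * g) * z) * g⁻¹ := by group
          _ = g * (z * (g⁻¹ * w * g)) * g⁻¹ := by rw [e]
          _ = g * z * g⁻¹ * w := by group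
      · obtain ⟨A, hA⟩ := hSne
        obtain ⟨B, hB, hAB⟩ := hall A hA
        obtain ⟨x, hx, hxK, hx1⟩ := (hbig A hA B hB hAB).meet
        refine ⟨A, hA, x, hx, Subgroup.mem_centralizer_iff.2 fun w hw => ?_, hx1⟩
        have h3 : w * x * w⁻¹ * x⁻¹ ∈ A := by
          refine mul_mem ?_ (inv_mem hx)
          rw [← hfix w hw A hA]
          exact ⟨x, hx, rfl⟩
        have h4 : w * x * w⁻¹ * x⁻¹ ∈ M := by
          rw [show w * x * w⁻¹ * x⁻¹ = w * (x * w⁻¹ * x⁻¹) by group]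
          exact mul_mem hw (hMn x (hX A B hxK) _ (inv_mem hw))
        have h5 := hmeet A hA _ h3 h4
        rwa [mul_inv_eq_one, mul_inv_eq_iff_eq_mul] at h5
    intro g hg
    exact (Subgroup.mem_centralizer_iff.1 (hle hg) m hm).symm
  exfalso
  push Not at hfix
  obtain ⟨n, hn, A, hA, hne⟩ := hfix
  obtain ⟨E, hE, C, hC, hEC, hcomm⟩ := move_case hS h2' hMle hMn hA hn hne
  have hpair : Cfsg.IsRankOnePair E C :=
    ((hS.pair E hE C hC).resolve_left hEC).resolve_right (hd E hE C hC)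
  have hb := hbig E hE C hC hpair
  obtain ⟨e, he, heK, he1⟩ := hb.meet
  obtain ⟨c, hc, hcK, hc1⟩ := (hbig C hC E hE (Cfsg.RankOnePair_symm hpair)).meet
  rw [sup_comm] at hcK
  rcases hb.dich M fun k hk m hm _ => hMn k (hX E C hk) m hm with h | h
  · exact he1 (hmeet E hE e he (h heK))
  set z := e * c * e⁻¹ * c⁻¹ with hz
  have hzM : z ∈ M := hcomm e he (hX E C heK) c hc (hX E C hcK)
  have hzK : z ∈ ⁅E ⊔ C, E ⊔ C⁆ :=
    Subgroup.commutator_mem_commutator (Subgroup.mem_sup_left he) (Subgroup.mem_sup_right hc)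
  have hze : e * z = z * e := h z hzM hzK e heK
  have hzE : Cfsg.conjBy E z = E := by
    refine eq_of_inter hS hpair hC (hS.conj_mem E hE z) he ?_ he1
    exact mem_conjBy.2 (by rw [mul_assoc, hze, inv_mul_cancel_left]; exact he)
  have hne2 : Cfsg.conjBy E c ≠ E := fun h' => hc1 (fix_left hpair hc h')
  have hp2 : Cfsg.IsRankOnePair E (Cfsg.conjBy E c) :=
    (pair_of_ne hpair left_mem (conj_mem' left_mem (Subgroup.mem_sup_right hc)) hne2.symm).1
  have hmem : c * e⁻¹ * c⁻¹ ∈ Cfsg.conjBy E c := ⟨e⁻¹, inv_mem he, rfl⟩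
  have hfix2 : Cfsg.conjBy E (c * e⁻¹ * c⁻¹) = E := by
    have := conjBy_mul E e⁻¹ z
    rw [hzE, conjBy_of_mem (inv_mem he)] at this
    rwa [show e⁻¹ * z = c * e⁻¹ * c⁻¹ by rw [hz]; group] at this
  have := fix_left hp2 hmem hfix2
  rw [mul_inv_eq_one, mul_eq_left, inv_eq_one] at this
  exact he1 this

/-- The non-degenerate case: normal subgroups. -/
theorem nondeg_dich (hS : Cfsg.IsRootSubgroupClass S) (hnd : Cfsg.IsNondegenerateRootSet S)
    (h2' : ∀ A ∈ S, ∀ C ∈ S, A ≠ C → Cfsg.centralizingMembers S A ≠ Cfsg.centralizingMembers S C)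
    (hG : commutator G = ⊤)
    (M : Subgroup G) [hMn : M.Normal] : M = ⊤ ∨ M ≤ Subgroup.center G := by
  have meet : (∃ A ∈ S, ∃ a ∈ A, a ∈ M ∧ a ≠ 1) → M = ⊤ := by
    intro ⟨A, hA, a, ha, haM, ha1⟩
    obtain ⟨P, hP, Q, hQ, hPQ⟩ := hnd.2.2
    obtain ⟨g, rfl⟩ := hS.2.2 P hP A hA
    have hcase : Cfsg.RootCommutatorCase S (Cfsg.conjBy P g) (Cfsg.conjBy Q g) := by
      refine commutator_case hS.1 (hS.1.conj_mem P hP g) (hS.1.conj_mem Q hQ g) ?_
      rw [Cfsg.conjBy, Cfsg.conjBy, ← Subgroup.map_commutator]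
      exact hS.1.conj_mem _ hPQ.1 g
    have hD : ⁅Cfsg.conjBy P g, Cfsg.conjBy Q g⁆ ≤ M := by
      rw [← hcase.2.2.1 a ha ha1, Subgroup.closure_le]
      rintro _ ⟨b, -, rfl⟩
      rw [SetLike.mem_coe]
      show a * b * a⁻¹ * b⁻¹ ∈ M
      rw [show a * b * a⁻¹ * b⁻¹ = a * (b * a⁻¹ * b⁻¹) by group]
      exact mul_mem haM (hMn.conj_mem _ (inv_mem haM) b)
    rw [eq_top_iff, ← hS.1.generates]
    refine iSup₂_le fun B hB => ?_
    obtain ⟨h, rfl⟩ := hS.2.2 _ hcase.1 B hB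
    rintro _ ⟨x, hx, rfl⟩
    exact hMn.conj_mem x (hD hx) h
  by_cases hmeet : ∃ A ∈ S, ∃ a ∈ A, a ∈ M ∧ a ≠ 1
  · exact Or.inl (meet hmeet)
  right
  push Not at hmeet
  by_cases hfix : ∀ n ∈ M, ∀ A ∈ S, Cfsg.conjBy A n = A
  · intro n hn
    rw [Subgroup.mem_center_iff]
    have hle : (⊤ : Subgroup G) ≤ Subgroup.centralizer {n} := by
      rw [← hS.1.generates]
      refine iSup₂_le fun A hA a ha => Subgroup.mem_centralizer_singleton_iff.2 ?_
      have h3 : n * a * n⁻¹ * a⁻¹ ∈ A := by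
        refine mul_mem ?_ (inv_mem ha)
        rw [← hfix n hn A hA]
        exact ⟨a, ha, rfl⟩
      have h4 : n * a * n⁻¹ * a⁻¹ ∈ M := by
        rw [show n * a * n⁻¹ * a⁻¹ = n * (a * n⁻¹ * a⁻¹) by group]
        exact mul_mem hn (hMn.conj_mem _ (inv_mem hn) a)
      have h5 := hmeet A hA _ h3 h4
      rw [mul_inv_eq_one, mul_inv_eq_iff_eq_mul] at h5
      exact h5.symm
    exact fun g => Subgroup.mem_centralizer_singleton_iff.1 (hle (Subgroup.mem_top g))
  exfalso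
  push Not at hfix
  obtain ⟨n, hn, A, hA, hne⟩ := hfix
  have hG' : ∀ x : G, x ∈ commutator G := fun x => hG ▸ Subgroup.mem_top x
  obtain ⟨E, hE, C, hC, hEC, hcomm⟩ :=
    move_case hS.1 h2' (fun x _ => hG' x) (fun g _ m hm => hMn.conj_mem m hm g) hA hn hne
  have hle : ⁅E, C⁆ ≤ M := Subgroup.commutator_le.2 fun e he c hc => hcomm e he (hG' e) c hc (hG' c)
  rcases hS.1.pair E hE C hC with h | h | h
  · exact hEC h
  · obtain ⟨L, hL, hcase, hEL⟩ := exists_line_case hS hnd hE hC h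
    set f := QuotientGroup.mk' M with hf
    have z1 : ∀ x : G, x ∈ M ↔ f x = 1 := fun x => (QuotientGroup.eq_one_iff x).symm
    have hEl : ∀ e ∈ E, ∀ l ∈ L, f e * f l = f l * f e := fun e he l hl => by
      rw [← map_mul, ← map_mul, commute_of_bracket_bot hL.1.2.2 he hl]
    have hEc : ∀ e ∈ E, ∀ c ∈ C, f e * f c = f c * f e := fun e he c hc => by
      have := (z1 _).1 (hle (Subgroup.commutator_mem_commutator he hc))
      rwa [map_commutatorElement, commutatorElement_eq_one_iff_mul_comm] at this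
    have hLM : L ≤ M := by
      rw [← hEL, Subgroup.commutator_le]
      intro e he d hd
      rw [z1, map_commutatorElement, commutatorElement_eq_one_iff_mul_comm]
      have hd' : d ∈ (Subgroup.centralizer {f e}).comap f := by
        have hb : ⁅L, C⁆ ≤ (Subgroup.centralizer {f e}).comap f :=
          Subgroup.commutator_le.2 fun l hl c hc => by
            rw [commutatorElement_def, Subgroup.mem_comap]
            simp only [map_mul, map_inv]
            have hl' : f l ∈ Subgroup.centralizer {f e} :=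
              Subgroup.mem_centralizer_singleton_iff.2 (hEl e he l hl).symm
            have hc' : f c ∈ Subgroup.centralizer {f e} :=
              Subgroup.mem_centralizer_singleton_iff.2 (hEc e he c hc).symm
            exact mul_mem (mul_mem (mul_mem hl' hc') (inv_mem hl')) (inv_mem hc')
        exact hb hd
      exact (Subgroup.mem_centralizer_singleton_iff.1 hd').symm
    obtain ⟨l, hl, hl1⟩ := (Subgroup.bot_or_exists_ne_one _).resolve_left (hS.1.ne_bot _ hL.1.1)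
    exact hl1 (hmeet L hL.1.1 l hl (hLM hl))
  · obtain ⟨l, hl, hl1⟩ := (Subgroup.bot_or_exists_ne_one _).resolve_left (hS.1.ne_bot _ h.1)
    exact hl1 (hmeet _ h.1 l hl (hle hl))

/-- Quasisimplicity criterion for groups generated by abstract root subgroups. Let S be a set of abstract root subgroups of G with more than one member such that: the graph of rank one pairs on S is connected; no two different members of S have the same set of commuting members of S; if S is degenerate then every member of S has more than three elements; and every rank one pair in S is special. Then for every A ∈ S one has G = G' A with A ∩ G' ≠ 1, and the commutator subgroup G' is quasisimple. Moreover G is perfect if S is non-degenerate, or if some rank one pair A, B in S generates a perfect group. -/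
theorem result {G : Type*} [Group G] {S : Set (Subgroup G)} (hS : Cfsg.IsRootSubgroupSet S) (h2 : ∃ A ∈ S, ∃ B ∈ S, A ≠ B)
    (h1 : Cfsg.IsConnectedFamily (Cfsg.FAdj S) S)
    (h2' : ∀ A ∈ S, ∀ C ∈ S, A ≠ C → Cfsg.centralizingMembers S A ≠ Cfsg.centralizingMembers S C)
    (h3 : Cfsg.IsDegenerateRootSet S → ∀ A ∈ S, 3 < ENat.card A)
    (h4 : ∀ A ∈ S, ∀ B ∈ Cfsg.rankOnePartners S A, Cfsg.IsSpecialRankOnePair A B) :
    (∀ A ∈ S, commutator G ⊔ A = ⊤ ∧ A ⊓ commutator G ≠ ⊥) ∧ Cfsg.IsQuasisimple ↥(commutator G) ∧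
    (Cfsg.IsNondegenerateRootSet S → commutator G = ⊤) ∧
    ((∃ A ∈ S, ∃ B ∈ Cfsg.rankOnePartners S A, Group.IsPerfect ↥(A ⊔ B)) → commutator G = ⊤) := by
  have hpairs : Cfsg.IsConjClassOfSubgroups S ∧ ∃ A ∈ S, ¬ Cfsg.IsIsolatedIn (Cfsg.FAdj S) S A :=
    (Cfsg.Agent.S5032.result hS h2).1 h1
  have hcls : Cfsg.IsRootSubgroupClass S := ⟨hS, hpairs.1⟩
  obtain ⟨A₀, hA₀, hiso⟩ := hpairs.2
  obtain ⟨B₀, hB₀, hAB₀⟩ := exists_partner hiso hA₀
  have hall := hall_of_class hcls ⟨A₀, hA₀, B₀, hB₀, hAB₀⟩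
  have hsup : ∀ A ∈ S, commutator G ⊔ A = ⊤ := fun A hA => by
    rw [eq_top_iff, ← hS.generates]
    refine iSup₂_le fun B hB => ?_
    obtain ⟨g, rfl⟩ := hpairs.1.2 A hA B hB
    rintro _ ⟨a, ha, rfl⟩
    show g * a * g⁻¹ ∈ _
    rw [show g * a * g⁻¹ = ⁅g, a⁆ * a by rw [commutatorElement_def]; group, commutator_def]
    exact mul_mem (Subgroup.mem_sup_left (Subgroup.commutator_mem_commutator (Subgroup.mem_top g)
      (Subgroup.mem_top a))) (Subgroup.mem_sup_right ha)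
  have htop : ∀ A ∈ S, A ≤ commutator G → commutator G = ⊤ := fun A hA hle =>
    top_le_iff.1 ((hsup A hA) ▸ sup_le le_rfl hle)
  have hperfP : (∃ A ∈ S, ∃ B ∈ Cfsg.rankOnePartners S A, Group.IsPerfect ↥(A ⊔ B)) →
      commutator G = ⊤ := fun ⟨A, hA, B, _, hp⟩ => htop A hA <| by
    have := Subgroup.isPerfect_iff.1 hp
    rw [commutator_def]
    exact le_sup_left.trans (this.symm.le.trans (Subgroup.commutator_mono le_top le_top))
  by_cases hd : Cfsg.IsDegenerateRootSet S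
  · have hbig : ∀ P ∈ S, ∀ Q ∈ S, Cfsg.IsRankOnePair P Q → BigPair P Q := fun P hP Q hQ h =>
      bigPair (hS.commutative P hP) (hS.commutative Q hQ) (h4 P hP Q ⟨hQ, h⟩) (h3 hd P hP)
    have hX : ∀ P Q : Subgroup G, ⁅P ⊔ Q, P ⊔ Q⁆ ≤ commutator G := fun P Q => by
      rw [commutator_def]; exact Subgroup.commutator_mono le_top le_top
    refine ⟨fun A hA => ⟨hsup A hA, ?_⟩, ⟨?_, ?_⟩, ?_, hperfP⟩
    · obtain ⟨B, hB, hAB⟩ := hall A hA
      obtain ⟨x, hx, hxK, hx1⟩ := (hbig A hA B hB hAB).meet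
      exact fun h => hx1 (Subgroup.mem_bot.1 (h ▸ ⟨hx, hX A B hxK⟩))
    · rw [Subgroup.isPerfect_iff]
      refine le_antisymm (Subgroup.commutator_le_self _) (comm_le hS _ fun P hP Q hQ => ?_)
      rcases hS.pair P hP Q hQ with h | h | h
      · rw [h]; exact bot_le
      · refine (Subgroup.commutator_mono (K₁ := P ⊔ Q) (K₂ := P ⊔ Q) le_sup_left le_sup_right).trans ?_
        rw [← (hbig P hP Q hQ h).perfect]
        exact Subgroup.commutator_mono (hX P Q) (hX P Q)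
      · exact absurd h (hd P hP Q hQ)
    · have key := deg_dich hS hd h1 ⟨A₀, hA₀⟩ h2' hall hbig
      haveI : Nontrivial (↥(commutator G) ⧸ Subgroup.center ↥(commutator G)) := by
        obtain ⟨x, hx, hxK, hx1⟩ := (hbig A₀ hA₀ B₀ hB₀ hAB₀).meet
        obtain ⟨y, hy, hyK, hy1⟩ := (hbig B₀ hB₀ A₀ hA₀ (Cfsg.RankOnePair_symm hAB₀)).meet
        refine ⟨⟨QuotientGroup.mk ⟨x, hX _ _ hxK⟩, 1, fun he => ?_⟩⟩
        have h5 := congrArg Subtype.val
          (Subgroup.mem_center_iff.1 ((QuotientGroup.eq_one_iff _).1 he) ⟨y, hX _ _ hyK⟩)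
        simp only [Subgroup.coe_mul] at h5
        refine hx1 (fix_right hAB₀ hx ?_)
        refine eq_of_inter hS (Cfsg.RankOnePair_symm hAB₀) hA₀ (hS.conj_mem B₀ hB₀ x) hy ?_ hy1
        exact mem_conjBy.2 (by rw [mul_assoc, h5, inv_mul_cancel_left]; exact hy)
      refine ⟨fun N hN => ?_⟩
      have hNc := hN.comap (QuotientGroup.mk' (Subgroup.center ↥(commutator G)))
      set W := (N.comap (QuotientGroup.mk' (Subgroup.center ↥(commutator G)))).map (commutator G).subtype with hW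
      rcases key W (Subgroup.map_subtype_le _) (fun g hg m ⟨m', hm', e⟩ => by
        subst e
        exact ⟨⟨g, hg⟩ * m' * ⟨g, hg⟩⁻¹, hNc.conj_mem m' hm' _, rfl⟩) with h | h
      · right
        rw [eq_top_iff]
        intro q _
        obtain ⟨x, rfl⟩ := QuotientGroup.mk'_surjective _ q
        obtain ⟨x', hx', e⟩ := h x.2
        exact (Subtype.ext e : x' = x) ▸ hx'
      · left
        rw [eq_bot_iff]
        intro q hq
        obtain ⟨x, rfl⟩ := QuotientGroup.mk'_surjective _ q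
        refine Subgroup.mem_bot.2 ((QuotientGroup.eq_one_iff x).2 (Subgroup.mem_center_iff.2 fun g => ?_))
        exact Subtype.ext (h (x : G) ⟨x, hq, rfl⟩ g g.2)
    · intro hnd
      obtain ⟨P, hP, Q, hQ, h⟩ := hnd.2.2
      exact absurd h (hd P hP Q hQ)
  · unfold Cfsg.IsDegenerateRootSet at hd
    push Not at hd
    obtain ⟨P, hP, Q, hQ, hPQ⟩ := hd
    have hnd : Cfsg.IsNondegenerateRootSet S := ⟨⟨_, hPQ.1, P, hP, bracket_ne_left hS hPQ,
      le_bot_iff.1 (Subgroup.commutator_le.2 fun x hx y hy => Subgroup.mem_bot.2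
        (commutatorElement_eq_one_iff_mul_comm.2 (hPQ.2.1 x hx y (Subgroup.mem_sup_left hy))))⟩,
      ⟨A₀, hA₀, B₀, hB₀, hAB₀⟩, P, hP, Q, hQ, hPQ⟩
    have hG : commutator G = ⊤ := htop _ hPQ.1 (by
      rw [commutator_def]; exact Subgroup.commutator_mono le_top le_top)
    refine ⟨fun A hA => ⟨hsup A hA, by rw [hG, inf_top_eq]; exact hS.ne_bot A hA⟩, ?_, fun _ => hG, hperfP⟩
    haveI hperf : Group.IsPerfect G := ⟨hG⟩
    haveI : Nontrivial (G ⧸ Subgroup.center G) := by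
      obtain ⟨a, ha, ha1⟩ := left_ne_bot hAB₀
      obtain ⟨b, -, hn⟩ := not_centralise hAB₀ ha ha1
      exact ⟨⟨QuotientGroup.mk a, 1, fun he => hn
        (Subgroup.mem_center_iff.1 ((QuotientGroup.eq_one_iff a).1 he) b).symm⟩⟩
    have hqs : Cfsg.IsQuasisimple G := by
      refine ⟨hperf, ⟨fun N hN => ?_⟩⟩
      haveI := hN.comap (QuotientGroup.mk' (Subgroup.center G))
      rcases nondeg_dich hcls hnd h2' hG (N.comap (QuotientGroup.mk' (Subgroup.center G))) with h | h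
      · right
        rw [eq_top_iff]
        intro q _
        obtain ⟨x, rfl⟩ := QuotientGroup.mk'_surjective _ q
        exact (h.symm ▸ Subgroup.mem_top x : x ∈ N.comap _)
      · left
        rw [eq_bot_iff]
        intro q hq
        obtain ⟨x, rfl⟩ := QuotientGroup.mk'_surjective _ q
        exact Subgroup.mem_bot.2 ((QuotientGroup.eq_one_iff x).2 (h hq))
    rw [hG]
    exact Local.isQuasisimple_congr Subgroup.topEquiv.symm hqs

end Cfsg.Agent.S5033
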