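import Cfsg.Statements.S5034
import Cfsg.Agent.Lib.Classical.RootClass
import Cfsg.Agent.S5019

set_option autoImplicit false
open Cfsg

namespace Cfsg.Agent.S5034

open Cfsg.Agent.Classical.RankOne
open scoped commutatorElement

/-- A rank one pair acting quadratically on an abelian normalised subgroup is special. -/
theorem special {G : Type*} [Group G] {A B N : Subgroup G} (h : Cfsg.IsRankOnePair A B)
    (hA : IsMulCommutative A) (hB : IsMulCommutative B) (hN : IsMulCommutative N)
    (hnorm : A ⊔ B ≤ Subgroup.normalizer (N : Set G))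
    (hq : ∀ a ∈ A, ∀ a' ∈ A, ∀ n ∈ N, a' * ⁅a, n⁆ * a'⁻¹ = ⁅a, n⁆)
    (hX : ∃ a ∈ A, ∃ b ∈ B, ∃ n ∈ N, b * ⁅a, n⁆ * b⁻¹ ≠ ⁅a, n⁆) :
    Cfsg.IsSpecialRankOnePair A B := by
  set X := A ⊔ B with hXd
  haveI := hN
  letI : CommGroup N := { (inferInstance : Group N) with mul_comm := fun a b => mul_comm' a b }
  letI : DistribMulAction X (Additive N) :=
    { smul := fun x n => Additive.ofMul ⟨(x : G) * (n.toMul : G) * (x : G)⁻¹,
        (Subgroup.mem_normalizer_iff.1 (hnorm x.2) _).1 n.toMul.2⟩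
      one_smul := fun n => Additive.toMul.injective (Subtype.ext (by
        show ((1 : X) : G) * (n.toMul : G) * ((1 : X) : G)⁻¹ = _
        simp))
      mul_smul := fun x y n => Additive.toMul.injective (Subtype.ext (by
        show ((x * y : X) : G) * (n.toMul : G) * ((x * y : X) : G)⁻¹ =
          (x : G) * ((y : G) * (n.toMul : G) * (y : G)⁻¹) * (x : G)⁻¹
        rw [Subgroup.coe_mul]; group))
      smul_zero := fun x => Additive.toMul.injective (Subtype.ext (by
        show (x : G) * ((1 : N) : G) * (x : G)⁻¹ = ((1 : N) : G)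
        simp))
      smul_add := fun x m n => Additive.toMul.injective (Subtype.ext (by
        show (x : G) * ((m.toMul * n.toMul : N) : G) * (x : G)⁻¹ =
          (x : G) * (m.toMul : G) * (x : G)⁻¹ * ((x : G) * (n.toMul : G) * (x : G)⁻¹)
        rw [Subgroup.coe_mul]; group)) }
  have act : ∀ (x : X) (n : Additive N),
      (((x • n - n : Additive N).toMul : N) : G) = ⁅(x : G), (n.toMul : G)⁆ := fun x n => by
    show (((x • n).toMul / n.toMul : N) : G) = _
    rw [div_eq_mul_inv, Subgroup.coe_mul, Subgroup.coe_inv, commutatorElement_def]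
    rfl
  have ext' : ∀ {m n : Additive N}, ((m.toMul : N) : G) = ((n.toMul : N) : G) → m = n :=
    fun e => Additive.toMul.injective (Subtype.ext e)
  have hA' : A ≤ X := le_sup_left
  have hB' : B ≤ X := le_sup_right
  have hgrp : Cfsg.IsRankOneGroup X (A.subgroupOf X) (B.subgroupOf X) :=
    ⟨by rw [← Subgroup.subgroupOf_sup hA' hB', Subgroup.subgroupOf_self], pair_subgroupOf h hA' hB'⟩
  have comm : ∀ P : Subgroup G, IsMulCommutative P → IsMulCommutative (P.subgroupOf X) := fun P hP =>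
    ⟨⟨fun x y => Subtype.ext (Subtype.ext (by
      have := hP.1.1 ⟨(x : X), x.2⟩ ⟨(y : X), y.2⟩
      simpa using congrArg Subtype.val this))⟩⟩
  have hs := Cfsg.Agent.S5019.result hgrp ⟨comm A hA, comm B hB⟩ (N := Additive N)
    (fun a ha a' ha' n => ext' (by
      rw [act]
      show (a' : G) * _ * (a' : G)⁻¹ = _
      rw [act]
      exact hq a ha a' ha' _ n.toMul.2))
    (by
      obtain ⟨a, ha, b, hb, n, hn, hne⟩ := hX
      refine ⟨⟨a, hA' ha⟩, ⟨b, hB' hb⟩, Additive.ofMul ⟨n, hn⟩, fun e => hne ?_⟩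
      have e2 := congrArg (fun m : Additive N => ((m.toMul : N) : G)) e
      simp only [act] at e2
      change b * _ * b⁻¹ = ⁅a, n⁆ at e2
      rw [act] at e2
      exact e2)
  refine ⟨h, fun a ha ha1 b hb hb1 he => ?_⟩
  have e := hs.2 ⟨a, hA' ha⟩ ha (fun e => ha1 (congrArg Subtype.val e)) ⟨b, hB' hb⟩ hb
    (fun e => hb1 (congrArg Subtype.val e)) ?_
  · exact congrArg Subtype.val e
  · ext y
    rw [mem_conjBy, mem_conjBy, Subgroup.mem_subgroupOf, Subgroup.mem_subgroupOf]
    simp only [Subgroup.coe_mul, Subgroup.coe_inv, inv_inv]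
    simpa only [mem_conjBy, inv_inv] using SetLike.ext_iff.1 he (y : G)

/-- Let S be a non-degenerate class of abstract root subgroups of G, A ∈ S and B a rank one partner of A. Then some line partner C of A has ⁅B, C⁆ ∈ S, and the rank one pair A, B is special. -/
theorem result {G : Type*} [Group G] {S : Set (Subgroup G)} (hS : Cfsg.IsRootSubgroupClass S) (hnd : Cfsg.IsNondegenerateRootSet S)
    {A B : Subgroup G} (hA : A ∈ S) (hB : B ∈ Cfsg.rankOnePartners S A) :
    (∃ C ∈ Cfsg.linePartners S A, C ∈ Cfsg.commutatorPartners S B) ∧ Cfsg.IsSpecialRankOnePair A B := by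
  obtain ⟨C, hC, hcase, hEq⟩ := exists_line_case hS hnd hA hB.1 hB.2
  have hall := hall_of_class hS hnd.2.1
  have hCS := hC.1.1
  have hDS := hcase.1
  set D := ⁅C, B⁆ with hD
  refine ⟨⟨C, hC, hCS, by rw [Subgroup.commutator_comm]; exact hDS⟩, ?_⟩
  have hAD : Cfsg.RootCommutatorCase S A D := commutator_case hS.1 hA hDS (hEq.symm ▸ hCS)
  have hDA : Cfsg.RootCommutatorCase S D A :=
    commutator_case hS.1 hDS hA (by rw [Subgroup.commutator_comm, hEq]; exact hCS)
  have hCD : ∀ d ∈ D, ∀ c ∈ C, d * c = c * d := fun d hd c hc =>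
    hcase.2.1 d hd c (Subgroup.mem_sup_left hc)
  have hCA : ∀ c ∈ C, ∀ a ∈ A, c * a = a * c := fun c hc a ha =>
    (commute_of_bracket_bot hC.1.2.2 ha hc).symm
  have hN : IsMulCommutative ↥(C ⊔ D) := by
    have hle : C ⊔ D ≤ Subgroup.centralizer ((C ⊔ D : Subgroup G) : Set G) := by
      have cc := commutative_bracket (hS.1.commutative C hCS)
      have dd := commutative_bracket (hS.1.commutative D hDS)
      refine sup_le ?_ ?_ <;> intro x hx <;> rw [Subgroup.mem_centralizer_iff] <;> intro y hy <;>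
        refine (Subgroup.mem_centralizer_singleton_iff.1 ((?_ : C ⊔ D ≤ Subgroup.centralizer {x}) hy)) <;>
        refine sup_le ?_ ?_ <;> intro w hw <;> rw [Subgroup.mem_centralizer_singleton_iff]
      · exact commute_of_bracket_bot cc hw hx
      · exact hCD w hw x hx
      · exact (hCD x hx w hw).symm
      · exact commute_of_bracket_bot dd hw hx
    exact ⟨⟨fun x y => Subtype.ext (Subgroup.mem_centralizer_iff.1 (hle y.2) x x.2)⟩⟩
  refine special hB.2 (hS.1.commutative A hA) (hS.1.commutative B hB.1) hN (sup_le ?_ ?_) ?_ ?_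
  · intro a ha
    have e := conj_line hDA ha
    rw [Subgroup.commutator_comm, hEq, sup_comm] at e
    exact mem_normalizer_iff_conjBy.2 e
  · intro b hb
    exact mem_normalizer_iff_conjBy.2 (conj_line hcase hb)
  · intro a ha a' ha' n hn
    obtain ⟨c, hc, d, hd, rfl⟩ : ∃ c ∈ C, ∃ d ∈ D, c * d = n := by
      have hnorm : C ≤ Subgroup.normalizer (D : Set G) := fun c hc => mem_normalizer_iff_conjBy.2
        (conjBy_eq_self_of_comm fun d hd => (hCD d hd c hc).symm)
      rwa [← SetLike.mem_coe, Subgroup.coe_mul_of_left_le_normalizer_right C D hnorm, Set.mem_mul] at hn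
    have hmem : ⁅a, c * d⁆ ∈ C := by
      rw [commutatorElement_mul_right_eq_mul_conj]
      have hac : ⁅a, c⁆ = 1 := commutatorElement_eq_one_iff_mul_comm.2 (hCA c hc a ha).symm
      rw [hac, one_mul]
      have : ⁅a, d⁆ ∈ C := hEq ▸ Subgroup.commutator_mem_commutator ha hd
      exact mul_mem (mul_mem hc this) (inv_mem hc)
    rw [← hCA _ hmem a' ha', mul_inv_cancel_right]
  · obtain ⟨a, ha, ha1⟩ := left_ne_bot hB.2
    obtain ⟨d, hd, hd1⟩ := (Subgroup.bot_or_exists_ne_one _).resolve_left (hS.1.ne_bot _ hDS)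
    obtain ⟨b, hb, hb1⟩ := left_ne_bot (Cfsg.RankOnePair_symm hB.2)
    refine ⟨a, ha, b, hb, d, Subgroup.mem_sup_right hd, fun e => ?_⟩
    obtain ⟨C', hC', hCC⟩ := hall C hCS
    have hc : ⁅a, d⁆ ∈ C := hEq ▸ Subgroup.commutator_mem_commutator ha hd
    have hc1 : ⁅a, d⁆ ≠ 1 := fun h0 => hd1 (bracket_injective hS.1 hB.2 hA hB.1 hAD ha ha1 hd
      (commutatorElement_eq_one_iff_mul_comm.1 h0))
    refine hb1 (bracket_injective hS.1 hCC hCS hC' hcase hc hc1 hb ?_)
    exact (mul_inv_eq_iff_eq_mul.1 e).symm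

end Cfsg.Agent.S5034
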