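import Cfsg.Statements.S5035
import Cfsg.Agent.Lib.Classical.RankOneBasic

set_option autoImplicit false
open Cfsg

namespace Cfsg.Agent.S5035

/-- Let S be a set of abstract root subgroups of G whose graph of rank one pairs is connected, and f a homomorphism from G onto a group H. Then either the images of the members of S form a set of abstract root subgroups of H whose graph of rank one pairs is again connected, or H equals the image of a member of S. -/
theorem result {G H : Type*} [Group G] [Group H] {S : Set (Subgroup G)} (hS : Cfsg.IsRootSubgroupSet S)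
    (hc : Cfsg.IsConnectedFamily (Cfsg.FAdj S) S) (f : G →* H) (hf : Function.Surjective f) :
    (Cfsg.IsRootSubgroupSet ((fun A : Subgroup G => A.map f) '' S) ∧
      Cfsg.IsConnectedFamily (Cfsg.FAdj ((fun A : Subgroup G => A.map f) '' S)) ((fun A : Subgroup G => A.map f) '' S)) ∨
    ∃ A ∈ S, A.map f = ⊤ := by
  classical
  by_cases hbot : ∃ A ∈ S, A.map f = ⊥
  · obtain ⟨A, hA, hAb⟩ := hbot
    right
    have hall : ∀ B ∈ S, B.map f = ⊥ := by
      intro B hB
      have hr := hc A hA B hB
      induction hr with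
      | refl => exact hAb
      | tail _ hadj ih =>
        exact Cfsg.Agent.Classical.RankOne.map_bot_iff f hadj.2.2 (ih hadj.1) (hS.ne_bot _ hadj.1)
    refine ⟨A, hA, ?_⟩
    rw [hAb]
    have h1 : (⨆ B ∈ S, B).map f = ⊥ := by
      rw [Subgroup.map_iSup, iSup_eq_bot]
      intro B
      rw [Subgroup.map_iSup, iSup_eq_bot]
      exact hall B
    rw [hS.generates, Subgroup.map_top_of_surjective f hf] at h1
    exact h1.symm
  left
  simp only [not_exists, not_and] at hbot
  refine ⟨⟨?_, ?_, ?_, ?_, ?_⟩, ?_⟩
  · rintro _ ⟨A, hA, rfl⟩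
    exact Cfsg.Agent.Classical.RankOne.map_commutative f (hS.commutative A hA)
  · rintro _ ⟨A, hA, rfl⟩
    exact hbot A hA
  · refine top_le_iff.mp ?_
    rw [← Subgroup.map_top_of_surjective f hf, ← hS.generates, Subgroup.map_iSup]
    refine iSup_le fun A => ?_
    rw [Subgroup.map_iSup]
    exact iSup_le fun hA => le_iSup₂_of_le (A.map f) ⟨A, hA, rfl⟩ le_rfl
  · rintro _ ⟨A, hA, rfl⟩ h
    obtain ⟨g, rfl⟩ := hf h
    exact ⟨conjBy A g, hS.conj_mem A hA g, Cfsg.Agent.Classical.RankOne.map_conjBy f A g⟩
  · rintro _ ⟨A, hA, rfl⟩ _ ⟨B, hB, rfl⟩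
    rcases hS.pair A hA B hB with h | h | ⟨h1, h2, h3, h4⟩
    · left; rw [← Subgroup.map_commutator, h, Subgroup.map_bot]
    · by_cases he : A.map f = B.map f
      · left
        change ⁅A.map f, B.map f⁆ = ⊥
        rw [← he]
        exact Cfsg.Agent.Classical.RankOne.commutative_bracket
          (Cfsg.Agent.Classical.RankOne.map_commutative f (hS.commutative A hA))
      · exact Or.inr (Or.inl (Cfsg.Agent.Classical.RankOne.map_pair f h he))
    · refine Or.inr (Or.inr ⟨⟨_, h1, Subgroup.map_commutator A B f⟩, ?_, ?_, ?_⟩)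
      · rw [← Subgroup.map_commutator, ← Subgroup.map_sup]
        rintro _ ⟨c, hc', rfl⟩ _ ⟨x, hx, rfl⟩
        rw [← map_mul, ← map_mul, h2 c hc' x hx]
      · rintro _ ⟨a, ha, rfl⟩ ha1
        rw [← Subgroup.map_commutator, ← h3 a ha fun h0 => ha1 (by rw [h0, map_one]), MonoidHom.map_closure]
        congr 1
        rw [Subgroup.coe_map, Set.image_image, Set.image_image]
        simp only [map_mul, map_inv]
      · rintro _ ⟨b, hb, rfl⟩ hb1
        rw [← Subgroup.map_commutator, ← h4 b hb fun h0 => hb1 (by rw [h0, map_one]), MonoidHom.map_closure]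
        congr 1
        rw [Subgroup.coe_map, Set.image_image, Set.image_image]
        simp only [map_mul, map_inv]
  · rintro _ ⟨A, hA, rfl⟩ _ ⟨B, hB, rfl⟩
    have hr := hc A hA B hB
    clear hB
    induction hr with
    | refl => exact Relation.ReflTransGen.refl
    | @tail C D _ hadj ih =>
      by_cases he : C.map f = D.map f
      · change Relation.ReflTransGen _ (A.map f) (D.map f)
        rw [← he]
        exact ih
      · exact ih.tail ⟨⟨C, hadj.1, rfl⟩, ⟨D, hadj.2.1, rfl⟩,
          Cfsg.Agent.Classical.RankOne.map_pair f hadj.2.2 he⟩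

end Cfsg.Agent.S5035
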