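import Cfsg.Statements.S5039
import Cfsg.Agent.S5034
import Cfsg.Agent.Lib.Classical.DegenerateAbelian

set_option autoImplicit false
universe u
open Cfsg

namespace Cfsg.Agent.S5039

open Cfsg.Agent.Classical.DegenRoot

variable {H : Type*} [Group H] {T : Set (Subgroup H)}

/-- In a degenerate class every member is in a triangle. -/
theorem exists_tri (hD : Deg T) (hc : Cfsg.IsConjClassOfSubgroups T) {A₀ C₀ : Subgroup H}
    (hAC : Cm T A₀ C₀) {A : Subgroup H} (hA : A ∈ T) : ∃ C D, Tri T A C D := by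
  by_contra hno
  simp only [not_exists] at hno
  have hnone : ∀ P ∈ T, ∀ C D, ¬ Tri T P C D := by
    intro P hP C D t
    obtain ⟨g, e⟩ := hc.2 A hA P hP
    have eP : cn P g = A := by
      rw [e, cn]
      exact Cfsg.Agent.Classical.RankOne.conjBy_cancel
    refine hno (cn C g) (cn D g) ⟨eP ▸ t.cm.map hD g, hD.root.conj_mem D t.memB _, ?_, ?_⟩
    · exact eP ▸ pair_cn t.pairA g
    · exact pair_cn t.pairC g
  have hpair : ∀ P Q, P ∈ T → Q ∈ T → Cfsg.IsRankOnePair P Q → ∀ X, Cm T P X → Cm T Q X := by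
    intro P Q hP hQ hPQ X hX
    by_contra h
    rcases hD.dich hQ hX.2.1 (fun e => (e ▸ hX).not_pair hPQ) with h1 | h1
    · exact h h1
    · exact hnone P hP X Q ⟨hX, hQ, hPQ, Cfsg.RankOnePair_symm h1⟩
  let K : Subgroup H :=
    { carrier := {g | Tw T A (cn A g)}
      one_mem' := by
        show Tw T A (cn A 1)
        rw [cn_one]; exact Tw.refl hA
      mul_mem' := fun {g g'} hg hg' => hg'.trans ((hg : Tw T A (cn A g)).map_one hD g')
      inv_mem' := fun {g} hg => by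
        have := (hg : Tw T A (cn A g)).map_one hD g⁻¹
        rw [mul_inv_cancel, cn_one] at this
        exact this.symm }
  have hle : ∀ X ∈ T, X ≤ K := by
    intro X hX x hx
    show Tw T A (cn A x)
    by_cases hXA : X = A
    · subst hXA; rw [cn_of_mem hx]; exact Tw.refl hA
    rcases hD.dich hA hX hXA with h | h
    · rw [h.symm.centr hx]; exact Tw.refl hA
    · have htw : Tw T A X :=
        ⟨hA, hX, fun Y => ⟨hpair A X hA hX h Y, hpair X A hX hA (Cfsg.RankOnePair_symm h) Y⟩⟩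
      exact Kg_tw hD hA (le_Kg htw hx)
  have htop : (⊤ : Subgroup H) ≤ K := hD.root.generates ▸ iSup₂_le hle
  have htw : ∀ X ∈ T, Tw T A X := by
    intro X hX
    obtain ⟨g, rfl⟩ := hc.2 A hA X hX
    have := htop (Subgroup.mem_top g⁻¹)
    change Tw T A (cn A g⁻¹) at this
    rwa [cn, inv_inv] at this
  exact ((((htw A₀ hAC.1).symm.trans (htw C₀ hAC.2.1)).iff C₀).1 hAC).2.2.1 rfl

/-- Let S be a class of abstract root subgroups of G containing two different commuting members. Suppose that, in case S is degenerate and every element of every member of S has order at most 3, the following holds: for every A ∈ S and every rank one partner B of A there are subgroups A₀ ≤ A and B₀ ≤ B generating an image of SL₂(k) with central kernel, k a field with at least four elements, A₀ and B₀ being the images of the unitriangular subgroups. Then every rank one pair A, B in S is special. -/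
theorem result {G : Type u} [Group G] {S : Set (Subgroup G)} (hS : Cfsg.IsRootSubgroupClass S)
    (hcomm : ∃ A ∈ S, ∃ C ∈ S, A ≠ C ∧ ⁅A, C⁆ = ⊥)
    (hH : Cfsg.IsDegenerateRootSet S → (∀ A ∈ S, ∀ a ∈ A, 0 < orderOf a ∧ orderOf a ≤ 3) →
      ∀ A ∈ S, ∀ B ∈ Cfsg.rankOnePartners S A, ∃ A₀ B₀ : Subgroup G, A₀ ≤ A ∧ B₀ ≤ B ∧
        ∃ (k : Type u) (_ : Field k), 3 < ENat.card k ∧ Cfsg.IsPSL2PairOver k A₀ B₀)
    {A B : Subgroup G} (hA : A ∈ S) (hB : B ∈ Cfsg.rankOnePartners S A) : Cfsg.IsSpecialRankOnePair A B := by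
  obtain ⟨hBS, hAB⟩ := hB
  obtain ⟨A₀, hA₀, C₀, hC₀, hne, hbot⟩ := hcomm
  by_cases hdeg : Cfsg.IsDegenerateRootSet S
  swap
  · have hex : ∃ P ∈ S, ∃ Q ∈ S, Cfsg.RootCommutatorCase S P Q := by
      simpa [Cfsg.IsDegenerateRootSet] using hdeg
    exact (Cfsg.Agent.S5034.result hS ⟨⟨A₀, hA₀, C₀, hC₀, hne, hbot⟩, ⟨A, hA, B, hBS, hAB⟩, hex⟩
      hA ⟨hBS, hAB⟩).2
  have hD : Deg S := ⟨hS.1, hdeg⟩
  refine ⟨hAB, fun a ha ha1 b hb hb1 he => ?_⟩
  have hlk : Lk A B a b := ⟨ha, hb, ha1, hb1, he⟩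
  refine special_of_inv hAB hlk ?_
  by_cases h1 : ∃ C, Cm S A C ∧ ¬ Cm S B C
  · obtain ⟨C, hC, hCB⟩ := h1
    rcases hD.dich hBS hC.2.1 (fun e => (e ▸ hC).not_pair hAB) with h | h
    · exact absurd h hCB
    · exact (⟨hC, hBS, hAB, Cfsg.RankOnePair_symm h⟩ : Tri S A C B).lk_inv hD hlk
  by_cases h2 : ∃ C, Cm S B C ∧ ¬ Cm S A C
  · obtain ⟨C, hC, hCA⟩ := h2
    rcases hD.dich hA hC.2.1 (fun e => (e ▸ hC).symm.not_pair hAB) with h | h
    · exact absurd h hCA
    · exact ((⟨hC, hA, Cfsg.RankOnePair_symm hAB, Cfsg.RankOnePair_symm h⟩ :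
        Tri S B C A).lk_inv hD hlk.symm).symm
  push Not at h1 h2
  have htw : Tw S A B := ⟨hA, hBS, fun X => ⟨h1 X, h2 X⟩⟩
  refine lk_inv_of_small hAB hlk fun x hx hx1 => ?_
  by_contra hx2
  push Not at hx2
  obtain ⟨C, D, t⟩ := exists_tri hD hS.2 ⟨hA₀, hC₀, hne.symm, hbot⟩ hA
  exact t.not_big hD htw hAB.ne.symm
    ⟨a, ha, x, hx, ha1, hx1, fun e => hx2.2 (eq_inv_of_mul_eq_one_left e), hx2.1⟩

end Cfsg.Agent.S5039
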