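import Cfsg.Statements.S5040
import Cfsg.Agent.Lib.Classical.RootClass
import Cfsg.Agent.S5036

set_option autoImplicit false
open Cfsg

namespace Cfsg.Agent.S5040

open Cfsg.Agent.Classical.RankOne
open scoped commutatorElement

/-- Let S be a non-degenerate class of abstract root subgroups of G and Δ a weak TI-subset of S. Then the members of Δ commute with one another elementwise. -/
theorem result {G : Type*} [Group G] {S : Set (Subgroup G)} (hS : Cfsg.IsRootSubgroupClass S) (hnd : Cfsg.IsNondegenerateRootSet S)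
    {Δ : Set (Subgroup G)} (hΔ : Cfsg.IsWeakTISubset S Δ) : Cfsg.IsAbelianFamily Δ := by
  classical
  obtain ⟨hΔS, -, hne, hTI⟩ := hΔ
  have hS1 := hS.1
  have hall := hall_of_class hS hnd.2.1
  let H : Subgroup G :=
    { carrier := {g | (fun A => Cfsg.conjBy A g) '' Δ = Δ}
      one_mem' := by
        show (fun A => Cfsg.conjBy A 1) '' Δ = Δ
        simp only [conjBy_one, Set.image_id']
      mul_mem' := fun {g h} hg hh => by
        show (fun A => Cfsg.conjBy A (g * h)) '' Δ = Δ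
        simp only [conjBy_mul]
        rw [← Set.image_image (fun A => Cfsg.conjBy A g) (fun A => Cfsg.conjBy A h)]
        exact (congrArg _ hh).trans hg
      inv_mem' := fun {g} hg => by
        show (fun A => Cfsg.conjBy A g⁻¹) '' Δ = Δ
        conv_lhs => rw [← (hg : (fun A => Cfsg.conjBy A g) '' Δ = Δ), Set.image_image]
        simp only [conjBy_cancel, Set.image_id'] }
  have hstab : ∀ X ∈ S, ∀ M ∈ Δ, ⁅M, X⁆ = ⊥ → X ≤ H := by
    intro X hX M hM hcomm x hx
    by_cases hx1 : x = 1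
    · rw [hx1]; exact one_mem _
    refine (hTI x ⟨hx1, X, hX, hx⟩).resolve_right fun hdis => ?_
    refine (Set.disjoint_left.1 hdis) ⟨M, hM, ?_⟩ hM
    exact conjBy_eq_self_of_comm fun m hm => (commute_of_bracket_bot hcomm hm hx).symm
  have hself : ∀ X ∈ Δ, X ≤ H := fun X hX =>
    hstab X (hΔS hX) X hX (commutative_bracket (hS1.commutative X (hΔS hX)))
  have hline : ∀ M ∈ Δ, ∀ X ∈ Cfsg.linePartners S M, X ≤ H := fun M hM X hX =>
    hstab X hX.1.1 M hM hX.1.2.2
  -- a rank one partner of a member of `Δ` in the stabiliser is impossible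
  have key : ∀ M ∈ Δ, ∀ F ∈ S, F ≤ H → Cfsg.IsRankOnePair M F → False := by
    intro M hM F hF hFH hMF
    have htop : (⊤ : Subgroup G) ≤ H := by
      rw [← line_generate hS hnd (hΔS hM) hF hMF]
      exact sup_le (iSup₂_le (hline M hM)) hFH
    refine hne (Set.Subset.antisymm hΔS fun Q hQ => ?_)
    obtain ⟨g, rfl⟩ := hS.2.2 M (hΔS hM) Q hQ
    rw [← (htop (Subgroup.mem_top g) : (fun A => Cfsg.conjBy A g) '' Δ = Δ)]
    exact ⟨M, hM, rfl⟩
  intro A hA B hB a ha b hb
  rcases hS1.pair A (hΔS hA) B (hΔS hB) with h | h | h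
  · exact commute_of_bracket_bot h ha hb
  · exact (key A hA B (hΔS hB) (hself B hB) h).elim
  exfalso
  obtain ⟨A', hA', hAA⟩ := hall A (hΔS hA)
  set C := ⁅A, B⁆ with hC
  have hAC : A ∈ Cfsg.linePartners S C := (line_pair hS1 hAA (hΔS hA) hA' (hΔS hB) h rfl
    ⟨h.1, le_sup_right⟩ ⟨hΔS hA, le_sup_left⟩ (bracket_ne_left hS1 h)).2
  obtain ⟨E, T, hT, hcaseT, hE, hsup⟩ := exists_translation hS1 hall h.1 hAC
  have hmem : E ∈ Cfsg.membersIn S (A ⊔ C) :=
    ⟨hE ▸ hcaseT.1, by rw [sup_comm A C, ← hsup]; exact le_sup_right⟩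
  rw [membersIn_sup hS1 hAA (hΔS hA) hA' (hΔS hB) h] at hmem
  obtain ⟨d, hd, rfl⟩ := hmem.resolve_right fun e => bracket_ne_left hS1 hcaseT
    (hE.trans (Set.mem_singleton_iff.1 e))
  set F := Cfsg.conjBy T d⁻¹ with hF
  have hFS : F ∈ S := hS1.conj_mem T hT _
  have hCF : ⁅C, F⁆ = A := by
    have hfix : Cfsg.conjBy C d⁻¹ = C := conjBy_eq_self_of_comm fun c hc =>
      (h.2.1 c hc d⁻¹ (Subgroup.mem_sup_right (inv_mem hd))).symm
    rw [← hfix, hF, Cfsg.conjBy, Cfsg.conjBy, ← Subgroup.map_commutator, hE]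
    exact conjBy_cancel
  have hcaseF : Cfsg.RootCommutatorCase S C F := commutator_case hS1 h.1 hFS (hCF.symm ▸ hΔS hA)
  have hFH : F ≤ H := hstab F hFS A hA (le_bot_iff.1 (Subgroup.commutator_le.2 fun x hx f hf =>
    Subgroup.mem_bot.2 (commutatorElement_eq_one_iff_mul_comm.2
      (hcaseF.2.1 x (hCF.symm ▸ hx) f (Subgroup.mem_sup_right hf)))))
  exact key B hB F hFS hFH (Cfsg.Agent.S5036.result hS1 (hΔS hA) (hΔS hB) h.1 hFS
    (by rw [Subgroup.commutator_comm]; exact hCF)).1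

end Cfsg.Agent.S5040
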