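import Cfsg.Statements.S5043
import Cfsg.Agent.Lib.Classical.TransvectionRoot
import Cfsg.Agent.Lib.Classical.RankOneCommutator
import Cfsg.Agent.S5032

set_option autoImplicit false
open Matrix
open Cfsg

namespace Cfsg.Agent.S5043

open Cfsg.Agent.Classical Cfsg.Agent.Classical.TransRoot Matrix
/-- Let k be a field and n a natural number. In SL_{n+3}(k) (so in every dimension at least 3) the conjugates of the root subgroup of elementary transvections 1 + c E₁₂ (c ∈ k) — that is, the groups of transvections attached to an incident point–hyperplane pair — form a non-degenerate class of abstract k-root subgroups of SL_{n+3}(k) whose graph of rank one pairs is connected. -/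
theorem result (k : Type*) [Field k] (n : ℕ) :
    Cfsg.IsRootSubgroupClass {A : Subgroup (Matrix.SpecialLinearGroup (Fin (n + 3)) k) |
        ∃ g : Matrix.SpecialLinearGroup (Fin (n + 3)) k,
          A = Cfsg.conjBy (Subgroup.closure {t : Matrix.SpecialLinearGroup (Fin (n + 3)) k |
            ∃ c : k, (t : Matrix (Fin (n + 3)) (Fin (n + 3)) k) = Matrix.transvection 0 1 c}) g} ∧
    Cfsg.IsNondegenerateRootSet {A : Subgroup (Matrix.SpecialLinearGroup (Fin (n + 3)) k) |
        ∃ g : Matrix.SpecialLinearGroup (Fin (n + 3)) k,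
          A = Cfsg.conjBy (Subgroup.closure {t : Matrix.SpecialLinearGroup (Fin (n + 3)) k |
            ∃ c : k, (t : Matrix (Fin (n + 3)) (Fin (n + 3)) k) = Matrix.transvection 0 1 c}) g} ∧
    Cfsg.IsKRootSubgroupSet k {A : Subgroup (Matrix.SpecialLinearGroup (Fin (n + 3)) k) |
        ∃ g : Matrix.SpecialLinearGroup (Fin (n + 3)) k,
          A = Cfsg.conjBy (Subgroup.closure {t : Matrix.SpecialLinearGroup (Fin (n + 3)) k |
            ∃ c : k, (t : Matrix (Fin (n + 3)) (Fin (n + 3)) k) = Matrix.transvection 0 1 c}) g} ∧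
    Cfsg.IsConnectedFamily (Cfsg.FAdj {A : Subgroup (Matrix.SpecialLinearGroup (Fin (n + 3)) k) |
        ∃ g : Matrix.SpecialLinearGroup (Fin (n + 3)) k,
          A = Cfsg.conjBy (Subgroup.closure {t : Matrix.SpecialLinearGroup (Fin (n + 3)) k |
            ∃ c : k, (t : Matrix (Fin (n + 3)) (Fin (n + 3)) k) = Matrix.transvection 0 1 c}) g})
      {A : Subgroup (Matrix.SpecialLinearGroup (Fin (n + 3)) k) |
        ∃ g : Matrix.SpecialLinearGroup (Fin (n + 3)) k,
          A = Cfsg.conjBy (Subgroup.closure {t : Matrix.SpecialLinearGroup (Fin (n + 3)) k |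
            ∃ c : k, (t : Matrix (Fin (n + 3)) (Fin (n + 3)) k) = Matrix.transvection 0 1 c}) g} := by
  have h01 : (0 : Fin (n + 3)) ≠ 1 := by simp
  rw [closure_eq_T h01, conjugates_eq h01]
  have : Nontrivial (Fin (n + 3)) := ⟨⟨_, _, h01⟩⟩
  have hS := isRootSubgroupSet (n := n + 3) (F := k)
  have hcl := isClass (n := n + 3) (F := k)
  have h02 : (0 : Fin (n + 3)) ≠ 2 := by simp [Fin.ext_iff, Nat.mod_eq_of_lt (show 2 < n + 3 by omega)]
  have h12 : (1 : Fin (n + 3)) ≠ 2 := by simp [Fin.ext_iff, Nat.mod_eq_of_lt (show 2 < n + 3 by omega)]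
  let e : Fin (n + 3) → Fin (n + 3) → k := fun i => Pi.single i 1
  have mem : ∀ i j (h : i ≠ j), T (e i) (e j) (e_dot h) ∈ rootSet (n + 3) k := fun i j h =>
    T_mem_rootSet _ (by simp [e]) (by simp [e])
  have hpair := psl2_pair (hA := e_dot (F := k) h01) (hB := e_dot (F := k) h01.symm)
    (by simp) (by simp)
  have hne : T (e 0) (e 2) (e_dot h02) ≠ T (e 1) (e 2) (e_dot h12) := by
    intro he
    obtain ⟨c, hc⟩ := mem_T.mp (he ▸ tE_mem (e 0) (e 2) (e_dot h02) :
      Cfsg.Agent.Small.Generation.tE (e 0) (e 2) (e_dot h02) ∈ T (e 1) (e 2) (e_dot h12))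
    have h := congrArg (fun A => A *ᵥ e 2) hc
    have e1 : Cfsg.Agent.Small.Generation.tv (e 0) (e 2) *ᵥ e 2 =
        Cfsg.Agent.Small.Generation.tv (c • e 1) (e 2) *ᵥ e 2 := h
    rw [Cfsg.Agent.Small.Generation.tv_mulVec, Cfsg.Agent.Small.Generation.tv_mulVec] at e1
    have := congrFun e1 0
    simp [e] at this
  refine ⟨⟨hS, hcl⟩, ⟨?_, ?_, ?_⟩, ⟨hS, ?_⟩, ?_⟩
  · exact ⟨_, mem 0 2 h02, _, mem 1 2 h12, hne, commuting (by simp [e, h12.symm]) (by simp [e, h02.symm])⟩
  · exact ⟨_, mem 0 1 h01, _, mem 1 0 h01.symm, hpair.1⟩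
  · exact ⟨_, mem 0 1 h01, _, mem 1 2 h12,
      (commutator_case (e_dot h01) (e_dot h12) (by simp [e]) (by simp [e]) (by simp [e])
        (by simp [e, h02.symm])).1⟩
  · intro A hA B hB hAB
    rcases trichotomy hA hB with h | h | h
    · exact absurd h (RankOne.not_commuting hAB)
    · exact h.2
    · exact absurd h.1 (RankOne.pair_bracket_not_mem hS hAB hA hB)
  · refine (Cfsg.Agent.S5032.result hS ⟨_, mem 0 2 h02, _, mem 1 2 h12, hne⟩).mpr
      ⟨hcl, _, mem 0 1 h01, fun hiso => ?_⟩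
    exact (hiso.2 _).1 ⟨mem 0 1 h01, mem 1 0 h01.symm, hpair.1⟩

end Cfsg.Agent.S5043
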