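import Cfsg.Statements.S5045
import Cfsg.Agent.Lib.Fusion.RootInvolutions
import Cfsg.Agent.Lib.Fusion.Cores

set_option autoImplicit false
open Cfsg

namespace Cfsg.Agent.S5045

/-- Let G be a finite group generated by a set D of root involutions, and W the set of members of D whose product with every other member of D has even order or is trivial (the isolated vertices of the odd-order-product graph on D). Then W is conjugation-invariant and generates a normal 2-subgroup of G meeting D in exactly W; the commutator of two members of D lying in different connected components of that graph, each with more than one member, lies in the subgroup generated by W; and for a in such a component, every member of D commuting with a, different from a and with product with a in D, lies in that component or in W. -/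
theorem result {G : Type*} [Group G] [Finite G] {D : Set G} (hD : Cfsg.IsRootInvolutionSet D) :
    (∀ w ∈ {w | Cfsg.IsIsolatedElem (Cfsg.OddAdj D) D w}, ∀ g : G, g * w * g⁻¹ ∈ {w | Cfsg.IsIsolatedElem (Cfsg.OddAdj D) D w}) ∧
    (Subgroup.closure {w | Cfsg.IsIsolatedElem (Cfsg.OddAdj D) D w}).Normal ∧
    IsPGroup 2 ↥(Subgroup.closure {w | Cfsg.IsIsolatedElem (Cfsg.OddAdj D) D w}) ∧
    (Subgroup.closure {w | Cfsg.IsIsolatedElem (Cfsg.OddAdj D) D w} : Set G) ∩ D = {w | Cfsg.IsIsolatedElem (Cfsg.OddAdj D) D w} ∧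
    (∀ a ∈ D, ∀ b ∈ D, (∃ a' ∈ Cfsg.elemComponentOf (Cfsg.OddAdj D) D a, a' ≠ a) →
      (∃ b' ∈ Cfsg.elemComponentOf (Cfsg.OddAdj D) D b, b' ≠ b) →
      Cfsg.elemComponentOf (Cfsg.OddAdj D) D a ≠ Cfsg.elemComponentOf (Cfsg.OddAdj D) D b →
        a * b * a⁻¹ * b⁻¹ ∈ Subgroup.closure {w | Cfsg.IsIsolatedElem (Cfsg.OddAdj D) D w}) ∧
    (∀ a ∈ D, (∃ a' ∈ Cfsg.elemComponentOf (Cfsg.OddAdj D) D a, a' ≠ a) →
      Cfsg.productPartners D a ⊆ Cfsg.elemComponentOf (Cfsg.OddAdj D) D a ∪ {w | Cfsg.IsIsolatedElem (Cfsg.OddAdj D) D w}) := by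
  have hnorm : (Subgroup.closure {w | Cfsg.IsIsolatedElem (Cfsg.OddAdj D) D w}).Normal := by
    refine ⟨fun x hx g => ?_⟩
    induction hx using Subgroup.closure_induction with
    | mem w hw => exact Subgroup.subset_closure (Cfsg.Agent.RootInvol.isolated_conj hD g hw)
    | one => simp
    | mul x y _ _ h1 h2 =>
      rw [show g * (x * y) * g⁻¹ = g * x * g⁻¹ * (g * y * g⁻¹) by group]
      exact mul_mem h1 h2
    | inv x _ h1 =>
      rw [show g * x⁻¹ * g⁻¹ = (g * x * g⁻¹)⁻¹ by group]
      exact inv_mem h1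
  have hle := Cfsg.Agent.RootInvol.closure_isolated_le hD
  have h2 := (Cfsg.Agent.Fusion.isPGroup_pCore 2 G).to_le hle
  refine ⟨fun w hw g => Cfsg.Agent.RootInvol.isolated_conj hD g hw, hnorm, h2, ?_, ?_, ?_⟩
  · ext d
    refine ⟨fun hd => ?_, fun hd => ⟨Subgroup.subset_closure hd, hd.1⟩⟩
    by_contra hiso
    obtain ⟨x, hx⟩ := (Cfsg.Agent.RootInvol.not_isolated_iff hd.2).1 hiso
    haveI := hnorm
    exact Cfsg.Agent.RootInvol.not_adj_of_mem_pGroup_normal h2 hD hd.1 hx
  · intro a ha b hb ha' hb' hne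
    rcases Cfsg.Agent.RootInvol.commutator_mem_or_reach hD ha hb
      (Cfsg.Agent.RootInvol.exists_adj_of_component ha')
      (Cfsg.Agent.RootInvol.exists_adj_of_component hb') with h | h | h
    · exact absurd (Cfsg.Agent.RootInvol.component_eq h) hne
    · rw [h]; exact one_mem _
    · exact Subgroup.subset_closure h
  · intro a ha ha' e he
    by_cases hiso : Cfsg.IsIsolatedElem (Cfsg.OddAdj D) D e
    · exact Or.inr hiso
    · exact Or.inl ⟨he.1.1, Cfsg.Agent.RootInvol.reach_of_productPartner hD ha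
        (Cfsg.Agent.RootInvol.exists_adj_of_component ha') he
        ((Cfsg.Agent.RootInvol.not_isolated_iff he.1.1).1 hiso)⟩

end Cfsg.Agent.S5045
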