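import Cfsg.Statements.S5049
import Cfsg.Agent.Lib.Fusion.Cores
-- import your own Cfsg.Agent.* helpers here

set_option autoImplicit false
open Cfsg

open scoped commutatorElement

namespace Cfsg.Agent.S5049

/-- Let G be a finite group generated by a set D of odd transpositions (root involutions with no product of order 4), Q = O₂(G), and for a ∈ D let Q_a be the commutator subgroup of Q with a. Then every member of D commuting with a centralizes Q_a; and for b ∈ D with ab of odd order greater than 1, the centralizer of ab in Q is the intersection of the centralizers of a and b in Q. -/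
theorem result {G : Type*} [Group G] [Finite G] {D : Set G} (hD : Cfsg.IsOddTranspositionSet D) {a : G} (ha : a ∈ D) :
    (∀ e ∈ Cfsg.commutingMembers D a, ∀ q ∈ ⁅Cfsg.pCore 2 G, Subgroup.zpowers a⁆, e * q = q * e) ∧
    (∀ b ∈ Cfsg.oddPartners D a,
      Cfsg.pCore 2 G ⊓ Subgroup.centralizer {a * b} = Cfsg.pCore 2 G ⊓ Subgroup.centralizer {a} ⊓ Subgroup.centralizer {b}) := by
  obtain ⟨⟨hR, h4⟩, hQ⟩ := And.intro hD (Cfsg.Agent.Fusion.isPGroup_pCore 2 G)
  haveI hN : (Cfsg.pCore 2 G).Normal := by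
    haveI := Cfsg.Agent.Fusion.pCore_characteristic (p := 2) (G := G)
    infer_instance
  have hinv : ∀ d ∈ D, d * d = 1 := fun d hd => by
    have := pow_orderOf_eq_one d
    rwa [hR.orderOf_eq d hd, pow_two] at this
  have hinv' : ∀ d ∈ D, d⁻¹ = d := fun d hd => inv_eq_of_mul_eq_one_right (hinv d hd)
  have hbase : ∀ x ∈ D, ∀ y ∈ D, ∀ k : ℕ, (x * y) ^ 2 ^ k = 1 → x * y = y * x := by
    intro x hx y hy k hk
    rcases hR.pair x hx y hy with h | h | h
    · exact h
    · obtain ⟨i, hi, he⟩ := (Nat.dvd_prime_pow Nat.prime_two).1 (orderOf_dvd_of_pow_eq_one hk)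
      have hi0 : i = 0 := by
        by_contra hi0
        rw [he] at h
        exact (Nat.not_even_iff_odd.2 h) ((Nat.even_pow).2 ⟨even_two, hi0⟩)
      rw [hi0, pow_zero, orderOf_eq_one_iff] at he
      rw [← hinv' y hy, eq_inv_of_mul_eq_one_left he]
    · exact absurd h.1 (h4 x hx y hy)
  have hcomm : ∀ q ∈ Cfsg.pCore 2 G, ∀ e ∈ Cfsg.commutingMembers D a, e * (q * a * q⁻¹) = q * a * q⁻¹ * e := by
    intro q hq e he
    obtain ⟨heD, hea⟩ := he
    have hm : (e * a)⁻¹ * (e * (q * a * q⁻¹)) ∈ Cfsg.pCore 2 G := by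
      have e1 : (e * a)⁻¹ * (e * (q * a * q⁻¹)) = a⁻¹ * q * a⁻¹⁻¹ * q⁻¹ := by group
      rw [e1]
      exact mul_mem (hN.conj_mem q hq a⁻¹) (inv_mem hq)
    have hsq : (e * a) * (e * a) = 1 := by
      rw [mul_assoc e a (e * a), ← mul_assoc a e a, ← hea, mul_assoc e a a, hinv a ha, mul_one, hinv e heD]
    have h2 : (e * (q * a * q⁻¹)) ^ 2 ∈ Cfsg.pCore 2 G := by
      have e1 : (e * (q * a * q⁻¹)) ^ 2 = (e * a) * ((e * a)⁻¹ * (e * (q * a * q⁻¹))) * (e * a)⁻¹ *
          ((e * a) * (e * a)) * ((e * a)⁻¹ * (e * (q * a * q⁻¹))) := by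
        rw [pow_two]; group
      rw [e1, hsq, mul_one]
      exact mul_mem (hN.conj_mem _ hm (e * a)) hm
    obtain ⟨k, hk⟩ := hQ ⟨_, h2⟩
    refine hbase e heD _ (hR.conj_mem a ha q) (k + 1) ?_
    rw [pow_succ, mul_comm, pow_mul]
    exact congrArg Subtype.val hk
  refine ⟨fun e he => ?_, ?_⟩
  · have hle : ⁅Cfsg.pCore 2 G, Subgroup.zpowers a⁆ ≤ Subgroup.centralizer {e} := by
      rw [Subgroup.commutator_le]
      rintro q hq w ⟨n, rfl⟩
      have h1 : Commute e a := he.2
      have h2 : Commute e (q * a * q⁻¹) := hcomm q hq e he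
      rw [Subgroup.mem_centralizer_singleton_iff, commutatorElement_def,
        show q * a ^ n * q⁻¹ * (a ^ n)⁻¹ = (q * a * q⁻¹) ^ n * (a ^ n)⁻¹ by rw [conj_zpow]]
      exact ((h2.zpow_right n).mul_right (h1.zpow_right n).inv_right).eq.symm
    intro q hq
    exact (Subgroup.mem_centralizer_singleton_iff.1 (hle hq)).symm
  · intro b hb
    obtain ⟨hbD, hba, hodd⟩ := hb
    refine le_antisymm ?_ ?_
    · rintro q ⟨hq, hqr⟩
      have hqr' : Commute q (a * b) := Subgroup.mem_centralizer_singleton_iff.1 hqr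
      have hb' : q * b * q⁻¹ = q * a * q⁻¹ * (a * b) := by
        have e1 : q * (a * b) * q⁻¹ = a * b := by rw [hqr'.eq, mul_inv_cancel_right]
        calc q * b * q⁻¹ = q * a⁻¹ * q⁻¹ * (q * (a * b) * q⁻¹) := by group
          _ = _ := by rw [e1, hinv' a ha]
      set t : G := a * (q * a * q⁻¹) with ht
      set r : G := a * b with hr
      have haq : a * (q * a * q⁻¹) = q * a * q⁻¹ * a := hcomm q hq a ⟨ha, rfl⟩
      have hat : a * t = t * a := by rw [ht, mul_assoc a (q * a * q⁻¹) a, ← haq]
      have har : a * r = r⁻¹ * a := by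
        rw [hr, mul_inv_rev, hinv' a ha, hinv' b hbD, ← mul_assoc, hinv a ha, one_mul, mul_assoc,
          hinv a ha, mul_one]
      have htr : Commute t r := by
        have e1 : q * r⁻¹ = r⁻¹ * q := hqr'.inv_right.eq
        have e2 : q⁻¹ * r = r * q⁻¹ := hqr'.inv_left.eq
        have har' : a * r⁻¹ = r * a := by
          rw [eq_comm, ← eq_mul_inv_iff_mul_eq.symm, mul_assoc, har, ← mul_assoc, mul_inv_cancel, one_mul]
        calc t * r = a * (q * (a * (q⁻¹ * r))) := by simp only [ht, mul_assoc]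
          _ = a * (q * ((a * r) * q⁻¹)) := by rw [e2, mul_assoc a r]
          _ = a * ((q * r⁻¹) * (a * q⁻¹)) := by rw [har]; simp only [mul_assoc]
          _ = (a * r⁻¹) * (q * (a * q⁻¹)) := by rw [e1]; simp only [mul_assoc]
          _ = r * t := by rw [har']; simp only [ht, mul_assoc]
      have htt : t * t = 1 := by
        have hd := hinv _ (hR.conj_mem a ha q)
        rw [ht, mul_assoc, ← mul_assoc (q * a * q⁻¹) a, ← haq, mul_assoc a, hd, mul_one, hinv a ha]
      have hprod : a * (q * b * q⁻¹) = t * r := by rw [hb', ← mul_assoc]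
      have ht1 : t = 1 := by
        by_contra ht1
        rcases hR.pair a ha _ (hR.conj_mem b hbD q) with h | h | h
        · have hsq : (t * r) * (t * r) = 1 := by
            rw [← hprod]
            calc a * (q * b * q⁻¹) * (a * (q * b * q⁻¹)) = a * (q * b * q⁻¹) * ((q * b * q⁻¹) * a) := by rw [h]
              _ = a * ((q * b * q⁻¹) * (q * b * q⁻¹)) * a := by simp only [mul_assoc]
              _ = 1 := by rw [hinv _ (hR.conj_mem b hbD q), mul_one, hinv a ha]
          have hrr : r * r = 1 := by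
            rw [mul_assoc, ← mul_assoc r t, ← htr.eq, mul_assoc t r, ← mul_assoc t t, htt, one_mul] at hsq
            exact hsq
          obtain ⟨i, hi, he⟩ := (Nat.dvd_prime_pow Nat.prime_two).1
            (show orderOf r ∣ 2 ^ 1 from orderOf_dvd_of_pow_eq_one (by rw [pow_one, pow_two, hrr]))
          rcases Nat.le_one_iff_eq_zero_or_eq_one.1 hi with rfl | rfl
          · rw [pow_zero, orderOf_eq_one_iff] at he
            exact hba (by rw [← hinv' a ha]; exact (inv_eq_of_mul_eq_one_right he).symm)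
          · rw [he, pow_one] at hodd; exact (Nat.not_even_iff_odd.2 hodd) even_two
        · rw [hprod] at h
          have h1 := pow_orderOf_eq_one (t * r)
          rw [htr.mul_pow] at h1
          obtain ⟨i, hi⟩ := h
          rw [hi, pow_succ t, pow_mul, pow_two, htt, one_pow, one_mul] at h1
          apply ht1
          have h2 : t * r ^ (2 * i + 1) = 1 := h1
          have h3 : (r ^ (2 * i + 1)) ^ (orderOf r) = 1 := by
            rw [← pow_mul, mul_comm, pow_mul, pow_orderOf_eq_one, one_pow]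
          obtain ⟨j, hj⟩ := hodd
          rw [inv_eq_of_mul_eq_one_right h2 |>.symm, inv_pow] at h3
          rw [inv_eq_one, hj, pow_succ, pow_mul, pow_two, htt, one_pow, one_mul] at h3
          exact h3
        · exact h4 a ha _ (hR.conj_mem b hbD q) h.1
      have hqa : q * a * q⁻¹ = a := by
        rw [ht, ← hinv' a ha, inv_mul_eq_one, hinv' a ha] at ht1
        exact ht1.symm
      refine ⟨⟨hq, ?_⟩, ?_⟩
      · exact Subgroup.mem_centralizer_singleton_iff.2 (mul_inv_eq_iff_eq_mul.1 hqa)
      · refine Subgroup.mem_centralizer_singleton_iff.2 (mul_inv_eq_iff_eq_mul.1 ?_)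
        rw [hb', hqa, hr, ← mul_assoc, hinv a ha, one_mul]
    · rintro q ⟨⟨hq, hqa⟩, hqb⟩
      refine ⟨hq, Subgroup.mem_centralizer_singleton_iff.2 ?_⟩
      have h1 : Commute q a := Subgroup.mem_centralizer_singleton_iff.1 hqa
      have h2 : Commute q b := Subgroup.mem_centralizer_singleton_iff.1 hqb
      exact (h1.mul_right h2).eq

end Cfsg.Agent.S5049
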