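import Cfsg.Statements.S5055
import Cfsg.Agent.Lib.Fusion.RootStructureCore

/-!
# The root structure theorem for root involutions
-/

set_option autoImplicit false
open Cfsg

namespace Cfsg.Agent.S5055

open Cfsg.Agent.RootInvol Cfsg.Agent.RootStructure

universe u

variable {G : Type u} [Group G] {D : Set G}

theorem reach_conj (hD : IsRootInvolutionSet D) (g : G) {a b : G}
    (h : Relation.ReflTransGen (OddAdj D) a b) :
    Relation.ReflTransGen (OddAdj D) (g * a * g⁻¹) (g * b * g⁻¹) := by
  induction h with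
  | refl => exact .refl
  | tail _ h1 ih => exact ih.tail (adj_conj hD g h1)

theorem connected [Finite G] (hcl : IsRootInvolutionClass D) (hO : pCore 2 G = ⊥) :
    IsConnectedSet (OddAdj D) D := by
  obtain ⟨hD, -, hconj⟩ := hcl
  have hiso : ∀ a, IsIsolatedElem (OddAdj D) D a → a = 1 := fun a ha =>
    Subgroup.mem_bot.1 (hO ▸ isolated_mem_pCore hD ha)
  have hadj : ∀ a ∈ D, ∃ x, OddAdj D a x := fun a ha =>
    (not_isolated_iff ha).1 fun hi => ne_one hD ha (hiso a hi)
  have key : ∀ g ∈ Subgroup.closure D, ∀ a ∈ D,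
      Relation.ReflTransGen (OddAdj D) a (g * a * g⁻¹) := by
    intro g hg
    induction hg using Subgroup.closure_induction with
    | mem d hd =>
      intro a ha
      have hfix : a * d * a⁻¹ * d⁻¹ = 1 →
          Relation.ReflTransGen (OddAdj D) a (d * a * d⁻¹) := by
        intro h1
        have h2 : Commute d a := (mul_inv_eq_iff_eq_mul.1 (mul_inv_eq_one.1 h1)).symm
        rw [conj_fix h2]
      rcases commutator_mem_or_reach hD ha hd (hadj a ha) (hadj d hd) with h1 | h1 | h1
      · have h2 := reach_conj hD d h1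
        rw [mul_inv_cancel_right] at h2
        exact h1.trans (RootInvol.reach_symm h2)
      · exact hfix h1
      · exact hfix (hiso _ h1)
    | one =>
      intro a _
      simp only [one_mul, inv_one, mul_one]
      exact Relation.ReflTransGen.refl
    | mul x y _ _ h1 h2 =>
      intro a ha
      refine (h2 a ha).trans ?_
      have h3 := h1 _ (hD.conj_mem a ha y)
      rwa [show x * (y * a * y⁻¹) * x⁻¹ = x * y * a * (x * y)⁻¹ by group] at h3
    | inv x _ h1 =>
      intro a ha
      have h3 := h1 _ (hD.conj_mem a ha x⁻¹)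
      rw [show x * (x⁻¹ * a * x⁻¹⁻¹) * x⁻¹ = a by group] at h3
      exact RootInvol.reach_symm h3
  intro a ha b hb
  obtain ⟨g, rfl⟩ := hconj a ha b hb
  exact key g (hD.generates ▸ Subgroup.mem_top g) a ha

variable (h : Hyp D)
include h

theorem isolated_eq_W {p : G} :
    {w | IsIsolatedElem (OddAdj (commutingMembers D p)) (commutingMembers D p) w} = W D p := by
  ext w
  constructor
  · rintro ⟨⟨hwD, hwp⟩, hi⟩
    refine ⟨hwD, hwp, fun v hv hvp => ?_⟩
    rcases pow_four_or_odd h.root hwD hv with h4 | hodd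
    · exact h4
    · by_cases hwv : w = v
      · rw [hwv, msq h hv, one_pow]
      · exact absurd ⟨⟨hwD, hwp⟩, ⟨hv, hvp⟩, hwv, hodd⟩ (hi v).1
  · rintro ⟨hwD, hwp, hw⟩
    refine ⟨⟨hwD, hwp⟩, fun v => ⟨fun hA => ?_, fun hA => ?_⟩⟩
    · exact hA.2.2.1 (eq_of_pow_four_odd h.root hA.2.1.1 (hw v hA.2.1.1 hA.2.1.2) hA.2.2.2)
    · exact hA.2.2.1 (eq_of_pow_four_odd h.root hwD
        (pow_four_swap (hw v hA.1.1 hA.1.2)) hA.2.2.2)

variable [Finite G]

theorem W_eq_partners {p : G} (hp : p ∈ D) : W D p = productPartners D p ∪ {p} := by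
  refine Set.Subset.antisymm (fun w hw => ?_) ?_
  · by_cases hwp : w = p
    · exact Or.inr hwp
    refine Or.inl ⟨⟨hw.1, hw.2.1.eq, hwp⟩, ?_⟩
    by_cases hC : Cen (W D p) w
    · have h1 := mul_mem (mem_EG_of_cen h hp (Or.inl hw) hC) (self_mem_EG h hp)
      refine (((mem_EG h hp).1 h1).resolve_right fun e => hwp ?_).1
      rwa [mul_eq_one_iff_eq_inv, inv_eq h.root hp] at e
    · exact mul_EG_mem h hp hw (two_all h hp hw) hC (self_mem_EG h hp)
  · rintro w (⟨⟨hwD, hwp, -⟩, hD'⟩ | rfl)
    · exact X_subset_W h hp hwD hwp hD'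
    · exact self_mem_W h hp

omit [Finite G] in
theorem closure_commute {p g : G} (hg : g ∈ Subgroup.closure (W D p)) : Commute g p := by
  induction hg using Subgroup.closure_induction with
  | mem x hx => exact hx.2.1
  | one => exact Commute.one_left _
  | mul x y _ _ a b => exact a.mul_left b
  | inv x _ a => exact a.inv_left

theorem inter_closure (p : G) : D ∩ (Subgroup.closure (W D p) : Set G) = W D p := by
  refine Set.Subset.antisymm (fun x hx => ?_) fun x hx => ⟨hx.1, Subgroup.subset_closure hx⟩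
  obtain ⟨hxD, hxN⟩ := hx
  refine ⟨hxD, closure_commute h hxN, fun v hv hvp => ?_⟩
  rcases pow_four_or_odd h.root hxD hv with h4 | hodd
  · exact h4
  have hvx : v * x * v⁻¹ ∈ Subgroup.closure (W D p) := by
    have hle : (Subgroup.closure (W D p)).map (MulAut.conj v).toMonoidHom ≤
        Subgroup.closure (W D p) := by
      rw [MonoidHom.map_closure, Subgroup.closure_le]
      rintro _ ⟨u, hu, rfl⟩
      exact Subgroup.subset_closure (W_conj h.root (conj_fix hvp) hu)
    exact hle (Subgroup.mem_map_of_mem _ hxN)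
  obtain ⟨k, hk⟩ := isPGroup_closure h p ⟨_, mul_mem hxN hvx⟩
  have h1 : (x * (v * x * v⁻¹)) ^ 2 ^ k = 1 := congrArg Subtype.val hk
  rw [← sq_eq_mul_conj h.root x hv, ← pow_mul, ← pow_succ'] at h1
  obtain ⟨i, -, hi⟩ := (Nat.dvd_prime_pow Nat.prime_two).1 (orderOf_dvd_of_pow_eq_one h1)
  rw [hi] at hodd
  have h0 : i = 0 := by
    by_contra h'
    exact Nat.not_odd_iff_even.2 (Nat.even_pow.2 ⟨even_two, h'⟩) hodd
  rw [h0, pow_zero, orderOf_eq_one_iff] at hi
  rw [hi, one_pow]

theorem cen_closure {p k g : G} (hk : Cen (W D p) k) (hg : g ∈ Subgroup.closure (W D p)) :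
    Commute k g := by
  induction hg using Subgroup.closure_induction with
  | mem x hx => exact hk x hx
  | one => exact Commute.one_right _
  | mul x y _ _ a b => exact a.mul_right b
  | inv x _ a => exact a.inv_right

theorem exists_noncentral (hnd : IsNondegenerateRootInvolutionSet D) {p : G} (hp : p ∈ D) :
    ∃ a ∈ W D p, ∃ b ∈ W D p, ¬ Commute a b := by
  obtain ⟨a, ha, b, hb, h4⟩ := hnd.2.2.2
  have hab : ¬ Commute a b := fun hc => by
    have h2 : (a * b) ^ 2 = 1 := by
      rw [hc.mul_pow, pow_two, pow_two, msq h ha, msq h hb, one_mul]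
    have h3 := Nat.le_of_dvd (by norm_num) (orderOf_dvd_of_pow_eq_one h2)
    omega
  have h44 : (a * b) ^ 4 = 1 := h4 ▸ pow_orderOf_eq_one (a * b)
  have hcD : cm a b ∈ D := by
    have := sq_mem_of_pow_four h.root ha hb h44 hab
    rwa [pow_two] at this
  have hcb : cm b a = cm a b := by rw [← cm_inv (msq h ha) (msq h hb), inv_eq h.root hcD]
  have hca : Commute (cm a b) a := by
    have := commute_sq_left h.root hb ha h44
    rwa [pow_two] at this
  have hcb' : Commute (cm a b) b := by
    have := commute_sq_right h.root hb ha h44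
    rwa [pow_two] at this
  have haW : a ∈ W D (cm a b) := by
    refine X_subset_W h hcD ha hca.symm ?_
    rw [← conj_eq (msq h ha) (msq h hb)]
    exact h.root.conj_mem a ha b
  have hbW : b ∈ W D (cm a b) := by
    refine X_subset_W h hcD hb hcb'.symm ?_
    rw [← hcb, ← conj_eq (msq h hb) (msq h ha)]
    exact h.root.conj_mem b hb a
  obtain ⟨k, hk⟩ := conj_of_connected h.root h.conn hcD hp
  refine ⟨_, W_conj h.root hk haW, _, W_conj h.root hk hbW, fun hc => hab ?_⟩
  have h5 := hc.map (MulAut.conj k⁻¹).toMonoidHom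
  simp only [MulEquiv.coe_toMonoidHom, MulAut.conj_apply] at h5
  rwa [show k⁻¹ * (k * a * k⁻¹) * k⁻¹⁻¹ = a by group,
    show k⁻¹ * (k * b * k⁻¹) * k⁻¹⁻¹ = b by group] at h5

theorem commutator_eq (hnd : IsNondegenerateRootInvolutionSet D) {p : G} (hp : p ∈ D) :
    ⁅Subgroup.closure (W D p), Subgroup.closure (W D p)⁆ = sameCommutingSubgroup D p := by
  set E := sameCommutingSubgroup D p with hE
  have hcen : ∀ k ∈ E, ∀ g ∈ Subgroup.closure (W D p), g * k * g⁻¹ = k := fun k hk g hg =>
    conj_fix (cen_closure h (EG_cen h hp hk) hg).symm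
  have hcomm : ∀ {u v : G}, u ∈ W D p → v ∈ W D p → u * v * u⁻¹ * v⁻¹ = cm u v := by
    intro u v hu hv
    rw [inv_eq h.root hu.1, inv_eq h.root hv.1, cm]; simp only [mul_assoc]
  have hgen : ∀ u ∈ W D p, ∀ g ∈ Subgroup.closure (W D p), u * g * u⁻¹ * g⁻¹ ∈ E := by
    intro u hu g hg
    induction hg using Subgroup.closure_induction with
    | mem v hv =>
      rw [hcomm hu hv]
      exact two_cm h hp (Or.inl hu) (two_all h hp hu) (Or.inl hv)
    | one => simp
    | mul x y hx _ h1 h2 =>
      rw [show u * (x * y) * u⁻¹ * (x * y)⁻¹ =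
        u * x * u⁻¹ * x⁻¹ * (x * (u * y * u⁻¹ * y⁻¹) * x⁻¹) by group, hcen _ h2 x hx]
      exact mul_mem h1 h2
    | inv x hx h1 =>
      rw [show u * x⁻¹ * u⁻¹ * x⁻¹⁻¹ = x⁻¹ * (u * x * u⁻¹ * x⁻¹)⁻¹ * x⁻¹⁻¹ by group,
        hcen _ (inv_mem h1) x⁻¹ (inv_mem hx)]
      exact inv_mem h1
  refine le_antisymm (Subgroup.commutator_le.2 fun g hg g' hg' => ?_) ?_
  · rw [commutatorElement_def]
    induction hg using Subgroup.closure_induction with
    | mem u hu => exact hgen u hu g' hg'
    | one => simp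
    | mul x y hx _ h1 h2 =>
      rw [show x * y * g' * (x * y)⁻¹ * g'⁻¹ =
        x * (y * g' * y⁻¹ * g'⁻¹) * x⁻¹ * (x * g' * x⁻¹ * g'⁻¹) by group, hcen _ h2 x hx]
      exact mul_mem h2 h1
    | inv x hx h1 =>
      rw [show x⁻¹ * g' * x⁻¹⁻¹ * g'⁻¹ = x⁻¹ * (x * g' * x⁻¹ * g'⁻¹)⁻¹ * x⁻¹⁻¹ by group,
        hcen _ (inv_mem h1) x⁻¹ (inv_mem hx)]
      exact inv_mem h1
  · obtain ⟨a, ha, b, hb, hab⟩ := exists_noncentral h hnd hp
    intro c hc
    obtain ⟨τ, hτ, rfl⟩ := bij h hp ha (two_all h hp ha) hb hab c hc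
    rcases EG_w1 h hp hb hτ with hw | rfl
    · rw [← hcomm ha hw, ← commutatorElement_def]
      exact Subgroup.commutator_mem_commutator (Subgroup.subset_closure ha)
        (Subgroup.subset_closure hw)
    · rw [cm_one_right (msq h ha.1)]; exact one_mem _

theorem central_eq {p : G} (hp : p ∈ D) :
    sameCommutingClass D p = {e | e ∈ D ∧ e ∈ Subgroup.closure (W D p) ∧
      ∀ y ∈ Subgroup.closure (W D p), e * y = y * e} := by
  ext e
  constructor
  · rintro ⟨he, hs⟩
    have hE : e ∈ sameCommutingSubgroup D p := (mem_EG h hp).2 (Or.inl ⟨he, hs⟩)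
    exact ⟨he, Subgroup.subset_closure (class_mem_W h hp (self_mem_W h hp) he hs),
      fun y hy => (cen_closure h (EG_cen h hp hE) hy).eq⟩
  · rintro ⟨he, heN, hcen⟩
    have hw : e ∈ W D p := (Set.ext_iff.1 (inter_closure h p) e).1 ⟨he, heN⟩
    have h1 := mem_EG_of_cen h hp (Or.inl hw)
      fun u hu => hcen u (Subgroup.subset_closure hu)
    obtain ⟨-, hs⟩ := ((mem_EG h hp).1 h1).resolve_right (ne_one h.root he)
    exact ⟨he, hs⟩

end Cfsg.Agent.S5055

namespace Cfsg.Agent.S5055

/-- The Root Structure Theorem for root involutions. Let G be a finite group with O₂(G) = 1 and trivial centre, generated by a non-degenerate class D of root involutions such that for every d ∈ D the members of D with the same commuting members as d, together with 1, form a subgroup E(d). For d ∈ D let M_d be the subgroup generated by d and the members e ≠ d of D commuting with d with ed ∈ D, let W_d be the set of members of D commuting with d that have no partner with product of odd order among the members commuting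 with d, and let N_d be the subgroup generated by W_d. Then N_d = M_d; the members of D in N_d are d and the e just described; the commutator subgroup of N_d is E(d); and the members of D central in N_d are exactly those with the same commuting members as d. -/
theorem result {G : Type*} [Group G] [Finite G] {D : Set G} (hD : Cfsg.IsNondegenerateRootInvolutionSet D)
    (hcl : Cfsg.IsRootInvolutionClass D) (hO : Cfsg.pCore 2 G = ⊥) (hZ : Subgroup.center G = ⊥)
    (hE : ∀ d ∈ D, (Cfsg.sameCommutingSubgroup D d : Set G) = Cfsg.sameCommutingClass D d ∪ {1}) {d : G} (hd : d ∈ D) :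
    Subgroup.closure {w | Cfsg.IsIsolatedElem (Cfsg.OddAdj (Cfsg.commutingMembers D d)) (Cfsg.commutingMembers D d) w} =
      Subgroup.closure (Cfsg.productPartners D d ∪ {d}) ∧
    D ∩ (Subgroup.closure (Cfsg.productPartners D d ∪ {d}) : Set G) = Cfsg.productPartners D d ∪ {d} ∧
    ⁅Subgroup.closure (Cfsg.productPartners D d ∪ {d}), Subgroup.closure (Cfsg.productPartners D d ∪ {d})⁆ =
      Cfsg.sameCommutingSubgroup D d ∧
    Cfsg.sameCommutingClass D d = {e | e ∈ D ∧ e ∈ Subgroup.closure (Cfsg.productPartners D d ∪ {d}) ∧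
      ∀ y ∈ Subgroup.closure (Cfsg.productPartners D d ∪ {d}), e * y = y * e} := by
  have h : RootStructure.Hyp D := ⟨hD.1, connected hcl hO, hE⟩
  have hW := W_eq_partners h hd
  rw [isolated_eq_W h, ← hW]
  exact ⟨rfl, inter_closure h d, commutator_eq h hD hd, central_eq h hd⟩

end Cfsg.Agent.S5055
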