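import Cfsg.Statements.S5057
-- import your own Cfsg.Agent.* helpers here

set_option autoImplicit false
open Cfsg

namespace Cfsg.Agent.S5057

/-- The involutions of the alternating group of degree 6 form a class of root involutions (a single conjugacy class of involutions generating the group, any two of which commute, have product of odd order, or have product of order 4 whose square is again an involution of the class), and the product of any two of them has order at most 5. -/

def base : ↥(alternatingGroup (Fin 6)) :=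
  ⟨Equiv.swap 0 1 * Equiv.swap 2 3, by simp [Equiv.Perm.mem_alternatingGroup, Equiv.Perm.sign_swap]⟩

theorem base_order : orderOf base = 2 :=
  orderOf_eq_prime (Subtype.ext (by decide +kernel)) (fun h => absurd (congrArg Subtype.val h) (by decide +kernel))

theorem orderOf_conjugate (g x : ↥(alternatingGroup (Fin 6))) : orderOf (g * x * g⁻¹) = orderOf x :=
  (MulAut.conj g).orderOf_eq x

theorem exists_conj (d : ↥(alternatingGroup (Fin 6))) (hd : orderOf d = 2) :
    ∃ g, d = g * base * g⁻¹ := by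
  have hb : (base : Equiv.Perm (Fin 6)).cycleType = {2, 2} := by decide +kernel
  have ho : orderOf (d : Equiv.Perm (Fin 6)) = 2 := by rw [Subgroup.orderOf_coe, hd]
  obtain ⟨n, hn⟩ := Equiv.Perm.cycleType_prime_order (show (orderOf (d : Equiv.Perm (Fin 6))).Prime by rw [ho]; exact Nat.prime_two)
  rw [ho] at hn
  have hsum : (d : Equiv.Perm (Fin 6)).cycleType.sum ≤ 6 := by
    rw [Equiv.Perm.sum_cycleType]
    exact (Finset.card_le_univ _).trans_eq (Fintype.card_fin 6)
  rw [hn, Multiset.sum_replicate, smul_eq_mul] at hsum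
  have hsign : Equiv.Perm.sign (d : Equiv.Perm (Fin 6)) = 1 := d.2
  rw [Equiv.Perm.sign_of_cycleType, hn, Multiset.sum_replicate, Multiset.card_replicate, smul_eq_mul] at hsign
  have hn1 : n = 1 := by
    have : n ≤ 2 := by omega
    interval_cases n
    · exact absurd hsign (by decide)
    · rfl
    · exact absurd hsign (by decide)
  rw [hn1, show Multiset.replicate (1 + 1) 2 = ({2, 2} : Multiset ℕ) from rfl] at hn
  obtain ⟨σ, hσ⟩ := isConj_iff.1 (Equiv.Perm.isConj_iff_cycleType_eq.2 (hb.trans hn.symm))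
  rcases Int.units_eq_one_or (Equiv.Perm.sign σ) with hs | hs
  · exact ⟨⟨σ, hs⟩, Subtype.ext hσ.symm⟩
  · refine ⟨⟨σ * Equiv.swap (4 : Fin 6) 5, by simp [Equiv.Perm.mem_alternatingGroup, hs]⟩, Subtype.ext ?_⟩
    have hc : Equiv.swap (4 : Fin 6) 5 * (base : Equiv.Perm (Fin 6)) * (Equiv.swap (4 : Fin 6) 5)⁻¹ = (base : Equiv.Perm (Fin 6)) := by decide +kernel
    change _ = σ * Equiv.swap (4 : Fin 6) 5 * (base : Equiv.Perm (Fin 6)) * (σ * Equiv.swap (4 : Fin 6) 5)⁻¹
    calc (d : Equiv.Perm (Fin 6)) = σ * (Equiv.swap (4 : Fin 6) 5 * (base : Equiv.Perm (Fin 6)) * (Equiv.swap (4 : Fin 6) 5)⁻¹) * σ⁻¹ := by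
          rw [hc]; exact hσ.symm
      _ = _ := by group

theorem check : ∀ i j k l : Fin 6, i ≠ j → i ≠ k → i ≠ l → j ≠ k → j ≠ l → k ≠ l →
    let m : Equiv.Perm (Fin 6) := (Equiv.swap 0 1 * Equiv.swap 2 3) * (Equiv.swap i j * Equiv.swap k l)
    m * m = 1 ∨ m ^ 3 = 1 ∨ m ^ 5 = 1 ∨ (m ^ 4 = 1 ∧ m ^ 2 ≠ 1) := by
  decide +kernel

theorem pair_cases (d : ↥(alternatingGroup (Fin 6))) (hd : orderOf d = 2) (e : ↥(alternatingGroup (Fin 6)))
    (he : orderOf e = 2) :
    (d * e = e * d ∧ orderOf (d * e) ≤ 5) ∨ (Odd (orderOf (d * e)) ∧ orderOf (d * e) ≤ 5) ∨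
      (orderOf (d * e) = 4 ∧ True) := by
  obtain ⟨g, rfl⟩ := exists_conj d hd
  obtain ⟨e', rfl⟩ : ∃ e', e = g * e' * g⁻¹ := ⟨g⁻¹ * e * g, by group⟩
  rw [orderOf_conjugate] at he
  obtain ⟨x, rfl⟩ := exists_conj e' he
  have hprod : g * base * g⁻¹ * (g * (x * base * x⁻¹) * g⁻¹) = g * (base * (x * base * x⁻¹)) * g⁻¹ := by group
  rw [hprod, orderOf_conjugate]
  set σ : Equiv.Perm (Fin 6) := (x : Equiv.Perm (Fin 6)) with hσ
  have hx : ((x * base * x⁻¹ : ↥(alternatingGroup (Fin 6))) : Equiv.Perm (Fin 6)) =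
      Equiv.swap (σ 0) (σ 1) * Equiv.swap (σ 2) (σ 3) := by
    rw [Equiv.swap_apply_apply, Equiv.swap_apply_apply]
    change σ * (Equiv.swap 0 1 * Equiv.swap 2 3) * σ⁻¹ = _
    group
  set m : ↥(alternatingGroup (Fin 6)) := base * (x * base * x⁻¹) with hm
  have hcoe : (m : Equiv.Perm (Fin 6)) =
      (Equiv.swap 0 1 * Equiv.swap 2 3) * (Equiv.swap (σ 0) (σ 1) * Equiv.swap (σ 2) (σ 3)) := by
    rw [hm, Subgroup.coe_mul, hx]; rfl
  have hne : ∀ {a b : Fin 6}, a ≠ b → σ a ≠ σ b := fun h h' => h (σ.injective h')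
  have hc := check (σ 0) (σ 1) (σ 2) (σ 3) (hne (by decide)) (hne (by decide)) (hne (by decide))
    (hne (by decide)) (hne (by decide)) (hne (by decide))
  simp only [← hcoe] at hc
  rw [← Subgroup.orderOf_coe m]
  rcases hc with h | h | h | ⟨h1, h2⟩
  · left
    refine ⟨?_, (Nat.le_of_dvd two_pos (orderOf_dvd_of_pow_eq_one (by rw [pow_two, h]))).trans (by omega)⟩
    have h' : m * m = 1 := Subtype.ext h
    have hbb : base * base = 1 := by
      have := pow_orderOf_eq_one base
      rwa [base_order, pow_two] at this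
    have hee : (x * base * x⁻¹) * (x * base * x⁻¹) = 1 := by
      simp only [mul_assoc, inv_mul_cancel_left]
      rw [← mul_assoc base base, hbb, one_mul, mul_inv_cancel]
    have hsw : g * (x * base * x⁻¹) * g⁻¹ * (g * base * g⁻¹) = g * ((x * base * x⁻¹) * base) * g⁻¹ := by group
    rw [hsw]
    congr 1
    congr 1
    calc m = m⁻¹ := eq_inv_of_mul_eq_one_left h'
      _ = x * base * x⁻¹ * base := by
        rw [hm, mul_inv_rev, inv_eq_of_mul_eq_one_right hbb, inv_eq_of_mul_eq_one_right hee]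
  all_goals right
  · left
    rcases (Nat.dvd_prime Nat.prime_three).1 (orderOf_dvd_of_pow_eq_one h) with e | e <;> rw [e] <;> decide
  · left
    rcases (Nat.dvd_prime (by norm_num)).1 (orderOf_dvd_of_pow_eq_one h) with e | e <;> rw [e] <;> decide
  · right
    refine ⟨?_, trivial⟩
    have := orderOf_eq_prime_pow (p := 2) (n := 1) (x := (m : Equiv.Perm (Fin 6))) (by simpa using h2) (by simpa using h1)
    simpa using this

theorem result :
    Cfsg.IsRootInvolutionClass {g : ↥(alternatingGroup (Fin 6)) | orderOf g = 2} ∧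
    ∀ d ∈ {g : ↥(alternatingGroup (Fin 6)) | orderOf g = 2}, ∀ e ∈ {g : ↥(alternatingGroup (Fin 6)) | orderOf g = 2},
      orderOf (d * e) ≤ 5 := by
  refine ⟨⟨⟨fun d hd => hd, ?_, ?_, ?_⟩, ?_, ?_⟩, ?_⟩
  · have hcl : (Subgroup.closure {g : ↥(alternatingGroup (Fin 6)) | orderOf g = 2}).Normal := by
      refine ⟨fun n hn x => ?_⟩
      induction hn using Subgroup.closure_induction with
      | mem y hy => exact Subgroup.subset_closure (show orderOf (x * y * x⁻¹) = 2 by rw [orderOf_conjugate]; exact hy)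
      | one => simp [one_mem]
      | mul a b _ _ ha hb => simpa [mul_assoc] using mul_mem ha hb
      | inv a _ ha => simpa [mul_assoc] using inv_mem ha
    haveI := alternatingGroup.isSimpleGroup (α := Fin 6) (by simp)
    rcases hcl.eq_bot_or_eq_top with h | h
    · exfalso
      have : base ∈ Subgroup.closure {g : ↥(alternatingGroup (Fin 6)) | orderOf g = 2} :=
        Subgroup.subset_closure base_order
      rw [h, Subgroup.mem_bot] at this
      have h2 := base_order
      rw [this, orderOf_one] at h2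
      omega
    · exact h
  · intro d hd g
    exact (orderOf_conjugate g d).trans hd
  · intro d hd e he
    obtain ⟨h1, h2⟩ | h | ⟨h1, h2⟩ := pair_cases d hd e he
    · exact Or.inl h1
    · exact Or.inr (Or.inl h.1)
    · refine Or.inr (Or.inr ⟨h1, ?_⟩)
      change orderOf ((d * e) ^ 2) = 2
      rw [orderOf_pow, h1]
      decide
  · exact ⟨base, base_order⟩
  · intro d hd e he
    obtain ⟨g, rfl⟩ := exists_conj d hd
    obtain ⟨g', rfl⟩ := exists_conj e he
    exact ⟨g' * g⁻¹, by group⟩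
  · intro d hd e he
    obtain ⟨h1, h2⟩ | h | ⟨h1, h2⟩ := pair_cases d hd e he
    · exact h2
    · exact h.2
    · omega

end Cfsg.Agent.S5057
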