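import Cfsg.Statements.S5058
import Cfsg.Agent.Lib.Classical.TransvectionRoot
import Cfsg.Agent.Lib.Classical.RankOneAction

set_option autoImplicit false
open Matrix
open Cfsg

namespace Cfsg.Agent.S5058

open Cfsg.Agent.Classical Cfsg.Agent.Classical.TransRoot Matrix
open scoped commutatorElement

variable {F : Type*} [Field F]

theorem sq_lin (M : Matrix.SpecialLinearGroup (Fin 2) F) (τ : F) [CharP F 2]
    (h : (M : Matrix (Fin 2) (Fin 2) F) * M = τ • (M : Matrix (Fin 2) (Fin 2) F) + 1) (k : ℕ) :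
    ∃ p q : F, ((M ^ k : Matrix.SpecialLinearGroup (Fin 2) F) : Matrix (Fin 2) (Fin 2) F) =
      p • (M : Matrix (Fin 2) (Fin 2) F) + q • 1 := by
  induction k with
  | zero => exact ⟨0, 1, by simp⟩
  | succ k ih =>
    obtain ⟨p, q, hk⟩ := ih
    refine ⟨p * τ + q, p, ?_⟩
    rw [pow_succ, Matrix.SpecialLinearGroup.coe_mul, hk, add_mul, smul_mul_assoc, h, smul_mul_assoc,
      Matrix.one_mul, smul_add, smul_smul, add_smul]
    abel

abbrev up (s : F) : Matrix.SpecialLinearGroup (Fin 2) F :=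
  Matrix.SpecialLinearGroup.transvection (show (0 : Fin 2) ≠ 1 by decide) s

abbrev lo (t : F) : Matrix.SpecialLinearGroup (Fin 2) F :=
  Matrix.SpecialLinearGroup.transvection (show (1 : Fin 2) ≠ 0 by decide) t

theorem up_lo_sq [CharP F 2] (s t : F) :
    ((up s * lo t : Matrix.SpecialLinearGroup (Fin 2) F) : Matrix (Fin 2) (Fin 2) F) *
        (up s * lo t : Matrix.SpecialLinearGroup (Fin 2) F) =
      (s * t) • ((up s * lo t : Matrix.SpecialLinearGroup (Fin 2) F) : Matrix (Fin 2) (Fin 2) F) + 1 := by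
  have h2 : (2 : F) = 0 := CharTwo.two_eq_zero
  ext i j
  fin_cases i <;> fin_cases j <;>
    simp [up, lo, Matrix.SpecialLinearGroup.transvection_coe, Matrix.mul_apply, Fin.sum_univ_two] <;>
    grind

theorem odd_order [Finite F] [CharP F 2] {s t : F} (hs : s ≠ 0) (ht : t ≠ 0) :
    Odd (orderOf (up s * lo t)) := by
  set M := up s * lo t with hM
  rw [← Nat.not_even_iff_odd]
  intro hev
  obtain ⟨j, hj⟩ := hev
  have hpos : 0 < orderOf M := orderOf_pos M
  have hz2 : (M ^ j) * (M ^ j) = 1 := by rw [← pow_add, ← hj, pow_orderOf_eq_one]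
  obtain ⟨p, q, hz⟩ := sq_lin M (s * t) (up_lo_sq s t) j
  have hmat : ((M : Matrix (Fin 2) (Fin 2) F)) 0 1 = s := by
    simp [hM, up, lo, Matrix.SpecialLinearGroup.transvection_coe, Matrix.mul_apply, Fin.sum_univ_two]
  have h2 : (2 : F) = 0 := CharTwo.two_eq_zero
  have e := congrArg Subtype.val hz2
  change ((M ^ j : Matrix.SpecialLinearGroup (Fin 2) F) : Matrix (Fin 2) (Fin 2) F) *
    (M ^ j : Matrix.SpecialLinearGroup (Fin 2) F) = 1 at e
  rw [hz] at e
  have e2 : (p * p * (s * t)) • (M : Matrix (Fin 2) (Fin 2) F) + (p * p + q * q) • 1 = 1 := by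
    have hexp : ∀ X : Matrix (Fin 2) (Fin 2) F, (p • X + q • 1) * (p • X + q • 1) =
        (p * p) • (X * X) + (p * q + q * p) • X + (q * q) • 1 := by
      intro X
      simp only [add_mul, mul_add, smul_mul_assoc, mul_smul_comm, Matrix.one_mul, Matrix.mul_one]
      module
    rw [hexp, up_lo_sq s t, ← hM, show p * q + q * p = 0 by grind, zero_smul, add_zero, smul_add,
      smul_smul] at e
    rw [add_smul, ← add_assoc]
    exact e
  have h01 := congrFun (congrFun e2 0) 1
  simp [hmat] at h01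
  have hp : p = 0 := by
    rcases h01 with (h | h) | h
    · exact h
    · exact absurd h (by simp [hs, ht])
    · exact absurd h hs
  subst hp
  have h00 := congrFun (congrFun e2 0) 0
  simp at h00
  have hq : q = 1 := by
    have h : (q + 1) * (q + 1) = 0 := by grind
    have := mul_self_eq_zero.mp h
    grind
  have hone : M ^ j = 1 := Subtype.ext (by
    show ((M ^ j : Matrix.SpecialLinearGroup (Fin 2) F) : Matrix (Fin 2) (Fin 2) F) = 1
    rw [hz, hq, zero_smul, zero_add, one_smul])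
  have := Nat.le_of_dvd (by omega) (orderOf_dvd_of_pow_eq_one hone)
  omega

theorem order_three [CharP F 2] : orderOf (up (1 : F) * lo 1) = 3 := by
  have h2 : (2 : F) = 0 := CharTwo.two_eq_zero
  refine orderOf_eq_prime ?_ ?_
  · refine Subtype.ext ?_
    show ((_ ^ 3 : Matrix.SpecialLinearGroup (Fin 2) F) : Matrix (Fin 2) (Fin 2) F) = 1
    rw [pow_succ, pow_two, Matrix.SpecialLinearGroup.coe_mul, Matrix.SpecialLinearGroup.coe_mul]
    ext i j
    fin_cases i <;> fin_cases j <;>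
      simp [up, lo, Matrix.SpecialLinearGroup.transvection_coe, Matrix.mul_apply, Fin.sum_univ_two] <;>
      grind
  · intro h
    have := congrFun (congrFun (congrArg Subtype.val h) 0) 1
    simp [up, lo, Matrix.SpecialLinearGroup.transvection_coe, Matrix.mul_apply, Fin.sum_univ_two] at this

/-- The transvections. -/
def D (n : ℕ) (F : Type*) [Field F] : Set (Matrix.SpecialLinearGroup (Fin n) F) :=
  {t | t ≠ 1 ∧ ∃ A ∈ rootSet n F, t ∈ A}

variable {n : ℕ}

theorem exists_param {t : Matrix.SpecialLinearGroup (Fin n) F} (ht : t ∈ D n F) :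
    ∃ (x φ : Fin n → F) (h : φ ⬝ᵥ x = 0) (c : Multiplicative F), x ≠ 0 ∧ φ ≠ 0 ∧ c ≠ 1 ∧ tHom x φ h c = t := by
  obtain ⟨ht1, A, ⟨x, φ, h, hx, hφ, rfl⟩, c, hc⟩ := ht
  exact ⟨x, φ, h, c, hx, hφ, fun h1 => ht1 (by rw [← hc, h1, map_one]), hc⟩

theorem sq_one [CharP F 2] {t : Matrix.SpecialLinearGroup (Fin n) F} (ht : t ∈ D n F) : t * t = 1 := by
  obtain ⟨x, φ, h, c, -, -, -, rfl⟩ := exists_param ht
  rw [← map_mul, show c * c = 1 from toAdd_eq_zero.mp (by rw [toAdd_mul]; exact CharTwo.add_self_eq_zero _),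
    map_one]

theorem D_conj {t : Matrix.SpecialLinearGroup (Fin n) F} (ht : t ∈ D n F)
    (g : Matrix.SpecialLinearGroup (Fin n) F) : g * t * g⁻¹ ∈ D n F := by
  obtain ⟨ht1, A, hA, htA⟩ := ht
  refine ⟨fun h => ht1 ?_, _, conj_mem_rootSet hA g, ⟨t, htA, rfl⟩⟩
  rwa [mul_inv_eq_one, mul_eq_left] at h

theorem four_case [CharP F 2] {x φ y ψ : Fin n → F} {hA : φ ⬝ᵥ x = 0} {hB : ψ ⬝ᵥ y = 0}
    (hx : x ≠ 0) (hψ : ψ ≠ 0) (h1 : φ ⬝ᵥ y ≠ 0) (h2 : ψ ⬝ᵥ x = 0) {c d : Multiplicative F}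
    (hc : c ≠ 1) (hd : d ≠ 1) (haD : tHom x φ hA c ∈ D n F) (hbD : tHom y ψ hB d ∈ D n F) :
    orderOf (tHom x φ hA c * tHom y ψ hB d) = 4 ∧ (tHom x φ hA c * tHom y ψ hB d) ^ 2 ∈ D n F := by
  set a := tHom x φ hA c with ha
  set b := tHom y ψ hB d with hb
  obtain ⟨hcase, heq⟩ := commutator_case hA hB hx hψ h1 h2
  have hinv : ∀ {t : Matrix.SpecialLinearGroup (Fin n) F}, t ∈ D n F → t⁻¹ = t := fun ht =>
    inv_eq_of_mul_eq_one_right (sq_one ht)
  have hsq : (a * b) ^ 2 = ⁅a, b⁆ := by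
    rw [commutatorElement_def, hinv haD, hinv hbD, pow_two, mul_assoc, mul_assoc, mul_assoc]
  have hne : ⁅a, b⁆ ≠ 1 := by
    intro h
    have e := bracket_tv (a := c.toAdd • x) (φ := φ) (b := d.toAdd • y) (ψ := ψ)
      (by rw [dotProduct_smul, hA, smul_zero]) (by rw [dotProduct_smul, hB, smul_zero])
      (by rw [dotProduct_smul, h2, smul_zero])
    change ⁅a, b⁆ = _ at e
    rw [h] at e
    refine T_ne_bot (h := show ψ ⬝ᵥ x = 0 from h2) hx hψ ?_
    rw [eq_bot_iff]
    intro g hg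
    obtain ⟨k, hk⟩ := mem_T.mp hg
    set m := (φ ⬝ᵥ (d.toAdd • y)) * c.toAdd with hm
    have hm0 : m ≠ 0 := by
      rw [hm, dotProduct_smul, smul_eq_mul]
      exact mul_ne_zero (mul_ne_zero (fun h => hd (toAdd_eq_zero.mp h)) h1)
        (fun h => hc (toAdd_eq_zero.mp h))
    have e1 : Cfsg.Agent.Small.Generation.tv (m • x) ψ = 1 := by
      have e0 := (congrArg Subtype.val e).symm
      change Cfsg.Agent.Small.Generation.tv ((φ ⬝ᵥ (d.toAdd • y)) • c.toAdd • x) ψ = 1 at e0
      rwa [smul_smul] at e0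
    rw [Cfsg.Agent.Small.Generation.tv, add_eq_left, Matrix.smul_vecMulVec, smul_eq_zero] at e1
    refine Subgroup.mem_bot.mpr (Subtype.ext ?_)
    rw [hk]
    show Cfsg.Agent.Small.Generation.tv (k • x) ψ = 1
    rw [Cfsg.Agent.Small.Generation.tv, Matrix.smul_vecMulVec, e1.resolve_left hm0, smul_zero, add_zero]
  have hmem : ⁅a, b⁆ ∈ D n F :=
    ⟨hne, _, hcase.1, Subgroup.commutator_mem_commutator ⟨c, rfl⟩ ⟨d, rfl⟩⟩
  refine ⟨?_, hsq ▸ hmem⟩
  refine orderOf_eq_prime_pow (p := 2) (n := 1) ?_ ?_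
  · rw [pow_one, hsq]; exact hne
  · rw [show (2 : ℕ) ^ (1 + 1) = 2 * 2 from rfl, pow_mul, hsq, pow_two]; exact sq_one hmem

/-- The three possibilities for two transvections. -/
theorem pair_cases [Finite F] [CharP F 2] {a b : Matrix.SpecialLinearGroup (Fin n) F} (ha : a ∈ D n F)
    (hb : b ∈ D n F) :
    a * b = b * a ∨ (Odd (orderOf (a * b)) ∧ (Nat.card F = 2 → orderOf (a * b) = 3)) ∨
      (orderOf (a * b) = 4 ∧ (a * b) ^ 2 ∈ D n F) := by
  obtain ⟨x, φ, hA, c, hx, hφ, hc, rfl⟩ := exists_param ha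
  obtain ⟨y, ψ, hB, d, hy, hψ, hd, rfl⟩ := exists_param hb
  by_cases h1 : φ ⬝ᵥ y = 0 <;> by_cases h2 : ψ ⬝ᵥ x = 0
  · exact Or.inl (RankOne.commute_of_bracket_bot (commuting (hA := hA) (hB := hB) h1 h2) ⟨c, rfl⟩ ⟨d, rfl⟩)
  · refine Or.inr (Or.inr ?_)
    obtain ⟨e1, e2⟩ := four_case hy hφ h2 h1 hd hc hb ha
    set a := tHom x φ hA c
    set b := tHom y ψ hB d
    have e : a * b = a * (b * a) * a⁻¹ := by group
    constructor
    · rw [← e1, e]
      exact orderOf_injective (MulAut.conj a).toMonoidHom (MulAut.conj a).injective (b * a)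
    · rw [e, conj_pow]
      exact D_conj e2 a
  · exact Or.inr (Or.inr (four_case hx hψ h1 h2 hc hd ha hb))
  · refine Or.inr (Or.inl ?_)
    set s := c.toAdd * (φ ⬝ᵥ y) with hs
    set t := d.toAdd * (ψ ⬝ᵥ x) with ht
    have hs0 : s ≠ 0 := mul_ne_zero (fun h => hc (toAdd_eq_zero.mp h)) h1
    have ht0 : t ≠ 0 := mul_ne_zero (fun h => hd (toAdd_eq_zero.mp h)) h2
    have hu : plane x φ y ψ hA hB h1 h2 (up s) = tHom x φ hA c := Subtype.ext (by
      rw [plane_upper, hs, mul_div_cancel_right₀ _ h1]; rfl)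
    have hl : plane x φ y ψ hA hB h1 h2 (lo t) = tHom y ψ hB d := Subtype.ext (by
      rw [plane_lower, ht, mul_div_cancel_right₀ _ h2]; rfl)
    rw [← hu, ← hl, ← map_mul, orderOf_injective _ (plane_injective x φ y ψ hA hB h1 h2)]
    refine ⟨odd_order hs0 ht0, fun h2F => ?_⟩
    have hF : ∀ z : F, z ≠ 0 → z = 1 := by
      intro z hz
      by_contra hz1
      have := Fintype.ofFinite F
      rw [Nat.card_eq_fintype_card] at h2F
      classical
      have h3 := Finset.card_le_univ ({0, 1, z} : Finset F)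
      rw [Finset.card_insert_of_notMem (by simp [hz.symm]), Finset.card_pair (Ne.symm hz1), h2F] at h3
      omega
    rw [hF s hs0, hF t ht0]
    exact order_three

theorem mem_iff {n : ℕ} {t : Matrix.SpecialLinearGroup (Fin (n + 3)) F} :
    (∃ c : F, c ≠ 0 ∧ ∃ g : Matrix.SpecialLinearGroup (Fin (n + 3)) F,
      ((g⁻¹ * t * g : Matrix.SpecialLinearGroup (Fin (n + 3)) F) : Matrix (Fin (n + 3)) (Fin (n + 3)) F) =
        Matrix.transvection 0 1 c) ↔ t ∈ D (n + 3) F := by
  have h01 : (0 : Fin (n + 3)) ≠ 1 := by simp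
  constructor
  · rintro ⟨c, hc, g, hg⟩
    have hbase : g⁻¹ * t * g ∈ D (n + 3) F := by
      refine ⟨fun h => hc ?_, _, T_mem_rootSet (e_dot h01) (by simp) (by simp),
        mem_T.mpr ⟨c, by rw [hg, transvection_eq_tv]⟩⟩
      rw [h] at hg
      have := congrFun (congrFun hg.symm 0) 1
      simpa [Matrix.transvection, h01] using this
    have := D_conj hbase g
    rwa [show g * (g⁻¹ * t * g) * g⁻¹ = t by group] at this
  · rintro ⟨ht1, A, ⟨x, φ, h, hx, hφ, rfl⟩, htA⟩
    obtain ⟨g, hg⟩ := transitive (e_dot (F := F) h01) h (by simp) (by simp) hx hφ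
    rw [hg, RankOne.mem_conjBy] at htA
    obtain ⟨c, hc⟩ := mem_T.mp htA
    rw [← transvection_eq_tv] at hc
    refine ⟨c, fun h0 => ht1 ?_, g, hc⟩
    have : g⁻¹ * t * g = 1 := Subtype.ext (by
      show ((g⁻¹ * t * g : Matrix.SpecialLinearGroup (Fin (n + 3)) F) : Matrix (Fin (n + 3)) (Fin (n + 3)) F) = 1
      rw [hc, h0, Matrix.transvection_zero])
    rw [show t = g * (g⁻¹ * t * g) * g⁻¹ by group, this]
    group
/-- Let F be a finite field of characteristic 2 and n a natural number. Then the transvections of SL_{n+3}(F) (so in every dimension at least 3) (the conjugates of the elementary matrices 1 + c E₁₂, c ≠ 0) form a class of root involutions of SL_{n+3}(F); when F has two elements they form a class of {3,4}⁺-transpositions (every product of odd order has order 1 or 3). -/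
theorem result (F : Type*) [Field F] [Fintype F] [CharP F 2] (n : ℕ) :
    Cfsg.IsRootInvolutionClass {t : Matrix.SpecialLinearGroup (Fin (n + 3)) F | ∃ c : F, c ≠ 0 ∧
        ∃ g : Matrix.SpecialLinearGroup (Fin (n + 3)) F, ((g⁻¹ * t * g : Matrix.SpecialLinearGroup (Fin (n + 3)) F) :
          Matrix (Fin (n + 3)) (Fin (n + 3)) F) = Matrix.transvection 0 1 c} ∧
    (Fintype.card F = 2 → Cfsg.IsThreeFourPlusTranspositionSet {t : Matrix.SpecialLinearGroup (Fin (n + 3)) F | ∃ c : F, c ≠ 0 ∧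
        ∃ g : Matrix.SpecialLinearGroup (Fin (n + 3)) F, ((g⁻¹ * t * g : Matrix.SpecialLinearGroup (Fin (n + 3)) F) :
          Matrix (Fin (n + 3)) (Fin (n + 3)) F) = Matrix.transvection 0 1 c}) := by
  rw [show {t : Matrix.SpecialLinearGroup (Fin (n + 3)) F | ∃ c : F, c ≠ 0 ∧
        ∃ g : Matrix.SpecialLinearGroup (Fin (n + 3)) F, ((g⁻¹ * t * g : Matrix.SpecialLinearGroup (Fin (n + 3)) F) :
          Matrix (Fin (n + 3)) (Fin (n + 3)) F) = Matrix.transvection 0 1 c} = D (n + 3) F from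
    Set.ext fun t => mem_iff]
  have h01 : (0 : Fin (n + 3)) ≠ 1 := by simp
  have h02 : (0 : Fin (n + 3)) ≠ 2 := by simp [Fin.ext_iff, Nat.mod_eq_of_lt (show 2 < n + 3 by omega)]
  have h12 : (1 : Fin (n + 3)) ≠ 2 := by simp [Fin.ext_iff, Nat.mod_eq_of_lt (show 2 < n + 3 by omega)]
  have : Nontrivial (Fin (n + 3)) := ⟨⟨_, _, h01⟩⟩
  have hset : Cfsg.IsRootInvolutionSet (D (n + 3) F) := by
    refine ⟨fun d hd => orderOf_eq_prime (by rw [pow_two]; exact sq_one hd) hd.1, ?_,
      fun d hd g => D_conj hd g, ?_⟩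
    · rw [eq_top_iff, ← sl_closure_transvections, Subgroup.closure_le]
      rintro g ⟨i, j, hij, c, rfl⟩
      by_cases h1 : (Matrix.SpecialLinearGroup.transvection hij c :
          Matrix.SpecialLinearGroup (Fin (n + 3)) F) = 1
      · rw [h1]; exact one_mem _
      · exact Subgroup.subset_closure ⟨h1, _, T_mem_rootSet (e_dot hij) (by simp) (by simp),
          mem_T.mpr ⟨c, transvection_eq_tv i j c⟩⟩
    · intro a ha b hb
      rcases pair_cases ha hb with h | h | h
      · exact Or.inl h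
      · exact Or.inr (Or.inl h.1)
      · exact Or.inr (Or.inr h)
  refine ⟨⟨hset, ?_, ?_⟩, fun hF => ⟨hset, fun a ha b hb hodd => ?_⟩⟩
  · exact ⟨Matrix.SpecialLinearGroup.transvection h01 1, mem_iff.mp ⟨1, one_ne_zero, 1, by simp [Matrix.transvection, Matrix.SpecialLinearGroup.transvection_coe]⟩⟩
  · -- every transvection is conjugate to the standard one
    have key : ∀ t ∈ D (n + 3) F, ∃ g : Matrix.SpecialLinearGroup (Fin (n + 3)) F,
        t = g * Matrix.SpecialLinearGroup.transvection h01 1 * g⁻¹ := by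
      intro t ht
      obtain ⟨c, hc, g, hg⟩ := mem_iff.mpr ht
      let δ : Matrix.SpecialLinearGroup (Fin (n + 3)) F := Matrix.SpecialLinearGroup.diag2n h02 c hc
      have hcomm : δ * Matrix.SpecialLinearGroup.transvection h01 1 = (g⁻¹ * t * g) * δ := by
        refine Subtype.ext ?_
        show ((δ * _ : Matrix.SpecialLinearGroup (Fin (n + 3)) F) : Matrix (Fin (n + 3)) (Fin (n + 3)) F) =
          ((_ * δ : Matrix.SpecialLinearGroup (Fin (n + 3)) F) : Matrix (Fin (n + 3)) (Fin (n + 3)) F)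
        rw [Matrix.SpecialLinearGroup.coe_mul, Matrix.SpecialLinearGroup.coe_mul, hg]
        simp only [δ, Matrix.SpecialLinearGroup.transvection_coe, Matrix.SpecialLinearGroup.diag2n_coe,
          Matrix.transvection]
        ext i j
        simp only [Matrix.mul_add, Matrix.add_mul, Matrix.mul_one, Matrix.one_mul, Matrix.add_apply,
          Matrix.mul_apply, Matrix.single_apply, Matrix.diagonal_apply, Matrix.one_apply]
        simp [ite_and]
        grind
      refine ⟨g * δ, ?_⟩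
      calc t = g * ((g⁻¹ * t * g) * δ) * δ⁻¹ * g⁻¹ := by group
        _ = _ := by rw [← hcomm]; group
    intro a ha b hb
    obtain ⟨g, rfl⟩ := key a ha
    obtain ⟨g', rfl⟩ := key b hb
    exact ⟨g' * g⁻¹, by group⟩
  · rcases pair_cases ha hb with h | h | h
    · left
      have : (a * b) ^ 2 = 1 := by
        rw [pow_two, mul_assoc, ← mul_assoc b, ← h, mul_assoc, sq_one hb, mul_one, sq_one ha]
      rcases (Nat.dvd_prime Nat.prime_two).mp (orderOf_dvd_of_pow_eq_one this) with h1 | h1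
      · exact h1
      · rw [h1] at hodd; exact absurd hodd (by decide)
    · exact Or.inr (h.2 (by rw [Nat.card_eq_fintype_card, hF]))
    · rw [h.1] at hodd; exact absurd hodd (by decide)

end Cfsg.Agent.S5058
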