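import Cfsg.Statements.S5059
-- import your own Cfsg.Agent.* helpers here

set_option autoImplicit false
universe u
open Cfsg

namespace Cfsg.Agent.S5059

/-- Let k be a field of characteristic not 2 with k not of order 3, M a finite-dimensional k-vector space and G ≤ GL(M) such that (G, M) is a quadratic pair (M irreducible for G, and G generated by its quadratically acting elements σ whose scalar family 1 + c(σ − 1), c ∈ k, lies in G). Write 𝒬_d for the quadratic elements of G of minimal commutator rank, E(σ) for the subgroup generated by the members of 𝒬_d with the same fixed space and commutator space as σ, and Σ for the set of these subgroups. Then for σ ∈ 𝒬_d the subgroup E(σ) consists exactly of those members together with the identity, it is abelian, and if k has prime characteristic p every element of E(σ) has order dividing p. -/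
theorem result {k : Type u} [Field k] (hk2 : ringChar k ≠ 2) (hk3 : Nat.card k ≠ 3)
    {M : Type u} [AddCommGroup M] [Module k M] [FiniteDimensional k M]
    {G : Subgroup (LinearMap.GeneralLinearGroup k M)} (hG : Cfsg.IsQuadraticPair G)
    {σ : LinearMap.GeneralLinearGroup k M} (hσ : σ ∈ Cfsg.minimalQuadraticElements G) :
    (Cfsg.sameActionSubgroup G σ : Set (LinearMap.GeneralLinearGroup k M)) = Cfsg.sameActionClass G σ ∪ {1} ∧
    IsMulCommutative ↥(Cfsg.sameActionSubgroup G σ) ∧
    (∀ p : ℕ, p.Prime → ringChar k = p → ∀ x ∈ Cfsg.sameActionSubgroup G σ, x ^ p = 1) := by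
  classical
  obtain ⟨⟨hσG, ⟨hσ2, hσ0⟩, hσfam⟩, hmin⟩ := hσ
  let T : LinearMap.GeneralLinearGroup k M → (M →ₗ[k] M) := fun τ => (τ : M →ₗ[k] M) - 1
  let R := LinearMap.range (T σ)
  let K := LinearMap.ker (T σ)
  have hRK : R ≤ K := by
    rintro _ ⟨m, rfl⟩
    exact LinearMap.mem_ker.2 (LinearMap.congr_fun hσ2 m)
  have hTT : ∀ τ τ', LinearMap.range (T τ') ≤ R → K ≤ LinearMap.ker (T τ) → T τ * T τ' = 0 := by
    intro τ τ' hr hk
    ext m
    exact LinearMap.mem_ker.1 (hk (hRK (hr ⟨m, rfl⟩)))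
  -- the set of elements acting inside R and trivially on K
  let carrier : Set (LinearMap.GeneralLinearGroup k M) := Cfsg.sameActionClass G σ ∪ {1}
  have hmemc : ∀ τ ∈ carrier, τ ∈ G ∧ LinearMap.range (T τ) ≤ R ∧ K ≤ LinearMap.ker (T τ) ∧
      Cfsg.scalarFamily τ ⊆ (G : Set (LinearMap.GeneralLinearGroup k M)) := by
    rintro τ (⟨⟨⟨hτG, -, hτfam⟩, -⟩, hker, hrange⟩ | hτ)
    · exact ⟨hτG, hrange.le, hker.ge, hτfam⟩
    · rw [Set.mem_singleton_iff.1 hτ]
      refine ⟨one_mem _, by simp [T], by simp [T], ?_⟩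
      rintro ρ ⟨c, hc⟩
      have : ρ = 1 := Units.ext (by simpa using hc)
      rw [this]
      exact one_mem _
  have hback : ∀ τ, τ ∈ G → LinearMap.range (T τ) ≤ R → K ≤ LinearMap.ker (T τ) →
      Cfsg.scalarFamily τ ⊆ (G : Set (LinearMap.GeneralLinearGroup k M)) → τ ∈ carrier := by
    intro τ hτG hr hk hfam
    by_cases h0 : T τ = 0
    · exact Or.inr (Units.ext (sub_eq_zero.1 h0))
    refine Or.inl ?_
    have hq : τ ∈ Cfsg.quadraticElements G := ⟨hτG, ⟨hTT τ τ hr hk, h0⟩, hfam⟩
    have hd : Cfsg.commutatorRank τ ≤ Cfsg.commutatorRank σ := Submodule.finrank_mono hr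
    have hd' : Cfsg.commutatorRank σ = Cfsg.commutatorRank τ := le_antisymm (hmin τ hq) hd
    refine ⟨⟨hq, fun ρ hρ => hd.trans (hmin ρ hρ)⟩, ?_, Submodule.eq_of_le_of_finrank_eq hr hd'.symm⟩
    refine (Submodule.eq_of_le_of_finrank_eq hk ?_).symm
    have e1 := LinearMap.finrank_range_add_finrank_ker (T τ)
    have e2 := LinearMap.finrank_range_add_finrank_ker (T σ)
    have e3 : Module.finrank k (LinearMap.range (T σ)) = Module.finrank k (LinearMap.range (T τ)) := hd'
    change Module.finrank k (LinearMap.ker (T σ)) = _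
    omega
  -- units 1 + c (τ - 1)
  have hsc : ∀ τ ∈ carrier, ∀ c : k, ∃ ρ : LinearMap.GeneralLinearGroup k M,
      (ρ : M →ₗ[k] M) = 1 + c • T τ := by
    intro τ hτ c
    obtain ⟨-, hr, hk, -⟩ := hmemc τ hτ
    refine ⟨⟨1 + c • T τ, 1 - c • T τ, ?_, ?_⟩, rfl⟩ <;>
      simp [mul_add, add_mul, mul_sub, sub_mul, smul_smul, hTT τ τ hr hk]
  have hTmul : ∀ τ ∈ carrier, ∀ τ' ∈ carrier, T (τ * τ') = T τ + T τ' := by
    intro τ hτ τ' hτ'
    have hz := hTT τ τ' (hmemc τ' hτ').2.1 (hmemc τ hτ).2.2.1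
    have e : T (τ * τ') = T τ * T τ' + T τ + T τ' := by
      change ((τ * τ' : LinearMap.GeneralLinearGroup k M) : M →ₗ[k] M) - 1 = _
      rw [Units.val_mul]
      simp only [T, sub_mul, mul_sub, one_mul, mul_one]
      abel
    rw [e, hz, zero_add]
  have hTinv : ∀ τ ∈ carrier, T τ⁻¹ = - T τ := by
    intro τ hτ
    obtain ⟨-, hr, hk, -⟩ := hmemc τ hτ
    have hz := hTT τ τ hr hk
    have e : ((τ⁻¹ : LinearMap.GeneralLinearGroup k M) : M →ₗ[k] M) = 1 - T τ := by
      refine Units.inv_eq_of_mul_eq_one_right ?_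
      have : (τ : M →ₗ[k] M) = 1 + T τ := (add_sub_cancel _ _).symm
      rw [this, mul_sub, mul_one, add_mul, one_mul, hz, add_zero, add_sub_cancel_right]
    change ((τ⁻¹ : LinearMap.GeneralLinearGroup k M) : M →ₗ[k] M) - 1 = _
    rw [e, sub_sub_cancel_left]
  let E : Subgroup (LinearMap.GeneralLinearGroup k M) :=
    { carrier := carrier
      one_mem' := Or.inr rfl
      mul_mem' := by
        intro τ τ' hτ hτ'
        obtain ⟨hG1, hr, hk, hf⟩ := hmemc τ hτ
        obtain ⟨hG2, hr', hk', hf'⟩ := hmemc τ' hτ'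
        refine hback _ (mul_mem hG1 hG2) ?_ ?_ ?_
        · rw [hTmul τ hτ τ' hτ']
          exact (LinearMap.range_add_le _ _).trans (sup_le hr hr')
        · rw [hTmul τ hτ τ' hτ']
          intro m hm
          simp [LinearMap.mem_ker.1 (hk hm), LinearMap.mem_ker.1 (hk' hm)]
        · rintro ρ ⟨c, hc⟩
          obtain ⟨r1, h1⟩ := hsc τ hτ c
          obtain ⟨r2, h2⟩ := hsc τ' hτ' c
          have e : ρ = r1 * r2 := by
            apply Units.ext
            change _ = (r1 : M →ₗ[k] M) * (r2 : M →ₗ[k] M)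
            rw [hc, h1, h2, show ((τ * τ' : LinearMap.GeneralLinearGroup k M) : M →ₗ[k] M) - 1 = T τ + T τ' from
              hTmul τ hτ τ' hτ', mul_add, mul_one, add_mul, one_mul, smul_mul_smul_comm, hTT τ τ' hr' hk, smul_zero,
              add_zero, smul_add, add_assoc]
          rw [e]
          exact mul_mem (hf ⟨c, h1⟩) (hf' ⟨c, h2⟩)
      inv_mem' := by
        intro τ hτ
        obtain ⟨hG1, hr, hk, hf⟩ := hmemc τ hτ
        refine hback _ (inv_mem hG1) ?_ ?_ ?_
        · rw [hTinv τ hτ, LinearMap.range_neg]; exact hr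
        · rw [hTinv τ hτ]
          intro m hm
          simp [LinearMap.mem_ker.1 (hk hm)]
        · rintro ρ ⟨c, hc⟩
          refine hf ⟨-c, ?_⟩
          rw [hc, show ((τ⁻¹ : LinearMap.GeneralLinearGroup k M) : M →ₗ[k] M) - 1 = - T τ from hTinv τ hτ, smul_neg, neg_smul]}
  have hE : Cfsg.sameActionSubgroup G σ ≤ E := (Subgroup.closure_le E).2 fun τ hτ => Or.inl hτ
  refine ⟨Set.Subset.antisymm hE ?_, ⟨⟨?_⟩⟩, ?_⟩
  · rintro τ (hτ | hτ)
    · exact Subgroup.subset_closure hτ
    · rw [Set.mem_singleton_iff.1 hτ]; exact one_mem _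
  · rintro ⟨x, hx⟩ ⟨y, hy⟩
    apply Subtype.ext
    apply Units.ext
    have e1 : T (x * y) = T (y * x) := by
      rw [hTmul x (hE hx) y (hE hy), hTmul y (hE hy) x (hE hx), add_comm]
    simpa [T] using e1
  · intro p hp hchar x hx
    apply Units.ext
    have e : ∀ n : ℕ, T (x ^ n) = n • T x := by
      intro n
      induction n with
      | zero => simp [T]
      | succ n ih => rw [pow_succ, hTmul _ (E.pow_mem (hE hx) n) x (hE hx), ih, succ_nsmul]
    have h0 : p • T x = 0 := by
      rw [← Nat.cast_smul_eq_nsmul k, show (p : k) = 0 by rw [← hchar]; exact ringChar.Nat.cast_ringChar,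
        zero_smul]
    have := e p
    rw [h0] at this
    simpa [T, sub_eq_zero] using this

end Cfsg.Agent.S5059
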