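import Cfsg.Statements.S5064
import Cfsg.Agent.Lib.Lead.QP.FieldCase

set_option autoImplicit false
universe u
open Cfsg

namespace Cfsg.Agent.S5064

/-- Let k be a field of characteristic not 2 with k not of order 3, M a finite-dimensional k-vector space and G ≤ GL(M) such that (G, M) is a quadratic pair (M irreducible for G, and G generated by its quadratically acting elements σ whose scalar family 1 + c(σ − 1), c ∈ k, lies in G). Write 𝒬_d for the quadratic elements of G of minimal commutator rank, E(σ) for the subgroup generated by the members of 𝒬_d with the same fixed space and commutator space as σ, and Σ for the set of these subgroups. If σ, τ ∈ 𝒬_d and the subgroup H generated by their two scalar families does not act unipotently on M, then H is isomorphic to SL₂ over a simple algebraic extension k(λ) of k. -/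
theorem result {k : Type u} [Field k] (hk2 : ringChar k ≠ 2) (hk3 : Nat.card k ≠ 3)
    {M : Type u} [AddCommGroup M] [Module k M] [FiniteDimensional k M]
    {G : Subgroup (LinearMap.GeneralLinearGroup k M)} (hG : Cfsg.IsQuadraticPair G)
    {σ τ : LinearMap.GeneralLinearGroup k M} (hσ : σ ∈ Cfsg.minimalQuadraticElements G) (hτ : τ ∈ Cfsg.minimalQuadraticElements G)
    (hH : ¬ Cfsg.IsUnipotentOn (Subgroup.closure (Cfsg.scalarFamily σ ∪ Cfsg.scalarFamily τ))) :
    ∃ (K : Type u) (_ : Field K) (_ : Algebra k K) (lam : K), IsAlgebraic k lam ∧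
      IntermediateField.adjoin k ({lam} : Set K) = ⊤ ∧
      Nonempty (↥(Subgroup.closure (Cfsg.scalarFamily σ ∪ Cfsg.scalarFamily τ)) ≃* Matrix.SpecialLinearGroup (Fin 2) K) := by
  have hD := Lead.QP.dickson_holds hk2 hk3
  have hs := Lead.QP.qs_of hD hk2 hk3 hσ
  have ha := Lead.QP.qd_of hσ hσ
  have hb := Lead.QP.qd_of hσ hτ
  have hle : Subgroup.closure (Cfsg.scalarFamily σ ∪ Cfsg.scalarFamily τ) ≤
      Lead.QP.Rg G ((σ : M →ₗ[k] M) - 1) ⊔ Lead.QP.Rg G ((τ : M →ₗ[k] M) - 1) := by
    refine (Subgroup.closure_le _).2 ?_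
    rintro g (⟨c, hg⟩ | ⟨c, hg⟩)
    · refine Subgroup.mem_sup_left ?_
      rw [Lead.QP.mem_Rg, hg, add_sub_cancel_left]
      exact Submodule.smul_mem _ c ha.self_mem
    · refine Subgroup.mem_sup_right ?_
      rw [Lead.QP.mem_Rg, hg, add_sub_cancel_left]
      exact Submodule.smul_mem _ c hb.self_mem
  by_cases ho : Lead.QP.Opp ((σ : M →ₗ[k] M) - 1) ((τ : M →ₗ[k] M) - 1)
  · obtain ⟨m, hm, φ, hinj, hrange, -⟩ := Lead.QP.sl2_model hs ha hb ho
    refine ⟨AdjoinRoot m, inferInstance, inferInstance, AdjoinRoot.root m,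
      AdjoinRoot.isAlgebraic_root hm.out.ne_zero, ?_, ?_⟩
    · refine eq_top_iff.2 fun x _ => IntermediateField.algebra_adjoin_le_adjoin k _ ?_
      rw [AdjoinRoot.adjoinRoot_eq_top]
      exact Algebra.mem_top
    · exact ⟨((MonoidHom.ofInjective hinj).trans (MulEquiv.subgroupCongr hrange)).symm⟩
  · exact absurd (Lead.QP.flag_unipotent (hle.trans (Lead.QP.sup_le_flag hs ha hb ho))) hH

end Cfsg.Agent.S5064
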