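import Cfsg.Statements.S5075
import Cfsg.Agent.Lib.Lead.McL.Induced

set_option autoImplicit false
open Cfsg

namespace Cfsg.Agent.S5075

/-- Let p be an odd prime, V a finite-dimensional vector space over the field with p elements, and H a group of linear automorphisms of V generated by transvections (elements of order p fixing a hyperplane pointwise) and having no nontrivial normal p-subgroup. Then for some n ≥ 1 there are a decomposition V = V₀ ⊕ V₁ ⊕ ⋯ ⊕ Vₙ into H-invariant subspaces and a decomposition of H as the internal direct product of normal subgroups H₁, …, Hₙ such that Hⱼ acts trivially on every Vᵢ with i ≠ j, and Hⱼ induces on Vⱼ exactly the special linear group of Vⱼ or exactly the isometry group of a non-degenerate alternating form on Vⱼ. -/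
theorem result {p : ℕ} [Fact p.Prime] (hp : Odd p) {V : Type*} [AddCommGroup V] [Module (ZMod p) V] [Finite V]
    (H : Subgroup (V ≃ₗ[ZMod p] V)) (T : Set (V ≃ₗ[ZMod p] V)) (hHT : H = Subgroup.closure T)
    (hT : ∀ t ∈ T, orderOf t = p ∧
      Module.finrank (ZMod p) ↥(LinearMap.ker ((t : V →ₗ[ZMod p] V) - LinearMap.id)) + 1 =
        Module.finrank (ZMod p) V)
    (hOp : Cfsg.pCore p ↥H = ⊥) :
    ∃ (n : ℕ) (W : Fin (n + 1) → Submodule (ZMod p) V) (K : Fin n → Subgroup (V ≃ₗ[ZMod p] V)),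
      1 ≤ n ∧ DirectSum.IsInternal W ∧
      (∀ h ∈ H, ∀ i, (W i).map (h : V →ₗ[ZMod p] V) = W i) ∧
      (∀ j, K j ≤ H ∧ ((K j).subgroupOf H).Normal) ∧ ⨆ j, K j = H ∧
      (∀ j, K j ⊓ (⨆ j' ∈ {j' : Fin n | j' ≠ j}, K j') = ⊥) ∧
      (∀ j j', j ≠ j' → ∀ a ∈ K j, ∀ b ∈ K j', a * b = b * a) ∧
      (∀ j, ∀ h ∈ K j, ∀ i : Fin (n + 1), i ≠ j.succ → ∀ v ∈ W i, h v = v) ∧
      (∀ j, ∃ ρ : ↥(K j) →* (↥(W j.succ) ≃ₗ[ZMod p] ↥(W j.succ)),
        (∀ (h : ↥(K j)) (v : ↥(W j.succ)), ((ρ h v : ↥(W j.succ)) : V) = (h : V ≃ₗ[ZMod p] V) (v : V)) ∧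
        ((ρ.range : Set (↥(W j.succ) ≃ₗ[ZMod p] ↥(W j.succ))) =
            {f : ↥(W j.succ) ≃ₗ[ZMod p] ↥(W j.succ) | LinearMap.det (f : ↥(W j.succ) →ₗ[ZMod p] ↥(W j.succ)) = 1} ∨
          ∃ B : LinearMap.BilinForm (ZMod p) ↥(W j.succ), B.IsAlt ∧ B.Nondegenerate ∧
            (ρ.range : Set (↥(W j.succ) ≃ₗ[ZMod p] ↥(W j.succ))) = {f : ↥(W j.succ) ≃ₗ[ZMod p] ↥(W j.succ) | ∀ x y, B (f x) (f y) = B x y})) := by
  classical
  have hp2 : p ≠ 2 := by
    rintro rfl
    exact absurd hp (by decide)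
  have htop : ⨆ i : Cfsg.Agent.Lead.McL.Key H, Cfsg.Agent.Lead.McL.part i = H :=
    Cfsg.Agent.Lead.McL.iSup_part hp2 hOp hHT hT
  by_cases hem : IsEmpty (Cfsg.Agent.Lead.McL.Key H)
  · have hH : H = ⊥ := by rw [← htop]; exact iSup_of_empty _
    refine ⟨1, Fin.cons ⊤ (fun _ => ⊥), fun _ => ⊥, le_rfl, ?_, ?_, fun j => ⟨bot_le, ?_⟩, ?_,
      fun j => bot_inf_eq _, ?_, ?_, fun j => ⟨1, ?_, Or.inl ?_⟩⟩
    · rw [DirectSum.isInternal_submodule_iff_iSupIndep_and_iSup_eq_top]
      refine ⟨iSupIndep_def.2 fun i => ?_, eq_top_iff.2 (le_iSup_of_le 0 (by simp))⟩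
      refine Fin.cases ?_ (fun j => by simp) i
      refine Disjoint.mono_right (iSup₂_le fun i hi => ?_) disjoint_bot_right
      obtain ⟨j, rfl⟩ := Fin.exists_succ_eq.2 hi
      simp
    · intro h hh i
      rw [hH, Subgroup.mem_bot] at hh
      subst hh
      exact Submodule.map_id _
    · exact (Subgroup.bot_subgroupOf H).symm ▸ inferInstance
    · rw [hH]; exact iSup_const
    · intro j j' hjj' a ha b hb
      rw [Subgroup.mem_bot.1 ha, Subgroup.mem_bot.1 hb]
    · intro j h hh i hi v hv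
      rw [Subgroup.mem_bot.1 hh]
      rfl
    · intro h v
      rw [MonoidHom.one_apply, Subgroup.mem_bot.1 h.2]
      rfl
    · have hsub : Subsingleton ↥((Fin.cons ⊤ (fun _ => ⊥) : Fin 2 → Submodule (ZMod p) V) j.succ) := by
        rw [Fin.cons_succ]; infer_instance
      ext f
      constructor
      · rintro -
        exact LinearMap.det_eq_one_of_subsingleton _
      · rintro -
        exact ⟨1, LinearEquiv.ext fun v => Subsingleton.elim _ _⟩
  rw [not_isEmpty_iff] at hem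
  let e := (Finite.equivFin (Cfsg.Agent.Lead.McL.Key H)).symm
  set n := Nat.card (Cfsg.Agent.Lead.McL.Key H) with hn
  let Wb : Fin n → Submodule (ZMod p) V := fun j => (e j).blk.W
  let V0 : Submodule (ZMod p) V := ⨅ j, (e j).blk.U
  have hWU : ∀ {i j : Fin n}, i ≠ j → Wb j ≤ (e i).blk.U := fun h =>
    Cfsg.Agent.Lead.McL.Key.rel hp2 hOp fun h' => h (e.injective h')
  let W : Fin (n + 1) → Submodule (ZMod p) V := Fin.cons V0 Wb
  have hW0 : W 0 = V0 := Fin.cons_zero _ _
  have hWs : ∀ j : Fin n, W j.succ = (e j).blk.W := fun j => Fin.cons_succ _ _ _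
  have hKle : ∀ j : Fin n, Cfsg.Agent.Lead.McL.part (e j) ≤ H := fun j => Cfsg.Agent.Lead.McL.part_le _
  have hsupK : ⨆ j : Fin n, Cfsg.Agent.Lead.McL.part (e j) = H :=
    (e.iSup_comp (g := fun i => Cfsg.Agent.Lead.McL.part i)).trans htop
  have hfix : ∀ (j : Fin n), ∀ h ∈ Cfsg.Agent.Lead.McL.part (e j), ∀ i : Fin (n + 1), i ≠ j.succ →
      ∀ v ∈ W i, h v = v := by
    intro j h hh i hi v hv
    refine (Cfsg.Agent.Lead.McL.part_frame (e j) hh).1 v ?_
    revert hi hv
    refine Fin.cases ?_ (fun i => ?_) i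
    · intro _ hv
      rw [hW0] at hv
      exact Submodule.mem_iInf _ |>.1 hv j
    · intro hi hv
      rw [hWs] at hv
      exact hWU (fun h => hi (by rw [h])) hv
  have hself : ∀ (j : Fin n), ∀ h ∈ Cfsg.Agent.Lead.McL.part (e j), ∀ i : Fin (n + 1), ∀ v ∈ W i, h v ∈ W i := by
    intro j h hh i v hv
    by_cases hi : i = j.succ
    · subst hi
      rw [hWs] at hv ⊢
      exact Cfsg.Agent.Lead.McL.preserves hp2 hOp _ _ hh hv
    · rwa [hfix j h hh i hi v hv]
  have hpres : ∀ h ∈ H, ∀ i : Fin (n + 1), ∀ v ∈ W i, h v ∈ W i := by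
    intro h hh
    rw [← hsupK] at hh
    refine Subgroup.iSup_induction _ (C := fun h => ∀ i, ∀ v ∈ W i, h v ∈ W i) hh
      (fun j x hx i v hv => hself j x hx i v hv) (fun i v hv => hv) fun x y hx hy i v hv => ?_
    exact hx i _ (hy i v hv)
  refine ⟨n, W, fun j => Cfsg.Agent.Lead.McL.part (e j), Nat.one_le_iff_ne_zero.2 (Nat.card_pos.ne'), ?_, ?_,
    fun j => ⟨hKle j, Cfsg.Agent.Lead.McL.normal_part hp2 hOp htop _⟩, hsupK, ?_, ?_, hfix, ?_⟩
  · rw [DirectSum.isInternal_submodule_iff_iSupIndep_and_iSup_eq_top]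
    let P : Fin n → V →ₗ[ZMod p] V := fun j => (e j).blk.P
    have hPW : ∀ j, ∀ v ∈ Wb j, P j v = v := fun j v hv => (e j).blk.P_W hv
    have hPU : ∀ j, ∀ v ∈ (e j).blk.U, P j v = 0 := fun j v hv => (e j).blk.P_U hv
    refine ⟨iSupIndep_def.2 fun i => ?_, ?_⟩
    · refine Fin.cases ?_ (fun j => ?_) i
      · rw [Submodule.disjoint_def, hW0]
        intro x hx hx'
        have hQ : ∀ y ∈ ⨆ (i : Fin (n + 1)) (_ : i ≠ 0), W i, (∑ j, P j) y = y := by
          intro y hy
          refine (show ⨆ (i : Fin (n + 1)) (_ : i ≠ 0), W i ≤ LinearMap.eqLocus (∑ j, P j) LinearMap.id from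
            iSup₂_le fun i hi => ?_) hy
          obtain ⟨j, rfl⟩ := Fin.exists_succ_eq.2 hi
          intro v hv
          rw [hWs] at hv
          show (∑ j, P j) v = v
          rw [LinearMap.sum_apply, Finset.sum_eq_single j]
          · exact hPW j v hv
          · intro i _ hij
            exact hPU i v (hWU hij hv)
          · simp
        rw [← hQ x hx', LinearMap.sum_apply]
        exact Finset.sum_eq_zero fun j _ => hPU j x ((Submodule.mem_iInf _).1 hx j)
      · rw [hWs]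
        refine (e j).blk.compl.disjoint.mono_right (iSup₂_le fun i hi => ?_)
        revert hi
        refine Fin.cases ?_ (fun i hi => ?_) i
        · intro _
          rw [hW0]
          exact iInf_le _ j
        · rw [hWs]
          exact hWU fun h => hi (by rw [h])
    · rw [eq_top_iff]
      intro v _
      have h1 : v - (∑ j, P j) v ∈ W 0 := by
        rw [hW0, Submodule.mem_iInf]
        intro i
        rw [LinearMap.sum_apply, ← Finset.add_sum_erase _ _ (Finset.mem_univ i), ← sub_sub]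
        refine sub_mem ((e i).blk.sub_P_mem v) (Submodule.sum_mem _ fun j hj => ?_)
        exact hWU (Finset.ne_of_mem_erase hj).symm ((e j).blk.P_mem v)
      have h2 : (∑ j, P j) v ∈ ⨆ i, W i := by
        rw [LinearMap.sum_apply]
        exact Submodule.sum_mem _ fun j _ =>
          le_iSup W j.succ ((hWs j).symm ▸ (e j).blk.P_mem v)
      have := add_mem (le_iSup W 0 h1) h2
      rwa [sub_add_cancel] at this
  · intro h hh i
    refine le_antisymm ?_ fun v hv => ⟨h⁻¹ v, hpres _ (H.inv_mem hh) i v hv, h.apply_symm_apply v⟩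
    rintro _ ⟨v, hv, rfl⟩
    exact hpres h hh i v hv
  · intro j
    rw [eq_bot_iff]
    rintro g ⟨hg1, hg2⟩
    have hle : ⨆ j' ∈ {j' : Fin n | j' ≠ j}, Cfsg.Agent.Lead.McL.part (e j') ≤
        Cfsg.Agent.Lead.McL.frame (e j).blk.U (e j).blk.W := by
      refine iSup₂_le fun j' hj' x hx => ?_
      obtain ⟨h1, h2⟩ := Cfsg.Agent.Lead.McL.part_frame (e j') hx
      exact ⟨fun w hw => h1 w (hWU hj' hw), fun v => hWU (Ne.symm hj') (h2 v)⟩
    obtain ⟨h1, -⟩ := hle hg2
    rw [Subgroup.mem_bot]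
    refine LinearEquiv.ext fun v => ?_
    obtain ⟨w, hw, u, hu, rfl⟩ := Cfsg.Agent.Lead.McL.exists_add (e j).blk.compl v
    rw [map_add, h1 w hw, (Cfsg.Agent.Lead.McL.part_frame (e j) hg1).1 u hu]
    rfl
  · intro j j' h a ha b hb
    exact Cfsg.Agent.Lead.McL.part_comm hp2 hOp (fun h' => h (e.injective h')) ha hb
  · intro j
    exact Cfsg.Agent.Lead.McL.exists_res hp2 hOp (e j) (W j.succ) (hWs j)

end Cfsg.Agent.S5075
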