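import Cfsg.Statements.S5079
import Cfsg.Agent.Lib.Local.FS.Sat

set_option autoImplicit false
open Cfsg

namespace Cfsg.Agent.S5079

theorem result {Ω : Type*} [Group Ω] {S : Subgroup Ω} [Finite S] (p : ℕ) [Fact p.Prime] (hS : IsPGroup p S) (F : Cfsg.FusionSystem S) (P Q : Subgroup Ω) (h₁ : F.IsFullyAutomized p P) (h₂ : F.IsReceptive P) (hQ : F.IsConj Q P) : ∃ φ ∈ F.Hom (Cfsg.FusionSystem.normalizerIn S Q), (∀ x, φ x ∈ Cfsg.FusionSystem.normalizerIn S P) ∧ (Q.subgroupOf (Cfsg.FusionSystem.normalizerIn S Q)).map φ = P := by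
  obtain ⟨f, ⟨φ, hφ, he⟩, hm, hi⟩ := Cfsg.Agent.Local.FS.exists_map_normalizer hS h₁ h₂ hQ
  refine ⟨φ, hφ, fun x => by rw [he]; exact hm x x.2, ?_⟩
  rw [← hi, Cfsg.Agent.Local.FS.im]
  have hle : Q ≤ Cfsg.FusionSystem.normalizerIn S Q :=
    Cfsg.Agent.Local.FS.le_normalizerIn (Cfsg.Agent.Local.FS.isConj_le hQ).1
  rw [← Subgroup.closure_eq (Subgroup.map φ _)]
  congr 1
  ext y
  constructor
  · rintro ⟨x, hx, rfl⟩; exact ⟨x, hx, (he x).symm⟩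
  · rintro ⟨x, hx, rfl⟩; exact ⟨⟨x, hle hx⟩, hx, he _⟩

end Cfsg.Agent.S5079
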