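import Cfsg.Statements.S5081
import Cfsg.Agent.Lib.Local.FS.Series

set_option autoImplicit false
open Cfsg

namespace Cfsg.Agent.S5081

theorem result {Ω : Type*} [Group Ω] {S : Subgroup Ω} [Finite S] (p : ℕ) [Fact p.Prime] (hS : IsPGroup p S) (F : Cfsg.FusionSystem S) (hF : F.IsSaturated p) (P : Subgroup Ω) (hPS : P < S) (hPn : F.IsFullyNormalized P) (H : Subgroup (MulAut P)) (hH : H = Subgroup.closure {α : MulAut P | ∃ (Q : Subgroup Ω) (hPQ : P < Q) (φ : Q →* Ω), φ ∈ F.Hom Q ∧ ∀ x : P, φ (Subgroup.inclusion hPQ.le x) = α x}) : (¬ F.IsEssential p P ∧ H = F.autGroup P) ∨ (F.IsEssential p P ∧ ∃ _ : ((Cfsg.Inn P).subgroupOf (F.autGroup P)).Normal, Cfsg.IsStronglyPEmbedded p ((H.subgroupOf (F.autGroup P)).map (QuotientGroup.mk' ((Cfsg.Inn P).subgroupOf (F.autGroup P))))) := by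
  have hH' : H = Subgroup.closure (Cfsg.Agent.Local.FS.extSet F P) := by
    rw [hH, Cfsg.Agent.Local.FS.extSet_eq_hom]
  by_cases hE : F.IsEssential p P
  · right
    rw [hH']
    exact ⟨hE, Cfsg.Agent.Local.FS.essential_data hS hF hE⟩
  · left
    exact ⟨hE, hH'.trans (Cfsg.Agent.Local.FS.autGroup_eq_closure_of_not_essential hS hF hPS hPn hE)⟩

end Cfsg.Agent.S5081
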