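import Cfsg.Statements.S5082
import Cfsg.Agent.Lib.Local.FS.Series

set_option autoImplicit false
open Cfsg

namespace Cfsg.Agent.S5082

theorem result {Ω : Type*} [Group Ω] {S : Subgroup Ω} [Finite S] (p : ℕ) [Fact p.Prime] (hS : IsPGroup p S) (F : Cfsg.FusionSystem S) (hF : F.IsSaturated p) (E : Cfsg.FusionSystem S) (hE : ∀ P : Subgroup Ω, (P = S ∨ F.IsEssential p P) → F.autGroup P ≤ E.autGroup P) : F ≤ E := by
  intro P φ hφ
  refine Cfsg.Agent.Local.FS.mem_iff_map.2 ?_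
  refine Cfsg.Agent.Local.FS.alperin hS hF (Cfsg.Agent.Local.FS.isClosedClass_map E) (fun R hR α hα => ?_) P _
    (Cfsg.Agent.Local.FS.map_of_mem hφ)
  have hRS : R ≤ S := hR.elim (fun h => h.le) fun h => h.1.1
  exact Cfsg.Agent.Local.FS.map_of_mem_autGroup hRS (hE R hR hα)

end Cfsg.Agent.S5082
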