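import Cfsg.Statements.S5084
import Cfsg.Agent.Lib.Local.FS.Focal

set_option autoImplicit false
open Cfsg

namespace Cfsg.Agent.S5084

theorem result {Ω : Type*} [Group Ω] {S : Subgroup Ω} [Finite S] (p : ℕ) [Fact p.Prime] (hS : IsPGroup p S) (F : Cfsg.FusionSystem S) (hF : F.IsSaturated p) (Q : Subgroup Ω) : F.IsCentral Q ↔ (Q ≤ S ∧ ∀ x ∈ Q, ∀ y : Ω, F.IsConjElt x y → y = x) := by
  open Cfsg.Agent.Local.FS in
  constructor
  · rintro ⟨hQS, h⟩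
    refine ⟨hQS, fun x hx y hxy => ?_⟩
    obtain ⟨f, ⟨φ, hφ, he⟩, rfl⟩ := isConjElt_iff.1 hxy
    obtain ⟨ψ, -, h1, h2⟩ := h _ φ hφ
    have e1 := h1 ⟨x, Subgroup.mem_zpowers x⟩
    have e2 := h2 ⟨x, hx⟩
    rw [he] at e1
    exact e1.symm.trans e2
  · rintro ⟨hQS, h⟩
    have hfix : ∀ (P : Subgroup Ω) (f : Ω → Ω), Map F P f → ∀ x ∈ P, x ∈ Q → f x = x :=
      fun P f hf x hx hxQ => h x hxQ _ (hf.isConjElt hx)
    have hab : IsMulCommutative Q := ⟨⟨fun a b => Subtype.ext (by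
      have := hfix Q _ (map_conjBy hQS (hQS a.2)) b b.2 b.2
      exact mul_inv_eq_iff_eq_mul.1 this)⟩⟩
    have hsc : F.StronglyClosed Q := stronglyClosed_iff.2 ⟨hQS, fun P f hP hf x hx => by
      rw [hfix P f hf x hx (hP hx)]; exact hP hx⟩
    have hn := (normal_iff.1 (normal_of_abelian hS hF hab hsc)).2
    refine ⟨hQS, fun P φ hφ => ?_⟩
    obtain ⟨g, hg, hgf, -⟩ := hn P _ (map_of_mem hφ)
    obtain ⟨ψ, hψ, he⟩ := hg
    refine ⟨ψ, hψ, fun x => ?_, fun x => ?_⟩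
    · rw [he, ← fn_coe φ x]; exact hgf x x.2
    · rw [he]; exact hfix _ g ⟨ψ, hψ, he⟩ x (Subgroup.mem_sup_right x.2) x.2

end Cfsg.Agent.S5084
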