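import Cfsg.Statements.S5086
import Cfsg.Agent.Lib.Local.FS.Series

set_option autoImplicit false
open Cfsg

namespace Cfsg.Agent.S5086

theorem result {Ω : Type*} [Group Ω] {S : Subgroup Ω} [Finite S] (p : ℕ) [Fact p.Prime] (hS : IsPGroup p S) (F : Cfsg.FusionSystem S) (hF : F.IsSaturated p) (Q : Subgroup Ω) : F.IsNormal Q ↔ (F.StronglyClosed Q ∧ ∀ P : Subgroup Ω, F.IsCentric P → F.IsRadical p P → Q ≤ P) := by
  exact ⟨fun h => ⟨Cfsg.Agent.Local.FS.normal_stronglyClosed h,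
      fun P hC hR => Cfsg.Agent.Local.FS.normal_le_centric_radical hS h hC hR⟩,
    fun h => Cfsg.Agent.Local.FS.normal_of_centric_radical hS hF h.1 h.2⟩

end Cfsg.Agent.S5086
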