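import Cfsg.Statements.S5087
import Cfsg.Agent.Lib.Local.FS.Series

set_option autoImplicit false
open Cfsg

namespace Cfsg.Agent.S5087

theorem result {Ω : Type*} [Group Ω] {S : Subgroup Ω} [Finite S] (p : ℕ) [Fact p.Prime] (hS : IsPGroup p S) (F : Cfsg.FusionSystem S) (hF : F.IsSaturated p) (Q : Subgroup Ω) : F.IsNormal Q ↔ ∀ P : Subgroup Ω, (P = S ∨ F.IsEssential p P) → (Q ≤ P ∧ ∀ α ∈ F.autGroup P, (Q.subgroupOf P).map α.toMonoidHom = Q.subgroupOf P) := by
  open Cfsg.Agent.Local.FS in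
  constructor
  · intro hQ P hP
    obtain ⟨hC, hR⟩ := gen_centric_radical hS hF hP
    have hQP := normal_le_centric_radical hS hQ hC hR
    refine ⟨hQP, fun α hα => ?_⟩
    haveI := finite_of_le hC.1
    refine Subgroup.eq_of_le_of_card_ge ?_ (le_of_eq ?_)
    · rintro _ ⟨x, hx, rfl⟩
      show ((α x : P) : Ω) ∈ Q
      rw [← av_coe]
      exact stronglyClosed_map (normal_stronglyClosed hQ) (map_of_mem_autGroup hC.1 hα) x.2 hx
    · exact (Nat.card_congr ((Q.subgroupOf P).equivMapOfInjective _ α.injective).toEquiv)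
  · intro h
    refine normal_of_gen hS hF (h S (Or.inl rfl)).1 fun P hP => ⟨(h P hP).1, fun α hα x hx => ?_⟩
    rw [av_apply α ((h P hP).1 hx)]
    exact ((h P hP).2 α hα).le ⟨⟨x, (h P hP).1 hx⟩, hx, rfl⟩

end Cfsg.Agent.S5087
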