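import Cfsg.Statements.S5088
import Cfsg.Agent.Lib.Local.FS.Series

set_option autoImplicit false
open Cfsg

namespace Cfsg.Agent.S5088

theorem result {Ω : Type*} [Group Ω] {S : Subgroup Ω} [Finite S] (p : ℕ) [Fact p.Prime] (hS : IsPGroup p S) (F : Cfsg.FusionSystem S) (hF : F.IsSaturated p) (Q : Subgroup Ω) : F.IsNormal Q ↔ ∃ (n : ℕ) (Qs : Fin (n + 1) → Subgroup Ω), Qs 0 = ⊥ ∧ Qs (Fin.last n) = Q ∧ Monotone Qs ∧ ∀ i : Fin n, F.StronglyClosed (Qs i.succ) ∧ ⁅Q, Qs i.succ⁆ ≤ Qs (Fin.castSucc i) := by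
  open Cfsg.Agent.Local.FS in
  constructor
  · intro hQ
    obtain ⟨n, C, h0, hn, hm, -, hsc, hc⟩ := series_of_extends hS hQ.1 (normal_extends hQ)
    exact ⟨n, fun i => C i, h0, hn n le_rfl, fun i j hij => hm hij,
      fun i => ⟨hsc _, hc i i.2⟩⟩
  · rintro ⟨n, Qs, h0, hlast, hmono, h⟩
    rcases Nat.eq_zero_or_pos n with rfl | hn
    · have hQ : Q = ⊥ := by rw [← hlast, ← h0]; rfl
      subst hQ
      refine normal_of_gen hS hF bot_le fun P hP => ⟨bot_le, fun α hα x hx => ?_⟩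
      rw [Subgroup.mem_bot] at hx ⊢
      subst hx
      have hPS : P ≤ S := hP.elim (fun h => h.le) fun h => h.1.1
      exact (map_of_mem_autGroup hPS hα).map_one
    · let C : ℕ → Subgroup Ω := fun i => Qs ⟨min i n, by omega⟩
      have hn' : C n = Q := by
        rw [← hlast]; exact congrArg Qs (Fin.ext (Nat.min_self n))
      have hCs : ∀ i (hi : i < n), C (i + 1) = Qs (Fin.succ ⟨i, hi⟩) := fun i hi =>
        congrArg Qs (Fin.ext (by simp; omega))
      have hCc : ∀ i (hi : i < n), C i = Qs (Fin.castSucc ⟨i, hi⟩) := fun i hi =>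
        congrArg Qs (Fin.ext (by simp; omega))
      refine normal_of_series hS hF C n ?_ hn' (fun i j hij => hmono (Fin.mk_le_mk.2 (by omega))) ?_
        (fun i hi => by rw [hCs i hi]; exact (h _).1) fun i hi => by
          rw [hCs i hi, hCc i hi]; exact (h _).2
      · rw [← h0]; exact congrArg Qs (Fin.ext (by simp))
      · have h1 := (h ⟨n - 1, by omega⟩).1
        rwa [← hCs, show n - 1 + 1 = n by omega, hn'] at h1

end Cfsg.Agent.S5088
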