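import Cfsg.Statements.S5089
import Cfsg.Agent.Lib.Local.FS.Series

set_option autoImplicit false
open Cfsg

namespace Cfsg.Agent.S5089

theorem result {Ω : Type*} [Group Ω] {S : Subgroup Ω} [Finite S] (p : ℕ) [Fact p.Prime] (hS : IsPGroup p S) (F : Cfsg.FusionSystem S) (hF : F.IsSaturated p) : F.core ≠ ⊥ ↔ ∃ Q : Subgroup Ω, Q ≠ ⊥ ∧ IsMulCommutative Q ∧ F.StronglyClosed Q := by
  open Cfsg.Agent.Local.FS in
  constructor
  · intro hne
    have hn := core_normal hS hF
    haveI := finite_of_le hn.1
    have hp' : IsPGroup p ↥F.core := hS.to_le hn.1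
    haveI : Nontrivial ↥F.core := (Subgroup.nontrivial_iff_ne_bot _).2 hne
    have hch : ((Subgroup.center ↥F.core).map F.core.subtype).subgroupOf F.core = Subgroup.center ↥F.core :=
      Subgroup.comap_map_eq_self_of_injective F.core.subtype_injective _
    have hnorm : F.IsNormal ((Subgroup.center ↥F.core).map F.core.subtype) :=
      normal_of_characteristic hn (Subgroup.map_subtype_le _) (by rw [hch]; infer_instance)
    refine ⟨_, ?_, ?_, normal_stronglyClosed hnorm⟩
    · rw [Ne, Subgroup.map_eq_bot_iff_of_injective _ F.core.subtype_injective]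
      exact fun h => (not_nontrivial_iff_subsingleton.2 (by
        rw [h]; infer_instance)) hp'.center_nontrivial
    · refine ⟨⟨?_⟩⟩
      rintro ⟨_, a, ha, rfl⟩ ⟨_, b, -, rfl⟩
      refine Subtype.ext ?_
      show F.core.subtype a * F.core.subtype b = F.core.subtype b * F.core.subtype a
      rw [← map_mul, ← map_mul, Subgroup.mem_center_iff.1 ha b]
  · rintro ⟨Q, hne, hab, hQ⟩ h
    exact hne (le_bot_iff.1 (h ▸ le_sSup (normal_of_abelian hS hF hab hQ)))

end Cfsg.Agent.S5089
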