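import Cfsg.Statements.S5090
import Cfsg.Agent.Lib.Local.FS.Model

set_option autoImplicit false
universe u
open Cfsg

namespace Cfsg.Agent.S5090

theorem result {Ω : Type u} [Group Ω] {S : Subgroup Ω} [Finite S] (p : ℕ) [Fact p.Prime] (hS : IsPGroup p S) (F : Cfsg.FusionSystem S) (hF : F.IsConstrained p) : ∃ (G : Type u) (_ : Group G) (ι : S →* G), F.IsModel p G ι := by
  obtain ⟨hs, Q, hQn, hQc⟩ := hF
  exact Cfsg.Agent.Local.FS.exists_model hS hs hQn hQc

end Cfsg.Agent.S5090
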