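import Cfsg.Statements.S5094
import Cfsg.Agent.Lib.Char.ZStarElement

set_option autoImplicit false
open Cfsg
open scoped ComplexConjugate

namespace Cfsg.Agent.S5094

/-- Glauberman's Z*-Theorem in fusion language: for a finite group G with Sylow 2-subgroup S, the centre of the fusion system of G on S is the set of elements of S whose image in G/O(G) is central, O(G) being the largest normal subgroup of odd order. -/
theorem result {G : Type*} [Group G] [Finite G] (S : Sylow 2 G) : (Cfsg.groupFusionSystem (S : Subgroup G)).center = (S : Subgroup G) ⊓ (Subgroup.center (G ⧸ Cfsg.oddCore G)).comap (QuotientGroup.mk' (Cfsg.oddCore G)) := by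
  classical
  haveI : Fact (Nat.Prime 2) := ⟨Nat.prime_two⟩
  set O := Cfsg.oddCore G with hOdef
  set π := QuotientGroup.mk' O with hπ
  set T : Subgroup G := (S : Subgroup G) ⊓ (Subgroup.center (G ⧸ O)).comap π with hT
  have hker : ∀ g : G, g ∈ O ↔ π g = 1 := fun g => (QuotientGroup.eq_one_iff g).symm
  apply le_antisymm
  · refine sSup_le ?_
    rintro Q ⟨hQS, hext⟩ x hx
    have hyp : ∀ y ∈ Subgroup.zpowers x, ∀ g : G, g * y * g⁻¹ ∈ (S : Subgroup G) →
        g * y * g⁻¹ = y := by
      intro y hy g hg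
      have hyQ : y ∈ Q := Subgroup.zpowers_le.mpr hx hy
      let φ : Subgroup.zpowers y →* G :=
        (MulAut.conj g).toMonoidHom.comp (Subgroup.zpowers y).subtype
      have hφ : φ ∈ (Cfsg.groupFusionSystem (S : Subgroup G)).Hom (Subgroup.zpowers y) := by
        refine ⟨Subgroup.zpowers_le.mpr (hQS hyQ), fun w => ?_, g, fun w => rfl⟩
        obtain ⟨k, hk⟩ := Subgroup.mem_zpowers_iff.mp w.2
        show g * (w : G) * g⁻¹ ∈ (S : Subgroup G)
        rw [← hk, ← conj_zpow]
        exact zpow_mem hg k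
      obtain ⟨ψ, -, hψP, hψQ⟩ := hext _ φ hφ
      have h1 := hψP ⟨y, Subgroup.mem_zpowers y⟩
      have h2 := hψQ ⟨y, hyQ⟩
      exact (h1.symm.trans h2)
    have hz := Cfsg.Agent.Char.isolatedElt_central (hQS hx) hyp
    refine ⟨hQS hx, Subgroup.mem_center_iff.mpr fun q => ?_⟩
    obtain ⟨g, rfl⟩ := QuotientGroup.mk'_surjective O q
    have h := (hker _).mp (hz g)
    rw [map_mul, map_mul, map_mul, map_inv, map_inv, mul_inv_eq_one, mul_inv_eq_iff_eq_mul] at h
    exact h.symm
  · refine le_sSup ⟨inf_le_left, fun P φ hφ => ?_⟩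
    obtain ⟨hPS, hφS, g, hg⟩ := hφ
    have hTc : ∀ t ∈ T, ∀ a : G, π (a * t * a⁻¹) = π t := fun t ht a => by
      rw [map_mul, map_mul, map_inv, Subgroup.mem_center_iff.mp ht.2 (π a), mul_inv_cancel_right]
    have hinj : ∀ a b : G, a ∈ (S : Subgroup G) → b ∈ (S : Subgroup G) → π a = π b → a = b := by
      intro a b ha hb hab
      have h1 : a⁻¹ * b ∈ O := by rw [hker, map_mul, map_inv, hab, inv_mul_cancel]
      obtain ⟨k, hk⟩ := IsPGroup.iff_orderOf.mp S.2 ⟨a⁻¹ * b, mul_mem (inv_mem ha) hb⟩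
      rw [← Subgroup.orderOf_coe] at hk
      have h2 : orderOf (a⁻¹ * b) ∣ Nat.card O := Subgroup.orderOf_dvd_natCard O h1
      rw [hk] at h2
      have h3 : (2 : ℕ) ^ k = 1 := Nat.eq_one_of_dvd_coprimes
        (Nat.Coprime.pow_left k (Nat.coprime_two_left.mpr (Cfsg.Agent.Char.card_oddCore_odd G)))
        dvd_rfl h2
      rw [h3, orderOf_eq_one_iff, inv_mul_eq_one] at hk
      exact hk
    set R : Subgroup G := φ.range with hR
    have hRS : R ≤ (S : Subgroup G) := by
      rintro _ ⟨w, rfl⟩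
      exact hφS w
    have hcen : ∀ t ∈ T, ∀ s ∈ (S : Subgroup G), t * s = s * t := by
      intro t ht s hs
      refine (mul_inv_eq_iff_eq_mul.mp (hinj (s * t * s⁻¹) t
        (mul_mem (mul_mem hs ht.1) (inv_mem hs)) ht.1 (hTc t ht s))).symm
    set U : Subgroup G := T.map (MulAut.conj g).toMonoidHom with hU
    set K : Subgroup G := Subgroup.centralizer (R : Set G) ⊓ (T ⊔ O) with hK
    have hTK : T ≤ K := le_inf (fun t ht => Subgroup.mem_centralizer_iff.mpr
      fun r hr => (hcen t ht r (hRS hr)).symm) le_sup_left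
    have hUK : U ≤ K := by
      rintro _ ⟨t, ht, rfl⟩
      show g * t * g⁻¹ ∈ K
      refine ⟨Subgroup.mem_centralizer_iff.mpr ?_, ?_⟩
      · rintro _ ⟨w, rfl⟩
        rw [hg w]
        calc g * (w : G) * g⁻¹ * (g * t * g⁻¹) = g * ((w : G) * t) * g⁻¹ := by group
          _ = g * (t * (w : G)) * g⁻¹ := by rw [hcen t ht _ (hPS w.2)]
          _ = _ := by group
      · have h1 : t⁻¹ * (g * t * g⁻¹) ∈ O := by
          rw [hker, map_mul, map_inv, hTc t ht g, inv_mul_cancel]
        have := mul_mem (Subgroup.mem_sup_left (T := O) ht)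
          (Subgroup.mem_sup_right (S := T) h1)
        rwa [mul_inv_cancel_left] at this
    have hTp : IsPGroup 2 T := S.2.to_le inf_le_left
    obtain ⟨a, ha, hau⟩ := Cfsg.Agent.Char.exists_conj_le
      (Cfsg.Agent.Char.card_oddCore_odd G) hTp (hTp.map _) hTK inf_le_right hUK
    have haR : ∀ w : P, a * φ w * a⁻¹ = φ w := fun w => by
      rw [← Subgroup.mem_centralizer_iff.mp ha.1 (φ w) ⟨w, rfl⟩, mul_inv_cancel_right]
    have hfix : ∀ t ∈ T, a * g * t * (a * g)⁻¹ = t := by
      intro t ht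
      refine hinj _ _ ?_ ht.1 (hTc t ht (a * g))
      have := (hau _ (Subgroup.mem_map_of_mem _ ht)).1
      rw [show a * g * t * (a * g)⁻¹ = a * (g * t * g⁻¹) * a⁻¹ by group]
      exact this
    refine ⟨(MulAut.conj (a * g)).toMonoidHom.comp (P ⊔ T).subtype,
      ⟨sup_le hPS inf_le_left, ?_, a * g, fun w => rfl⟩, fun w => ?_, fun t => ?_⟩
    · intro w
      show a * g * (w : G) * (a * g)⁻¹ ∈ (S : Subgroup G)
      have hle : P ⊔ T ≤ (S : Subgroup G).comap (MulAut.conj (a * g)).toMonoidHom := by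
        refine sup_le (fun v hv => ?_) (fun t ht => ?_)
        · show a * g * v * (a * g)⁻¹ ∈ (S : Subgroup G)
          have h1 := haR ⟨v, hv⟩
          rw [hg ⟨v, hv⟩] at h1
          rw [show a * g * v * (a * g)⁻¹ = a * (g * v * g⁻¹) * a⁻¹ by group, h1, ← hg ⟨v, hv⟩]
          exact hφS _
        · show a * g * t * (a * g)⁻¹ ∈ (S : Subgroup G)
          rw [hfix t ht]
          exact ht.1
      exact hle w.2
    · show a * g * (w : G) * (a * g)⁻¹ = φ w
      have h1 := haR w
      rw [hg w] at h1 ⊢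
      rw [← h1]; group
    · show a * g * (t : G) * (a * g)⁻¹ = t
      exact hfix t t.2

end Cfsg.Agent.S5094
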