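import Cfsg.Statements.S5095
import Cfsg.Agent.Lib.Local.FS.Centric

set_option autoImplicit false
open Cfsg

namespace Cfsg.Agent.S5095

theorem result {Ω : Type*} [Group Ω] {S : Subgroup Ω} [Finite S] (p : ℕ) [Fact p.Prime] (hS : IsPGroup p S) (F : Cfsg.FusionSystem S) (hF : F.IsSaturated p) (P Q : Subgroup Ω) (hQP : Q ≤ P) (hQ : F.IsCentric Q) (φ φ' : P →* Ω) (hφ : φ ∈ F.Hom P) (hφ' : φ' ∈ F.Hom P) (h : ∀ x : P, (x : Ω) ∈ Q → φ x = φ' x) : ∃ z : P, (z : Ω) ∈ Q ∧ (z : Ω) ∈ Subgroup.centralizer (Q : Set Ω) ∧ ∀ y : P, φ' y = φ (z * y * z⁻¹) := by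
  open Cfsg.Agent.Local.FS in
  obtain ⟨z, hz, hzc, hzP⟩ := centric_agree hS hF hQ hQP (map_of_mem hφ) (map_of_mem hφ')
    fun x hx => by rw [fn_apply φ (hQP hx), fn_apply φ' (hQP hx)]; exact h ⟨x, hQP hx⟩ hx
  refine ⟨⟨z, hQP hz⟩, hz, Subgroup.mem_centralizer_iff.2 fun y hy => hzc y hy, fun y => ?_⟩
  have h1 := hzP y y.2
  rw [fn_coe, fn_apply φ (P.mul_mem (P.mul_mem (hQP hz) y.2) (P.inv_mem (hQP hz)))] at h1
  exact h1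

end Cfsg.Agent.S5095
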