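import Cfsg.Statements.S5096
import Cfsg.Agent.Lib.Local.FS.Systems

set_option autoImplicit false
open Cfsg

namespace Cfsg.Agent.S5096

theorem result {Ω : Type*} [Group Ω] {S : Subgroup Ω} (F : Cfsg.FusionSystem S) (Q : Subgroup Ω) (hQ : Q ≤ S) : ∃ E : Cfsg.FusionSystem (Cfsg.FusionSystem.normalizerIn S Q), F.IsNormalizerSystem Q E := by
  exact ⟨Cfsg.Agent.Local.FS.normSys F hQ, fun _ => rfl⟩

end Cfsg.Agent.S5096
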