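import Cfsg.Statements.S5102
import Cfsg.Agent.Lib.Local.FS.Group
import Cfsg.Agent.Lib.Solv.Basic

set_option autoImplicit false
open Cfsg

namespace Cfsg.Agent.S5102

theorem result {G : Type*} [Group G] [Finite G] (p : ℕ) [Fact p.Prime] (S : Sylow p G) (R : Subgroup G) [R.Normal] (hR : IsPGroup p R) : (Cfsg.groupFusionSystem (S : Subgroup G)).IsNormal R := by
  have hRS : R ≤ (S : Subgroup G) := by
    obtain ⟨g, hg⟩ := hR.exists_le_sylow
    obtain ⟨x, rfl⟩ := MulAction.exists_smul_eq G S g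
    intro r hr
    have h2 : x * r * x⁻¹ ∈ ((x • S : Sylow p G) : Subgroup G) := hg (‹R.Normal›.conj_mem r hr x)
    rw [Sylow.coe_subgroup_smul, Cfsg.Agent.Solv.mem_conj_smul] at h2
    simpa [mul_assoc] using h2
  refine ⟨hRS, fun P φ hφ => ?_⟩
  obtain ⟨hP, hφS, g, hg⟩ := hφ
  refine ⟨Cfsg.conjHom (P ⊔ R) g, ⟨sup_le hP hRS, fun x => ?_, g, fun _ => rfl⟩, fun x => (hg x).symm, ?_⟩
  · show g * (x : G) * g⁻¹ ∈ (S : Subgroup G)
    obtain ⟨a, ha, b, hb, hab⟩ : ∃ a ∈ P, ∃ b ∈ R, a * b = (x : G) := by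
      have h := x.2
      rw [← SetLike.mem_coe, Subgroup.mul_normal] at h
      exact h
    rw [← hab, show g * (a * b) * g⁻¹ = g * a * g⁻¹ * (g * b * g⁻¹) by group]
    exact Subgroup.mul_mem _ (hg ⟨a, ha⟩ ▸ hφS ⟨a, ha⟩) (hRS (‹R.Normal›.conj_mem b hb g))
  · ext y
    constructor
    · rintro ⟨⟨x, hx⟩, hxR, rfl⟩
      exact ‹R.Normal›.conj_mem x hxR g
    · intro hy
      refine ⟨⟨g⁻¹ * y * g, Subgroup.mem_sup_right (by simpa using ‹R.Normal›.conj_mem y hy g⁻¹)⟩, ?_, ?_⟩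
      · show g⁻¹ * y * g ∈ R
        simpa using ‹R.Normal›.conj_mem y hy g⁻¹
      · show g * (g⁻¹ * y * g) * g⁻¹ = y
        group

end Cfsg.Agent.S5102
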