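import Cfsg.Statements.S5103
import Cfsg.Agent.Lib.Local.FS.Transport

set_option autoImplicit false
open Cfsg

namespace Cfsg.Agent.S5103

theorem result {Ω : Type*} [Group Ω] {S : Subgroup Ω} [Finite S] (p : ℕ) [Fact p.Prime] (hS : IsPGroup p S) (F : Cfsg.FusionSystem S) {G : Type*} [Group G] (ι : S →* G) (hG : F.IsModel p G ι) : F.IsConstrained p := by
  open Cfsg.Agent.Local.FS Cfsg.Agent.Fusion in
  obtain ⟨_, hr, ⟨T, hT⟩, -⟩ := id hG
  have hsat : (Cfsg.groupFusionSystem ι.range).IsSaturated p := group_saturated (hT ▸ sylIn_top T)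
  exact ⟨(fiso_of_realized hr).saturated hS hsat, _, model_normal_centric hG⟩

end Cfsg.Agent.S5103
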