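import Cfsg.Statements.S5105
import Cfsg.Agent.Lib.Local.FS.Transport

set_option autoImplicit false
open Cfsg

namespace Cfsg.Agent.S5105

theorem result {Ω : Type*} [Group Ω] {S : Subgroup Ω} [Finite S] (p : ℕ) [Fact p.Prime] (hS : IsPGroup p S) (F : Cfsg.FusionSystem S) (hF : F.IsConstrained p) {G : Type*} [Group G] (ι : S →* G) (hG : F.IsModel p G ι) (ψ : G ≃* G) (hψ : ∀ x : S, ψ (ι x) = ι x) : ∃ z : S, z ∈ Subgroup.center S ∧ ∀ g : G, ψ g = ι z * g * (ι z)⁻¹ := by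
  obtain ⟨hfin, hr, ⟨T, hT⟩, hC⟩ := id hG
  haveI := hfin
  have hQ : Cfsg.pCore p G ≤ ι.range := Cfsg.Agent.Local.FS.model_core_le hG
  set Q := Cfsg.pCore p G with hQdef
  haveI hQn : Q.Normal := by
    refine ⟨fun n hn g => ?_⟩
    have h : (Cfsg.pCore p G).Normal := inferInstance
    exact h.conj_mem n hn g
  have hfix : ∀ q ∈ Q, ψ q = q := fun q hq => by
    obtain ⟨x, rfl⟩ := hQ hq
    exact hψ x
  let Z : Subgroup G := Q ⊓ Subgroup.centralizer (Q : Set G)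
  have hεQ : ∀ g, ψ g * g⁻¹ ∈ Z := by
    intro g
    have h : ψ g * g⁻¹ ∈ Subgroup.centralizer (Q : Set G) := by
      refine Subgroup.mem_centralizer_iff.2 fun q hq => ?_
      have hq' : g⁻¹ * q * g ∈ Q := by simpa using hQn.conj_mem q hq g⁻¹
      have h1 := hfix q hq
      rw [show q = g * (g⁻¹ * q * g) * g⁻¹ by group, map_mul, map_mul, map_inv, hfix _ hq'] at h1
      rw [show g * (g⁻¹ * q * g) * g⁻¹ = q by group] at h1
      calc q * (ψ g * g⁻¹) = (ψ g * (g⁻¹ * q * g) * (ψ g)⁻¹) * (ψ g * g⁻¹) := by rw [h1]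
        _ = ψ g * g⁻¹ * q := by group
    exact ⟨hC h, h⟩
  letI : CommGroup Z := { (inferInstance : Group Z) with
    mul_comm := fun a b => Subtype.ext (Subgroup.mem_centralizer_iff.1 b.2.2 a a.2.1) }
  haveI hZn : Z.Normal := inferInstance
  let c : G → Z →* Z := fun h =>
    { toFun := fun x => ⟨h * x * h⁻¹, hZn.conj_mem x x.2 h⟩
      map_one' := Subtype.ext (by simp)
      map_mul' := fun a b => Subtype.ext (show h * ((a : G) * b) * h⁻¹ = _ by simp [mul_assoc]) }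
  let e : G ⧸ ι.range → Z := fun d => ⟨ψ d.out * d.out⁻¹, hεQ _⟩
  have he : ∀ g : G, ((e (g : G ⧸ ι.range) : Z) : G) = ψ g * g⁻¹ := by
    intro g
    obtain ⟨⟨_, x, rfl⟩, hs⟩ := QuotientGroup.mk_out_eq_mul ι.range g
    show ψ _ * _⁻¹ = _
    rw [hs]
    show ψ (g * ι x) * (g * ι x)⁻¹ = _
    rw [map_mul, hψ, mul_inv_rev, mul_assoc, mul_inv_cancel_left]
  haveI : Fintype (G ⧸ ι.range) := Fintype.ofFinite _
  set n := Fintype.card (G ⧸ ι.range) with hn
  have hkey : ∀ h : G, (⟨ψ h * h⁻¹, hεQ h⟩ : Z) ^ n * c h (∏ d, e d) = ∏ d, e d := by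
    intro h
    conv_rhs => rw [← Equiv.prod_comp (MulAction.toPerm h) e]
    rw [map_prod, hn, ← Finset.card_univ, ← Finset.prod_const, ← Finset.prod_mul_distrib]
    refine Finset.prod_congr rfl fun d _ => ?_
    obtain ⟨g, rfl⟩ := QuotientGroup.mk_surjective d
    refine Subtype.ext ?_
    show ψ h * h⁻¹ * (h * (e (g : G ⧸ ι.range) : G) * h⁻¹) = (e (h • (g : G ⧸ ι.range)) : G)
    rw [show h • (g : G ⧸ ι.range) = ((h * g : G) : G ⧸ ι.range) from rfl, he, he, map_mul]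
    group
  have hZp : IsPGroup p ↥Z := by
    have hT' : IsPGroup p ↥ι.range := hT ▸ T.2
    exact hT'.to_le (inf_le_left.trans hQ)
  have hcop : (Nat.card ↥Z).Coprime n := by
    obtain ⟨k, hk⟩ := IsPGroup.iff_card.1 hZp
    rw [hk]
    refine Nat.Coprime.pow_left _ ((Nat.Prime.coprime_iff_not_dvd Fact.out).2 ?_)
    have h := T.not_dvd_index
    rw [hT, Subgroup.index, Nat.card_eq_fintype_card] at h
    exact h
  obtain ⟨v, hv⟩ := (powCoprime hcop).surjective (∏ d, e d)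
  have hconj : ∀ h : G, ψ h = (v : G) * h * (v : G)⁻¹ := by
    intro h
    have h1 := hkey h
    rw [← hv, powCoprime_apply, map_pow, ← mul_pow] at h1
    have h2 := congrArg Subtype.val ((powCoprime hcop).injective h1)
    have h3 : ψ h * h⁻¹ * (h * (v : G) * h⁻¹) = v := h2
    rw [show ψ h = ψ h * h⁻¹ * (h * (v : G) * h⁻¹) * h * (v : G)⁻¹ by group, h3]
  obtain ⟨z, hz⟩ := hQ v.2.1
  refine ⟨z, Subgroup.mem_center_iff.2 fun x => hr.1 ?_, fun g => by rw [hz]; exact hconj g⟩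
  have h := hconj (ι x)
  rw [hψ, ← hz] at h
  rw [map_mul, map_mul]
  exact eq_mul_inv_iff_mul_eq.1 h

end Cfsg.Agent.S5105
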