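import Cfsg.Statements.S5106
import Cfsg.Agent.Lib.Local.FS.Series

set_option autoImplicit false
open Cfsg

namespace Cfsg.Agent.S5106

theorem result {Ω : Type*} [Group Ω] {S : Subgroup Ω} [Finite S] (p : ℕ) [Fact p.Prime] (hS : IsPGroup p S) (F : Cfsg.FusionSystem S) (hF : F.IsSaturated p) (R : Subgroup Ω) (hRS : R ≤ S) : F.IsNormal R ↔ ∀ (P : Subgroup Ω) (hPR : P ≤ R) (φ : P →* Ω), φ ∈ F.Hom P → ∃ α ∈ F.autGroup R, ∀ x : P, ((α (Subgroup.inclusion hPR x) : R) : Ω) = φ x := by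
  open Cfsg.Agent.Local.FS in
  constructor
  · intro hR P hPR φ hφ
    obtain ⟨α, hα, hαf⟩ := normal_extends hR P _ hPR (map_of_mem hφ)
    refine ⟨α, hα, fun x => ?_⟩
    rw [← av_coe, ← fn_coe φ x]
    exact hαf x x.2
  · intro h
    refine normal_of_extends hS hF hRS fun P f hPR hf => ?_
    obtain ⟨φ, hφ, he⟩ := hf
    obtain ⟨α, hα, hαφ⟩ := h P hPR φ hφ
    exact ⟨α, hα, fun x hx => by rw [av_apply α (hPR hx), ← he ⟨x, hx⟩]; exact hαφ ⟨x, hx⟩⟩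

end Cfsg.Agent.S5106
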