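import Cfsg.Statements.S5107
import Cfsg.Agent.Lib.Local.FS.Series
import Cfsg.Agent.Lib.Local.FS.Group

set_option autoImplicit false
open Cfsg

namespace Cfsg.Agent.S5107

theorem result {G : Type*} [Group G] [Finite G] (p : ℕ) [Fact p.Prime] (S : Sylow p G) (hcl : ⁅(S : Subgroup G), (S : Subgroup G)⁆ ≤ (S : Subgroup G) ⊓ Subgroup.centralizer ((S : Subgroup G) : Set G)) (hZ : Cfsg.IsStronglyClosed ((S : Subgroup G) ⊓ Subgroup.centralizer ((S : Subgroup G) : Set G)) (S : Subgroup G)) : (∀ (P : Subgroup G) (φ : P →* G), φ ∈ (Cfsg.groupFusionSystem (S : Subgroup G)).Hom P → ∃ g ∈ Subgroup.normalizer ((S : Subgroup G) : Set G), ∀ x : P, φ x = g * (x : G) * g⁻¹) ∧ (Cfsg.groupFusionSystem (S : Subgroup G)).core = S := by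
  open Cfsg.Agent.Local.FS Cfsg.Agent.Fusion in
  have hS : IsPGroup p ↥(S : Subgroup G) := S.isPGroup'
  have hF := group_saturated (sylIn_top S)
  set Z := (S : Subgroup G) ⊓ Subgroup.centralizer ((S : Subgroup G) : Set G)
  have hZsc : (groupFusionSystem (S : Subgroup G)).StronglyClosed Z := by
    refine stronglyClosed_iff.2 ⟨inf_le_left, fun P f hP hf x hx => ?_⟩
    obtain ⟨-, hm, g, hg⟩ := map_group_iff.1 hf
    rw [hg x hx]
    exact hZ.2 x (hP hx) g (hg x hx ▸ hm x hx)
  have hSsc : (groupFusionSystem (S : Subgroup G)).StronglyClosed (S : Subgroup G) :=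
    stronglyClosed_iff.2 ⟨le_rfl, fun P f _ hf x hx => hf.mem hx⟩
  have hN : (groupFusionSystem (S : Subgroup G)).IsNormal S := by
    refine normal_of_series hS hF (fun i => if i = 0 then ⊥ else if i = 1 then Z else S) 2 rfl rfl
      (monotone_nat_of_le_succ fun i => ?_) hSsc (fun i hi => ?_) fun i hi => ?_
    · rcases i with _ | _ | i
      · exact bot_le
      · exact inf_le_left
      · exact le_rfl
    · rcases i with _ | _ | i
      · exact hZsc
      · exact hSsc
      · omega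
    · rcases i with _ | _ | i
      · show ⁅(S : Subgroup G), Z⁆ ≤ ⊥
        rw [le_bot_iff, Subgroup.commutator_eq_bot_iff_le_centralizer]
        intro s hs
        exact Subgroup.mem_centralizer_iff.2 fun z hz => (Subgroup.mem_centralizer_iff.1 hz.2 s hs).symm
      · exact hcl
      · omega
  refine ⟨fun P φ hφ => ?_, le_antisymm (sSup_le fun Q hQ => hQ.1) (le_sSup hN)⟩
  obtain ⟨α, hα, hαf⟩ := normal_extends hN P _ (hφ.1) (map_of_mem hφ)
  rw [autGroup_group le_rfl] at hα
  obtain ⟨g, -, hg⟩ := Cfsg.Agent.Local.FS.mem_autInducedBy.1 hα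
  refine ⟨g, mem_normalizer_of_conj_aut hg, fun x => ?_⟩
  rw [← fn_coe φ x, ← hαf x x.2, hg x (hφ.1 x.2)]

end Cfsg.Agent.S5107
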