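import Cfsg.Statements.S5111
import Cfsg.Agent.Lib.Local.FS.Sat

set_option autoImplicit false
open Cfsg

namespace Cfsg.Agent.S5111

theorem result {Ω : Type*} [Group Ω] {S : Subgroup Ω} [Finite S] (p : ℕ) [Fact p.Prime] (hS : IsPGroup p S) (F : Cfsg.FusionSystem S) : F.IsSaturated p ↔ (F.IsFullyAutomized p S ∧ ∀ P : Subgroup Ω, F.IsFullyNormalized P → F.IsReceptive P) := by
  constructor
  · intro h
    exact ⟨(Cfsg.Agent.Local.FS.fc_fa_of_fn hS h Cfsg.Agent.Local.FS.fn_self).2,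
      fun P hP => Cfsg.Agent.Local.FS.receptive_of_fc hS h (Cfsg.Agent.Local.FS.fc_fa_of_fn hS h hP).1⟩
  · rintro ⟨h1, h2⟩
    exact Cfsg.Agent.Local.FS.saturated_of_fn hS h1 h2

end Cfsg.Agent.S5111
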