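import Cfsg.Statements.S5112
import Cfsg.Agent.Lib.Local.FS.Normal

set_option autoImplicit false
open Cfsg

namespace Cfsg.Agent.S5112

theorem autPow {G : Type*} [Group G] (m : ℕ) {a x : G} (hord : orderOf a = 2 ^ m)
    (hgen : Subgroup.closure {a, x} = ⊤) (ha : ∀ e : MulAut G, e a ∈ Subgroup.zpowers a)
    (hx : ∀ e : MulAut G, x⁻¹ * e x ∈ Subgroup.zpowers a) :
    ∃ N : ℕ, ∀ e : MulAut G, e ^ 2 ^ N = 1 := by
  have hext : ∀ e : MulAut G, e a = a → e x = x → e = 1 := by
    intro e h1 h2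
    have h : e.toMonoidHom = MonoidHom.id G := by
      refine MonoidHom.eq_of_eqOn_dense hgen ?_
      rintro y (rfl | rfl) <;> assumption
    exact MulEquiv.ext fun y => DFunLike.congr_fun h y
  refine ⟨Nat.log 2 (2 ^ m).totient + m, fun e => ?_⟩
  have ht : 2 ^ (Nat.log 2 (2 ^ m).totient) = (2 ^ m).totient := by
    rcases Nat.eq_zero_or_pos m with rfl | hm
    · simp
    · rw [Nat.totient_prime_pow Nat.prime_two hm, show (2 - 1 : ℕ) = 1 from rfl, mul_one,
        Nat.log_pow Nat.one_lt_two]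
  rw [pow_add, ht, pow_mul]
  set b := e ^ (2 ^ m).totient with hb
  have hba : b a = a := by
    obtain ⟨u, hu⟩ := Subgroup.mem_zpowers_iff.1 (ha e)
    obtain ⟨v, hv⟩ := Subgroup.mem_zpowers_iff.1 (ha e⁻¹)
    have hiter : ∀ k : ℕ, (e ^ k) a = a ^ (u ^ k) := by
      intro k
      induction k with
      | zero => simp
      | succ k ih =>
        rw [pow_succ, MulAut.mul_apply, ← hu, map_zpow, ih, ← zpow_mul, ← pow_succ]
    have huv : a ^ (u * v) = a ^ (1 : ℤ) := by
      have h1 : e (e⁻¹ a) = a := e.apply_symm_apply a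
      rw [← hv, map_zpow, ← hu, ← zpow_mul] at h1
      rw [h1, zpow_one]
    have hun : IsUnit ((u : ℤ) : ZMod (2 ^ m)) := by
      refine IsUnit.of_mul_eq_one ((v : ℤ) : ZMod (2 ^ m)) ?_
      rw [← Int.cast_mul, ← Int.cast_one, ZMod.intCast_eq_intCast_iff, ← hord]
      exact zpow_eq_zpow_iff_modEq.1 huv
    obtain ⟨w, hw⟩ := hun
    have h2 : ((u ^ (2 ^ m).totient : ℤ) : ZMod (2 ^ m)) = ((1 : ℤ) : ZMod (2 ^ m)) := by
      rw [Int.cast_pow, ← hw, ← Units.val_pow_eq_pow_val, ZMod.pow_totient, Units.val_one, Int.cast_one]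
    rw [hb, hiter]
    rw [ZMod.intCast_eq_intCast_iff] at h2
    refine (zpow_eq_zpow_iff_modEq.2 ?_).trans (zpow_one a)
    rw [hord]; exact h2
  obtain ⟨c, hc⟩ := Subgroup.mem_zpowers_iff.1 (hx b)
  have hbx : ∀ k : ℕ, (b ^ k) a = a ∧ (b ^ k) x = x * (a ^ c) ^ k := by
    intro k
    induction k with
    | zero => simp
    | succ k ih =>
      refine ⟨by rw [pow_succ, MulAut.mul_apply, hba, ih.1], ?_⟩
      rw [pow_succ, MulAut.mul_apply, show b x = x * a ^ c by rw [hc, mul_inv_cancel_left], map_mul,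
        map_zpow, ih.1, ih.2, pow_succ, mul_assoc]
  refine hext _ (hbx _).1 ?_
  rw [(hbx _).2, ← zpow_natCast, ← zpow_mul, mul_comm, zpow_mul, zpow_natCast, ← hord,
    pow_orderOf_eq_one, one_zpow, mul_one]

theorem dihedralAut (m : ℕ) (hm : 2 ≤ m) :
    ∃ N : ℕ, ∀ e : MulAut (DihedralGroup (2 ^ m)), e ^ 2 ^ N = 1 := by
  have h4 : 4 ≤ 2 ^ m := le_trans (by norm_num) (Nat.pow_le_pow_right Nat.two_pos hm)
  haveI : NeZero (2 ^ m) := ⟨by omega⟩
  have hr : ∀ i : ZMod (2 ^ m), DihedralGroup.r i ∈ Subgroup.zpowers (DihedralGroup.r 1 : DihedralGroup (2 ^ m)) :=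
    fun i => ⟨i.val, by simp [DihedralGroup.r_one_pow]⟩
  have ha : ∀ e : MulAut (DihedralGroup (2 ^ m)), e (DihedralGroup.r 1) ∈ Subgroup.zpowers (DihedralGroup.r 1) := by
    intro e
    rcases h : e (DihedralGroup.r 1) with i | i
    · exact hr i
    · exfalso
      have h1 := e.orderOf_eq (DihedralGroup.r 1)
      rw [h, DihedralGroup.orderOf_sr, DihedralGroup.orderOf_r_one] at h1
      omega
  have hgen : Subgroup.closure ({DihedralGroup.r 1, DihedralGroup.sr 0} : Set (DihedralGroup (2 ^ m))) = ⊤ := by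
    rw [eq_top_iff]
    have h1 : Subgroup.zpowers (DihedralGroup.r 1 : DihedralGroup (2 ^ m)) ≤
        Subgroup.closure ({DihedralGroup.r 1, DihedralGroup.sr 0} : Set (DihedralGroup (2 ^ m))) :=
      Subgroup.zpowers_le.2 (Subgroup.subset_closure (Set.mem_insert _ _))
    rintro (i | i) -
    · exact h1 (hr i)
    · rw [show DihedralGroup.sr i = DihedralGroup.sr 0 * DihedralGroup.r i by simp]
      exact Subgroup.mul_mem _ (Subgroup.subset_closure (Or.inr rfl)) (h1 (hr i))
  refine autPow m DihedralGroup.orderOf_r_one hgen ha fun e => ?_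
  rcases h : e (DihedralGroup.sr 0) with i | i
  · exfalso
    have h1 : Subgroup.closure ({DihedralGroup.r 1, DihedralGroup.sr 0} : Set (DihedralGroup (2 ^ m))) ≤
        (Subgroup.zpowers (DihedralGroup.r 1)).comap e.toMonoidHom := by
      rw [Subgroup.closure_le]
      rintro y (rfl | rfl)
      · exact ha e
      · show e (DihedralGroup.sr 0) ∈ Subgroup.zpowers _
        rw [h]; exact hr i
    rw [hgen] at h1
    obtain ⟨k, hk⟩ := h1 (Subgroup.mem_top (e.symm (DihedralGroup.sr 0)))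
    simp [DihedralGroup.r_one_zpow] at hk
  · rw [DihedralGroup.inv_sr, DihedralGroup.sr_mul_sr]
    exact hr _

theorem quaternionAut (m : ℕ) (hm : 2 ≤ m) :
    ∃ N : ℕ, ∀ e : MulAut (QuaternionGroup (2 ^ m)), e ^ 2 ^ N = 1 := by
  have h4 : 4 ≤ 2 ^ m := le_trans (by norm_num) (Nat.pow_le_pow_right Nat.two_pos hm)
  haveI : NeZero (2 ^ m) := ⟨by omega⟩
  have hr : ∀ i, QuaternionGroup.a i ∈ Subgroup.zpowers (QuaternionGroup.a 1 : QuaternionGroup (2 ^ m)) := by
    intro i
    refine ⟨i.val, ?_⟩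
    simp only [zpow_natCast]
    rw [QuaternionGroup.a_one_pow, ZMod.natCast_zmod_val]
  have ha : ∀ e : MulAut (QuaternionGroup (2 ^ m)), e (QuaternionGroup.a 1) ∈ Subgroup.zpowers (QuaternionGroup.a 1) := by
    intro e
    rcases h : e (QuaternionGroup.a 1) with i | i
    · exact hr i
    · exfalso
      have h1 := e.orderOf_eq (QuaternionGroup.a 1)
      rw [h, QuaternionGroup.orderOf_xa, QuaternionGroup.orderOf_a_one] at h1
      omega
  have hgen : Subgroup.closure ({QuaternionGroup.a 1, QuaternionGroup.xa 0} : Set (QuaternionGroup (2 ^ m))) = ⊤ := by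
    rw [eq_top_iff]
    have h1 : Subgroup.zpowers (QuaternionGroup.a 1 : QuaternionGroup (2 ^ m)) ≤
        Subgroup.closure ({QuaternionGroup.a 1, QuaternionGroup.xa 0} : Set (QuaternionGroup (2 ^ m))) :=
      Subgroup.zpowers_le.2 (Subgroup.subset_closure (Set.mem_insert _ _))
    rintro (i | i) -
    · exact h1 (hr i)
    · rw [show QuaternionGroup.xa i = QuaternionGroup.xa 0 * QuaternionGroup.a i by simp]
      exact Subgroup.mul_mem _ (Subgroup.subset_closure (Or.inr rfl)) (h1 (hr i))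
  refine autPow (m + 1) ?_ hgen ha fun e => ?_
  · rw [QuaternionGroup.orderOf_a_one, pow_succ']
  rcases h : e (QuaternionGroup.xa 0) with i | i
  · exfalso
    have h1 : Subgroup.closure ({QuaternionGroup.a 1, QuaternionGroup.xa 0} : Set (QuaternionGroup (2 ^ m))) ≤
        (Subgroup.zpowers (QuaternionGroup.a 1)).comap e.toMonoidHom := by
      rw [Subgroup.closure_le]
      rintro y (rfl | rfl)
      · exact ha e
      · show e (QuaternionGroup.xa 0) ∈ Subgroup.zpowers _
        rw [h]; exact hr i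
    rw [hgen] at h1
    have h2 : Subgroup.zpowers (QuaternionGroup.a 1 : QuaternionGroup (2 ^ m)) = ⊤ := by
      rw [eq_top_iff]
      intro y _
      have := h1 (Subgroup.mem_top (e.symm y))
      simpa using this
    have h3 := congrArg (fun H : Subgroup (QuaternionGroup (2 ^ m)) => Nat.card H) h2
    rw [Nat.card_zpowers, QuaternionGroup.orderOf_a_one, Subgroup.card_top, Nat.card_eq_fintype_card,
      QuaternionGroup.card] at h3
    omega
  · have h1 : (QuaternionGroup.xa 0 : QuaternionGroup (2 ^ m))⁻¹ * QuaternionGroup.xa i = QuaternionGroup.a i := by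
      rw [inv_mul_eq_iff_eq_mul, QuaternionGroup.xa_mul_a, zero_add]
    rw [h1]; exact hr i

theorem result {Ω : Type*} [Group Ω] {S : Subgroup Ω} [Finite S] (n : ℕ) (hn : 4 ≤ n) (hshape : Nonempty (S ≃* DihedralGroup (2 ^ (n - 1))) ∨ Nonempty (S ≃* QuaternionGroup (2 ^ (n - 2)))) (F : Cfsg.FusionSystem S) (hF : F.IsSaturated 2) : F.autGroup S = Cfsg.Inn S := by
  haveI : Fact (Nat.Prime 2) := ⟨Nat.prime_two⟩
  obtain ⟨N, hNpow⟩ : ∃ N : ℕ, ∀ e : MulAut S, e ^ 2 ^ N = 1 := by
    rcases hshape with ⟨⟨f⟩⟩ | ⟨⟨f⟩⟩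
    · obtain ⟨N, hN⟩ := dihedralAut (n - 1) (by omega)
      exact ⟨N, fun e => by
        apply (MulAut.congr f).injective
        rw [map_pow, map_one, hN]⟩
    · obtain ⟨N, hN⟩ := quaternionAut (n - 2) (by omega)
      exact ⟨N, fun e => by
        apply (MulAut.congr f).injective
        rw [map_pow, map_one, hN]⟩
  open Cfsg.Agent.Local.FS in
  haveI : Finite (MulAut S) := finite_mulAut
  have hS : IsPGroup 2 S := by
    rcases hshape with ⟨⟨f⟩⟩ | ⟨⟨f⟩⟩
    · refine IsPGroup.of_card (n := n) ((Nat.card_congr f.toEquiv).trans ?_)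
      rw [DihedralGroup.nat_card, ← pow_succ', show n - 1 + 1 = n by omega]
    · refine IsPGroup.of_card (n := n) ((Nat.card_congr f.toEquiv).trans ?_)
      rw [Nat.card_eq_fintype_card, QuaternionGroup.card, show (4 : ℕ) = 2 ^ 2 by rfl, ← pow_add,
        show 2 + (n - 2) = n by omega]
  open Cfsg.Agent.Local.FS in
  have hsyl := (fa_iff.1 (fc_fa_of_fn hS hF (fn_self (F := F))).2).2
  have hinn : Cfsg.autInducedBy S S = Cfsg.Inn S := by
    ext α; rw [Cfsg.Agent.Local.FS.mem_autInducedBy, Cfsg.Agent.Local.FS.mem_Inn]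
  rw [hinn] at hsyl
  exact (hsyl.eq_of_le (Q := F.autGroup S) (fun e => ⟨N, Subtype.ext (hNpow e)⟩) hsyl.le le_rfl)

end Cfsg.Agent.S5112
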