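import Cfsg.Statements.S5121
import Cfsg.Agent.Lib.Local.FS.NormalInModel

set_option autoImplicit false
open Cfsg

namespace Cfsg.Agent.S5121

theorem result {G : Type*} [Group G] [Finite G] (p : ℕ) [Fact p.Prime] (S : Sylow p G) (hG : Subgroup.centralizer ((Cfsg.pCore p G : Subgroup G) : Set G) ≤ Cfsg.pCore p G) (T : Subgroup G) (hTS : T ≤ S) (E : Cfsg.FusionSystem T) (hE : E.IsNormalIn (Cfsg.groupFusionSystem (S : Subgroup G)) p) : ∃ H : Subgroup G, (∃ hTH : T ≤ H, H.Normal ∧ (∃ R : Sylow p H, (R : Subgroup H) = T.subgroupOf H) ∧ ∀ P : Subgroup G, E.Hom P = (Cfsg.fusionSystemOfSubgroup H T hTH).Hom P) ∧ ∀ H' : Subgroup G, (∃ hTH' : T ≤ H', H'.Normal ∧ (∃ R : Sylow p H', (R : Subgroup H') = T.subgroupOf H') ∧ ∀ P : Subgroup G, E.Hom P = (Cfsg.fusionSystemOfSubgroup H' T hTH').Hom P) → H' = H := by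
  obtain ⟨H, hTH, hn, hsyl, hhom, huniq⟩ :=
    Cfsg.Agent.Local.FS.NormalInModel.correspond p (Cfsg.Agent.Fusion.sylIn_top S) hG E hE
  refine ⟨H, ⟨hTH, hn, hsyl.exists_sylow_subgroupOf, hhom⟩, ?_⟩
  rintro H' ⟨hTH', hn', ⟨R, hR⟩, hhom'⟩
  refine huniq H' hTH' hn' ⟨hTH', (S.isPGroup'.to_le hTS), ?_⟩ hhom'
  rw [Subgroup.relIndex, ← hR]
  exact R.not_dvd_index

end Cfsg.Agent.S5121
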