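import Cfsg.Statements.S5122
import Cfsg.Agent.Lib.Local.FS.Group

set_option autoImplicit false
open Cfsg

namespace Cfsg.Agent.S5122

theorem result {G : Type*} [Group G] [Finite G] (p : ℕ) [Fact p.Prime] (S : Sylow p G) : (∀ P : Subgroup G, P ≤ S → ∃ g : G, P.map (MulAut.conj g).toMonoidHom ≤ S ∧ (∃ R : Sylow p ↥(Subgroup.normalizer ((P.map (MulAut.conj g).toMonoidHom : Subgroup G) : Set G)), (R : Subgroup ↥(Subgroup.normalizer ((P.map (MulAut.conj g).toMonoidHom : Subgroup G) : Set G))) = (Cfsg.FusionSystem.normalizerIn (S : Subgroup G) (P.map (MulAut.conj g).toMonoidHom)).subgroupOf (Subgroup.normalizer ((P.map (MulAut.conj g).toMonoidHom : Subgroup G) : Set G)))) ∧ ∀ Q : Subgroup G, Q ≤ S → (∃ R : Sylow p ↥(Subgroup.normalizer (Q : Set G)), (R : Subgroup ↥(Subgroup.normalizer (Q : Set G))) = (Cfsg.FusionSystem.normalizerIn (S : Subgroup G) Q).subgroupOf (Subgroup.normalizer (Q : Set G))) → (∃ R : Sylow p ↥(Subgroup.centralizer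 (Q : Set G)), (R : Subgroup ↥(Subgroup.centralizer (Q : Set G))) = (Cfsg.FusionSystem.centralizerIn (S : Subgroup G) Q).subgroupOf (Subgroup.centralizer (Q : Set G))) ∧ (∃ R : Sylow p ↥(Cfsg.autInducedBy ⊤ Q), (R : Subgroup ↥(Cfsg.autInducedBy ⊤ Q)) = (Cfsg.autInducedBy (S : Subgroup G) Q).subgroupOf (Cfsg.autInducedBy ⊤ Q)) := by
  have hS := Cfsg.Agent.Fusion.sylIn_top (p := p) S
  refine ⟨fun P hP => ?_, fun Q hQ hN => ?_⟩
  · obtain ⟨g, hg, h⟩ := Cfsg.Agent.Local.FS.exists_conj_sylIn_normalizer hS hP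
    exact ⟨g, hg, h.exists_sylow_subgroupOf⟩
  · have h := (Cfsg.Agent.Local.FS.sylIn_iff_sylow (T := Cfsg.FusionSystem.normalizerIn (S : Subgroup G) Q)
      inf_le_right).2 hN
    exact ⟨(Cfsg.Agent.Local.FS.sylIn_centralizer_of_normalizer h).exists_sylow_subgroupOf,
      (Cfsg.Agent.Local.FS.sylIn_autInducedBy h).exists_sylow_subgroupOf⟩

end Cfsg.Agent.S5122
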