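import Cfsg.Statements.S5123
import Cfsg.Agent.Lib.Local.FS.Group

set_option autoImplicit false
open Cfsg

namespace Cfsg.Agent.S5123

theorem result {G : Type*} [Group G] [Finite G] (p : ℕ) [Fact p.Prime] (S : Sylow p G) (P Q : Subgroup G) (hP : P ≤ S) (hQ : Q ≤ S) (g : G) (hg : P.map (MulAut.conj g).toMonoidHom = Q) (hN : (∃ R : Sylow p ↥(Subgroup.normalizer (Q : Set G)), (R : Subgroup ↥(Subgroup.normalizer (Q : Set G))) = (Cfsg.FusionSystem.normalizerIn (S : Subgroup G) Q).subgroupOf (Subgroup.normalizer (Q : Set G)))) : ∃ h ∈ Subgroup.centralizer (Q : Set G), ((Cfsg.FusionSystem.normalizerIn (S : Subgroup G) P) ⊓ (Cfsg.FusionSystem.normalizerIn (S : Subgroup G) Q ⊔ Subgroup.centralizer (Q : Set G)).comap (MulAut.conj g).toMonoidHom).map (MulAut.conj (h * g)).toMonoidHom ≤ S := by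
  have h := (Cfsg.Agent.Local.FS.sylIn_iff_sylow (T := Cfsg.FusionSystem.normalizerIn (S : Subgroup G) Q)
    inf_le_right).2 hN
  set M := Cfsg.FusionSystem.normalizerIn (S : Subgroup G) P ⊓
    (Cfsg.FusionSystem.normalizerIn (S : Subgroup G) Q ⊔ Subgroup.centralizer (Q : Set G)).comap
      (MulAut.conj g).toMonoidHom
  have hM : IsPGroup p ↥(M.map (MulAut.conj g).toMonoidHom) :=
    (S.isPGroup'.to_le (inf_le_left.trans inf_le_left)).map _
  obtain ⟨c, hc, hle⟩ := Cfsg.Agent.Local.FS.exists_centralizer_conj_le (S.isPGroup')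
    (Cfsg.Agent.Local.FS.sylIn_centralizer_of_normalizer h) hM
    (Subgroup.map_le_iff_le_comap.2 inf_le_right)
  refine ⟨c, hc, ?_⟩
  change Cfsg.Agent.Fusion.cj (Cfsg.Agent.Fusion.cj M g) c ≤ _ at hle
  rw [Cfsg.Agent.Fusion.cj_cj] at hle
  exact hle.trans inf_le_left

end Cfsg.Agent.S5123
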