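import Cfsg.Statements.S5125
import Cfsg.Agent.Lib.Local.FS.Series

set_option autoImplicit false
open Cfsg
open scoped commutatorElement

namespace Cfsg.Agent.S5125

theorem result {Ω : Type*} [Group Ω] {S : Subgroup Ω} [Finite S] (p : ℕ) [Fact p.Prime] (hS : IsPGroup p S) (F : Cfsg.FusionSystem S) (hF : F.IsSaturated p) (Q Q₁ : Subgroup Ω) (hQ : F.StronglyClosed Q) (hQ₁Q : Q₁ ≤ Q) (hQ₁ : F.IsNormal Q₁) (hab : ⁅Q, Q⁆ ≤ Q₁) (hAut : IsPGroup p ↥(F.autGroup Q₁)) : F.IsNormal Q := by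
  open Cfsg.Agent.Local.FS in
  haveI := finite_of_le hQ.1
  haveI := finite_of_le hQ₁.1
  haveI := mulAut_finite_of_le hQ₁.1
  let A := F.autGroup Q₁
  let G := ↥Q₁ ⋊[A.subtype] ↥A
  haveI : Finite G := Finite.of_equiv _ SemidirectProduct.equivProd.symm
  have hG : IsPGroup p G := by
    obtain ⟨a, ha⟩ := IsPGroup.iff_card.1 (hS.to_le hQ₁.1)
    obtain ⟨b, hb⟩ := IsPGroup.iff_card.1 hAut
    refine IsPGroup.of_card (n := a + b) ?_
    rw [SemidirectProduct.card, ha]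
    show p ^ a * Nat.card ↥(F.autGroup Q₁) = _
    rw [hb, pow_add]
  haveI : Group.IsNilpotent G := hG.isNilpotent
  obtain ⟨c, hc⟩ := (Subgroup.isNilpotent_iff_lowerCentralSeries (⊤ : Subgroup G)).1 inferInstance
  let C : ℕ → Subgroup Ω := fun k =>
    (((⊤ : Subgroup G).lowerCentralSeries k).comap (SemidirectProduct.inl : ↥Q₁ →* G)).map Q₁.subtype
  have hCle : ∀ k, C k ≤ Q₁ := fun k => Subgroup.map_subtype_le _
  have hCanti : ∀ {i j : ℕ}, i ≤ j → C j ≤ C i := fun h =>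
    Subgroup.map_mono (Subgroup.comap_mono ((⊤ : Subgroup G).lowerCentralSeries_antitone h))
  have hmem : ∀ k {x : ↥Q₁}, (x : Ω) ∈ C k ↔
      (SemidirectProduct.inl x : G) ∈ (⊤ : Subgroup G).lowerCentralSeries k := by
    intro k x
    refine ⟨?_, fun h => ⟨x, h, rfl⟩⟩
    rintro ⟨y, hy, hyx⟩
    exact Subtype.ext hyx ▸ hy
  have hC0 : C 0 = Q₁ := le_antisymm (hCle 0) fun x hx => (hmem 0 (x := ⟨x, hx⟩)).2 (by simp)
  have hCc : C c = ⊥ := by
    rw [eq_bot_iff]
    rintro _ ⟨y, hy, rfl⟩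
    change (SemidirectProduct.inl y : G) ∈ (⊤ : Subgroup G).lowerCentralSeries c at hy
    rw [hc, Subgroup.mem_bot] at hy
    have : y = 1 := SemidirectProduct.inl_injective (hy.trans (map_one _).symm)
    simp [this]
  -- the action on a term lands in the next one
  have hact : ∀ k, ∀ α : ↥A, ∀ x : ↥Q₁, (x : Ω) ∈ C k → (x : Ω)⁻¹ * av (α : MulAut ↥Q₁) x ∈ C (k + 1) := by
    intro k α x hx
    rw [av_coe]
    refine (hmem (k + 1) (x := x⁻¹ * (α : MulAut ↥Q₁) x)).2 ?_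
    rw [Subgroup.lowerCentralSeries_succ]
    have h1 := Subgroup.commutator_mem_commutator
      (Subgroup.inv_mem _ ((hmem k).1 hx)) (Subgroup.mem_top (SemidirectProduct.inr α : G))
    have h2 := SemidirectProduct.inl_aut (φ := A.subtype) α x
    rw [map_mul, map_inv, show (α : MulAut ↥Q₁) x = A.subtype α x from rfl, h2, map_inv]
    rw [commutatorElement_def] at h1
    simpa [mul_assoc] using h1
  have hinv : ∀ k, ∀ α : ↥A, ∀ x : ↥Q₁, (x : Ω) ∈ C k → av (α : MulAut ↥Q₁) x ∈ C k := by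
    intro k α x hx
    simpa using (C k).mul_mem hx (hCanti (Nat.le_succ k) (hact k α x hx))
  have hsc : ∀ k, F.StronglyClosed (C k) := fun k => by
    refine stronglyClosed_iff.2 ⟨(hCle k).trans hQ₁.1, fun P f hP hf x hx => ?_⟩
    obtain ⟨α, hα, hαf⟩ := normal_extends hQ₁ P f (hP.trans (hCle k)) hf
    rw [← hαf x hx]
    exact hinv k ⟨α, hα⟩ ⟨x, hCle k (hP hx)⟩ (hP hx)
  have hcomm : ∀ k, ⁅Q, C k⁆ ≤ C (k + 1) := by
    intro k
    rw [Subgroup.commutator_le]
    intro a ha x hx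
    obtain ⟨β, hβ, hβS⟩ := exists_aut_conj
      (stronglyClosed_le_normalizer (normal_stronglyClosed hQ₁) (hQ.1 ha))
    have hxQ : x⁻¹ ∈ C k := (C k).inv_mem hx
    have h1 := hact k ⟨β, autInducedBy_le_autGroup hQ₁.1 (hβS S (hQ.1 ha))⟩ ⟨x⁻¹, hCle k hxQ⟩ hxQ
    have h1' : (x⁻¹)⁻¹ * av β x⁻¹ ∈ C (k + 1) := h1
    rw [hβ _ (hCle k hxQ)] at h1'
    have h2 := (C (k + 1)).inv_mem h1'
    simpa [commutatorElement_def, mul_assoc] using h2
  refine normal_of_series hS hF (fun i => if i ≤ c then C (c - i) else Q) (c + 1)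
    (by simp [hCc]) (by simp) (monotone_nat_of_le_succ fun i => ?_) hQ (fun i hi => ?_) fun i hi => ?_
  · by_cases h : i + 1 ≤ c
    · rw [if_pos (show i ≤ c by omega), if_pos h]
      exact hCanti (by omega)
    · rw [if_neg h]
      split
      · exact (hCle _).trans hQ₁Q
      · exact le_rfl
  · by_cases h : i + 1 ≤ c
    · simp only [if_pos h]; exact hsc _
    · simp only [if_neg h]; exact hQ
  · by_cases h : i + 1 ≤ c
    · rw [if_pos h, if_pos (show i ≤ c by omega), show c - i = c - (i + 1) + 1 by omega]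
      exact hcomm _
    · rw [if_neg h, if_pos (show i ≤ c by omega), show c - i = 0 by omega, hC0]
      exact hab

end Cfsg.Agent.S5125
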