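import Cfsg.Statements.S5126
import Cfsg.Agent.Lib.Local.FS.NormSat
import Cfsg.Agent.Lib.Local.FS.Transport
import Cfsg.Agent.Lib.Local.FS.Sub

set_option autoImplicit false
open Cfsg

set_option maxHeartbeats 400000

namespace Cfsg.Agent.S5126

theorem result {Ω : Type*} [Group Ω] {S : Subgroup Ω} [Finite S] (p : ℕ) [Fact p.Prime] (hS : IsPGroup p S) (F : Cfsg.FusionSystem S) (hF : F.IsSaturated p) (R : Subgroup Ω) (hRn : F.IsFullyNormalized R) (hRc : F.IsCentric R) (hRr : F.IsRadical p R) (E : Cfsg.FusionSystem (Cfsg.FusionSystem.normalizerIn S R)) (hE : F.IsNormalizerSystem R E) {G : Type*} [Group G] (ι : ↥(Cfsg.FusionSystem.normalizerIn S R) →* G) : E.IsConstrained p ∧ (E.IsModel p G ι → (Cfsg.pCore p G : Subgroup G) = (R.subgroupOf (Cfsg.FusionSystem.normalizerIn S R)).map ι) := by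
  open Cfsg.Agent.Local.FS Cfsg.Agent.Fusion Cfsg.FusionSystem in
  haveI : Finite ↥(normalizerIn S R) := finite_of_le inf_le_left
  haveI := finite_of_le hRn.1
  haveI := mulAut_finite_of_le hRn.1
  haveI : Finite ↥(S ⊓ Subgroup.normalizer (R : Set Ω)) := finite_of_le (S := S) inf_le_left
  have hRN : R ≤ normalizerIn S R := le_normalizerIn hRn.1
  have hEF : E.IsSubsystemOf F := fun P φ hφ => ((hE P).subset hφ).1
  have hN : E.IsNormal R := by
    refine normal_iff.2 ⟨hRN, fun P f hf => ?_⟩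
    obtain ⟨φ, hφ, he⟩ := hf
    obtain ⟨hP, hm, g, hg, hφg, hgR⟩ := mem_normalizerHom.1 ((hE P).subset hφ)
    obtain ⟨ψ, hψ, hψe⟩ := id hg
    have hψE : ψ ∈ E.Hom (P ⊔ R) := by
      refine (hE _).symm.subset (mem_normalizerHom.2 ⟨sup_le hP hRN, fun x => ?_, g, ?_, hψe, hgR⟩)
      · rw [hψe]
        have := hg.mem_normalizer le_sup_right x.2 ((sup_le hP hRN) x.2).2
        rwa [hgR] at this
      · rwa [sup_assoc, sup_idem]
    exact ⟨g, ⟨ψ, hψE, hψe⟩, fun x hx => (hφg ⟨x, hx⟩).symm.trans (he _), hgR⟩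
  have hC : E.IsCentric R := by
    refine ⟨hRN, fun Q hQ => ?_⟩
    obtain ⟨f, hf, rfl⟩ := isConj_iff.1 hQ
    intro x hx
    exact hRc.2 _ (isConj_iff.2 ⟨f, Cfsg.Agent.Local.FS.Map.of_sub hEF hf, rfl⟩)
      (mem_centralizerIn.2 ⟨(mem_centralizerIn.1 hx).1.1, (mem_centralizerIn.1 hx).2⟩)
  refine ⟨⟨saturated_of_isNormalizerSystem hS hF hRn hE, R, hN, hC⟩, fun hG => ?_⟩
  have hrad : E.IsRadical p R := by
    refine ⟨hRN, ?_⟩
    have h : E.autGroup R = F.autGroup R := by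
      refine le_antisymm (fun α hα => mem_autGroup_of_map (Cfsg.Agent.Local.FS.Map.of_sub hEF (map_of_mem_autGroup hRN hα))) fun α hα => ?_
      obtain ⟨φ, hφ, he⟩ := map_of_mem_autGroup hRn.1 hα
      have hφE : φ ∈ E.Hom R := (hE R).symm.subset (mem_normalizerHom.2 ⟨hRN, fun x => by
        rw [he]; exact hRN (av_mem α x.2), av α, by rw [sup_idem]; exact map_of_mem_autGroup hRn.1 hα, he,
        im_av α⟩)
      exact mem_autGroup_of_map ⟨φ, hφE, he⟩
    rw [h]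
    exact hRr.2
  obtain ⟨hQn, -⟩ := model_normal_centric hG
  set Q := preimageAlong ι (Cfsg.pCore p G) with hQdef
  have hQR : Q ≤ R := normal_le_centric_radical (hS.to_le inf_le_left) hQn hC hrad
  have hle : Cfsg.pCore p G ≤ (R.subgroupOf (normalizerIn S R)).map ι := by
    intro x hx
    obtain ⟨s, rfl⟩ := model_core_le hG hx
    exact ⟨s, hQR ⟨s, hx, rfl⟩, rfl⟩
  refine le_antisymm hle ?_
  obtain ⟨hfin, hr, -, hcen⟩ := id hG
  haveI := hfin
  have hn : ((R.subgroupOf (normalizerIn S R)).map ι).Normal := by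
    refine ⟨fun n hn g => ?_⟩
    obtain ⟨r, hrR, rfl⟩ := hn
    have hconj : ∀ x : Q, g * ι ⟨x, hQn.1 x.2⟩ * g⁻¹ ∈ Cfsg.pCore p G := by
      rintro ⟨_, s, hs, rfl⟩
      exact (inferInstance : (Cfsg.pCore p G).Normal).conj_mem _ hs g
    choose t ht using fun x => model_core_le hG (hconj x)
    let φ : Q →* Ω := MonoidHom.mk' (fun x => (t x : Ω)) fun x y => by
      have h : t (x * y) = t x * t y := by
        refine hr.1 ?_
        rw [map_mul, ht, ht, ht,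
          show (⟨((x * y : Q) : Ω), hQn.1 (x * y).2⟩ : ↥(normalizerIn S R)) =
            ⟨x, hQn.1 x.2⟩ * ⟨y, hQn.1 y.2⟩ from rfl, map_mul]
        group
      show ((t (x * y) : ↥(normalizerIn S R)) : Ω) = _
      rw [h]; rfl
    have hφ : φ ∈ E.Hom Q := (hr.2 Q hQn.1 φ fun x => (t x).2).2 ⟨g, fun x => ht x⟩
    obtain ⟨ψ, hψ, hψφ, hψR⟩ := hN.2 Q φ hφ
    obtain ⟨g', hg'⟩ := (hr.2 _ (sup_le hQn.1 hRN) ψ (E.le_of_mem hψ).2).1 hψ
    have hc : g'⁻¹ * g ∈ Subgroup.centralizer (Cfsg.pCore p G : Set G) := by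
      refine Subgroup.mem_centralizer_iff.2 fun y hy => ?_
      obtain ⟨s, rfl⟩ := model_core_le hG hy
      have hsQ : (s : Ω) ∈ Q := ⟨s, hy, rfl⟩
      have h1 := hg' (Subgroup.inclusion le_sup_left ⟨s, hsQ⟩)
      have h2 : (⟨ψ (Subgroup.inclusion le_sup_left ⟨s, hsQ⟩), (E.le_of_mem hψ).2 _⟩ : ↥(normalizerIn S R)) =
          t ⟨s, hsQ⟩ := Subtype.ext (hψφ _)
      rw [h2, ht] at h1
      change g * ι s * g⁻¹ = g' * ι s * g'⁻¹ at h1
      calc ι s * (g'⁻¹ * g) = g'⁻¹ * (g' * ι s * g'⁻¹) * g := by group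
        _ = g'⁻¹ * (g * ι s * g⁻¹) * g := by rw [h1]
        _ = _ := by group
    obtain ⟨c, hcR, hcι⟩ := hle (hcen hc)
    have hm : ψ ⟨((c * r * c⁻¹ : ↥(normalizerIn S R)) : Ω),
        Subgroup.mem_sup_right (Subgroup.mul_mem _ (Subgroup.mul_mem _ hcR hrR) (Subgroup.inv_mem _ hcR))⟩ ∈ R := by
      have h : ((c * r * c⁻¹ : ↥(normalizerIn S R)) : Ω) ∈ R :=
        R.mul_mem (R.mul_mem hcR hrR) (R.inv_mem hcR)
      exact hψR.le ⟨⟨_, Subgroup.mem_sup_right h⟩, h, rfl⟩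
    refine ⟨⟨_, hRN hm⟩, hm, ?_⟩
    rw [hg']
    show g' * ι (c * r * c⁻¹) * g'⁻¹ = g * ι r * g⁻¹
    rw [map_mul, map_mul, map_inv, hcι]
    group
  exact le_pCore (((hS.to_le (show R ≤ S from hRn.1)).comap_subtype).map ι)

end Cfsg.Agent.S5126
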