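import Cfsg.Statements.S5127
import Cfsg.Agent.Lib.Local.FS.CentralizerOfNormal

set_option autoImplicit false
open Cfsg

namespace Cfsg.Agent.S5127

theorem result {Ω : Type*} [Group Ω] {S : Subgroup Ω} [Finite S] (p : ℕ) [Fact p.Prime] (hS : IsPGroup p S) (F : Cfsg.FusionSystem S) (hF : F.IsSaturated p) {T : Subgroup Ω} (E : Cfsg.FusionSystem T) (hE : E.IsNormalIn F p) : ∃ C : Subgroup Ω, C ≤ Cfsg.FusionSystem.centralizerIn S T ∧ (∀ P : Subgroup Ω, E.Hom P ⊆ F.centralizerHom C P) ∧ (∀ Y : Subgroup Ω, Y ≤ Cfsg.FusionSystem.centralizerIn S T → (∀ P : Subgroup Ω, E.Hom P ⊆ F.centralizerHom Y P) → Y ≤ C) ∧ F.StronglyClosed C := by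
  have hCE := Cfsg.Agent.Local.FS.centE_centEOf hS hE
  have hTS := hE.1.2.2.2.1.1
  refine ⟨Cfsg.Agent.Local.FS.centEOf E F, hCE.1, fun P φ hφ => ?_, fun Y hY h => ?_,
    Cfsg.Agent.Local.FS.stronglyClosed_centEOf hS hE⟩
  · obtain ⟨g, ⟨ψ, hψ, hψg⟩, hgf, hgC⟩ := hCE.2 P _ (Cfsg.Agent.Local.FS.map_of_mem hφ)
    refine ⟨hE.1.2.2.1 P hφ, ?_, fun x => ?_, ψ, hψ, fun x => ?_, fun x => ?_⟩
    · exact fun x hx => ⟨hTS ((E.le_of_mem hφ).1 hx), Subgroup.mem_centralizer_iff.2 fun c hc =>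
        (Cfsg.Agent.Local.FS.comm_of_centT (hCE.1 hc) ((E.le_of_mem hφ).1 hx)).symm⟩
    · exact ⟨hTS ((E.le_of_mem hφ).2 x), Subgroup.mem_centralizer_iff.2 fun c hc =>
        (Cfsg.Agent.Local.FS.comm_of_centT (hCE.1 hc) ((E.le_of_mem hφ).2 x)).symm⟩
    · rw [hψg, Subgroup.coe_inclusion, hgf _ x.2, Cfsg.Agent.Local.FS.fn_coe]
    · rw [hψg, Subgroup.coe_inclusion, hgC _ x.2]
  · refine Cfsg.Agent.Local.FS.CentE.le_centEOf ⟨hY, fun P f hf => ?_⟩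
    obtain ⟨φ, hφ, hφf⟩ := hf
    obtain ⟨-, -, -, ψ, hψ, h1, h2⟩ := h P hφ
    refine ⟨_, Cfsg.Agent.Local.FS.map_of_mem hψ, fun x hx => ?_, fun y hy => ?_⟩
    · rw [Cfsg.Agent.Local.FS.fn_apply ψ (Subgroup.mem_sup_left hx)]
      exact (h1 ⟨x, hx⟩).trans (hφf ⟨x, hx⟩)
    · rw [Cfsg.Agent.Local.FS.fn_apply ψ (Subgroup.mem_sup_right hy)]
      exact h2 ⟨y, hy⟩

end Cfsg.Agent.S5127
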