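import Cfsg.Statements.S5131
import Cfsg.Agent.Lib.Local.FS.Products

set_option autoImplicit false
open Cfsg

namespace Cfsg.Agent.S5131

theorem result {Ω : Type*} [Group Ω] {S : Subgroup Ω} [Finite S] (p : ℕ) [Fact p.Prime] (hS : IsPGroup p S) (F : Cfsg.FusionSystem S) {Ω' : Type*} [Group Ω'] {S' : Subgroup Ω'} (F' : Cfsg.FusionSystem S') (α : S →* Ω') (hα : F.IsMorphism F' α) : F.StronglyClosed ((α.ker).map S.subtype) := by
  refine ⟨Subgroup.map_subtype_le _, fun R hR φ hφ x => ?_⟩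
  obtain ⟨φ', -, hP, hm, hm', h⟩ := hα.2 R φ hφ
  have hx : α ⟨x, hP x.2⟩ = 1 := by
    obtain ⟨y, hy, hyx⟩ := hR x.2
    have : y = ⟨x, hP x.2⟩ := Subtype.ext hyx
    exact this ▸ hy
  refine ⟨⟨φ x, hm x⟩, ?_, rfl⟩
  show α _ = 1
  rw [← h x, show (⟨α ⟨x, hP x.2⟩, hm' x⟩ : Cfsg.FusionSystem.imageAlong α R) = 1 from Subtype.ext hx, map_one]

end Cfsg.Agent.S5131
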