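import Cfsg.Statements.S5132
import Cfsg.Agent.Lib.Local.FS.Products

set_option autoImplicit false
open Cfsg

namespace Cfsg.Agent.S5132

theorem result {Ω : Type*} [Group Ω] {S : Subgroup Ω} [Finite S] (p : ℕ) [Fact p.Prime] (hS : IsPGroup p S) (F : Cfsg.FusionSystem S) (S₀ : Subgroup Ω) (hS₀ : F.StronglyClosed S₀) [(S₀.subgroupOf S).Normal] : ∃ E : Cfsg.FusionSystem (⊤ : Subgroup (S ⧸ S₀.subgroupOf S)), F.IsFactorSystem S₀ (QuotientGroup.mk' (S₀.subgroupOf S)) E := by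
  have hker : ∀ s : S, QuotientGroup.mk' (S₀.subgroupOf S) s = 1 ↔ (s : Ω) ∈ S₀ := fun s =>
    (QuotientGroup.eq_one_iff s).trans Subgroup.mem_subgroupOf
  have hsurj : Function.Surjective (QuotientGroup.mk' (S₀.subgroupOf S)) := QuotientGroup.mk'_surjective _
  refine ⟨Cfsg.Agent.Local.FS.factorSys hS₀ _ hker hsurj, hS₀.1, hker, MonoidHom.range_eq_top.2 hsurj,
    fun P' φ' => ?_⟩
  exact Cfsg.Agent.Local.FS.fmap_iff.trans (and_iff_right le_top).symm

end Cfsg.Agent.S5132
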