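import Cfsg.Statements.S5133
import Cfsg.Agent.Lib.Local.FS.Factor

set_option autoImplicit false
open Cfsg

namespace Cfsg.Agent.S5133

theorem result {Ω : Type*} [Group Ω] {S : Subgroup Ω} [Finite S] (p : ℕ) [Fact p.Prime] (hS : IsPGroup p S) (F : Cfsg.FusionSystem S) (hF : F.IsSaturated p) {Ω' : Type*} [Group Ω'] {S' : Subgroup Ω'} (F' : Cfsg.FusionSystem S') (α : S →* Ω') (hα : F.IsSurjectiveMorphism F' α) : F'.IsSaturated p := by
  open Cfsg.Agent.Local.FS Cfsg.FusionSystem in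
  obtain ⟨⟨hmem, hmor⟩, hrange, hsurj⟩ := hα
  set K : Subgroup Ω := (α.ker).map S.subtype
  have hKS : K ≤ S := Subgroup.map_subtype_le _
  have hK : ∀ s : S, α s = 1 ↔ (s : Ω) ∈ K := fun s =>
    MonoidHom.mem_ker.symm.trans (Subgroup.mem_map_iff_mem S.subtype_injective).symm
  have hsc : F.StronglyClosed K := by
    refine ⟨hKS, fun P hP φ hφ x => ?_⟩
    obtain ⟨φ', hφ', hP1, hφS, hm, h⟩ := hmor P φ hφ
    refine (hK ⟨φ x, hφS x⟩).1 ?_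
    rw [← h x, ← map_one φ']
    exact congrArg φ' (Subtype.ext ((hK ⟨x, hP1 x.2⟩).2 (hP x.2)))
  refine fac_saturated hS hF hsc (T := K) (θ := α) ⟨hKS, hK, hrange, fun P' φ' => ?_⟩
  refine ⟨fun h => ⟨(F'.le_of_mem h).1, hsurj P' (F'.le_of_mem h).1 φ' h⟩, ?_⟩
  rintro ⟨hP', φ, hφ, hind⟩
  obtain ⟨ψ', hψ', hind'⟩ := hmor _ φ hφ
  have hup : imageAlong α (preimageAlong α P') = P' := by
    refine le_antisymm ?_ fun a ha => ?_
    · rintro _ ⟨x, hx, rfl⟩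
      obtain ⟨_, h⟩ := mem_preimageAlong.1 (show (x : Ω) ∈ preimageAlong α P' from hx)
      exact h
    · obtain ⟨s, hs⟩ := hrange.ge (hP' ha)
      exact ⟨s, show (s : Ω) ∈ preimageAlong α P' from mem_preimageAlong.2 ⟨s.2, by rw [← hs] at ha; exact ha⟩, hs⟩
  revert ψ' hψ' hind'
  rw [hup]
  intro ψ' hψ' hind'
  suffices φ' = ψ' by rwa [this]
  obtain ⟨h1, h2, h3, h4⟩ := hind
  obtain ⟨k1, k2, k3, k4⟩ := hind'
  refine MonoidHom.ext fun a => ?_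
  obtain ⟨s, hs⟩ := hrange.ge (hP' a.2)
  have hsP : (s : Ω) ∈ preimageAlong α P' := mem_preimageAlong.2 ⟨s.2, by rw [show α ⟨(s : Ω), s.2⟩ = α s from rfl, hs]; exact a.2⟩
  rw [show a = ⟨α ⟨(⟨s, hsP⟩ : ↥(preimageAlong α P')), h1 hsP⟩, h3 ⟨s, hsP⟩⟩ from Subtype.ext hs.symm,
    h4 ⟨s, hsP⟩]
  exact (k4 ⟨s, hsP⟩).symm

end Cfsg.Agent.S5133
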