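import Cfsg.Statements.S5134
import Cfsg.Agent.Lib.Local.FS.Quotient
import Cfsg.Agent.Lib.Local.FS.Products

set_option autoImplicit false
open Cfsg

namespace Cfsg.Agent.S5134

theorem result {Ω : Type*} [Group Ω] {S : Subgroup Ω} [Finite S] (p : ℕ) [Fact p.Prime] (hS : IsPGroup p S) (F : Cfsg.FusionSystem S) (hF : F.IsSaturated p) (S₀ : Subgroup Ω) (hS₀ : F.StronglyClosed S₀) {Ω' : Type*} [Group Ω'] {S' : Subgroup Ω'} (θ : S →* Ω') (E : Cfsg.FusionSystem S') (hE : F.IsFactorSystem S₀ θ E) : F.IsSurjectiveMorphism E θ := by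
  open Cfsg.Agent.Local.FS in
  obtain ⟨hS₀S, hker, hrange, hmem⟩ := hE
  refine ⟨⟨fun s => hrange ▸ ⟨s, rfl⟩, fun P φ hφ => ?_⟩, hrange, fun P' hP' φ' hφ' => ?_⟩
  · obtain ⟨g, ⟨ψ, hψ, he⟩, h⟩ := quotMap_all hS hF hS₀ P _ (map_of_mem hφ)
    obtain ⟨hPS, hφS⟩ := F.le_of_mem hφ
    have hPT : P ⊔ S₀ ≤ S := sup_le hPS hS₀S
    have hpre : Cfsg.FusionSystem.preimageAlong θ (Cfsg.FusionSystem.imageAlong θ P) = P ⊔ S₀ := by
      refine le_antisymm (fun x hx => ?_) (sup_le (fun x hx => ?_) (le_preimageAlong hS₀S hker _))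
      · obtain ⟨hxS, y, hy, hye⟩ := mem_preimageAlong.1 hx
        have h1 : θ (y⁻¹ * ⟨x, hxS⟩) = 1 := by rw [map_mul, map_inv, hye, inv_mul_cancel]
        have h2 : (y : Ω)⁻¹ * x ∈ S₀ := (hker _).1 h1
        have h3 := Subgroup.mul_mem_sup (show (y : Ω) ∈ P from hy) h2
        simpa using h3
      · exact mem_preimageAlong.2 ⟨hPS hx, ⟨⟨x, hPS hx⟩, hx, rfl⟩⟩
    -- the induced homomorphism
    have hval : ∀ x : S, (x : Ω) ∈ P ⊔ S₀ → g (x : Ω) ∈ S := fun x hx =>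
      (Map.mem (F := F) (f := g) ⟨ψ, hψ, he⟩ hx)
    let ψS : ↥((P ⊔ S₀).subgroupOf S) →* ↥S :=
      MonoidHom.mk' (fun x => ⟨g ((x : S) : Ω), hval x x.2⟩) fun x y => Subtype.ext
        (Map.map_mul (F := F) (f := g) ⟨ψ, hψ, he⟩ x.2 y.2)
    let θP : ↥((P ⊔ S₀).subgroupOf S) →* ↥(Cfsg.FusionSystem.imageAlong θ P) :=
      (θ.comp ((P ⊔ S₀).subgroupOf S).subtype).codRestrict _ fun x => by
        have hx : ((x : S) : Ω) ∈ Cfsg.FusionSystem.preimageAlong θ (Cfsg.FusionSystem.imageAlong θ P) :=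
          hpre.symm.le x.2
        obtain ⟨hxS, hx'⟩ := mem_preimageAlong.1 hx
        exact hx'
    have hsurj : Function.Surjective θP := by
      rintro ⟨_, y, hy, rfl⟩
      exact ⟨⟨y, Subgroup.mem_sup_left (show (y : Ω) ∈ P from hy)⟩, rfl⟩
    have hk : θP.ker ≤ (θ.comp ψS).ker := by
      intro x hx
      have h1 : θ (x : S) = 1 := congrArg Subtype.val (MonoidHom.mem_ker.1 hx)
      show θ (ψS x) = 1
      exact (hker _).2 (stronglyClosed_map hS₀ (⟨ψ, hψ, he⟩ : Map F (P ⊔ S₀) g) x.2 ((hker _).1 h1))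
    let φ' := MonoidHom.liftOfSurjective θP hsurj ⟨θ.comp ψS, hk⟩
    have hφ'e : ∀ x, φ' (θP x) = θ (ψS x) := fun x => by
      show (MonoidHom.liftOfSurjective θP hsurj ⟨θ.comp ψS, hk⟩) (θP x) = _
      simp [MonoidHom.liftOfSurjective]
    refine ⟨φ', (hmem _ _).2 ⟨?_, ?_⟩, hPS, hφS, fun x => ⟨⟨x, hPS x.2⟩, x.2, rfl⟩, fun x => ?_⟩
    · rintro _ ⟨y, -, rfl⟩; exact hrange ▸ ⟨y, rfl⟩
    · refine fmap_iff.1 ⟨g, ?_, fun x hx hgx => ?_⟩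
      · rw [hpre]; exact ⟨ψ, hψ, he⟩
      · have hx' : (x : Ω) ∈ P ⊔ S₀ := hpre ▸ mem_preimageAlong.2 ⟨x.2, hx⟩
        exact hφ'e ⟨x, hx'⟩
    · refine (hφ'e ⟨⟨x, hPS x.2⟩, Subgroup.mem_sup_left x.2⟩).trans ?_
      have h2 := h x x.2
      rw [fn_coe] at h2
      refine mul_left_cancel (a := (θ ⟨φ x, hφS x⟩)⁻¹) ?_
      rw [inv_mul_cancel, ← map_inv, ← map_mul]
      exact (hker _).2 h2
  · exact ((hmem P' φ').1 hφ').2

end Cfsg.Agent.S5134
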