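import Cfsg.Statements.S5135
import Cfsg.Agent.Lib.Local.FS.Products
import Cfsg.Agent.Lib.Local.FS.Group

set_option autoImplicit false
open Cfsg

namespace Cfsg.Agent.S5135

theorem result {G : Type*} [Group G] [Finite G] (p : ℕ) [Fact p.Prime] (S : Sylow p G) (H : Subgroup G) [H.Normal] : (Cfsg.groupFusionSystem (S : Subgroup G)).IsFactorSystem ((S : Subgroup G) ⊓ H) ((QuotientGroup.mk' H).comp (S : Subgroup G).subtype) (Cfsg.groupFusionSystem ((S : Subgroup G).map (QuotientGroup.mk' H))) := by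
  open Cfsg.Agent.Local.FS Cfsg.Agent.Fusion in
  set θ : ↥(S : Subgroup G) →* G ⧸ H := (QuotientGroup.mk' H).comp (S : Subgroup G).subtype
  have hker : ∀ s : ↥(S : Subgroup G), θ s = 1 ↔ (s : G) ∈ (S : Subgroup G) ⊓ H := fun s =>
    (QuotientGroup.eq_one_iff (N := H) (s : G)).trans ⟨fun h => ⟨s.2, h⟩, fun h => h.2⟩
  refine ⟨inf_le_left, hker, ?_, fun P' φ' => ⟨?_, ?_⟩⟩
  · rw [MonoidHom.range_comp, Subgroup.range_subtype]
  · rintro ⟨hP', hm, γ, hγ⟩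
    obtain ⟨g₀, rfl⟩ := QuotientGroup.mk_surjective γ
    refine ⟨hP', ?_⟩
    set P := Cfsg.FusionSystem.preimageAlong θ P'
    have hPS : P ≤ (S : Subgroup G) := fun x hx => (mem_preimageAlong.1 hx).1
    have hval : ∀ x (hx : x ∈ P), φ' ⟨θ ⟨x, hPS hx⟩, (mem_preimageAlong.1 hx).2⟩ =
        (QuotientGroup.mk (g₀ * x * g₀⁻¹) : G ⧸ H) := fun x hx => by
      rw [hγ]; rfl
    have hmem : cj P g₀ ≤ (S : Subgroup G) ⊔ H := by
      rintro _ ⟨x, hx, rfl⟩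
      obtain ⟨s, hs, he⟩ := hm ⟨θ ⟨x, hPS hx⟩, (mem_preimageAlong.1 hx).2⟩
      rw [hval x hx] at he
      show g₀ * x * g₀⁻¹ ∈ _
      have h1 : s⁻¹ * (g₀ * x * g₀⁻¹) ∈ H := QuotientGroup.eq.1 he
      simpa using Subgroup.mul_mem_sup hs h1
    have hSyl : SylIn p (S : Subgroup G) ((S : Subgroup G) ⊔ H) := (sylIn_top S).mono le_sup_left le_top
    obtain ⟨n, hn, hle⟩ := hSyl.conj_le (isPGroup_cj (S.isPGroup'.to_le hPS) g₀) hmem
    rw [Subgroup.mem_sup_of_normal_right] at hn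
    obtain ⟨s, hs, m, hm', rfl⟩ := hn
    have hSmem : ∀ x ∈ P, m * g₀ * x * (m * g₀)⁻¹ ∈ (S : Subgroup G) := fun x hx => by
      have h1 := hle (conj_mem_cj (conj_mem_cj hx))
      have h2 := (S : Subgroup G).mul_mem ((S : Subgroup G).mul_mem ((S : Subgroup G).inv_mem hs) h1) hs
      show m * g₀ * x * (m * g₀)⁻¹ ∈ (S : Subgroup G)
      simpa [mul_assoc] using h2
    refine fmap_iff.1 ⟨fun x => m * g₀ * x * (m * g₀)⁻¹,
      map_group_iff.2 ⟨hPS, hSmem, m * g₀, fun _ _ => rfl⟩, fun x hx hfx => ?_⟩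
    have hm1 : (QuotientGroup.mk m : G ⧸ H) = 1 := (QuotientGroup.eq_one_iff m).2 hm'
    refine (hval x (mem_preimageAlong.2 ⟨x.2, hx⟩)).trans ?_
    show _ = (QuotientGroup.mk (m * g₀ * (x : G) * (m * g₀)⁻¹) : G ⧸ H)
    simp only [QuotientGroup.mk_mul, QuotientGroup.mk_inv, mul_inv_rev]
    erw [hm1]
    simp
  · rintro ⟨hP', φ, ⟨-, -, g, hg⟩, hP, hφS, hθ, h⟩
    have key : ∀ a : P', ∃ x : ↥(Cfsg.FusionSystem.preimageAlong θ P'), θ ⟨x, hP x.2⟩ = a := by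
      rintro ⟨a, ha⟩
      obtain ⟨s, hs, rfl⟩ := hP' ha
      exact ⟨⟨s, mem_preimageAlong.2 ⟨hs, ha⟩⟩, rfl⟩
    refine ⟨hP', fun a => ?_, QuotientGroup.mk g, fun a => ?_⟩
    · obtain ⟨x, hx⟩ := key a
      rw [show a = ⟨θ ⟨x, hP x.2⟩, hθ x⟩ from Subtype.ext hx.symm, h x]
      exact ⟨φ x, hφS x, rfl⟩
    · obtain ⟨x, hx⟩ := key a
      rw [show a = ⟨θ ⟨x, hP x.2⟩, hθ x⟩ from Subtype.ext hx.symm, h x]
      show (QuotientGroup.mk (φ x) : G ⧸ H) = _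
      rw [hg x]; rfl

end Cfsg.Agent.S5135
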