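import Cfsg.Statements.S5136
import Cfsg.Agent.Lib.Local.FS.Products

set_option autoImplicit false
open Cfsg

namespace Cfsg.Agent.S5136

theorem result {Ω₁ Ω₂ : Type*} [Group Ω₁] [Group Ω₂] {S₁ : Subgroup Ω₁} {S₂ : Subgroup Ω₂} [Finite S₁] [Finite S₂] (p : ℕ) [Fact p.Prime] (h₁ : IsPGroup p S₁) (h₂ : IsPGroup p S₂) (F₁ : Cfsg.FusionSystem S₁) (F₂ : Cfsg.FusionSystem S₂) : ∃ E : Cfsg.FusionSystem (S₁.prod S₂), Cfsg.FusionSystem.IsProductSystem F₁ F₂ E := by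
  exact ⟨Cfsg.Agent.Local.FS.prodSys F₁ F₂, fun P φ => Cfsg.Agent.Local.FS.prodMap_iff F₁ F₂⟩

end Cfsg.Agent.S5136
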