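import Cfsg.Statements.S5139
import Cfsg.Agent.Lib.Local.FS.GroupResidual
import Cfsg.Agent.S5093

set_option autoImplicit false
open Cfsg

namespace Cfsg.Agent.S5139

theorem result {G : Type*} [Group G] [Finite G] (p : ℕ) [Fact p.Prime] (S : Sylow p G) (E : Cfsg.FusionSystem ((Cfsg.groupFusionSystem (S : Subgroup G)).hyperfocalSubgroup p)) (hE : (Cfsg.groupFusionSystem (S : Subgroup G)).IsPResidual p E) : ∃ h : (S : Subgroup G) ⊓ Cfsg.pResidual p G ≤ Cfsg.pResidual p G, ∀ P : Subgroup G, E.Hom P = (Cfsg.fusionSystemOfSubgroup (Cfsg.pResidual p G) ((S : Subgroup G) ⊓ Cfsg.pResidual p G) h).Hom P := by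
  refine ⟨inf_le_right, fun P => ?_⟩
  exact Cfsg.Agent.Local.FS.groupResidual_hom S (Cfsg.Agent.S5093.result p S) E hE.1 hE.2.1 hE.2.2.2 P

end Cfsg.Agent.S5139
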