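import Cfsg.Statements.S5143
import Cfsg.Agent.Lib.Local.FS.Balance.Unique

set_option autoImplicit false
open Cfsg

namespace Cfsg.Agent.S5143

/-- Let F be a saturated fusion system over a finite p-group S, E a normal subsystem over T, and R a subgroup with T ≤ R ≤ S. Then there is exactly one saturated subsystem D of F over R (exactly one family of map sets) whose p-residual subsystem is that of E: the hyperfocal subgroups of D and E coincide and the p-residual subsystems of D and of E have the same maps. -/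
theorem result {Ω : Type*} [Group Ω] {S : Subgroup Ω} [Finite S] (p : ℕ) [Fact p.Prime] (hS : IsPGroup p S) (F : Cfsg.FusionSystem S) (hF : F.IsSaturated p) {T : Subgroup Ω} (E : Cfsg.FusionSystem T) (hE : E.IsNormalIn F p) (R : Subgroup Ω) (hTR : T ≤ R) (hRS : R ≤ S) : ∃ D : Cfsg.FusionSystem R, (D.IsSaturated p ∧ D.IsSubsystemOf F ∧ D.hyperfocalSubgroup p = E.hyperfocalSubgroup p ∧ ∀ (D₁ : Cfsg.FusionSystem (D.hyperfocalSubgroup p)) (E₁ : Cfsg.FusionSystem (E.hyperfocalSubgroup p)), D.IsPResidual p D₁ → E.IsPResidual p E₁ → ∀ P : Subgroup Ω, D₁.Hom P = E₁.Hom P) ∧ ∀ D' : Cfsg.FusionSystem R, D'.IsSaturated p → D'.IsSubsystemOf F → D'.hyperfocalSubgroup p = E.hyperfocalSubgroup p → (∀ (D₁ : Cfsg.FusionSystem (D'.hyperfocalSubgroup p)) (E₁ : Cfsg.FusionSystem (E.hyperfocalSubgroup p)), D'.IsPResidual p D₁ → E.IsPResidual p E₁ → ∀ P : Subgroup Ω, D₁.Hom P = E₁.Hom P) → ∀ P : Subgroup Ω, D'.Hom P = D.Hom P := by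
  open Cfsg.FusionSystem Cfsg.Agent.Fusion Cfsg.Agent.Local.FS Cfsg.Agent.Local.FS.Balance in
    have c : Ctx F E p := ⟨hS, hF, hE⟩
    haveI := c.finT
    haveI := finite_of_le hRS
    obtain ⟨E₁, hs, hE₁⟩ := exists_pPower c.pT c.eSat (hyperfocal_le (F := E)) le_rfl
    have c₁ : Ctx F E₁ p := ⟨hS, hF, c.residual_normal hs hE₁⟩
    have hH := c.hyperfocal_sys hRS hTR
    have hE₁D := c.residual_sys hRS hTR hE₁
    refine ⟨c.sys hRS, ⟨c.sys_saturated hRS hTR, c.sys_sub hRS, hH, fun D₁ E₂ hD₁ hE₂ P => ?_⟩,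
      fun D' hD's hD'F hD'H hres P => ?_⟩
    · exact hom_eq_of_pPower (hS.to_le hRS) hH hD₁.1 hD₁.2 hE₂.1 (c.residual_sys hRS hTR hE₂.2) P
    · obtain ⟨D₁, hD₁s, hD₁⟩ :=
        exists_pPower (hS.to_le hRS) hD's (hyperfocal_le (F := D')) le_rfl
      have h : E₁.HasPPowerIndexIn D' p :=
        pPower_of_hom_eq hD'H.le hD₁ (hres D₁ E₁ ⟨hD₁s, hD₁⟩ ⟨hs, hE₁⟩)
      rw [c₁.eq_sys hRS hD's hD'F h, ← c₁.eq_sys hRS (c.sys_saturated hRS hTR) (c.sys_sub hRS) hE₁D]

end Cfsg.Agent.S5143
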