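import Cfsg.Statements.S5145
import Cfsg.Agent.Lib.Local.FS.Normal

set_option autoImplicit false
open Cfsg

namespace Cfsg.Agent.S5145

theorem result {Ω : Type*} [Group Ω] {S : Subgroup Ω} [Finite S] (F : Cfsg.FusionSystem S) : F.IsNormal F.core := by
  open Cfsg.Agent.Local.FS in
  haveI : Finite ↥S := inferInstance
  have hfin : {Q : Subgroup Ω | F.IsNormal Q}.Finite := by
    refine Set.Finite.subset ((Set.toFinite (Set.univ : Set (Subgroup S))).image (fun K => K.map S.subtype)) ?_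
    intro Q hQ
    exact ⟨Q.subgroupOf S, trivial, Subgroup.map_subgroupOf_eq_of_le hQ.1⟩
  unfold Cfsg.FusionSystem.core
  rw [← hfin.coe_toFinset, ← Finset.sup_id_eq_sSup]
  refine Finset.sup_induction (p := fun Q => F.IsNormal Q) ?_ ?_ fun Q hQ => hfin.mem_toFinset.1 hQ
  · refine normal_iff.2 ⟨bot_le, fun P f hf => ⟨f, by rwa [sup_bot_eq], fun x _ => rfl, ?_⟩⟩
    refine le_antisymm (im_le_iff.2 fun x hx => ?_) bot_le
    rw [Subgroup.mem_bot] at hx ⊢
    rw [hx]; exact hf.map_one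
  · intro A hA B hB
    refine normal_iff.2 ⟨sup_le hA.1 hB.1, fun P f hf => ?_⟩
    obtain ⟨g, hg, hgf, hgA⟩ := (normal_iff.1 hA).2 P f hf
    obtain ⟨k, hk, hkg, hkB⟩ := (normal_iff.1 hB).2 _ g hg
    rw [sup_assoc] at hk
    refine ⟨k, hk, fun x hx => (hkg x (Subgroup.mem_sup_left hx)).trans (hgf x hx), ?_⟩
    have hkA : im A k = A := (im_congr fun x hx => hkg x (Subgroup.mem_sup_right hx)).trans hgA
    refine le_antisymm ((hk.restrict le_sup_right).im_sup_le.trans (sup_le_sup hkA.le hkB.le)) ?_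
    exact sup_le (hkA.ge.trans (im_mono le_sup_left)) (hkB.ge.trans (im_mono le_sup_right))

end Cfsg.Agent.S5145
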