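import Cfsg.Statements.S5147
import Cfsg.Agent.Lib.Local.FS.GroupConstrained

set_option autoImplicit false
open Cfsg

namespace Cfsg.Agent.S5147

theorem result {G : Type*} [Group G] [Finite G] (S : Sylow 2 G) (hF : (Cfsg.groupFusionSystem (S : Subgroup G)).IsConstrained 2) (L : Subgroup G) (hL : Cfsg.IsComponent L) : (Cfsg.groupFusionSystem (((S : Subgroup G).subgroupOf L).map (QuotientGroup.mk' (Subgroup.center L)))).IsConstrained 2 := by
  obtain ⟨h1, h2⟩ := Cfsg.Agent.Local.FS.constrained_subnormal (Cfsg.Agent.Fusion.sylIn_top S) hF hL.1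
  refine Cfsg.Agent.Local.FS.constrained_mod_center ?_ h2
  rw [← Subgroup.inf_subgroupOf_right]
  exact Cfsg.Agent.Local.FS.sylIn_subgroupOf h1

end Cfsg.Agent.S5147
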