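import Cfsg.Statements.S5148
import Cfsg.Agent.Lib.Local.FS.Abelian
import Cfsg.Agent.Lib.Local.FS.Transfer
import Cfsg.Agent.Lib.Local.FS.TateCor
import Cfsg.Agent.Lib.Local.FS.Products
import Cfsg.Agent.Lib.Local.FS.Factor

set_option autoImplicit false
open Cfsg

namespace Cfsg.Agent.S5148

theorem result {Ω : Type*} [Group Ω] {S : Subgroup Ω} [Finite S] (p : ℕ) [Fact p.Prime] (hS : IsPGroup p S) (F : Cfsg.FusionSystem S) (hq : F.Quasisimple p) : ¬ IsMulCommutative S := by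
  intro hab
  obtain ⟨hF, hhyp, hsim⟩ := hq
  haveI := hab
  have hab0 : ∀ x ∈ S, ∀ y ∈ S, x * y = y * x := fun x hx y hy =>
    congrArg Subtype.val (mul_comm' (⟨x, hx⟩ : S) ⟨y, hy⟩)
  have hZS : F.center ≤ S := fun z hz => (Cfsg.Agent.Local.FS.center_spec F hz).1
  have hZ : F.StronglyClosed F.center := ⟨hZS, fun R hR φ hφ x => by
    rw [← Cfsg.Agent.Local.FS.fn_coe φ x,
      Cfsg.Agent.Local.FS.center_fixed F (hR x.2) (Cfsg.Agent.Local.FS.map_of_mem hφ) x.2]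
    exact hR x.2⟩
  set θ := QuotientGroup.mk' ((F.center).subgroupOf S) with hθ
  have hker : ∀ s : S, θ s = 1 ↔ (s : Ω) ∈ F.center := fun s =>
    (QuotientGroup.eq_one_iff s).trans Subgroup.mem_subgroupOf
  have hsurj : Function.Surjective θ := QuotientGroup.mk'_surjective _
  set E := Cfsg.Agent.Local.FS.factorSys hZ θ hker hsurj with hEdef
  have hE : F.IsFactorSystem F.center θ E := ⟨hZS, hker, MonoidHom.range_eq_top.2 hsurj,
    fun P' φ' => Cfsg.Agent.Local.FS.fmap_iff.trans (and_iff_right le_top).symm⟩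
  obtain ⟨hEs, hne, hnorm⟩ := hsim E hE
  haveI : Finite (S ⧸ (F.center).subgroupOf S) := inferInstance
  haveI : Finite (⊤ : Subgroup (S ⧸ (F.center).subgroupOf S)) := Finite.of_injective _ Subtype.val_injective
  have hS' : IsPGroup p (⊤ : Subgroup (S ⧸ (F.center).subgroupOf S)) := Cfsg.Agent.Local.FS.fac_isPGroup hE hS
  have hab' : ∀ x ∈ (⊤ : Subgroup (S ⧸ (F.center).subgroupOf S)),
      ∀ y ∈ (⊤ : Subgroup (S ⧸ (F.center).subgroupOf S)), x * y = y * x := by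
    intro x _ y _
    obtain ⟨a, rfl⟩ := hsurj x
    obtain ⟨b, rfl⟩ := hsurj y
    rw [← map_mul, ← map_mul, mul_comm']
  have htop : E.StronglyClosed ⊤ := ⟨le_rfl, fun _ _ _ _ _ => Subgroup.mem_top _⟩
  obtain h0 | ⟨-, hinner⟩ := hnorm ⊤ _ (Cfsg.Agent.Local.FS.inner_normalIn hS' hEs hab' htop
    fun P f _ hf => Cfsg.Agent.Local.FS.abelian_extend hS' hEs hab' hf)
  · exact hne h0
  have htriv : ∀ (P : Subgroup Ω) (f : Ω → Ω), Cfsg.Agent.Local.FS.Map F P f → ∀ x ∈ P, x⁻¹ * f x ∈ F.center := by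
    intro P f hf x hx
    obtain ⟨g, hg, hfg⟩ := Cfsg.Agent.Local.FS.quotMap_all hS hF hZ P f hf
    have hpre : FusionSystem.preimageAlong θ (FusionSystem.imageAlong θ (P ⊔ F.center)) = P ⊔ F.center := by
      rw [Cfsg.Agent.Local.FS.fac_pre_up hE hg.le, sup_assoc, sup_idem]
    have hm := Cfsg.Agent.Local.FS.fac_induced hE hZ (P' := FusionSystem.imageAlong θ (P ⊔ F.center)) (f := g)
      (Cfsg.Agent.Local.FS.fac_up_le hE) (hpre.symm ▸ hg)
    have hxg : x ∈ FusionSystem.preimageAlong θ (FusionSystem.imageAlong θ (P ⊔ F.center)) :=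
      hpre.symm ▸ Subgroup.mem_sup_left hx
    obtain ⟨hxS, hxi⟩ := (Cfsg.Agent.Local.FS.fac_mem_pre).1 hxg
    obtain ⟨φ, hφ, he⟩ := hm
    rw [← hinner] at hφ
    have h1 := Cfsg.Agent.Local.FS.map_inner_eq (f := fun a => Cfsg.Agent.Local.FS.ue θ (g (Cfsg.Agent.Local.FS.ve θ a))) hab' le_rfl ⟨φ, hφ, he⟩ hxi
    have hve : Cfsg.Agent.Local.FS.ve θ (Cfsg.Agent.Local.FS.ue θ x) ∈ P ⊔ F.center :=
      hpre ▸ (Cfsg.Agent.Local.FS.fac_mem_pre).2 ⟨Cfsg.Agent.Local.FS.ve_mem,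
        (Cfsg.Agent.Local.FS.fac_ue_ve hE (Subgroup.mem_top _)).symm ▸ hxi⟩
    have h2 := Cfsg.Agent.Local.FS.fac_congr hE hZ hg le_sup_right hve (Subgroup.mem_sup_left hx)
      (Cfsg.Agent.Local.FS.fac_ue_ve hE (Subgroup.mem_top _))
    have hgx : g x ∈ S := hg.mem (Subgroup.mem_sup_left hx)
    have hz : x⁻¹ * g x ∈ F.center := (Cfsg.Agent.Local.FS.fac_ue_eq_one hE (S.mul_mem (S.inv_mem hxS) hgx)).1 (by
      rw [Cfsg.Agent.Local.FS.ue_mul (S.inv_mem hxS) hgx, Cfsg.Agent.Local.FS.ue_inv hxS, ← h2, h1, inv_mul_cancel])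
    simpa [mul_assoc] using mul_mem hz (inv_mem (hfg x hx))
  have hSZ : S ≤ F.center := hhyp.symm.le.trans (Cfsg.Agent.Local.FS.hyperfocal_le_of_trivial_mod htriv)
  refine hne (eq_bot_iff.2 fun a _ => ?_)
  obtain ⟨s, rfl⟩ := hsurj a
  exact Subgroup.mem_bot.2 ((hker s).2 (hSZ s.2))

end Cfsg.Agent.S5148
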