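import Cfsg.Statements.S5150
import Cfsg.Agent.Lib.Local.FS.CoreCentralizer

set_option autoImplicit false
open Cfsg

namespace Cfsg.Agent.S5150

theorem result {Ω : Type*} [Group Ω] {S : Subgroup Ω} [Finite S] (p : ℕ) [Fact p.Prime] (hS : IsPGroup p S) (F : Cfsg.FusionSystem S) (hF : F.IsSaturated p) {T : Subgroup Ω} (E : Cfsg.FusionSystem T) (hE : E.IsLayerOf F p) (P : Subgroup Ω) : E.Hom P ⊆ F.centralizerHom F.core P := by
  obtain ⟨D, hD, hDe⟩ := Cfsg.Agent.Local.FS.exists_coreCentralizer hS hF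
  intro φ hφ
  rw [← hDe P]
  exact hE.2.2 _ D hD (fun U C hC R ψ hψ => (hDe R).ge
    (Cfsg.Agent.Local.FS.component_mem_centralizerHom hS hF hC hψ)) P hφ

end Cfsg.Agent.S5150
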