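import Cfsg.Statements.S5153
import Cfsg.Agent.Lib.Local.FS.Sub

set_option autoImplicit false
open Cfsg

namespace Cfsg.Agent.S5153

theorem result {Ω : Type*} [Group Ω] {S : Subgroup Ω} [Finite S] (p : ℕ) [Fact p.Prime] (hS : IsPGroup p S) (F : Cfsg.FusionSystem S) (hF : F.IsSaturated p) {T : Subgroup Ω} (E : Cfsg.FusionSystem T) (hE : E.IsSubnormalIn F p) (P : Subgroup Ω) (hPT : P ≤ T) (hP : F.IsFullyNormalized P) : E.IsFullyNormalized P := by
  have hp : Fact p.Prime := ‹_›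
  have hfin : Finite ↥S := ‹_›
  clear hF
  revert hS hfin hP hp
  induction hE with
  | refl F p => intro _ h _ _; exact h
  | step hED hD ih =>
    intro hS hP hp hfin
    obtain ⟨⟨hDs, hFs, hinv⟩, -⟩ := hD
    haveI := Cfsg.Agent.Local.FS.finite_of_le hinv.2.1.1
    have hsub := Cfsg.Agent.Local.FS.subnormal_isSubsystem hED
    exact ih (hS.to_le hinv.2.1.1) (Cfsg.Agent.Local.FS.fn_of_sub hS hFs hinv.2.1 hinv.1
      (hPT.trans (Cfsg.Agent.Local.FS.le_of_sub hsub)) hP) hp this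

end Cfsg.Agent.S5153
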