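import Cfsg.Statements.S5154
import Cfsg.Agent.Lib.Local.FS.QuasisimpleTransport

set_option autoImplicit false
open Cfsg

namespace Cfsg.Agent.S5154

theorem result {Ω : Type*} [Group Ω] {S : Subgroup Ω} [Finite S] (p : ℕ) [Fact p.Prime] (hS : IsPGroup p S) (F : Cfsg.FusionSystem S) (hF : F.IsSaturated p) {T : Subgroup Ω} (C : Cfsg.FusionSystem T) (hC : C.IsComponentIn F p) (γ : T →* Ω) (hγ : γ ∈ F.Hom T) (E : Cfsg.FusionSystem γ.range) (hE : C.IsFactorSystem ⊥ γ E) : E.IsComponentIn F p := by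
  refine Cfsg.Agent.Local.FS.component_conj hS hF hC ⟨γ, hγ, fun x => ?_⟩ (Cfsg.Agent.Local.FS.fiso_of_factor_bot hE)
  exact (Cfsg.Agent.Local.FS.ue_coe (i := γ) x).symm

end Cfsg.Agent.S5154
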