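import Cfsg.Statements.S5155
import Cfsg.Agent.Lib.Local.FS.CentralizerSystemNormal

set_option autoImplicit false
open Cfsg

namespace Cfsg.Agent.S5155

theorem result {Ω : Type*} [Group Ω] {S : Subgroup Ω} [Finite S] (p : ℕ) [Fact p.Prime] (hS : IsPGroup p S) (F : Cfsg.FusionSystem S) (hF : F.IsSaturated p) {T : Subgroup Ω} (E : Cfsg.FusionSystem T) (hE : E.IsNormalIn F p) (Y : Subgroup Ω) (hY : Y ≤ Cfsg.FusionSystem.centralizerIn S T) (hEY : ∀ P : Subgroup Ω, E.Hom P ⊆ F.centralizerHom Y P) (hmax : ∀ Y' : Subgroup Ω, Y' ≤ Cfsg.FusionSystem.centralizerIn S T → (∀ P : Subgroup Ω, E.Hom P ⊆ F.centralizerHom Y' P) → Y' ≤ Y) : ∃ D : Cfsg.FusionSystem Y, D.IsNormalIn F p ∧ ∀ P : Subgroup Ω, D.Hom P ⊆ F.centralizerHom T P := by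
  have hCE := Cfsg.Agent.Local.FS.centE_centEOf hS hE
  have hTS := hE.1.2.2.2.1.1
  have hYC : Y = Cfsg.Agent.Local.FS.centEOf E F := by
    refine le_antisymm (Cfsg.Agent.Local.FS.CentE.le_centEOf ⟨hY, fun P f hf => ?_⟩) (hmax _ hCE.1 fun P φ hφ => ?_)
    · obtain ⟨φ, hφ, hφf⟩ := hf
      obtain ⟨-, -, -, ψ, hψ, h1, h2⟩ := hEY P hφ
      refine ⟨_, Cfsg.Agent.Local.FS.map_of_mem hψ, fun x hx => ?_, fun y hy => ?_⟩
      · rw [Cfsg.Agent.Local.FS.fn_apply ψ (Subgroup.mem_sup_left hx)]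
        exact (h1 ⟨x, hx⟩).trans (hφf ⟨x, hx⟩)
      · rw [Cfsg.Agent.Local.FS.fn_apply ψ (Subgroup.mem_sup_right hy)]
        exact h2 ⟨y, hy⟩
    · obtain ⟨g, ⟨ψ, hψ, hψg⟩, hgf, hgC⟩ := hCE.2 P _ (Cfsg.Agent.Local.FS.map_of_mem hφ)
      refine ⟨hE.1.2.2.1 P hφ, ?_, fun x => ?_, ψ, hψ, fun x => ?_, fun x => ?_⟩
      · exact fun x hx => ⟨hTS ((E.le_of_mem hφ).1 hx), Subgroup.mem_centralizer_iff.2 fun c hc =>
          (Cfsg.Agent.Local.FS.comm_of_centT (hCE.1 hc) ((E.le_of_mem hφ).1 hx)).symm⟩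
      · exact ⟨hTS ((E.le_of_mem hφ).2 x), Subgroup.mem_centralizer_iff.2 fun c hc =>
          (Cfsg.Agent.Local.FS.comm_of_centT (hCE.1 hc) ((E.le_of_mem hφ).2 x)).symm⟩
      · rw [hψg, Subgroup.coe_inclusion, hgf _ x.2, Cfsg.Agent.Local.FS.fn_coe]
      · rw [hψg, Subgroup.coe_inclusion, hgC _ x.2]
  subst hYC
  exact Cfsg.Agent.Local.FS.exists_centralizer_system hS hE

end Cfsg.Agent.S5155
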