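import Cfsg.Statements.S5201
import Cfsg.Agent.Lib.Local.FS.PSolvDescent
import Cfsg.Agent.Lib.Local.FS.FocalCentralizer

set_option autoImplicit false
open Cfsg

namespace Cfsg.Agent.S5201

theorem result {Ω : Type*} [Group Ω] {S : Subgroup Ω} [Finite S] (p : ℕ) [Fact p.Prime] (hS : IsPGroup p S) (F : Cfsg.FusionSystem S) (hF : F.IsSaturated p) {T : Subgroup Ω} (E : Cfsg.FusionSystem T) (hE : E.IsNormalIn F p) (hCE : ∀ Y : Subgroup Ω, Y ≤ Cfsg.FusionSystem.centralizerIn S T → (∀ C : Cfsg.FusionSystem (Cfsg.FusionSystem.centralizerIn S Y), F.IsCentralizerSystem Y C → E.IsSubsystemOf C) → Y ≤ T) [hn : ((E.autGroup T).subgroupOf (F.autGroup T)).Normal] (hsolv : Cfsg.IsPSolvable p (↥(F.autGroup T) ⧸ (E.autGroup T).subgroupOf (F.autGroup T))) {U V : Subgroup Ω} (Finf : Cfsg.FusionSystem U) (hFinf : Finf.IsResidualLimitOf F p) (Einf : Cfsg.FusionSystem V) (hEinf : Einf.IsResidualLimitOf E p) : ∀ P : Subgroup Ω, Finf.Hom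 P = Einf.Hom P := by
  open Cfsg.Agent.Local.FS Cfsg.Agent.Fusion Cfsg.FusionSystem in
  obtain ⟨W₀, M, hM, hMT⟩ := PSolv.exists_descent hS hE hsolv
  obtain rfl := PSolv.base_eq hS hE hM hMT
  have hT := hE.1.2.2.2.1
  have hCF : centEOf E F ≤ T := by
    refine hCE _ centEOf_le fun C hC P φ hφ => ?_
    have h := centE_centEOf hS hE
    obtain ⟨g, ⟨ψ, hψ, hψg⟩, hgf, hgC⟩ := h.2 P _ (map_of_mem hφ)
    rw [hC P]
    refine ⟨hE.1.2.2.1 P hφ, ?_, fun x => ?_, ψ, hψ, fun x => ?_, fun x => ?_⟩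
    · exact fun x hx => ⟨hT.1 ((E.le_of_mem hφ).1 hx), Subgroup.mem_centralizer_iff.2 fun c hc =>
        (comm_of_centT (h.1 hc) ((E.le_of_mem hφ).1 hx)).symm⟩
    · exact ⟨hT.1 ((E.le_of_mem hφ).2 x), Subgroup.mem_centralizer_iff.2 fun c hc =>
        (comm_of_centT (h.1 hc) ((E.le_of_mem hφ).2 x)).symm⟩
    · rw [hψg, Subgroup.coe_inclusion, hgf _ x.2, fn_coe]
    · rw [hψg, Subgroup.coe_inclusion, hgC _ x.2]
  have hLS : (T ⊔ centralizerIn S T) ≤ S := hM.le_S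
  haveI := finite_of_le hLS
  haveI := finite_of_le hT.1
  have hU := hS.to_le hLS
  have hMs := hM.normal.1.1
  have hMi := hM.normalE.1.2.2
  have hTM := hMi.2.1
  have hTL : T ≤ (T ⊔ centralizerIn S T) := le_sup_left
  have hCM : centEOf E M ≤ T := by
    refine le_trans ((Subgroup.closure_le _).2 fun z hz => Subgroup.subset_closure ?_) hCF
    refine ⟨hz.1.trans fun w hw => ⟨hLS hw.1, hw.2⟩, fun P f hf => ?_⟩
    obtain ⟨g, hg, hgf, hgy⟩ := hz.2 P f hf
    exact ⟨g, hg.of_sub hM.normal.1.2.2.1, hgf, hgy⟩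
  -- every element of `(T ⊔ centralizerIn S T)` is a product
  have hsplit : ∀ x ∈ (T ⊔ centralizerIn S T), ∃ t ∈ T, ∃ c ∈ centralizerIn S T, x = t * c := by
    intro x hx
    rw [Subgroup.sup_eq_closure] at hx
    induction hx using Subgroup.closure_induction with
    | mem z hz =>
      rcases hz with hz | hz
      · exact ⟨z, hz, 1, one_mem _, (mul_one z).symm⟩
      · exact ⟨1, one_mem _, z, hz, (one_mul z).symm⟩
    | one => exact ⟨1, one_mem _, 1, one_mem _, (one_mul 1).symm⟩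
    | mul a b _ _ iha ihb =>
      obtain ⟨t, ht, c, hc, rfl⟩ := iha
      obtain ⟨t', ht', c', hc', rfl⟩ := ihb
      refine ⟨t * t', mul_mem ht ht', c * c', mul_mem hc hc', ?_⟩
      rw [show t * c * (t' * c') = t * (c * t') * c' by group, ← (mem_centralizerIn.1 hc).2 t' ht']
      group
    | inv a _ iha =>
      obtain ⟨t, ht, c, hc, rfl⟩ := iha
      refine ⟨t⁻¹, inv_mem ht, c⁻¹, inv_mem hc, ?_⟩
      rw [mul_inv_rev, (mem_centralizerIn.1 (inv_mem hc)).2 t⁻¹ (inv_mem ht)]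
  -- maps fixing `T` shift inside `T`
  have hfix : ∀ (D : Subgroup Ω) (κ : Ω → Ω), Map M D κ → T ≤ D → (∀ t ∈ T, κ t = t) →
      ∀ x ∈ D, x⁻¹ * κ x ∈ T := by
    intro D κ hκ hTD hκT x hx
    obtain ⟨t, ht, c, hc, rfl⟩ := hsplit x (hκ.le hx)
    have hcD : c ∈ D := by simpa using D.mul_mem (D.inv_mem (hTD ht)) hx
    have hv : c⁻¹ * κ c ∈ T := by
      refine hCM ((focal_centE hU hM.normalE (V := {c⁻¹ * κ c}) ?_).le_centEOf (Subgroup.subset_closure rfl))
      rintro v rfl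
      exact ⟨c, κ, ⟨Subgroup.mem_sup_right hc, hc.2⟩,
        hκ.restrict (sup_le hTD (Subgroup.zpowers_le.2 hcD)), hκT, rfl⟩
    rw [hκ.map_mul (hTD ht) hcD, hκT t ht, show (t * c)⁻¹ * (t * κ c) = c⁻¹ * κ c by group]
    exact hv
  have hshift : ∀ (P : Subgroup Ω) (f : Ω → Ω), Map M P f → ∀ x ∈ P, x⁻¹ * f x ∈ T := by
    intro P f hf x hx
    obtain ⟨g, hg, hgf⟩ := quotMap_all hU hMs hTM P f hf
    obtain ⟨α, hα, hαg⟩ := PSolv.exists_autT hTM (hg.restrict le_sup_right)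
    rw [hMT] at hα
    obtain ⟨β, hβ, hβT, hβC⟩ := PSolv.exists_extL hM.normalE hLS le_sup_right hα
    have hβm := map_of_mem_autGroup (le_refl (T ⊔ centralizerIn S T)) hβ
    have hβi := map_of_mem_autGroup (le_refl (T ⊔ centralizerIn S T)) (inv_mem hβ)
    have hβs : ∀ y ∈ (T ⊔ centralizerIn S T), y⁻¹ * av β y ∈ T := by
      intro y hy
      obtain ⟨t, ht, c, hc, rfl⟩ := hsplit y hy
      rw [hβm.map_mul (hTL ht) (Subgroup.mem_sup_right hc), hβT t ht,
        show (t * c)⁻¹ * (av α t * av β c) = c⁻¹ * (t⁻¹ * av α t) * c * (c⁻¹ * av β c) by group]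
      refine T.mul_mem ?_ (hβC c hc).1
      have h1 : t⁻¹ * av α t ∈ T := T.mul_mem (T.inv_mem ht) (av_mem α ht)
      rw [mul_assoc c⁻¹, (mem_centralizerIn.1 hc).2 _ h1, inv_mul_cancel_left]
      exact h1
    have hκ : Map M (P ⊔ T) (av β⁻¹ ∘ g) := hg.comp hβi fun y hy => hg.mem hy
    have h1 := hfix _ _ hκ le_sup_right (fun t ht => by
      show av β⁻¹ (g t) = t
      rw [← hαg t ht, ← hβT t ht, av_inv_av β (hTL ht)]) x (Subgroup.mem_sup_left hx)
    have hgx : g x ∈ (T ⊔ centralizerIn S T) := hg.mem (Subgroup.mem_sup_left hx)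
    have h2 := hβs _ (av_mem β⁻¹ hgx)
    rw [av_av_inv β hgx] at h2
    have h3 := T.mul_mem (T.mul_mem h1 h2) (T.inv_mem (hgf x hx))
    simpa [mul_assoc] using h3
  have hidx : E.HasPPowerIndexIn M p := by
    refine ⟨hM.sub, (Subgroup.closure_le _).2 ?_, fun P hP => ?_⟩
    · rintro _ ⟨P, α, y, hP, hα, rfl⟩
      rw [← av_coe]
      exact hshift P _ (map_of_mem_autGroup hP α.2) y y.2
    · refine (Subgroup.map_subtype_le _).trans fun a ha => ?_
      obtain ⟨α, hα, g, hg, hga⟩ := frattini_map hMi hP (map_of_mem_autGroup (hP.trans hTL) ha)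
      rw [hMT] at hα
      exact mem_autGroup_of_map ((hg.comp (map_of_mem_autGroup le_rfl hα) fun x hx => hg.mem hx).congr
        fun x hx => (hga x hx).symm)
  obtain ⟨W, N, hN⟩ := exists_limit hU hMs
  intro P
  ext φ
  rw [mem_iff_map, mem_iff_map]
  exact (hM.limit _ _ _ _ hFinf hN P _).trans (limit_pPower hU hMs hE.1.1 hidx hN hEinf P _)

end Cfsg.Agent.S5201
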