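import Cfsg.Statements.S5156
import Cfsg.Agent.Lib.Local.FS.TerminatingSeries
import Cfsg.Agent.S5201

set_option autoImplicit false
universe u
open Cfsg

namespace Cfsg.Agent.S5156

theorem result {Ω : Type u} [Group Ω] {S : Subgroup Ω} [Finite S] (p : ℕ) [Fact p.Prime] (hS : IsPGroup p S) (F : Cfsg.FusionSystem S) (hF : F.IsSaturated p) : F.HasTerminatingResidualSeries p ↔ (F.IsConstrained p ∧ ∀ (G : Type u) [Group G] (ι : S →* G), F.IsModel p G ι → Cfsg.IsPSolvable p G) := by
  open Cfsg.Agent.Local.FS Cfsg.Agent.Fusion Cfsg.FusionSystem in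
  constructor
  · intro h
    obtain ⟨hc, hA⟩ := Terminating.of_terminating h hS hF
    refine ⟨hc, fun G _ ι hm => ?_⟩
    haveI := hm.1
    obtain ⟨θ, hθ, hker⟩ := exists_model_action hS hF hm
    rw [← hθ] at hA
    haveI : Finite θ.range := Finite.of_surjective θ.rangeRestrict θ.rangeRestrict_surjective
    exact isPSolvable_of_pgroup_quotient θ.ker hker
      (isPSolvable_of_equiv (QuotientGroup.quotientKerEquivRange θ).symm hA)
  · rintro ⟨hc, hG⟩
    obtain ⟨-, Q₁, hQ₁n, hQ₁c⟩ := id hc
    obtain ⟨G, _, ι, hm⟩ := exists_model hS hF hQ₁n hQ₁c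
    have hA := ((psolvable_realized_iff hS hF).1
      ⟨G, inferInstance, hm.1, ι, hG G ι hm, hm.2.1, hm.2.2.1⟩).2
    have hQ := core_normal hS hF (F := F)
    have hQS := hQ.1
    haveI := finite_of_le hQS
    haveI := mulAut_finite_of_le hQS
    have hE := inner_normal_of_normal hS hF hQ
    have hC := Terminating.centralizer_core_le hc
    haveI hN : (((innerFusionSystem F.core).autGroup F.core).subgroupOf (F.autGroup F.core)).Normal :=
      ⟨fun x hx g => conj_mem_sub hE.1.2.2 le_rfl g.2 hx⟩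
    have hQp := hS.to_le hQS
    obtain ⟨U, L, hL⟩ := exists_limit hS hF
    obtain ⟨V, N, hN'⟩ := exists_limit hQp hE.1.1
    have h1 := Cfsg.Agent.S5201.result p hS F hF (innerFusionSystem F.core) hE
      (fun Y hY _ => hY.trans hC)
      (Solv.isPSolvable_map Fact.out hA (QuotientGroup.mk' _) (QuotientGroup.mk'_surjective _)) L hL N hN'
    have hs : SameSys L N := fun P f => by
      constructor
      · rintro ⟨φ, hφ, he⟩; exact ⟨φ, (h1 P) ▸ hφ, he⟩
      · rintro ⟨φ, hφ, he⟩; exact ⟨φ, (h1 P).symm ▸ hφ, he⟩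
    have hV : V = ⊥ := by
      cases hN' with
      | stable _ _ hH _ => rw [← hH]; exact hyperfocal_eq_bot_of_inner hQp fun _ => rfl
      | step _ _ D D' h2 h3 h4 =>
        have hle := le_of_sub (limit_sub h4)
        rw [hyperfocal_eq_bot_of_inner hQp fun _ => rfl] at hle
        exact le_bot_iff.1 hle
    exact Terminating.terminating_of_limit hS hF hL (hs.base.trans hV)

end Cfsg.Agent.S5156
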