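import Cfsg.Statements.S5157
import Cfsg.Agent.Lib.Local.FS.Solvable

set_option autoImplicit false
open Cfsg

namespace Cfsg.Agent.S5157

theorem result {Ω : Type*} [Group Ω] {S : Subgroup Ω} [Finite S] (p : ℕ) [Fact p.Prime] (hS : IsPGroup p S) (F : Cfsg.FusionSystem S) (hF : F.IsSaturated p) : F.IsSolvableSystem ↔ ∃ (n : ℕ) (T : Fin (n + 1) → Subgroup Ω), T 0 = ⊥ ∧ T (Fin.last n) = S ∧ Monotone T ∧ (∀ i, F.StronglyClosed (T i)) ∧ ∀ i : Fin n, ⁅T i.succ, T i.succ⁆ ≤ T (Fin.castSucc i) := by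
  open Cfsg.Agent.Local.FS in
  constructor
  · intro h
    obtain ⟨n, C, hC0, hCn, hmono, hsc, hab⟩ := hasChain_of_solvable hS hF h ⊥ stronglyClosed_bot
    exact ⟨n, fun i => C i, hC0, by simpa using hCn, fun i j hij => hmono hij, fun i => hsc i,
      fun i => by simpa using hab i i.2⟩
  · rintro ⟨n, T, hT0, hTn, hmono, hsc, hab⟩
    refine solvable_of_hasChain hS hF ⟨n, fun i => T ⟨min i n, by omega⟩, ?_, ?_, fun i j hij => hmono ?_,
      fun i => hsc _, fun i hi => ?_⟩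
    · simpa using hT0
    · exact (congrArg T (Fin.ext (by simp))).trans hTn
    · exact Fin.mk_le_mk.2 (min_le_min_right n hij)
    · convert hab ⟨i, hi⟩ using 3 <;> simp [Fin.ext_iff] <;> omega

end Cfsg.Agent.S5157
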