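import Cfsg.Statements.S5158
import Cfsg.Agent.Lib.Local.FS.Solvable

set_option autoImplicit false
open Cfsg

namespace Cfsg.Agent.S5158

theorem result {Ω : Type*} [Group Ω] {S : Subgroup Ω} [Finite S] (p : ℕ) [Fact p.Prime] (hS : IsPGroup p S) (F : Cfsg.FusionSystem S) (hF : F.IsSaturated p) (h : F.IsSolvableSystem) : F.IsConstrained p := by
  open Cfsg.Agent.Local.FS in
  exact constrained_of_hasChain hS hF (hasChain_of_solvable hS hF h ⊥ stronglyClosed_bot)

end Cfsg.Agent.S5158
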