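import Cfsg.Statements.S5159
import Cfsg.Agent.Lib.Local.FS.Solvable
import Cfsg.Agent.Lib.Local.FS.WeakNormal

set_option autoImplicit false
open Cfsg

namespace Cfsg.Agent.S5159

theorem result {Ω : Type*} [Group Ω] {S : Subgroup Ω} [Finite S] (p : ℕ) [Fact p.Prime] (hS : IsPGroup p S) (F : Cfsg.FusionSystem S) (hF : F.IsSaturated p) {T : Subgroup Ω} (E : Cfsg.FusionSystem T) (hE : E.IsNormalIn F p) {Ω' : Type*} [Group Ω'] {S' : Subgroup Ω'} (θ : S →* Ω') (D : Cfsg.FusionSystem S') (hD : F.IsFactorSystem T θ D) : F.IsSolvableSystem ↔ (E.IsSolvableSystem ∧ D.IsSolvableSystem) := by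
  open Cfsg.Agent.Local.FS Cfsg.Agent.Fusion Cfsg.FusionSystem in
  have hT := hE.1.2.2.2.1
  have hTS := hT.1
  haveI := finite_of_le hTS
  haveI := fac_finite hD
  have hTp := hS.to_le hTS
  have hS' := fac_isPGroup hD hS
  have hDs := fac_saturated hS hF hT hD
  constructor
  · intro h
    have hc := hasChain_of_solvable hS hF h ⊥ stronglyClosed_bot
    refine ⟨solvable_of_hasChain hTp hE.1.1 ?_, solvable_of_hasChain hS' hDs (hasChain_factor hT hD hS hF hc)⟩
    obtain ⟨n, C, hC0, hCn, hmono, hsc, hab⟩ := hc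
    refine ⟨n, fun i => C i ⊓ T, by show C 0 ⊓ T = ⊥; rw [hC0, bot_inf_eq], by show C n ⊓ T = T; rw [hCn, inf_eq_right.2 hTS],
      fun i j hij => inf_le_inf_right T (hmono hij), fun i => ?_, fun i hi => ?_⟩
    · refine stronglyClosed_iff.2 ⟨inf_le_right, fun P f hP hf x hx => ⟨?_, hf.mem hx⟩⟩
      exact stronglyClosed_map (hsc i) (hf.of_sub hE.1.2.2.1) hx (hP hx).1
    · exact le_inf ((Subgroup.commutator_mono inf_le_left inf_le_left).trans (hab i hi))
        (Subgroup.commutator_le.2 fun a ha b hb =>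
          T.mul_mem (T.mul_mem (T.mul_mem ha.2 hb.2) (T.inv_mem ha.2)) (T.inv_mem hb.2))
  · rintro ⟨h1, h2⟩
    refine solvable_of_hasChain hS hF ?_
    obtain ⟨n, C, hC0, hCn, hmono, hsc, hab⟩ := hasChain_of_solvable hTp hE.1.1 h1 ⊥ stronglyClosed_bot
    obtain ⟨m, K, hK0, hKm, hKmono, hKsc, hKab⟩ := hasChain_of_solvable hS' hDs h2 ⊥ stronglyClosed_bot
    let C' : ℕ → Subgroup Ω := fun i =>
      { carrier := {x | x ∈ T ∧ ∀ a ∈ F.autGroup T, av a x ∈ C i}
        one_mem' := ⟨T.one_mem, fun a ha => by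
          rw [(map_of_mem_autGroup hTS ha).map_one]; exact (C i).one_mem⟩
        mul_mem' := fun {x y} hx hy => ⟨T.mul_mem hx.1 hy.1, fun a ha => by
          rw [(map_of_mem_autGroup hTS ha).map_mul hx.1 hy.1]; exact (C i).mul_mem (hx.2 a ha) (hy.2 a ha)⟩
        inv_mem' := fun {x} hx => ⟨T.inv_mem hx.1, fun a ha => by
          rw [(map_of_mem_autGroup hTS ha).map_inv hx.1]; exact (C i).inv_mem (hx.2 a ha)⟩ }
    have hC' : ∀ i, F.StronglyClosed (C' i) := by
      intro i
      refine stronglyClosed_iff.2 ⟨fun x hx => hTS hx.1, fun P f hP hf x hx => ?_⟩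
      obtain ⟨α, hα, g, hg, hge⟩ := frattini_map hE.1.2.2 (fun y hy => (hP hy).1) hf
      refine ⟨stronglyClosed_map hT hf hx (hP hx).1, fun a ha => ?_⟩
      have haα := mul_mem ha hα
      obtain ⟨k, hk, hke⟩ := inv_map hE.1.2.2 hg haα
      have h3 := stronglyClosed_map (hsc i) hk (mem_im_of_mem (f := av (a * α)) hx) ((hP hx).2 _ haα)
      rw [hke x hx, av_mul _ _ (hg.mem hx), ← hge x hx] at h3
      exact h3
    let K' : ℕ → Subgroup Ω := fun j => preimageAlong θ (K j)
    have hK' : ∀ j, F.StronglyClosed (K' j) := fun j => fac_stronglyClosed_pre hS hF hT hD (hKsc j)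
    refine ⟨n + m, fun i => if i ≤ n then C' i else K' (i - n), ?_, ?_, monotone_nat_of_le_succ fun i => ?_,
      fun i => ?_, fun i hi => ?_⟩
    · dsimp only
      rw [if_pos (Nat.zero_le n)]
      refine (Subgroup.eq_bot_iff_forall _).2 fun x hx => ?_
      have h3 := hx.2 1 (one_mem _)
      rwa [av_one hx.1, hC0, Subgroup.mem_bot] at h3
    all_goals
      have hCn' : C' n = T := le_antisymm (fun x hx => hx.1) fun x hx =>
        ⟨hx, fun a _ => hCn.ge (av_mem a hx)⟩
      have hK0' : K' 0 = T := by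
        refine le_antisymm (fun x hx => ?_) (fac_le_pre hD)
        obtain ⟨hxS, hx'⟩ := fac_mem_pre.1 hx
        rw [hK0, Subgroup.mem_bot] at hx'
        exact (fac_ue_eq_one hD hxS).1 hx'
    · dsimp only
      rcases Nat.eq_zero_or_pos m with rfl | hm
      · simp only [Nat.add_zero, if_pos le_rfl]
        rw [hCn', ← hK0']
        show preimageAlong θ (K 0) = S
        rw [hKm, fac_pre_top hD]
      · rw [if_neg (by omega), Nat.add_sub_cancel_left]
        show preimageAlong θ (K m) = S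
        rw [hKm, fac_pre_top hD]
    · rcases Nat.lt_trichotomy i n with h3 | h3 | h3
      · rw [if_pos h3.le, if_pos (show i + 1 ≤ n by omega)]
        exact fun x hx => ⟨hx.1, fun a ha => hmono (Nat.le_succ i) (hx.2 a ha)⟩
      · rw [if_pos h3.le, if_neg (by omega), h3, hCn']
        exact fac_le_pre hD
      · rw [if_neg (by omega), if_neg (by omega), show i + 1 - n = (i - n) + 1 by omega]
        exact fun x hx => fac_mem_pre.2 ⟨(fac_mem_pre.1 hx).1, hKmono (Nat.le_succ _) (fac_mem_pre.1 hx).2⟩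
    · dsimp only
      split_ifs
      · exact hC' i
      · exact hK' _
    · dsimp only
      by_cases h3 : i < n
      · rw [if_pos h3.le, if_pos (show i + 1 ≤ n by omega)]
        refine Subgroup.commutator_le.2 fun x hx y hy => ⟨?_, fun a ha => ?_⟩
        · exact T.mul_mem (T.mul_mem (T.mul_mem hx.1 hy.1) (T.inv_mem hx.1)) (T.inv_mem hy.1)
        · have ham := map_of_mem_autGroup hTS ha
          rw [commutatorElement_def, ham.map_mul (T.mul_mem (T.mul_mem hx.1 hy.1) (T.inv_mem hx.1)) (T.inv_mem hy.1),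
            ham.map_mul (T.mul_mem hx.1 hy.1) (T.inv_mem hx.1), ham.map_mul hx.1 hy.1, ham.map_inv hx.1,
            ham.map_inv hy.1, ← commutatorElement_def]
          exact hab i h3 (Subgroup.commutator_mem_commutator (hx.2 a ha) (hy.2 a ha))
      · have hmem : ∀ j < m, ⁅K' (j + 1), K' (j + 1)⁆ ≤ K' j := by
          intro j hj
          refine Subgroup.commutator_le.2 fun x hx y hy => ?_
          obtain ⟨hxS, hx'⟩ := fac_mem_pre.1 hx
          obtain ⟨hyS, hy'⟩ := fac_mem_pre.1 hy
          refine fac_mem_pre.2 ⟨S.mul_mem (S.mul_mem (S.mul_mem hxS hyS) (S.inv_mem hxS)) (S.inv_mem hyS), ?_⟩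
          rw [commutatorElement_def, ue_mul (S.mul_mem (S.mul_mem hxS hyS) (S.inv_mem hxS)) (S.inv_mem hyS),
            ue_mul (S.mul_mem hxS hyS) (S.inv_mem hxS), ue_mul hxS hyS, ue_inv hxS, ue_inv hyS,
            ← commutatorElement_def]
          exact hKab j hj (Subgroup.commutator_mem_commutator hx' hy')
        rcases Nat.eq_or_lt_of_not_lt h3 with h4 | h4
        · subst h4
          rw [if_neg (by omega), if_pos le_rfl, Nat.add_sub_cancel_left, hCn', ← hK0']
          exact hmem 0 (by omega)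
        · rw [if_neg (by omega), if_neg (by omega), show i + 1 - n = (i - n) + 1 by omega]
          exact hmem _ (by omega)

end Cfsg.Agent.S5159
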