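import Cfsg.Statements.S5160
import Cfsg.Agent.Lib.Local.FS.Simplicity
import Cfsg.Agent.Lib.Local.FS.Group

set_option autoImplicit false
open Cfsg

namespace Cfsg.Agent.S5160

theorem result {G : Type*} [Group G] [Finite G] (p : ℕ) [Fact p.Prime] (S : Sylow p G) (hS1 : (S : Subgroup G) ≠ ⊥) (ha : ∀ T : Subgroup G, (Cfsg.groupFusionSystem (S : Subgroup G)).StronglyClosed T → T = ⊥ ∨ T = (S : Subgroup G)) (hb : Cfsg.autInducedBy ⊤ (S : Subgroup G) = ⨆ (R : Subgroup G) (_ : (Cfsg.groupFusionSystem (S : Subgroup G)).IsFullyNormalized R ∧ (Cfsg.groupFusionSystem (S : Subgroup G)).IsRadical p R ∧ (Cfsg.groupFusionSystem (S : Subgroup G)).IsCentric R), Cfsg.autInducedBy (Subgroup.closure {g : G | g ∈ Subgroup.normalizer (R : Set G) ∧ ∃ k : ℕ, orderOf g = p ^ k}) (S : Subgroup G)) : (Cfsg.groupFusionSystem (S : Subgroup G)).IsSimple p := by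
  open Cfsg.Agent.Local.FS Cfsg.Agent.Fusion Cfsg.FusionSystem in
  set F := Cfsg.groupFusionSystem (S : Subgroup G) with hFdef
  have hF : F.IsSaturated p := group_saturated (sylIn_top S)
  have hS : IsPGroup p ↥(S : Subgroup G) := S.2
  refine ⟨hF, hS1, fun T E hEn => ?_⟩
  obtain ⟨⟨hEs, -, hinv⟩, -⟩ := hEn
  rcases ha T hinv.2.1 with rfl | rfl
  · exact Or.inl rfl
  refine Or.inr ⟨rfl, fun P => Set.Subset.antisymm (hinv.1 P) fun φ hφ => ?_⟩
  have htop : F.autGroup (S : Subgroup G) ≤ E.autGroup (S : Subgroup G) := by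
    intro α hα
    have hαG : α ∈ Cfsg.autInducedBy ⊤ (S : Subgroup G) := by
      obtain ⟨-, -, g, hg⟩ := map_group_iff.1 (map_of_mem_autGroup le_rfl hα)
      exact mem_autInducedBy.2 ⟨g, Subgroup.mem_top _, hg⟩
    rw [hb] at hαG
    suffices hle : (⨆ (R : Subgroup G) (_ : F.IsFullyNormalized R ∧ F.IsRadical p R ∧ F.IsCentric R),
        Cfsg.autInducedBy (Subgroup.closure {g : G | g ∈ Subgroup.normalizer (R : Set G) ∧ ∃ k : ℕ, orderOf g = p ^ k})
          (S : Subgroup G)) ≤ E.autGroup (S : Subgroup G) from hle hαG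
    refine iSup₂_le fun R hR => ?_
    obtain ⟨hRn, -, hRc⟩ := hR
    haveI := mulAut_finite_of_le hRn.1
    intro β hβ
    obtain ⟨g, hg, hgβ⟩ := mem_autInducedBy.1 hβ
    have key : g ∈ Subgroup.normalizer (R : Set G) ∧
        ∃ γ ∈ E.autGroup R, ∀ x ∈ R, av γ x = g * x * g⁻¹ := by
      clear hgβ
      induction hg using Subgroup.closure_induction with
      | mem g hg =>
        obtain ⟨hgn, k, hk⟩ := hg
        obtain ⟨γ, hγ, hγK⟩ := exists_aut_conj hgn
        refine ⟨hgn, γ, ?_, hγ⟩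
        have hγF : γ ∈ F.autGroup R :=
          mem_autGroup_of_map (map_group_iff.2 ⟨hRn.1, fun x hx => hRn.1 (av_mem γ hx), g, hγ⟩)
        have hpow : ∀ n : ℕ, ∀ x ∈ R, av (γ ^ n) x = g ^ n * x * (g ^ n)⁻¹ := by
          intro n
          induction n with
          | zero => intro x hx; simp [av_one hx]
          | succ n ih =>
            intro x hx
            rw [pow_succ', av_mul _ _ hx, hγ _ (av_mem _ hx), ih x hx, pow_succ']; group
        have hγp : IsPGroup p ↥(Subgroup.zpowers γ) := by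
          obtain ⟨j, -, hj⟩ := (Nat.dvd_prime_pow Fact.out).1 (orderOf_dvd_of_pow_eq_one
            (show γ ^ p ^ k = 1 from aut_ext fun x hx => by
              rw [hpow _ x hx, ← hk, pow_orderOf_eq_one, av_one hx]; group))
          exact IsPGroup.of_card ((Nat.card_zpowers _).trans hj)
        obtain ⟨χ, hχ, hle⟩ := (fa_iff.1 (fc_fa_of_fn hS hF hRn).2).2.conj_le hγp
          (Subgroup.zpowers_le.2 hγF)
        have h1 : χ * γ * χ⁻¹ ∈ E.autGroup R :=
          autInducedBy_le_autGroup hRn.1 (hle (conj_mem_cj (Subgroup.mem_zpowers _)))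
        have h2 := conj_mem_autGroup hinv hRn.1 (Subgroup.inv_mem _ hχ) h1
        simpa [mul_assoc] using h2
      | one =>
        exact ⟨Subgroup.one_mem _, 1, Subgroup.one_mem _, fun x hx => by rw [av_one hx]; simp⟩
      | mul a b _ _ iha ihb =>
        obtain ⟨han, γ, hγ, hγa⟩ := iha
        obtain ⟨hbn, δ, hδ, hδb⟩ := ihb
        refine ⟨Subgroup.mul_mem _ han hbn, γ * δ, Subgroup.mul_mem _ hγ hδ, fun x hx => ?_⟩
        rw [av_mul _ _ hx, hγa _ (av_mem δ hx), hδb x hx]; group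
      | inv a _ iha =>
        obtain ⟨han, γ, hγ, hγa⟩ := iha
        refine ⟨Subgroup.inv_mem _ han, γ⁻¹, Subgroup.inv_mem _ hγ, fun x hx => ?_⟩
        have := hγa _ (av_mem γ⁻¹ hx)
        rw [av_av_inv γ hx] at this
        calc av γ⁻¹ x = a⁻¹ * (a * av γ⁻¹ x * a⁻¹) * a⁻¹⁻¹ := by group
          _ = _ := by rw [← this]
    obtain ⟨hgn, γ, hγ, hγg⟩ := key
    have hagree : ∀ x ∈ R, av β x = av γ x := fun x hx => (hgβ x (hRn.1 hx)).trans (hγg x hx).symm
    refine mem_of_restrict_centric hS hF hEs hinv.1 ?_ hRc (fun x hx => hagree x hx ▸ av_mem γ hx)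
      ((map_of_mem_autGroup hRn.1 hγ).congr fun x hx => (hagree x hx).symm)
    exact mem_autGroup_of_map (map_group_iff.2 ⟨le_rfl, fun x hx => av_mem β hx, g, hgβ⟩)
  obtain ⟨α, hα, g, hg, he⟩ := frattini_map hinv (F.le_of_mem hφ).1 (map_of_mem hφ)
  exact mem_iff_map.2 ((hg.comp (map_of_mem_autGroup le_rfl (htop hα)) fun x hx => hg.mem hx).congr
    fun x hx => (he x hx).symm)

end Cfsg.Agent.S5160
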