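import Cfsg.Statements.S5165
import Cfsg.Agent.Lib.Local.FS.SimpleAlt

set_option autoImplicit false
open Cfsg

namespace Cfsg.Agent.S5165

theorem result (n p : ℕ) (hn : 6 ≤ n) [Fact p.Prime] (hnp : p ^ 2 ≤ n) (hb : n % p ≤ 1) (S : Sylow p (alternatingGroup (Fin n))) : (Cfsg.groupFusionSystem (S : Subgroup (alternatingGroup (Fin n)))).IsSimple p := by
  haveI : NeZero p := ⟨(Fact.out : p.Prime).ne_zero⟩
  exact Cfsg.Agent.Local.FS.AltSimple.alt_simple n hn hnp hb S

end Cfsg.Agent.S5165
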