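import Cfsg.Statements.S5169
import Cfsg.Agent.Lib.Local.FS.SimpleM23

set_option autoImplicit false
open Cfsg

namespace Cfsg.Agent.S5169

theorem result (S : Sylow 2 Cfsg.Spor.M23) : (Cfsg.groupFusionSystem (S : Subgroup Cfsg.Spor.M23)).IsSimple 2 := by
  exact Local.FS.Mathieu.m23_two_simple S

end Cfsg.Agent.S5169
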