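import Cfsg.Statements.S5171
import Cfsg.Agent.Lib.Local.FS.SimplePSp

set_option autoImplicit false
open Cfsg

namespace Cfsg.Agent.S5171

theorem result {K : Type*} [Field K] [Fintype K] (p : ℕ) [Fact p.Prime] [CharP K p] (m : ℕ) (hm : 2 ≤ m) (hex : m = 2 → 3 ≤ Fintype.card K) (S : Sylow p (Cfsg.PSp m K)) : (Cfsg.groupFusionSystem (S : Subgroup (Cfsg.PSp m K))).IsSimple p := by
  exact Cfsg.Agent.Local.FS.PSpSimple.psp_simple hm hex S

end Cfsg.Agent.S5171
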