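import Cfsg.Statements.S5172
import Cfsg.Agent.Lib.Local.FS.SimplePSUn
import Cfsg.Agent.Lib.Classical.UnitaryForm

set_option autoImplicit false
open Cfsg

namespace Cfsg.Agent.S5172

theorem result {K : Type*} [Field K] [Fintype K] (p q : ℕ) [Fact p.Prime] [CharP K p] (hK : Fintype.card K = q ^ 2) (n : ℕ) (hn : 4 ≤ n) (S : Sylow p (Cfsg.PSU n K q)) : (Cfsg.groupFusionSystem (S : Subgroup (Cfsg.PSU n K q))).IsSimple p := by
  classical
  obtain ⟨p', e', τ, -, -, -, -, hτ⟩ := Cfsg.Agent.Classical.exists_usigma hK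
  letI : StarRing K := Cfsg.Agent.Small.Hermitian.starRingOfInvolution (τ : K →+* K) hτ.involutive
  have hstar : ∀ x : K, star x = x ^ q := fun x => hτ.apply_eq x
  exact Cfsg.Agent.Local.FS.PSUnSimple.psu_simple hstar hK hn S

end Cfsg.Agent.S5172
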