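import Cfsg.Statements.S5185
import Cfsg.Agent.Lib.Local.FS.EssentialSL2
import Cfsg.Agent.Lib.Local.FS.Aut
import Cfsg.Agent.Lib.Local.FS.Essential

set_option autoImplicit false
universe u
open Cfsg

namespace Cfsg.Agent.S5185

theorem result {Ω : Type u} [Group Ω] {S : Subgroup Ω} [Finite S] (p : ℕ) [Fact p.Prime] (hS : IsPGroup p S)
    (F : Cfsg.FusionSystem S) (hF : F.IsSaturated p) (H : Subgroup Ω) (hH : F.IsEssential p H) (hcard : Nat.card H = p ^ 2) :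
    Cfsg.IsElementaryAbelian p H ∧
      ∃ K : Subgroup ↥(F.autGroup H), Nonempty (↥K ≃* Matrix.SpecialLinearGroup (Fin 2) (ZMod p)) := by
  obtain ⟨hC, hn, hN, E, hE⟩ := hH
  haveI := Cfsg.Agent.Local.FS.finite_of_le hn.1
  haveI := Cfsg.Agent.Local.FS.mulAut_finite_of_le hn.1
  haveI := hN
  have hc : ∀ x y : H, x * y = y * x := (IsPGroup.isMulCommutative_of_card_eq_prime_sq hcard).is_comm.comm
  have hI : (Inn ↥H).subgroupOf (F.autGroup H) = ⊥ := by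
    rw [eq_bot_iff]
    intro a ha
    obtain ⟨g, hg⟩ := Subgroup.mem_subgroupOf.1 ha
    rw [Subgroup.mem_bot]
    refine Subtype.ext (MulEquiv.ext fun x => ?_)
    rw [← hg]
    show g * x * g⁻¹ = x
    rw [hc g x, mul_inv_cancel_right]
  obtain ⟨e, he⟩ : ∃ e : ↥(F.autGroup H) ≃* ↥(F.autGroup H) ⧸ (Inn ↥H).subgroupOf (F.autGroup H), True :=
    ⟨MulEquiv.ofBijective (QuotientGroup.mk' _) ⟨by
      rw [← MonoidHom.ker_eq_bot_iff, QuotientGroup.ker_mk', hI], QuotientGroup.mk'_surjective _⟩, trivial⟩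
  obtain ⟨a, b, ha, hb, hab⟩ := Cfsg.Agent.Local.FS.two_noncommuting hE
  obtain ⟨hexp, hK⟩ := Cfsg.Agent.Local.FS.exists_sl2_of_noncommuting hcard (F.autGroup H)
    ⟨e.symm a, e.symm b, by rw [MulEquiv.orderOf_eq]; exact ha, by rw [MulEquiv.orderOf_eq]; exact hb,
      fun h => hab (e.symm.injective (by rw [map_mul, map_mul, h]))⟩
  exact ⟨⟨⟨⟨hc⟩⟩, fun x hx => congrArg Subtype.val (hexp ⟨x, hx⟩)⟩, hK⟩

end Cfsg.Agent.S5185
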