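import Cfsg.Statements.S5188
import Cfsg.Agent.Lib.Local.FS.EssentialFourthCases

set_option autoImplicit false
universe u
open Cfsg

namespace Cfsg.Agent.S5188

/-- Let F be a saturated fusion system over a finite p-group S and H an essential subgroup of order p⁴. Then H is isomorphic to one of: C_p⁴ or C_{p²} × C_p × C_p (any p); C_{p²} × C_{p²} with p ∈ {2, 3}; p^{1+2}_+ × C_p with p odd (the direct product of an extraspecial group of order p³ and exponent p with a group of order p); Q₈ × C₂ (p = 2); or the non-abelian group of order p⁴ of exponent p² whose centre is cyclic of order p² (the central product of an extraspecial group of order p³ with a cyclic group of order p²; for p = 2 this is D₈ ∘ C₄). -/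
theorem result {Ω : Type u} [Group Ω] {S : Subgroup Ω} [Finite S] (p : ℕ) [Fact p.Prime] (hS : IsPGroup p S)
    (F : Cfsg.FusionSystem S) (hF : F.IsSaturated p) (H : Subgroup Ω) (hH : F.IsEssential p H) (hcard : Nat.card H = p ^ 4) :
    Cfsg.IsElementaryAbelian p H ∨
      Nonempty (↥H ≃* Multiplicative (ZMod (p ^ 2) × ZMod p × ZMod p)) ∨
      ((p = 2 ∨ p = 3) ∧ Nonempty (↥H ≃* Multiplicative (ZMod (p ^ 2) × ZMod (p ^ 2)))) ∨
      (Odd p ∧ ∃ (E : Type) (_ : Group E) (_ : Finite E), Cfsg.IsExtraspecial p E ∧ Nat.card E = p ^ 3 ∧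
        (∀ x : E, x ^ p = 1) ∧ Nonempty (↥H ≃* E × Multiplicative (ZMod p))) ∨
      (p = 2 ∧ Nonempty (↥H ≃* QuaternionGroup 2 × Multiplicative (ZMod 2))) ∨
      (¬ IsMulCommutative ↥H ∧ (∀ x ∈ H, x ^ (p ^ 2) = 1) ∧ IsCyclic ↥(Subgroup.center ↥H) ∧
        Nat.card (Subgroup.center ↥H) = p ^ 2) := by
  classical
  have hp := (Fact.out : p.Prime)
  obtain ⟨hC, hn, hN, E, hE⟩ := hH
  haveI := Cfsg.Agent.Local.FS.finite_of_le hn.1
  haveI := Cfsg.Agent.Local.FS.mulAut_finite_of_le hn.1
  haveI := hN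
  have hHp : IsPGroup p H := IsPGroup.of_card hcard
  have hF' : Cfsg.Agent.Local.FS.FlagFree p ↥H := by
    intro L1 L2 L3 h1 h2 h3 h12 h23 c1 c2 c3 c4
    haveI := h1
    haveI := h2
    haveI := h3
    have hA : IsPGroup p (commutator ↥(F.autGroup H)) := by
      have hle : (commutator ↥(F.autGroup H)).map (F.autGroup H).subtype ≤ commutator (MulAut H) := by
        rw [Subgroup.map_subtype_commutator, commutator_def]
        exact Subgroup.commutator_mono le_top le_top
      exact ((Cfsg.Agent.Local.FS.isPGroup_commutator_flag hHp L1 L2 L3 h12 h23 c1 c2 c3 c4).to_le hle).of_equiv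
        (Subgroup.equivMapOfInjective _ _ (F.autGroup H).subtype_injective).symm
    refine Cfsg.Agent.Local.FS.not_stronglyPEmbedded ?_ hE
    have h : commutator (↥(F.autGroup H) ⧸ (Cfsg.Inn ↥H).subgroupOf (F.autGroup H)) =
        (commutator ↥(F.autGroup H)).map (QuotientGroup.mk' _) := by
      rw [commutator_def, commutator_def, Subgroup.map_commutator,
        Subgroup.map_top_of_surjective _ (QuotientGroup.mk'_surjective _)]
    rw [h]
    exact hA.map _
  by_cases hab : ∀ x y : ↥H, x * y = y * x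
  · letI : CommGroup H := { (inferInstance : Group H) with mul_comm := hab }
    obtain ⟨f, hf⟩ : ∃ f : H →* H, f = powMonoidHom p := ⟨_, rfl⟩
    have hfx : ∀ x, f x = x ^ p := fun x => by rw [hf]; rfl
    by_cases hexp : ∀ x : H, x ^ p = 1
    · exact Or.inl ⟨⟨⟨hab⟩⟩, fun x hx => congrArg Subtype.val (hexp ⟨x, hx⟩)⟩
    have hprod := f.ker.card_mul_index
    rw [Subgroup.index_ker, hcard] at hprod
    obtain ⟨i, -, hi⟩ := (Nat.dvd_prime_pow hp).1 (hcard ▸ f.range.card_subgroup_dvd_card)
    have hi0 : i ≠ 0 := fun h => hexp fun x => by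
      rw [h, pow_zero, Subgroup.card_eq_one] at hi
      rw [← hfx]
      exact Subgroup.mem_bot.1 (hi ▸ ⟨x, rfl⟩)
    by_cases hi1 : i = 1
    · rw [hi1, pow_one] at hi
      rw [hi, pow_succ p 3] at hprod
      exact Or.inr (Or.inl (Cfsg.Agent.Local.FS.iso_two_one_one (H := H) hab hcard (R := f.range) (K := f.ker)
        (fun x => ⟨x, hfx x⟩) hi (fun x => by rw [MonoidHom.mem_ker, hfx])
        (Nat.eq_of_mul_eq_mul_right hp.pos hprod)))
    have hrange : f.range ≤ frattini H := by
      rintro _ ⟨x, rfl⟩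
      rw [hfx]
      exact Cfsg.Agent.Solv.pow_mem_frattini hHp x
    have hrk : (frattini ↥H).index ≤ p ^ 2 := by
      have h1 := (frattini ↥H).card_mul_index
      rw [hcard] at h1
      have h2 : p ^ 2 ≤ Nat.card (frattini ↥H) :=
        le_trans (hi ▸ Nat.pow_le_pow_right hp.pos (by omega)) (Subgroup.card_le_of_le hrange)
      refine Nat.le_of_mul_le_mul_left (c := p ^ 2) ?_ (pow_pos hp.pos 2)
      rw [← pow_add, ← h1]
      exact Nat.mul_le_mul_right _ h2
    have hI : (Cfsg.Inn ↥H).subgroupOf (F.autGroup H) = ⊥ := by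
      rw [eq_bot_iff]
      intro a ha
      obtain ⟨g, hg⟩ := Subgroup.mem_subgroupOf.1 ha
      rw [Subgroup.mem_bot]
      refine Subtype.ext (MulEquiv.ext fun x => ?_)
      rw [← hg]
      show g * x * g⁻¹ = x
      rw [mul_comm g x, mul_inv_cancel_right]
    obtain ⟨e, -⟩ : ∃ e : ↥(F.autGroup H) ≃* ↥(F.autGroup H) ⧸ (Cfsg.Inn ↥H).subgroupOf (F.autGroup H), True :=
      ⟨MulEquiv.ofBijective (QuotientGroup.mk' _) ⟨by
        rw [← MonoidHom.ker_eq_bot_iff, QuotientGroup.ker_mk', hI], QuotientGroup.mk'_surjective _⟩, trivial⟩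
    rcases Cfsg.Agent.Local.FS.rank_two_cases hHp hrk (F.autGroup H)
      (Cfsg.Agent.Local.FS.isStronglyPEmbedded_map e.symm hE) with ⟨-, hc⟩ | ⟨hp3, k, ⟨e'⟩⟩
    · rw [hcard] at hc
      exact absurd (Nat.pow_right_injective hp.two_le hc) (by norm_num)
    · have hk : k = 2 := by
        have h1 := Nat.card_congr (e'.toEquiv.trans Multiplicative.toAdd)
        rw [hcard, Nat.card_prod, Nat.card_zmod, ← pow_add] at h1
        have := Nat.pow_right_injective hp.two_le h1
        omega
      subst hk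
      refine Or.inr (Or.inr (Or.inl ⟨?_, ⟨e'⟩⟩))
      have := hp.two_le
      omega
  · obtain ⟨i, hi4, hi⟩ := (Nat.dvd_prime_pow hp).1 (hcard ▸ (Subgroup.center ↥H).card_subgroup_dvd_card)
    haveI : Nontrivial ↥H := by
      refine Finite.one_lt_card_iff_nontrivial.1 ?_
      rw [hcard]; exact Nat.one_lt_pow (by norm_num) hp.one_lt
    haveI := hHp.center_nontrivial
    have hi0 : i ≠ 0 := fun h => by
      have := (Finite.one_lt_card : 1 < Nat.card (Subgroup.center ↥H))
      rw [hi, h, pow_zero] at this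
      exact lt_irrefl _ this
    have hi1 : i ≠ 1 := fun h =>
      Cfsg.Agent.Local.FS.not_flagFree_center_prime hcard (by rw [hi, h, pow_one]) hF'
    have hi2 : i = 2 := by
      by_contra h2
      refine hab fun x y => ?_
      by_cases hx : x ∈ Subgroup.center ↥H
      · exact (Subgroup.mem_center_iff.1 hx y).symm
      have htop : Subgroup.zpowers x ⊔ Subgroup.center ↥H = ⊤ := by
        refine Subgroup.eq_top_of_le_card _ ?_
        rw [hcard, pow_succ p 3]
        refine le_trans (Nat.mul_le_mul_right p (hi ▸ Nat.pow_le_pow_right hp.pos (by omega)))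
          (Cfsg.Agent.Local.FS.le_card_step hHp (lt_of_le_not_ge le_sup_right fun h => hx ?_))
        exact h (Subgroup.mem_sup_left (Subgroup.mem_zpowers x))
      exact (Subgroup.mem_centralizer_singleton_iff.1 ((sup_le
        (Subgroup.zpowers_le.2 (Subgroup.mem_centralizer_singleton_iff.2 rfl)) (Subgroup.center_le_centralizer _) :
          Subgroup.zpowers x ⊔ Subgroup.center ↥H ≤ Subgroup.centralizer ({x} : Set ↥H))
        (htop.ge (Subgroup.mem_top y)))).symm
    rw [hi2] at hi
    obtain ⟨d⟩ := Cfsg.Agent.Local.FS.exists_fourthData hcard hab hi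
    have hnc : ¬ IsMulCommutative ↥H := fun h => hab h.is_comm.comm
    by_cases hcyc : IsCyclic ↥(Subgroup.center ↥H)
    · exact Or.inr (Or.inr (Or.inr (Or.inr (Or.inr ⟨hnc,
        fun x hx => congrArg Subtype.val (d.exponent_sq hF' hcyc ⟨x, hx⟩), hcyc, hi⟩))))
    have hel : ∀ z ∈ Subgroup.center ↥H, z ^ p = 1 := fun z hz => by
      by_contra hne
      refine hcyc (isCyclic_of_orderOf_eq_card (⟨z, hz⟩ : Subgroup.center ↥H) ?_)
      rw [hi]
      refine orderOf_eq_prime_pow (n := 1) (fun h => hne ?_) ?_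
      · simpa using congrArg Subtype.val h
      · exact hi ▸ pow_card_eq_one'
    rcases hp.eq_two_or_odd' with rfl | hodd
    · exact Or.inr (Or.inr (Or.inr (Or.inr (Or.inl ⟨rfl, Cfsg.Agent.Local.FS.quaternion_case d hF' hel⟩))))
    · exact Or.inr (Or.inr (Or.inr (Or.inl ⟨hodd, Cfsg.Agent.Local.FS.extraspecial_case d
        (d.exponent_odd hF' (by rintro rfl; exact absurd hodd (by decide)) hel)⟩)))

end Cfsg.Agent.S5188
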