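import Cfsg.Statements.S5190
import Cfsg.Agent.Lib.Solv.FourFree.W.Systems
import Cfsg.Agent.S2761

set_option autoImplicit false
universe u
open Cfsg

namespace Cfsg.Agent.S5190

/-- Let F be a saturated fusion system over a nontrivial finite p-group S that is Qd(p)-free: no model of the normalizer system of a fully normalized centric subgroup has a section isomorphic to Qd(p), the semidirect product of an elementary abelian group of order p² by SL(2,p) acting naturally. Then some nontrivial characteristic subgroup of S is normal in F. -/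
theorem result {Ω : Type u} [Group Ω] {S : Subgroup Ω} [Finite S] (p : ℕ) [Fact p.Prime] (hS : IsPGroup p S) (hS1 : S ≠ ⊥)
    (F : Cfsg.FusionSystem S) (hF : F.IsSaturated p)
    (hfree : ∀ Q : Subgroup Ω, F.IsCentric Q → F.IsFullyNormalized Q →
      ∀ E : Cfsg.FusionSystem (Cfsg.FusionSystem.normalizerIn S Q), F.IsNormalizerSystem Q E →
        ∀ (G : Type u) (_ : Group G) (ι : ↥(Cfsg.FusionSystem.normalizerIn S Q) →* G),
          E.IsModel p G ι → ¬ Cfsg.Involves ↥(Cfsg.qd p) G) :
    ∃ W : Subgroup Ω, W ≤ S ∧ W ≠ ⊥ ∧ (W.subgroupOf S).Characteristic ∧ F.IsNormal W := by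
  open Cfsg.Agent.Local.FS Cfsg.FusionSystem in
  by_cases hp : p = 2
  · subst hp
    have hfree4 : F.IsSectionFree 2 (Equiv.Perm (Fin 4)) := fun Q hfn hQc E hE L _ ι hL h => by
      haveI := hL.1
      obtain ⟨K, f, hf⟩ := Agent.Fusion.involves_exists_surjective h
      obtain ⟨e⟩ := Cfsg.Agent.S2761.result
      exact hfree Q hQc hfn E hE L inferInstance ι hL
        (Agent.Fusion.involves_of_surjective (e.symm.toMonoidHom.comp f) (e.symm.surjective.comp hf))
    refine ⟨(Agent.Solv.FourFree.wSub ↥S).map S.subtype, Subgroup.map_subtype_le _, ?_, ?_,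
      Agent.Solv.FourFree.wSub_normal_system hS hF hfree4⟩
    · haveI := (Subgroup.nontrivial_iff_ne_bot S).2 hS1
      rw [Ne, Subgroup.map_eq_bot_iff_of_injective _ S.subtype_injective]
      exact Agent.Solv.FourFree.wSub_ne_bot hS
    · rw [Subgroup.subgroupOf, Subgroup.comap_map_eq_self_of_injective S.subtype_injective]
      exact Agent.Solv.FourFree.wSub_char
  · have hfree' : F.IsSectionFree p ↥(Cfsg.qd p) := fun Q hfn hQc E hE L _ ι hL =>
      hfree Q hQc hfn E hE L inferInstance ι hL
    obtain ⟨h1, h2⟩ := Agent.Fusion.isCharPFunctor_kInfLower.{u} p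
    refine ⟨inducedFunctor (fun (Q : Type u) [Group Q] => kInfLower Q) S, Subgroup.map_subtype_le _, ?_, ?_,
      kInfLower_normal_system hp hS hF hfree'⟩
    · haveI := (Subgroup.nontrivial_iff_ne_bot S).2 hS1
      rw [Ne, inducedFunctor, Subgroup.map_eq_bot_iff_of_injective _ S.subtype_injective]
      exact h1 S hS inferInstance
    · rw [inducedFunctor, Subgroup.subgroupOf, Subgroup.comap_map_eq_self_of_injective S.subtype_injective]
      exact Subgroup.characteristic_iff_map_eq.2 fun φ => h2 S S hS φ

end Cfsg.Agent.S5190
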