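import Cfsg.Statements.S5191
import Cfsg.Agent.Lib.Fusion.Basic

set_option autoImplicit false
open Cfsg Cfsg.Agent.Fusion

namespace Cfsg.Agent.S5191

theorem result {G : Type*} [Group G] [Finite G] {p : ℕ} [Fact p.Prime]
    [hN : (Cfsg.pPrimeCore p G).Normal] (S : Sylow p G) (P : Subgroup G) (hP : P ≤ (S : Subgroup G))
    (γ : G ⧸ Cfsg.pPrimeCore p G)
    (hγ : ∀ x ∈ P, γ * QuotientGroup.mk x * γ⁻¹ ∈ ((S : Subgroup G).map (QuotientGroup.mk' (Cfsg.pPrimeCore p G)))) :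
    ∃ g : G, ∀ x ∈ P, g * x * g⁻¹ ∈ S ∧
      (QuotientGroup.mk (g * x * g⁻¹) : G ⧸ Cfsg.pPrimeCore p G) = γ * QuotientGroup.mk x * γ⁻¹ := by
  obtain ⟨g₀, rfl⟩ := QuotientGroup.mk_surjective γ
  set N := Cfsg.pPrimeCore p G
  have hmem : cj P g₀ ≤ (S : Subgroup G) ⊔ N := by
    rintro _ ⟨x, hx, rfl⟩
    obtain ⟨s, hs, he⟩ := hγ x hx
    show g₀ * x * g₀⁻¹ ∈ _
    have h1 : s⁻¹ * (g₀ * x * g₀⁻¹) ∈ N := QuotientGroup.eq.1 he
    simpa using Subgroup.mul_mem_sup hs h1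
  have hSyl : SylIn p (S : Subgroup G) ((S : Subgroup G) ⊔ N) := (sylIn_top S).mono le_sup_left le_top
  obtain ⟨n, hn, hle⟩ := hSyl.conj_le (isPGroup_cj (S.isPGroup'.to_le hP) g₀) hmem
  rw [Subgroup.mem_sup_of_normal_right] at hn
  obtain ⟨s, hs, m, hm, rfl⟩ := hn
  refine ⟨m * g₀, fun x hx => ⟨?_, ?_⟩⟩
  · have h1 := hle (conj_mem_cj (conj_mem_cj hx))
    have h2 := (S : Subgroup G).mul_mem ((S : Subgroup G).mul_mem ((S : Subgroup G).inv_mem hs) h1) hs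
    show m * g₀ * x * (m * g₀)⁻¹ ∈ (S : Subgroup G)
    simpa [mul_assoc] using h2
  · have hm1 : (QuotientGroup.mk m : G ⧸ N) = 1 := (QuotientGroup.eq_one_iff m).2 hm
    simp only [QuotientGroup.mk_mul, QuotientGroup.mk_inv, mul_inv_rev]
    erw [hm1]
    simp

end Cfsg.Agent.S5191
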