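import Cfsg.Statements.S5192
import Cfsg.Agent.Lib.Local.FS.Involution
import Cfsg.Agent.S5092

set_option autoImplicit false
open Cfsg

namespace Cfsg.Agent.S5192

theorem result {Ω : Type*} [Group Ω] [Finite Ω] {S : Subgroup Ω}
    (hS : IsPGroup 2 ↥S) (F : Cfsg.FusionSystem S) (hF : F.IsSaturated 2)
    (T : Subgroup Ω) (hTS : T ≤ S) (hT : T.relIndex S = 2)
    (i : Ω) (hi : i ∈ S) (hi2 : orderOf i = 2)
    (h : ∀ j : Ω, F.IsConjElt i j → F.IsFullyNormalized (Subgroup.zpowers j) → j ∉ T) :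
    i ∉ F.hyperfocalSubgroup 2 := by
  open Cfsg.Agent.Local.FS Cfsg.FusionSystem in
  haveI : Fact (Nat.Prime 2) := ⟨Nat.prime_two⟩
  haveI : Finite ↥S := inferInstance
  classical
  intro hcon
  obtain ⟨b⟩ := exists_charBiset hS hF
  obtain ⟨s⟩ : Nonempty b.Sect := inferInstance
  have hidx : (T.subgroupOf S).index = 2 := hT
  haveI hn : (T.subgroupOf S).Normal := Subgroup.normal_of_index_eq_two hidx
  have hcard : Nat.card (↥S ⧸ T.subgroupOf S) = 2 := by rw [← Subgroup.index_eq_card, hidx]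
  haveI : IsCyclic (↥S ⧸ T.subgroupOf S) := isCyclic_of_prime_card hcard
  letI : CommGroup (↥S ⧸ T.subgroupOf S) := IsCyclic.commGroup
  set χ : ↥S →* ↥S ⧸ T.subgroupOf S := QuotientGroup.mk' _ with hχ
  obtain ⟨c, hc⟩ : ∃ c : ↥S ⧸ T.subgroupOf S, c ≠ 1 := by
    haveI : Nontrivial (↥S ⧸ T.subgroupOf S) := Finite.one_lt_card_iff_nontrivial.1 (by omega)
    exact exists_ne 1
  have hc2 : c * c = 1 := by
    have := pow_card_eq_one' (x := c)
    rwa [hcard, pow_two] at this
  have hall : ∀ a : ↥S ⧸ T.subgroupOf S, a = 1 ∨ a = c := by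
    intro a
    by_contra hne
    push Not at hne
    have h3 : ({1, c, a} : Finset (↥S ⧸ T.subgroupOf S)).card = 3 := by
      rw [Finset.card_insert_of_notMem (by simp [Ne.symm hc, Ne.symm hne.1]),
        Finset.card_insert_of_notMem (by simp [Ne.symm hne.2]), Finset.card_singleton]
    haveI := Fintype.ofFinite (↥S ⧸ T.subgroupOf S)
    have h4 := Finset.card_le_univ ({1, c, a} : Finset (↥S ⧸ T.subgroupOf S))
    rw [Nat.card_eq_fintype_card] at hcard
    omega
  refine transfer_ne_one_of_involution hS hF b s χ hc2 hc (fun x => hall (χ x)) (i := ⟨i, hi⟩) hi2 ?_ ?_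
  · intro t ht hfn
    refine (hall (χ t)).resolve_left fun h1 => h t ht hfn ?_
    exact (QuotientGroup.eq_one_iff t).1 h1
  · refine CharBiset.transfer_focal s χ (x := ⟨i, hi⟩) ?_
    show i ∈ F.focalSubgroup
    rw [Cfsg.Agent.S5092.result 2 hS F hF]
    exact Subgroup.mem_sup_left hcon

end Cfsg.Agent.S5192
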