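import Cfsg.Statements.S5193
import Cfsg.Agent.Lib.Local.FS.GlaubermanCenter

set_option autoImplicit false
open Cfsg

namespace Cfsg.Agent.S5193

theorem result {Ω : Type*} [Group Ω] {S : Subgroup Ω} [Finite S] (p : ℕ) [Fact p.Prime] (hS : IsPGroup p S) (F : Cfsg.FusionSystem S) (hF : F.IsSaturated p) (N : Cfsg.FusionSystem (Cfsg.FusionSystem.normalizerIn S (Cfsg.thompsonSubgroupAOf S))) (hN : F.IsNormalizerSystem (Cfsg.thompsonSubgroupAOf S) N) : Subgroup.closure ((fun z : Ω => z ^ p) '' ((S ⊓ Subgroup.centralizer (S : Set Ω) : Subgroup Ω) : Set Ω)) ⊓ N.center ≤ F.center ∧ (p ≠ 2 ∨ F.IsSectionFree p (Equiv.Perm (Fin 4)) → N.center = F.center) := by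
  open Cfsg.Agent.Local.FS Cfsg.Agent.Fusion in
  refine ⟨fun x hx => mem_center_of_glauberman hS hF hN hx.2 (Or.inr (Or.inl (exists_pow_of_mem_closure hx.1))),
    fun h => le_antisymm (fun x hx => mem_center_of_glauberman hS hF hN hx ?_)
      (center_le_center_normalizer (normalizerIn_thompson hS) hN)⟩
  rcases h with h | h
  · exact Or.inl h
  · exact Or.inr (Or.inr h)

end Cfsg.Agent.S5193
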