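import Cfsg.Statements.S5194
import Cfsg.Agent.Lib.Local.FS.ThompsonInner

set_option autoImplicit false
open Cfsg

namespace Cfsg.Agent.S5194

theorem result {Ω : Type*} [Group Ω] {S : Subgroup Ω} [Finite S] (p : ℕ) [Fact p.Prime] (hS : IsPGroup p S) (F : Cfsg.FusionSystem S) (hF : F.IsSaturated p) (hp : p ≠ 2 ∨ F.IsSectionFree p (Equiv.Perm (Fin 4))) (hC : ∀ C : Cfsg.FusionSystem (Cfsg.FusionSystem.centralizerIn S (S ⊓ Subgroup.centralizer (S : Set Ω))), F.IsCentralizerSystem (S ⊓ Subgroup.centralizer (S : Set Ω)) C → ∀ P : Subgroup Ω, C.Hom P = (Cfsg.innerFusionSystem (Cfsg.FusionSystem.centralizerIn S (S ⊓ Subgroup.centralizer (S : Set Ω)))).Hom P) (hN : ∀ N : Cfsg.FusionSystem (Cfsg.FusionSystem.normalizerIn S (Cfsg.thompsonSubgroupAOf S)), F.IsNormalizerSystem (Cfsg.thompsonSubgroupAOf S) N → ∀ P : Subgroup Ω, N.Hom P = (Cfsg.innerFusionSystem (Cfsg.FusionSystem.normalizerIn S (Cfsg.thompsonSubgroupAOf S))).Hom P)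 : ∀ P : Subgroup Ω, F.Hom P = (Cfsg.innerFusionSystem S).Hom P := by
  open Cfsg.Agent.Local.FS Cfsg.Agent.Fusion Cfsg.FusionSystem in
  have hJ : Cfsg.thompsonSubgroupAOf S ≤ S := Subgroup.map_subtype_le _
  exact isInner_iff_hom.1 (isInner_thompson hS hF hp
    (cAt_center_of_isInner hS (C := centSys F inf_le_left) (fun _ => rfl) (isInner_iff_hom.2 (hC _ fun _ => rfl)))
    (pAt_of_isInner hS (N := normSys F hJ) (fun _ => rfl) (isInner_iff_hom.2 (hN _ fun _ => rfl))))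

end Cfsg.Agent.S5194
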