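import Cfsg.Statements.S5195
import Cfsg.Agent.Lib.Local.FS.CharInner

set_option autoImplicit false
open Cfsg

namespace Cfsg.Agent.S5195

theorem result {Ω : Type*} [Group Ω] {S : Subgroup Ω} [Finite S] (p : ℕ) [Fact p.Prime] (hS : IsPGroup p S) (F : Cfsg.FusionSystem S) (hF : F.IsSaturated p) (hp : p ≠ 2 ∨ F.IsSectionFree p (Equiv.Perm (Fin 4))) (h : ∀ Q : Subgroup Ω, Q ≤ S → Q ≠ ⊥ → (Q.subgroupOf S).Characteristic → IsPGroup p (F.autGroup Q)) : ∀ P : Subgroup Ω, F.Hom P = (Cfsg.innerFusionSystem S).Hom P := by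
  open Cfsg.Agent.Local.FS in
  exact isInner_iff_hom.1 (isInner_of_char _ F rfl hS hF hp h)

end Cfsg.Agent.S5195
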