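import Cfsg.Statements.S5196
import Cfsg.Agent.Lib.Local.FS.LocalCenterSystem

set_option autoImplicit false
universe u
open Cfsg

namespace Cfsg.Agent.S5196

theorem result {p : ℕ} [Fact p.Prime] (hp : p ≠ 2) (W : ∀ (Q : Type u) [Group Q], Subgroup Q) (hW1 : ∀ (Q : Type u) [Group Q] [Finite Q], IsPGroup p Q → Nontrivial Q → W Q ≠ ⊥) (hW2 : ∀ (Q R : Type u) [Group Q] [Group R] [Finite Q], IsPGroup p Q → ∀ φ : Q ≃* R, (W Q).map φ.toMonoidHom = W R) (hWZ : ∀ (Q : Type u) [Group Q] [Finite Q], IsPGroup p Q → Subgroup.center Q ≤ W Q) (hC : ∀ (G : Type u) [Group G] [Finite G] (P : Sylow p G), Cfsg.pCore p G ⊓ Subgroup.center G = Cfsg.pCore p G ⊓ (Subgroup.center ↥(Subgroup.normalizer (((W ↥(P : Subgroup G)).map (P : Subgroup G).subtype : Subgroup G) : Set G))).map (Subgroup.normalizer (((W ↥(P : Subgroup G)).map (P : Subgroup G).subtype : Subgroup G) : Set G)).subtype) {Ω : Type u} [Group Ω] {S : Subgroup Ω} [Finite S] (hS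 : IsPGroup p S) (F : Cfsg.FusionSystem S) (hF : F.IsSaturated p) (N : Cfsg.FusionSystem (Cfsg.FusionSystem.normalizerIn S ((W ↥S).map S.subtype))) (hN : F.IsNormalizerSystem ((W ↥S).map S.subtype) N) : N.center = F.center := by
  open Cfsg.Agent.Local.FS Cfsg.Agent.Fusion in
  have hV := normalizerIn_functor (W := W) hS hW2
  refine le_antisymm (fun z hz => ?_) (center_le_center_normalizer hV hN)
  obtain ⟨hzS, hzc, hfix⟩ := center_normalizer_props (Subgroup.map_subtype_le (W ↥S)) hV hN hz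
  refine mem_center_of_local hS hF hW2 hWZ hzS hzc (fun f hf hi => hfix f hf hi ?_) ?_
  · exact ⟨⟨z, hzS⟩, hWZ ↥S hS (Subgroup.mem_center_iff.2 fun s => Subtype.ext (hzc s s.2)), rfl⟩
  intro R hR hRc L _ ι hm T hT hxV hloc g
  haveI := hm.1
  set t := ι ⟨z, hxV⟩
  have htO : t ∈ Cfsg.pCore p L := hm.2.2.2 (Subgroup.mem_centralizer_iff.2 fun w hw => by
    obtain ⟨s, rfl⟩ := pCore_le_range hm hw
    show ι s * ι ⟨z, hxV⟩ = ι ⟨z, hxV⟩ * ι s
    rw [← map_mul, ← map_mul]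
    exact congrArg ι (Subtype.ext (hzc s s.2.1)))
  set H := Subgroup.normalizer (Cfsg.inducedFunctor W (T : Subgroup L) : Set L)
  have htH : t ∈ H := sylow_le_normalizer_functor
    (isConjugacyFunctor_induced (G := L) ⟨hW1, hW2⟩) T.2 (hT ▸ ⟨_, rfl⟩)
  have h : t ∈ Cfsg.pCore p L ⊓ Subgroup.center L := by
    rw [hC L T]
    refine ⟨htO, ⟨t, htH⟩, Subgroup.mem_center_iff.2 fun h => Subtype.ext ?_, rfl⟩
    exact mul_inv_eq_iff_eq_mul.1 (hloc h h.2)
  exact mul_inv_eq_iff_eq_mul.2 (Subgroup.mem_center_iff.1 h.2 g)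

end Cfsg.Agent.S5196
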