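import Cfsg.Statements.S5199
import Cfsg.Agent.Lib.Local.FS.Focal
import Cfsg.Agent.Lib.Local.FS.Sub
import Cfsg.Agent.Lib.Fusion.NPC

set_option autoImplicit false
open Cfsg

namespace Cfsg.Agent.S5199

theorem result {Ω : Type*} [Group Ω] {S : Subgroup Ω} [Finite S] (p : ℕ) [Fact p.Prime] (hS : IsPGroup p S) (F : Cfsg.FusionSystem S) (hF : F.IsSaturated p) {T U : Subgroup Ω} (E : Cfsg.FusionSystem T) (hE : E.IsNormalIn F p) (F₀ : Cfsg.FusionSystem U) (hF₀ : F₀.IsNormalIn F p) (hU : T ⊔ F.hyperfocalSubgroup p ≤ U) (hidx : F₀.HasPPowerIndexIn F p) : E.IsSubsystemOf F₀ := by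
  open Cfsg.Agent.Local.FS Cfsg.Agent.Fusion Cfsg.FusionSystem in
  obtain ⟨⟨hEs, -, hEsub, hTsc, -, -⟩, -⟩ := hE
  obtain ⟨-, -, hres⟩ := hidx
  haveI := finite_of_le hTsc.1
  have hTp : IsPGroup p ↥T := hS.to_le hTsc.1
  have hTU : T ≤ U := le_sup_left.trans hU
  haveI := finite_of_le hF₀.1.2.2.2.1.1
  have hK : IsClosedClass E (fun P f => Map F₀ P f) :=
    { congr := fun h he => h.congr he
      restrict := fun _ h hR => h.restrict hR
      comp := fun _ _ h h' hm => h.comp h' hm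
      inv := fun {P f g} _ h hg => by
        obtain ⟨g', hg', hg'f, -, -⟩ := h.exists_inv
        refine hg'.congr fun y hy => ?_
        obtain ⟨x, hx, rfl⟩ := h.mem_im.1 hy
        rw [hg'f x hx, hg x hx] }
  intro P φ hφ
  refine mem_iff_map.2 (alperin hTp hEs hK (fun R hR α hα => ?_) P _ (map_of_mem hφ))
  have hRfn := gen_fn hR
  have hRT := hRfn.1
  have hRU := hRT.trans hTU
  obtain ⟨β, hβ, γ, hγ, rfl⟩ := exists_autS_mul_residual hTp hEs hRfn hα
  obtain ⟨t, ht, htβ⟩ := mem_autInducedBy.1 hβ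
  haveI := mulAut_finite_of_le hRT
  have hle : E.autGroup R ≤ F.autGroup R :=
    (Subgroup.closure_le _).2 fun a ha => Subgroup.subset_closure (hEsub R ha)
  have hγF : (γ : MulAut R) ∈ F₀.autGroup R := by
    refine hres R hRU ⟨Subgroup.inclusion hle γ, ?_, rfl⟩
    exact map_pResidual_le _ ⟨γ, hγ, rfl⟩
  refine ((map_of_mem_autGroup hRU hγF).comp (map_conjBy hRU (hTU ht))
    fun x hx => av_mem (γ : MulAut R) hx).congr fun x hx => ?_
  show t * av (γ : MulAut R) x * t⁻¹ = _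
  rw [av_mul _ _ hx, htβ _ (av_mem _ hx)]

end Cfsg.Agent.S5199
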