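import Cfsg.Statements.S5200
import Cfsg.Agent.Lib.Local.FS.CentralizerOdd

set_option autoImplicit false
open Cfsg
open scoped commutatorElement

namespace Cfsg.Agent.S5200

open Cfsg.Agent.Local.FS in
theorem result {Ω : Type*} [Group Ω] {S : Subgroup Ω} [Finite S] (p : ℕ) [Fact p.Prime] (hS : IsPGroup p S) (F : Cfsg.FusionSystem S) (hF : F.IsSaturated p) {T : Subgroup Ω} (E : Cfsg.FusionSystem T) (hE : E.IsNormalIn F p) (hCE : ∀ Y : Subgroup Ω, Y ≤ Cfsg.FusionSystem.centralizerIn S T → (∀ C : Cfsg.FusionSystem (Cfsg.FusionSystem.centralizerIn S Y), F.IsCentralizerSystem Y C → E.IsSubsystemOf C) → Y ≤ T) : ⁅T ⊔ Cfsg.FusionSystem.centralizerIn S T, T ⊔ Cfsg.FusionSystem.centralizerIn S T⁆ ≤ T ∧ (p ≠ 2 → Cfsg.FusionSystem.centralizerIn S T ≤ T) := by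
  have hT := hE.1.2.2.2.1
  have hC : centEOf E F ≤ T := by
    refine hCE _ centEOf_le fun C hC P φ hφ => ?_
    have h := centE_centEOf hS hE
    obtain ⟨g, ⟨ψ, hψ, hψg⟩, hgf, hgC⟩ := h.2 P _ (map_of_mem hφ)
    rw [hC P]
    refine ⟨hE.1.2.2.1 P hφ, ?_, fun x => ?_, ψ, hψ, fun x => ?_, fun x => ?_⟩
    · exact fun x hx => ⟨hT.1 ((E.le_of_mem hφ).1 hx), Subgroup.mem_centralizer_iff.2 fun c hc =>
        (comm_of_centT (h.1 hc) ((E.le_of_mem hφ).1 hx)).symm⟩
    · exact ⟨hT.1 ((E.le_of_mem hφ).2 x), Subgroup.mem_centralizer_iff.2 fun c hc =>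
        (comm_of_centT (h.1 hc) ((E.le_of_mem hφ).2 x)).symm⟩
    · rw [hψg, Subgroup.coe_inclusion, hgf _ x.2, fn_coe]
    · rw [hψg, Subgroup.coe_inclusion, hgC _ x.2]
  refine ⟨?_, fun hp => CentralizerOdd.centralizer_le hS hp hE hC⟩
  have hL : T ⊔ Cfsg.FusionSystem.centralizerIn S T ≤ Subgroup.normalizer (T : Set Ω) :=
    (sup_le hT.1 inf_le_left).trans (stronglyClosed_le_normalizer hT)
  haveI hn : (T.subgroupOf (T ⊔ Cfsg.FusionSystem.centralizerIn S T)).Normal :=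
    (Subgroup.normal_subgroupOf_iff_le_normalizer le_sup_left).2 hL
  set L := T ⊔ Cfsg.FusionSystem.centralizerIn S T with hLdef
  set π := QuotientGroup.mk' (T.subgroupOf L) with hπ
  have hgen : (Cfsg.FusionSystem.centralizerIn S T).subgroupOf L ⊔ T.subgroupOf L = ⊤ := by
    rw [← Subgroup.subgroupOf_sup le_sup_right le_sup_left, sup_comm, Subgroup.subgroupOf_self]
  have hsurj : ((Cfsg.FusionSystem.centralizerIn S T).subgroupOf L).map π = ⊤ := by
    have h := congrArg (Subgroup.map π) hgen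
    rw [Subgroup.map_sup, hπ, QuotientGroup.map_mk'_self, sup_bot_eq,
      Subgroup.map_top_of_surjective _ (QuotientGroup.mk'_surjective _)] at h
    exact h
  have hcomm : ∀ a b : L, π a * π b = π b * π a := by
    intro a b
    obtain ⟨a', ha', hae⟩ := hsurj.ge (Subgroup.mem_top (π a))
    obtain ⟨b', hb', hbe⟩ := hsurj.ge (Subgroup.mem_top (π b))
    have h1 : ⁅(a' : Ω), (b' : Ω)⁆ ∈ T :=
      ((commutator_centE hS hE).le_centEOf.trans hC) (Subgroup.commutator_mem_commutator ha' hb')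
    have h2 : π ⁅a', b'⁆ = 1 := by
      rw [hπ, QuotientGroup.mk'_apply, QuotientGroup.eq_one_iff]
      exact h1
    rw [map_commutatorElement, commutatorElement_eq_one_iff_mul_comm, hae, hbe] at h2
    exact h2
  refine Subgroup.commutator_le.2 fun x hx y hy => ?_
  have h : π ⁅(⟨x, hx⟩ : L), ⟨y, hy⟩⁆ = 1 := by
    rw [map_commutatorElement, commutatorElement_eq_one_iff_mul_comm]
    exact hcomm _ _
  rw [hπ, QuotientGroup.mk'_apply, QuotientGroup.eq_one_iff] at h
  exact h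

end Cfsg.Agent.S5200
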