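import Cfsg.Statements.S5202
import Cfsg.Agent.Lib.Local.FS.PSolvDescent

set_option autoImplicit false
open Cfsg

namespace Cfsg.Agent.S5202

theorem result {Ω : Type*} [Group Ω] {S : Subgroup Ω} [Finite S] (p : ℕ) [Fact p.Prime] (hS : IsPGroup p S) (F : Cfsg.FusionSystem S) (hF : F.IsSaturated p) {T : Subgroup Ω} (E : Cfsg.FusionSystem T) (hE : E.IsNormalIn F p) [hn : ((E.autGroup T).subgroupOf (F.autGroup T)).Normal] (hsolv : Cfsg.IsPSolvable p (↥(F.autGroup T) ⧸ (E.autGroup T).subgroupOf (F.autGroup T))) : ∃ F₀ : Cfsg.FusionSystem (T ⊔ Cfsg.FusionSystem.centralizerIn S T), F₀.IsNormalIn F p ∧ E.IsSubsystemOf F₀ ∧ F₀.autGroup T = E.autGroup T ∧ ∀ {U : Subgroup Ω} (Finf : Cfsg.FusionSystem U), Finf.IsResidualLimitOf F p → Finf.IsSubsystemOf F₀ ∧ ∀ {V : Subgroup Ω} (L : Cfsg.FusionSystem V), L.IsResidualLimitOf F₀ p → ∀ P : Subgroup Ω, L.Hom P = Finf.Hom P := by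
  open Cfsg.Agent.Local.FS Cfsg.Agent.Fusion Cfsg.FusionSystem in
  obtain ⟨U, M, hM, hMT⟩ := PSolv.exists_descent hS hE hsolv
  obtain rfl := PSolv.base_eq hS hE hM hMT
  refine ⟨M, hM.normal, hM.sub, hMT, fun {U} Finf hFinf => ?_⟩
  haveI := finite_of_le hM.le_S
  obtain ⟨W, N, hN⟩ := exists_limit (hS.to_le hM.le_S) hM.normal.1.1
  have hs := hM.limit _ _ _ _ hFinf hN
  refine ⟨fun P φ hφ => mem_iff_map.2 (((hs P _).1 (map_of_mem hφ)).of_sub (limit_sub hN)),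
    fun L hL P => ?_⟩
  have hs' := hM.limit _ _ _ _ hFinf hL
  ext φ
  rw [mem_iff_map, mem_iff_map]
  exact (hs' P _).symm

end Cfsg.Agent.S5202
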