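import Cfsg.Statements.S5204
import Cfsg.Agent.Lib.Local.FS.InnerZJ

set_option autoImplicit false
open Cfsg

namespace Cfsg.Agent.S5204

theorem result {Ω : Type*} [Group Ω] {S : Subgroup Ω} [Finite S] (p : ℕ) [Fact p.Prime] (hS : IsPGroup p S) (F : Cfsg.FusionSystem S) (hF : F.IsSaturated p) (hp : p ≠ 2) : (∀ P : Subgroup Ω, F.Hom P = (Cfsg.innerFusionSystem S).Hom P) ↔ ∀ N : Cfsg.FusionSystem (Cfsg.FusionSystem.normalizerIn S (Cfsg.centerThompsonAOf S)), F.IsNormalizerSystem (Cfsg.centerThompsonAOf S) N → ∀ P : Subgroup Ω, N.Hom P = (Cfsg.innerFusionSystem (Cfsg.FusionSystem.normalizerIn S (Cfsg.centerThompsonAOf S))).Hom P := by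
  open Cfsg.Agent.Local.FS Cfsg.Agent.Fusion Cfsg.FusionSystem in
  constructor
  · intro h N hN
    have hz : (Cfsg.inducedFunctor wZA S) = Cfsg.centerThompsonAOf S := inducedFunctor_wZA S
    have hNS : normalizerIn S (Cfsg.centerThompsonAOf S) = S := by
      rw [← hz]
      exact le_antisymm inf_le_left ((le_normalizerIn le_rfl).trans
        (normalizer_le_functor hS (isCharPFunctor_wZA (p := p)).2 le_rfl))
    refine isInner_iff_hom.1 (isInner_of_pAt hS hF ⟨?_, fun R _ => ?_⟩ hN
      (pAt_of_inner hS (isInner_iff_hom.2 h)))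
    · rw [← hz]; exact Subgroup.map_subtype_le _
    · rw [hNS]; exact Subgroup.card_le_of_le inf_le_left
  · intro h
    have hle : Cfsg.centerThompsonAOf S ≤ S := inf_le_left.trans (Subgroup.map_subtype_le _)
    exact isInner_iff_hom.1 (isInner_of_pAt_zj hp hS hF (pAt_of_isInner hS (N := normSys F hle)
      (fun _ => rfl) (isInner_iff_hom.2 (h _ fun _ => rfl))))

end Cfsg.Agent.S5204
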