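import Cfsg.Statements.S5205
import Cfsg.Agent.Lib.Local.FS.FreeConstrained

set_option autoImplicit false
universe u
open Cfsg

namespace Cfsg.Agent.S5205

theorem result {p : ℕ} [Fact p.Prime] (hp : p ≠ 2) (W : ∀ (Q : Type u) [Group Q], Subgroup Q) (hW1 : ∀ (Q : Type u) [Group Q] [Finite Q], IsPGroup p Q → Nontrivial Q → W Q ≠ ⊥) (hW2 : ∀ (Q R : Type u) [Group Q] [Group R] [Finite Q], IsPGroup p Q → ∀ φ : Q ≃* R, (W Q).map φ.toMonoidHom = W R) (hW3 : ∀ (L : Type u) [Group L] [Finite L] (P : Sylow p L), Subgroup.centralizer ((Cfsg.pCore p L : Subgroup L) : Set L) = Cfsg.pCore p L ⊓ Subgroup.centralizer ((Cfsg.pCore p L : Subgroup L) : Set L) → ¬ Cfsg.Involves ↥(Cfsg.qd p) L → (((W ↥(P : Subgroup L)).map (P : Subgroup L).subtype : Subgroup L)).Normal) {Ω : Type u} [Group Ω] {S : Subgroup Ω} [Finite S] (hS : IsPGroup p S) (F : Cfsg.FusionSystem S) (hF : F.IsSaturated p) (hfree : F.IsSectionFree p ↥(Cfsg.qd p)) (N : Cfsg.FusionSystem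 (Cfsg.FusionSystem.normalizerIn S ((W ↥S).map S.subtype))) (hN : F.IsNormalizerSystem ((W ↥S).map S.subtype) N) : ∀ P : Subgroup Ω, N.Hom P = F.Hom P := by
  open Cfsg.Agent.Local.FS Cfsg.FusionSystem in
  intro P
  have hn : F.IsNormal (Cfsg.inducedFunctor W S) :=
    functor_normal_of_free hW1 hW2 (fun L _ _ T hc h => hW3 L T (le_antisymm (le_inf hc le_rfl) inf_le_right) h)
      hS hF hfree
  have hV : normalizerIn S ((W ↥S).map S.subtype) = S :=
    inf_eq_left.2 (stronglyClosed_le_normalizer (normal_stronglyClosed hn))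
  ext φ
  refine ⟨fun h => ?_, fun h => ?_⟩
  · obtain ⟨-, -, g, hg, hgf, -⟩ := (map_normalizerSystem_iff hN).1 (map_of_mem h)
    exact mem_iff_map.2 ((hg.restrict le_sup_left).congr hgf)
  · obtain ⟨g, hg, hgf, hgW⟩ := (normal_iff.1 hn).2 P _ (map_of_mem h)
    exact mem_iff_map.2 ((map_normalizerSystem_iff hN).2 ⟨(map_of_mem h).le.trans hV.ge,
      fun x hx => hV.ge ((map_of_mem h).mem hx), g, hg, hgf, hgW⟩)

end Cfsg.Agent.S5205
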