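import Cfsg.Statements.S5206
import Cfsg.Agent.Lib.Local.FS.GroupFree

set_option autoImplicit false
universe u
open Cfsg

namespace Cfsg.Agent.S5206

theorem result {G : Type u} [Group G] [Finite G] {p : ℕ} [Fact p.Prime] (hp : p ≠ 2) (P : Sylow p G) : (Cfsg.groupFusionSystem (P : Subgroup G)).IsSectionFree p ↥(Cfsg.qd p) ↔ ¬ Cfsg.Involves ↥(Cfsg.qd p) G := by
  open Cfsg.Agent.Local.FS Cfsg.Agent.Fusion in
  exact ⟨qd_free_of_group_system hp (sylIn_top P), group_sectionFree (sylIn_top P)⟩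

end Cfsg.Agent.S5206
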