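import Cfsg.Statements.S5212
import Cfsg.Agent.Lib.Solv.MetacyclicTwoStep
import Cfsg.Agent.Lib.Solv.MetacyclicTwoAut
import Cfsg.Agent.Lib.Local.FS.InnerBasic
import Cfsg.Agent.Lib.Local.FS.Essential

set_option autoImplicit false
open Cfsg

namespace Cfsg.Agent.S5212

theorem result {Ω : Type*} [Group Ω] {S : Subgroup Ω} [Finite S] (hS : IsPGroup 2 S) (F : Cfsg.FusionSystem S) (hF : F.IsSaturated 2) (hm : Cfsg.IsMetacyclic ↥S) (hh : ¬ ∃ n k : ℕ, Nonempty (↥S ≃* Multiplicative (Fin k → ZMod (2 ^ n)))) (hd : ¬ ∃ m : ℕ, Nonempty (↥S ≃* DihedralGroup m)) (hq : ¬ ∃ m : ℕ, Nonempty (↥S ≃* QuaternionGroup m)) (hsd : ¬ Cfsg.IsQuasiDihedral ↥S) : ∀ P : Subgroup Ω, F.Hom P = (Cfsg.innerFusionSystem S).Hom P := by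
  open Cfsg.Agent.Local.FS Cfsg.Agent.Solv.MetaTwo in
  classical
  haveI : Fact (Nat.Prime 2) := ⟨Nat.prime_two⟩
  refine isInner_iff_hom.1 (isInner_of_gen hS hF fun R hR => ?_)
  have hRS : R ≤ S := by
    rcases hR with rfl | hE
    · exact le_rfl
    · exact hE.1.1
  haveI := finite_of_le hRS
  haveI := mulAut_finite_of_le hRS
  have hRp : IsPGroup 2 R := hS.to_le hRS
  have hRm : Cfsg.IsMetacyclic R := metacyclic_of_injective (Subgroup.inclusion hRS) (Subgroup.inclusion_injective hRS) hm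
  have hidx := index_frattini_le hRp hRm
  have height : ∀ X : Subgroup S, Nat.card X = 8 → ¬ ∃ x ∈ X, ∃ y ∈ X, x * y ≠ y * x := by
    intro X h8 hx
    rcases left_case_of_eight hS hm X h8 hx with h | h | h
    · exact hd h
    · exact hq h
    · exact hsd h
  by_contra hnp
  -- an automorphism of odd prime order
  obtain ⟨q, hq', hq2, hqd⟩ : ∃ q : ℕ, q.Prime ∧ q ≠ 2 ∧ q ∣ Nat.card (F.autGroup R) := by
    by_contra h
    push Not at h
    exact hnp (IsPGroup.of_card (Nat.eq_prime_pow_of_unique_prime_dvd Nat.card_pos.ne'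
      fun {d} hdp hdd => by_contra fun hne => h d hdp hne hdd))
  haveI := Fact.mk hq'
  obtain ⟨φ, hφo⟩ := exists_prime_orderOf_dvd_card' q hqd
  have hφq : (φ : MulAut R) ^ q = 1 := by
    rw [← SubmonoidClass.coe_pow, ← hφo, pow_orderOf_eq_one]; rfl
  have hφ1 : (φ : MulAut R) ≠ 1 := by
    intro h
    rw [show φ = 1 from Subtype.ext h, orderOf_one] at hφo
    exact hq'.one_lt.ne hφo
  have hmv := moves_of_ne_one hRp hq2 hφq hφ1
  have hna : ¬ ∃ x y : R, x * y ≠ y * x := by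
    rintro ⟨x, y, hxy⟩
    have h8 := card_eight hRp _ hidx hmv hRm ⟨x, y, hxy⟩
    refine height (R.subgroupOf S) ?_ ⟨⟨x, hRS x.2⟩, x.2, ⟨y, hRS y.2⟩, y.2, fun h => hxy (Subtype.ext (by simpa using congrArg Subtype.val h))⟩
    rw [Nat.card_congr (Subgroup.subgroupOfEquivOfLe hRS).toEquiv, h8]
  push Not at hna
  obtain ⟨n, hn1, hiso, hcard, hinv⟩ := abelian_structure hRp _ hidx hmv hna
  rcases hR with rfl | hE
  · exact hh ⟨n, 2, hiso⟩
  have hlt := lt_of_essential hS hF hE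
  have hrad := radical_of_essential hS hF hE
  -- the normaliser grows
  obtain ⟨t, htS, htR, ht2, htN⟩ : ∃ t ∈ S, t ∉ R ∧ t * t ∈ R ∧ t ∈ Subgroup.normalizer (R : Set Ω) := by
    haveI := hS.isNilpotent
    have hne : R.subgroupOf S < ⊤ := lt_top_iff_ne_top.2 fun h => hlt.not_ge (Subgroup.subgroupOf_eq_top.1 h)
    have hgrow := Group.normalizerCondition_of_isNilpotent _ hne
    obtain ⟨x, hxN, hxR⟩ := SetLike.exists_of_lt hgrow
    obtain ⟨k, hk⟩ := hS x
    have hex : ∃ k : ℕ, x ^ 2 ^ k ∈ R.subgroupOf S := ⟨k, hk ▸ one_mem _⟩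
    have h0 : Nat.find hex ≠ 0 := fun e => hxR (by
      have := Nat.find_spec hex
      rwa [e, pow_zero, pow_one] at this)
    obtain ⟨j, hj⟩ : ∃ j, Nat.find hex = j + 1 := ⟨_, (Nat.succ_pred_eq_of_ne_zero h0).symm⟩
    refine ⟨((x ^ 2 ^ j : S) : Ω), (x ^ 2 ^ j : S).2, fun h => Nat.find_min hex (show j < Nat.find hex by omega) (Subgroup.mem_subgroupOf.2 h), ?_, ?_⟩
    · have := Nat.find_spec hex
      rw [hj, pow_succ, pow_mul, sq] at this
      exact this
    · have hn' := pow_mem hxN (2 ^ j)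
      rw [Subgroup.mem_normalizer_iff] at hn' ⊢
      intro y
      constructor
      · intro hy
        exact (hn' ⟨y, hRS hy⟩).1 hy
      · intro hy
        have hyS : y ∈ S := by
          have h := mul_mem (mul_mem (inv_mem (x ^ 2 ^ j : S).2) (hRS hy)) (x ^ 2 ^ j : S).2
          simpa [mul_assoc] using h
        exact (hn' ⟨y, hyS⟩).2 hy
  have hC : Cfsg.FusionSystem.centralizerIn S R ≤ R := hE.1.2 R (isConj_refl hRS)
  obtain ⟨α, hα, hαK⟩ := exists_aut_conj htN
  have hαF : α ∈ F.autGroup R := autInducedBy_le_autGroup hRS (hαK S htS)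
  have hnc : ∃ r ∈ R, t * r ≠ r * t := by
    by_contra h
    push Not at h
    exact htR (hC ⟨htS, Subgroup.mem_centralizer_iff.2 fun r hr => (h r hr).symm⟩)
  have htr : ∀ r ∈ R, t * r * t⁻¹ ∈ R := fun r hr => (Subgroup.mem_normalizer_iff.1 htN r).1 hr
  rcases Nat.lt_or_ge n 2 with hn2 | hn2
  · -- a nonabelian subgroup of order eight
    obtain rfl : n = 1 := by omega
    obtain ⟨R', hR'⟩ : ∃ R' : Subgroup S, R' = R.subgroupOf S := ⟨_, rfl⟩
    obtain ⟨t', ht'⟩ : ∃ t' : S, t' = ⟨t, htS⟩ := ⟨_, rfl⟩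
    have hc4 : Nat.card R' = 4 := by
      rw [hR', Nat.card_congr (Subgroup.subgroupOfEquivOfLe hRS).toEquiv, hcard]; norm_num
    have hmem : ∀ y : S, y ∈ R' ↔ (y : Ω) ∈ R := fun y => hR' ▸ Iff.rfl
    obtain ⟨M, hM⟩ : ∃ M : Subgroup S, M = R' ⊔ Subgroup.zpowers t' := ⟨_, rfl⟩
    have hnorm : Subgroup.zpowers t' ≤ Subgroup.normalizer (R' : Set S) := by
      rw [Subgroup.zpowers_le, Subgroup.mem_normalizer_iff]
      intro y
      rw [hmem, hmem, ht']
      exact Subgroup.mem_normalizer_iff.1 htN y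
    have h8 : Nat.card M = 8 := by
      have h2 : (R'.subgroupOf M).index = 2 := by
        rw [Subgroup.index_eq_two_iff]
        refine ⟨⟨t', hM ▸ Subgroup.mem_sup_right (Subgroup.mem_zpowers t')⟩, fun b => ?_⟩
        have hb : (b : S) ∈ (R' ⊔ Subgroup.zpowers t' : Subgroup S) := hM ▸ b.2
        rw [← SetLike.mem_coe, Subgroup.coe_mul_of_right_le_normalizer_left R' (Subgroup.zpowers t') hnorm,
          Set.mem_mul] at hb
        obtain ⟨r, hr, _, ⟨k, rfl⟩, e⟩ := hb
        simp only [Subgroup.mem_subgroupOf, Subgroup.coe_mul, ← e]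
        have ht1 : t' ∉ R' := fun h => htR (by rw [hmem, ht'] at h; exact h)
        have ht2' : t' * t' ∈ R' := by rw [hmem, ht']; exact ht2
        have hev : ∀ j : ℤ, t' ^ (j + j) ∈ R' := fun j => by
          rw [← two_mul, zpow_mul, zpow_ofNat, sq]; exact zpow_mem ht2' j
        rcases Int.even_or_odd k with ⟨j, rfl⟩ | ⟨j, rfl⟩
        · refine Or.inr ⟨mul_mem hr (hev j), fun h => ht1 ?_⟩
          exact (Subgroup.mul_mem_cancel_left _ (mul_mem hr (hev j))).1 h
        · refine Or.inl ⟨?_, fun h => ht1 ?_⟩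
          · rw [mul_assoc, ← zpow_add_one, show 2 * j + 1 + 1 = (j + 1) + (j + 1) by ring]
            exact mul_mem hr (hev _)
          · rw [show r * t' ^ (2 * j + 1) = r * t' ^ (j + j) * t' by rw [mul_assoc, ← zpow_add_one, two_mul]] at h
            exact (Subgroup.mul_mem_cancel_left _ (mul_mem hr (hev j))).1 h
      have h := (R'.subgroupOf M).card_mul_index
      rw [h2, Nat.card_congr (Subgroup.subgroupOfEquivOfLe (hM ▸ le_sup_left : R' ≤ M)).toEquiv, hc4] at h
      omega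
    refine height M h8 ?_
    obtain ⟨r, hr, hne⟩ := hnc
    refine ⟨t', hM ▸ Subgroup.mem_sup_right (Subgroup.mem_zpowers t'), ⟨r, hRS hr⟩,
      hM ▸ Subgroup.mem_sup_left ((hmem _).2 hr), fun h => hne ?_⟩
    rw [ht'] at h
    exact congrArg Subtype.val h
  · -- the action modulo the Frattini subgroup
    have hsq := trivial_mod_squares hS hm (R.subgroupOf S)
      (fun x hx y hy => Subtype.ext (by simpa using congrArg Subtype.val (hna ⟨x, hx⟩ ⟨y, hy⟩)))
      (fun c hc hc1 => by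
        obtain ⟨s, hs⟩ := hinv hn2 ⟨c, hc⟩ (Subtype.ext (by simpa using congrArg Subtype.val hc1))
        exact ⟨⟨s, hRS s.2⟩, s.2, Subtype.ext (by simpa using congrArg Subtype.val hs)⟩)
      ⟨t, htS⟩ (fun r hr => htr r hr) ht2
    have hαΦ : ∀ x : R, α x * x⁻¹ ∈ frattini R := by
      intro x
      obtain ⟨s, hs, e⟩ := hsq ⟨x, hRS x.2⟩ x.2
      have e' : t * (x : Ω) * t⁻¹ * (x : Ω)⁻¹ = s * s := congrArg Subtype.val e
      have hx : α x * x⁻¹ = ⟨(s : Ω), hs⟩ * ⟨(s : Ω), hs⟩ := by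
        refine Subtype.ext ?_
        show (α x : Ω) * (x : Ω)⁻¹ = (s : Ω) * s
        rw [← av_coe, hα x x.2, e']
      rw [hx]
      exact sq_mem hRp _
    have hΦmap : ∀ (β : MulAut R) (y : R), y ∈ frattini R → β y ∈ frattini R := fun β y hy =>
      frattini_invariant β y hy
    let K : Subgroup (F.autGroup R) :=
      { carrier := {β | ∀ x : R, (β : MulAut R) x * x⁻¹ ∈ frattini R}
        one_mem' := fun x => by simp
        mul_mem' := fun {β γ} hb hg x => by
          rw [Subgroup.coe_mul, MulAut.mul_apply,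
            show (β : MulAut R) ((γ : MulAut R) x) * x⁻¹ =
              ((β : MulAut R) ((γ : MulAut R) x) * ((γ : MulAut R) x)⁻¹) * ((γ : MulAut R) x * x⁻¹) by group]
          exact mul_mem (hb _) (hg x)
        inv_mem' := fun {β} hb x => by
          have h := inv_mem (hb ((β : MulAut R)⁻¹ x))
          rw [MulAut.apply_inv_self, mul_inv_rev, inv_inv] at h
          exact h }
    haveI : K.Normal := ⟨fun β hb γ x => by
      have h := hΦmap γ _ (hb ((γ : MulAut R)⁻¹ x))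
      rw [map_mul, map_inv, MulAut.apply_inv_self] at h
      simpa [MulAut.mul_apply] using h⟩
    have hKp : IsPGroup 2 K := by
      by_contra hnK
      obtain ⟨r, hr', hr2, hrd⟩ : ∃ q : ℕ, q.Prime ∧ q ≠ 2 ∧ q ∣ Nat.card K := by
        by_contra h
        push Not at h
        exact hnK (IsPGroup.of_card (Nat.eq_prime_pow_of_unique_prime_dvd Nat.card_pos.ne'
          fun {d} hdp hdd => by_contra fun hne => h d hdp hne hdd))
      haveI := Fact.mk hr'
      obtain ⟨β, hβo⟩ := exists_prime_orderOf_dvd_card' r hrd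
      have hβ : ((β : F.autGroup R) : MulAut R) ^ r = 1 := by
        rw [← SubmonoidClass.coe_pow, ← SubmonoidClass.coe_pow, ← hβo, pow_orderOf_eq_one]; rfl
      have h1 := eq_one_of_trivial hRp hr2 hβ β.2
      rw [show β = 1 from Subtype.ext (Subtype.ext h1), orderOf_one] at hβo
      exact hr'.one_lt.ne hβo
    have hKi : (⟨α, hαF⟩ : F.autGroup R) ∈ Cfsg.pCore 2 (F.autGroup R) := Cfsg.Agent.Fusion.le_pCore hKp hαΦ
    have hαI : α ∈ Cfsg.Inn R := hrad.2 ▸ ⟨_, hKi, rfl⟩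
    obtain ⟨g, hg, hgα⟩ := mem_Inn.1 hαI
    obtain ⟨r, hr, hne⟩ := hnc
    apply hne
    have h1 := (hα r hr).symm.trans (hgα r hr)
    rw [show g * r * g⁻¹ = r from by
      rw [show g * r = r * g from congrArg Subtype.val (hna ⟨g, hg⟩ ⟨r, hr⟩), mul_inv_cancel_right]] at h1
    exact mul_inv_eq_iff_eq_mul.1 h1

end Cfsg.Agent.S5212
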