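import Cfsg.Statements.S5215
import Cfsg.Agent.Lib.Local.FS.RankTwo.SimpleRank

set_option autoImplicit false
open Cfsg

namespace Cfsg.Agent.S5215

/-- Let S be a finite 2-group of 2-rank 2 (an elementary abelian subgroup of order 4, none of order 8) and F a simple saturated fusion system over S. Then S is dihedral, semidihedral or wreathed, and F is the fusion system of the projective special linear group PSL₂(q) for some odd prime power q ≡ ±1 (mod 8) or of PSL₃(q) for some odd prime power q: it is realized by an injective homomorphism of S into that group whose image is a Sylow 2-subgroup. -/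
theorem result {Ω : Type*} [Group Ω] {S : Subgroup Ω} [Finite S] (hS : IsPGroup 2 S) (F : Cfsg.FusionSystem S) (hF : F.IsSaturated 2) (hr : Cfsg.PRankAtLeast 2 2 ↥S ∧ ¬ Cfsg.PRankAtLeast 2 3 ↥S) (hsimple : F.IsSimple 2) : ((∃ m : ℕ, Nonempty (↥S ≃* DihedralGroup m)) ∨ Cfsg.IsQuasiDihedral ↥S ∨ Cfsg.IsWreathed ↥S) ∧ ∃ (K : Type) (_ : Field K) (_ : Fintype K) (q : ℕ), Fintype.card K = q ∧ Odd q ∧ (((q % 8 = 1 ∨ q % 8 = 7) ∧ ∃ ι : ↥S →* Matrix.ProjectiveSpecialLinearGroup (Fin 2) K, F.IsRealizedBy ι ∧ ∃ T : Sylow 2 (Matrix.ProjectiveSpecialLinearGroup (Fin 2) K), (T : Subgroup (Matrix.ProjectiveSpecialLinearGroup (Fin 2) K)) = ι.range) ∨ (∃ ι : ↥S →* Matrix.ProjectiveSpecialLinearGroup (Fin 3) K, F.IsRealizedBy ι ∧ ∃ T : Sylow 2 (Matrix.ProjectiveSpecialLinearGroup (Fin 3) K), (T : Subgroup (Matrix.ProjectiveSpecialLinearGroup (Fin 3) K)) = ι.range)) := by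
  haveI : Fact (Nat.Prime 2) := ⟨Nat.prime_two⟩
  obtain ⟨⟨A₀, hA₀, hexp₀, hcard₀⟩, hr3⟩ := hr
  have hprank : Cfsg.PRankLE 2 2 ↥S := by
    intro A hA hexp
    by_contra hcard
    refine hr3 ⟨A, hA, hexp, ?_⟩
    obtain ⟨k, hk⟩ := (hS.to_subgroup A).exists_card_eq
    rw [hk] at hcard ⊢
    refine Nat.pow_le_pow_right two_pos ?_
    by_contra hk3
    exact hcard (Nat.pow_le_pow_right two_pos (by omega))
  have h1 : ¬ Cfsg.PRankLE 2 1 ↥S := fun h => by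
    have := hcard₀.trans (h A₀ hA₀ hexp₀)
    norm_num at this
  have hfull := Cfsg.Agent.FSRankTwo.full_of_simple hS hsimple
  rcases Cfsg.Agent.FSRankTwo.simple_shapes hS hsimple hprank h1 with ⟨m, h4, hm, ⟨e⟩⟩ | h | h
  · haveI : NeZero m := ⟨hm⟩
    refine ⟨Or.inl ⟨m, ⟨e⟩⟩, ?_⟩
    obtain ⟨j, hj⟩ := hS.exists_card_eq
    rw [Nat.card_congr e.toEquiv, DihedralGroup.nat_card] at hj
    obtain ⟨i, hi, rfl⟩ := (Nat.dvd_prime_pow Nat.prime_two).1 (⟨2, by rw [← hj, mul_comm]⟩ : m ∣ 2 ^ j)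
    obtain ⟨i, rfl⟩ : ∃ t, i = t + 2 := ⟨i - 2, by
      have := (Nat.pow_dvd_pow_iff_le_right (by norm_num : 1 < 2) (k := 2) (l := i)).1 h4
      omega⟩
    obtain ⟨K, hK, hKf, hodd, hmod, T, ⟨eT⟩, hfullG⟩ := Cfsg.Agent.FSRankTwo.psl2_witness i
    obtain ⟨ι, hι, hU⟩ := Cfsg.Agent.FSRankTwo.realize_dihedral hS hF hfull h4 e.symm T eT hfullG
    exact ⟨K, hK, hKf, _, rfl, hodd, Or.inl ⟨hmod, ι, hι, hU⟩⟩
  · refine ⟨Or.inr (Or.inl h), ?_⟩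
    obtain ⟨n, ⟨D⟩⟩ := Cfsg.Agent.Fusion.exists_qdData' h
    obtain ⟨K, hK, hKf, hodd, T, ⟨E⟩, hfullG⟩ := Cfsg.Agent.FSRankTwo.psl3_semidihedral D.hn
    obtain ⟨ι, hι, hU⟩ := Cfsg.Agent.FSRankTwo.realize_qd hS hF hfull D T E hfullG
    exact ⟨K, hK, hKf, _, rfl, hodd, Or.inr ⟨ι, hι, hU⟩⟩
  · refine ⟨Or.inr (Or.inr h), ?_⟩
    obtain ⟨n, ⟨D⟩⟩ := Cfsg.Agent.Fusion.exists_wrData' h
    obtain ⟨K, hK, hKf, hodd, T, ⟨E⟩, hfullG⟩ := Cfsg.Agent.FSRankTwo.psl3_wreathed D.hn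
    obtain ⟨ι, hι, hU⟩ := Cfsg.Agent.FSRankTwo.realize_wr hS hF hfull D T E hfullG
    exact ⟨K, hK, hKf, _, rfl, hodd, Or.inr ⟨ι, hι, hU⟩⟩

end Cfsg.Agent.S5215
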