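import Cfsg.Statements.S5219
import Cfsg.Agent.Lib.Local.FS.PowerCenter

set_option autoImplicit false
open Cfsg

namespace Cfsg.Agent.S5219

theorem result {Ω : Type*} [Group Ω] {S : Subgroup Ω} [Finite S] (p : ℕ) [Fact p.Prime] (hS : IsPGroup p S) (F : Cfsg.FusionSystem S) (hF : F.IsSaturated p) (n : ℕ) (hS1 : S ≠ ⊥) (hcl : Subgroup.lowerCentralSeries S (n * (p - 1) + 1) = ⊥) (hcore : F.core = ⊥) : Monoid.exponent ↥S ∣ p ^ (n ^ 2 * (p - 1) + n) := by
  open Cfsg.Agent.Local.FS in
  have hn := powerCenter_normal hS hF n hcl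
  have hz : ∀ z ∈ Subgroup.center ↥S, z ^ p ^ n = 1 := by
    intro z hz
    have h1 : ((z : Ω)) ^ p ^ n ∈ F.core :=
      (le_sSup hn : _ ≤ F.core) (Subgroup.subset_closure ⟨(z : Ω), ⟨z.2, Subgroup.mem_centralizer_iff.2 fun s hs =>
        congrArg Subtype.val (Subgroup.mem_center_iff.1 hz ⟨s, hs⟩)⟩, rfl⟩)
    rw [hcore, Subgroup.mem_bot] at h1
    exact Subtype.ext (by rw [SubmonoidClass.coe_pow]; exact h1)
  set c := n * (p - 1) + 1
  have hmap : ∀ i : ℕ, ((⊤ : Subgroup ↥S).lowerCentralSeries i).map S.subtype = S.lowerCentralSeries i := by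
    intro i
    induction i with
    | zero =>
      show (⊤ : Subgroup ↥S).map S.subtype = S
      rw [← MonoidHom.range_eq_map, Subgroup.range_subtype]
    | succ i ih =>
      rw [Subgroup.lowerCentralSeries_succ, Subgroup.lowerCentralSeries_succ, Subgroup.map_commutator, ih,
        ← MonoidHom.range_eq_map, Subgroup.range_subtype]
  haveI : Group.IsNilpotent ↥S := hS.isNilpotent
  have htop : Subgroup.upperCentralSeries ↥S c = ⊤ := by
    rw [Subgroup.upperCentralSeries_eq_top_iff_nilpotencyClass_le, ← lowerCentralSeries_eq_bot_iff_nilpotencyClass_le]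
    refine Subgroup.map_injective S.subtype_injective ?_
    rw [Subgroup.map_bot, hmap, hcl]
  have key : ∀ i : ℕ, ∀ x ∈ Subgroup.upperCentralSeries ↥S i, x ^ p ^ (n * i) = 1 := by
    intro i
    induction i with
    | zero =>
      intro x hx
      rw [Subgroup.upperCentralSeries_zero, Subgroup.mem_bot] at hx
      rw [hx, one_pow]
    | succ i ih =>
      intro x hx
      rw [mul_add, mul_one, pow_add, mul_comm, pow_mul]
      exact ih _ (pow_mem_upperCentralSeries hz i x hx)
  refine Monoid.exponent_dvd_iff_forall_pow_eq_one.2 fun x => ?_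
  have h := key c x (htop ▸ Subgroup.mem_top x)
  rwa [show n * c = n ^ 2 * (p - 1) + n by simp only [c]; ring] at h

end Cfsg.Agent.S5219
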