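import Cfsg.Statements.S5220
import Cfsg.Agent.Lib.Local.FS.FactorGenerated

set_option autoImplicit false
open Cfsg

namespace Cfsg.Agent.S5220

theorem result {Ω : Type*} [Group Ω] {S : Subgroup Ω} [Finite S] (p : ℕ) [Fact p.Prime] (hS : IsPGroup p S) (F : Cfsg.FusionSystem S) (hF : F.IsSaturated p) (hS1 : S ≠ ⊥) (C : Cfsg.FusionSystem (Cfsg.FusionSystem.centralizerIn S (Cfsg.powerClosure p 1 (S ⊓ Subgroup.centralizer (S : Set Ω))))) (hC : F.IsCentralizerSystem (Cfsg.powerClosure p 1 (S ⊓ Subgroup.centralizer (S : Set Ω))) C) (N : Cfsg.FusionSystem (Cfsg.FusionSystem.normalizerIn S (Cfsg.thompsonSubgroupAOf S))) (hN : F.IsNormalizerSystem (Cfsg.thompsonSubgroupAOf S) N) (E : Cfsg.FusionSystem S) (hCE : C.IsSubsystemOf E) (hNE : N.IsSubsystemOf E) : F.IsSubsystemOf E := by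
  intro P φ hφ
  refine (Local.FS.mem_iff_map (F := E)).2 (Local.FS.thompsonGen hS hF (fun P f => Local.FS.Map E P f)
    (Local.FS.isClosedClass_map E) ?_ ?_ P _ (Local.FS.map_of_mem hφ))
  · intro P g hg hX hfix
    obtain ⟨φ', hφ', he⟩ := hg
    have hg : Local.FS.Map F P g := ⟨φ', hφ', he⟩
    have hall : ∀ s ∈ S, s ∈ Cfsg.FusionSystem.centralizerIn S
        (Cfsg.powerClosure p 1 (S ⊓ Subgroup.centralizer (S : Set Ω))) := fun s hs => by
      refine ⟨hs, ?_⟩
      have h : Cfsg.powerClosure p 1 (S ⊓ Subgroup.centralizer (S : Set Ω)) ≤ Subgroup.centralizer ({s} : Set Ω) := by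
        refine (Subgroup.closure_le _).2 ?_
        rintro y ⟨x, hx, rfl⟩
        exact Subgroup.pow_mem _ (Subgroup.mem_centralizer_iff.2 fun t ht => by
          rw [Set.mem_singleton_iff.1 ht]; exact Subgroup.mem_centralizer_iff.1 hx.2 s hs) _
      exact Subgroup.mem_centralizer_iff.2 fun y hy => (Subgroup.mem_centralizer_iff.1 (h hy) s rfl).symm
    have hg2 : Local.FS.Map F (P ⊔ Cfsg.powerClosure p 1 (S ⊓ Subgroup.centralizer (S : Set Ω))) g := by
      rw [sup_eq_left.2 (show Cfsg.powerClosure p 1 (S ⊓ Subgroup.centralizer (S : Set Ω)) ≤ P from hX)]; exact hg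
    obtain ⟨ψ, hψ, hψe⟩ := hg2
    refine ⟨φ', hCE P ?_, he⟩
    rw [hC P]
    exact ⟨hφ', fun x hx => hall x (hg.le hx), fun x => hall _ (by rw [he]; exact hg.mem x.2), ψ, hψ,
      fun x => by rw [hψe, he]; rfl, fun x => by rw [hψe]; exact hfix x x.2⟩
  · intro P g hg hJ hgJ
    have hn : S ≤ Cfsg.FusionSystem.normalizerIn S (Cfsg.thompsonSubgroupAOf S) :=
      (Local.FS.le_normalizerIn le_rfl).trans
        (Local.FS.normalizer_le_functor hS (Local.FS.isCharPFunctor_wJA (p := p)).2 le_rfl)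
    have hm : Local.FS.Map N P g := (Local.FS.map_normalizerSystem_iff hN).2
      ⟨hg.le.trans hn, fun x hx => hn (hg.mem hx), g,
        by rwa [sup_eq_left.2 (show Cfsg.thompsonSubgroupAOf S ≤ P from hJ)], fun _ _ => rfl, hgJ⟩
    obtain ⟨φ', hφ', he⟩ := hm
    exact ⟨φ', hNE P hφ', he⟩

end Cfsg.Agent.S5220
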