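import Cfsg.Statements.S5221
import Cfsg.Agent.Lib.Local.FS.SparseFree

set_option autoImplicit false
open Cfsg

namespace Cfsg.Agent.S5221

theorem result {Ω : Type*} [Group Ω] {S : Subgroup Ω} [Finite S] (p : ℕ) [Fact p.Prime] (hS : IsPGroup p S) (F : Cfsg.FusionSystem S) (hF : F.IsSaturated p) (hsp : ¬ (∀ P : Subgroup Ω, F.Hom P = (Cfsg.innerFusionSystem S).Hom P) ∧ ∀ E : Cfsg.FusionSystem S, E.IsSaturated p → E.IsSubsystemOf F → (∀ P : Subgroup Ω, E.Hom P = F.Hom P) ∨ (∀ P : Subgroup Ω, E.Hom P = (Cfsg.innerFusionSystem S).Hom P)) (hp : p ≠ 2 ∨ F.IsSectionFree p (Equiv.Perm (Fin 4))) : F.IsConstrained p := by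
  open Cfsg.Agent.Local.FS in
  exact constrained_of_minimal_thompson hS hF (fun h => hsp.1 (isInner_iff_hom.1 h))
    (fun E hE hsub => (hsp.2 E hE hsub).imp id isInner_iff_hom.2) hp

end Cfsg.Agent.S5221
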