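import Cfsg.Statements.S5222
import Cfsg.Agent.Lib.Local.FS.TateCor
import Cfsg.Agent.Lib.Local.FS.NormSat

set_option autoImplicit false
open Cfsg

namespace Cfsg.Agent.S5222

theorem result {Ω : Type*} [Group Ω] {S : Subgroup Ω} [Finite S] (p : ℕ) [Fact p.Prime] (hS : IsPGroup p S) (F : Cfsg.FusionSystem S) (hF : F.IsSaturated p) (hN : ∀ N : Cfsg.FusionSystem (Cfsg.FusionSystem.normalizerIn S S), F.IsNormalizerSystem S N → ∀ P : Subgroup Ω, N.Hom P = (Cfsg.innerFusionSystem (Cfsg.FusionSystem.normalizerIn S S)).Hom P) (Q : Subgroup Ω) (h1 : (commutator ↥S).map S.subtype ≤ Q) (h2 : Q ≤ (frattini ↥S).map S.subtype) : ∀ N : Cfsg.FusionSystem (Cfsg.FusionSystem.normalizerIn S Q), F.IsNormalizerSystem Q N → ∀ P : Subgroup Ω, N.Hom P = (Cfsg.innerFusionSystem (Cfsg.FusionSystem.normalizerIn S Q)).Hom P := by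
  open Cfsg.Agent.Local.FS Cfsg.FusionSystem in
  intro N hNQ
  have hder : (⁅S, S⁆ : Subgroup Ω) ≤ Q := by
    rwa [commutator_def, Subgroup.map_commutator, ← MonoidHom.range_eq_map, Subgroup.range_subtype] at h1
  have hQS : Q ≤ S := h2.trans (Subgroup.map_subtype_le _)
  have hn : S ≤ Subgroup.normalizer (Q : Set Ω) := fun s hs => mem_normalizer_of_conj_mem hQS fun x hx => by
    have h3 := hder (Subgroup.commutator_mem_commutator hs (hQS hx))
    have : s * x * s⁻¹ = (s * x * s⁻¹ * x⁻¹) * x := by group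
    rw [this]
    exact Q.mul_mem h3 hx
  have hNS : normalizerIn S Q = S := inf_eq_left.2 hn
  have hfn : F.IsFullyNormalized Q :=
    ⟨hQS, fun R _ => Subgroup.card_le_of_le (le_inf inf_le_left (inf_le_left.trans hn))⟩
  haveI : Finite ↥(normalizerIn S Q) := finite_of_le inf_le_left
  have hpN : IsPGroup p ↥(normalizerIn S Q) := hS.to_le inf_le_left
  have hNs := saturated_of_isNormalizerSystem hS hF hfn hNQ
  have hQc : N.StronglyClosed Q := stronglyClosed_iff.2 ⟨le_normalizerIn hQS, fun P f hP hf x hx => by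
    obtain ⟨φ, hφ, he⟩ := hf
    rw [hNQ P] at hφ
    obtain ⟨-, -, g, hg, hφg, hgQ⟩ := mem_normalizerHom.1 hφ
    rw [← he ⟨x, hx⟩, hφg]
    exact hgQ.le (mem_im_of_mem (hP hx))⟩
  have hFS := autGroup_le_of_normalizerSystem_inner (N := normSys F le_rfl) (fun P => rfl)
    (hN (normSys F le_rfl) fun P => rfl)
  have hAut : N.autGroup (normalizerIn S Q) ≤ autInducedBy (normalizerIn S Q) (normalizerIn S Q) := by
    intro α hα
    have hsub : N.IsSubsystemOf F := fun P φ hφ => by rw [hNQ P] at hφ; exact hφ.1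
    have hm := Cfsg.Agent.Local.FS.Map.of_sub hsub (map_of_mem_autGroup le_rfl hα)
    have hm' := hm.restrict hNS.ge
    obtain ⟨β, hβ, hβe⟩ := exists_aut hm' (Subgroup.eq_of_le_of_card_ge hm'.im_le hm'.card_im.ge)
    obtain ⟨s, hs, hsβ⟩ := mem_autInducedBy.1 (hFS hβ)
    exact mem_autInducedBy.2 ⟨s, hNS.ge hs, fun x hx => by rw [← hβe x hx.1, hsβ x hx.1]⟩
  have htriv := fun (P : Subgroup Ω) (f : Ω → Ω) (hf : Map N P f) =>
    trivial_mod hpN hNs hQc ((Subgroup.commutator_mono inf_le_left inf_le_left).trans hder) hAut hf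
  have hΦ : ∀ U : Subgroup Ω, U = S → (frattini ↥U).map U.subtype = (frattini ↥S).map S.subtype := by
    rintro U rfl; rfl
  have h := inner_of_hyperfocal_le_frattini hpN hNs
    ((hyperfocal_le_of_trivial_mod htriv).trans (by rw [hΦ _ hNS]; exact h2))
  intro P
  rw [h]

end Cfsg.Agent.S5222
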