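import Cfsg.Statements.S5223
import Cfsg.Agent.Lib.Local.FS.InnerBasic
import Cfsg.Agent.Lib.Local.FS.Focal

set_option autoImplicit false
open Cfsg

namespace Cfsg.Agent.S5223

theorem result {Ω : Type*} [Group Ω] {S : Subgroup Ω} [Finite S] (p : ℕ) [Fact p.Prime] (hS : IsPGroup p S) (F : Cfsg.FusionSystem S) (hF : F.IsSaturated p) (n : ℕ) (Q : Fin (n + 1) → Subgroup Ω) (hQ0 : Q 0 = S) (hQn : Q (Fin.last n) = ⊥) (hstep : ∀ i : Fin n, Subgroup.closure {y : Ω | ∃ x ∈ Q i.castSucc, ∃ φ ∈ F.Hom (Subgroup.zpowers x), y = x⁻¹ * φ ⟨x, Subgroup.mem_zpowers x⟩} ≤ Q i.succ) : ∀ P : Subgroup Ω, F.Hom P = (Cfsg.innerFusionSystem S).Hom P := by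
  refine Cfsg.Agent.Local.FS.isInner_iff_hom.1 (Cfsg.Agent.Local.FS.isInner_of_gen hS hF fun R hR => ?_)
  have hRS : R ≤ S := (Cfsg.Agent.Local.FS.gen_fn hR).1
  let step : Subgroup Ω → Subgroup Ω := fun A =>
    Subgroup.closure {y : Ω | ∃ x ∈ A, ∃ φ ∈ F.Hom (Subgroup.zpowers x), y = x⁻¹ * φ ⟨x, Subgroup.mem_zpowers x⟩}
  have hmono : ∀ A B, A ≤ B → step A ≤ step B := fun A B h =>
    Subgroup.closure_mono fun y ⟨x, hx, hrest⟩ => ⟨x, h hx, hrest⟩
  let D : ℕ → Subgroup Ω := fun i => step^[i] S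
  have hDS : ∀ i, D (i + 1) = step (D i) := fun i => Function.iterate_succ_apply' step i S
  have hdec : ∀ i, D (i + 1) ≤ D i := by
    intro i
    induction i with
    | zero =>
      refine (Subgroup.closure_le _).2 ?_
      rintro _ ⟨x, hx, φ, hφ, rfl⟩
      exact S.mul_mem (S.inv_mem hx) ((F.le_of_mem hφ).2 _)
    | succ i ih => rw [hDS (i + 1)]; exact (hmono _ _ ih).trans (hDS i).ge
  have hle : ∀ i : ℕ, ∀ hi : i < n + 1, D i ≤ Q ⟨i, hi⟩ := by
    intro i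
    induction i with
    | zero => intro hi; exact le_of_eq hQ0.symm
    | succ i ih =>
      intro hi
      rw [hDS]
      exact (hmono _ _ (ih (by omega))).trans (hstep ⟨i, by omega⟩)
  have hDn : D n = ⊥ := le_bot_iff.1 ((hle n (by omega)).trans hQn.le)
  haveI := Cfsg.Agent.Local.FS.finite_of_le hRS
  rintro ⟨α, hα⟩
  obtain ⟨k, hk⟩ := Cfsg.Agent.Local.FS.exists_pow_eq_one_of_stabilizes (hS.to_le hRS) (α := α)
    (fun j => D (n - j)) n (by simpa using hDn) (by simpa [D] using hRS)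
    (fun a b hab => (antitone_nat_of_succ_le hdec) (by omega)) fun i hi x hx hxD => by
      show x⁻¹ * _ ∈ D (n - i)
      rw [show n - i = n - (i + 1) + 1 by omega, hDS]
      obtain ⟨φ, hφ, he⟩ := (Cfsg.Agent.Local.FS.map_of_mem_autGroup hRS hα).isConjElt hx
      exact Subgroup.subset_closure ⟨x, hxD, φ, hφ, by rw [he]⟩
  exact ⟨k, Subtype.ext hk⟩

end Cfsg.Agent.S5223
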