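import Cfsg.Statements.S5224
import Cfsg.Agent.Lib.Local.FS.TateCor
import Cfsg.Agent.S5092

set_option autoImplicit false
open Cfsg

namespace Cfsg.Agent.S5224

theorem result {Ω : Type*} [Group Ω] {S : Subgroup Ω} [Finite S] (p : ℕ) [Fact p.Prime] (hS : IsPGroup p S) (F : Cfsg.FusionSystem S) (hF : F.IsSaturated p) (H : Cfsg.FusionSystem S) (hH : H.IsSaturated p) (hHF : H.IsSubsystemOf F) : (((frattini ↥S).map S.subtype ⊔ F.focalSubgroup) = ((frattini ↥S).map S.subtype ⊔ H.focalSubgroup) ↔ F.focalSubgroup = H.focalSubgroup) ∧ (F.focalSubgroup = H.focalSubgroup ↔ F.hyperfocalSubgroup p = H.hyperfocalSubgroup p) := by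
  open Cfsg.Agent.Local.FS Cfsg.FusionSystem in
  have hfF := Cfsg.Agent.S5092.result p hS F hF
  have hfH := Cfsg.Agent.S5092.result p hS H hH
  have hmono := hyperfocal_mono_tateCor (p := p) hHF
  have key : (frattini ↥S).map S.subtype ⊔ F.focalSubgroup = (frattini ↥S).map S.subtype ⊔ H.focalSubgroup →
      F.hyperfocalSubgroup p = H.hyperfocalSubgroup p := by
    intro h
    refine le_antisymm (hyperfocal_le_of_le_sup hS hF hmono (fun s hs x hx => hyperfocal_conj_mem hs hx) ?_) hmono
    calc F.hyperfocalSubgroup p ≤ (frattini ↥S).map S.subtype ⊔ F.focalSubgroup :=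
          le_sup_of_le_right (hfF.symm ▸ le_sup_left)
      _ = (frattini ↥S).map S.subtype ⊔ H.focalSubgroup := h
      _ ≤ _ := by
        rw [hfH]
        exact sup_le le_sup_right (sup_le le_sup_left ((commutator_le_frattini_map hS).trans le_sup_right))
  have h2 : F.hyperfocalSubgroup p = H.hyperfocalSubgroup p → F.focalSubgroup = H.focalSubgroup := fun h => by
    rw [hfF, hfH, h]
  exact ⟨⟨fun h => h2 (key h), fun h => by rw [h]⟩, fun h => key (by rw [h]), h2⟩

end Cfsg.Agent.S5224
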