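import Cfsg.Statements.S5225
import Cfsg.Agent.Lib.Local.FS.Yoshida

set_option autoImplicit false
open Cfsg

namespace Cfsg.Agent.S5225

theorem result {Ω : Type*} [Group Ω] {S : Subgroup Ω} [Finite S] (p : ℕ) [Fact p.Prime] (hS : IsPGroup p S) (F : Cfsg.FusionSystem S) (hF : F.IsSaturated p) (N : Cfsg.FusionSystem (Cfsg.FusionSystem.normalizerIn S S)) (hN : F.IsNormalizerSystem S N) (hne : N.focalSubgroup ≠ F.focalSubgroup) : ∃ (W : Sylow p (Equiv.Perm (Fin (p ^ 2)))) (f : ↥S →* ↥(W : Subgroup (Equiv.Perm (Fin (p ^ 2))))), Function.Surjective f := by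
  open Cfsg.Agent.Local.FS Cfsg.FusionSystem in
  by_contra hW
  refine hne (le_antisymm ((Subgroup.closure_le _).2 ?_) ?_)
  · rintro _ ⟨P, φ, x, hφ, rfl⟩
    obtain ⟨-, -, g, hg, hgf, -⟩ := (map_normalizerSystem_iff hN).1 (map_of_mem hφ)
    obtain ⟨ψ, hψ, he⟩ := hg.restrict le_sup_left
    exact Subgroup.subset_closure ⟨P, ψ, x, hψ, by rw [he, hgf x x.2, fn_coe]⟩
  · refine (focal_le_normFoc_of_normTrivial hS hF fun M hM u μ hMi m => ?_).trans (normFoc_le_of fun P g hg hU hgU x hx => ?_)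
    · by_contra hm
      exact hW (Cfsg.Agent.Fusion.exists_surj_of_norm hS hMi u μ m hm)
    · have hV : S ≤ normalizerIn S S := le_normalizerIn le_rfl
      have hgN : Map N P g := (map_normalizerSystem_iff hN).2
        ⟨hg.le.trans hV, fun y hy => hV (hg.mem hy), g, by rwa [sup_eq_left.2 hU], fun _ _ => rfl, hgU⟩
      obtain ⟨φ, hφ, he⟩ := hgN
      exact Subgroup.subset_closure ⟨P, φ, ⟨x, hx⟩, hφ, by rw [he]⟩

end Cfsg.Agent.S5225
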