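import Cfsg.Statements.S5226
import Cfsg.Agent.Lib.Local.FS.WeakSeries

set_option autoImplicit false
open Cfsg

namespace Cfsg.Agent.S5226

theorem result {Ω : Type*} [Group Ω] {S : Subgroup Ω} [Finite S] (p : ℕ) [Fact p.Prime] (hS : IsPGroup p S) (F : Cfsg.FusionSystem S) (hF : F.IsSaturated p) (Q : Subgroup Ω) : F.IsNormal Q ↔ F.StronglyClosed Q ∧ ∃ (n : ℕ) (C : Fin (n + 1) → Subgroup Ω), C 0 = ⊥ ∧ C (Fin.last n) = Q ∧ Monotone C ∧ (∀ i : Fin n, ⁅C i.succ, Q⁆ ≤ C i.castSucc) ∧ ∀ i : Fin n, F.WeaklyClosed (C i.castSucc) := by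
  constructor
  · intro hQ
    obtain ⟨n, C, h0, hn, hm, hQc, hsc, hc⟩ :=
      Cfsg.Agent.Local.FS.series_of_extends hS hQ.1 (Cfsg.Agent.Local.FS.normal_extends hQ)
    refine ⟨hQc, n, fun i => C i, h0, hn n le_rfl, fun a b h => hm h, fun i => ?_, fun i => ?_⟩
    · rw [Subgroup.commutator_comm]
      exact hc i i.2
    · have hs : F.StronglyClosed (C i) := hsc i
      refine ⟨hs.1, fun φ hφ => ?_⟩
      haveI : Finite ↥((fun i : Fin (n + 1) => C (i : ℕ)) i.castSucc) := Cfsg.Agent.Local.FS.finite_of_le hs.1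
      refine Subgroup.eq_of_le_of_card_ge (by rintro _ ⟨x, rfl⟩; exact hs.2 _ le_rfl φ hφ x) ?_
      rw [Nat.card_congr (MonoidHom.ofInjective (F.injective_of_mem hφ)).toEquiv.symm]
  · rintro ⟨hQ, n, C, h0, hn, hm, hc, hw⟩
    refine Cfsg.Agent.Local.FS.normal_of_weak_series hS hF (fun i => C ⟨min i n, by omega⟩) n ?_ ?_ ?_ hQ ?_ ?_
    · convert h0 using 2; exact Fin.ext (by simp)
    · convert hn using 2; exact Fin.ext (by simp)
    · intro a b h; exact hm (by simp only [Fin.mk_le_mk]; omega)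
    · intro i hi
      have := hw ⟨i, hi⟩
      convert this using 2
      exact Fin.ext (show min i n = i by omega)
    · intro i hi
      have := hc ⟨i, hi⟩
      simpa only [show min (i + 1) n = i + 1 by omega, show min i n = i by omega, Fin.succ_mk, Fin.castSucc_mk] using this

end Cfsg.Agent.S5226
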