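import Cfsg.Statements.S5236
import Cfsg.Agent.Lib.Local.FS.OmegaChain

set_option autoImplicit false
open Cfsg

namespace Cfsg.Agent.S5236

theorem result {Ω : Type*} [Group Ω] {S : Subgroup Ω} [Finite S] (p : ℕ) [Fact p.Prime] (hS : IsPGroup p S) (F : Cfsg.FusionSystem S) (hF : F.IsSaturated p) (hp : p ≠ 2) (P : Subgroup Ω) (hP : F.StronglyClosed P) : F.IsNormal P ↔ ∃ (n : ℕ) (Q : Fin (n + 1) → Subgroup Ω), Q 0 = ⊥ ∧ Q (Fin.last n) = Cfsg.omegaOne p P ∧ Monotone Q ∧ (∀ i : Fin (n + 1), F.StronglyClosed (Q i)) ∧ ∀ i : Fin n, ⁅Q i.succ, P⁆ ≤ Q i.castSucc := by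
  open Cfsg.Agent.Local.FS in
  constructor
  · intro h
    obtain ⟨n, C, h0, hn, hmono, hsc, hcomm⟩ := exists_omega_chain_of_normal (p := p) hS h
    exact ⟨n, fun i => C i, h0, hn, fun i j hij => hmono hij, fun i => hsc i, fun i => hcomm i⟩
  · rintro ⟨n, Q, h0, hn, hmono, hsc, hcomm⟩
    let C : ℕ → Subgroup Ω := fun i => Q ⟨min i n, Nat.lt_succ_of_le (min_le_right i n)⟩
    have hCn : ∀ i, C i ≤ omegaOne p P := fun i => hn ▸ hmono (Fin.le_last _)
    refine normal_of_omega_chain hS hF hp hP C n ?_ (fun x hx hxp => ?_) (fun i j hij => hmono ?_)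
      (fun i => (hCn i).trans omegaOne_le_self) (fun i => hsc _) fun i => ?_
    · show Q _ = ⊥
      rw [← h0]
      exact congrArg Q (Fin.ext (Nat.zero_min n))
    · show x ∈ Q _
      rw [show (⟨min n n, Nat.lt_succ_of_le (min_le_right n n)⟩ : Fin (n + 1)) = Fin.last n from Fin.ext (Nat.min_self n), hn]
      exact mem_omegaOne_of_pow hx hxp
    · exact Fin.mk_le_mk.2 (min_le_min_right n hij)
    · rcases lt_or_ge i n with hi | hi
      · have h1 := hcomm ⟨i, hi⟩
        show ⁅Q _, P⁆ ≤ Q _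
        rw [show (⟨min (i + 1) n, Nat.lt_succ_of_le (min_le_right (i + 1) n)⟩ : Fin (n + 1)) =
          (⟨i, hi⟩ : Fin n).succ from Fin.ext (Nat.min_eq_left hi),
          show (⟨min i n, Nat.lt_succ_of_le (min_le_right i n)⟩ : Fin (n + 1)) =
          (⟨i, hi⟩ : Fin n).castSucc from Fin.ext (Nat.min_eq_left hi.le)]
        exact h1
      · show ⁅Q _, P⁆ ≤ Q _
        refine Subgroup.commutator_le.2 fun x hx y hy => ?_
        have e : ∀ j, n ≤ j → (⟨min j n, Nat.lt_succ_of_le (min_le_right j n)⟩ : Fin (n + 1)) = Fin.last n :=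
          fun j hj => Fin.ext (Nat.min_eq_right hj)
        rw [e i hi, hn]
        rw [e (i + 1) (by omega), hn] at hx
        rw [commutatorElement_def, mul_assoc, mul_assoc]
        refine mul_mem hx ?_
        rw [← mul_assoc]
        have hc : (omegaOne p P).subgroupOf P |>.Characteristic := omegaOne_characteristic
        haveI := hc
        exact (inferInstance : ((omegaOne p P).subgroupOf P).Normal).conj_mem
          ⟨x⁻¹, P.inv_mem (omegaOne_le_self hx)⟩ (Subgroup.mem_subgroupOf.2 (inv_mem hx)) ⟨y, hy⟩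

end Cfsg.Agent.S5236
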