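import Cfsg.Statements.S5238
import Cfsg.Agent.Lib.Solv.MaxSub
import Cfsg.Agent.Lib.Local.FS.Map
import Cfsg.Agent.S0112
import Cfsg.Agent.S4143

set_option autoImplicit false
open Cfsg

namespace Cfsg.Agent.S5238

/-- Let p be an odd prime and F a saturated fusion system over a finite p-group S having a pearl: an F-essential subgroup E that is elementary abelian of order p² or nonabelian of order p³. Then S has maximal nilpotency class (if S has order pⁿ with n ≥ 3, the term of index n − 2 of its lower central series, counting S itself as the term of index 0, is nontrivial), and every subgroup of S can be generated by at most p elements (the sectional rank of S is at most p). -/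
theorem result {Ω : Type*} [Group Ω] {S : Subgroup Ω} [Finite S] (p : ℕ) [Fact p.Prime] (hS : IsPGroup p S) (F : Cfsg.FusionSystem S) (hF : F.IsSaturated p) (hp : p ≠ 2) (E : Subgroup Ω) (hE : F.IsEssential p E) (hpearl : (Nat.card E = p ^ 2 ∧ ∀ x ∈ E, x ^ p = 1 ∧ IsMulCommutative ↥E) ∨ (Nat.card E = p ^ 3 ∧ ¬ IsMulCommutative ↥E)) : (∀ n : ℕ, Nat.card S = p ^ n → 3 ≤ n → Subgroup.lowerCentralSeries S (n - 2) ≠ ⊥) ∧ ∀ H : Subgroup Ω, H ≤ S → ∃ T : Finset Ω, T.card ≤ p ∧ Subgroup.closure (T : Set Ω) = H := by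
  classical
  have hES : E ≤ S := hE.1.1
  obtain ⟨N, hN⟩ := hS.exists_card_eq
  have hCE : Cfsg.FusionSystem.centralizerIn S E ≤ E := hE.1.2 E (Local.FS.isConj_refl hES)
  have hC : Subgroup.centralizer ((E.subgroupOf S : Subgroup S) : Set S) ≤ E.subgroupOf S := by
    intro c hc
    refine hCE ⟨c.2, Subgroup.mem_centralizer_iff.2 fun x hx => ?_⟩
    exact congrArg Subtype.val (Subgroup.mem_centralizer_iff.1 hc ⟨x, hES hx⟩ hx)
  let e := Subgroup.subgroupOfEquivOfLe hES
  have hcardE : Nat.card (E.subgroupOf S) = Nat.card E := Nat.card_congr e.toEquiv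
  have hN2 : 2 ≤ N := by
    have h1 : Nat.card (E.subgroupOf S) ≤ p ^ N :=
      hN ▸ Nat.le_of_dvd Nat.card_pos (E.subgroupOf S).card_subgroup_dvd_card
    rw [hcardE] at h1
    rcases hpearl with ⟨h, -⟩ | ⟨h, -⟩ <;>
    · rw [h, Nat.pow_le_pow_iff_right (Fact.out : p.Prime).one_lt] at h1
      omega
  have hclass : Group.nilpotencyClass S = N - 1 := by
    rcases hpearl with ⟨h, hab⟩ | ⟨h, hna⟩
    · obtain ⟨⟨x, hx⟩⟩ : Nonempty E := ⟨1⟩
      refine S0112.result N hN (E.subgroupOf S) (hcardE.trans h) (le_antisymm hC fun c hc => ?_)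
      refine Subgroup.mem_centralizer_iff.2 fun d hd => ?_
      have hcm := (hab x hx).2.is_comm.comm (⟨(d : Ω), hd⟩ : E) ⟨(c : Ω), hc⟩
      exact Subtype.ext (by simpa using congrArg Subtype.val hcm)
    · refine S4143.result N hN (E.subgroupOf S) (hcardE.trans h) (fun hc => hna ⟨⟨fun a b => ?_⟩⟩) hC
      exact Subtype.ext (congrArg (fun z : E.subgroupOf S => ((z : S) : Ω))
        (hc.is_comm.comm ⟨⟨(a : Ω), hES a.2⟩, a.2⟩ ⟨⟨(b : Ω), hES b.2⟩, b.2⟩))
  have hmax := Solv.MaxC.isMax_of_class hN2 hN hclass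
  refine ⟨fun n hn _ hbot => hmax.ne ?_, fun H hH => ?_⟩
  · obtain rfl : n = N := Nat.pow_right_injective (Fact.out : p.Prime).two_le (hn.symm.trans hN)
    rwa [← Subgroup.map_eq_bot_iff_of_injective _ S.subtype_injective,
      Subgroup.top_subtype_lowerCentralSeries]
  · obtain ⟨T, hT, hTH⟩ := hmax.exists_generators (H.subgroupOf S)
    refine ⟨T.image S.subtype, Finset.card_image_le.trans hT, ?_⟩
    rw [Finset.coe_image, ← MonoidHom.map_closure, hTH, Subgroup.map_subgroupOf_eq_of_le hH]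

end Cfsg.Agent.S5238
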