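import Cfsg.Statements.S5239
import Cfsg.Agent.Lib.Local.FS.PearlThree
import Cfsg.Agent.S5238

set_option autoImplicit false
open Cfsg

namespace Cfsg.Agent.S5239

/-- Let F be a saturated fusion system over a finite 3-group S having a pearl: an F-essential subgroup E that is elementary abelian of order 9 or nonabelian of order 27. Then either S is extraspecial of order 27 and exponent 3, or S has order at least 81 and every subgroup of S can be generated by at most two elements, or S is isomorphic to the wreath product C₃ ≀ C₃ (a Sylow 3-subgroup of the symmetric group of degree 9). -/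
theorem result {Ω : Type*} [Group Ω] {S : Subgroup Ω} [Finite S] (hS : IsPGroup 3 S) (F : Cfsg.FusionSystem S) (hF : F.IsSaturated 3) [Fact (Nat.Prime 3)] (E : Subgroup Ω) (hE : F.IsEssential 3 E) (hpearl : (Nat.card E = 9 ∧ ∀ x ∈ E, x ^ 3 = 1 ∧ IsMulCommutative ↥E) ∨ (Nat.card E = 27 ∧ ¬ IsMulCommutative ↥E)) : (Cfsg.IsExtraspecial 3 ↥S ∧ Nat.card S = 27 ∧ Monoid.exponent ↥S = 3) ∨ (81 ≤ Nat.card S ∧ ∀ H : Subgroup Ω, H ≤ S → ∃ T : Finset Ω, T.card ≤ 2 ∧ Subgroup.closure (T : Set Ω) = H) ∨ (∃ W : Sylow 3 (Equiv.Perm (Fin 9)), Nonempty (↥S ≃* ↥(W : Subgroup (Equiv.Perm (Fin 9))))) := by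
  classical
  have hlt := Local.FS.lt_of_essential hS hF hE
  have hES : E ≤ S := hlt.le
  have h53 := (S5238.result 3 hS F hF (by norm_num) E hE (by
    rcases hpearl with ⟨h, he⟩ | ⟨h, he⟩
    · exact Or.inl ⟨by rw [h]; norm_num, he⟩
    · exact Or.inr ⟨by rw [h]; norm_num, he⟩)).1
  obtain ⟨N, hN⟩ := hS.exists_card_eq
  haveI := Local.FS.finite_of_le hES
  have hN3 : 3 ≤ N := by
    have h1 := Local.FS.card_lt_of_lt hlt le_rfl
    rw [hN] at h1
    by_contra hh
    have h2 := Nat.pow_le_pow_right (show 3 > 0 by norm_num) (show N ≤ 2 by omega)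
    rcases hpearl with ⟨h, -⟩ | ⟨h, -⟩ <;> rw [h] at h1 <;> norm_num at h2 <;> omega
  have hmax : Solv.MaxC.IsMax S 3 N := by
    refine ⟨hN, by omega, fun hbot => h53 N hN hN3 ?_⟩
    rw [← Subgroup.top_subtype_lowerCentralSeries, hbot, Subgroup.map_bot]
  have hCE : Subgroup.centralizer ((E.subgroupOf S : Subgroup S) : Set S) ≤ E.subgroupOf S := by
    intro c hc
    refine hE.1.2 E (Local.FS.isConj_refl hES) ⟨c.2, Subgroup.mem_centralizer_iff.2 fun x hx => ?_⟩
    exact congrArg Subtype.val (Subgroup.mem_centralizer_iff.1 hc ⟨x, hES hx⟩ hx)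
  have hcardE : Nat.card (E.subgroupOf S) = Nat.card E :=
    Nat.card_congr (Subgroup.subgroupOfEquivOfLe hES).toEquiv
  haveI : Nontrivial S := Finite.one_lt_card_iff_nontrivial.1 (by
    rw [hN]; exact Nat.one_lt_pow (by omega) (by norm_num))
  rcases hN3.eq_or_lt with rfl | hN4
  · left
    have hcS : Nat.card S = 27 := by rw [hN]; norm_num
    obtain ⟨hcE, hexpE⟩ : Nat.card E = 9 ∧ ∀ z ∈ E, z ^ 3 = 1 := by
      rcases hpearl with ⟨h, he⟩ | ⟨h, -⟩
      · exact ⟨h, fun z hz => (he z hz).1⟩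
      · exact absurd (Local.FS.card_lt_of_lt hlt le_rfl) (by rw [h, hcS]; exact lt_irrefl _)
    have hexp := Local.FS.PearlThree.exponent_three hS hF hE hcS hcE hexpE hmax
    have hF2 : Solv.PolySeq.F S 2 = Subgroup.center S := (hmax.center_eq le_rfl).symm
    refine ⟨Solv.isExtraspecial_of hS (hmax.center_card le_rfl) hF2 fun x => by rw [hexp x]; exact one_mem _,
      hcS, ?_⟩
    rcases (Nat.dvd_prime Nat.prime_three).1 (Monoid.exponent_dvd_of_forall_pow_eq_one hexp) with h | h
    · rw [Monoid.exp_eq_one_iff] at h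
      exact absurd h (not_subsingleton S)
    · exact h
  right
  obtain ⟨x, hx3, hC⟩ : ∃ x : S, x ^ 3 = 1 ∧ Nat.card (Subgroup.centralizer ({x} : Set S)) ≤ 9 := by
    rcases hpearl with ⟨h, he⟩ | ⟨h, hna⟩
    · refine Local.FS.PearlThree.small_of_square hS (hcardE.trans h)
        (fun z hz => Subtype.ext (by simpa using (he z hz).1)) hCE fun ht => ?_
      have h1 := hcardE.trans h
      rw [ht, Subgroup.card_top, hN] at h1
      have h2 := Nat.pow_le_pow_right (show 3 > 0 by norm_num) (show 4 ≤ N by omega)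
      norm_num at h2; omega
    · have hexp := Local.FS.PearlThree.cube_exponent hES hE h hna
      refine Local.FS.PearlThree.small_of_cube hmax hN4 (hcardE.trans h)
        (fun z hz => Subtype.ext (by simpa using hexp z hz)) ?_ hCE
      intro hc
      refine hna ⟨⟨fun a b => Subtype.ext ?_⟩⟩
      exact congrArg (fun z : E.subgroupOf S => ((z : S) : Ω))
        (hc.is_comm.comm ⟨⟨(a : Ω), hES a.2⟩, a.2⟩ ⟨⟨(b : Ω), hES b.2⟩, b.2⟩)
  have hmap : (∀ H : Subgroup S, ∃ T : Finset S, T.card ≤ 2 ∧ Subgroup.closure (T : Set S) = H) →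
      81 ≤ Nat.card S ∧ ∀ H : Subgroup Ω, H ≤ S → ∃ T : Finset Ω, T.card ≤ 2 ∧
        Subgroup.closure (T : Set Ω) = H := by
    intro hall
    refine ⟨by rw [hN]; exact le_trans (by norm_num) (Nat.pow_le_pow_right (show 3 > 0 by norm_num) (show 4 ≤ N by omega)),
      fun H hH => ?_⟩
    obtain ⟨T, hT, hTH⟩ := hall (H.subgroupOf S)
    refine ⟨T.image S.subtype, Finset.card_image_le.trans hT, ?_⟩
    rw [Finset.coe_image, ← MonoidHom.map_closure, hTH, Subgroup.map_subgroupOf_eq_of_le hH]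
  rcases (show N = 4 ∨ 5 ≤ N by omega) with rfl | hN5
  · exact (Solv.MaxC.wreath_or_two_gen hN hmax hC).imp_left hmap
  · exact Or.inl (hmap (hmax.three_rank_two hN5 hx3 hC))

end Cfsg.Agent.S5239
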