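import Cfsg.Statements.S5240
import Cfsg.Agent.Lib.Local.FS.SectionFree

set_option autoImplicit false
open Cfsg

namespace Cfsg.Agent.S5240

theorem result {Ω : Type*} [Group Ω] {S : Subgroup Ω} [Finite S] (p : ℕ) [Fact p.Prime] (hS : IsPGroup p S) (F : Cfsg.FusionSystem S) (hF : F.IsSaturated p) (hfree : F.IsSectionFree p ↥(Cfsg.qd p)) (Q : Subgroup Ω) (hQ : F.IsFullyNormalized Q) (N : Cfsg.FusionSystem (Cfsg.FusionSystem.normalizerIn S Q)) (hN : F.IsNormalizerSystem Q N) : N.IsSectionFree p ↥(Cfsg.qd p) := by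
  exact Cfsg.Agent.Local.FS.sectionFree_normalizerSystem hS hF hfree hQ hN

end Cfsg.Agent.S5240
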