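import Cfsg.Statements.S5243
import Cfsg.Agent.Lib.Local.FS.CharSubsystem
-- import your own Cfsg.Agent.* helpers here

set_option autoImplicit false
open Cfsg

namespace Cfsg.Agent.S5243

/-- Let F be a saturated fusion system over a finite p-group S, E a normal subsystem of F over T ≤ S, and χ a surjective homomorphism from Aut_F(T) onto a nontrivial finite group Δ of order prime to p whose kernel contains Aut_E(T). Then there is a proper normal subsystem F₀ of F over S containing E such that Aut_{F₀}(S) consists of those α ∈ Aut_F(S) whose restriction to T is an element of Aut_F(T) in the kernel of χ; moreover every p'-residual subsystem O^{p'}(F) of F is contained in F₀. -/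
theorem result {Ω : Type*} [Group Ω] {S : Subgroup Ω} [Finite S] (p : ℕ) [Fact p.Prime] (hS : IsPGroup p S) (F : Cfsg.FusionSystem S) (hF : F.IsSaturated p) {T : Subgroup Ω} (hTS : T ≤ S) (E : Cfsg.FusionSystem T) (hE : E.IsNormalIn F p) {Δ : Type*} [Group Δ] [Finite Δ] [Nontrivial Δ] (hΔ : (Nat.card Δ).Coprime p) (χ : ↥(F.autGroup T) →* Δ) (hχ : Function.Surjective χ) (hker : (E.autGroup T).subgroupOf (F.autGroup T) ≤ χ.ker) : ∃ F₀ : Cfsg.FusionSystem S, F₀.IsNormalIn F p ∧ ¬ (∀ P : Subgroup Ω, F₀.Hom P = F.Hom P) ∧ E.IsSubsystemOf F₀ ∧ (∀ α : MulAut ↥S, α ∈ F₀.autGroup S ↔ α ∈ F.autGroup S ∧ ∃ β : ↥(F.autGroup T), χ β = 1 ∧ ∀ t : ↥T, (((β : MulAut ↥T) t : ↥T) : Ω) = ((α ⟨(t : Ω), hTS t.2⟩ : ↥S) : Ω)) ∧ ∀ R : Cfsg.FusionSystem S, F.IsPPrimeResidual p R → R.IsSubsystemOf F₀ := by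
  open Cfsg.FusionSystem Cfsg.Agent.Local.FS in
  obtain ⟨c, hc, hb⟩ := exists_cls hS hE.1 χ hΔ hker
  haveI := finite_of_le hTS
  refine ⟨charSys hS hc hΔ, charSys_normalIn hS hc hΔ hF, fun heq => ?_, sub_charSys hS hc hΔ hE.1 χ hker hb,
    fun α => ⟨fun hα => ?_, fun ⟨hα, β, hβ, hag⟩ => ?_⟩, fun R hR => ?_⟩
  · obtain ⟨d, hd⟩ := exists_ne (1 : Δ)
    obtain ⟨a, ha⟩ := hχ d
    obtain ⟨u, -, γ, hγ, -, hcls⟩ := exists_lift hS hΔ hE.1 χ hker hb a.2
    have hm : Map (charSys hS hc hΔ) S (av γ) := by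
      obtain ⟨φ, hφ, he⟩ := map_of_mem_autGroup le_rfl hγ
      exact ⟨φ, (heq S).ge hφ, he⟩
    have h1 := ((mem_autGroup_charSys hS hc hΔ).1 (mem_autGroup_of_map hm)).2
    rw [hcls, chVal_mem a.2] at h1
    exact hd (ha ▸ h1)
  · obtain ⟨hαF, hαc⟩ := (mem_autGroup_charSys hS hc hΔ).1 hα
    have hm := (map_of_mem_autGroup (F := F) le_rfl hαF).restrict hTS
    obtain ⟨β, hβ, hag⟩ := exists_aut hm (Subgroup.eq_of_le_of_card_ge
      (im_le_iff.2 fun x hx => stronglyClosed_map hE.1.2.2.2.1 hm hx hx) hm.card_im.ge)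
    refine ⟨hαF, ⟨β, hβ⟩, ?_, fun t => ?_⟩
    · rw [cls_aut_top hS hΔ hE.1 χ hker hb hαF hβ (fun x hx => (hag x hx).symm), chVal_mem hβ] at hαc
      exact hαc
    · show ((β t : T) : Ω) = _
      rw [← av_coe β t, hag t t.2, av_apply α (hTS t.2)]
  · refine (mem_autGroup_charSys hS hc hΔ).2 ⟨hα, ?_⟩
    rw [cls_aut_top hS hΔ hE.1 χ hker hb hα β.2 (fun x hx => by
      rw [av_apply α (hTS hx), av_apply _ hx]; exact (hag ⟨x, hx⟩).symm), chVal_mem β.2]
    exact hβ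
  · exact hR.2.2 _ (charSys_saturated hS hc hΔ hF) ⟨charSys_le hS hc hΔ, fun P hP =>
      pResAut_le_of_centric hS hF (centClosed_charSys hS hc hΔ).1 hP⟩

end Cfsg.Agent.S5243
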