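import Cfsg.Statements.S5244
import Cfsg.Agent.Lib.Lead.AbelianIndexCore

set_option autoImplicit false
open Cfsg

namespace Cfsg.Agent.S5244

open Cfsg.Agent.Local.FS Cfsg.Agent.Local.FS.AbIdx

/-- Let p be an odd prime, S a finite nonabelian p-group with a unique abelian subgroup A of index p, and F a saturated fusion system over S with no nontrivial normal subgroup (O_p(F) = 1) in which A is not F-essential. Then some subgroup Z(S)⟨x⟩ with x ∈ S outside A is F-essential, the centre Z(S) is contained in the commutator subgroup of S, and S has maximal nilpotency class (if S has order pⁿ with n ≥ 3, the term of index n − 2 of its lower central series, counting S itself as the term of index 0, is nontrivial). -/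
theorem result {Ω : Type*} [Group Ω] {S : Subgroup Ω} [Finite S] (p : ℕ) [Fact p.Prime] (hS : IsPGroup p S) (F : Cfsg.FusionSystem S) (hF : F.IsSaturated p) (hp : p ≠ 2) (hna : ¬ IsMulCommutative ↥S) (A : Subgroup Ω) (hA : A ≤ S ∧ IsMulCommutative ↥A ∧ (A.subgroupOf S).index = p) (huniq : ∀ B : Subgroup Ω, B ≤ S → IsMulCommutative ↥B → (B.subgroupOf S).index = p → B = A) (hcore : F.core = ⊥) (hAe : ¬ F.IsEssential p A) : (∃ x ∈ S, x ∉ A ∧ F.IsEssential p ((S ⊓ Subgroup.centralizer (S : Set Ω)) ⊔ Subgroup.zpowers x)) ∧ (S ⊓ Subgroup.centralizer (S : Set Ω)) ≤ (commutator ↥S).map S.subtype ∧ ∀ n : ℕ, Nat.card S = p ^ n → 3 ≤ n → Subgroup.lowerCentralSeries S (n - 2) ≠ ⊥ := by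
  have d := datum_of hS hna hA
  have hpp : p.Prime := Fact.out
  obtain ⟨h1, h2, hz, hc⟩ := d.core_free hF hAe hp hcore
  rw [Subgroup.map_subtype_commutator]
  refine ⟨h1, h2, fun n hn hn3 hbot => ?_⟩
  obtain ⟨I, -, hIL, hcard⟩ := d.exists_iterate hc (n - 3)
  rw [show n - 3 + 1 = n - 2 by omega, hbot, le_bot_iff] at hIL
  rw [hIL, Subgroup.card_bot, one_mul] at hcard
  have h3 := d.card_S
  rw [← d.card_commutator_mul, hz, hn, show n = n - 2 + 2 by omega, pow_add] at h3
  have h4 : p ^ (n - 2) = Nat.card ↥⁅S, S⁆ := by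
    refine Nat.eq_of_mul_eq_mul_right (pow_pos hpp.pos 2) ?_
    rw [h3, sq, mul_comm (Nat.card ↥⁅S, S⁆) p, ← mul_assoc, mul_comm]
  have h5 := (Nat.pow_le_pow_iff_right hpp.one_lt).1 (h4 ▸ hcard)
  omega

end Cfsg.Agent.S5244
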