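import Cfsg.Statements.S5245
import Cfsg.Agent.Lib.Local.FS.MinimalNonInner

set_option autoImplicit false
open Cfsg

namespace Cfsg.Agent.S5245

theorem result {Ω : Type*} [Group Ω] {S : Subgroup Ω} [Finite S] (p : ℕ) [Fact p.Prime] (hS : IsPGroup p S) (F : Cfsg.FusionSystem S) (hF : F.IsSaturated p) (hxs : ¬ (∀ P : Subgroup Ω, F.Hom P = (Cfsg.innerFusionSystem S).Hom P) ∧ ∀ (T : Subgroup Ω) (E : Cfsg.FusionSystem T), E.IsSaturated p → E.IsSubsystemOf F → (T = S ∧ ∀ P : Subgroup Ω, E.Hom P = F.Hom P) ∨ (∀ P : Subgroup Ω, E.Hom P = (Cfsg.innerFusionSystem T).Hom P)) : F.IsNormal S ∧ F.focalSubgroup = S ∧ F.hyperfocalSubgroup p = S ∧ ∃ (q : ℕ) (β : MulAut ↥S), q.Prime ∧ q ≠ p ∧ β ∈ F.autGroup S ∧ orderOf β = q ∧ (F.autGroup S : Subgroup (MulAut ↥S)) = Cfsg.Inn ↥S ⊔ Subgroup.zpowers β := by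
  refine Cfsg.Agent.Local.FS.minimal_structure hS hF ⟨fun h => hxs.1 (Cfsg.Agent.Local.FS.isInner_iff_hom.1 h),
    fun T E hE hsub => ?_⟩
  exact (hxs.2 T E hE hsub).imp_right Cfsg.Agent.Local.FS.isInner_iff_hom.2

end Cfsg.Agent.S5245
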