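import Cfsg.Statements.S5246
import Cfsg.Agent.Lib.Local.FS.StableSystem

set_option autoImplicit false
open Cfsg

namespace Cfsg.Agent.S5246

theorem result {Ω : Type*} [Group Ω] [Finite Ω] {p : ℕ} [Fact p.Prime] (hp : p ≠ 2) (P : Sylow p Ω) : Cfsg.IsNormalizerPStable p Ω ↔ (∀ Q : Subgroup Ω, (Cfsg.groupFusionSystem (P : Subgroup Ω)).IsFullyNormalized Q → ∀ χ : MulAut ↥Q, χ ∈ (Cfsg.groupFusionSystem (P : Subgroup Ω)).autGroup Q → (∀ a : ↥Q, (χ a⁻¹) * a * (χ a⁻¹) * (χ (χ a)) = 1) → χ ∈ ((Cfsg.pCore p ↥((Cfsg.groupFusionSystem (P : Subgroup Ω)).autGroup Q)).map ((Cfsg.groupFusionSystem (P : Subgroup Ω)).autGroup Q).subtype : Subgroup (MulAut ↥Q))) := by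
  exact ⟨fun h => Local.FS.system_of_isNormalizerPStable P.2 h,
    fun hst => Local.FS.isNormalizerPStable_of_system (Fusion.sylIn_top P) hst⟩

end Cfsg.Agent.S5246
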