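import Cfsg.Statements.S5249
import Cfsg.Agent.Lib.Local.FS.GroupFree
import Cfsg.Agent.Lib.Local.FS.FreeChain

set_option autoImplicit false
open Cfsg

namespace Cfsg.Agent.S5249

theorem result {G : Type*} [Group G] [Finite G] {p : ℕ} [Fact p.Prime] (hp : p ≠ 2) (hqd : ¬ Cfsg.Involves ↥(Cfsg.qd p) G) (P : Sylow p G) : (Cfsg.groupFusionSystem (P : Subgroup G)).IsSolvableSystem := by
  open Cfsg.Agent.Local.FS Cfsg.Agent.Fusion in
  exact solvable_of_qd_free hp P.isPGroup' (group_saturated (sylIn_top P)) (group_sectionFree (sylIn_top P) hqd)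

end Cfsg.Agent.S5249
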