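import Cfsg.Statements.S5252
import Cfsg.Agent.Lib.Local.FS.TransferKInf

set_option autoImplicit false
open Cfsg

namespace Cfsg.Agent.S5252

theorem result {Ω : Type*} [Group Ω] {S : Subgroup Ω} [Finite S] (p : ℕ) [Fact p.Prime] (hS : IsPGroup p S) (F : Cfsg.FusionSystem S) (hF : F.IsSaturated p) (hp : 5 ≤ p) (hS1 : S ≠ ⊥) (haut : IsPGroup p ↥(F.autGroup S)) : F.focalSubgroup < S := by
  exact Local.FS.focal_lt_of_isPGroup_autGroup hp _ Ω S F rfl hS hF hS1 haut

end Cfsg.Agent.S5252
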