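import Cfsg.Statements.S5253
import Cfsg.Agent.Lib.Local.FS.GlaubermanCenter
import Cfsg.Agent.Lib.Fusion.QuadraticPowers

set_option autoImplicit false
universe u
open Cfsg

namespace Cfsg.Agent.S5253

theorem result {p : ℕ} [Fact p.Prime] (W : ∀ (Q : Type u) [Group Q], Subgroup Q) (hW1 : ∀ (Q : Type u) [Group Q] [Finite Q], IsPGroup p Q → Nontrivial Q → W Q ≠ ⊥) (hW2 : ∀ (Q R : Type u) [Group Q] [Group R] [Finite Q], IsPGroup p Q → ∀ φ : Q ≃* R, (W Q).map φ.toMonoidHom = W R) (hWZ : ∀ (Q : Type u) [Group Q] [Finite Q], IsPGroup p Q → Subgroup.center Q ≤ W Q) (hq : ∀ (G : Type u) [Group G] [Finite G] (P : Sylow p G), ¬ (((W ↥(P : Subgroup G)).map (P : Subgroup G).subtype : Subgroup G)).Normal → ∃ g : G, g ∈ (P : Subgroup G) ∧ g ∉ Cfsg.pCore p G ∧ ⁅⁅Subgroup.center ↥(Cfsg.pCore p G) |>.map (Cfsg.pCore p G).subtype, Subgroup.zpowers g⁆, Subgroup.zpowers g⁆ = ⊥) {Ω : Type u}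 [Group Ω] {S : Subgroup Ω} [Finite S] (hS : IsPGroup p S) (F : Cfsg.FusionSystem S) (hF : F.IsSaturated p) (N : Cfsg.FusionSystem (Cfsg.FusionSystem.normalizerIn S ((W ↥S).map S.subtype))) (hN : F.IsNormalizerSystem ((W ↥S).map S.subtype) N) : Subgroup.closure ((fun z => z ^ p) '' ((S ⊓ Subgroup.centralizer (S : Set Ω) : Subgroup Ω) : Set Ω)) ⊓ N.center ≤ F.center := by
  intro x hx
  obtain ⟨hx1, hx2⟩ := hx
  obtain ⟨z, hzS, hzc, rfl⟩ := Local.FS.exists_pow_of_mem_closure hx1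
  have hW : Cfsg.IsCharPFunctor.{u} p W := ⟨hW1, hW2⟩
  have hWS : Cfsg.inducedFunctor W S ≤ S := Subgroup.map_subtype_le _
  obtain ⟨hxS, hxc, hfix⟩ := Local.FS.center_normalizer_props hWS (Local.FS.normalizerIn_functor hS hW2) hN hx2
  refine Local.FS.mem_center_of_local hS hF hW2 hWZ hxS hxc (fun f hf hi => hfix f hf hi ?_) ?_
  · exact ⟨⟨z ^ p, hxS⟩, hWZ ↥S hS (Subgroup.mem_center_iff.2 fun s => Subtype.ext (hxc s s.2)), rfl⟩
  intro R hR hRc L _ ι hm T hT hxV hloc g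
  haveI := hm.1
  have hzV : z ∈ Cfsg.FusionSystem.normalizerIn S R := Local.FS.le_normalizerIn hR.1
    (Local.FS.centric_inv_mem hRc hzS fun y hy => hzc y (hR.1 hy))
  have he : ι ⟨z ^ p, hxV⟩ = ι ⟨z, hzV⟩ ^ p := by rw [← map_pow]; rfl
  rw [he] at hloc ⊢
  refine mul_inv_eq_iff_eq_mul.2 (Fusion.fixed_of_quadratic hW hq _ L T (ι ⟨z, hzV⟩) le_rfl hm.2.2.2
    (hT ▸ ⟨_, rfl⟩) (fun t ht => ?_) (fun h hh => mul_inv_eq_iff_eq_mul.1 (hloc h hh)) g)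
  rw [hT] at ht
  obtain ⟨s, rfl⟩ := ht
  rw [← map_mul, ← map_mul]
  exact congrArg ι (Subtype.ext (hzc s s.2.1))

end Cfsg.Agent.S5253
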