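import Cfsg.Statements.S5254
import Cfsg.Agent.Lib.Lead.AbelianIndexEssential

set_option autoImplicit false
open Cfsg

namespace Cfsg.Agent.S5254

/-- Let p be an odd prime, S a finite nonabelian p-group with a unique abelian subgroup A of index p, and F a saturated fusion system over S. Then every F-essential subgroup P is A, or Z(S)⟨x⟩ for some x ∈ S outside A, or (when the second centre Z₂(S) lies in A) Z₂(S)⟨x⟩ for some x ∈ S outside A; and P has index p in its normalizer in S. -/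
theorem result {Ω : Type*} [Group Ω] {S : Subgroup Ω} [Finite S] (p : ℕ) [Fact p.Prime] (hS : IsPGroup p S) (F : Cfsg.FusionSystem S) (hF : F.IsSaturated p) (hp : p ≠ 2) (hna : ¬ IsMulCommutative ↥S) (A : Subgroup Ω) (hA : A ≤ S ∧ IsMulCommutative ↥A ∧ (A.subgroupOf S).index = p) (huniq : ∀ B : Subgroup Ω, B ≤ S → IsMulCommutative ↥B → (B.subgroupOf S).index = p → B = A) (P : Subgroup Ω) (hP : F.IsEssential p P) : (P = A ∨ (∃ x ∈ S, x ∉ A ∧ P = (S ⊓ Subgroup.centralizer (S : Set Ω)) ⊔ Subgroup.zpowers x) ∨ (((upperCentralSeries ↥S 2).map S.subtype) ≤ A ∧ ∃ x ∈ S, x ∉ A ∧ P = ((upperCentralSeries ↥S 2).map S.subtype) ⊔ Subgroup.zpowers x)) ∧ (P.subgroupOf (S ⊓ Subgroup.normalizer (P : Set Ω))).index = p := by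
  have d := Cfsg.Agent.Local.FS.AbIdx.datum_of hS hna hA
  have key : ∀ Q : Subgroup Ω, Q ≤ S → Nat.card ↥(FusionSystem.normalizerIn S Q) = p * Nat.card Q →
      (Q.subgroupOf (S ⊓ Subgroup.normalizer (Q : Set Ω))).index = p := by
    intro Q hQS hN
    haveI := Cfsg.Agent.Local.FS.finite_of_le hQS
    have h := (Q.subgroupOf (FusionSystem.normalizerIn S Q)).index_mul_card
    rw [Nat.card_congr (Subgroup.subgroupOfEquivOfLe (K := FusionSystem.normalizerIn S Q)
      (le_inf hQS Subgroup.le_normalizer)).toEquiv, hN] at h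
    exact Nat.eq_of_mul_eq_mul_right Nat.card_pos h
  by_cases hPA : P = A
  · refine ⟨Or.inl hPA, key P hP.1.1 ?_⟩
    subst hPA
    rw [show FusionSystem.normalizerIn S P = S from inf_eq_left.2 d.le_normalizer, d.card_S]
  obtain ⟨x, hx, hxA, -, -, hN, hc, h⟩ := d.shape hF hP hPA
  refine ⟨Or.inr ?_, key P hP.1.1 hN⟩
  rcases h with ⟨h, -⟩ | ⟨h, -, -⟩
  · exact Or.inl ⟨x, hx, hxA, h⟩
  · have hZ2 : (upperCentralSeries ↥S 2).map S.subtype = _ := d.Z2_eq huniq hc hx hxA
    exact Or.inr ⟨hZ2 ▸ fun a ha => ((d.mem_pre hx).1 ha).1, x, hx, hxA, by rw [hZ2]; exact h⟩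

end Cfsg.Agent.S5254
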