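import Cfsg.Statements.S5255
import Cfsg.Agent.Lib.Local.FS.Quotient

set_option autoImplicit false
open Cfsg

namespace Cfsg.Agent.S5255

theorem result {Ω : Type*} [Group Ω] {S : Subgroup Ω} [Finite S] (p : ℕ) [Fact p.Prime] (hS : IsPGroup p S) (F : Cfsg.FusionSystem S) (hF : F.IsSaturated p) (T : Subgroup Ω) (hT : F.StronglyClosed T) : F.StronglyClosed (T ⊔ Cfsg.FusionSystem.centralizerIn S T) := by
  exact Cfsg.Agent.Local.FS.stronglyClosed_sup_centralizer hS hF hT

end Cfsg.Agent.S5255
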