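import Cfsg.Statements.S5256
import Cfsg.Agent.Lib.Local.FS.FactorHyperfocal

set_option autoImplicit false
open Cfsg

namespace Cfsg.Agent.S5256

theorem result {Ω : Type*} [Group Ω] {S : Subgroup Ω} [Finite S] (p : ℕ) [Fact p.Prime] (hS : IsPGroup p S) (F : Cfsg.FusionSystem S) (hF : F.IsSaturated p) (T : Subgroup Ω) (hT : F.StronglyClosed T) {Ω' : Type*} [Group Ω'] {S' : Subgroup Ω'} (θ : ↥S →* Ω') (E : Cfsg.FusionSystem S') (hE : F.IsFactorSystem T θ E) : E.hyperfocalSubgroup p = ((F.hyperfocalSubgroup p).subgroupOf S).map θ := by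
  exact Cfsg.Agent.Local.FS.fac_hyperfocal hS hF hT hE

end Cfsg.Agent.S5256
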