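import Cfsg.Statements.S5257
import Cfsg.Agent.Lib.Lead.AbelianIndexEssential

set_option autoImplicit false
open Cfsg

namespace Cfsg.Agent.S5257

open Cfsg.Agent.Local.FS Cfsg.Agent.Local.FS.AbIdx

/-- Let p be an odd prime, S a finite nonabelian p-group with a unique abelian subgroup A of index p, and F a saturated fusion system over S having an F-essential subgroup other than A. Then the second centre Z₂(S) lies in A; Z(S) ∩ [S, S] has order p; Z(S)[S, S] has index p in A; Z(S) has index p in Z₂(S); and S/Z(S) has maximal nilpotency class (if S/Z(S) has order pᵐ with m ≥ 3 then the term of index m − 2 of the lower central series of S, counting S as index 0, is not contained in Z(S)). -/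
theorem result {Ω : Type*} [Group Ω] {S : Subgroup Ω} [Finite S] (p : ℕ) [Fact p.Prime] (hS : IsPGroup p S) (F : Cfsg.FusionSystem S) (hF : F.IsSaturated p) (hp : p ≠ 2) (hna : ¬ IsMulCommutative ↥S) (A : Subgroup Ω) (hA : A ≤ S ∧ IsMulCommutative ↥A ∧ (A.subgroupOf S).index = p) (huniq : ∀ B : Subgroup Ω, B ≤ S → IsMulCommutative ↥B → (B.subgroupOf S).index = p → B = A) (P : Subgroup Ω) (hP : F.IsEssential p P) (hPA : P ≠ A) : ((upperCentralSeries ↥S 2).map S.subtype) ≤ A ∧ Nat.card ↥((S ⊓ Subgroup.centralizer (S : Set Ω)) ⊓ ((commutator ↥S).map S.subtype)) = p ∧ (((S ⊓ Subgroup.centralizer (S : Set Ω)) ⊔ ((commutator ↥S).map S.subtype)).subgroupOf A).index = p ∧ (((S ⊓ Subgroup.centralizer (S : Set Ω))).subgroupOf ((upperCentralSeries ↥S 2).map S.subtype)).index = p ∧ ∀ m : ℕ, ((S ⊓ Subgroup.centralizer (S : Set Ω)).subgroupOf S).index = p ^ m → 3 ≤ m → ¬ Subgroup.lowerCentralSeries S (m - 2) ≤ (S ⊓ Subgroup.centralizer (S : Set Ω)) := by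
  have d := datum_of hS hna hA
  have hp : p.Prime := Fact.out
  obtain ⟨x, hx, hxA, -, -, -, hc, -⟩ := d.shape hF hP hPA
  have hZ2 : (upperCentralSeries ↥S 2).map S.subtype = _ := d.Z2_eq huniq hc hx hxA
  rw [Subgroup.map_subtype_commutator, hZ2]
  change _ ∧ Nat.card ↥(SmallCenter.zS S ⊓ ⁅S, S⁆) = p ∧ ((SmallCenter.zS S ⊔ ⁅S, S⁆).subgroupOf A).index = p ∧
    ((SmallCenter.zS S).subgroupOf (d.pre hx (SmallCenter.zS S))).index = p ∧
    ∀ m : ℕ, ((SmallCenter.zS S).subgroupOf S).index = p ^ m → 3 ≤ m →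
      ¬ Subgroup.lowerCentralSeries S (m - 2) ≤ SmallCenter.zS S
  haveI := finite_of_le (SmallCenter.zS_le (S := S))
  haveI := finite_of_le d.le
  refine ⟨fun a ha => ((d.mem_pre hx).1 ha).1, by rw [inf_comm]; exact hc, ?_, ?_, fun m hm hm3 hle => ?_⟩
  · have hle : SmallCenter.zS S ⊔ ⁅S, S⁆ ≤ A := sup_le d.zS_le d.commutator_le_A
    have h := ((SmallCenter.zS S ⊔ ⁅S, S⁆).subgroupOf A).index_mul_card
    rw [Nat.card_congr (Subgroup.subgroupOfEquivOfLe hle).toEquiv] at h
    have h1 : Nat.card ↥(SmallCenter.zS S ⊔ ⁅S, S⁆) * p = Nat.card A :=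
      d.card_zS_sup_commutator hc
    rw [← h1, mul_comm] at h
    exact Nat.eq_of_mul_eq_mul_left (haveI := finite_of_le (hle.trans d.le); Nat.card_pos) h
  · have h := ((SmallCenter.zS S).subgroupOf (d.pre hx (SmallCenter.zS S))).index_mul_card
    rw [Nat.card_congr (Subgroup.subgroupOfEquivOfLe (fun z hz => (d.mem_pre hx).2 ⟨d.zS_le hz, by
      rw [commutatorElement_eq_one_iff_mul_comm.2 (SmallCenter.comm_zS hz hx)]
      exact Subgroup.one_mem _⟩)).toEquiv, d.card_pre hx hxA, hc, mul_comm (Nat.card ↥(SmallCenter.zS S)) p] at h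
    exact Nat.eq_of_mul_eq_mul_right Nat.card_pos h
  · obtain ⟨I, hI, hIL, hcard⟩ := d.exists_iterate hc (m - 3)
    rw [show m - 3 + 1 = m - 2 by omega] at hIL
    haveI := finite_of_le ((inf_le_left : ⁅S, S⁆ ⊓ SmallCenter.zS S ≤ _).trans SmallCenter.commutator_le_self)
    have h1 : Nat.card I ≤ p := hc ▸ Subgroup.card_le_of_le (le_inf hI (hIL.trans hle))
    have h2 : Nat.card ↥⁅S, S⁆ ≤ p ^ (m - 2) :=
      hcard.trans ((Nat.mul_le_mul_right _ h1).trans_eq (by rw [← pow_succ', show m - 3 + 1 = m - 2 by omega]))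
    have h3 := ((SmallCenter.zS S).subgroupOf S).index_mul_card
    rw [hm, Nat.card_congr (Subgroup.subgroupOfEquivOfLe (SmallCenter.zS_le (S := S))).toEquiv, d.card_S,
      ← d.card_commutator_mul, ← mul_assoc, show m = m - 1 + 1 by omega, pow_succ'] at h3
    have h4 : p ^ (m - 1) = Nat.card ↥⁅S, S⁆ :=
      Nat.eq_of_mul_eq_mul_left hp.pos (Nat.eq_of_mul_eq_mul_right Nat.card_pos h3)
    have h5 := (Nat.pow_le_pow_iff_right hp.one_lt).1 (h4 ▸ h2)
    omega

end Cfsg.Agent.S5257
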