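import Cfsg.Statements.S5264
import Cfsg.Agent.Lib.Local.FS.OrderFifth.PearlGroup
import Cfsg.Agent.Lib.Local.FS.OrderFifth.Pearl
import Cfsg.Agent.Lib.Solv.MaxSub
import Cfsg.Agent.Lib.Local.FS.Normal
import Cfsg.Agent.S0112
import Cfsg.Agent.S5092
import Cfsg.Agent.S5186
import Cfsg.Agent.S5187

set_option autoImplicit false
open Cfsg

namespace Cfsg.Agent.S5264

open Cfsg.FusionSystem Cfsg.Agent.Fusion Cfsg.Agent.Local.FS Cfsg.Agent.Local.FS.Fifth
open scoped commutatorElement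

section Cases

variable {Ω : Type*} [Group Ω] {S : Subgroup Ω} [Finite S] {p : ℕ} [hp : Fact p.Prime] {F : FusionSystem S}

open Solv.MaxC Solv.PolySeq in
/-- The case of an essential subgroup of order `p²`. -/
theorem no_square (hS : IsPGroup p S) (hF : F.IsSaturated p) (hp2 : p ≠ 2) (hp7 : p ≠ 7)
    (hcard : Nat.card S = p ^ 5) (hfoc : F.focalSubgroup = S)
    (hNA : ∀ A : Subgroup Ω, A ≤ S → Nat.card A = p ^ 4 → ¬ ∀ a ∈ A, ∀ b ∈ A, a * b = b * a)
    {E : Subgroup Ω} (hE : F.IsEssential p E) (hexp : ∀ y ∈ E, y ^ p = 1) (hEc : Nat.card E = p ^ 2) :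
    False := by
  have hES : E ≤ S := hE.1.1
  have hcE : Nat.card (E.subgroupOf S) = p ^ 2 :=
    (Nat.card_congr (Subgroup.subgroupOfEquivOfLe hES).toEquiv).trans hEc
  have hself : ∀ c : S, (∀ y ∈ E.subgroupOf S, y * c = c * y) → c ∈ E.subgroupOf S := fun c hc =>
    Subgroup.mem_subgroupOf.2 (centric_inv_mem hE.1 c.2 fun y hy =>
      congrArg Subtype.val (hc ⟨y, hES hy⟩ (Subgroup.mem_subgroupOf.2 hy)))
  have hEab : ∀ a ∈ E.subgroupOf S, ∀ b ∈ E.subgroupOf S, a * b = b * a := fun a ha b hb =>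
    congrArg Subtype.val ((IsPGroup.isMulCommutative_of_card_eq_prime_sq hcE).is_comm.comm
      (⟨a, ha⟩ : E.subgroupOf S) ⟨b, hb⟩)
  have hcent : Subgroup.centralizer ((E.subgroupOf S : Subgroup S) : Set S) = E.subgroupOf S :=
    le_antisymm (fun c hc => hself c fun y hy => Subgroup.mem_centralizer_iff.1 hc y hy)
      fun c hc => Subgroup.mem_centralizer_iff.2 fun y hy => hEab y hy c hc
  have hmax : IsMax S p 5 := isMax_of_class (by norm_num) hcard (S0112.result 5 hcard _ hcE hcent)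
  have hP : PearlIn S p (E.subgroupOf S) :=
    ⟨hmax, hcE, hself, fun y hy => Subtype.ext (by simpa using hexp _ (Subgroup.mem_subgroupOf.1 hy)),
      fun A hA hab => hNA (A.map S.subtype) (Subgroup.map_subtype_le A)
        (by rw [Subgroup.card_map_of_injective S.subtype_injective, hA]) (by
          rintro _ ⟨a, ha, rfl⟩ _ ⟨b, hb, rfl⟩
          exact congrArg Subtype.val (hab a ha b hb))⟩
  by_cases hp3 : p = 3
  · subst hp3
    obtain ⟨hW, l, hl, hfix⟩ := hP.three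
    refine focal_ne hS hF hW l.2 (fun ⟨q, hq, hql⟩ => hl (Subtype.ext hql ▸ hq)) (fun γ hγ => ?_) hfoc
    exact ⟨l⁻¹ * γ l, hfix γ, by rw [av_coe]; rfl⟩
  -- the chain
  have hp5 : 5 ≤ p := by
    have := hp.out.two_le
    by_contra h
    interval_cases p
    · exact hp2 rfl
    · exact hp3 rfl
    · exact absurd hp.out (by decide)
  obtain ⟨L, hL⟩ : ∃ L : ℕ → Subgroup Ω, ∀ k, L k = (Solv.PolySeq.F ↥S k).map S.subtype := ⟨_, fun _ => rfl⟩
  have hmem : ∀ {k : ℕ} {y : Ω}, y ∈ L k → ∃ u : S, u ∈ Solv.PolySeq.F ↥S k ∧ (u : Ω) = y := fun {k y} hy => by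
    rw [hL] at hy; exact hy
  have hmk : ∀ {k : ℕ} {u : S}, u ∈ Solv.PolySeq.F ↥S k → (u : Ω) ∈ L k := fun {k u} hu => by
    rw [hL]; exact ⟨u, hu, rfl⟩
  have hanti : ∀ {a b : ℕ}, a ≤ b → L b ≤ L a := fun {a b} h => by
    rw [hL, hL]; exact Subgroup.map_mono (F_antitone h)
  have hcardL : Nat.card (L 2) = p ^ 3 ∧ Nat.card (L 3) = p ^ 2 ∧ Nat.card (L 4) = p := by
    simp only [hL, Subgroup.card_map_of_injective S.subtype_injective]; exact hP.card_F
  have hdrop : ∀ k, ∀ a ∈ S, ∀ b ∈ L k, ⁅a, b⁆ ∈ L (k + 1) := fun k a ha b hb => by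
    obtain ⟨u, hu, rfl⟩ := hmem hb
    exact hmk (drop_mem (⟨a, ha⟩ : S) hu)
  have hc : Chain S p E (L 2) (L 3) (L 4) :=
    { pgroup := hS
      leS := hL 2 ▸ Subgroup.map_subtype_le _
      le32 := hanti (by norm_num)
      le43 := hanti (by norm_num)
      leE := fun y hy => by
        obtain ⟨u, hu, rfl⟩ := hmem hy
        exact Subgroup.mem_subgroupOf.1 (hP.F4_le hu)
      hES := hES
      cS := hcard
      c2 := hcardL.1
      c3 := hcardL.2.1
      c4 := hcardL.2.2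
      cE := hEc
      expE := hexp
      ab2 := fun a ha b hb => by
        obtain ⟨u, hu, rfl⟩ := hmem ha
        obtain ⟨v, hv, rfl⟩ := hmem hb
        exact congrArg Subtype.val (hP.F2_comm u hu v hv)
      drop1 := fun a ha b hb =>
        hdrop 1 a ha b (hmk (k := 1) (u := ⟨b, hb⟩) (Subgroup.mem_top _))
      drop2 := fun a ha b hb => hdrop 2 a ha b hb
      drop3 := fun a ha b hb => hdrop 3 a ha b hb
      central := fun z hz s hs => by
        obtain ⟨u, hu, rfl⟩ := hmem hz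
        exact congrArg Subtype.val (hP.central hu ⟨s, hs⟩)
      infE := fun y hy hy2 => by
        obtain ⟨u, hu, rfl⟩ := hmem hy2
        exact hmk (hP.inf_F2.le ⟨Subgroup.mem_subgroupOf.2 hy, hu⟩)
      self := fun c hc h => centric_inv_mem hE.1 hc h
      move := fun y hy hy4 => by
        have hy4' : (⟨y, hES hy⟩ : S) ∉ Solv.PolySeq.F ↥S 4 := fun h => hy4 (hmk h)
        obtain ⟨s₁, A, B, χ₂, χ₃, χ₄, j, hC⟩ := hP.exists_coords (x := ⟨y, hES hy⟩)
          (Subgroup.mem_subgroupOf.2 hy) hy4'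
        refine ⟨s₁, s₁.2, fun h => ?_⟩
        obtain ⟨u, hu, hue⟩ := hmem h
        have h2 := (hC.c2_zero u (F_antitone (by norm_num) hu)).2 hu
        rw [show u = ⁅s₁, (⟨y, hES hy⟩ : S)⁆ from Subtype.ext hue, hC.P2 _ hC.s₁_mem, hC.B_s₁, hC.A_x,
          one_mul] at h2
        exact one_ne_zero h2 }
  obtain ⟨g, hg⟩ := IsCyclic.exists_generator (α := (ZMod p)ˣ)
  obtain ⟨x, hxE, hx4, z, hz4, hz1, α, hα, hαx, hαz⟩ := hc.torus hF hE g
  have hxS := hES hxE
  obtain ⟨u, hu, rfl⟩ := hmem hz4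
  have h1 := hP.scalar (x := ⟨x, hxS⟩) (Subgroup.mem_subgroupOf.2 hxE) (fun h => hx4 (hmk h))
    hu (fun h => hz1 (congrArg Subtype.val h)) α (a := ((g : ZMod p)).val)
    (b := ((g⁻¹ : (ZMod p)ˣ) : ZMod p).val)
    (Subtype.ext (by rw [← av_coe, hαx]; rfl)) (Subtype.ext (by rw [← av_coe, hαz]; rfl))
  rw [ZMod.natCast_zmod_val, ZMod.natCast_zmod_val] at h1
  have h6 : g ^ 6 = 1 := Units.ext (by
    rw [Units.val_pow_eq_pow_val, pow_succ, h1, Units.inv_mul, Units.val_one])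
  have hdvd : p - 1 ∣ 6 := by
    have := orderOf_dvd_of_pow_eq_one h6
    rwa [orderOf_eq_card_of_forall_mem_zpowers hg, Nat.card_eq_fintype_card, ZMod.card_units p] at this
  have hle : p ≤ 7 := by have := Nat.le_of_dvd (by norm_num) hdvd; omega
  interval_cases p
  · exact absurd hdvd (by decide)
  · exact absurd hp.out (by decide)
  · exact hp7 rfl

/-- Nontrivial elements of order dividing `p` generate subgroups of order `p`. -/
theorem card_zpowers_eq {d : Ω} (hd : d ^ p = 1) (hd1 : d ≠ 1) : Nat.card (Subgroup.zpowers d) = p := by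
  rw [Nat.card_zpowers, orderOf_eq_prime hd hd1]

open Tower in
/-- An essential subgroup of order `p⁴` keeps the centre of `S`. -/
theorem center_invariant_of_fourth (hS : IsPGroup p S) (hcard : Nat.card S = p ^ 5)
    {E Z : Subgroup Ω} (hES : E ≤ S) (hEc : Nat.card E = p ^ 4) (hna : ¬ ∀ a ∈ E, ∀ b ∈ E, a * b = b * a)
    (hZ : ∀ y, y ∈ Z ↔ y ∈ S ∧ ∀ s ∈ S, s * y = y * s) (hZE : Z ≤ E)
    (hlt : Z < E ⊓ Subgroup.centralizer (E : Set Ω)) (hZ1 : Z ≠ ⊥) :
    ∀ α ∈ F.autGroup E, ∀ y ∈ Z, av α y ∈ Z := by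
  obtain ⟨ZE, hZE'⟩ : ∃ ZE, ZE = E ⊓ Subgroup.centralizer (E : Set Ω) := ⟨_, rfl⟩
  rw [← hZE'] at hlt
  have hZS : Z ≤ S := hZE.trans hES
  have hZEE : ZE ≤ E := hZE' ▸ inf_le_left
  have hcen : ∀ y ∈ ZE, ∀ a ∈ E, a * y = y * a := fun y hy a ha => by
    rw [hZE'] at hy; exact Subgroup.mem_centralizer_iff.1 hy.2 a ha
  have hmemZE : ∀ y ∈ E, (∀ a ∈ E, a * y = y * a) → y ∈ ZE := fun y hy h => by
    rw [hZE']; exact ⟨hy, Subgroup.mem_centralizer_iff.2 h⟩
  haveI := finite_of_le hES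
  haveI := finite_of_le hZS
  obtain ⟨u, hu, huZ⟩ : ∃ u ∈ E, u ∉ ZE := by
    by_contra h
    push Not at h
    exact hna fun a ha b hb => hcen b (h b hb) a ha
  obtain ⟨U, hU⟩ : ∃ U, U = Subgroup.zpowers u ⊔ ZE := ⟨_, rfl⟩
  have hUE : U ≤ E := hU ▸ sup_le (Subgroup.zpowers_le.2 hu) hZEE
  have huU : u ∈ U := hU ▸ Subgroup.mem_sup_left (Subgroup.mem_zpowers u)
  have hUu : ∀ w ∈ U, u * w = w * u := by
    have hle : U ≤ Subgroup.centralizer ({u} : Set Ω) := hU ▸ sup_le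
      (Subgroup.zpowers_le.2 (Subgroup.mem_centralizer_singleton_iff.2 rfl))
      fun w hw => Subgroup.mem_centralizer_singleton_iff.2 (hcen w hw u hu).symm
    exact fun w hw => (Subgroup.mem_centralizer_singleton_iff.1 (hle hw)).symm
  have hUlt : U < E := lt_of_le_of_ne hUE fun h => huZ (hmemZE u hu fun a ha => (hUu a (h.ge ha)).symm)
  have hZElt : ZE < U := lt_of_le_of_ne (hU ▸ le_sup_right) fun h => huZ (h.ge huU)
  have hc3 : Nat.card U ≤ p ^ 3 := by
    have h1 := step_le hS hES hUlt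
    rw [hEc, show 4 = 3 + 1 from rfl, pow_succ p 3] at h1
    exact Nat.le_of_mul_le_mul_right h1 hp.out.pos
  have hc2 : Nat.card ZE ≤ p ^ 2 := by
    have h1 := (step_le hS (hUE.trans hES) hZElt).trans hc3
    rw [show 3 = 2 + 1 from rfl, pow_succ p 2] at h1
    exact Nat.le_of_mul_le_mul_right h1 hp.out.pos
  have hc1 : Nat.card Z = p ∧ Nat.card ZE = p ^ 2 ∧ Nat.card U = p ^ 3 := by
    have hb : (⊥ : Subgroup Ω) < Z := bot_lt_iff_ne_bot.2 hZ1
    have h0 := step_le hS hZS hb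
    rw [Subgroup.card_bot, one_mul] at h0
    have h1 := step_le hS (hZEE.trans hES) hlt
    have h2 := step_le hS (hUE.trans hES) hZElt
    have e2 : p ^ 3 = p ^ 2 * p := pow_succ p 2
    have e1 : p ^ 2 = p * p := sq p
    refine ⟨?_, ?_, ?_⟩
    · nlinarith [hp.out.two_le]
    · nlinarith [hp.out.two_le]
    · nlinarith [hp.out.two_le]
  have nrm : ∀ {X Y : Subgroup Ω}, X ≤ Y → Y ≤ S → Nat.card Y = Nat.card X * p →
      Y ≤ Subgroup.normalizer (X : Set Ω) := by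
    intro X Y hXY hYS hc
    have hlt : X < Y := lt_of_le_of_ne hXY fun h => by
      rw [h] at hc
      have h2 := hp.out.two_le
      haveI := finite_of_le hYS
      have h3 : 0 < Nat.card Y := Nat.card_pos
      nlinarith
    haveI := finite_of_le hYS
    have h1 := lt_normalizerIn (S := Y) (hS.to_le hYS) hlt
    have h2 := step_le hS ((show normalizerIn Y X ≤ Y from inf_le_left).trans hYS) h1
    exact (eq_of_card hYS inf_le_left (hc.trans_le h2)).ge.trans inf_le_right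
  have hEn : S ≤ Subgroup.normalizer (E : Set Ω) := nrm hES le_rfl (by rw [hcard, hEc, ← pow_succ])
  have hUn : E ≤ Subgroup.normalizer (U : Set Ω) := nrm hUE hES (by rw [hEc, hc1.2.2, ← pow_succ])
  have hZEn : E ≤ Subgroup.normalizer (ZE : Set Ω) := fun a ha =>
    mem_normalizer_of_conj_mem (hZEE.trans hES) fun y hy => by
      rw [hcen y hy a ha, mul_inv_cancel_right]; exact hy
  obtain ⟨y, hy, hyU⟩ := SetLike.exists_of_lt hUlt
  obtain ⟨d, hd⟩ : ∃ d, d = ⁅y, u⁆ := ⟨_, rfl⟩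
  have hfix : ∀ a ∈ E, ∀ w ∈ U, ⁅a, w⁆ ∈ ZE := fun a ha =>
    conj_fix hS (hUE.trans hES) hZElt.le (hUE.trans hZEn) (by rw [hc1.2.2, hc1.2.1, ← pow_succ]) (hES ha)
      (hUn ha) (hZEn ha)
  have hdZ : d ∈ ZE := hd ▸ hfix y hy u huU
  obtain ⟨D, hD⟩ : ∃ D, D = Subgroup.zpowers d := ⟨_, rfl⟩
  have hDZ : D ≤ ZE := hD ▸ Subgroup.zpowers_le.2 hdZ
  have hDn : E ≤ Subgroup.normalizer (D : Set Ω) := fun a ha =>
    mem_normalizer_of_conj_mem ((hDZ.trans hZEE).trans hES) fun w hw => by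
      rw [hcen w (hDZ hw) a ha, mul_inv_cancel_right]; exact hw
  -- commutation into `D` is a subgroup
  have hsub : ∀ w ∈ E, ∃ K : Subgroup Ω, ∀ a, a ∈ K ↔ a ∈ E ∧ ⁅a, w⁆ ∈ D := fun w hw =>
    ⟨{ carrier := {a | a ∈ E ∧ ⁅a, w⁆ ∈ D}
       one_mem' := ⟨E.one_mem, by simp⟩
       mul_mem' := fun {a b} ha hb => ⟨E.mul_mem ha.1 hb.1, by
         rw [commutator_conj_left]; exact D.mul_mem (conj_mem_of_normalizer (hDn ha.1) hb.2) ha.2⟩
       inv_mem' := fun {a} ha => ⟨E.inv_mem ha.1, by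
         rw [show ⁅a⁻¹, w⁆ = a⁻¹ * ⁅a, w⁆⁻¹ * a⁻¹⁻¹ by simp only [commutatorElement_def]; group]
         exact conj_mem_of_normalizer (hDn (E.inv_mem ha.1)) (D.inv_mem ha.2)⟩ }, fun _ => Iff.rfl⟩
  have hcm : ∀ {a b : Ω}, ⁅a, b⁆ ∈ D → ⁅b, a⁆ ∈ D := fun {a b} h => by
    rw [← commutatorElement_inv]; exact D.inv_mem h
  have hgenE : Subgroup.zpowers y ⊔ U = E := by
    refine eq_of_card hES (sup_le (Subgroup.zpowers_le.2 hy) hUE) ?_
    have hlt' : U < Subgroup.zpowers y ⊔ U :=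
      lt_of_le_of_ne le_sup_right fun h => hyU (h ▸ Subgroup.mem_sup_left (Subgroup.mem_zpowers y))
    have h1 := step_le hS ((sup_le (Subgroup.zpowers_le.2 hy) hUE).trans hES) hlt'
    rw [hc1.2.2, ← pow_succ] at h1
    rw [hEc]; exact h1
  have hgen : ∀ K : Subgroup Ω, y ∈ K → u ∈ K → ZE ≤ K → E ≤ K := fun K hy' hu' hZ' =>
    hgenE.ge.trans (sup_le (Subgroup.zpowers_le.2 hy') (hU ▸ sup_le (Subgroup.zpowers_le.2 hu') hZ'))
  have hone : ∀ z ∈ ZE, ∀ w ∈ E, ⁅z, w⁆ ∈ D := fun z hz w hw => by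
    rw [commutatorElement_eq_one_iff_mul_comm.2 (hcen z hz w hw).symm]; exact D.one_mem
  have hEy : ∀ a ∈ E, ⁅a, y⁆ ∈ D := fun a ha => by
    obtain ⟨K, hK⟩ := hsub y hy
    refine ((hK a).1 (hgen K ((hK y).2 ⟨hy, by simp⟩) ((hK u).2 ⟨hu, hcm ?_⟩)
      (fun z hz => (hK z).2 ⟨hZEE hz, hone z hz y hy⟩) ha)).2
    rw [← hd, hD]; exact Subgroup.mem_zpowers d
  have hEu : ∀ a ∈ E, ⁅a, u⁆ ∈ D := fun a ha => by
    obtain ⟨K, hK⟩ := hsub u hu
    refine ((hK a).1 (hgen K ((hK y).2 ⟨hy, ?_⟩) ((hK u).2 ⟨hu, by simp⟩)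
      (fun z hz => (hK z).2 ⟨hZEE hz, hone z hz u hu⟩) ha)).2
    rw [← hd, hD]; exact Subgroup.mem_zpowers d
  have hED : ⁅E, E⁆ ≤ D := Subgroup.commutator_le.2 fun a ha b hb => by
    obtain ⟨K, hK⟩ := hsub b hb
    exact ((hK a).1 (hgen K ((hK y).2 ⟨hy, hcm (hEy b hb)⟩) ((hK u).2 ⟨hu, hcm (hEu b hb)⟩)
      (fun z hz => (hK z).2 ⟨hZEE hz, hone z hz b hb⟩) ha)).2
  -- the order of `D`
  obtain ⟨χ, hχ, hχ0, -⟩ := exists_char hS (hUE.trans hES) hZElt.le (hUE.trans hZEn)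
    (by rw [hc1.2.2, hc1.2.1, ← pow_succ]) huU (fun h => huZ h)
  have hup : u ^ p ∈ ZE := (hχ0 _ (U.pow_mem huU p)).1 (by rw [char_pow hχ huU, ZMod.natCast_self, zero_mul])
  have hpw : ∀ m : ℕ, ⁅y, u ^ m⁆ = d ^ m := by
    intro m
    induction m with
    | zero => simp
    | succ m ih =>
      rw [pow_succ u, commutator_conj_right, ih, ← hd, hcen d hdZ _ (E.pow_mem hu m), mul_inv_cancel_right,
        pow_succ]
  have hdp : d ^ p = 1 := by
    rw [← hpw, commutatorElement_eq_one_iff_mul_comm]; exact hcen _ hup y hy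
  have hd1 : d ≠ 1 := by
    intro h
    refine huZ (hmemZE u hu fun a ha => ?_)
    have h1 := hEu a ha
    rw [hD, h, Subgroup.zpowers_one_eq_bot, Subgroup.mem_bot] at h1
    exact commutatorElement_eq_one_iff_mul_comm.1 h1
  have hDc : Nat.card D = p := hD ▸ card_zpowers_eq hdp hd1
  have hEE : ⁅E, E⁆ = D := le_antisymm hED
    (hD ▸ Subgroup.zpowers_le.2 (hd ▸ Subgroup.commutator_mem_commutator hy hu))
  have hDS : D ≤ S := (hDZ.trans hZEE).trans hES
  have hDinv : ∀ f : Ω → Ω, Map F E f → (∀ w ∈ E, f w ∈ E) → ∀ w ∈ D, f w ∈ D := fun f hf hfE w hw =>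
    hEE ▸ Tower.commutator_map hf hfE w (hEE.ge hw)
  have hDn' : S ≤ Subgroup.normalizer (D : Set Ω) := fun s hs => mem_normalizer_of_conj_mem hDS
    (hDinv _ (map_conjBy hES hs) fun w hw => conj_mem_of_normalizer (hEn hs) hw)
  have hDZ' : D ≤ Z := fun w hw => (hZ w).2 ⟨hDS hw, fun s hs => by
    have h1 := conj_fix hS hDS (bot_le : (⊥ : Subgroup Ω) ≤ D)
      (fun g _ => Subgroup.mem_normalizer_iff.2 fun v => by simp [Subgroup.mem_bot])
      (by rw [Subgroup.card_bot, one_mul, hDc]) hs (hDn' hs)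
      (Subgroup.mem_normalizer_iff.2 fun v => by simp [Subgroup.mem_bot]) w hw
    exact commutatorElement_eq_one_iff_mul_comm.1 (Subgroup.mem_bot.1 h1)⟩
  have heq : D = Z := eq_of_card hZS hDZ' (by rw [hDc, hc1.1])
  intro α hα w hw
  rw [← heq] at hw ⊢
  exact hDinv _ (map_of_mem_autGroup hES hα) (fun v hv => av_mem α hv) w hw

end Cases

open Tower in
/-- Let p be an odd prime other than 7, S a finite p-group of order p^5, and F a saturated fusion system over S with no nontrivial normal subgroup and with hyperfocal subgroup equal to S (so F is its own p-residual subsystem). Then S has an abelian subgroup of index p. -/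
theorem result {Ω : Type*} [Group Ω] {S : Subgroup Ω} [Finite S] (p : ℕ) [Fact p.Prime] (hS : IsPGroup p ↥S) (F : Cfsg.FusionSystem S) (hF : F.IsSaturated p) (hp : p ≠ 2) (hp7 : p ≠ 7) (hcard : Nat.card S = p ^ 5) (hcore : F.core = ⊥) (hhyp : F.hyperfocalSubgroup p = S) : ∃ A : Subgroup Ω, A ≤ S ∧ IsMulCommutative ↥A ∧ (A.subgroupOf S).index = p := by
  by_contra hcon
  have hpp : p.Prime := Fact.out
  have hNA : ∀ A : Subgroup Ω, A ≤ S → Nat.card A = p ^ 4 → ¬ ∀ a ∈ A, ∀ b ∈ A, a * b = b * a := by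
    intro A hA hAc hab
    refine hcon ⟨A, hA, ⟨⟨fun a b => Subtype.ext (hab a a.2 b b.2)⟩⟩, ?_⟩
    have h1 := (A.subgroupOf S).card_mul_index
    rw [Nat.card_congr (Subgroup.subgroupOfEquivOfLe hA).toEquiv, hAc, hcard, pow_succ p 4] at h1
    exact Nat.eq_of_mul_eq_mul_left (pow_pos hpp.pos 4) h1
  have hfocS : F.focalSubgroup ≤ S := by
    refine (Subgroup.closure_le _).2 ?_
    rintro _ ⟨P, φ, x, hφ, rfl⟩
    exact S.mul_mem (S.inv_mem ((F.le_of_mem hφ).1 x.2)) ((F.le_of_mem hφ).2 x)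
  have hfoc : F.focalSubgroup = S := le_antisymm hfocS (by
    rw [S5092.result p hS F hF, hhyp]; exact le_sup_left)
  obtain ⟨Z, hZ⟩ : ∃ Z : Subgroup Ω, ∀ y, y ∈ Z ↔ y ∈ S ∧ ∀ s ∈ S, s * y = y * s :=
    ⟨S ⊓ Subgroup.centralizer (S : Set Ω), fun y => by
      rw [Subgroup.mem_inf, Subgroup.mem_centralizer_iff]; rfl⟩
  have hZS : Z ≤ S := fun y hy => ((hZ y).1 hy).1
  have hZ1 : Z ≠ ⊥ := by
    haveI : Nontrivial S := Finite.one_lt_card_iff_nontrivial.1 (hcard ▸ Nat.one_lt_pow (by norm_num) hpp.one_lt)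
    haveI := hS.center_nontrivial
    obtain ⟨w, hw, hw1⟩ := (Subgroup.center S).nontrivial_iff_exists_ne_one.1 inferInstance
    intro h
    refine hw1 (Subtype.ext (Subgroup.mem_bot.1 (h ▸ (hZ w).2 ⟨w.2, fun s hs => ?_⟩)))
    exact congrArg Subtype.val (Subgroup.mem_center_iff.1 hw ⟨s, hs⟩)
  obtain ⟨E, hE, hZE, hmove⟩ : ∃ E, F.IsEssential p E ∧ Z ≤ E ∧ ¬ ∀ α ∈ F.autGroup E, ∀ y ∈ Z, av α y ∈ Z := by
    by_contra h
    push Not at h
    have hn : F.IsNormal Z := normal_of_gen hS hF hZS fun P hP => by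
      rcases hP with rfl | hP
      · refine ⟨hZS, fun α hα y hy => (hZ _).2 ⟨av_mem α (hZS hy), fun s hs => ?_⟩⟩
        obtain ⟨u, hu, rfl⟩ : ∃ u ∈ P, av α u = s := ⟨av α⁻¹ s, av_mem _ hs, av_av_inv α hs⟩
        have hm := map_of_mem_autGroup (F := F) le_rfl hα
        rw [← hm.map_mul hu (hZS hy), ← hm.map_mul (hZS hy) hu, ((hZ y).1 hy).2 u hu]
      · have hle : Z ≤ P := fun y hy => centric_inv_mem hP.1 (hZS hy) fun w hw => ((hZ y).1 hy).2 w (hP.1.1 hw)
        exact ⟨hle, h P hP hle⟩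
    exact hZ1 (le_bot_iff.1 (hcore ▸ le_sSup hn))
  have hES : E ≤ S := hE.1.1
  haveI := finite_of_le hES
  haveI := mulAut_finite_of_le hES
  obtain ⟨ZE, hZE'⟩ : ∃ ZE, ZE = E ⊓ Subgroup.centralizer (E : Set Ω) := ⟨_, rfl⟩
  have hZZE : Z ≤ ZE := fun y hy => by
    rw [hZE']
    exact ⟨hZE hy, Subgroup.mem_centralizer_iff.2 fun a ha => ((hZ y).1 hy).2 a (hES ha)⟩
  have hlt : Z < ZE := lt_of_le_of_ne hZZE fun h => hmove fun α hα y hy => by
    rw [h, hZE'] at hy ⊢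
    refine ⟨av_mem α hy.1, Subgroup.mem_centralizer_iff.2 fun a ha => ?_⟩
    obtain ⟨u, hu, rfl⟩ : ∃ u ∈ E, av α u = a := ⟨av α⁻¹ a, av_mem _ ha, av_av_inv α ha⟩
    have hm := map_of_mem_autGroup (F := F) hES hα
    rw [← hm.map_mul hu hy.1, ← hm.map_mul hy.1 hu, Subgroup.mem_centralizer_iff.1 hy.2 u hu]
  obtain ⟨a, ha⟩ := card_pow hS hES
  have ha4 : a ≤ 4 := by
    have h1 := step_le hS le_rfl (lt_of_essential hS hF hE)
    rw [ha, hcard, ← pow_succ, Nat.pow_le_pow_iff_right hpp.one_lt] at h1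
    omega
  rcases (show a ≤ 2 ∨ a = 3 ∨ a = 4 by omega) with h2 | rfl | rfl
  · have hpE : IsPGroup p E := hS.to_le hES
    have hle2 : Nat.card E ≤ p ^ 2 := ha ▸ Nat.pow_le_pow_right hpp.pos h2
    have hab : IsMulCommutative E := by
      rcases (show a = 2 ∨ a ≤ 1 by omega) with rfl | h1
      · exact IsPGroup.isMulCommutative_of_card_eq_prime_sq ha
      · haveI : IsCyclic E := by
          rcases Nat.le_one_iff_eq_zero_or_eq_one.1 h1 with rfl | rfl
          · haveI : Subsingleton E := (Nat.card_eq_one_iff_unique.1 (by simpa using ha)).1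
            infer_instance
          · exact isCyclic_of_prime_card (p := p) (by simpa using ha)
        exact ⟨⟨fun u v => by
          obtain ⟨g, hg⟩ := IsCyclic.exists_generator (α := E)
          obtain ⟨i, rfl⟩ := Subgroup.mem_zpowers_iff.1 (hg u)
          obtain ⟨j, rfl⟩ := Subgroup.mem_zpowers_iff.1 (hg v)
          rw [← zpow_add, ← zpow_add, add_comm]⟩⟩
    rcases S5187.result p hS F hF E hE hab
        ((Nat.le_of_dvd Nat.card_pos (Subgroup.index_dvd_card _)).trans hle2) with ⟨hel, hc⟩ | ⟨-, k, ⟨e⟩⟩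
    · exact no_square hS hF hp hp7 hcard hfoc hNA hE hel.2 hc
    · have hk : Nat.card E = p ^ k * p ^ k := by
        rw [Nat.card_congr e.toEquiv, Nat.card_congr Multiplicative.toAdd, Nat.card_prod, Nat.card_zmod]
      rw [← pow_add, ha] at hk
      have hak := Nat.pow_right_injective hpp.two_le hk
      rcases (show k = 0 ∨ k = 1 by omega) with rfl | rfl
      · -- the trivial group is not centric
        have hE1 : E = ⊥ := Subgroup.card_eq_one.1 (by rw [ha, hak, pow_zero])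
        refine hZ1 (le_bot_iff.1 (hE1 ▸ hZE))
      · refine no_square hS hF hp hp7 hcard hfoc hNA hE (fun y hy => ?_) (by rw [ha, hak])
        have h1 : (⟨y, hy⟩ : E) ^ p = 1 := by
          apply e.injective
          rw [_root_.map_pow, _root_.map_one]
          apply Multiplicative.toAdd.injective
          rw [toAdd_pow, toAdd_one]
          refine Prod.ext ?_ ?_ <;> simp only [Prod.smul_fst, Prod.smul_snd, Prod.fst_zero, Prod.snd_zero] <;>
            rw [nsmul_eq_mul, (ZMod.natCast_eq_zero_iff p (p ^ 1)).2 (pow_one p).dvd, zero_mul]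
        exact congrArg Subtype.val h1
  · have hab : ∀ u ∈ E, ∀ v ∈ E, u * v = v * u := by
      by_contra hna
      have hZEE : ZE ≤ E := hZE' ▸ inf_le_left
      obtain ⟨u, hu, huZ⟩ : ∃ u ∈ E, u ∉ ZE := by
        by_contra h
        push Not at h
        refine hna fun u hu v hv => ?_
        have := h v hv
        rw [hZE'] at this
        exact Subgroup.mem_centralizer_iff.1 this.2 u hu
      obtain ⟨U, hU⟩ : ∃ U, U = Subgroup.zpowers u ⊔ ZE := ⟨_, rfl⟩
      have hUE : U ≤ E := hU ▸ sup_le (Subgroup.zpowers_le.2 hu) hZEE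
      have huU : u ∈ U := hU ▸ Subgroup.mem_sup_left (Subgroup.mem_zpowers u)
      have hzlt : ZE < U := lt_of_le_of_ne (hU ▸ le_sup_right) fun h => huZ (h.ge huU)
      have h0 := step_le hS hZS (bot_lt_iff_ne_bot.2 hZ1)
      rw [Subgroup.card_bot, one_mul] at h0
      have h1 := step_le hS (hZEE.trans hES) hlt
      have h3 := step_le hS (hUE.trans hES) hzlt
      have hUeq : U = E := eq_of_card hES hUE (by
        rw [ha, pow_succ p 2, sq]
        exact ((Nat.mul_le_mul_right p ((Nat.mul_le_mul_right p h0).trans h1))).trans h3)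
      refine huZ (hZE'.ge ⟨hu, Subgroup.mem_centralizer_iff.2 fun v hv => ?_⟩)
      have hle : U ≤ Subgroup.centralizer ({u} : Set Ω) := hU ▸ sup_le
        (Subgroup.zpowers_le.2 (Subgroup.mem_centralizer_singleton_iff.2 rfl))
        fun w hw => Subgroup.mem_centralizer_singleton_iff.2 (by
          rw [hZE'] at hw
          exact (Subgroup.mem_centralizer_iff.1 hw.2 u hu).symm)
      exact Subgroup.mem_centralizer_singleton_iff.1 (hle (hUeq.ge hv))
    rcases S5186.result p hS F hF E hE ha with hel | ⟨-, hx, -⟩ | ⟨h2, -⟩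
    · exact no_cube hS hF hp hcard hfoc hNA hE hel ha
    · have htop : Subgroup.center E = ⊤ := (Subgroup.eq_top_iff' _).2 fun u => Subgroup.mem_center_iff.2
        fun v => Subtype.ext (hab v v.2 u u.2)
      have h1 := hx.2
      rw [htop, Subgroup.card_top, ha] at h1
      exact absurd (Nat.pow_right_injective hpp.two_le (h1.trans (pow_one p).symm)) (by norm_num)
    · exact hp h2
  · exact hmove (center_invariant_of_fourth hS hcard hES ha (hNA E hES ha) hZ hZE (hZE' ▸ hlt) hZ1)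

end Cfsg.Agent.S5264
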