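import Cfsg.Statements.S5270
import Cfsg.Agent.Lib.Solv.MaxCenter
import Cfsg.Agent.Lib.Local.FS.Essential

set_option autoImplicit false
open Cfsg
open scoped commutatorElement

namespace Cfsg.Agent.S5270

open Cfsg.FusionSystem Cfsg.Agent.Local.FS Cfsg.Agent.Fusion

/-- A normal abelian subgroup whose centralizer has prime index and whose automizer does not fix the
central part: the centralizer is essential. -/
theorem essential_of_moving {Ω : Type*} [Group Ω] {S : Subgroup Ω} [Finite S] {p : ℕ} [Fact p.Prime]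
    (hS : IsPGroup p ↥S) {F : Cfsg.FusionSystem S} (hF : F.IsSaturated p) {N : Subgroup Ω}
    (hNS : N ≤ S) (hNn : ∀ s ∈ S, s ∈ Subgroup.normalizer (N : Set Ω))
    (hNab : ∀ a ∈ N, ∀ b ∈ N, a * b = b * a)
    (hidx : ((S ⊓ Subgroup.centralizer (N : Set Ω)).subgroupOf S).index = p)
    {f : Ω → Ω} (hf : Map F N f) (hfN : im N f = N)
    {z : Ω} (hzN : z ∈ N) (hz : ∀ s ∈ S, s * z = z * s) (hfz : ∃ s ∈ S, s * f z ≠ f z * s) :
    F.IsEssential p (S ⊓ Subgroup.centralizer (N : Set Ω)) := by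
  classical
  set C := S ⊓ Subgroup.centralizer (N : Set Ω) with hC
  have hp := (Fact.out : p.Prime)
  have hCS : C ≤ S := inf_le_left
  have hNC : N ≤ C := fun a ha => ⟨hNS ha, Subgroup.mem_centralizer_iff.2 fun b hb => hNab b hb a ha⟩
  have hCn : ∀ s ∈ S, s ∈ Subgroup.normalizer (C : Set Ω) := fun s hs =>
    mem_normalizer_of_conj_mem hCS fun y hy => by
      refine ⟨S.mul_mem (S.mul_mem hs hy.1) (S.inv_mem hs), Subgroup.mem_centralizer_iff.2 fun a ha => ?_⟩
      have h1 := Subgroup.mem_centralizer_iff.1 hy.2 (s⁻¹ * a * s) (by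
        simpa using conj_mem_of_normalizer (Subgroup.inv_mem _ (hNn s hs)) ha)
      calc a * (s * y * s⁻¹) = s * (s⁻¹ * a * s * y) * s⁻¹ := by group
        _ = _ := by rw [h1]; group
  have hfnall : ∀ P : Subgroup Ω, P ≤ S → (∀ s ∈ S, s ∈ Subgroup.normalizer (P : Set Ω)) →
      F.IsFullyNormalized P := by
    intro P hP hn
    refine ⟨hP, fun Q _ => ?_⟩
    have e : normalizerIn S P = S := le_antisymm inf_le_left (le_inf le_rfl hn)
    rw [e]
    exact Subgroup.card_le_of_le inf_le_left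
  have hfn := hfnall C hCS hCn
  have hcc : centralizerIn S C ≤ C := fun c hc => ⟨hc.1, Subgroup.mem_centralizer_iff.2 fun a ha =>
    Subgroup.mem_centralizer_iff.1 hc.2 a (hNC ha)⟩
  have hcen := centric_of_fc (fc_fa_of_fn hS hF hfn).1 hcc
  have hfa := (fc_fa_of_fn hS hF hfn).2
  haveI := finite_of_le hCS
  haveI hI : ((Inn C).subgroupOf (F.autGroup C)).Normal := by
    refine ⟨fun a ha b => ?_⟩
    obtain ⟨g, hg, hga⟩ := mem_Inn.1 (Subgroup.mem_subgroupOf.1 ha)
    refine Subgroup.mem_subgroupOf.2 (mem_Inn.2 ⟨av (b : MulAut C) g, av_mem _ hg, fun x hx => ?_⟩)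
    have hb := map_of_mem_autGroup hCS b.2
    simp only [Subgroup.coe_mul, InvMemClass.coe_inv]
    rw [av_mul _ _ hx, av_mul _ _ (av_mem _ hx), hga _ (av_mem _ hx), hb.map_conj hg (av_mem _ hx),
      av_av_inv _ hx]
  obtain ⟨g₀, hg₀S, hg₀C⟩ : ∃ g ∈ S, g ∉ C := by
    by_contra hh
    push Not at hh
    rw [Subgroup.subgroupOf_eq_top.2 hh, Subgroup.index_top] at hidx
    exact hp.ne_one hidx.symm
  haveI hCn' : (C.subgroupOf S).Normal := ⟨fun a ha b => Subgroup.mem_subgroupOf.2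
    (by simpa using conj_mem_of_normalizer (hCn b b.2) (Subgroup.mem_subgroupOf.1 ha))⟩
  have hord : orderOf ((⟨g₀, hg₀S⟩ : S) : S ⧸ C.subgroupOf S) = p := by
    refine orderOf_eq_prime ?_ fun e => hg₀C ((QuotientGroup.eq_one_iff (N := C.subgroupOf S) (⟨g₀, hg₀S⟩ : S)).1 e)
    rw [← hidx, Subgroup.index_eq_card]
    exact pow_card_eq_one'
  have hdec : ∀ h ∈ S, ∃ i : ℤ, ∃ c ∈ C, h = g₀ ^ i * c := by
    intro h hh
    have hm : ((⟨h, hh⟩ : S) : S ⧸ C.subgroupOf S) ∈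
        Subgroup.zpowers (((⟨g₀, hg₀S⟩ : S) : S ⧸ C.subgroupOf S)) := by
      rw [zpowers_eq_top_of_prime_card (p := p) (by rw [← Subgroup.index_eq_card, hidx])
        (fun e => hg₀C ((QuotientGroup.eq_one_iff (⟨g₀, hg₀S⟩ : S)).1 e))]
      exact Subgroup.mem_top _
    obtain ⟨i, hi⟩ := Subgroup.mem_zpowers_iff.1 hm
    rw [← QuotientGroup.mk_zpow, QuotientGroup.eq, Subgroup.mem_subgroupOf] at hi
    exact ⟨i, (g₀ ^ i)⁻¹ * h, by simpa using hi, by group⟩
  set X := F.autGroup C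
  set π := QuotientGroup.mk' ((Inn C).subgroupOf X)
  obtain ⟨hfaS, R, hR⟩ := hfa
  set A : Subgroup (X ⧸ (Inn C).subgroupOf X) := (R : Subgroup X).map π with hA
  obtain ⟨γ, hγ, hγK⟩ := exists_aut_conj (hCn g₀ hg₀S)
  have hγX : γ ∈ X := autInducedBy_le_autGroup hCS (hγK S hg₀S)
  have hγnI : γ ∉ Inn C := by
    intro h
    obtain ⟨c, hc, hcγ⟩ := mem_Inn.1 h
    refine hg₀C ?_
    have : c⁻¹ * g₀ ∈ C := hcc ⟨S.mul_mem (S.inv_mem (hCS hc)) hg₀S, Subgroup.mem_centralizer_iff.2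
      fun a ha => by
        have e := (hcγ a ha).symm.trans (hγ a ha)
        calc a * (c⁻¹ * g₀) = c⁻¹ * (c * a * c⁻¹) * g₀ := by group
          _ = _ := by rw [e]; group⟩
    simpa using C.mul_mem hc this
  have hAgen : ∀ a ∈ A, a ∈ Subgroup.zpowers (π ⟨γ, hγX⟩) := by
    rintro _ ⟨⟨α, hαX⟩, hα, rfl⟩
    rw [SetLike.mem_coe, hR, Subgroup.mem_subgroupOf] at hα
    obtain ⟨h, hh, hhα⟩ := mem_autInducedBy.1 hα
    obtain ⟨i, c, hc, rfl⟩ := hdec h hh
    refine Subgroup.mem_zpowers_iff.2 ⟨i, ?_⟩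
    rw [← map_zpow]
    refine (QuotientGroup.eq).2 (Subgroup.mem_subgroupOf.2 (mem_Inn.2 ⟨c, hc, fun x hx => ?_⟩))
    simp only [Subgroup.coe_mul, InvMemClass.coe_inv, SubgroupClass.coe_zpow]
    have hzp : ∀ (j : ℤ), ∀ y ∈ C, av (γ ^ j) y = g₀ ^ j * y * (g₀ ^ j)⁻¹ := by
      intro j
      induction j using Int.induction_on with
      | zero => intro y hy; simp [av_one hy]
      | succ j ih =>
        intro y hy
        rw [zpow_add_one, av_mul _ _ hy, ih _ (av_mem _ hy), hγ y hy, zpow_add_one]; group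
      | pred j ih =>
        intro y hy
        have h1 : av γ⁻¹ y = g₀⁻¹ * y * g₀ := by
          have := hγ _ (av_mem γ⁻¹ hy)
          rw [av_av_inv _ hy] at this
          calc av γ⁻¹ y = g₀⁻¹ * (g₀ * av γ⁻¹ y * g₀⁻¹) * g₀ := by group
            _ = _ := by rw [← this]
        rw [zpow_sub_one, av_mul _ _ hy, ih _ (av_mem _ hy), h1, zpow_sub_one]; group
    rw [av_mul _ _ hx, hhα x hx, ← zpow_neg, hzp (-i) _
      (conj_mem_of_normalizer (hCn _ hh) hx), zpow_neg]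
    group
  have hπγ : π ⟨γ, hγX⟩ ≠ 1 := fun e => hγnI (Subgroup.mem_subgroupOf.1 ((QuotientGroup.eq_one_iff (N := (Inn C).subgroupOf X) (⟨γ, hγX⟩ : X)).1 e))
  have hγA : π ⟨γ, hγX⟩ ∈ A :=
    Subgroup.mem_map_of_mem π (by rw [hR]; exact Subgroup.mem_subgroupOf.2 (hγK S hg₀S))
  have hπp : π ⟨γ, hγX⟩ ^ p = 1 := by
    rw [← map_pow]
    refine (QuotientGroup.eq_one_iff _).2 (Subgroup.mem_subgroupOf.2 (mem_Inn.2 ⟨g₀ ^ p, ?_, fun x hx => ?_⟩))
    · have := (QuotientGroup.eq_one_iff (N := C.subgroupOf S) ((⟨g₀, hg₀S⟩ : S) ^ p)).1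
        (by rw [QuotientGroup.mk_pow, ← hord, pow_orderOf_eq_one])
      simpa [Subgroup.mem_subgroupOf] using this
    · rw [SubgroupClass.coe_pow]
      have : ∀ j : ℕ, ∀ y ∈ C, av (γ ^ j) y = g₀ ^ j * y * (g₀ ^ j)⁻¹ := by
        intro j
        induction j with
        | zero => intro y hy; simp [av_one hy]
        | succ j ih =>
          intro y hy
          rw [pow_succ, av_mul _ _ hy, ih _ (av_mem _ hy), hγ y hy, pow_succ]; group
      exact this p x hx
  have hγord : orderOf (π ⟨γ, hγX⟩) = p := orderOf_eq_prime hπp hπγ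
  have hAeq : A = Subgroup.zpowers (π ⟨γ, hγX⟩) :=
    le_antisymm hAgen (Subgroup.zpowers_le.2 hγA)
  have hAcard : Nat.card A = p := by rw [hAeq, Nat.card_zpowers, hγord]
  refine ⟨hcen, hfn, hI, Subgroup.normalizer (A : Set (X ⧸ (Inn C).subgroupOf X)), ?_⟩
  haveI : Finite (MulAut C) := mulAut_finite_of_le hCS
  rw [Cfsg.Agent.Local.isStronglyPEmbedded_iff]
  refine ⟨hAcard ▸ A.card_subgroup_dvd_card, ?_, A, ?_, fun Q hQA hQ => ?_⟩
  · intro htop
    obtain ⟨s, hs, hsz⟩ := hfz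
    -- extend `f` to the centralizer
    have hfcN := (fc_fa_of_fn hS hF (hfnall N hNS hNn)).1
    obtain ⟨g, hg, hgf⟩ := (receptive_iff.1 (receptive_of_fc hS hF hfcN)).2 N f hf hfN
    have hCNf : C ≤ Nf S N f := centralizerIn_le_Nf
    have hgC := hg.restrict hCNf
    have hgim : im C g = C := by
      refine Subgroup.eq_of_le_of_card_ge (im_le_iff.2 fun x hx => ⟨hgC.mem hx, ?_⟩) (le_of_eq hgC.card_im.symm)
      refine Subgroup.mem_centralizer_iff.2 fun a ha => ?_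
      obtain ⟨b, hb, rfl⟩ := hf.mem_im.1 (hfN.ge ha)
      rw [← hgf b hb, ← hgC.map_mul (hNC hb) hx, ← hgC.map_mul hx (hNC hb),
        Subgroup.mem_centralizer_iff.1 hx.2 b hb]
    obtain ⟨α, hαX, hα⟩ := exists_aut hgC hgim
    have hn : π ⟨α, hαX⟩ * π ⟨γ, hγX⟩ * (π ⟨α, hαX⟩)⁻¹ ∈ A :=
      (Subgroup.mem_normalizer_iff.1 (htop ▸ Subgroup.mem_top (π ⟨α, hαX⟩))
        (π ⟨γ, hγX⟩)).1 hγA
    rw [← map_inv, ← map_mul, ← map_mul] at hn
    obtain ⟨β, hβ, hβe⟩ := hn
    rw [SetLike.mem_coe, hR, Subgroup.mem_subgroupOf] at hβ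
    obtain ⟨h, hh, hhβ⟩ := mem_autInducedBy.1 hβ
    have he := Subgroup.mem_subgroupOf.1 ((QuotientGroup.eq).1 hβe)
    obtain ⟨c, hc, hcI⟩ := mem_Inn.1 he
    simp only [Subgroup.coe_mul, InvMemClass.coe_inv] at hcI
    -- the transported automorphism on `N`
    have key : ∀ a ∈ N, f (g₀ * a * g₀⁻¹) = h * f a * h⁻¹ := by
      intro a ha
      have haC := hNC ha
      have hfa' : f a ∈ N := hfN.le (mem_im_of_mem ha)
      have e2 := hcI (f a) (hNC hfa')
      have hcf : c * f a * c⁻¹ = f a := by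
        rw [← Subgroup.mem_centralizer_iff.1 hc.2 _ hfa', mul_inv_cancel_right]
      rw [hcf] at e2
      have e3 : av α⁻¹ (f a) = a := by
        rw [← hgf a ha, ← hα a haC, av_inv_av _ haC]
      have hga : g₀ * a * g₀⁻¹ ∈ N := conj_mem_of_normalizer (hNn g₀ hg₀S) ha
      have hw : av α (av γ (av α⁻¹ (f a))) = f (g₀ * a * g₀⁻¹) := by
        rw [e3, hγ a haC, hα _ (hNC hga), hgf _ hga]
      have e4 := congrArg (av (β : MulAut C)) e2
      rw [av_mul _ _ (hNC hfa'), av_av_inv _ (av_mem _ (hNC hfa')), hhβ _ (hNC hfa'),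
        av_mul _ _ (hNC hfa'), av_mul _ _ (av_mem _ (hNC hfa')), hw] at e4
      exact e4
    have hzC : f z ∈ C := hNC (hfN.le (mem_im_of_mem hzN))
    have hhz : h * f z * h⁻¹ = f z := by
      rw [← key z hzN, hz g₀ hg₀S, mul_inv_cancel_right]
    by_cases hhC : h ∈ C
    · refine hg₀C ⟨hg₀S, Subgroup.mem_centralizer_iff.2 fun a ha => ?_⟩
      have e := key a ha
      rw [← Subgroup.mem_centralizer_iff.1 hhC.2 _ (hfN.le (mem_im_of_mem ha)), mul_inv_cancel_right] at e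
      have := hf.injOn (conj_mem_of_normalizer (hNn g₀ hg₀S) ha) ha e
      exact (mul_inv_eq_iff_eq_mul.1 this).symm
    · apply hsz
      have hcomm : Commute h (f z) := mul_inv_eq_iff_eq_mul.1 hhz
      have hmem : s ∈ Subgroup.centralizer ({f z} : Set Ω) := by
        have hm : ((⟨s, hs⟩ : S) : S ⧸ C.subgroupOf S) ∈
            Subgroup.zpowers (((⟨h, hh⟩ : S) : S ⧸ C.subgroupOf S)) := by
          rw [zpowers_eq_top_of_prime_card (p := p) (by rw [← Subgroup.index_eq_card, hidx])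
            (fun e => hhC ((QuotientGroup.eq_one_iff (⟨h, hh⟩ : S)).1 e))]
          exact Subgroup.mem_top _
        obtain ⟨i, hi⟩ := Subgroup.mem_zpowers_iff.1 hm
        rw [← QuotientGroup.mk_zpow, QuotientGroup.eq, Subgroup.mem_subgroupOf] at hi
        rw [show s = h ^ i * ((h ^ i)⁻¹ * s) by group]
        refine Subgroup.mul_mem _ (Subgroup.mem_centralizer_singleton_iff.2 (hcomm.zpow_left i).eq) ?_
        refine Subgroup.mem_centralizer_singleton_iff.2 ?_
        have := Subgroup.mem_centralizer_iff.1 (show (h ^ i)⁻¹ * s ∈ C by simpa using hi).2 (f z)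
          (hfN.le (mem_im_of_mem hzN))
        exact this.symm
      exact Subgroup.mem_centralizer_singleton_iff.1 hmem
  · exact sylIn_top (R.mapSurjective (QuotientGroup.mk'_surjective _))
  · have : Q = A := by
      refine Subgroup.eq_of_le_of_card_ge hQA ?_
      rcases (Nat.dvd_prime hp).1 (hAcard ▸ Subgroup.card_dvd_of_le hQA) with h1 | h1
      · exact absurd (Subgroup.card_eq_one.1 h1) hQ
      · rw [h1, hAcard]
    rw [this]

/-- Let p ≥ 5 be a prime, S a finite p-group of maximal class of order p^n with n ≥ 4, and F a saturated fusion system over S. If some map of F defined on the second centre Z₂(S) with image Z₂(S) does not carry Z(S) into itself, then the centralizer C_S(Z₂(S)) is an F-essential subgroup. -/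
theorem result {Ω : Type*} [Group Ω] {S : Subgroup Ω} [Finite S] (p : ℕ) [Fact p.Prime] (hS : IsPGroup p ↥S) (n : ℕ) (hn : Nat.card S = p ^ n) (h4 : 4 ≤ n) (hmax : Subgroup.lowerCentralSeries S (n - 2) ≠ ⊥) (F : Cfsg.FusionSystem S) (hF : F.IsSaturated p) (hp : 5 ≤ p) (φ : ↥((Subgroup.upperCentralSeries ↥S 2).map S.subtype) →* Ω) (hφ : φ ∈ F.Hom ((Subgroup.upperCentralSeries ↥S 2).map S.subtype)) (hφZ : φ.range = ((Subgroup.upperCentralSeries ↥S 2).map S.subtype)) (hmove : ∃ (z : Ω) (hz : z ∈ ((Subgroup.upperCentralSeries ↥S 2).map S.subtype)), z ∈ ((Subgroup.center ↥S).map S.subtype) ∧ φ ⟨z, hz⟩ ∉ ((Subgroup.center ↥S).map S.subtype)) : F.IsEssential p (S ⊓ Subgroup.centralizer (((Subgroup.upperCentralSeries ↥S 2).map S.subtype) : Set Ω)) := by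
  have hmaxS : Solv.MaxC.IsMax ↥S p n := ⟨hn, by omega, fun h => hmax (by
    rw [← Subgroup.top_subtype_lowerCentralSeries, h, Subgroup.map_bot])⟩
  obtain ⟨G2, hG2⟩ : ∃ G2 : Subgroup ↥S, G2 = Subgroup.upperCentralSeries ↥S 2 := ⟨_, rfl⟩
  have hG2n : G2.Normal := by rw [hG2]; infer_instance
  have hG2e : G2 = Solv.PolySeq.F ↥S (n - 2) := by rw [hG2]; exact hmaxS.ucs_two h4
  revert φ
  rw [← hG2]
  intro φ hφ hφZ hmove
  have hNS : G2.map S.subtype ≤ S := Subgroup.map_subtype_le _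
  have hNn : ∀ s ∈ S, s ∈ Subgroup.normalizer ((G2.map S.subtype : Subgroup Ω) : Set Ω) := by
    intro s hs
    refine mem_normalizer_of_conj_mem hNS ?_
    rintro _ ⟨a, ha, rfl⟩
    exact ⟨⟨s, hs⟩ * a * ⟨s, hs⟩⁻¹, hG2n.conj_mem a ha _, by simp⟩
  have hNab : ∀ a ∈ G2.map S.subtype, ∀ b ∈ G2.map S.subtype, a * b = b * a := by
    rintro _ ⟨a, ha, rfl⟩ _ ⟨b, hb, rfl⟩
    rw [hG2e] at ha hb
    have := Solv.PolySeq.F_commutator ha hb
    rw [hmaxS.F_bot (by omega), Subgroup.mem_bot, commutatorElement_eq_one_iff_mul_comm] at this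
    exact congrArg Subtype.val this
  obtain ⟨hlast, hcard⟩ := hmaxS.twoStep_last h4
  have hidx : ((S ⊓ Subgroup.centralizer ((G2.map S.subtype : Subgroup Ω) : Set Ω)).subgroupOf S).index = p := by
    have e : (S ⊓ Subgroup.centralizer ((G2.map S.subtype : Subgroup Ω) : Set Ω)).subgroupOf S =
        Solv.MaxC.twoStep ↥S (n - 2) := by
      rw [hlast, ← hG2e]
      ext c
      rw [Subgroup.mem_subgroupOf, Subgroup.mem_inf, Subgroup.mem_centralizer_iff,
        Subgroup.mem_centralizer_iff]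
      constructor
      · exact fun h a ha => Subtype.ext (h.2 _ ⟨a, ha, rfl⟩)
      · refine fun h => ⟨c.2, ?_⟩
        rintro _ ⟨a, ha, rfl⟩
        exact congrArg Subtype.val (h a ha)
    rw [e]
    have h1 := (Solv.MaxC.twoStep ↥S (n - 2)).card_mul_index
    rw [hcard, hn] at h1
    refine Nat.eq_of_mul_eq_mul_left (pow_pos (Fact.out : p.Prime).pos (n - 1)) (h1.trans ?_)
    rw [← pow_succ, show n - 1 + 1 = n by omega]
  obtain ⟨z, hz, hzc, hφz⟩ := hmove
  obtain ⟨z', hz', rfl⟩ := hzc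
  have hM := map_of_mem hφ
  refine essential_of_moving hS hF hNS hNn hNab hidx hM
    ((hM.im_eq_range fun x => (fn_coe φ x).symm).trans hφZ) (z := z') hz (fun s hs => ?_) ?_
  · exact congrArg Subtype.val (Subgroup.mem_center_iff.1 hz' ⟨s, hs⟩)
  · by_contra hh
    push Not at hh
    refine hφz ⟨⟨φ ⟨z', hz⟩, (F.le_of_mem hφ).2 _⟩, Subgroup.mem_center_iff.2 fun s => Subtype.ext ?_, rfl⟩
    have := hh s s.2
    rwa [fn_apply φ (show (z' : Ω) ∈ G2.map S.subtype from hz)] at this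

end Cfsg.Agent.S5270
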