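import Cfsg.Statements.S5271
import Cfsg.Agent.Lib.Local.FS.WeakEmbedded

set_option autoImplicit false
open Cfsg

namespace Cfsg.Agent.S5271

/-- A nilpotency criterion for fusion systems. Let F be a saturated fusion system over a finite p-group S of order at least p². Call a subgroup Q of S weakly embedded in F when there is a subgroup P of S strongly closed in F such that both the product QP and the intersection Q ∩ P are strongly closed in F. Then F is the inner fusion system of S if and only if there is a subgroup D of S with 1 < D < S such that every subgroup of S of the same order as D is weakly embedded in F and, for every fully normalized subgroup H of S of that order, the normalizer fusion system of H in F is the inner fusion system of N_S(H). -/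
theorem result {Ω : Type*} [Group Ω] {S : Subgroup Ω} [Finite S] (p : ℕ) [Fact p.Prime] (hS : IsPGroup p ↥S) (F : Cfsg.FusionSystem S) (hF : F.IsSaturated p) (hcard : p ^ 2 ≤ Nat.card S) : (∀ P : Subgroup Ω, F.Hom P = (Cfsg.innerFusionSystem S).Hom P) ↔ ∃ D : Subgroup Ω, ⊥ < D ∧ D < S ∧ (∀ Q : Subgroup Ω, Q ≤ S → Nat.card ↥Q = Nat.card ↥D → ∃ P : Subgroup Ω, F.StronglyClosed P ∧ F.StronglyClosed (Q ⊔ P) ∧ F.StronglyClosed (Q ⊓ P)) ∧ (∀ H : Subgroup Ω, F.IsFullyNormalized H → Nat.card ↥H = Nat.card ↥D → ∀ N : Cfsg.FusionSystem (Cfsg.FusionSystem.normalizerIn S H), F.IsNormalizerSystem H N → ∀ P : Subgroup Ω, N.Hom P = (Cfsg.innerFusionSystem (Cfsg.FusionSystem.normalizerIn S H)).Hom P) := by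
  classical
  have hp := (Fact.out : p.Prime)
  obtain ⟨m, hm⟩ := hS.exists_card_eq
  have hm2 : 2 ≤ m := (Nat.pow_le_pow_iff_right hp.one_lt).1 (hm ▸ hcard)
  rw [← Cfsg.Agent.Local.FS.isInner_iff_hom]
  constructor
  · intro hi
    obtain ⟨D, -, hDS, hDc⟩ := Cfsg.Agent.Local.FS.exists_subgroup_between hS (bot_le : (⊥ : Subgroup Ω) ≤ S) le_rfl
      (k := m - 1) (by rw [Subgroup.card_bot]; exact Nat.one_le_pow _ _ hp.pos)
      (hm ▸ Nat.pow_le_pow_right hp.pos (Nat.sub_le m 1))
    refine ⟨D, bot_lt_iff_ne_bot.2 fun h => ?_, lt_of_le_of_ne hDS fun h => ?_, fun Q hQS hQc => ?_,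
      fun H hH _ N hN => ?_⟩
    · rw [h, Subgroup.card_bot] at hDc
      exact absurd hDc.symm (Nat.one_lt_pow (by omega) hp.one_lt).ne'
    · rw [h, hm] at hDc
      exact absurd (Nat.pow_right_injective hp.two_le hDc) (by omega)
    · have hne : Q ≠ S := fun h => by
        rw [h, hm, hDc] at hQc
        exact absurd (Nat.pow_right_injective hp.two_le hQc) (by omega)
      have hlt := Cfsg.Agent.Local.FS.lt_normalizerIn hS (lt_of_le_of_ne hQS hne)
      have hnS : S ≤ Cfsg.FusionSystem.normalizerIn S Q := by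
        have h1 := Cfsg.Agent.Local.FS.card_lt_of_lt hlt inf_le_left
        haveI : Finite ↥(Cfsg.FusionSystem.normalizerIn S Q) := inferInstance
        have hVp : IsPGroup p ↥(Cfsg.FusionSystem.normalizerIn S Q) := hS.to_le inf_le_left
        obtain ⟨j, hj⟩ := hVp.exists_card_eq
        rw [hQc, hDc, hj] at h1
        have h2 : m ≤ j := by have := (Nat.pow_lt_pow_iff_right hp.one_lt).1 h1; omega
        have h3 : Nat.card S ≤ Nat.card ↥(Cfsg.FusionSystem.normalizerIn S Q) := by
          rw [hj, hm]; exact Nat.pow_le_pow_right hp.pos h2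
        exact (Subgroup.eq_of_le_of_card_ge inf_le_left h3).ge
      have hQsc : F.StronglyClosed Q := Cfsg.Agent.Local.FS.stronglyClosed_iff.2 ⟨hQS, fun P f hP hf x hx => by
        obtain ⟨s, hs, he⟩ := hi P f hf
        rw [he x hx]
        exact Cfsg.Agent.Local.FS.conj_mem_of_normalizer (hnS hs).2 (hP hx)⟩
      exact ⟨⊥, Cfsg.Agent.Local.FS.stronglyClosed_bot, by rwa [sup_bot_eq],
        by rw [inf_bot_eq]; exact Cfsg.Agent.Local.FS.stronglyClosed_bot⟩
    · refine Cfsg.Agent.Local.FS.isInner_iff_hom.1 fun P f hf => ?_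
      obtain ⟨-, -, g, hg, hgf, hgH⟩ := (Cfsg.Agent.Local.FS.map_normalizerSystem_iff hN).1 hf
      obtain ⟨s, hs, he⟩ := hi _ g hg
      refine ⟨s, ⟨hs, Cfsg.Agent.Local.FS.mem_normalizer_of_conj_mem hH.1 fun x hx => ?_⟩,
        fun x hx => by rw [← hgf x hx, he x (Subgroup.mem_sup_left hx)]⟩
      rw [← he x (Subgroup.mem_sup_right hx)]
      exact hgH.le (Cfsg.Agent.Local.FS.mem_im_of_mem hx)
  · rintro ⟨D, hD1, hDS, hWE, hN⟩
    haveI : Finite D := Cfsg.Agent.Local.FS.finite_of_le hDS.le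
    obtain ⟨k, hk⟩ := (hS.to_le hDS.le).exists_card_eq
    refine Cfsg.Agent.Local.FS.isInner_of_weakEmb hS hF (k := k) (Nat.pos_of_ne_zero fun h => ?_)
      (hk ▸ Cfsg.Agent.Local.FS.card_lt_of_lt hDS le_rfl) (fun Q hQ hQc => hWE Q hQ (hQc.trans hk.symm))
      fun H hH hHc => ?_
    · rw [h, pow_zero] at hk
      exact hD1.ne' (Subgroup.eq_bot_of_card_eq D hk)
    · obtain ⟨H', hconj, hH'⟩ := Cfsg.Agent.Local.FS.exists_fullyNormalized (F := F) hH
      obtain ⟨ψ, hψ, -, hψH⟩ := Cfsg.Agent.Local.FS.exists_map_normalizer_fn hS hF hH' hconj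
      refine Cfsg.Agent.Local.FS.pAt_transfer hψ hH hψH
        (Cfsg.Agent.Local.FS.pAt_of_isInner hS (N := Cfsg.Agent.Local.FS.normSys F hH'.1) (fun _ => rfl) ?_)
      exact Cfsg.Agent.Local.FS.isInner_iff_hom.2 (hN H' hH'
        (by rw [← Cfsg.Agent.Local.FS.isConj_card hconj, hHc, hk]) _ fun _ => rfl)

end Cfsg.Agent.S5271
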