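import Cfsg.Statements.S5272
import Cfsg.Agent.Lib.Local.FS.AxiomaticInner

set_option autoImplicit false
open Cfsg

namespace Cfsg.Agent.S5272

theorem result {Ω : Type*} [Group Ω] {S : Subgroup Ω} [Finite S] (p : ℕ) [Fact p.Prime] (hS : IsPGroup p ↥S) (F : Cfsg.FusionSystem S) (hF : F.IsSaturated p) (hp : p ≠ 2) (𝒜 : Set (Subgroup Ω)) (h𝒜 : ∀ A ∈ 𝒜, A ≤ S ∧ IsMulCommutative ↥A) (hne : 𝒜.Nonempty) (hinv : ∀ Q : Subgroup Ω, Q ≤ S → (∃ A ∈ 𝒜, A ≤ Q) → ∀ α ∈ F.autGroup Q, ∀ x : ↥Q, (x : Ω) ∈ (⨅ A ∈ {A : Subgroup Ω | A ∈ 𝒜 ∧ A ≤ Q}, A) → (((α : MulAut ↥Q) x : ↥Q) : Ω) ∈ (⨅ A ∈ {A : Subgroup Ω | A ∈ 𝒜 ∧ A ≤ Q}, A)) (hrep : ∀ B : Subgroup Ω, B ≤ S → ⁅⁅B, B⁆, B⁆ = ⊥ → (∃ A ∈ 𝒜, ⁅B, B⁆ ≤ A ∧ ¬ B ≤ A) → ∃ A ∈ 𝒜, ⁅B, B⁆ ≤ A ∧ ¬ B ≤ A ∧ B ≤ Subgroup.normalizer (A : Set Ω))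 : (∀ P : Subgroup Ω, F.Hom P = (Cfsg.innerFusionSystem S).Hom P) ↔ ∀ N : Cfsg.FusionSystem (Cfsg.FusionSystem.normalizerIn S (⨅ A ∈ 𝒜, A)), F.IsNormalizerSystem (⨅ A ∈ 𝒜, A) N → ∀ P : Subgroup Ω, N.Hom P = (Cfsg.innerFusionSystem (Cfsg.FusionSystem.normalizerIn S (⨅ A ∈ 𝒜, A))).Hom P := by
  open Cfsg.Agent.Local.FS Cfsg.Agent.Fusion Cfsg.FusionSystem in
  have hz : (⨅ A ∈ 𝒜, A) = zIn 𝒜 S := by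
    rw [zIn, sInf_eq_iInf]
    exact le_antisymm (le_iInf₂ fun A hA => iInf₂_le A hA.1) (le_iInf₂ fun A hA => iInf₂_le A ⟨hA, (h𝒜 A hA).1⟩)
  have hinv' : ∀ Q : Subgroup Ω, Q ≤ S → (∃ A ∈ 𝒜, A ≤ Q) → ∀ α ∈ F.autGroup Q,
      ∀ x ∈ zIn 𝒜 Q, av α x ∈ zIn 𝒜 Q := fun Q hQ hA α hα x hx => by
    obtain ⟨A, hA', hAQ⟩ := hA
    have hxQ : x ∈ Q := (sInf_le ⟨hA', hAQ⟩ : zIn 𝒜 Q ≤ A).trans hAQ hx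
    have := hinv Q hQ ⟨A, hA', hAQ⟩ α hα ⟨x, hxQ⟩ (by rw [← sInf_eq_iInf]; exact hx)
    rw [← sInf_eq_iInf] at this
    rw [av_apply _ hxQ]
    exact this
  rw [hz]
  constructor
  · intro h N hN
    have hSW := le_normalizerIn_zIn hS hne h𝒜 hinv'
    have hle : zIn 𝒜 S ≤ S := hne.elim fun A hA =>
      (sInf_le ⟨hA, (h𝒜 A hA).1⟩ : zIn 𝒜 S ≤ A).trans (h𝒜 A hA).1
    exact isInner_iff_hom.1 (isInner_of_pAt hS hF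
      ⟨hle, fun R _ => Subgroup.card_le_of_le (inf_le_left.trans hSW) (K := normalizerIn S (zIn 𝒜 S))⟩ hN
      (pAt_of_inner hS (isInner_iff_hom.2 h)))
  · intro h
    have hle : zIn 𝒜 S ≤ S := hne.elim fun A hA =>
      (sInf_le ⟨hA, (h𝒜 A hA).1⟩ : zIn 𝒜 S ≤ A).trans (h𝒜 A hA).1
    exact isInner_iff_hom.1 (isInner_of_family hp hS hF 𝒜 h𝒜 hne hinv' (fun B hB _ hcl hA => hrep B hB hcl hA)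
      (pAt_of_isInner hS (N := normSys F hle) (fun _ => rfl) (isInner_iff_hom.2 (h _ fun _ => rfl))))

end Cfsg.Agent.S5272
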