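import Cfsg.Statements.S5273
import Cfsg.Agent.Lib.Local.FS.SmallExponent

set_option autoImplicit false
open Cfsg

namespace Cfsg.Agent.S5273

theorem result {Ω : Type*} [Group Ω] {S : Subgroup Ω} [Finite S] (p : ℕ) [Fact p.Prime] (hS : IsPGroup p ↥S) (E F : Cfsg.FusionSystem S) (hE : E.IsSaturated p) (hF : F.IsSaturated p) (hEF : E.IsSubsystemOf F) (hodd : p ≠ 2 → ∀ A B : Subgroup Ω, A ≤ S → B ≤ S → Cfsg.IsElementaryAbelian p A → Cfsg.IsElementaryAbelian p B → E.homSet A B = F.homSet A B) (htwo : p = 2 → ∀ A B : Subgroup Ω, A ≤ S → B ≤ S → IsMulCommutative ↥A → IsMulCommutative ↥B → (∀ a ∈ A, a ^ 4 = 1) → (∀ b ∈ B, b ^ 4 = 1) → E.homSet A B = F.homSet A B) : ∀ P : Subgroup Ω, E.Hom P = F.Hom P := by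
  have hSC : F.StronglyClosed S := ⟨le_rfl, fun R _ φ hφ x => (F.le_of_mem hφ).2 x⟩
  intro P
  refine Set.Subset.antisymm (hEF P) fun φ hφ => ?_
  refine Cfsg.Agent.Local.FS.mem_iff_map.2 ?_
  have hfn := Cfsg.Agent.Local.FS.map_of_mem hφ
  have aux : ∀ n, p ^ n ≠ 2 → n ≠ 0 → (∀ A B : Subgroup Ω, A ≤ S → B ≤ S →
      Cfsg.Agent.Local.FS.SmallAb p n A → Cfsg.Agent.Local.FS.SmallAb p n B → E.homSet A B = F.homSet A B) →
      Cfsg.Agent.Local.FS.Map E P (Cfsg.Agent.Local.FS.fn φ) := by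
    intro n h2 h0 h
    refine Cfsg.Agent.Local.FS.map_of_small_exponent (n := n) _ _ E F (S)
      rfl rfl hS hE hF hEF Cfsg.Agent.Local.FS.hyperfocal_le hSC h2 h0 (fun A f hA hAs hf => ?_) _ _ hfn
    obtain ⟨ψ, hψ, hψf⟩ := id hf
    have him : Cfsg.Agent.Local.FS.im A f ≤ S := Cfsg.Agent.Local.FS.im_le_iff.2 fun x hx =>
      Cfsg.Agent.Local.FS.stronglyClosed_map (F := F) hSC hf hx (hA hx)
    have hmem : ψ ∈ F.homSet A (Cfsg.Agent.Local.FS.im A f) :=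
      ⟨hψ, fun x => hψf x ▸ Cfsg.Agent.Local.FS.mem_im_of_mem x.2⟩
    rw [← h A _ hA him hAs (hAs.image hf)] at hmem
    exact ⟨ψ, hmem.1, hψf⟩
  by_cases hp2 : p = 2
  · refine aux 2 (by subst hp2; norm_num) (by norm_num) fun A B hA hB hAs hBs => ?_
    subst hp2
    exact htwo rfl A B hA hB ⟨⟨fun a b => Subtype.ext (hAs.1 a a.2 b b.2)⟩⟩
      ⟨⟨fun a b => Subtype.ext (hBs.1 a a.2 b b.2)⟩⟩ hAs.2 hBs.2
  · refine aux 1 (by simpa using hp2) one_ne_zero fun A B hA hB hAs hBs => ?_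
    exact hodd hp2 A B hA hB ⟨⟨⟨fun a b => Subtype.ext (hAs.1 a a.2 b b.2)⟩⟩, fun a ha => by simpa using hAs.2 a ha⟩
      ⟨⟨⟨fun a b => Subtype.ext (hBs.1 a a.2 b b.2)⟩⟩, fun a ha => by simpa using hBs.2 a ha⟩

end Cfsg.Agent.S5273
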