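import Cfsg.Statements.S5275
import Cfsg.Agent.Lib.Local.FS.ClosedFamily

set_option autoImplicit false
open Cfsg

namespace Cfsg.Agent.S5275

theorem result {Ω : Type*} [Group Ω] {S : Subgroup Ω} [Finite S] (p : ℕ) [Fact p.Prime] (hS : IsPGroup p ↥S) (F : Cfsg.FusionSystem S) (hF : F.IsSaturated p) (hp : p ≠ 2) (D : Subgroup Ω) (hD : F.StronglyClosed D) : (∀ P : Subgroup Ω, F.Hom P = (Cfsg.innerFusionSystem S).Hom P) ↔ ∀ N : Cfsg.FusionSystem (Cfsg.FusionSystem.normalizerIn S (Cfsg.centerThompsonAOf D)), F.IsNormalizerSystem (Cfsg.centerThompsonAOf D) N → ∀ P : Subgroup Ω, N.Hom P = (Cfsg.innerFusionSystem (Cfsg.FusionSystem.normalizerIn S (Cfsg.centerThompsonAOf D))).Hom P := by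
  open Cfsg.Agent.Local.FS Cfsg.Agent.Fusion Cfsg.FusionSystem in
  have hne : (closedFamily S D).Nonempty :=
    (replFamily_comm.maxIn_nonempty (D.subgroupOf S)).image _
  have hz := zIn_closedFamily hS (S := S) hD.1 (p := p)
  have hinv := closedFamily_inv (S := S) hD
  rw [← hz]
  constructor
  · intro h N hN
    have hSW := le_normalizerIn_zIn hS hne closedFamily_mem hinv
    have hle : zIn (closedFamily S D) S ≤ S := hne.elim fun A hA =>
      (sInf_le ⟨hA, (closedFamily_mem A hA).1⟩ : zIn (closedFamily S D) S ≤ A).trans (closedFamily_mem A hA).1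
    exact isInner_iff_hom.1 (isInner_of_pAt hS hF
      ⟨hle, fun R _ => Subgroup.card_le_of_le (inf_le_left.trans hSW) (K := normalizerIn S (zIn (closedFamily S D) S))⟩ hN
      (pAt_of_inner hS (isInner_iff_hom.2 h)))
  · intro h
    have hle : zIn (closedFamily S D) S ≤ S := hne.elim fun A hA =>
      (sInf_le ⟨hA, (closedFamily_mem A hA).1⟩ : zIn (closedFamily S D) S ≤ A).trans (closedFamily_mem A hA).1
    exact isInner_iff_hom.1 (isInner_of_family hp hS hF _ closedFamily_mem hne hinv (closedFamily_rep hp hS hD)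
      (pAt_of_isInner hS (N := normSys F hle) (fun _ => rfl) (isInner_iff_hom.2 (h _ fun _ => rfl))))

end Cfsg.Agent.S5275
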