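import Cfsg.Statements.S5276
import Cfsg.Agent.Lib.Local.FS.TateCor
import Cfsg.Agent.Lib.Local.FS.WeakNormal

set_option autoImplicit false
open Cfsg

namespace Cfsg.Agent.S5276

theorem result {Ω : Type*} [Group Ω] {S : Subgroup Ω} [Finite S] (p : ℕ) [Fact p.Prime] (hS : IsPGroup p ↥S) (F : Cfsg.FusionSystem S) (hF : F.IsSaturated p) : (∀ P : Subgroup Ω, F.Hom P = (Cfsg.innerFusionSystem S).Hom P) ↔ (∀ N : Cfsg.FusionSystem (Cfsg.FusionSystem.normalizerIn S S), F.IsNormalizerSystem S N → ∀ P : Subgroup Ω, N.Hom P = (Cfsg.innerFusionSystem (Cfsg.FusionSystem.normalizerIn S S)).Hom P) ∧ F.StronglyClosed ((frattini ↥S).map S.subtype) := by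
  open Cfsg.Agent.Local.FS Cfsg.FusionSystem in
  constructor
  · intro h
    refine ⟨fun N hN P => ?_, stronglyClosed_iff.2 ⟨Subgroup.map_subtype_le _, fun P f hP hf x hx => ?_⟩⟩
    · ext φ
      refine ⟨fun hφ => ?_, fun hφ => ?_⟩
      · rw [hN P] at hφ
        obtain ⟨hPN, g, hg, hφg⟩ := (h P).le hφ.1
        exact ⟨hφ.2.1, g, le_normalizerIn le_rfl hg, hφg⟩
      · obtain ⟨hP, g, hg, hφg⟩ := hφ
        exact (map_conjBy (F := N) hP hg).mem_hom hφg
    · obtain ⟨φ, hφ, he⟩ := hf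
      obtain ⟨-, g, hg, hφg⟩ := (h P).le hφ
      rw [← he ⟨x, hx⟩, hφg]
      obtain ⟨y, hy, hyx⟩ := hP hx
      refine ⟨⟨g, hg⟩ * y * (⟨g, hg⟩ : ↥S)⁻¹, Subgroup.Normal.conj_mem inferInstance y hy _, ?_⟩
      subst hyx
      rfl
  · rintro ⟨hN, hT⟩
    have hAut := autGroup_le_of_normalizerSystem_inner (N := normSys F le_rfl) (fun P => rfl)
      (hN (normSys F le_rfl) fun P => rfl)
    have htriv := fun (P : Subgroup Ω) (f : Ω → Ω) (hf : Map F P f) =>
      trivial_mod hS hF hT (commutator_le_frattini_map hS) hAut hf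
    have h := inner_of_hyperfocal_le_frattini hS hF (hyperfocal_le_of_trivial_mod htriv)
    intro P
    rw [h]

end Cfsg.Agent.S5276
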