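import Cfsg.Statements.S5278
import Cfsg.Agent.Lib.Local.FS.LocalSetwise
import Cfsg.Agent.Lib.Local.FS.GlaubermanCenter
import Cfsg.Agent.Lib.Fusion.WeakClosureSubgroup

set_option autoImplicit false
open Cfsg

namespace Cfsg.Agent.S5278

open Cfsg.FusionSystem Cfsg.Agent.Local.FS Cfsg.Agent.Fusion

universe u

variable {Ω : Type u} [Group Ω] {S : Subgroup Ω} [Finite S] {F : FusionSystem S} {p : ℕ}

/-- A transitive element of a model gives a subgroup of `Aut_F(T)`. -/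
theorem exists_cyclic (hp : p.Prime) {R : Subgroup Ω} (hR : R ≤ S) {T : Subgroup Ω} (hTV : T ≤ normalizerIn S R)
    {L : Type u} [Group L] {ι : ↥(normalizerIn S R) →* L} (hr : (normSys F hR).IsRealizedBy ι)
    (h : CycAuto p ((T.subgroupOf (normalizerIn S R)).map ι)) :
    ∃ X : Subgroup (MulAut ↥T), X ≤ F.autGroup T ∧ X ≠ ⊥ ∧ IsCyclic ↥X ∧ (Nat.card ↥X).Coprime p ∧
      ∀ a b : ↥T, a ∈ Subgroup.closure {y : ↥T | ∃ ψ ∈ X, ∃ t : ↥T, y = ψ t * t⁻¹} →
        b ∈ Subgroup.closure {y : ↥T | ∃ ψ ∈ X, ∃ t : ↥T, y = ψ t * t⁻¹} →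
        a ≠ 1 → b ≠ 1 → ∃ ψ ∈ X, ψ a = b := by
  obtain ⟨g, hg, L₀, m, hm, hfix, ⟨t₀, ht₀, hne⟩, hcomm, htrans⟩ := h
  have hTS : T ≤ S := hTV.trans inf_le_left
  haveI := finite_of_le hTS
  let j : T →* L := ι.comp (Subgroup.inclusion hTV)
  have hj : Function.Injective j := hr.1.comp (Subgroup.inclusion_injective hTV)
  have hjmem : ∀ y : T, j y ∈ (T.subgroupOf (normalizerIn S R)).map ι := fun y => ⟨_, y.2, rfl⟩
  obtain ⟨f, hf, hfg⟩ := exists_map_of_conj hr hTV g fun u hu => Subgroup.map_le_range ι _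
    (conj_mem_of_normalizer hg (Subgroup.mem_map_of_mem ι (Subgroup.mem_subgroupOf.2 hu)))
  obtain ⟨-, -, g₀, hg₀, hg₀f, -⟩ := (map_normalizerSystem_iff fun _ => rfl).1 hf
  have hfF : Map F T f := (hg₀.restrict le_sup_left).congr hg₀f
  have hfv : ∀ y : T, ∃ z : T, (z : Ω) = f y ∧ j z = g * j y * g⁻¹ := fun y => by
    obtain ⟨z, hz, he⟩ := conj_mem_of_normalizer hg (hjmem y)
    exact ⟨⟨z, hz⟩, (hfg ⟨y, hTV y.2⟩ y.2 z he).symm, he⟩
  obtain ⟨α, hα, hαf⟩ := exists_aut hfF (Subgroup.eq_of_le_of_card_ge (im_le_iff.2 fun y hy => by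
    obtain ⟨z, hz, -⟩ := hfv ⟨y, hy⟩
    exact hz ▸ z.2) hfF.card_im.ge)
  have h1 : ∀ y : T, j (α y) = g * j y * g⁻¹ := fun y => by
    obtain ⟨z, hz, he⟩ := hfv y
    rwa [show α y = z from Subtype.ext (by rw [hz, ← hαf y y.2, av_apply α y.2])]
  have hpow : ∀ (i : ℕ) (y : T), j ((α ^ i) y) = g ^ i * j y * (g ^ i)⁻¹ := fun i => by
    induction i with
    | zero => intro y; simp
    | succ i ih =>
      intro y
      rw [pow_succ, MulAut.mul_apply, ih, h1, pow_succ]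
      group
  haveI : Finite (MulAut T) := mulAut_finite_of_le hTS
  have hnat : ∀ {ψ}, ψ ∈ Subgroup.zpowers α → ∃ i : ℕ, α ^ i = ψ := fun {ψ} h =>
    Submonoid.mem_powers_iff _ _ |>.1 (mem_powers_iff_mem_zpowers.2 h)
  refine ⟨Subgroup.zpowers α, Subgroup.zpowers_le.2 hα, fun e => ?_, inferInstance, ?_, fun a b ha hb ha1 hb1 => ?_⟩
  · obtain ⟨⟨y, hyV⟩, hy, rfl⟩ := ht₀
    refine hne ?_
    have h2 := h1 ⟨y, hy⟩
    rw [show α = 1 from Subgroup.zpowers_eq_bot.1 e, MulAut.one_apply] at h2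
    exact h2.symm
  · rw [Nat.card_zpowers]
    refine hm.coprime_dvd_left (orderOf_dvd_of_pow_eq_one (MulEquiv.ext fun y => hj ?_))
    rw [hpow, hfix _ (hjmem y), MulAut.one_apply]
  · have hle : Subgroup.closure {y : ↥T | ∃ ψ ∈ Subgroup.zpowers α, ∃ t : ↥T, y = ψ t * t⁻¹} ≤ L₀.comap j :=
      (Subgroup.closure_le _).2 (by
        rintro _ ⟨ψ, hψ, t, rfl⟩
        obtain ⟨i, rfl⟩ := hnat hψ
        show j ((α ^ i) t * t⁻¹) ∈ L₀
        rw [map_mul, map_inv, hpow]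
        exact hcomm i _ (hjmem t))
    obtain ⟨i, hi⟩ := htrans (j a) (hle ha) (j b) (hle hb) (fun e => ha1 (hj (e.trans j.map_one.symm)))
      fun e => hb1 (hj (e.trans j.map_one.symm))
    exact ⟨α ^ i, pow_mem (Subgroup.mem_zpowers α) i, hj ((hpow i a).trans hi)⟩

/-- Let p be an odd prime, F a saturated fusion system over a finite p-group S, and T a subgroup of Z(S) such that the normalizer fusion system of J(S) in F is contained in the normalizer fusion system of T, J(S) being the subgroup generated by the abelian subgroups of S of largest order. Then either T is weakly closed in F, or Aut_F(T) has a nontrivial cyclic subgroup X of order prime to p that permutes transitively the non-identity elements of the commutator [T, X] (the subgroup of T generated by the elements ψ(t)·t⁻¹ with ψ in X and t in T). -/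
theorem result {Ω : Type*} [Group Ω] {S : Subgroup Ω} [Finite S] (p : ℕ) [Fact p.Prime] (hS : IsPGroup p ↥S) (F : Cfsg.FusionSystem S) (hF : F.IsSaturated p) (hp : p ≠ 2) (T : Subgroup Ω) (hT : T ≤ S ⊓ Subgroup.centralizer (S : Set Ω)) (hJT : ∀ NJ : Cfsg.FusionSystem (Cfsg.FusionSystem.normalizerIn S (Cfsg.thompsonSubgroupAOf S)), F.IsNormalizerSystem (Cfsg.thompsonSubgroupAOf S) NJ → ∀ NT : Cfsg.FusionSystem (Cfsg.FusionSystem.normalizerIn S T), F.IsNormalizerSystem T NT → NJ.IsSubsystemOf NT) : F.WeaklyClosed T ∨ ∃ X : Subgroup (MulAut ↥T), X ≤ F.autGroup T ∧ X ≠ ⊥ ∧ IsCyclic ↥X ∧ (Nat.card ↥X).Coprime p ∧ ∀ a b : ↥T, a ∈ Subgroup.closure {y : ↥T | ∃ ψ ∈ X, ∃ t : ↥T, y = ψ t * t⁻¹} → b ∈ Subgroup.closure {y : ↥T | ∃ ψ ∈ X, ∃ t : ↥T, y = ψ t * t⁻¹} → a ≠ 1 → b ≠ 1 → ∃ ψ ∈ X, ψ a = b := by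
  refine or_iff_not_imp_right.2 fun hno => ?_
  have hTS : T ≤ S := hT.trans inf_le_left
  have hTc : ∀ x ∈ T, ∀ s ∈ S, s * x = x * s := fun x hx s hs =>
    Subgroup.mem_centralizer_iff.1 (hT hx).2 s hs
  have hJS : thompsonSubgroupAOf S ≤ S := Subgroup.map_subtype_le _
  have hTJ : T ≤ thompsonSubgroupAOf S := fun x hx => by
    rw [← inducedFunctor_wJA]
    exact ⟨⟨x, hTS hx⟩, center_le_wJA ↥S hS (Subgroup.mem_center_iff.2 fun s => Subtype.ext (hTc x hx s s.2)), rfl⟩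
  refine weaklyClosed_of_local hS hF (W := wJA) (isCharPFunctor_wJA (p := p)).2
    (fun Q _ _ h => center_le_wJA Q h) hTS hTc ?_ ?_
  · intro f hf hi y hy
    rw [inducedFunctor_wJA] at hf hi
    have hJV : thompsonSubgroupAOf S ≤ normalizerIn S (thompsonSubgroupAOf S) :=
      (normalizerIn_thompson hS).ge.trans' hJS
    have hfN : Map (normSys F hJS) (thompsonSubgroupAOf S) f := (map_normalizerSystem_iff fun _ => rfl).2
      ⟨hJV, fun z hz => hJV (hi.le (mem_im_of_mem hz)), f, by rwa [sup_idem], fun _ _ => rfl, hi⟩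
    obtain ⟨φ, hφ, he⟩ := hfN
    have hsub := hJT _ (fun _ => rfl) (normSys F hTS) (fun _ => rfl) _ hφ
    obtain ⟨-, -, g, -, hgf, hgT⟩ := (map_normalizerSystem_iff fun _ => rfl).1
      (show Map (normSys F hTS) (thompsonSubgroupAOf S) f from ⟨φ, hsub, he⟩)
    rw [← hgf y (hTJ hy)]
    exact hgT.le (mem_im_of_mem hy)
  · intro R hR hRc L _ ι hm P hP hTV hloc
    haveI := hm.1
    set T₁ := (T.subgroupOf (normalizerIn S R)).map ι with hT₁
    rcases normal_or_cycAuto hp (Nat.card L) L P T₁ le_rfl hm.2.2.2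
      (hP ▸ Subgroup.map_le_range ι _) (by
        rintro _ ⟨t, ht, rfl⟩ v hv
        rw [hP] at hv
        obtain ⟨v, rfl⟩ := hv
        rw [← map_mul, ← map_mul]
        exact congrArg ι (Subtype.ext (hTc _ ht _ v.2.1)))
      (fun g hg => by
        have hloc' : ∀ g ∈ Subgroup.normalizer (thompsonSubgroupAOf (P : Subgroup L) : Set L),
            ∀ z ∈ T₁, g * z * g⁻¹ ∈ T₁ := fun g hg => by
          rintro _ ⟨y, hy, rfl⟩
          obtain ⟨z, hz, he⟩ := hloc g (by rwa [inducedFunctor_wJA]) y hy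
          exact ⟨z, hz, he.symm⟩
        refine Subgroup.mem_normalizer_iff.2 fun z => ⟨hloc' g hg z, fun hz => ?_⟩
        have := hloc' g⁻¹ (inv_mem hg) _ hz
        rwa [show g⁻¹ * (g * z * g⁻¹) * g⁻¹⁻¹ = z by group] at this) with h | h
    · intro g y hy
      obtain ⟨z, hz, he⟩ := conj_mem_of_normalizer (h.ge (Subgroup.mem_top g))
        (Subgroup.mem_map_of_mem ι (show y ∈ T.subgroupOf (normalizerIn S R) from hy))
      exact ⟨z, hz, he.symm⟩
    · exact absurd (exists_cyclic Fact.out hR.1 hTV hm.2.1 h) hno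

end Cfsg.Agent.S5278
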