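import Cfsg.Statements.S5281
import Cfsg.Agent.Lib.Local.FS.StableRadical

set_option autoImplicit false
open Cfsg

namespace Cfsg.Agent.S5281

theorem result {Ω : Type*} [Group Ω] {S : Subgroup Ω} [Finite S] (p : ℕ) [Fact p.Prime] (hS : IsPGroup p ↥S) (F : Cfsg.FusionSystem S) (hF : F.IsSaturated p) (hp : p ≠ 2) : (∀ Q : Subgroup Ω, F.IsFullyNormalized Q → ∀ χ : MulAut ↥Q, χ ∈ F.autGroup Q → (∀ a : ↥Q, (χ a⁻¹) * a * (χ a⁻¹) * (χ (χ a)) = 1) → χ ∈ ((Cfsg.pCore p ↥(F.autGroup Q)).map (F.autGroup Q).subtype : Subgroup (MulAut ↥Q))) ↔ ∀ R : Subgroup Ω, F.IsFullyNormalized R → F.IsCentric R → F.IsRadical p R → ∀ N : Cfsg.FusionSystem (Cfsg.FusionSystem.normalizerIn S R), F.IsNormalizerSystem R N → (∀ Q : Subgroup Ω, N.IsFullyNormalized Q → ∀ χ : MulAut ↥Q, χ ∈ N.autGroup Q → (∀ a : ↥Q, (χ a⁻¹) * a * (χ a⁻¹) * (χ (χ a)) = 1) → χ ∈ ((Cfsg.pCore p ↥(N.autGroup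 Q)).map (N.autGroup Q).subtype : Subgroup (MulAut ↥Q))) := by
  refine ⟨fun h R _ _ _ N hN Q hQ => ?_, fun h Q hQ => ?_⟩
  · exact Cfsg.Agent.Local.FS.quadInCore_normalizerSystem (fun Q hQ => h Q hQ) hN (hQ.1.trans inf_le_left)
  · exact Cfsg.Agent.Local.FS.stable_of_radical_normalizers hS hF
      (fun R h1 h2 h3 N hN Q hQ => h R h1 h2 h3 N hN Q hQ) hQ

end Cfsg.Agent.S5281
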