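import Cfsg.Statements.S5282
import Cfsg.Agent.Lib.Solv.FourFree.W.Systems
import Cfsg.Agent.Lib.Local.FS.FreeChainGen
import Cfsg.Agent.S2761

set_option autoImplicit false
open Cfsg

namespace Cfsg.Agent.S5282

/-- Let p be a prime and F a saturated fusion system over a finite p-group S that is Qd(p)-free: the semidirect product of an elementary abelian group of order p² by SL₂(p) acting naturally (the symmetric group of degree 4 when p = 2) is not involved in any model of the normalizer system of a fully normalized F-centric subgroup. Then F is realizable — it is the fusion system of some finite group on a Sylow p-subgroup — and F is a solvable fusion system. -/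
theorem result {Ω : Type*} [Group Ω] {S : Subgroup Ω} [Finite S] (p : ℕ) [Fact p.Prime] (hS : IsPGroup p ↥S) (F : Cfsg.FusionSystem S) (hF : F.IsSaturated p) (hfree : F.IsSectionFree p ↥(Cfsg.qd p)) : F.IsRealizable p ∧ F.IsSolvableSystem := by
  open Cfsg.Agent.Local.FS in
  by_cases hp : p = 2
  · subst hp
    have hfree4 : F.IsSectionFree 2 (Equiv.Perm (Fin 4)) := fun Q hfn hQc E hE L _ ι hL h => by
      obtain ⟨K, f, hf⟩ := Agent.Fusion.involves_exists_surjective h
      obtain ⟨e⟩ := Cfsg.Agent.S2761.result
      exact hfree Q hfn hQc E hE L ι hL
        (Agent.Fusion.involves_of_surjective (e.symm.toMonoidHom.comp f) (e.symm.surjective.comp hf))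
    exact ⟨realizable_of_constrained hS hF (Agent.Solv.FourFree.constrained_of_sfour_free hS hF hfree4),
      solvable_of_hasChain hS hF (hasChain_of_free (fun hS hF h =>
        Agent.Solv.FourFree.constrained_of_sfour_free hS hF h) hS hF hfree4)⟩
  · exact ⟨realizable_of_constrained hS hF (constrained_of_qd_free hp hS hF hfree),
      solvable_of_qd_free hp hS hF hfree⟩

end Cfsg.Agent.S5282
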