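import Cfsg.Statements.S5283
import Cfsg.Agent.Lib.Lead.SupersolubleCore
import Cfsg.Agent.Lib.Local.FS.Series
import Cfsg.Agent.Lib.Local.FS.MinimalNonInner

set_option autoImplicit false
open Cfsg

namespace Cfsg.Agent.S5283

open Cfsg.FusionSystem Cfsg.Agent.Fusion Cfsg.Agent.Local.FS

section
variable {Ω : Type*} [Group Ω] {S : Subgroup Ω} [Finite S] {p : ℕ} [Fact p.Prime]

/-- The series induced on a subgroup by a chain of strongly closed subgroups with cyclic steps. -/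
theorem exists_series (F : Cfsg.FusionSystem S) {m : ℕ} (c : Fin (m + 1) → Subgroup Ω) (h0 : c 0 = ⊥)
    (hl : c (Fin.last m) = S) (hsc : ∀ i : Fin (m + 1), F.StronglyClosed (c i))
    (hst : ∀ i : Fin m, c i.castSucc ≤ c i.succ ∧ ∃ x ∈ S, c i.succ = c i.castSucc ⊔ Subgroup.zpowers x)
    {P : Subgroup Ω} (hP : P ≤ S) :
    ∃ D : ℕ → Subgroup ↥P, D 0 = ⊥ ∧ D m = ⊤ ∧ Monotone D ∧ (∀ i, (D i).Normal) ∧
      (∀ i, ∀ α ∈ F.autGroup P, ∀ x ∈ D i, α x ∈ D i) ∧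
      ∀ i < m, ∃ y ∈ D (i + 1), ∀ d ∈ D (i + 1), ∃ j : ℤ, (y ^ j)⁻¹ * d ∈ D i := by
  let c' : ℕ → Subgroup Ω := fun i => c ⟨min i m, by omega⟩
  have hsc' : ∀ i, F.StronglyClosed (c' i) := fun i => hsc _
  have hmono : Monotone c' := monotone_nat_of_le_succ fun i => by
    rcases lt_or_ge i m with hi | hi
    · have := (hst ⟨i, hi⟩).1
      show c _ ≤ c _
      convert this using 2 <;> ext <;> simp <;> omega
    · exact le_of_eq (congrArg c (Fin.ext (by simp; omega)))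
  have hnorm : ∀ i, ((c' i).subgroupOf P).Normal := fun i => ⟨fun n hn g => by
    rw [Subgroup.mem_subgroupOf] at hn ⊢
    exact stronglyClosed_conj_mem (hsc' i) (hP g.2) hn⟩
  refine ⟨fun i => (c' i).subgroupOf P, ?_, ?_, fun i j h => ?_, hnorm, fun i α hα x hx => ?_, fun i hi => ?_⟩
  · show (c ⟨min 0 m, _⟩).subgroupOf P = ⊥
    rw [show (⟨min 0 m, by omega⟩ : Fin (m + 1)) = 0 from Fin.ext (by simp), h0, Subgroup.bot_subgroupOf]
  · show (c ⟨min m m, _⟩).subgroupOf P = ⊤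
    rw [show (⟨min m m, by omega⟩ : Fin (m + 1)) = Fin.last m from Fin.ext (by simp), hl,
      Subgroup.subgroupOf_eq_top]
    exact hP
  · exact fun x hx => hmono h hx
  · rw [Subgroup.mem_subgroupOf] at hx ⊢
    rw [← av_coe α x]
    exact stronglyClosed_map (hsc' i) (map_of_mem_autGroup hP hα) x.2 hx
  · obtain ⟨-, x, hxS, hx⟩ := hst ⟨i, hi⟩
    have e1 : c' i = c (⟨i, hi⟩ : Fin m).castSucc := congrArg c (Fin.ext (by simp; omega))
    have e2 : c' (i + 1) = c (⟨i, hi⟩ : Fin m).succ := congrArg c (Fin.ext (by simp; omega))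
    rw [← e1, ← e2] at hx
    have hnS : ((c' i).subgroupOf S).Normal := ⟨fun n hn g => by
      rw [Subgroup.mem_subgroupOf] at hn ⊢
      exact stronglyClosed_conj_mem (hsc' i) g.2 hn⟩
    let π := QuotientGroup.mk' ((c' i).subgroupOf S)
    let ψ : ↥((c' (i + 1)).subgroupOf P) →* ↥S ⧸ (c' i).subgroupOf S :=
      π.comp ((Subgroup.inclusion hP).comp ((c' (i + 1)).subgroupOf P).subtype)
    have hle : ψ.range ≤ Subgroup.zpowers (π ⟨x, hxS⟩) := by
      rintro _ ⟨⟨d, hd⟩, rfl⟩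
      rw [Subgroup.mem_subgroupOf, hx, sup_comm] at hd
      obtain ⟨a, ⟨k, rfl⟩, b, hb, hab⟩ := mem_sup_of_normalized (stronglyClosed_le_normalizer (hsc' i))
        (Subgroup.zpowers_le.2 hxS) hd
      refine ⟨k, ?_⟩
      show π ⟨x, hxS⟩ ^ k = π (Subgroup.inclusion hP d)
      rw [← map_zpow]
      refine QuotientGroup.eq.2 ?_
      rw [Subgroup.mem_subgroupOf]
      show (x ^ k)⁻¹ * (d : Ω) ∈ c' i
      rw [← hab]
      show (x ^ k)⁻¹ * (x ^ k * b) ∈ c' i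
      rwa [inv_mul_cancel_left]
    haveI := Subgroup.isCyclic_of_le hle
    obtain ⟨⟨g, ⟨y, hy⟩, hyg⟩, hgen⟩ := IsCyclic.exists_generator (α := ↥ψ.range)
    refine ⟨y, hy, fun d hd => ?_⟩
    obtain ⟨j, hj⟩ := hgen ⟨ψ ⟨d, hd⟩, _, rfl⟩
    refine ⟨j, ?_⟩
    have hj' : g ^ j = ψ ⟨d, hd⟩ := congrArg Subtype.val hj
    rw [← hyg, ← map_zpow] at hj'
    have h2 : π (Subgroup.inclusion hP (y ^ j)) = π (Subgroup.inclusion hP d) := hj'
    have h3 := QuotientGroup.eq.1 h2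
    exact h3

/-- A saturated system with such a chain has `S` normal. -/
theorem normal_of_chain (hS : IsPGroup p S) (F : Cfsg.FusionSystem S) (hF : F.IsSaturated p) {m : ℕ}
    (c : Fin (m + 1) → Subgroup Ω) (h0 : c 0 = ⊥)
    (hl : c (Fin.last m) = S) (hsc : ∀ i : Fin (m + 1), F.StronglyClosed (c i))
    (hst : ∀ i : Fin m, c i.castSucc ≤ c i.succ ∧ ∃ x ∈ S, c i.succ = c i.castSucc ⊔ Subgroup.zpowers x) :
    F.IsNormal S := by
  refine normal_of_centric_radical hS hF (by have := hsc (Fin.last m); rwa [hl] at this) fun P hC hR => ?_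
  haveI := mulAut_finite_of_le hC.1
  haveI := finite_of_le hC.1
  obtain ⟨D, hD0, hDm, hmono, hnorm, hinv, hcyc⟩ := exists_series F c h0 hl hsc hst hC.1
  refine le_of_inf_normalizer_le hS le_rfl Subgroup.le_normalizer hC.1 ?_
  rintro a ⟨haS, han⟩
  obtain ⟨β, hβ, hβS⟩ := exists_aut_conj han
  have hβ' : β ∈ autInducedBy S P := hβS S haS
  have hβF : β ∈ F.autGroup P := autInducedBy_le_autGroup hC.1 hβ'
  let K : Subgroup ↥(F.autGroup P) := Subgroup.normalClosure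
    {g | ∃ α γ : ↥(F.autGroup P), g = α * γ * α⁻¹ * γ⁻¹}
  let W : Subgroup (MulAut ↥P) :=
    { carrier := {g | g ∈ F.autGroup P ∧ ∀ i < m, ∀ x ∈ D (i + 1), x⁻¹ * g x ∈ D i}
      one_mem' := ⟨one_mem _, fun i _ x _ => by simp⟩
      mul_mem' := fun {g g'} hg hg' => ⟨mul_mem hg.1 hg'.1, fun i hi x hx => by
        have h1 := hg'.2 i hi x hx
        have h2 := hg.2 i hi (g' x) (hinv _ _ hg'.1 x hx)
        have := (D i).mul_mem h1 h2
        rw [mul_assoc, mul_inv_cancel_left] at this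
        exact this⟩
      inv_mem' := fun {g} hg => ⟨inv_mem hg.1, fun i hi x hx => by
        have h1 := (D i).inv_mem (hg.2 i hi (g⁻¹ x) (hinv _ _ (inv_mem hg.1) x hx))
        rwa [MulAut.apply_inv_self, mul_inv_rev, inv_inv] at h1⟩ }
  have hWn : (W.subgroupOf (F.autGroup P)).Normal := ⟨fun n hn g => by
    rw [Subgroup.mem_subgroupOf] at hn ⊢
    refine ⟨(g * n * g⁻¹).2, fun i hi x hx => ?_⟩
    have hy : ((g : MulAut ↥P)⁻¹) x ∈ D (i + 1) := hinv _ _ (inv_mem g.2) x hx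
    have h1 := hinv i _ g.2 _ (hn.2 i hi _ hy)
    rw [map_mul, map_inv, MulAut.apply_inv_self] at h1
    exact h1⟩
  have hKW : K ≤ W.subgroupOf (F.autGroup P) := Subgroup.normalClosure_le_normal (by
    rintro _ ⟨α, γ, rfl⟩
    rw [SetLike.mem_coe, Subgroup.mem_subgroupOf]
    exact ⟨(α * γ * α⁻¹ * γ⁻¹).2,
      Cfsg.Agent.Lead.SupCore.commutator_stab (F.autGroup P) D m hnorm hinv hcyc α.2 γ.2⟩)
  have hKp : IsPGroup p ↥K := by
    rintro ⟨g, hg⟩
    obtain ⟨n, hn⟩ := Cfsg.Agent.Lead.SupCore.exists_pow_eq_one_of_series (hS.to_le hC.1) D m hD0 hDm hmono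
      (g : MulAut ↥P) (hKW hg).2
    exact ⟨n, Subtype.ext (Subtype.ext hn)⟩
  let L : Subgroup ↥(F.autGroup P) := K ⊔ Subgroup.zpowers ⟨β, hβF⟩
  have hLn : L.Normal := ⟨fun n hn g => by
    have h1 : g * n * g⁻¹ * n⁻¹ ∈ L := Subgroup.mem_sup_left (Subgroup.subset_normalClosure ⟨g, n, rfl⟩)
    have h2 := L.mul_mem h1 hn
    rwa [inv_mul_cancel_right] at h2⟩
  have hLp : IsPGroup p ↥L := IsPGroup.to_sup_of_normal_left hKp fun ⟨g, hg⟩ => by
    obtain ⟨k, rfl⟩ := hg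
    obtain ⟨n, hn⟩ := (isPGroup_autS hS) ⟨β, hβ'⟩
    refine ⟨n, Subtype.ext ?_⟩
    have h1 : (⟨β, hβF⟩ : ↥(F.autGroup P)) ^ p ^ n = 1 := Subtype.ext (congrArg Subtype.val hn :)
    show ((⟨β, hβF⟩ : ↥(F.autGroup P)) ^ k) ^ p ^ n = 1
    rw [← zpow_natCast, ← zpow_mul, mul_comm, zpow_mul, zpow_natCast, h1, one_zpow]
  have hin : β ∈ Inn P := by
    rw [← hR.2]
    exact ⟨⟨β, hβF⟩, le_pCore (hn := hLn) hLp (Subgroup.mem_sup_right (Subgroup.mem_zpowers _)), rfl⟩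
  obtain ⟨y, hy, hyβ⟩ := mem_Inn.1 hin
  have hc : y⁻¹ * a ∈ centralizerIn S P := by
    refine mem_centralizerIn.2 ⟨S.mul_mem (S.inv_mem (hC.1 hy)) haS, fun x hx => ?_⟩
    have h1 := (hβ x hx).symm.trans (hyβ x hx)
    calc x * (y⁻¹ * a) = y⁻¹ * (y * x * y⁻¹) * a := by group
      _ = y⁻¹ * (a * x * a⁻¹) * a := by rw [h1]
      _ = _ := by group
  simpa using P.mul_mem hy (hC.2 P (isConj_refl hC.1) hc)

theorem aut_condition (hS : IsPGroup p S)
    (h : ∀ F : Cfsg.FusionSystem S, F.IsSaturated p → (∃ (m : ℕ) (c : Fin (m + 1) → Subgroup Ω), c 0 = ⊥ ∧ c (Fin.last m) = S ∧ (∀ i : Fin (m + 1), F.StronglyClosed (c i)) ∧ ∀ i : Fin m, c i.castSucc ≤ c i.succ ∧ ∃ x ∈ S, c i.succ = c i.castSucc ⊔ Subgroup.zpowers x))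
    (H : Subgroup (MulAut ↥S)) (hH : (Nat.card ↥H).Coprime p) :
    IsMulCommutative ↥H ∧ ∀ h ∈ H, h ^ (p - 1) = 1 := by
  haveI : Finite (MulAut ↥S) := finite_mulAut
  have hnd : ¬ p ∣ Nat.card H := (Nat.Prime.coprime_iff_not_dvd Fact.out).1 hH.symm
  let F := autSys (Inn ↥S ⊔ H) le_sup_left
  obtain ⟨m, c, h0, hl, hsc, hst⟩ := h F (autSys_saturated hS H hnd)
  obtain ⟨D, hD0, hDm, hmono, hnorm, hinv, hcyc⟩ := exists_series F c h0 hl hsc hst le_rfl
  have hHA : H ≤ F.autGroup S := fun a ha =>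
    mem_autGroup_of_map (map_autSys_iff.2 ⟨le_rfl, a, Subgroup.mem_sup_right ha, fun x _ => rfl⟩)
  have hkill : ∀ g ∈ H, (∀ i < m, ∀ x ∈ D (i + 1), x⁻¹ * g x ∈ D i) → g = 1 := by
    intro g hg hst'
    obtain ⟨n, hn⟩ := Cfsg.Agent.Lead.SupCore.exists_pow_eq_one_of_series hS D m hD0 hDm hmono g hst'
    rw [← orderOf_eq_one_iff]
    refine Nat.eq_one_of_dvd_coprimes (Nat.Coprime.pow_right n hH) ?_ (orderOf_dvd_of_pow_eq_one hn)
    rw [show orderOf g = orderOf (⟨g, hg⟩ : ↥H) from (Subgroup.orderOf_coe ⟨g, hg⟩)]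
    exact orderOf_dvd_natCard _
  refine ⟨⟨⟨fun a b => Subtype.ext ?_⟩⟩, fun g hg => ?_⟩
  · have := hkill _ (mul_mem (mul_mem (mul_mem a.2 b.2) (inv_mem a.2)) (inv_mem b.2))
      (Cfsg.Agent.Lead.SupCore.commutator_stab (F.autGroup S) D m hnorm hinv hcyc (hHA a.2) (hHA b.2))
    rw [mul_inv_eq_one, mul_inv_eq_iff_eq_mul] at this
    exact this
  · obtain ⟨N, hN⟩ := IsPGroup.iff_card.1 hS
    have := hkill _ (pow_mem hg ((p - 1) * p ^ N))
      (Cfsg.Agent.Lead.SupCore.power_stab (F.autGroup S) D hS m hnorm hinv hcyc (hHA hg) N hN)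
    rw [pow_mul] at this
    rw [← orderOf_eq_one_iff]
    refine Nat.eq_one_of_dvd_coprimes (Nat.Coprime.pow_right N hH) ?_ (orderOf_dvd_of_pow_eq_one this)
    rw [show orderOf (g ^ (p - 1)) = orderOf (⟨g ^ (p - 1), pow_mem hg _⟩ : ↥H) from (Subgroup.orderOf_coe (⟨g ^ (p - 1), pow_mem hg _⟩ : ↥H))]
    exact orderOf_dvd_natCard _

theorem chain_of_resistant (hS : IsPGroup p S) (F : Cfsg.FusionSystem S) (hF : F.IsSaturated p)
    (hN : F.IsNormal S)
    (hA : ∀ H : Subgroup (MulAut ↥S), (Nat.card ↥H).Coprime p → IsMulCommutative ↥H ∧ ∀ h ∈ H, h ^ (p - 1) = 1) :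
    ∃ (m : ℕ) (c : Fin (m + 1) → Subgroup Ω), c 0 = ⊥ ∧ c (Fin.last m) = S ∧ (∀ i : Fin (m + 1), F.StronglyClosed (c i)) ∧ ∀ i : Fin m, c i.castSucc ≤ c i.succ ∧ ∃ x ∈ S, c i.succ = c i.castSucc ⊔ Subgroup.zpowers x := by
  haveI : Finite (MulAut ↥S) := finite_mulAut
  have hinn : autInducedBy S S = Inn S := by
    ext α; rw [mem_autInducedBy, mem_Inn]
  obtain ⟨-, hsyl⟩ := fa_iff.1 (fc_fa_of_fn hS hF (fn_self (F := F))).2
  rw [hinn] at hsyl
  let N : Subgroup ↥(F.autGroup S) := (Inn S).subgroupOf (F.autGroup S)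
  haveI : N.Normal := inferInstanceAs ((Inn S).subgroupOf (F.autGroup S)).Normal
  have hndi : ¬ p ∣ N.index := hsyl.not_dvd
  have hco : (Nat.card N).Coprime N.index := by
    obtain ⟨k, hk⟩ := IsPGroup.iff_card.1 (hsyl.isPGroup.comap_subtype (K := F.autGroup S))
    rw [show Nat.card N = p ^ k from hk]
    exact Nat.Coprime.pow_left k ((Nat.Prime.coprime_iff_not_dvd Fact.out).2 hndi)
  obtain ⟨H0, hH0⟩ := Subgroup.exists_right_complement'_of_coprime hco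
  let H : Subgroup (MulAut ↥S) := H0.map (F.autGroup S).subtype
  have hHc : (Nat.card H).Coprime p := by
    rw [show Nat.card H = Nat.card H0 from Nat.card_congr
      (Subgroup.equivMapOfInjective _ _ (F.autGroup S).subtype_injective).toEquiv.symm,
      ← hH0.symm.index_eq_card]
    exact ((Nat.Prime.coprime_iff_not_dvd Fact.out).2 hndi).symm
  obtain ⟨hab, hexp⟩ := hA H hHc
  have hsc : ∀ C : Subgroup ↥S, C.Normal → (∀ h ∈ H, ∀ x ∈ C, h x ∈ C) → F.StronglyClosed (C.map S.subtype) := by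
    intro C hCn hCi
    refine stronglyClosed_iff.2 ⟨Subgroup.map_subtype_le C, fun P f hP hf x hx => ?_⟩
    obtain ⟨α, hα, hαf⟩ := normal_extends hN P f (hP.trans (Subgroup.map_subtype_le C)) hf
    obtain ⟨n, hn, h', hh', hnh⟩ : ∃ n ∈ N, ∃ h' ∈ H0, n * h' = ⟨α, hα⟩ := by
      obtain ⟨⟨⟨n, hn⟩, ⟨h', hh'⟩⟩, he, -⟩ := hH0.existsUnique ⟨α, hα⟩
      exact ⟨n, hn, h', hh', he⟩
    obtain ⟨y, hy, rfl⟩ := hP hx
    rw [← hαf _ hx]
    refine ⟨α y, ?_, (av_coe α y).symm⟩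
    rw [show α = (n : MulAut ↥S) * (h' : MulAut ↥S) from (congrArg Subtype.val hnh).symm, MulAut.mul_apply]
    have h1 : (h' : MulAut ↥S) y ∈ C := hCi _ ⟨h', hh', rfl⟩ y hy
    obtain ⟨t, ht, hnt⟩ := mem_Inn.1 (Subgroup.mem_subgroupOf.1 hn : (n : MulAut ↥S) ∈ Inn S)
    have h2 := hnt ((h' : MulAut ↥S) y : Ω) ((h' : MulAut ↥S) y).2
    rw [av_coe] at h2
    rw [SetLike.mem_coe, show (n : MulAut ↥S) ((h' : MulAut ↥S) y) = (⟨t, ht⟩ : ↥S) * (h' : MulAut ↥S) y * (⟨t, ht⟩ : ↥S)⁻¹ from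
      Subtype.ext h2]
    exact hCn.conj_mem _ h1 _
  suffices ∀ (k : ℕ) (C : Subgroup ↥S), C.Normal → (∀ h ∈ H, ∀ x ∈ C, h x ∈ C) → C.index = k →
      ∃ (m : ℕ) (c : Fin (m + 1) → Subgroup Ω), c 0 = C.map S.subtype ∧ c (Fin.last m) = S ∧
        (∀ i : Fin (m + 1), F.StronglyClosed (c i)) ∧
        ∀ i : Fin m, c i.castSucc ≤ c i.succ ∧ ∃ x ∈ S, c i.succ = c i.castSucc ⊔ Subgroup.zpowers x by
    obtain ⟨m, c, h0, h⟩ := this _ ⊥ inferInstance (fun h _ x hx => by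
      rw [Subgroup.mem_bot] at hx; subst hx; simp) rfl
    exact ⟨m, c, h0.trans (Subgroup.map_bot _), h⟩
  intro k
  induction k using Nat.strong_induction_on with
  | _ k ih =>
  intro C hCn hCi hk
  by_cases hCt : C = ⊤
  · subst hCt
    exact ⟨0, fun _ => S, by simp [← MonoidHom.range_eq_map], rfl, fun _ => by
      simpa [← MonoidHom.range_eq_map] using hsc ⊤ inferInstance hCi, fun i => i.elim0⟩
  obtain ⟨x, hx, hn', hi'⟩ := Cfsg.Agent.Lead.SupCore.exists_step hS H hab hexp C hCn hCi hCt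
  have hlt : (C ⊔ Subgroup.zpowers x).index < k := hk ▸ by
    haveI : Finite (S ⧸ C) := Quotient.finite _
    exact Subgroup.index_strictAnti (lt_of_le_not_ge le_sup_left fun h =>
      hx (h (Subgroup.mem_sup_right (Subgroup.mem_zpowers x))))
  obtain ⟨m, c, h0, hl, hc1, hc2⟩ := ih _ hlt _ hn' hi' rfl
  refine ⟨m + 1, Fin.cons (C.map S.subtype) c, rfl, ?_, ?_, ?_⟩
  · rw [← Fin.succ_last, Fin.cons_succ, hl]
  · intro i
    induction i using Fin.cases with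
    | zero => exact hsc C hCn hCi
    | succ i => simp only [Fin.cons_succ]; exact hc1 i
  · intro i
    induction i using Fin.cases with
    | zero =>
      simp only [Fin.castSucc_zero, Fin.cons_zero, Fin.cons_succ, h0, Subgroup.map_sup]
      exact ⟨le_sup_left, x, x.2, by rw [MonoidHom.map_zpowers]; rfl⟩
    | succ i =>
      rw [← Fin.succ_castSucc]
      simp only [Fin.cons_succ]
      exact hc2 i

end


/-- Call a saturated fusion system F over a finite p-group S supersoluble when S has a chain of subgroups 1 = S_0 ≤ S_1 ≤ … ≤ S_m = S, each strongly closed in F, with each S_{i+1} generated by S_i together with one further element (cyclic steps). Then every saturated fusion system over S is supersoluble if and only if S is normal in every saturated fusion system over S (S is resistant) and every subgroup of Aut(S) of order prime to p is abelian of exponent dividing p − 1. -/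
theorem result {Ω : Type*} [Group Ω] {S : Subgroup Ω} [Finite S] (p : ℕ) [Fact p.Prime] (hS : IsPGroup p ↥S) : (∀ F : Cfsg.FusionSystem S, F.IsSaturated p → (∃ (m : ℕ) (c : Fin (m + 1) → Subgroup Ω), c 0 = ⊥ ∧ c (Fin.last m) = S ∧ (∀ i : Fin (m + 1), F.StronglyClosed (c i)) ∧ ∀ i : Fin m, c i.castSucc ≤ c i.succ ∧ ∃ x ∈ S, c i.succ = c i.castSucc ⊔ Subgroup.zpowers x)) ↔ (∀ F : Cfsg.FusionSystem S, F.IsSaturated p → F.IsNormal S) ∧ ∀ H : Subgroup (MulAut ↥S), (Nat.card ↥H).Coprime p → IsMulCommutative ↥H ∧ ∀ h ∈ H, h ^ (p - 1) = 1 := by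
  constructor
  · intro h
    refine ⟨fun F hF => ?_, fun H hH => aut_condition hS h H hH⟩
    obtain ⟨m, c, h0, hl, hsc, hst⟩ := h F hF
    exact normal_of_chain hS F hF c h0 hl hsc hst
  · rintro ⟨hN, hA⟩ F hF
    exact chain_of_resistant hS F hF (hN F hF) hA

end Cfsg.Agent.S5283
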