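import Cfsg.Statements.S5287
import Cfsg.Agent.Lib.Local.FS.MetacyclicChain
import Cfsg.Agent.Lib.Local.FS.ExceptionalNoChain

set_option autoImplicit false
open Cfsg

namespace Cfsg.Agent.S5287

theorem result {Ω : Type*} [Group Ω] {S : Subgroup Ω} [Finite S] (p : ℕ) [Fact p.Prime] (hS : IsPGroup p ↥S) (hm : Cfsg.IsMetacyclic ↥S) : (∀ F : Cfsg.FusionSystem S, F.IsSaturated p → (∃ (m : ℕ) (c : Fin (m + 1) → Subgroup Ω), c 0 = ⊥ ∧ c (Fin.last m) = S ∧ (∀ i : Fin (m + 1), F.StronglyClosed (c i)) ∧ ∀ i : Fin m, c i.castSucc ≤ c i.succ ∧ ∃ x ∈ S, c i.succ = c i.castSucc ⊔ Subgroup.zpowers x)) ↔ ¬ ((∃ n : ℕ, 0 < n ∧ Nonempty (↥S ≃* Multiplicative (ZMod (p ^ n)) × Multiplicative (ZMod (p ^ n)))) ∨ (p = 2 ∧ ((∃ n : ℕ, 2 ≤ n ∧ Nonempty (↥S ≃* DihedralGroup n)) ∨ Cfsg.IsQuasiDihedral ↥S ∨ (∃ n : ℕ, 2 ≤ n ∧ Nonempty (↥S ≃* QuaternionGroup n))))) := by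
  open Cfsg.Agent.Local.FS in
  constructor
  · intro h hex
    have key : ∃ F : Cfsg.FusionSystem S, F.IsSaturated p ∧ ¬ Chain.HasChain F := by
      rcases hex with ⟨n, hn, ⟨e⟩⟩ | ⟨rfl, hex⟩
      · exact NoChain.homocyclic hS hn e
      rcases hex with ⟨n, hn, ⟨e⟩⟩ | hsd | ⟨n, hn, ⟨e⟩⟩
      · rcases Nat.lt_or_ge n 3 with hn3 | hn3
        · obtain rfl : n = 2 := by omega
          haveI : IsKleinFour (Multiplicative (ZMod (2 ^ 1)) × Multiplicative (ZMod (2 ^ 1))) :=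
            ⟨by simp [Nat.card_prod], by
              rw [Monoid.exponent_prod]
              simp [Monoid.exponent_multiplicative, ZMod.exponent]⟩
          haveI : IsKleinFour (DihedralGroup 2) :=
            ⟨by simp [DihedralGroup.nat_card], by simp [DihedralGroup.exponent]⟩
          obtain ⟨e'⟩ := IsKleinFour.nonempty_mulEquiv (G₁ := DihedralGroup 2)
            (G₂ := Multiplicative (ZMod (2 ^ 1)) × Multiplicative (ZMod (2 ^ 1)))
          exact NoChain.homocyclic hS one_pos (e.trans e')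
        · exact NoChain.dihedral hS hn3 e
      · exact NoChain.sd hS hsd
      · exact NoChain.quaternion hS hn e
    obtain ⟨F, hF, hno⟩ := key
    exact hno (h F hF)
  · intro hne F hF
    exact MetaChain.hasChain_of_not_exceptional hS hm hF (fun h => hne (Or.inl h))
      fun hp h => hne (Or.inr ⟨hp, h⟩)

end Cfsg.Agent.S5287
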