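import Cfsg.Statements.S5290
import Cfsg.Agent.Lib.Local.FS.WeakNormal

set_option autoImplicit false
open Cfsg

namespace Cfsg.Agent.S5290

theorem result {Ω : Type*} [Group Ω] {S : Subgroup Ω} [Finite S] (p : ℕ) [Fact p.Prime] (hS : IsPGroup p S)
    (F : Cfsg.FusionSystem S) (hF : F.IsSaturated p)
    (Q : Subgroup Ω) (hQ : Q ≤ S) :
    F.IsNormal Q ↔ (Cfsg.innerFusionSystem Q).IsWeaklyNormalIn F p := by
  exact Cfsg.Agent.Local.FS.normal_iff_inner_weaklyNormal hS hF hQ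

end Cfsg.Agent.S5290
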