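import Cfsg.Statements.S5291
import Cfsg.Agent.Lib.Local.FS.WeakNormal

set_option autoImplicit false
open Cfsg

namespace Cfsg.Agent.S5291

theorem result {Ω : Type*} [Group Ω] {S : Subgroup Ω} [Finite S] (p : ℕ) [Fact p.Prime] (hS : IsPGroup p S)
    (F : Cfsg.FusionSystem S) (hF : F.IsSaturated p)
    {T : Subgroup Ω} (E : Cfsg.FusionSystem T) (hE : E.IsWeaklyNormalIn F p)
    (R : Subgroup Ω) (hR : E.IsNormal R) :
    F.IsNormal (Subgroup.closure {x : Ω | ∃ φ ∈ F.Hom R, ∃ r : R, x = φ r}) := by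
  exact Cfsg.Agent.Local.FS.normal_closure_of_weaklyNormal hS hE hR

end Cfsg.Agent.S5291
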