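import Cfsg.Statements.S5292
import Cfsg.Agent.Lib.Local.FS.ModelSolvable

set_option autoImplicit false
universe u
open Cfsg

namespace Cfsg.Agent.S5292

theorem result {Ω : Type u} [Group Ω] {S : Subgroup Ω} [Finite S] (p : ℕ) [Fact p.Prime] (hS : IsPGroup p S)
    (F : Cfsg.FusionSystem S) (hF : F.IsSaturated p) :
    (∃ (G : Type u) (_ : Group G) (_ : Finite G) (ι : S →* G), Cfsg.IsPSolvable p G ∧ F.IsRealizedBy ι ∧
        ∃ T : Sylow p G, (T : Subgroup G) = ι.range) ↔
      (F.IsConstrained p ∧ Cfsg.IsPSolvable p ↥(F.autGroup F.core)) := by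
  exact Cfsg.Agent.Local.FS.psolvable_realized_iff hS hF

end Cfsg.Agent.S5292
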