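import Cfsg.Statements.S5293
import Cfsg.Agent.Lib.Local.FS.FocalCentralizer

set_option autoImplicit false
open Cfsg

namespace Cfsg.Agent.S5293

theorem result {Ω : Type*} [Group Ω] {S : Subgroup Ω} [Finite S] (p : ℕ) [Fact p.Prime] (hS : IsPGroup p S)
    (F : Cfsg.FusionSystem S) (hF : F.IsSaturated p)
    {T : Subgroup Ω} (E : Cfsg.FusionSystem T) (hE : E.IsNormalIn F p)
    (C : Subgroup Ω)
    (hC : C = sSup {X : Subgroup Ω | X ≤ Cfsg.FusionSystem.centralizerIn S T ∧ ∀ P : Subgroup Ω, E.Hom P ⊆ F.centralizerHom X P})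
    (D : Cfsg.FusionSystem (Cfsg.FusionSystem.centralizerIn S T)) (hD : F.IsCentralizerSystem T D) :
    D.focalSubgroup ≤ C := by
  subst hC
  have hTS := hE.1.2.2.2.1.1
  have hCE := Cfsg.Agent.Local.FS.focal_centE hS hE
    (V := {y : Ω | ∃ (P : Subgroup Ω) (φ : P →* Ω) (x : P), φ ∈ D.Hom P ∧ y = (x : Ω)⁻¹ * φ x}) (by
      rintro v ⟨P, φ, x, hφ, rfl⟩
      rw [hD P] at hφ
      obtain ⟨hφF, hP, -, ψ, hψ, h1, h2⟩ := hφ
      refine ⟨x, Cfsg.Agent.Local.FS.fn ψ, hP x.2, (Cfsg.Agent.Local.FS.map_of_mem hψ).restrict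
        (sup_le le_sup_right ((Subgroup.zpowers_le.2 x.2).trans le_sup_left)), fun r hr => ?_, ?_⟩
      · rw [Cfsg.Agent.Local.FS.fn_apply ψ (Subgroup.mem_sup_right hr)]
        exact h2 ⟨r, hr⟩
      · rw [Cfsg.Agent.Local.FS.fn_apply ψ (Subgroup.mem_sup_left x.2)]
        exact congrArg ((x : Ω)⁻¹ * ·) (h1 x).symm)
  refine le_trans (le_of_eq (by rfl)) (le_sSup ⟨hCE.1, fun P φ hφ => ?_⟩)
  obtain ⟨g, ⟨ψ, hψ, hψg⟩, hgf, hgC⟩ := hCE.2 P _ (Cfsg.Agent.Local.FS.map_of_mem hφ)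
  refine ⟨hE.1.2.2.1 P hφ, ?_, fun x => ?_, ψ, hψ, fun x => ?_, fun x => ?_⟩
  · exact fun x hx => ⟨hTS ((E.le_of_mem hφ).1 hx), Subgroup.mem_centralizer_iff.2 fun c hc =>
      (Cfsg.Agent.Local.FS.comm_of_centT (hCE.1 hc) ((E.le_of_mem hφ).1 hx)).symm⟩
  · exact ⟨hTS ((E.le_of_mem hφ).2 x), Subgroup.mem_centralizer_iff.2 fun c hc =>
      (Cfsg.Agent.Local.FS.comm_of_centT (hCE.1 hc) ((E.le_of_mem hφ).2 x)).symm⟩
  · rw [hψg, Subgroup.coe_inclusion, hgf _ x.2, Cfsg.Agent.Local.FS.fn_coe]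
  · rw [hψg, Subgroup.coe_inclusion, hgC _ x.2]

end Cfsg.Agent.S5293
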