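import Cfsg.Statements.S5295
import Cfsg.Agent.Lib.Local.FS.CenterSplit

set_option autoImplicit false
universe u
open Cfsg

namespace Cfsg.Agent.S5295

theorem result {Ω : Type u} [Group Ω] {S : Subgroup Ω} [Finite S] (p : ℕ) [Fact p.Prime] (hp : p ≠ 2) (hS : IsPGroup p S)
    (F : Cfsg.FusionSystem S) (hF : F.IsSaturated p) :
    ∃ K : Subgroup Ω, K ≤ (S ⊓ Subgroup.centralizer (S : Set Ω)) ∧ F.center ⊓ K = ⊥ ∧ F.center ⊔ K = (S ⊓ Subgroup.centralizer (S : Set Ω)) := by
  open Cfsg.Agent.Local.FS Cfsg.Agent.Fusion Cfsg.FusionSystem in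
  have hV := normalizerIn_thompson (p := p) hS
  set J := thompsonSubgroupAOf S
  have hJS : J ≤ S := Subgroup.map_subtype_le _
  have hfn : F.IsFullyNormalized J := ⟨hJS, fun R _ => by rw [hV]; exact Subgroup.card_le_of_le inf_le_left⟩
  have hVp : IsPGroup p ↥(normalizerIn S J) := hS.to_le inf_le_left
  obtain ⟨K, hK, h1, h2⟩ := exists_center_complement hVp (normSys_saturated hS hF hfn)
    (normal_normalizerSystem hJS (N := normSys F hfn.1) fun _ => rfl) (by
      intro z hz
      rw [hV] at hz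
      have := center_le_wJA ↥S hS (x := (⟨z, hz.1⟩ : ↥S)) (Subgroup.mem_center_iff.2 fun s =>
        Subtype.ext (Subgroup.mem_centralizer_iff.1 hz.2 s s.2))
      rw [show J = inducedFunctor wJA S from (inducedFunctor_wJA S).symm]
      exact ⟨_, this, rfl⟩)
  have hc : (normSys F hfn.1).center = F.center := le_antisymm
    (fun x hx => mem_center_of_glauberman hS hF (fun _ => rfl) hx (Or.inl hp))
    (center_le_center_normalizer hV fun _ => rfl)
  rw [hc] at h1 h2
  simp only [hV] at hK h2
  exact ⟨K, hK, h1, h2⟩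

end Cfsg.Agent.S5295
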