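import Cfsg.Statements.S5297
import Cfsg.Agent.Lib.Local.FS.Control

set_option autoImplicit false
universe u
open Cfsg

namespace Cfsg.Agent.S5297

theorem result {Ω : Type u} [Group Ω] {S : Subgroup Ω} [Finite S] (p : ℕ) [Fact p.Prime] (hS : IsPGroup p S)
    (F : Cfsg.FusionSystem S) (hF : F.IsSaturated p)
    (h : ∀ A B : Subgroup Ω, A ≤ (F.hyperfocalSubgroup p) → B ≤ (F.hyperfocalSubgroup p) → IsCyclic ↥A → (Nat.card ↥A = p ∨ Nat.card ↥A = 4) → IsCyclic ↥B → (Nat.card ↥B = p ∨ Nat.card ↥B = 4) →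
      F.homSet A B ⊆ F.normalizerHom S A) :
    F.IsNormal S := by
  open Cfsg.Agent.Local.FS in
  obtain ⟨n, hn⟩ := exists_zS_top (S := S) hS
  refine normal_self_of_gens hS hF fun R hR => ?_
  refine eq_top_of_series hS hF (Or.inr hR) (zS S) n (by simp [zS]) fun x hxR hxh hom => ?_
  have hRS := hR.2.1.1
  refine ⟨hn.ge (hRS hxR), fun α hα i hxi => ?_, fun s hs i hxi => zS_step hs.1 hxi⟩
  rcases eq_or_ne x 1 with rfl | hx1
  · rw [av_apply α R.one_mem, show (⟨1, R.one_mem⟩ : R) = 1 from rfl, map_one]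
    exact Subgroup.one_mem _
  obtain ⟨φ, hφ, hφx, hαh⟩ := exists_control_map hS hF hRS hα hxR hxh
  have hom' : IsOmega p (av α x) := by
    rw [av_apply α hxR]
    refine hom.imp (fun h => ?_) fun h => ⟨h.1, ?_⟩
    · rw [← SubmonoidClass.coe_pow, ← map_pow, show (⟨x, hxR⟩ : R) ^ p = 1 from Subtype.ext h, map_one]; rfl
    · rw [← SubmonoidClass.coe_pow, ← map_pow, show (⟨x, hxR⟩ : R) ^ 4 = 1 from Subtype.ext h.2, map_one]; rfl
  have hα1 : av α x ≠ 1 := fun he => hx1 (by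
    have h1 := av_inv_av α hxR
    rw [he, av_apply α⁻¹ R.one_mem, show (⟨1, R.one_mem⟩ : R) = 1 from rfl, map_one] at h1
    exact h1.symm)
  obtain ⟨-, -, -, ψ, hψ, hψφ, hψS⟩ := h _ _ (Subgroup.zpowers_le.2 hxh) (Subgroup.zpowers_le.2 hαh)
    inferInstance (omega_card hx1 hom) inferInstance (omega_card hα1 hom') hφ
  have hM := (map_of_mem hψ).restrict (le_sup_right : S ≤ Subgroup.zpowers x ⊔ S)
  obtain ⟨θ, hθ, hθe⟩ := exists_aut hM
    ((map_subgroupOf_eq_im le_sup_right fun y => (fn_coe ψ y).symm).symm.trans hψS)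
  have h1 := hψφ ⟨x, Subgroup.mem_zpowers x⟩
  rw [hφx, ← fn_coe ψ] at h1
  rw [← h1, show ((Subgroup.inclusion le_sup_left (⟨x, Subgroup.mem_zpowers x⟩ : Subgroup.zpowers x) :
    ↥(Subgroup.zpowers x ⊔ S)) : Ω) = x from rfl, ← hθe x (hRS hxR)]
  exact zS_inv hxi

end Cfsg.Agent.S5297
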