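import Cfsg.Statements.S5298
import Cfsg.Agent.Lib.Local.FS.Control

set_option autoImplicit false
universe u
open Cfsg

namespace Cfsg.Agent.S5298

theorem result {Ω : Type u} [Group Ω] {S : Subgroup Ω} [Finite S] (p : ℕ) [Fact p.Prime] (hS : IsPGroup p S)
    (F : Cfsg.FusionSystem S) (hF : F.IsSaturated p)
    (h : ∀ A B : Subgroup Ω, A ≤ (F.hyperfocalSubgroup p) → B ≤ (F.hyperfocalSubgroup p) → IsCyclic ↥A → (Nat.card ↥A = p ∨ Nat.card ↥A = 4) → IsCyclic ↥B → (Nat.card ↥B = p ∨ Nat.card ↥B = 4) →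
      F.homSet A B ⊆ (Cfsg.innerFusionSystem S).Hom A) :
    ∀ P : Subgroup Ω, F.Hom P = (Cfsg.innerFusionSystem S).Hom P := by
  open Cfsg.Agent.Local.FS Cfsg.Agent.Fusion in
  obtain ⟨n, hn⟩ := exists_zS_top (S := S) hS
  have hpow : ∀ (R : Subgroup Ω) (α : MulAut R) (x : Ω), x ∈ R → IsOmega p x → IsOmega p (av α x) := by
    intro R α x hxR hom
    rw [av_apply α hxR]
    refine hom.imp (fun h => ?_) fun h => ⟨h.1, ?_⟩
    · rw [← SubmonoidClass.coe_pow, ← map_pow, show (⟨x, hxR⟩ : R) ^ p = 1 from Subtype.ext h, map_one]; rfl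
    · rw [← SubmonoidClass.coe_pow, ← map_pow, show (⟨x, hxR⟩ : R) ^ 4 = 1 from Subtype.ext h.2, map_one]; rfl
  have hconj : ∀ (R : Subgroup Ω) (α : MulAut R), R ≤ S → α ∈ F.autGroup R → ∀ x ∈ R,
      x ∈ F.hyperfocalSubgroup p → IsOmega p x → ∃ g ∈ S, av α x = g * x * g⁻¹ := by
    intro R α hRS hα x hxR hxh hom
    rcases eq_or_ne x 1 with rfl | hx1
    · exact ⟨1, S.one_mem, by
        rw [av_apply α R.one_mem, show (⟨1, R.one_mem⟩ : R) = 1 from rfl, map_one]; simp⟩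
    obtain ⟨φ, hφ, hφx, hαh⟩ := exists_control_map hS hF hRS hα hxR hxh
    have hα1 : av α x ≠ 1 := fun he => hx1 (by
      have h1 := av_inv_av α hxR
      rw [he, av_apply α⁻¹ R.one_mem, show (⟨1, R.one_mem⟩ : R) = 1 from rfl, map_one] at h1
      exact h1.symm)
    obtain ⟨-, g, hg, hgφ⟩ := h _ _ (Subgroup.zpowers_le.2 hxh) (Subgroup.zpowers_le.2 hαh)
      inferInstance (omega_card hx1 hom) inferInstance (omega_card hα1 (hpow R α x hxR hom)) hφ
    exact ⟨g, hg, hφx.symm.trans (hgφ _)⟩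
  have hinv : ∀ (R : Subgroup Ω) (α : MulAut R), R ≤ S → α ∈ F.autGroup R → ∀ x ∈ R,
      x ∈ F.hyperfocalSubgroup p → IsOmega p x → ∀ i, x ∈ zS S i → av α x ∈ zS S i := by
    intro R α hRS hα x hxR hxh hom i hxi
    obtain ⟨g, hg, he⟩ := hconj R α hRS hα x hxR hxh hom
    obtain ⟨θ, hθ, -⟩ := exists_aut_conj (Subgroup.le_normalizer (H := S) hg)
    rw [he, ← hθ x (hRS hxR)]
    exact zS_inv hxi
  have hN : F.IsNormal S := normal_self_of_gens hS hF fun R hR =>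
    eq_top_of_series hS hF (Or.inr hR) (zS S) n (by simp [zS]) fun x hxR hxh hom =>
      ⟨hn.ge (hR.2.1.1 hxR), fun α hα => hinv R α hR.2.1.1 hα x hxR hxh hom,
        fun s hs i hxi => zS_step hs.1 hxi⟩
  -- the automorphisms of `S` are inner
  haveI := mulAut_finite_of_le (le_refl S)
  obtain ⟨D, hDR, hDh, hom, hDinv, hdet⟩ := detect_in_system (F := F) hS le_rfl
  have hAut : ∀ α ∈ F.autGroup S, α ∈ Cfsg.autInducedBy S S := by
    intro α hα
    obtain ⟨β, hβ, γ, hγ, rfl⟩ := exists_autS_mul_residual hS hF (fn_self (F := F)) hα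
    refine Subgroup.mul_mem _ hβ ?_
    have h1 : Cfsg.pResidual p ↥(F.autGroup S) ≤ ⊥ := by
      refine (Subgroup.closure_le _).2 fun δ hδ => Subgroup.mem_bot.2 (Subtype.ext ?_)
      have hco : (orderOf (δ : MulAut S)).Coprime p := by rwa [Subgroup.orderOf_coe]
      refine hdet _ δ.2 hco fun d hd => ?_
      refine fix_of_stabilizes hS le_rfl hDR (zS S) (by simp [zS]) hco (hDinv _ δ.2)
        (fun i x hx hxi => ?_) n d hd (hn.ge (hDR hd))
      obtain ⟨g, hg, he⟩ := hconj S _ le_rfl δ.2 x (hDR hx) (hDh hx) (hom x hx)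
      rw [he]
      exact zS_step hg hxi
    rw [Subgroup.mem_bot.1 (h1 hγ)]
    exact Subgroup.one_mem _
  intro P
  refine Set.Subset.antisymm (fun φ hφ => ?_) fun φ hφ => ?_
  · have hP := (F.le_of_mem hφ).1
    obtain ⟨α, hα, hαφ⟩ := normal_extends hN P _ hP (map_of_mem hφ)
    obtain ⟨g, hg, hgα⟩ := Cfsg.Agent.Local.FS.mem_autInducedBy.1 (hAut α hα)
    exact ⟨hP, g, hg, fun x => by rw [← fn_coe φ x, ← hαφ x x.2, hgα x (hP x.2)]⟩
  · obtain ⟨hP, g, hg, hgφ⟩ := hφ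
    exact (map_conjBy hP hg).mem_hom hgφ

end Cfsg.Agent.S5298
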