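import Cfsg.Statements.S5299
import Cfsg.Agent.Lib.Fusion.Basic

set_option autoImplicit false
universe u
open Cfsg

namespace Cfsg.Agent.S5299

theorem result {Ω : Type u} [Group Ω] {S : Subgroup Ω} [Finite S] (p : ℕ) [Fact p.Prime] (hS : IsPGroup p S)
    (F : Cfsg.FusionSystem S) (hF : F.IsSaturated p) (H : Type*) [Group H] [Finite H] (Q : Subgroup H) (hQ : IsPGroup p Q)
    (hfree : ¬ Cfsg.Involves (↥Q) (↥S)) : F.IsSectionFree p H := by
  intro Q' _ _ N _ L _ ι hmodel hinv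
  obtain ⟨hLfin, hr, ⟨T₀, hT₀⟩, -⟩ := hmodel
  haveI := hLfin
  apply hfree
  obtain ⟨K, R, hRn, ⟨e⟩⟩ := hinv
  haveI := hRn
  let φ : ↥K →* H := e.toMonoidHom.comp (QuotientGroup.mk' (R.subgroupOf K))
  have hφ : Function.Surjective φ := e.surjective.comp (QuotientGroup.mk'_surjective _)
  let ψ : ↥(Q.comap φ) →* ↥Q := (φ.comp (Q.comap φ).subtype).codRestrict Q fun x => x.2
  have hψ : Function.Surjective ψ := by
    rintro ⟨q, hq⟩
    obtain ⟨x, rfl⟩ := hφ q
    exact ⟨⟨x, hq⟩, rfl⟩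
  obtain ⟨T⟩ : Nonempty (Sylow p ↥(Q.comap φ)) := inferInstance
  have htop : (T : Subgroup ↥(Q.comap φ)).map ψ = ⊤ := by
    have h1 := (T.mapSurjective hψ).is_maximal' (Q := ⊤)
      (hQ.of_equiv (Subgroup.topEquiv (G := ↥Q)).symm) le_top
    rw [Sylow.coe_mapSurjective] at h1
    exact h1.symm
  let TL : Subgroup L := ((T : Subgroup ↥(Q.comap φ)).map (Q.comap φ).subtype).map K.subtype
  have hTL : IsPGroup p TL := (T.isPGroup'.map _).map _
  obtain ⟨x, -, hx⟩ := (Cfsg.Agent.Fusion.sylIn_top T₀).conj_le hTL le_top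
  rw [hT₀] at hx
  let ιr := MonoidHom.ofInjective hr.1
  let j : ↥(T : Subgroup ↥(Q.comap φ)) →* ↥S :=
    ((Subgroup.inclusion (inf_le_left : Cfsg.FusionSystem.normalizerIn S Q' ≤ S)).comp
      ιr.symm.toMonoidHom).comp
    (((MulAut.conj x).toMonoidHom.comp
      (K.subtype.comp ((Q.comap φ).subtype.comp (T : Subgroup ↥(Q.comap φ)).subtype))).codRestrict ι.range
      fun t => hx (Cfsg.Agent.Fusion.conj_mem_cj ⟨_, ⟨_, t.2, rfl⟩, rfl⟩))
  have hj : Function.Injective j := by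
    intro a b hab
    have h0 := ιr.symm.injective (Subgroup.inclusion_injective (inf_le_left : Cfsg.FusionSystem.normalizerIn S Q' ≤ S) hab)
    have h1 := congrArg (fun t : ↥ι.range => (t : L)) h0
    exact Subtype.ext (Subtype.ext (Subtype.ext ((MulAut.conj x).injective h1)))
  let g : ↥j.range →* ↥Q :=
    (ψ.comp (T : Subgroup ↥(Q.comap φ)).subtype).comp (MonoidHom.ofInjective hj).symm.toMonoidHom
  have hg : Function.Surjective g := by
    intro q
    obtain ⟨t, ht, rfl⟩ := htop.ge (Subgroup.mem_top q)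
    refine ⟨MonoidHom.ofInjective hj ⟨t, ht⟩, ?_⟩
    show ψ ((MonoidHom.ofInjective hj).symm (MonoidHom.ofInjective hj ⟨t, ht⟩) : ↥(T : Subgroup ↥(Q.comap φ))) = ψ t
    rw [MulEquiv.symm_apply_apply]
  have hker : (g.ker.map j.range.subtype).subgroupOf j.range = g.ker :=
    Subgroup.comap_map_eq_self_of_injective j.range.subtype_injective _
  have hn : ((g.ker.map j.range.subtype).subgroupOf j.range).Normal := by rw [hker]; infer_instance
  haveI := hn
  exact ⟨j.range, g.ker.map j.range.subtype, hn,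
    ⟨(QuotientGroup.quotientMulEquivOfEq hker).trans (QuotientGroup.quotientKerEquivOfSurjective g hg)⟩⟩

end Cfsg.Agent.S5299
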