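import Cfsg.Statements.S5300
import Cfsg.Agent.Lib.Local.FS.Control

set_option autoImplicit false
universe u
open Cfsg

namespace Cfsg.Agent.S5300

theorem result {Ω : Type u} [Group Ω] {S : Subgroup Ω} [Finite S] (p : ℕ) [Fact p.Prime] (hS : IsPGroup p S)
    (F : Cfsg.FusionSystem S) (hF : F.IsSaturated p)
    (hnorm : ∀ x ∈ F.focalSubgroup, (x ^ p = 1 ∨ (p = 2 ∧ x ^ 4 = 1)) → ∀ s ∈ S, s * x * s⁻¹ ∈ Subgroup.zpowers x) :
    F.IsNormal S := by
  open Cfsg.Agent.Local.FS in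
  have hSfoc : F.focalSubgroup ≤ S := by
    refine (Subgroup.closure_le _).2 ?_
    rintro _ ⟨P, φ, x, hφ, rfl⟩
    exact S.mul_mem (S.inv_mem ((F.le_of_mem hφ).1 x.2)) ((F.le_of_mem hφ).2 x)
  have hfoc : F.hyperfocalSubgroup p ≤ F.focalSubgroup := by
    refine (Subgroup.closure_le _).2 ?_
    rintro _ ⟨P, α, x, hP, -, rfl⟩
    obtain ⟨φ, hφ, he⟩ := (mem_autGroup_iff hP).1 α.2
    refine Subgroup.subset_closure ⟨P, φ, x, hφ, ?_⟩
    rw [he, av_coe]
  have hcen : ∀ x ∈ F.focalSubgroup, x ^ p = 1 → ∀ s ∈ S, s * x * s⁻¹ = x := by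
    intro x hx hxp s hs
    haveI := finite_of_le (show Subgroup.zpowers x ≤ S from Subgroup.zpowers_le.2 (hSfoc hx))
    rcases eq_or_ne x 1 with rfl | hx1
    · simp
    obtain ⟨a, ha⟩ := Subgroup.mem_zpowers_iff.1 (hnorm x hx (Or.inl hxp) s hs)
    have ho : orderOf x = p := orderOf_eq_prime hxp hx1
    have hiter : ∀ k : ℕ, s ^ k * x * (s ^ k)⁻¹ = x ^ (a ^ k) := by
      intro k
      induction k with
      | zero => simp
      | succ k ih =>
        rw [pow_succ' s, show s * s ^ k * x * (s * s ^ k)⁻¹ = s * (s ^ k * x * (s ^ k)⁻¹) * s⁻¹ by group,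
          ih, ← conj_zpow, ← ha, ← zpow_mul, ← pow_succ']
    obtain ⟨j, hj⟩ := hS ⟨s, hs⟩
    have hsj : s ^ p ^ j = 1 := congrArg Subtype.val hj
    have h2 := hiter (p ^ j)
    rw [hsj, one_mul, inv_one, mul_one] at h2
    have h3 : ((a ^ p ^ j : ℤ) : ZMod p) = ((1 : ℤ) : ZMod p) := by
      rw [ZMod.intCast_eq_intCast_iff]
      have h4 := zpow_eq_zpow_iff_modEq.1 (h2.symm.trans (zpow_one x).symm)
      rwa [ho] at h4
    rw [Int.cast_pow, ZMod.pow_card_pow, ZMod.intCast_eq_intCast_iff, ← ho] at h3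
    rw [← ha, zpow_eq_zpow_iff_modEq.2 h3, zpow_one]
  let C₁ : Subgroup Ω :=
    { carrier := {y | y ∈ F.focalSubgroup ∧ y ^ p = 1 ∧ ∀ s ∈ S, s * y = y * s}
      one_mem' := ⟨Subgroup.one_mem _, one_pow _, fun s _ => by simp⟩
      mul_mem' := by
        rintro a b ⟨ha, hap, hac⟩ ⟨hb, hbp, hbc⟩
        refine ⟨Subgroup.mul_mem _ ha hb, ?_, fun s hs => ?_⟩
        · have : Commute a b := hbc a (hSfoc ha)
          rw [this.mul_pow, hap, hbp, one_mul]
        · rw [← mul_assoc, hac s hs, mul_assoc, hbc s hs, mul_assoc]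
      inv_mem' := by
        rintro a ⟨ha, hap, hac⟩
        refine ⟨Subgroup.inv_mem _ ha, by rw [inv_pow, hap, inv_one], fun s hs => ?_⟩
        exact (Commute.inv_right (show Commute s a from hac s hs)).eq }
  have hC₁ : ∀ x ∈ F.focalSubgroup, x ^ p = 1 → x ∈ C₁ := fun x hx hxp =>
    ⟨hx, hxp, fun s hs => mul_inv_eq_iff_eq_mul.1 (hcen x hx hxp s hs)⟩
  refine normal_self_of_gens hS hF fun R hR => ?_
  refine eq_top_of_series hS hF (Or.inr hR) (fun i => if i = 0 then ⊥ else if i = 1 then C₁ else S) 2 rfl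
    fun x hxR hxh hom => ?_
  have hRS := hR.2.1.1
  refine ⟨hRS hxR, fun α hα i hxi => ?_, fun s hs i hxi => ?_⟩
  · rcases i with _ | _ | i
    · simp only [if_true] at hxi ⊢
      rw [Subgroup.mem_bot] at hxi ⊢
      subst hxi
      exact (map_of_mem_autGroup hRS hα).map_one
    · show av α x ∈ C₁
      have hxi' : x ∈ C₁ := hxi
      refine hC₁ _ (hfoc (stronglyClosed_map (Cfsg.Agent.S5124.result p hS F hF)
        (map_of_mem_autGroup hRS hα) hxR hxh)) ?_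
      rw [av_apply α hxR, ← SubmonoidClass.coe_pow, ← map_pow,
        show (⟨x, hxR⟩ : R) ^ p = 1 from Subtype.ext hxi'.2.1, map_one]; rfl
    · exact hRS (av_mem α hxR)
  · rcases i with _ | _ | i
    · have hxi' : x ∈ C₁ := hxi
      show x⁻¹ * (s * x * s⁻¹) ∈ (⊥ : Subgroup Ω)
      rw [hxi'.2.2 s hs.1, mul_inv_cancel_right, inv_mul_cancel]
      exact Subgroup.one_mem _
    · show x⁻¹ * (s * x * s⁻¹) ∈ C₁
      by_cases hxp : x ^ p = 1
      · rw [hcen x (hfoc hxh) hxp s hs.1, inv_mul_cancel]; exact C₁.one_mem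
      obtain ⟨hp2, hx4⟩ := hom.resolve_left hxp
      subst hp2
      obtain ⟨a, ha⟩ := Subgroup.mem_zpowers_iff.1 (hnorm x (hfoc hxh) (Or.inr ⟨rfl, hx4⟩) s hs.1)
      rcases Int.even_or_odd a with ⟨b, hb⟩ | ⟨b, hb⟩
      · exfalso
        apply hxp
        have h2 : (s * x * s⁻¹) ^ 2 = 1 := by
          rw [← ha, hb, ← two_mul, zpow_mul, ← zpow_natCast ((x ^ (2 : ℤ)) ^ b) 2, ← zpow_mul, mul_comm,
            zpow_mul, ← zpow_mul x, show (2 : ℤ) * ((2 : ℕ) : ℤ) = ((4 : ℕ) : ℤ) by norm_num,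
            zpow_natCast, hx4, one_zpow]
        rwa [conj_pow, conj_eq_one_iff] at h2
      · rw [← ha, hb, zpow_add, zpow_one, zpow_mul]
        have h1 : x⁻¹ * ((x ^ (2 : ℤ)) ^ b * x) = (x ^ (2 : ℤ)) ^ b := by
          rw [← mul_assoc, show Commute x⁻¹ ((x ^ (2 : ℤ)) ^ b) from
            ((Commute.refl x).zpow_right 2).zpow_right b |>.inv_left, mul_assoc, inv_mul_cancel, mul_one]
        rw [h1]
        refine C₁.zpow_mem ?_ b
        refine hC₁ _ (Subgroup.zpow_mem _ (hfoc hxh) 2) ?_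
        rw [zpow_two, ← pow_two, ← pow_mul]
        exact hx4
    · exact S.mul_mem (S.inv_mem (hRS hxR)) (S.mul_mem (S.mul_mem hs.1 (hRS hxR)) (S.inv_mem hs.1))

end Cfsg.Agent.S5300
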