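import Cfsg.Statements.S5301
import Cfsg.Agent.Lib.Local.FS.Series

set_option autoImplicit false
universe u
open Cfsg

namespace Cfsg.Agent.S5301

theorem result {Ω : Type u} [Group Ω] {S : Subgroup Ω} [Finite S] (p : ℕ) [Fact p.Prime] (hS : IsPGroup p S)
    (F : Cfsg.FusionSystem S) (hF : F.IsSaturated p)
    (hcl : ∀ P : Subgroup Ω, F.IsFullyNormalized P → F.IsCentric P → F.IsRadical p P →
      ∃ R : Sylow p ↥(F.autGroup P), (R : Subgroup ↥(F.autGroup P)).Normal) :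
    F.IsNormal S := by
  open Cfsg.Agent.Local.FS in
  open Cfsg.Agent.Fusion in
  refine normal_of_gen hS hF le_rfl fun P hP => ?_
  obtain ⟨hC, hR⟩ := gen_centric_radical hS hF hP
  have hPS : P = S := hP.elim id fun hE => by
    by_contra hne
    haveI := mulAut_finite_of_le hC.1
    obtain ⟨hfc, -, R₀, hR₀⟩ := fc_fa_of_fn hS hF hE.2.1
    obtain ⟨R, hR'⟩ := hcl P hE.2.1 hC hR
    haveI := hR'
    have huniq : R₀ = R := by
      obtain ⟨x, hx⟩ := MulAction.exists_smul_eq ↥(F.autGroup P) R R₀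
      rw [← hx, Sylow.smul_eq_of_normal]
    subst huniq
    have h1 : (R₀ : Subgroup ↥(F.autGroup P)) ≤ pCore p ↥(F.autGroup P) := le_pCore R₀.isPGroup'
    obtain ⟨s, ⟨hsS, hsn⟩, hsP⟩ := SetLike.exists_of_lt (lt_normalizerIn hS (lt_of_le_of_ne hC.1 hne))
    obtain ⟨β, hβ, hβS⟩ := exists_aut_conj hsn
    have h2 : (⟨β, autInducedBy_le_autGroup hC.1 (hβS S hsS)⟩ : ↥(F.autGroup P)) ∈
        (R₀ : Subgroup ↥(F.autGroup P)) := by
      rw [hR₀]; exact hβS S hsS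
    have h3 : β ∈ Inn P := hR.2 ▸ ⟨_, h1 h2, rfl⟩
    obtain ⟨y, hy, hyβ⟩ := mem_Inn.1 h3
    have hc : y⁻¹ * s ∈ Cfsg.FusionSystem.centralizerIn S P := by
      refine mem_centralizerIn.2 ⟨S.mul_mem (S.inv_mem (hC.1 hy)) hsS, fun x hx => ?_⟩
      have e1 := (hβ x hx).symm.trans (hyβ x hx)
      calc x * (y⁻¹ * s) = y⁻¹ * (y * x * y⁻¹) * s := by group
        _ = y⁻¹ * (s * x * s⁻¹) * s := by rw [e1]
        _ = _ := by group
    exact hsP (by simpa using P.mul_mem hy (hC.2 P (isConj_refl hC.1) hc))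
  subst hPS
  exact ⟨le_rfl, fun α _ x hx => av_mem α hx⟩

end Cfsg.Agent.S5301
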