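import Cfsg.Statements.S5306
import Cfsg.Agent.Lib.Fusion.Basic

set_option autoImplicit false
open Cfsg Cfsg.Agent.Fusion

namespace Cfsg.Agent.S5306

theorem result {X : Type*} [Group X] [Finite X] (p : ℕ) [Fact p.Prime] (P : Sylow p X) (J : Subgroup X) (hJ : J = Cfsg.thompsonSubgroupOf p (P : Subgroup X))
    (x y : X) (hx : x ∈ J ∧ ∀ j ∈ J, Commute j x) (hy : y ∈ J ∧ ∀ j ∈ J, Commute j y) (g : X) (hg : g * x * g⁻¹ = y) :
    ∃ n ∈ Subgroup.normalizer (J : Set X), n * x * n⁻¹ = y := by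
  have hkey : ∀ h : X, J ≤ cj (P : Subgroup X) h → cj J h = J := by
    intro h hle
    refine (Subgroup.eq_of_le_of_card_ge ?_ (by rw [card_cj])).symm
    subst hJ
    rintro _ ⟨a, ha, rfl⟩
    have key : Cfsg.thompsonSubgroup p ↥(P : Subgroup X) ≤
        (cj (Cfsg.thompsonSubgroupOf p (P : Subgroup X)) h).comap (P : Subgroup X).subtype := by
      refine sSup_le fun A hA b hb => ?_
      have hbJ : ∀ b ∈ A, h⁻¹ * ((b : ↥(P : Subgroup X)) : X) * h ∈ (P : Subgroup X) := fun b hb =>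
        mem_cj.1 (hle ⟨b, le_sSup hA hb, rfl⟩)
      let B : Subgroup ↥(P : Subgroup X) := (cj (A.map (P : Subgroup X).subtype) h⁻¹).subgroupOf P
      have hBle : cj (A.map (P : Subgroup X).subtype) h⁻¹ ≤ P := by
        rintro _ ⟨_, ⟨c, hc, rfl⟩, rfl⟩
        simpa using hbJ c hc
      have hBc : Nat.card B = Nat.card A := by
        rw [Nat.card_congr (Subgroup.subgroupOfEquivOfLe hBle).toEquiv, card_cj,
          Subgroup.card_map_of_injective (P : Subgroup X).subtype_injective]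
      have hB : B ∈ Cfsg.maxElementaryAbelianSubgroups p ↥(P : Subgroup X) := by
        obtain ⟨⟨hab, hpow⟩, hmax⟩ := hA
        refine ⟨⟨⟨⟨?_⟩⟩, ?_⟩, fun C hC => (hmax C hC).trans hBc.ge⟩
        · rintro ⟨⟨c, hc⟩, hc'⟩ ⟨⟨d, hd⟩, hd'⟩
          obtain ⟨_, ⟨c₀, hc₀, rfl⟩, hce⟩ := hc'
          obtain ⟨_, ⟨d₀, hd₀, rfl⟩, hde⟩ := hd'
          have hce' : (MulAut.conj h⁻¹) (c₀ : X) = c := hce
          have hde' : (MulAut.conj h⁻¹) (d₀ : X) = d := hde
          subst hce' hde'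
          refine Subtype.ext (Subtype.ext ?_)
          show (MulAut.conj h⁻¹) (c₀ : X) * (MulAut.conj h⁻¹) (d₀ : X) = _
          rw [← map_mul]
          have h2 := congrArg (fun t : A => ((t : ↥(P : Subgroup X)) : X)) (hab.1.1 ⟨c₀, hc₀⟩ ⟨d₀, hd₀⟩)
          exact (congrArg (MulAut.conj h⁻¹) h2).trans (map_mul _ _ _)
        · rintro ⟨c, hc⟩ hc'
          obtain ⟨_, ⟨c₀, hc₀, rfl⟩, hce⟩ := hc'
          have hce' : (MulAut.conj h⁻¹) (c₀ : X) = c := hce
          subst hce'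
          refine Subtype.ext ?_
          show ((MulAut.conj h⁻¹) (c₀ : X)) ^ p = 1
          rw [← map_pow]
          have h2 := congrArg (fun t : ↥(P : Subgroup X) => (t : X)) (hpow c₀ hc₀)
          exact (congrArg (MulAut.conj h⁻¹) h2).trans (map_one _)
      show (b : X) ∈ cj _ h
      rw [mem_cj]
      refine ⟨⟨_, hbJ b hb⟩, le_sSup hB ?_, rfl⟩
      exact ⟨_, ⟨b, hb, rfl⟩, by simp⟩
    exact key ha
  have hJx : J ≤ Subgroup.centralizer {x} := fun j hj =>
    Subgroup.mem_centralizer_singleton_iff.2 (hx.2 j hj)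
  have hJy : J ≤ Subgroup.centralizer {y} := fun j hj =>
    Subgroup.mem_centralizer_singleton_iff.2 (hy.2 j hj)
  have hgJ : cj J g ≤ Subgroup.centralizer {y} := by
    rintro _ ⟨j, hj, rfl⟩
    rw [Subgroup.mem_centralizer_singleton_iff, ← hg]
    show g * j * g⁻¹ * (g * x * g⁻¹) = g * x * g⁻¹ * (g * j * g⁻¹)
    have := congrArg (fun t => g * t * g⁻¹) (hx.2 j hj).eq
    simpa [mul_assoc] using this
  have hJp : IsPGroup p J := by
    subst hJ
    exact P.isPGroup'.to_le (Subgroup.map_subtype_le _)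
  obtain ⟨T, hT, hJT⟩ := exists_sylIn_ge hJp hJy
  obtain ⟨c, hc, hcT⟩ := hT.conj_le (isPGroup_cj hJp g) hgJ
  obtain ⟨t, -, ht⟩ := (sylIn_top P).conj_le hT.isPGroup le_top
  rw [cj_le_iff] at ht
  have h1 := hkey t⁻¹ (hJT.trans ht)
  rw [cj_cj] at hcT
  have h2 : J ≤ cj (P : Subgroup X) ((c * g)⁻¹ * t⁻¹) := by
    rw [← cj_cj]
    exact (cj_le_iff.1 hcT).trans (cj_mono ht _)
  have h3 := hkey _ h2
  have h4 : cj J (c * g) = J := by
    conv_lhs => rw [← h3]
    rw [cj_cj, mul_inv_cancel_left, h1]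
  refine ⟨c * g, Subgroup.mem_normalizer_iff.2 fun z => ?_, ?_⟩
  · constructor
    · intro hz
      rw [← h4]; exact conj_mem_cj hz
    · intro hz
      rw [← h4, mem_cj] at hz
      simpa [mul_assoc] using hz
  · have hcy := (Subgroup.mem_centralizer_singleton_iff.1 hc)
    calc c * g * x * (c * g)⁻¹ = c * (g * x * g⁻¹) * c⁻¹ := by group
      _ = y * c * c⁻¹ := by rw [hg, hcy]
      _ = y := by group

end Cfsg.Agent.S5306
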