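import Cfsg.Statements.S5311
import Cfsg.Agent.Lib.Local.FS.QuasisimpleTransport

set_option autoImplicit false
open Cfsg

namespace Cfsg.Agent.S5311

theorem result {Ω : Type*} [Group Ω] {S : Subgroup Ω} [Finite S] (p : ℕ) [Fact p.Prime] (hS : IsPGroup p S) (F : Cfsg.FusionSystem S) (hF : F.IsSaturated p)
    (α : ↥S ≃* ↥S) (hα : F.IsMorphism F (S.subtype.comp α.toMonoidHom))
    (hα' : F.IsMorphism F (S.subtype.comp α.symm.toMonoidHom))
    {T : Subgroup Ω} (E : Cfsg.FusionSystem T) (hE : E.IsLayerOf F p) :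
    Cfsg.FusionSystem.imageAlong (S.subtype.comp α.toMonoidHom) T = T ∧
      ∀ (P : Subgroup Ω) (φ : ↥P →* Ω), φ ∈ E.Hom P →
        ∀ φ' : ↥(Cfsg.FusionSystem.imageAlong (S.subtype.comp α.toMonoidHom) P) →* Ω,
          Cfsg.FusionSystem.InducedAlong (S.subtype.comp α.toMonoidHom) φ φ' →
            φ' ∈ E.Hom (Cfsg.FusionSystem.imageAlong (S.subtype.comp α.toMonoidHom) P) := by
  have h := Cfsg.Agent.Local.FS.fiso_of_morphisms hα hα'
  obtain ⟨hT, hmap⟩ := Cfsg.Agent.Local.FS.layer_char h hS hF hE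
  refine ⟨hT, fun P φ hφ φ' hφ' => ?_⟩
  obtain ⟨hP, hφS, hP', he⟩ := hφ'
  refine Cfsg.Agent.Local.FS.mem_iff_map.2 ((hmap P φ hφ).congr fun y hy => ?_)
  obtain ⟨x, hx, rfl⟩ := (Cfsg.Agent.Local.FS.mem_up hP).1 hy
  rw [h.pushFn_ue (hP hx), Cfsg.Agent.Local.FS.fn_apply φ' hy]
  have h1 := he ⟨x, hx⟩
  rw [Cfsg.Agent.Local.FS.fn_apply φ hx, Cfsg.Agent.Local.FS.ue_apply (hφS ⟨x, hx⟩), ← h1]
  exact congrArg φ' (Subtype.ext (Cfsg.Agent.Local.FS.ue_apply (hP hx)).symm)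

end Cfsg.Agent.S5311
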