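import Cfsg.Statements.S5315
import Cfsg.Agent.S5144
import Cfsg.Agent.S5084
import Cfsg.Agent.Lib.Local.FS.Focal
import Cfsg.Agent.Lib.Local.FS.Products

set_option autoImplicit false
open Cfsg
open scoped commutatorElement

namespace Cfsg.Agent.S5315

theorem result {Ω : Type*} [Group Ω] {S : Subgroup Ω} [Finite S] (p : ℕ) [Fact p.Prime] (hS : IsPGroup p S) (F : Cfsg.FusionSystem S) (hF : F.IsSaturated p)
    (hperf : F.hyperfocalSubgroup p = S)
    (E : Cfsg.FusionSystem (⊤ : Subgroup (↥S ⧸ (F.center).subgroupOf S)))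
    (hE : F.IsFactorSystem F.center (QuotientGroup.mk' ((F.center).subgroupOf S)) E) : E.center = ⊥ := by
  open Cfsg.Agent.Local.FS Cfsg.Agent.Fusion in
  set Z := F.center
  have hZc : F.IsCentral Z := Cfsg.Agent.S5144.result F
  set θ := QuotientGroup.mk' (Z.subgroupOf S)
  obtain ⟨hZS, hker, -, hmem⟩ := hE
  haveI : Finite ↥(⊤ : Subgroup (↥S ⧸ Z.subgroupOf S)) := inferInstance
  have hQc : E.IsCentral E.center := Cfsg.Agent.S5144.result E
  have hfixZ : ∀ (P : Subgroup Ω) (f : Ω → Ω), Map F P f → ∀ x ∈ P, x ∈ Z → f x = x := by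
    intro P f hf x hx hxZ
    obtain ⟨φ, hφ, he⟩ := hf
    obtain ⟨ψ, -, h1, h2⟩ := hZc.2 P φ hφ
    have e1 := h1 ⟨x, hx⟩
    have e2 := h2 ⟨x, hxZ⟩
    rw [he] at e1
    exact e1.symm.trans e2
  have hZS' : ∀ c ∈ Z, ∀ s ∈ S, c * s = s * c := by
    intro c hc s hs
    have h1 := hfixZ Z _ (map_conjBy hZS hs) c hc hc
    exact (mul_inv_eq_iff_eq_mul.1 h1).symm
  rw [eq_bot_iff]
  intro q hq
  obtain ⟨⟨z, hz⟩, rfl⟩ := QuotientGroup.mk'_surjective _ q
  rw [Subgroup.mem_bot]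
  refine (hker ⟨z, hz⟩).2 ?_
  -- every automorphism of a subgroup fixes `z` modulo `Z`
  have key : ∀ (P : Subgroup Ω) (α : MulAut P), α ∈ F.autGroup P → P ≤ S → ∃ g : Ω → Ω,
      Map F (P ⊔ Subgroup.zpowers z) g ∧ (∀ x ∈ P, (av α x)⁻¹ * g x ∈ Z) ∧ z⁻¹ * g z ∈ Z := by
    intro P α hα hP
    let P' : Subgroup (↥S ⧸ Z.subgroupOf S) := Cfsg.FusionSystem.imageAlong θ P
    -- the map on `P Z`
    obtain ⟨φ, hφ, he⟩ := map_of_mem_autGroup hP hα
    obtain ⟨ψ, hψ, hψφ, hψZ⟩ := hZc.2 P φ hφ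
    have hpre : Cfsg.FusionSystem.preimageAlong θ P' ≤ P ⊔ Z := by
      intro x hx
      obtain ⟨hxS, y, hy, hye⟩ := mem_preimageAlong.1 hx
      have h1 : θ (y⁻¹ * ⟨x, hxS⟩) = 1 := by rw [map_mul, map_inv, hye, inv_mul_cancel]
      have h2 : (y : Ω)⁻¹ * x ∈ Z := (hker _).1 h1
      have h3 := Subgroup.mul_mem_sup (show (y : Ω) ∈ P from hy) h2
      simpa using h3
    have hM : Map F (P ⊔ Z) (fn ψ) := map_of_mem hψ
    have hM' := hM.restrict hpre
    have hext : ∀ x ∈ P, fn ψ x = av α x := fun x hx => by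
      rw [fn_apply ψ (Subgroup.mem_sup_left hx)]
      exact (hψφ ⟨x, hx⟩).trans (he _)
    have hfixψ : ∀ c ∈ Z, fn ψ c = c := fun c hc => hfixZ _ _ hM c (Subgroup.mem_sup_right hc) hc
    let θP : ↥((P ⊔ Z).subgroupOf S) →* (↥S ⧸ Z.subgroupOf S) := θ.comp ((P ⊔ Z).subgroupOf S).subtype
    have hrange : ∀ x : ↥((P ⊔ Z).subgroupOf S), θP x ∈ P' := by
      rintro ⟨⟨x, hxS⟩, hx⟩
      have hxx : ∃ a ∈ P, ∃ c ∈ Z, a * c = x := by
        have hn : P ≤ Subgroup.normalizer (Z : Set Ω) := fun s hs =>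
          mem_normalizer_of_conj_mem hZS fun y hy => by
            rw [← hZS' y hy s (hP hs), mul_inv_cancel_right]; exact hy
        have hx' : x ∈ P ⊔ Z := hx
        rw [← SetLike.mem_coe, Subgroup.coe_mul_of_left_le_normalizer_right P Z hn] at hx'
        exact hx'
      obtain ⟨a, ha, c, hc, rfl⟩ := hxx
      refine ⟨⟨a, hP ha⟩, ha, ?_⟩
      show θ ⟨a, hP ha⟩ = θ ⟨a * c, hxS⟩
      rw [show (⟨a * c, hxS⟩ : S) = ⟨a, hP ha⟩ * ⟨c, hZS hc⟩ from rfl, map_mul,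
        (hker ⟨c, hZS hc⟩).2 hc, mul_one]
    let θP' : ↥((P ⊔ Z).subgroupOf S) →* ↥P' := θP.codRestrict P' hrange
    have hsurj : Function.Surjective θP' := by
      rintro ⟨_, y, hy, rfl⟩
      exact ⟨⟨y, Subgroup.mem_sup_left (show (y : Ω) ∈ P from hy)⟩, rfl⟩
    let ψS : ↥((P ⊔ Z).subgroupOf S) →* ↥S :=
      MonoidHom.mk' (fun x => ⟨fn ψ ((x : S) : Ω), hM.mem x.2⟩) fun x y => Subtype.ext (hM.map_mul x.2 y.2)
    have hk : θP'.ker ≤ (θ.comp ψS).ker := by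
      intro x hx
      have h1 : θ (x : S) = 1 := congrArg Subtype.val (MonoidHom.mem_ker.1 hx)
      refine (hker _).2 ?_
      show fn ψ ((x : S) : Ω) ∈ Z
      rw [hfixψ _ ((hker _).1 h1)]
      exact (hker _).1 h1
    let φ' := MonoidHom.liftOfSurjective θP' hsurj ⟨θ.comp ψS, hk⟩
    have hφ'e : ∀ x, φ' (θP' x) = θ (ψS x) := fun x => by
      show (MonoidHom.liftOfSurjective θP' hsurj ⟨θ.comp ψS, hk⟩) (θP' x) = _
      simp [MonoidHom.liftOfSurjective]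
    have hφ'mem : φ' ∈ E.Hom P' := (hmem _ _).2 ⟨le_top, fmap_iff.1 ⟨fn ψ, hM', fun x hx _ =>
      hφ'e ⟨x, hpre (mem_preimageAlong.2 ⟨x.2, hx⟩)⟩⟩⟩
    obtain ⟨χ', hχ', hχP, hχQ⟩ := hQc.2 P' φ' hφ'mem
    obtain ⟨g, hg, hgχ⟩ := fmap_iff.2 ((hmem _ _).1 hχ').2
    have hPmem : ∀ x (hx : x ∈ P), (θ ⟨x, hP hx⟩) ∈ P' := fun x hx => ⟨⟨x, hP hx⟩, hx, rfl⟩
    have hle : P ⊔ Subgroup.zpowers z ≤ Cfsg.FusionSystem.preimageAlong θ (P' ⊔ E.center) :=
      sup_le (fun x hx => mem_preimageAlong.2 ⟨hP hx, Subgroup.mem_sup_left (hPmem x hx)⟩)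
        (Subgroup.zpowers_le.2 (mem_preimageAlong.2 ⟨hz, Subgroup.mem_sup_right hq⟩))
    refine ⟨g, hg.restrict hle, fun x hx => ?_, ?_⟩
    · have hgx : g x ∈ S := (hg.restrict hle).mem (Subgroup.mem_sup_left hx)
      have h1 := hgχ ⟨x, hP hx⟩ (Subgroup.mem_sup_left (hPmem x hx)) hgx
      have h2 : χ' ⟨θ ⟨x, hP hx⟩, Subgroup.mem_sup_left (hPmem x hx)⟩ = θ ⟨fn ψ x, hM.mem (Subgroup.mem_sup_left hx)⟩ :=
        (hχP ⟨_, hPmem x hx⟩).trans (hφ'e ⟨⟨x, hP hx⟩, Subgroup.mem_sup_left hx⟩)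
      have h3 := h2.symm.trans h1
      have h4 : θ (⟨fn ψ x, hM.mem (Subgroup.mem_sup_left hx)⟩⁻¹ * ⟨g x, hgx⟩) = 1 := by
        rw [map_mul, map_inv, h3, inv_mul_cancel]
      have h5 : (fn ψ x)⁻¹ * g x ∈ Z := (hker _).1 h4
      rwa [hext x hx] at h5
    · have hgz : g z ∈ S := (hg.restrict hle).mem (Subgroup.mem_sup_right (Subgroup.mem_zpowers z))
      have h1 := hgχ ⟨z, hz⟩ (Subgroup.mem_sup_right hq) hgz
      have h3 : θ ⟨z, hz⟩ = θ ⟨g z, hgz⟩ := (hχQ ⟨_, hq⟩).symm.trans h1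
      have h4 : θ ((⟨z, hz⟩ : S)⁻¹ * ⟨g z, hgz⟩) = 1 := by rw [map_mul, map_inv, h3, inv_mul_cancel]
      exact (hker _).1 h4
  have hcomm : ∀ x ∈ S, ⁅z, x⁆ ∈ Z := by
    intro x hx
    obtain ⟨c, hc, hcS⟩ := exists_aut_conj (P := S) (Subgroup.le_normalizer hx)
    obtain ⟨g, hg, hgc, hgz⟩ := key S c (autInducedBy_le_autGroup le_rfl (hcS S hx)) le_rfl
    have h1 := hgc z hz
    rw [hc z hz] at h1
    have h2 := Z.mul_mem h1 (Z.inv_mem hgz)
    have h3 : (x * z * x⁻¹)⁻¹ * z ∈ Z := by simpa [mul_assoc] using h2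
    have h3' := hfixZ Z _ (map_conjBy hZS (S.mul_mem hx (S.inv_mem hz))) _ h3 h3
    simp only [mul_inv_rev, inv_inv] at h3'
    have h5 : x * (x * z⁻¹ * x⁻¹ * z) * x⁻¹ ∈ Z := by
      rw [← hZS' _ (show x * z⁻¹ * x⁻¹ * z ∈ Z by simpa [mul_assoc] using h3) x hx, mul_inv_cancel_right]
      simpa [mul_assoc] using h3
    have h6 : z⁻¹ * (x * z⁻¹ * x⁻¹ * z) * z ∈ Z := by
      rw [show z⁻¹ * (x * z⁻¹ * x⁻¹ * z) * z = z⁻¹ * ((x * z⁻¹ * x⁻¹ * z) * z) by group,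
        hZS' _ (show x * z⁻¹ * x⁻¹ * z ∈ Z by simpa [mul_assoc] using h3) z hz, inv_mul_cancel_left]
      simpa [mul_assoc] using h3
    have h7 : z * (x * z⁻¹ * x⁻¹ * z) * z⁻¹ ∈ Z := by
      rw [← hZS' _ (show x * z⁻¹ * x⁻¹ * z ∈ Z by simpa [mul_assoc] using h3) z hz, mul_inv_cancel_right]
      simpa [mul_assoc] using h3
    simpa [commutatorElement_def, mul_assoc] using h7
  -- the commutator with `z` is a homomorphism trivial on the hyperfocal subgroup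
  let χ : ↥S →* Ω := MonoidHom.mk' (fun x => ⁅z, (x : Ω)⁆) fun x y => by
    have h1 := hZS' _ (hcomm y y.2) _ (S.inv_mem x.2)
    show ⁅z, (x : Ω) * y⁆ = ⁅z, (x : Ω)⁆ * ⁅z, (y : Ω)⁆
    rw [show ⁅z, (x : Ω) * y⁆ = ⁅z, (x : Ω)⁆ * ((x : Ω) * ⁅z, (y : Ω)⁆ * (x : Ω)⁻¹) by
      simp [commutatorElement_def, mul_assoc]]
    congr 1
    rw [mul_assoc, h1, mul_inv_cancel_left]
  have hχ : S ≤ χ.ker.map S.subtype := by
    conv_lhs => rw [← hperf]
    refine (Subgroup.closure_le _).2 ?_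
    rintro _ ⟨P, ⟨α, hα⟩, x, hP, -, rfl⟩
    refine ⟨(⟨x, hP x.2⟩ : S)⁻¹ * ⟨(α x : P), hP (α x).2⟩, ?_, rfl⟩
    rw [SetLike.mem_coe, MonoidHom.mem_ker, map_mul, map_inv, inv_mul_eq_one]
    obtain ⟨g, hg, hgα, hgz⟩ := key P α hα hP
    have hxz := Subgroup.mem_sup_left (T := Subgroup.zpowers z) x.2
    have hzz := Subgroup.mem_sup_right (S := P) (Subgroup.mem_zpowers z)
    have hv : ⁅z, (x : Ω)⁆ ∈ Z := hcomm _ (hP x.2)
    show ⁅z, (x : Ω)⁆ = ⁅z, ((α x : P) : Ω)⁆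
    rw [← av_coe]
    have hfix := hfixZ _ _ hg _ (Subgroup.mul_mem _ (Subgroup.mul_mem _ (Subgroup.mul_mem _ hzz hxz)
      (Subgroup.inv_mem _ hzz)) (Subgroup.inv_mem _ hxz)) hv
    rw [hg.map_mul (Subgroup.mul_mem _ (Subgroup.mul_mem _ hzz hxz) (Subgroup.inv_mem _ hzz))
        (Subgroup.inv_mem _ hxz), hg.map_mul (Subgroup.mul_mem _ hzz hxz) (Subgroup.inv_mem _ hzz),
      hg.map_mul hzz hxz, hg.map_inv hzz, hg.map_inv hxz] at hfix
    set a := (av α (x : Ω))⁻¹ * g x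
    set b := z⁻¹ * g z
    have ha : a ∈ Z := hgα x x.2
    have hαx : av α (x : Ω) ∈ S := hP (av_mem α x.2)
    have hb := fun s (hs : s ∈ S) => hZS' b hgz s hs
    have ha' := fun s (hs : s ∈ S) => hZS' a ha s hs
    have egz : g z = z * b := by simp [b]
    have egx : g x = av α (x : Ω) * a := by simp [a]
    rw [egz, egx] at hfix
    rw [commutatorElement_def, ← hfix, commutatorElement_def]
    calc z * b * (av α (x : Ω) * a) * (z * b)⁻¹ * (av α (x : Ω) * a)⁻¹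
        = z * (b * av α (x : Ω)) * a * b⁻¹ * z⁻¹ * a⁻¹ * (av α (x : Ω))⁻¹ := by group
      _ = z * av α (x : Ω) * (b * a) * b⁻¹ * z⁻¹ * a⁻¹ * (av α (x : Ω))⁻¹ := by rw [hb _ hαx]; group
      _ = z * av α (x : Ω) * (a * z⁻¹) * a⁻¹ * (av α (x : Ω))⁻¹ := by rw [hb a (hZS ha)]; group
      _ = _ := by rw [ha' _ (S.inv_mem hz)]; group
  have hzc : ∀ s ∈ S, s * z = z * s := by
    intro s hs
    obtain ⟨t, ht, rfl⟩ := hχ hs
    have h1 : ⁅z, (t : Ω)⁆ = 1 := ht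
    exact (commutatorElement_eq_one_iff_mul_comm.1 h1).symm
  -- every map fixes the powers of `z`
  have hK := alperin hS hF (K := fun P f => ∀ k : ℤ, ∀ x ∈ P, (x = z ^ k ↔ f x = z ^ k)) ?_ ?_
  · refine le_sSup (s := {Q | F.IsCentral Q}) ((Cfsg.Agent.S5084.result p hS F hF _).2
      ⟨Subgroup.zpowers_le.2 hz, fun x hx y hy => ?_⟩) (Subgroup.mem_zpowers z)
    obtain ⟨k, rfl⟩ := Subgroup.mem_zpowers_iff.1 hx
    obtain ⟨f, hf, rfl⟩ := isConjElt_iff.1 hy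
    exact (hK _ f hf k _ (Subgroup.mem_zpowers _)).1 rfl
  · refine ⟨fun h he k x hx => by rw [← he x hx]; exact h k x hx, fun _ h hR k x hx => h k x (hR hx), ?_, ?_⟩
    · intro P Q f g _ _ hf hg hm k x hx
      exact (hf k x hx).trans (hg k _ (hm x hx))
    · intro P f g hM hf hg k y hy
      obtain ⟨x, hx, rfl⟩ := hM.mem_im.1 hy
      rw [hg x hx]
      exact (hf k x hx).symm
  · intro R hR α hα k
    have hRfn := gen_fn hR
    have hRc := (gen_centric_radical hS hF hR).1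
    have hzR : z ∈ R := hRc.2 R (isConj_refl hRc.1) (mem_centralizerIn.2 ⟨hz, fun y hy => hzc y (hRc.1 hy)⟩)
    suffices av α z = z from fun x hx => by
      have hk : av α (z ^ k) = z ^ k := by
        rw [av_apply α (R.zpow_mem hzR k),
          show (⟨z ^ k, R.zpow_mem hzR k⟩ : R) = ⟨z, hzR⟩ ^ k from rfl, map_zpow]
        show ((α ⟨z, hzR⟩ : R) : Ω) ^ k = z ^ k
        rw [← av_apply α hzR, this]
      exact ⟨fun h => by rw [h, hk],
        fun h => (map_of_mem_autGroup hRc.1 hα).injOn hx (R.zpow_mem hzR k) (h.trans hk.symm)⟩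
    haveI := mulAut_finite_of_le hRc.1
    have hshift : ∀ β ∈ F.autGroup R, z⁻¹ * av β z ∈ Z := by
      intro β hβ
      obtain ⟨g, hg, hgβ, hgz⟩ := key R β hβ hRc.1
      have h1 := Z.mul_mem hgz (Z.inv_mem (hgβ z hzR))
      simpa [mul_assoc] using h1
    let St : Subgroup (MulAut R) :=
      { carrier := {β | av β z = z}
        one_mem' := av_one hzR
        mul_mem' := fun {a b} ha hb => by
          show av (a * b) z = z
          rw [av_mul _ _ hzR, show av b z = z from hb]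
          exact ha
        inv_mem' := fun {a} ha => by
          show av a⁻¹ z = z
          conv_lhs => rw [← show av a z = z from ha]
          exact av_inv_av a hzR }
    obtain ⟨β, hβ, γ, hγ, rfl⟩ := exists_autS_mul_residual hS hF hRfn hα
    refine St.mul_mem ?_ ?_
    · obtain ⟨s, hs, hsβ⟩ := Cfsg.Agent.Local.FS.mem_autInducedBy.1 hβ
      show av β z = z
      rw [hsβ z hzR, hzc s hs]; group
    · have h1 : Cfsg.pResidual p ↥(F.autGroup R) ≤ St.subgroupOf (F.autGroup R) := by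
        refine (Subgroup.closure_le _).2 fun δ hδ => ?_
        show av (δ : MulAut R) z = z
        set c := z⁻¹ * av (δ : MulAut R) z
        have hc : c ∈ Z := hshift _ δ.2
        have hcR : c ∈ R := R.mul_mem (R.inv_mem hzR) (av_mem _ hzR)
        have hδc : av (δ : MulAut R) c = c := hfixZ R _ (map_of_mem_autGroup hRc.1 δ.2) c hcR hc
        have hM := map_of_mem_autGroup hRc.1 δ.2
        have hpow : ∀ n : ℕ, av ((δ : MulAut R) ^ n) z = z * c ^ n := by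
          intro n
          induction n with
          | zero => rw [pow_zero, av_one hzR, pow_zero, mul_one]
          | succ n ih =>
            rw [pow_succ', av_mul _ _ hzR, ih, hM.map_mul hzR (R.pow_mem hcR n)]
            have : av (δ : MulAut R) (c ^ n) = c ^ n := hfixZ R _ hM _ (R.pow_mem hcR n) (Z.pow_mem hc n)
            rw [this, show av (δ : MulAut R) z = z * c by simp [c], mul_assoc, ← pow_succ']
        have hc1 : c ^ orderOf δ = 1 := by
          have h2 := hpow (orderOf δ)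
          rw [← SubmonoidClass.coe_pow, pow_orderOf_eq_one, OneMemClass.coe_one, av_one hzR] at h2
          simpa using h2.symm
        obtain ⟨k, hk⟩ := hS ⟨c, hZS hc⟩
        have hk' : c ^ p ^ k = 1 := congrArg Subtype.val hk
        have hc2 : c = 1 := by
          have h3 := pow_gcd_eq_one.2 ⟨hc1, hk'⟩
          rwa [Nat.Coprime.pow_right k hδ, pow_one] at h3
        exact (inv_mul_eq_one.1 hc2).symm
      exact h1 hγ

end Cfsg.Agent.S5315
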