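import Cfsg.Statements.S5316
import Cfsg.Agent.S5186
import Cfsg.Agent.S5187
import Cfsg.Agent.Lib.Local.FS.TowerTop

set_option autoImplicit false
open Cfsg

namespace Cfsg.Agent.S5316

/-- Let p ≥ 5 be a prime, S a finite p-group of maximal class of order p^n with n ≥ 5 (nilpotency class n − 1), F a saturated fusion system over S, and E an F-essential subgroup that is not a pearl (not elementary abelian of order p² and not extraspecial of order p³ and exponent p). Then E has order at least p⁴. -/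
theorem result {Ω : Type*} [Group Ω] {S : Subgroup Ω} [Finite S] (p : ℕ) [Fact p.Prime] (hp : 5 ≤ p) (hS : IsPGroup p ↥S) (n : ℕ) (hn : Nat.card S = p ^ n) (h5 : 5 ≤ n)
    (hmax : Subgroup.lowerCentralSeries S (n - 2) ≠ ⊥) (F : Cfsg.FusionSystem S) (hF : F.IsSaturated p)
    (E : Subgroup Ω) (hE : F.IsEssential p E)
    (hnp : ¬ ((Nat.card ↥E = p ^ 2 ∧ Cfsg.IsElementaryAbelian p E) ∨ (Nat.card ↥E = p ^ 3 ∧ Cfsg.IsExtraspecial p ↥E ∧ Monoid.exponent ↥E = p))) :
    p ^ 4 ≤ Nat.card ↥E := by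
  have hp' : p.Prime := Fact.out
  by_contra hlt
  push Not at hlt
  have hES : E ≤ S := hE.1.1
  haveI : Finite ↥E := Cfsg.Agent.Local.FS.finite_of_le hES
  obtain ⟨k, hk⟩ := IsPGroup.iff_card.1 (hS.to_le hES)
  rw [hk] at hlt
  have hk4 : k < 4 := (Nat.pow_lt_pow_iff_right hp'.one_lt).1 hlt
  rcases Nat.lt_or_ge k 3 with hk3 | hk3
  · have hab : IsMulCommutative ↥E := by
      refine ⟨⟨fun a b => ?_⟩⟩
      have h2 : k ≤ 2 := by omega
      interval_cases k
      · haveI : Subsingleton ↥E := (Nat.card_eq_one_iff_unique.1 (by rw [hk, pow_zero])).1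
        exact Subsingleton.elim _ _
      · haveI := isCyclic_of_prime_card (α := ↥E) (p := p) (by rw [hk, pow_one])
        exact IsCyclic.commutative.is_comm.comm a b
      · exact (IsPGroup.isMulCommutative_of_card_eq_prime_sq hk).is_comm.comm a b
    have hrk : (frattini ↥E).index ≤ p ^ 2 :=
      (Nat.le_of_dvd Nat.card_pos (Subgroup.index_dvd_card _)).trans
        (hk ▸ Nat.pow_le_pow_right hp'.pos (by omega))
    rcases Cfsg.Agent.S5187.result p hS F hF E hE hab hrk with ⟨h1, h2⟩ | ⟨h1, -⟩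
    · exact hnp (Or.inl ⟨h2, h1⟩)
    · omega
  · obtain rfl : k = 3 := by omega
    rcases Cfsg.Agent.S5186.result p hS F hF E hE hk with h | ⟨-, h1, h2⟩ | ⟨h1, -⟩
    · exact Cfsg.Agent.Local.FS.Tower.no_cube_essential hS hF hp hn h5 hmax hE h hk
    · refine hnp (Or.inr ⟨hk, h1, ?_⟩)
      have hd : Monoid.exponent ↥E ∣ p :=
        Monoid.exponent_dvd_of_forall_pow_eq_one fun x => Subtype.ext (h2 x x.2)
      refine ((Nat.dvd_prime hp').1 hd).resolve_left fun h => ?_
      haveI := Monoid.exp_eq_one_iff.1 h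
      rw [Nat.card_of_subsingleton (1 : ↥E)] at hk
      exact absurd hk.symm (Nat.one_lt_pow (by norm_num) hp'.one_lt).ne'
    · omega

end Cfsg.Agent.S5316
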