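import Cfsg.Statements.S5318
import Cfsg.Agent.Lib.Local.FS.SimplePSL3

set_option autoImplicit false
open Cfsg

namespace Cfsg.Agent.S5318

theorem result {F : Type*} [Field F] [Fintype F] (hodd : Fintype.card F % 2 = 1) (S : Sylow 2 (Matrix.ProjectiveSpecialLinearGroup (Fin 3) F)) :
    (Cfsg.groupFusionSystem (S : Subgroup (Matrix.ProjectiveSpecialLinearGroup (Fin 3) F))).IsSimple 2 := by
  exact Cfsg.Agent.Local.FS.PSL3Simple.psl3_simple hodd S

end Cfsg.Agent.S5318
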