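import Cfsg.Statements.S5319
import Cfsg.Agent.Lib.Local.FS.SimplePSU3

set_option autoImplicit false
open Cfsg

namespace Cfsg.Agent.S5319

theorem result {F : Type*} [Field F] [Fintype F] (q : ℕ) (hq : Fintype.card F = q ^ 2) (hodd : q % 2 = 1) (S : Sylow 2 (Cfsg.PSU 3 F q)) :
    (Cfsg.groupFusionSystem (S : Subgroup (Cfsg.PSU 3 F q))).IsSimple 2 := by
  exact Cfsg.Agent.Local.FS.PSU3Simple.psu3_simple hq hodd S

end Cfsg.Agent.S5319
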