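import Cfsg.Statements.S5327
import Cfsg.Agent.Lib.Local.FS.Omit

set_option autoImplicit false
open Cfsg

namespace Cfsg.Agent.S5327

theorem result {Ω : Type*} [Group Ω] {S : Subgroup Ω} [Finite S] (p : ℕ) [Fact p.Prime] (hS : IsPGroup p S) (F : Cfsg.FusionSystem S) (hF : F.IsSaturated p) (𝒬₁ 𝒬₂ : Set (Subgroup Ω)) (h₁ : ∀ R ∈ 𝒬₁, ∀ R' : Subgroup Ω, F.IsConj R R' → R' ∈ 𝒬₁) (h₂ : ∀ R ∈ 𝒬₂, ∀ R' : Subgroup Ω, F.IsConj R R' → R' ∈ 𝒬₂) (hg₁ : ∀ E : Cfsg.FusionSystem S, (∀ R ∈ 𝒬₁, F.autGroup R ≤ E.autGroup R) → F ≤ E) (hg₂ : ∀ E : Cfsg.FusionSystem S, (∀ R ∈ 𝒬₂, F.autGroup R ≤ E.autGroup R) → F ≤ E) (E : Cfsg.FusionSystem S) (hE : ∀ R ∈ 𝒬₁ ∩ 𝒬₂, F.autGroup R ≤ E.autGroup R) : F ≤ E := by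
  open Cfsg.Agent.Local.FS in
  have hnot : ∀ R : Subgroup Ω, ¬ R ≤ S → F.autGroup R = ⊥ := by
    intro R hR
    rw [eq_bot_iff]
    refine (Subgroup.closure_le _).2 fun α hα => ?_
    exact absurd (F.le_of_mem hα).1 hR
  have hmemE : ∀ {R : Subgroup Ω}, R ≤ S → ∀ (E' : Cfsg.FusionSystem S), (F.autGroup R ≤ E'.autGroup R) →
      ∀ α ∈ F.autGroup R, Map E' R (av α) := fun hR E' h α hα => map_of_mem_autGroup hR (h hα)
  intro P φ hφ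
  refine mem_iff_map.2 (alperin hS hF (isClosedClass_map E) ?_ P _ (map_of_mem hφ))
  intro R hR α hα
  rcases hR with rfl | hRe
  · by_cases hin : ∀ β ∈ F.autGroup R, ∃ s ∈ R, ∀ x ∈ R, av β x = s * x * s⁻¹
    · obtain ⟨s, hs, hv⟩ := hin α hα
      exact (map_conjBy le_rfl hs).congr fun x hx => (hv x hx).symm
    obtain ⟨E', hE', hS'⟩ := exists_omit_self F
    have key : ∀ 𝒬 : Set (Subgroup Ω),
        (∀ E'' : Cfsg.FusionSystem R, (∀ X ∈ 𝒬, F.autGroup X ≤ E''.autGroup X) → F ≤ E'') → R ∈ 𝒬 := by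
      intro 𝒬 hg
      by_contra hmem
      have hle : F ≤ E' := hg E' fun X hX => by
        by_cases hXR : X ≤ R
        · exact hE' X (lt_of_le_of_ne hXR fun he => hmem (he ▸ hX))
        · rw [hnot X hXR]; exact bot_le
      refine hin fun β hβ => ?_
      obtain ⟨ψ, hψ, he⟩ := map_of_mem_autGroup le_rfl hβ
      exact hS' _ ⟨ψ, hle R hψ, he⟩
    exact map_of_mem_autGroup le_rfl (hE R ⟨key 𝒬₁ hg₁, key 𝒬₂ hg₂⟩ hα)
  · obtain ⟨E', hE', hne⟩ := exists_omit_essential hS hF hRe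
    have key : ∀ 𝒬 : Set (Subgroup Ω), (∀ X ∈ 𝒬, ∀ X' : Subgroup Ω, F.IsConj X X' → X' ∈ 𝒬) →
        (∀ E'' : Cfsg.FusionSystem S, (∀ X ∈ 𝒬, F.autGroup X ≤ E''.autGroup X) → F ≤ E'') → R ∈ 𝒬 := by
      intro 𝒬 hc hg
      by_contra hmem
      refine hne (hg E' fun X hX => ?_)
      by_cases hXS : X ≤ S
      · exact hE' X hXS fun h => hmem (hc X hX R (isConj_symm h))
      · rw [hnot X hXS]; exact bot_le
    exact map_of_mem_autGroup hRe.2.1.1 (hE R ⟨key 𝒬₁ h₁ hg₁, key 𝒬₂ h₂ hg₂⟩ hα)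

end Cfsg.Agent.S5327
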