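import Cfsg.Statements.S5328
import Cfsg.Agent.Lib.Local.FS.FiniteRealization

set_option autoImplicit false
universe u
open Cfsg

namespace Cfsg.Agent.S5328

theorem result {Ω : Type u} [Group Ω] {S : Subgroup Ω} [Finite S] (p : ℕ) [Fact p.Prime] (hS : IsPGroup p S) (F : Cfsg.FusionSystem S) : ∃ (G : Type u) (_ : Group G) (_ : Finite G) (ι : ↥S →* G), F.IsRealizedBy ι := by
  exact Cfsg.Agent.Local.FS.exists_finite_realization F

end Cfsg.Agent.S5328
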