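import Cfsg.Statements.S5329
import Cfsg.Agent.Lib.Local.FS.Transfer

set_option autoImplicit false
open Cfsg

namespace Cfsg.Agent.S5329

theorem result {Ω : Type*} [Group Ω] {S : Subgroup Ω} [Finite S] (p : ℕ) [Fact p.Prime] (hS : IsPGroup p S) (F : Cfsg.FusionSystem S) (hF : F.IsSaturated p) : F.focalSubgroup ⊓ F.center = ⁅(S : Subgroup Ω), (S : Subgroup Ω)⁆ ⊓ F.center := by
  open Cfsg.Agent.Local.FS Cfsg.FusionSystem in
  obtain ⟨b⟩ := exists_charBiset hS hF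
  obtain ⟨s⟩ : Nonempty b.Sect := inferInstance
  have hder : (⁅S, S⁆ : Subgroup Ω) = (commutator ↥S).map S.subtype := by
    rw [commutator_def, Subgroup.map_commutator, ← MonoidHom.range_eq_map, Subgroup.range_subtype]
  refine le_antisymm ?_ ?_
  · rintro z ⟨hzf, hzc⟩
    refine ⟨?_, hzc⟩
    have hzS : z ∈ S := (center_spec F hzc).1
    have h1 := CharBiset.transfer_center s (Abelianization.of (G := ↥S)) (z := ⟨z, hzS⟩) hzc
    rw [CharBiset.transfer_focal s _ (x := ⟨z, hzS⟩) hzf] at h1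
    have h2 : Abelianization.of (⟨z, hzS⟩ : ↥S) = 1 := by
      obtain ⟨k, hk⟩ := hS ⟨z, hzS⟩
      refine (orderOf_eq_one_iff).1 (Nat.eq_one_of_dvd_coprimes (a := p ^ k) (b := b.orbits) ?_
        (orderOf_dvd_of_pow_eq_one (by rw [← map_pow, hk, map_one])) (orderOf_dvd_of_pow_eq_one h1.symm))
      exact Nat.Coprime.pow_left _ ((Nat.Prime.coprime_iff_not_dvd Fact.out).2 b.not_dvd)
    rw [hder]
    exact ⟨⟨z, hzS⟩, Abelianization.ker_of (G := ↥S) ▸ h2, rfl⟩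
  · refine inf_le_inf_right _ (Subgroup.commutator_le.2 fun a ha c hc => ?_)
    refine Subgroup.subset_closure ⟨Subgroup.zpowers a⁻¹, Cfsg.conjHom _ c, ⟨a⁻¹, Subgroup.mem_zpowers _⟩,
      F.conj_mem (Subgroup.zpowers_le.2 (S.inv_mem ha)) hc, ?_⟩
    show a * c * a⁻¹ * c⁻¹ = a⁻¹⁻¹ * (c * a⁻¹ * c⁻¹)
    group

end Cfsg.Agent.S5329
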