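import Cfsg.Statements.S5330
import Cfsg.Agent.Lib.Local.FS.Focal

set_option autoImplicit false
open Cfsg

namespace Cfsg.Agent.S5330

theorem result {Ω : Type*} [Group Ω] {S : Subgroup Ω} [Finite S] (p : ℕ) [Fact p.Prime] (hS : IsPGroup p S) (F : Cfsg.FusionSystem S) (hF : F.IsSaturated p) (hab : ∀ x ∈ S, ∀ y ∈ S, x * y = y * x) : F.center ⊓ F.focalSubgroup = ⊥ ∧ F.center ⊔ F.focalSubgroup = S := by
  open Cfsg.Agent.Local.FS in
  have hC : ∀ Q : Subgroup Ω, Q ≤ S → Cfsg.FusionSystem.centralizerIn S Q = S := fun Q hQ =>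
    le_antisymm inf_le_left fun x hx => mem_centralizerIn.2 ⟨hx, fun y hy => hab y (hQ hy) x hx⟩
  haveI := mulAut_finite_of_le (le_refl S)
  have hext : ∀ (P : Subgroup Ω) (f : Ω → Ω), Map F P f →
      ∃ α ∈ F.autGroup S, ∀ x ∈ P, av α x = f x := by
    intro P f hf
    have hfc : F.IsFullyCentralized (im P f) := ⟨hf.im_le, fun Q hQ => by
      rw [hC _ hf.im_le, hC Q (isConj_le hQ).2]⟩
    obtain ⟨g, hg, hgf⟩ := (receptive_iff.1 (receptive_of_fc hS hF hfc)).2 P f hf rfl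
    have hle : S ≤ Nf S P f := (hC P hf.le).ge.trans centralizerIn_le_Nf
    have hgS := hg.restrict hle
    obtain ⟨α, hα, hαg⟩ := exists_aut hgS (Subgroup.eq_of_le_of_card_ge hgS.im_le hgS.card_im.ge)
    exact ⟨α, hα, fun x hx => by rw [hαg x (hf.le hx), hgf x hx]⟩
  letI : CommGroup ↥S := { (inferInstance : Group ↥S) with
    mul_comm := fun a b => Subtype.ext (hab a a.2 b b.2) }
  haveI := Fintype.ofFinite ↥(F.autGroup S)
  have hco : Nat.Coprime (Nat.card ↥(F.autGroup S)) (Nat.card ↥S) := by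
    obtain ⟨k, hk⟩ := IsPGroup.iff_card.1 hS
    rw [hk]
    refine Nat.Coprime.pow_right k ?_
    have h1 := (fa_iff.1 (fc_fa_of_fn hS hF (fn_self (F := F))).2).2.not_dvd
    have h2 : Cfsg.autInducedBy S S = ⊥ := by
      rw [eq_bot_iff]
      intro α hα
      obtain ⟨g, hg, hgα⟩ := Cfsg.Agent.Local.FS.mem_autInducedBy.1 hα
      refine Subgroup.mem_bot.2 (aut_ext fun x hx => ?_)
      rw [hgα x hx, av_one hx, hab g hg x hx]; group
    rw [h2, Subgroup.relIndex_bot_left] at h1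
    exact ((Nat.Prime.coprime_iff_not_dvd Fact.out).2 h1).symm
  set m := Nat.card ↥(F.autGroup S) with hm
  let N : ↥S →* ↥S := ∏ α : ↥(F.autGroup S), (α : MulAut ↥S).toMonoidHom
  have hN : ∀ x, N x = ∏ α : ↥(F.autGroup S), (α : MulAut ↥S) x := fun x => by
    simp [N, MonoidHom.finsetProd_apply]
  have hNinv : ∀ (β : ↥(F.autGroup S)) (x : ↥S), N ((β : MulAut ↥S) x) = N x := fun β x => by
    rw [hN, hN]
    exact Fintype.prod_equiv (Equiv.mulRight β) (fun α => (α : MulAut ↥S) ((β : MulAut ↥S) x))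
      (fun α => (α : MulAut ↥S) x) fun α => rfl
  have hNinv' : ∀ (β : ↥(F.autGroup S)) (x : ↥S), (β : MulAut ↥S) (N x) = N x := fun β x => by
    rw [hN, map_prod]
    exact Fintype.prod_equiv (Equiv.mulLeft β) (fun α => (β : MulAut ↥S) ((α : MulAut ↥S) x))
      (fun α => (α : MulAut ↥S) x) fun α => rfl
  -- fixed points are central
  have hcen : ∀ x : ↥S, (∀ β : ↥(F.autGroup S), (β : MulAut ↥S) x = x) → (x : Ω) ∈ F.center := by
    intro x hx
    refine le_sSup (s := {Q | F.IsCentral Q}) (show F.IsCentral (Subgroup.zpowers (x : Ω)) from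
      ⟨Subgroup.zpowers_le.2 x.2, fun P φ hφ => ?_⟩) (Subgroup.mem_zpowers _)
    obtain ⟨α, hα, hαφ⟩ := hext P _ (map_of_mem hφ)
    obtain ⟨ψ, hψ, he⟩ := (map_of_mem_autGroup le_rfl hα).restrict
      (sup_le (map_of_mem hφ).le (Subgroup.zpowers_le.2 x.2) : P ⊔ Subgroup.zpowers (x : Ω) ≤ S)
    refine ⟨ψ, hψ, fun y => ?_, fun y => ?_⟩
    · rw [he, ← fn_coe φ y]; exact hαφ y y.2
    · rw [he]
      obtain ⟨k, hk⟩ := Subgroup.mem_zpowers_iff.1 y.2
      show av α (y : Ω) = y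
      rw [← hk, av_apply α (S.zpow_mem x.2 k), show (⟨(x : Ω) ^ k, S.zpow_mem x.2 k⟩ : S) = x ^ k from rfl,
        map_zpow, hx ⟨α, hα⟩]
      rfl
  have hcS : F.center ≤ S := sSup_le fun Q hQ => hQ.1
  have hfix : ∀ x : ↥S, (x : Ω) ∈ F.center → ∀ β : ↥(F.autGroup S), (β : MulAut ↥S) x = x := by
    intro x hx β
    have h1 : F.center ≤ ((β : MulAut ↥S).toMonoidHom.eqLocus (MonoidHom.id ↥S)).map S.subtype := by
      refine sSup_le fun Q hQ y hy => ⟨⟨y, hQ.1 hy⟩, ?_, rfl⟩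
      obtain ⟨φ, hφ, he⟩ := map_of_mem_autGroup le_rfl β.2
      obtain ⟨ψ, hψ, h1, h2⟩ := hQ.2 S φ hφ
      have e1 := h1 ⟨y, hQ.1 hy⟩
      have e2 := h2 ⟨y, hy⟩
      rw [he, av_apply _ (hQ.1 hy)] at e1
      exact Subtype.ext (e1.symm.trans e2)
    obtain ⟨y, hy, hyx⟩ := h1 hx
    have : y = x := Subtype.ext hyx
    exact this ▸ hy
  have hfocS : F.focalSubgroup ≤ S := by
    refine (Subgroup.closure_le _).2 ?_
    rintro _ ⟨P, φ, x, hφ, rfl⟩
    exact S.mul_mem (S.inv_mem ((F.le_of_mem hφ).1 x.2)) ((F.le_of_mem hφ).2 x)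
  have hNfoc : ∀ x : ↥S, (x : Ω) ∈ F.focalSubgroup → N x = 1 := by
    intro x hx
    have h1 : F.focalSubgroup ≤ N.ker.map S.subtype := by
      refine (Subgroup.closure_le _).2 ?_
      rintro _ ⟨P, φ, y, hφ, rfl⟩
      obtain ⟨α, hα, hαφ⟩ := hext P _ (map_of_mem hφ)
      have hy := (F.le_of_mem hφ).1 y.2
      refine ⟨(⟨y, hy⟩ : S)⁻¹ * α ⟨y, hy⟩, ?_, ?_⟩
      · rw [SetLike.mem_coe, MonoidHom.mem_ker, map_mul, map_inv, hNinv ⟨α, hα⟩, inv_mul_cancel]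
      · rw [← fn_coe φ y, ← hαφ y y.2, av_apply α hy]; rfl
    obtain ⟨y, hy, hyx⟩ := h1 hx
    have : y = x := Subtype.ext hyx
    exact this ▸ hy
  constructor
  · rw [eq_bot_iff]
    rintro x ⟨hxc, hxf⟩
    rw [Subgroup.mem_bot]
    have hxS := hcS hxc
    have h1 : N ⟨x, hxS⟩ = (⟨x, hxS⟩ : S) ^ m := by
      rw [hN, Finset.prod_congr rfl fun α _ => hfix ⟨x, hxS⟩ hxc α, Finset.prod_const,
        Finset.card_univ, hm, Nat.card_eq_fintype_card]
    rw [hNfoc ⟨x, hxS⟩ hxf] at h1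
    have h2 : (⟨x, hxS⟩ : S) = 1 := by
      have h3 := pow_gcd_eq_one.2 ⟨(h1.symm : (⟨x, hxS⟩ : S) ^ m = 1), pow_card_eq_one' (G := S) (x := (⟨x, hxS⟩ : S))⟩
      rwa [hco, pow_one] at h3
    exact congrArg Subtype.val h2
  · refine le_antisymm (sup_le hcS hfocS) fun x hx => ?_
    let W := (F.center ⊔ F.focalSubgroup).subgroupOf S
    have h1 : (⟨x, hx⟩ : S) ^ m ∈ W := by
      have h2 : N ⟨x, hx⟩ ∈ W := Subgroup.mem_sup_left (hcen _ fun β => hNinv' β _)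
      have h3 : (∏ α : ↥(F.autGroup S), (⟨x, hx⟩ : S)⁻¹ * (α : MulAut ↥S) ⟨x, hx⟩) ∈ W := by
        refine Subgroup.prod_mem _ fun α _ => ?_
        obtain ⟨φ, hφ, he⟩ := map_of_mem_autGroup le_rfl α.2
        refine Subgroup.mem_sup_right (Subgroup.subset_closure ⟨S, φ, ⟨x, hx⟩, hφ, ?_⟩)
        rw [he, av_coe]; rfl
      rw [Finset.prod_mul_distrib, ← hN, Finset.prod_const, Finset.card_univ,
        ← Nat.card_eq_fintype_card, ← hm, inv_pow] at h3
      simpa using W.mul_mem h2 (W.inv_mem h3)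
    obtain ⟨j, hj⟩ := exists_pow_eq_self_of_coprime (x := (⟨x, hx⟩ : S))
      (hco.coprime_dvd_right (orderOf_dvd_natCard _))
    have h4 := W.pow_mem h1 j
    rw [hj] at h4
    exact h4

end Cfsg.Agent.S5330
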