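import Cfsg.Statements.S5331
import Cfsg.Agent.Lib.Local.FS.Abelian

set_option autoImplicit false
universe u
open Cfsg

namespace Cfsg.Agent.S5331

theorem zmod_two_torsion (a : ℕ) (t : ZMod (2 ^ a)) (h : 2 • t = 0) : t = 0 ∨ t = ((2 ^ (a - 1) : ℕ) : ZMod (2 ^ a)) := by
  haveI : NeZero (2 ^ a) := ⟨by positivity⟩
  rcases a with _ | a
  · exact Or.inl (Subsingleton.elim (α := ZMod 1) t 0)
  rw [← ZMod.natCast_zmod_val t, nsmul_eq_mul, ← Nat.cast_mul, ZMod.natCast_eq_zero_iff] at h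
  obtain ⟨c, hc⟩ := h
  have hlt := ZMod.val_lt t
  have hpow : 2 ^ (a + 1) = 2 ^ a * 2 := pow_succ 2 a
  have h1 : t.val = 2 ^ a * c := by
    have : 2 * t.val = 2 * (2 ^ a * c) := by rw [hc, pow_succ]; ring
    omega
  have hc2 : c < 2 := by
    by_contra hc2
    have : 2 ^ a * 2 ≤ 2 ^ a * c := Nat.mul_le_mul_left _ (not_lt.1 hc2)
    omega
  interval_cases c
  · exact Or.inl ((ZMod.val_eq_zero t).1 (by simpa using h1))
  · refine Or.inr ?_
    rw [← ZMod.natCast_zmod_val t, h1]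
    simp

theorem odd_aut_trivial {n : ℕ} (a : Fin n → ℕ) (ha : StrictMono a) (ha1 : ∀ i, 1 ≤ a i)
    (f : ((i : Fin n) → ZMod (2 ^ a i)) →+ ((i : Fin n) → ZMod (2 ^ a i))) (m : ℕ) (hm : Odd m)
    (hf : ∀ x, f^[m] x = x) : ∀ x, f x = x := by
  set A := (i : Fin n) → ZMod (2 ^ a i)
  have hstep : ∀ x d : A, f x = x + d → f d = d → 2 • d = 0 → f x = x := by
    intro x d h1 h2 h3
    have h4 : ∀ k : ℕ, f^[k] x = x + k • d := by
      intro k
      induction k with
      | zero => simp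
      | succ k ih => rw [Function.iterate_succ_apply', ih, map_add, map_nsmul, h1, h2, succ_nsmul]; abel
    obtain ⟨j, rfl⟩ := hm
    have h5 := (h4 (2 * j + 1)).symm.trans (hf x)
    rw [add_eq_left, succ_nsmul, mul_nsmul, h3, nsmul_zero, zero_add] at h5
    rw [h1, h5, add_zero]
  let V : ℕ → A → Prop := fun k x => 2 • x = 0 ∧ ∃ y : A, x = 2 ^ k • y
  have hVf : ∀ k x, V k x → V k (f x) := fun k x ⟨h, y, hy⟩ =>
    ⟨by rw [← map_nsmul, h, map_zero], f y, by rw [hy, map_nsmul]⟩
  have hVit : ∀ k j x, V k x → V k (f^[j] x) := by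
    intro k j
    induction j with
    | zero => exact fun x h => h
    | succ j ih => intro x h; rw [Function.iterate_succ_apply']; exact hVf _ _ (ih x h)
  have hcoord : ∀ k (x : A), V k x → (∀ i, a i = k + 1 → x i = 0) → V (k + 1) x := by
    rintro k x ⟨h2, y, hy⟩ hi
    refine ⟨h2, ?_⟩
    have : ∀ i, ∃ z : ZMod (2 ^ a i), x i = 2 ^ (k + 1) • z := by
      intro i
      rcases lt_trichotomy (a i) (k + 1) with hlt | heq | hgt
      · refine ⟨0, ?_⟩
        rw [smul_zero, hy, Pi.smul_apply, nsmul_eq_mul,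
          (ZMod.natCast_eq_zero_iff _ _).2 (pow_dvd_pow 2 (by omega)), zero_mul]
      · exact ⟨0, by rw [smul_zero, hi i heq]⟩
      · rcases zmod_two_torsion (a i) (x i) (by rw [← Pi.smul_apply, h2]; rfl) with h | h
        · exact ⟨0, by rw [smul_zero, h]⟩
        · refine ⟨((2 ^ (a i - 1 - (k + 1)) : ℕ) : ZMod (2 ^ a i)), ?_⟩
          rw [h, nsmul_eq_mul, ← Nat.cast_mul, ← pow_add, show k + 1 + (a i - 1 - (k + 1)) = a i - 1 by omega]
    choose z hz using this
    exact ⟨z, funext hz⟩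
  have hsum : ∀ k (x : A), V k x → ¬ V (k + 1) x → ∀ y : A, V k y → ¬ V (k + 1) y → V (k + 1) (x + y) := by
    intro k x hx hx' y hy hy'
    refine hcoord k _ ⟨by rw [nsmul_add, hx.1, hy.1, add_zero], ?_⟩ fun i hi => ?_
    · obtain ⟨_, u, hu⟩ := hx
      obtain ⟨_, v, hv⟩ := hy
      exact ⟨u + v, by rw [hu, hv, nsmul_add]⟩
    have hnz : ∀ w : A, V k w → ¬ V (k + 1) w → w i = ((2 ^ (a i - 1) : ℕ) : ZMod (2 ^ a i)) := by
      intro w hw hw'
      refine (zmod_two_torsion (a i) (w i) (by rw [← Pi.smul_apply, hw.1]; rfl)).resolve_left fun h => ?_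
      exact hw' (hcoord k w hw fun j hj => by
        obtain rfl : j = i := ha.injective (hj.trans hi.symm)
        exact h)
    rw [Pi.add_apply, hnz x hx hx', hnz y hy hy', ← Nat.cast_add, ← two_mul, ← pow_succ',
      show a i - 1 + 1 = a i by omega, ZMod.natCast_self]
  have hfix : ∀ j k, (∑ i, a i) ≤ k + j → ∀ x, V k x → f x = x := by
    intro j
    induction j with
    | zero =>
      rintro k hk x ⟨-, y, rfl⟩
      have : 2 ^ k • y = 0 := funext fun i => by
        rw [Pi.smul_apply, nsmul_eq_mul, (ZMod.natCast_eq_zero_iff _ _).2 (pow_dvd_pow 2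
          ((Finset.single_le_sum (fun j _ => Nat.zero_le (a j)) (Finset.mem_univ i)).trans (by omega))),
          zero_mul]
        rfl
      rw [this, map_zero]
    | succ j ih =>
      intro k hk x hx
      have hV1 : ∀ u v : A, V (k + 1) u → V (k + 1) v → V (k + 1) (u + v) := fun u v hu hv => by
        obtain ⟨hu2, u', rfl⟩ := hu
        obtain ⟨hv2, v', rfl⟩ := hv
        exact ⟨by rw [nsmul_add, hu2, hv2, add_zero], u' + v', by rw [nsmul_add]⟩
      have hd : V (k + 1) (x + f x) := by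
        by_cases hx' : V (k + 1) x
        · exact hV1 _ _ hx' (hVf _ _ hx')
        · refine hsum k x hx hx' _ (hVf _ _ hx) fun h => hx' ?_
          obtain ⟨i, rfl⟩ := hm
          rw [← hf x, Function.iterate_add_apply, Function.iterate_one]
          exact hVit _ _ _ h
      refine hstep x (x + f x) ?_ (ih (k + 1) (by omega) _ hd) hd.1
      rw [← add_assoc, ← two_nsmul, hx.1, zero_add]
  have hall : ∀ j (x : A), 2 ^ j • x = 0 → f x = x := by
    intro j
    induction j with
    | zero => intro x hx; rw [pow_zero, one_nsmul] at hx; rw [hx, map_zero]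
    | succ j ih =>
      intro x hx
      have h2 : f (2 • x) = 2 • x := ih _ (by rw [← mul_nsmul', ← pow_succ]; exact hx)
      have hd : 2 • (f x - x) = 0 := by rw [nsmul_sub, ← map_nsmul, h2, sub_self]
      exact hstep x (f x - x) (by abel) (hfix _ 0 (by omega : (∑ i, a i) ≤ 0 + ∑ i, a i) _
        ⟨hd, f x - x, by rw [pow_zero, one_nsmul]⟩) hd
  intro x
  refine hall (∑ i, a i) x (funext fun i => ?_)
  rw [Pi.smul_apply, nsmul_eq_mul, (ZMod.natCast_eq_zero_iff _ _).2 (pow_dvd_pow 2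
    (Finset.single_le_sum (fun j _ => Nat.zero_le (a j)) (Finset.mem_univ i))), zero_mul]
  rfl

theorem result {Ω : Type*} [Group Ω] {S : Subgroup Ω} [Finite S] (n : ℕ) (a : Fin n → ℕ) (ha : StrictMono a) (ha1 : ∀ i, 1 ≤ a i) (e : ↥S ≃* Multiplicative ((i : Fin n) → ZMod (2 ^ a i))) (F : Cfsg.FusionSystem S) (hF : F.IsSaturated 2) (P : Subgroup Ω) : F.Hom P = (Cfsg.innerFusionSystem S).Hom P := by
  open Cfsg.Agent.Local.FS in
  haveI : Fact (Nat.Prime 2) := ⟨Nat.prime_two⟩
  have hS : IsPGroup 2 ↥S := by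
    intro x
    refine ⟨∑ i, a i, e.injective ?_⟩
    rw [map_pow, map_one, ← ofAdd_toAdd (e x), ← ofAdd_nsmul, ← ofAdd_zero]
    congr 1
    funext i
    rw [Pi.smul_apply, nsmul_eq_mul, (ZMod.natCast_eq_zero_iff _ _).2 (pow_dvd_pow 2
      (Finset.single_le_sum (fun j _ => Nat.zero_le (a j)) (Finset.mem_univ i))), zero_mul]
    rfl
  have hab : ∀ x ∈ S, ∀ y ∈ S, x * y = y * x := fun x hx y hy =>
    congrArg Subtype.val (e.injective (show e (⟨x, hx⟩ * ⟨y, hy⟩) = e (⟨y, hy⟩ * ⟨x, hx⟩) by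
      rw [map_mul, map_mul, mul_comm]))
  haveI := mulAut_finite_of_le (S := S) le_rfl
  have hodd : ∀ α : MulAut ↥S, Odd (orderOf α) → α = 1 := by
    intro α hα
    let f : ((i : Fin n) → ZMod (2 ^ a i)) →+ ((i : Fin n) → ZMod (2 ^ a i)) :=
      AddMonoidHom.mk' (fun x => Multiplicative.toAdd (e (α (e.symm (Multiplicative.ofAdd x)))))
        fun x y => by simp
    have hf1 : ∀ x, f x = Multiplicative.toAdd (e (α (e.symm (Multiplicative.ofAdd x)))) := fun x => rfl
    have hfi : ∀ (k : ℕ) x, f^[k] x = Multiplicative.toAdd (e ((α ^ k) (e.symm (Multiplicative.ofAdd x)))) := by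
      intro k
      induction k with
      | zero => intro x; simp
      | succ k ih =>
        intro x
        rw [Function.iterate_succ_apply', ih, hf1, pow_succ', MulAut.mul_apply]
        simp
    have hfix := odd_aut_trivial a ha ha1 f (orderOf α) hα
      (fun x => by rw [hfi, pow_orderOf_eq_one]; simp)
    refine MulEquiv.ext fun x => e.injective (Multiplicative.toAdd.injective ?_)
    have := hfix (Multiplicative.toAdd (e x))
    simpa [hf1] using this
  have htriv : ∀ α ∈ F.autGroup S, ∀ x ∈ S, av α x = x := by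
    intro α hα x hx
    obtain ⟨-, hsyl⟩ := fa_iff.1 (fc_fa_of_fn hS hF (fn_self (F := F))).2
    have hbot : autInducedBy S S = ⊥ := by
      rw [eq_bot_iff]
      intro β hβ
      obtain ⟨g, hg, h⟩ := mem_autInducedBy.1 hβ
      refine Subgroup.mem_bot.2 (aut_ext fun y hy => ?_)
      rw [h y hy, av_one hy, hab g hg y hy, mul_inv_cancel_right]
    have hoddcard : ¬ 2 ∣ Nat.card ↥(F.autGroup S) := by
      have h := hsyl.not_dvd
      rwa [hbot, Subgroup.relIndex_bot_left] at h
    have : α = 1 := hodd α (Nat.not_even_iff_odd.1 fun h => hoddcard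
      (dvd_trans (even_iff_two_dvd.1 h) (Subgroup.orderOf_dvd_natCard _ hα)))
    rw [this, av_one hx]
  ext φ
  refine ⟨fun hφ => ⟨(F.le_of_mem hφ).1, 1, S.one_mem, fun x => ?_⟩, fun hφ => ?_⟩
  · obtain ⟨α, hα, he⟩ := abelian_extend hS hF hab (map_of_mem hφ)
    have h := he x x.2
    rw [htriv α hα x ((F.le_of_mem hφ).1 x.2), fn_coe] at h
    simpa using h.symm
  · obtain ⟨hP, g, hg, hφ⟩ := hφ
    exact (map_conjBy hP hg).mem_hom hφ

end Cfsg.Agent.S5331
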