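import Cfsg.Statements.S5332
import Cfsg.Agent.Lib.Local.FS.Sparse

set_option autoImplicit false
open Cfsg

namespace Cfsg.Agent.S5332

theorem result {Ω : Type*} [Group Ω] {S : Subgroup Ω} [Finite S] (p : ℕ) [Fact p.Prime] (hS : IsPGroup p S) (F : Cfsg.FusionSystem S) (hF : F.IsSaturated p) (hp : p ≠ 2) (hne : ∃ P : Subgroup Ω, F.Hom P ≠ (Cfsg.innerFusionSystem S).Hom P) : ∃ E : Cfsg.FusionSystem S, E ≤ F ∧ E.IsConstrained p ∧ ∃ P : Subgroup Ω, E.Hom P ≠ (Cfsg.innerFusionSystem S).Hom P := by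
  open Cfsg.Agent.Local.FS Cfsg.Agent.Fusion in
  obtain ⟨P, hP⟩ := hne
  obtain ⟨E, hE, hsub, hEne, hmin⟩ := exists_minimal hF fun h => hP (isInner_iff_hom.1 h P)
  refine ⟨E, hsub, constrained_of_minimal (W := Cfsg.kInfLower) (isCharPFunctor_kInfLower p).1
    (isCharPFunctor_kInfLower p).2 (kInfLower_hG hp) hS hE hEne hmin, ?_⟩
  by_contra hcon
  push Not at hcon
  exact hEne (isInner_iff_hom.2 hcon)

end Cfsg.Agent.S5332
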