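import Cfsg.Statements.S5334
import Cfsg.Agent.Lib.Local.FS.Centric

set_option autoImplicit false
open Cfsg

namespace Cfsg.Agent.S5334

theorem result {Ω : Type*} [Group Ω] {S : Subgroup Ω} [Finite S] (p : ℕ) [Fact p.Prime] (hS : IsPGroup p S) (F : Cfsg.FusionSystem S) (hF : F.IsSaturated p) (F' : Cfsg.FusionSystem S) (hF' : F'.IsSaturated p) (hle : F' ≤ F) (Q R : Subgroup Ω) (hQ : F.IsCentric Q) (hR : F.IsCentric R) (φ : ↥Q →* Ω) (hφ : φ ∈ F.Hom Q) (hφR : ∀ x : Q, φ x ∈ R) (ψ : ↥R →* Ω) (hψ : ψ ∈ F.Hom R) : (φ ∈ F'.Hom Q → ψ ∈ F'.Hom R → ψ.comp (φ.codRestrict R hφR) ∈ F'.Hom Q) ∧ (ψ ∈ F'.Hom R → ψ.comp (φ.codRestrict R hφR) ∈ F'.Hom Q → φ ∈ F'.Hom Q) ∧ (φ ∈ F'.Hom Q → ψ.comp (φ.codRestrict R hφR) ∈ F'.Hom Q → ψ ∈ F'.Hom R) := by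
  open Cfsg.Agent.Local.FS in
  have hcod : ∀ x : Q, fn (ψ.comp (φ.codRestrict R hφR)) x = fn ψ (fn φ x) := fun x => by
    rw [fn_coe, fn_coe, fn_apply ψ (hφR x)]
    rfl
  refine ⟨fun h1 h2 => F'.comp_mem h1 h2 hφR, fun h1 h2 => ?_, fun h1 h2 => ?_⟩
  · obtain ⟨g, hg, hgψ, -, -⟩ := (map_of_mem h1).exists_inv
    have hm : ∀ x ∈ Q, fn (ψ.comp (φ.codRestrict R hφR)) x ∈ im R (fn ψ) := fun x hx => by
      rw [hcod ⟨x, hx⟩]
      refine mem_im_of_mem ?_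
      rw [fn_apply φ hx]; exact hφR _
    refine ((map_of_mem h2).comp hg hm).mem_hom fun x => ?_
    show φ x = g (fn _ (x : Ω))
    rw [hcod, fn_coe, hgψ _ (hφR x)]
  · have hQ' : F.IsCentric (im Q (fn φ)) := by
      refine ⟨(map_of_mem hφ).im_le, fun T hT => hQ.2 T (isConj_trans ?_ hT)⟩
      exact isConj_iff.2 ⟨_, map_of_mem hφ, rfl⟩
    obtain ⟨g, hg, hgφ, hφg, -⟩ := (map_of_mem h1).exists_inv
    have hle' : im Q (fn φ) ≤ R := im_le_iff.2 fun x hx => by rw [fn_apply φ hx]; exact hφR _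
    have hm : Map F' (im Q (fn φ)) (fn ψ) := by
      refine (hg.comp (map_of_mem h2) fun y hy => (hφg y hy).2).congr fun y hy => ?_
      show fn _ (g y) = _
      rw [hcod ⟨g y, (hφg y hy).2⟩]
      show fn ψ (fn φ (g y)) = _
      rw [(hφg y hy).1]
    exact mem_iff_map.2 (map_of_centric_restrict hS hF hF' hle hQ' hle' (map_of_mem hψ) hm)

end Cfsg.Agent.S5334
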