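import Cfsg.Statements.S5335
import Cfsg.Agent.Lib.Local.FS.Centric

set_option autoImplicit false
open Cfsg

namespace Cfsg.Agent.S5335

theorem result {Ω : Type*} [Group Ω] {S : Subgroup Ω} [Finite S] (p : ℕ) [Fact p.Prime] (hS : IsPGroup p S) (F : Cfsg.FusionSystem S) (hF : F.IsSaturated p) (F' : Cfsg.FusionSystem S) (hF' : F'.IsSaturated p) (hle : F' ≤ F) (hmin : ∀ Q : Subgroup Ω, F.IsCentric Q → (∀ R : Subgroup Ω, R < Q → ¬ F.IsCentric R) → F.Hom Q = F'.Hom Q) (P : Subgroup Ω) : F.Hom P = F'.Hom P := by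
  open Cfsg.Agent.Local.FS in
  refine Set.Subset.antisymm (fun φ hφ => mem_iff_map.2 ?_) (hle P)
  refine alperin hS hF (isClosedClass_map F') ?_ P _ (map_of_mem hφ)
  intro R hR α hα
  have hRc := (gen_centric_radical hS hF hR).1
  obtain ⟨Q, hQR, hQc, hQmin⟩ := exists_minimal_centric hRc
  have hm : Map F R (av α) := map_of_mem_autGroup hRc.1 hα
  refine map_of_centric_restrict hS hF hF' hle hQc hQR hm ?_
  obtain ⟨ψ, hψ, he⟩ := hm.restrict hQR
  exact ⟨ψ, hmin Q hQc hQmin ▸ hψ, he⟩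

end Cfsg.Agent.S5335
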