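import Cfsg.Statements.S5336
import Cfsg.Agent.S5118
import Cfsg.Agent.Lib.Fusion.Cores

set_option autoImplicit false
open Cfsg

namespace Cfsg.Agent.S5336

theorem result {G : Type*} [Group G] [Finite G] (p : ℕ) [Fact p.Prime] (S : Sylow p G) (hsimple : (Cfsg.groupFusionSystem (S : Subgroup G)).IsSimple p) (hcore : Cfsg.pPrimeCore p G = ⊥) (hmin : ∀ (H : Subgroup G) (hSH : (S : Subgroup G) ≤ H), H ≠ ⊤ → ∃ P : Subgroup G, (Cfsg.fusionSystemOfSubgroup H (S : Subgroup G) hSH).Hom P ≠ (Cfsg.groupFusionSystem (S : Subgroup G)).Hom P) : IsSimpleGroup G := by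
  obtain ⟨-, hS1, hsimp⟩ := id hsimple
  haveI : Nontrivial G := by
    by_contra hn
    rw [not_nontrivial_iff_subsingleton] at hn
    exact hS1 (Subgroup.eq_bot_of_subsingleton (S : Subgroup G))
  refine ⟨fun N hN => ?_⟩
  rw [or_iff_not_imp_left]
  intro hNbot
  by_contra hNtop
  haveI := hN
  have hsub := hsimp _ _ (Cfsg.Agent.S5118.result p S N)
  rcases hsub with h | ⟨h, hE⟩
  · apply hNbot
    rw [eq_bot_iff, ← hcore]
    refine Cfsg.Agent.Fusion.le_pPrimeCore ?_
    have hsyl := (Cfsg.Agent.Fusion.sylIn_top S).inf_normal (N := N) le_top (by rw [Subgroup.normalizer_eq_top])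
    have h1 := hsyl.not_dvd
    rw [h, Subgroup.relIndex_bot_left] at h1
    exact ((Nat.Prime.coprime_iff_not_dvd Fact.out).2 h1).symm
  · have hSN : (S : Subgroup G) ≤ N := inf_eq_left.1 h
    obtain ⟨P, hP⟩ := hmin N hSN hNtop
    apply hP
    have key : ∀ (T : Subgroup G) (hT : T ≤ N) (hT' : (S : Subgroup G) ≤ N), T = S →
        (Cfsg.fusionSystemOfSubgroup N T hT).Hom P =
          (Cfsg.fusionSystemOfSubgroup N (S : Subgroup G) hT').Hom P := by
      rintro T hT hT' rfl
      rfl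
    rw [← key _ inf_le_right hSN h]
    exact hE P

end Cfsg.Agent.S5336
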