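import Cfsg.Statements.S5337
import Cfsg.Agent.Lib.Local.FS.Abelian

set_option autoImplicit false
open Cfsg

namespace Cfsg.Agent.S5337

theorem result {Ω : Type*} [Group Ω] {S : Subgroup Ω} [Finite S] (p : ℕ) [Fact p.Prime] (hS : IsPGroup p S) (F : Cfsg.FusionSystem S) (hF : F.IsSaturated p) (hab : ∀ x ∈ S, ∀ y ∈ S, x * y = y * x) : F.IsSimple p ↔ (Nat.card S = p ∧ ∀ P : Subgroup Ω, F.Hom P = (Cfsg.innerFusionSystem S).Hom P) := by
  open Cfsg.Agent.Local.FS in
  constructor
  · intro hsimple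
    have hinner : ∀ P : Subgroup Ω, F.Hom P = (Cfsg.innerFusionSystem S).Hom P := by
      have hn := inner_normalIn hS hF hab (stronglyClosed_iff.2 ⟨le_rfl, fun P f _ hf x hx => hf.mem hx⟩)
        fun P f _ hf => abelian_extend hS hF hab hf
      rcases hsimple.2.2 S _ hn with h | ⟨-, h⟩
      · exact absurd h hsimple.2.1
      · exact fun P => (h P).symm
    refine ⟨?_, hinner⟩
    haveI : Nontrivial S := (Subgroup.nontrivial_iff_ne_bot S).2 hsimple.2.1
    obtain ⟨k, hk⟩ := IsPGroup.iff_card.1 hS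
    have hdvd : p ∣ Nat.card S := by
      have h1 : 1 < Nat.card S := Finite.one_lt_card
      rcases Nat.eq_zero_or_pos k with rfl | h
      · simp [hk] at h1
      · exact hk ▸ dvd_pow_self p h.ne'
    obtain ⟨a, ha⟩ := exists_prime_orderOf_dvd_card' p hdvd
    have hcardT : Nat.card (Subgroup.zpowers (a : Ω)) = p := by
      rw [Nat.card_zpowers, Subgroup.orderOf_coe, ha]
    have hTS : Subgroup.zpowers (a : Ω) ≤ S := Subgroup.zpowers_le.2 a.2
    have hfix : ∀ (P : Subgroup Ω) (f : Ω → Ω), Map F P f → ∀ x ∈ P, f x = x := by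
      rintro P f ⟨φ, hφ, he⟩ x hx
      exact map_inner_eq hab (T := S) le_rfl ⟨φ, hinner P ▸ hφ, he⟩ hx
    have hsc : F.StronglyClosed (Subgroup.zpowers (a : Ω)) :=
      stronglyClosed_iff.2 ⟨hTS, fun P f hP hf x hx => by rw [hfix P f hf x hx]; exact hP hx⟩
    rcases hsimple.2.2 _ _ (inner_normalIn hS hF hab hsc fun P f hP hf =>
        ⟨1, Subgroup.one_mem _, fun x hx => by rw [av_one (hP hx), hfix P f hf x hx]⟩) with h | ⟨h, -⟩
    · rw [h, Subgroup.card_bot] at hcardT
      exact absurd hcardT.symm (Nat.Prime.one_lt Fact.out).ne'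
    · rw [← h, hcardT]
  · rintro ⟨hcard, hinner⟩
    have hfix : ∀ (P : Subgroup Ω) (f : Ω → Ω), Map F P f → ∀ x ∈ P, f x = x := by
      rintro P f ⟨φ, hφ, he⟩ x hx
      exact map_inner_eq hab (T := S) le_rfl ⟨φ, hinner P ▸ hφ, he⟩ hx
    refine simple_of_inn hF ?_ ?_ fun T hT => ?_
    · intro h
      rw [h, Subgroup.card_bot] at hcard
      exact (Nat.Prime.one_lt Fact.out).ne' hcard.symm
    · haveI := mulAut_finite_of_le (le_refl S)
      refine le_antisymm (fun α hα => Cfsg.Agent.Local.FS.mem_Inn.2 ⟨1, S.one_mem, fun x hx => ?_⟩)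
        fun α hα => ?_
      · rw [hfix S _ (map_of_mem_autGroup le_rfl hα) x hx]; simp
      · obtain ⟨g, hg, hgα⟩ := Cfsg.Agent.Local.FS.mem_Inn.1 hα
        exact mem_autGroup_of_map ((map_conjBy le_rfl hg).congr fun x hx => (hgα x hx).symm)
    · haveI := finite_of_le hT.1
      rcases (Nat.dvd_prime Fact.out).1 (hcard ▸ Subgroup.card_dvd_of_le hT.1) with h | h
      · exact Or.inl (Subgroup.eq_bot_of_card_eq T h)
      · exact Or.inr (Subgroup.eq_of_le_of_card_ge hT.1 (by rw [h, hcard]))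

end Cfsg.Agent.S5337
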