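import Cfsg.Statements.S5338
import Cfsg.Agent.Lib.Local.FS.Centric

set_option autoImplicit false
open Cfsg

namespace Cfsg.Agent.S5338

theorem result {Ω : Type*} [Group Ω] {S : Subgroup Ω} [Finite S] (p : ℕ) [Fact p.Prime] (hS : IsPGroup p S) (F : Cfsg.FusionSystem S) (hF : F.IsSaturated p) (F' : Cfsg.FusionSystem S) (hF' : F'.IsSaturated p) (hle : F' ≤ F) (hinv : ∀ (Q : Subgroup Ω) (φ : ↥Q →* Ω), φ ∈ F.Hom Q → ∀ (R : Subgroup Ω) (hRQ : R ≤ Q) (ψ : ↥R →* Ω), ψ ∈ F'.Hom R → ∀ (hψQ : ∀ x : R, ψ x ∈ Q), ∃ χ ∈ F'.Hom ((R.subgroupOf Q).map φ), ∀ (x : R) (hx : φ ⟨(x : Ω), hRQ x.2⟩ ∈ (R.subgroupOf Q).map φ), χ ⟨φ ⟨(x : Ω), hRQ x.2⟩, hx⟩ = φ ⟨ψ x, hψQ x⟩) (htop : F'.autGroup S = F.autGroup S) (P : Subgroup Ω) : F'.Hom P = F.Hom P := by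
  open Cfsg.Agent.Local.FS Cfsg.Agent.Fusion in
  suffices hgen : ∀ n, ∀ R, (R = S ∨ F.IsEssential p R) → Nat.card S - Nat.card R = n →
      ∀ α ∈ F.autGroup R, Map F' R (av α) by
    refine Set.Subset.antisymm (hle P) fun φ hφ => mem_iff_map.2 ?_
    exact alperin hS hF (isClosedClass_map F') (fun R hR α hα => hgen _ R hR rfl α hα) P _ (map_of_mem hφ)
  intro n
  induction n using Nat.strong_induction_on with
  | _ n ih =>
  intro R hR hn α hα
  rcases hR with rfl | hE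
  · rw [← htop] at hα
    exact map_of_mem_autGroup le_rfl hα
  have hRn : F.IsFullyNormalized R := hE.2.1
  have hlt : R < S := lt_of_essential hS hF hE
  haveI := mulAut_finite_of_le hRn.1
  have hsucc : ∀ (Y : Subgroup Ω) (g : Ω → Ω), Map F Y g → Nat.card R < Nat.card Y → Map F' Y g := by
    intro Y g hg hY
    refine alperin hS hF (K := fun P f => Nat.card R < Nat.card P → Map F' P f) ?_ ?_ Y g hg hY
    · refine ⟨fun h he hc => (h hc).congr he, ?_, ?_, ?_⟩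
      · intro X X' f hf h hX hc
        haveI := finite_of_le hf.le
        exact (h (hc.trans_le (Subgroup.card_le_of_le hX))).restrict hX
      · intro X X' f g hf hg h h' hm hc
        haveI := finite_of_le hg.le
        exact (h hc).comp (h' (hc.trans_le (hf.card_le hm))) hm
      · intro X f g hf h hg hc
        exact (isClosedClass_map (F := F) F').inv hf (h (hf.card_im ▸ hc)) hg
    · intro X hX β hβ hc
      have h2 : Nat.card X ≤ Nat.card S :=
        Subgroup.card_le_of_le (hX.elim (fun h => h.le) fun h => h.2.1.1)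
      exact ih _ (by omega) X hX rfl β hβ
  have hRn' : F'.IsFullyNormalized R := ⟨hRn.1, fun Q ⟨φ, hφ, hr⟩ => hRn.2 Q ⟨φ, hle R hφ, hr⟩⟩
  have hT' := (fa_iff.1 (fc_fa_of_fn hS hF' hRn').2).2
  have hnorm : ∀ β ∈ F'.autGroup R, α * β * α⁻¹ ∈ F'.autGroup R := by
    intro β hβ
    obtain ⟨φ, hφ, he⟩ := map_of_mem_autGroup hRn.1 hα
    obtain ⟨ψ, hψ, he'⟩ := map_of_mem_autGroup hRn.1 hβ
    have hm : ∀ x : R, ψ x ∈ R := fun x => he' x ▸ av_mem β x.2
    obtain ⟨χ, hχ, hχe⟩ := hinv R φ hφ R le_rfl ψ hψ hm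
    have himg : (R.subgroupOf R).map φ = R := by
      rw [map_subgroupOf_eq_im le_rfl he, im_av]
    refine mem_autGroup_of_map ?_
    have h1 : Map F' R (fn χ) := (map_of_mem hχ).restrict himg.ge
    refine h1.congr fun y hy => ?_
    have hy' : av α⁻¹ y ∈ R := av_mem _ hy
    have hval : φ ⟨av α⁻¹ y, hy'⟩ = y := by rw [he, av_av_inv α hy]
    have hmem : φ ⟨av α⁻¹ y, hy'⟩ ∈ (R.subgroupOf R).map φ := ⟨_, hy', rfl⟩
    have h2 := hχe ⟨_, hy'⟩ hmem
    rw [← fn_apply χ hmem, hval, he] at h2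
    change fn χ y = av α (ψ ⟨_, hy'⟩) at h2
    rw [he'] at h2
    rw [h2, av_mul _ _ hy, av_mul _ _ hy']
  have hcjle : cj (autInducedBy S R) α ≤ F'.autGroup R := by
    rintro _ ⟨β, hβ, rfl⟩
    exact hnorm β (autInducedBy_le_autGroup hRn.1 hβ)
  obtain ⟨β, hβ, hβle⟩ := hT'.conj_le (isPGroup_cj (isPGroup_autS hS) α) hcjle
  rw [cj_cj] at hβle
  set γ := β * α with hγ
  have hγF : γ ∈ F.autGroup R := (F.autGroup R).mul_mem
    (mem_autGroup_of_map (map_of_le hle (map_of_mem_autGroup hRn.1 hβ))) hα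
  have hm := map_of_mem_autGroup hRn.1 hγF
  obtain ⟨g, hg, hgγ⟩ := (receptive_iff.1
    (receptive_of_fc hS hF (fc_fa_of_fn hS hF hRn).1)).2 R _ hm (im_av γ)
  have hN : FusionSystem.normalizerIn S R ≤ Nf S R (av γ) := by
    intro s hs
    obtain ⟨c, hc, hcS⟩ := exists_aut_conj hs.2
    obtain ⟨h, hh, hhc⟩ := mem_autInducedBy.1 (hβle (conj_mem_cj (hcS S hs.1)))
    refine ⟨hs.1, hs.2, h, hh, fun x hx => ?_⟩
    have h1 := hhc _ (av_mem γ hx)
    rw [av_mul _ _ (av_mem γ hx), av_inv_av γ hx, av_mul _ _ hx, hc x hx] at h1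
    exact h1
  have h1 := hsucc _ g (hg.restrict hN) (card_lt_of_lt (lt_normalizerIn hS hlt) inf_le_left)
  have hγ' : γ ∈ F'.autGroup R :=
    mem_autGroup_of_map ((h1.restrict (le_normalizerIn hRn.1)).congr hgγ)
  have := (F'.autGroup R).mul_mem ((F'.autGroup R).inv_mem hβ) hγ'
  rw [hγ, inv_mul_cancel_left] at this
  exact map_of_mem_autGroup hRn.1 this

end Cfsg.Agent.S5338
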