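import Cfsg.Statements.S5340
import Cfsg.Agent.Lib.Local.FS.Simple

set_option autoImplicit false
open Cfsg

namespace Cfsg.Agent.S5340

theorem result {Ω : Type*} [Group Ω] {S : Subgroup Ω} [Finite S] (p : ℕ) [Fact p.Prime] (hS : IsPGroup p S) (F : Cfsg.FusionSystem S) (hF : F.IsSaturated p) (hS1 : S ≠ ⊥) (hgen : Subgroup.closure {x : Ω | x ∈ S ∧ orderOf x = p} = S) (htr : ∀ A B : Subgroup Ω, A ≤ S → B ≤ S → Nat.card A = p → Nat.card B = p → F.IsConj A B) (htop : F.autGroup S = Cfsg.Inn ↥S) : F.IsSimple p := by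
  open Cfsg.Agent.Local.FS in
  refine simple_of_inn hF hS1 htop fun T hT => or_iff_not_imp_left.2 fun hT1 => le_antisymm hT.1 ?_
  haveI := finite_of_le hT.1
  haveI : Nontrivial T := (Subgroup.nontrivial_iff_ne_bot T).2 hT1
  obtain ⟨k, hk⟩ := IsPGroup.iff_card.1 (hS.to_le hT.1)
  have hdvd : p ∣ Nat.card T := by
    have h1 : 1 < Nat.card T := Finite.one_lt_card
    rcases Nat.eq_zero_or_pos k with rfl | h
    · simp [hk] at h1
    · exact hk ▸ dvd_pow_self p h.ne'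
  obtain ⟨a, ha⟩ := exists_prime_orderOf_dvd_card' p hdvd
  have hA : Nat.card (Subgroup.zpowers (a : Ω)) = p := by
    rw [Nat.card_zpowers, Subgroup.orderOf_coe, ha]
  have haT : Subgroup.zpowers (a : Ω) ≤ T := Subgroup.zpowers_le.2 a.2
  rw [← hgen]
  refine (Subgroup.closure_le _).2 ?_
  rintro x ⟨hxS, hx⟩
  have hB : Nat.card (Subgroup.zpowers x) = p := by rw [Nat.card_zpowers, hx]
  obtain ⟨f, hf, hi⟩ := isConj_iff.1 (htr _ _ (haT.trans hT.1) (Subgroup.zpowers_le.2 hxS) hA hB)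
  obtain ⟨y, hy, rfl⟩ := hf.mem_im.1 (hi.ge (Subgroup.mem_zpowers x))
  exact (stronglyClosed_iff.1 hT).2 _ f haT hf y hy

end Cfsg.Agent.S5340
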