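import Cfsg.Statements.S5346
import Cfsg.Agent.Lib.Spor.ThreeRelations

set_option autoImplicit false
open Cfsg

namespace Cfsg.Agent.S5346

/-- Let D be a conjugation-invariant generating set of 3-transpositions of a finite group G and d a member of D. Then D has width 1 (no two different members of D commute) if and only if G is the product of the subgroup generated by d with the largest normal 3-subgroup of G. -/
theorem result {G : Type*} [Group G] [Finite G] {D : Set G} (hD : Cfsg.IsThreeTranspositionGroup D) {d : G} (hd : d ∈ D) : Cfsg.commutingWidth D = 1 ↔ Subgroup.zpowers d ⊔ Cfsg.pCore 3 G = ⊤ := by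
  classical
  haveI : Fact (Nat.Prime 3) := ⟨Nat.prime_three⟩
  haveI : Fact (Nat.Prime 2) := ⟨Nat.prime_two⟩
  haveI := Solv.pCore_normal (G := G) 3
  constructor
  · intro hw
    refine Spor.width_one_generate hD hd fun a ha b hb hc => ?_
    by_contra hne
    have hmem : (2 : ℕ) ∈ {n : ℕ | ∃ E : Set G, E ⊆ D ∧ E.Finite ∧ (∀ a ∈ E, ∀ b ∈ E, Commute a b) ∧
        E.ncard = n} := by
      refine ⟨{a, b}, Set.insert_subset_iff.2 ⟨ha, Set.singleton_subset_iff.2 hb⟩, Set.toFinite _, ?_,
        Set.ncard_pair hne⟩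
      rintro x (rfl | rfl) y (rfl | rfl)
      exacts [Commute.refl _, hc, hc.symm, Commute.refl _]
    have hbd : BddAbove {n : ℕ | ∃ E : Set G, E ⊆ D ∧ E.Finite ∧ (∀ a ∈ E, ∀ b ∈ E, Commute a b) ∧
        E.ncard = n} := ⟨Nat.card G, by
      rintro n ⟨E, -, -, -, rfl⟩
      exact Set.ncard_le_card E⟩
    have h2 : 2 ≤ Cfsg.commutingWidth D := le_csSup hbd hmem
    omega
  · intro hgen
    have hP : IsPGroup 3 (Cfsg.pCore 3 G) := Solv.pCore_isPGroup 3
    have hdd := Spor.mul_self_of_order_two (hD.1.1 d hd)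
    have key : ∀ a ∈ D, ∀ b ∈ D, Commute a b → a = b := by
      intro a ha b hb hc
      have hq : ∀ x ∈ D, d * x ∈ Cfsg.pCore 3 G := fun x hx =>
        (Spor.mem_or_mul_mem hdd hgen x).resolve_left (Spor.not_mem_core_three hD.1 hx)
      have hab : a * b ∈ Cfsg.pCore 3 G := by
        have h := mul_mem (inv_mem (hq a ha)) (hq b hb)
        rw [mul_inv_rev, Spor.inv_of_order_two (hD.1.1 a ha), Spor.inv_of_order_two (hD.1.1 d hd),
          mul_assoc, ← mul_assoc d d, hdd, one_mul] at h
        exact h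
      have := Spor.eq_one_of_pow_two_pgroup hP hab (Spor.pow_two_of_commute
        (Spor.mul_self_of_order_two (hD.1.1 a ha)) (Spor.mul_self_of_order_two (hD.1.1 b hb)) hc)
      rwa [mul_eq_one_iff_eq_inv, Spor.inv_of_order_two (hD.1.1 b hb)] at this
    refine le_antisymm (csSup_le' ?_) (le_csSup ⟨Nat.card G, ?_⟩ ⟨{d}, by simpa, Set.toFinite _, ?_,
      Set.ncard_singleton d⟩)
    · rintro n ⟨E, hED, hfin, hcomm, rfl⟩
      rw [Set.ncard_le_one hfin]
      exact fun a ha b hb => key a (hED ha) b (hED hb) (hcomm a ha b hb)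
    · rintro n ⟨E, -, -, -, rfl⟩
      exact Set.ncard_le_card E
    · rintro a rfl b rfl; exact Commute.refl _

end Cfsg.Agent.S5346
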