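import Cfsg.Statements.S5350
import Cfsg.Agent.Lib.Spor.ThreeRelations

set_option autoImplicit false
open Cfsg

namespace Cfsg.Agent.S5350

/-- Let D be a conjugacy class of 3-transpositions generating the finite group G, with at least two members, and d a member of D. Then the set of members w of D whose commuting partners in D (other than w) are exactly those of d (other than d) coincides with the set of members of D lying in the coset of d modulo the largest normal 3-subgroup of G, and also with the orbit of d under conjugation by that normal 3-subgroup. -/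
theorem result {G : Type*} [Group G] [Finite G] {D : Set G} (hD : Cfsg.IsThreeTranspositionClass D) (hD2 : ∃ a ∈ D, ∃ b ∈ D, a ≠ b) {d : G} (hd : d ∈ D) : {w : G | w ∈ D ∧ {y : G | y ∈ D ∧ y ≠ d ∧ Commute d y} = {y : G | y ∈ D ∧ y ≠ w ∧ Commute w y}} = {w : G | w ∈ D ∧ d⁻¹ * w ∈ Cfsg.pCore 3 G} ∧ {w : G | w ∈ D ∧ {y : G | y ∈ D ∧ y ≠ d ∧ Commute d y} = {y : G | y ∈ D ∧ y ≠ w ∧ Commute w y}} = {w : G | ∃ g ∈ Cfsg.pCore 3 G, w = g * d * g⁻¹} := by
  have hG := Spor.class_isGroup hD
  have hdi := Spor.inv_of_order_two (hD.1.1 d hd)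
  have e : {w : G | w ∈ D ∧ {y : G | y ∈ D ∧ y ≠ d ∧ Commute d y} = {y : G | y ∈ D ∧ y ≠ w ∧ Commute w y}} =
      {w : G | w ∈ D ∧ d⁻¹ * w ∈ Cfsg.pCore 3 G} := by
    ext w
    rw [Set.mem_ofPred_eq, Set.mem_ofPred_eq, hdi]
    refine and_congr_right fun hw => ?_
    rw [← Spor.sameW_iff_core hG hd hw, Set.ext_iff]
    refine ⟨fun h y hy => ?_, fun h y => ?_⟩
    · have := h y
      simpa [hy] using this
    · by_cases hy : y ∈ D
      · simpa [hy] using h y hy
      · simp [hy]
  refine ⟨e, e.trans ?_⟩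
  ext v
  rw [Set.mem_ofPred_eq, Set.mem_ofPred_eq, hdi]
  constructor
  · exact fun ⟨hv, h⟩ => Spor.core_three_conj hD.1 hd hv h
  · rintro ⟨g, hg, rfl⟩
    exact ⟨hG.2.1 g d hd, Spor.core_mul_of_conj hD.1 hd hg⟩

end Cfsg.Agent.S5350
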