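import Cfsg.Statements.S5355
import Cfsg.Agent.Lib.Spor.ThreePrimitive
import Cfsg.Agent.S5344

set_option autoImplicit false
open Cfsg

namespace Cfsg.Agent.S5355

/-- Let D be a conjugacy class of 3-transpositions generating the finite group G, with at least two members, and d a member of D. Suppose that every member of D commuting with d commutes with exactly the same members of D as d does, and that exactly one member of D other than d commutes with d. Then G is isomorphic to the symmetric group of degree 4. -/
theorem result {G : Type*} [Group G] [Finite G] {D : Set G} (hD : Cfsg.IsThreeTranspositionClass D) (hD2 : ∃ a ∈ D, ∃ b ∈ D, a ≠ b) {d : G} (hd : d ∈ D) (hV : {y : G | y ∈ D ∧ Commute d y} = {v : G | v ∈ D ∧ ∀ e ∈ D, Commute v e ↔ Commute d e}) (hm : {y : G | y ∈ D ∧ Commute d y}.ncard = 2) : Nonempty (G ≃* Equiv.Perm (Fin 4)) := by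
  classical
  have hG := Spor.class_isGroup hD
  obtain ⟨p, q, hpq, hset⟩ := Set.ncard_eq_two.1 hm
  have hdmem : d ∈ {y : G | y ∈ D ∧ Commute d y} := ⟨hd, Commute.refl d⟩
  obtain ⟨v, hvne, hpart⟩ : ∃ v, v ≠ d ∧ {y : G | y ∈ D ∧ Commute d y} = {d, v} := by
    rw [hset] at hdmem
    rcases hdmem with rfl | rfl
    · exact ⟨q, hpq.symm, hset⟩
    · exact ⟨p, hpq, hset.trans (Set.pair_comm _ _)⟩
  have hvmem : v ∈ {y : G | y ∈ D ∧ Commute d y} := by rw [hpart]; simp
  obtain ⟨hv, hdv⟩ := hvmem
  have hV' : Spor.SameV D d v := fun e he =>
    (((Set.ext_iff.1 hV v).1 ⟨hv, hdv⟩).2 e he).symm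
  obtain ⟨c, hc, hdc⟩ := Spor.exists_braid hD hD2 hd
  have hvc : ¬ Commute v c := fun h => hdc ((hV' c hc).2 h)
  have hset' := hD.1
  have mul2 : ∀ {x : G}, x ∈ D → x * x = 1 := fun hx => Spor.mul_self_of_order_two (hset'.1 _ hx)
  -- for `f` braiding with `d`, the partner of `f` is `u * f * u`
  set u := d * v with hu
  have huu : u * u = 1 := by
    have := Spor.pow_two_of_commute (mul2 hd) (mul2 hv) hdv
    rwa [pow_two] at this
  have hui : u⁻¹ = u := inv_eq_of_mul_eq_one_right huu
  have hu2 : u = v * d := hdv.eq
  have hexp : ∀ x : G, u * x * u = d * (v * x * v) * d := fun x => by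
    calc u * x * u = d * v * x * (v * d) := by rw [← hu2, ← hu]
      _ = _ := by simp only [mul_assoc]
  have part : ∀ f ∈ D, ∀ y ∈ D, ¬ Commute d f → Commute f y → y = f ∨ y = u * f * u := by
    intro f hf y hy hdf hfy
    obtain ⟨g, hg⟩ := Spor.class_conj hD hd hf
    have hy' : g⁻¹ * y * g ∈ ({d, v} : Set G) := by
      rw [← hpart]
      refine ⟨(Spor.conj_mem_iff hG.2.1 g).1 hy, ?_⟩
      rw [← Spor.commute_conj_iff (g := g), hg, show g * (g⁻¹ * y * g) * g⁻¹ = y by group]
      exact hfy
    have huf : u * f * u ∈ D := by have := hG.2.1 u f hf; rwa [hui] at this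
    have hne : u * f * u ≠ f := fun h => hdf (by
      have hc' : Commute u f := by
        show u * f = f * u
        calc u * f = u * f * (u * u) := by rw [huu, mul_one]
          _ = u * f * u * u := by simp only [mul_assoc]
          _ = f * u := by rw [h]
      exact ((Spor.commute_pair_iff hset' hd hv hf (Ne.symm hvne) hdv).1 hc'.symm).1.symm)
    have hcomm : Commute f (u * f * u) := by
      have hbf : ¬ Commute v f := fun h => hdf ((hV' f hf).2 h)
      have b1 := Spor.braid_of_not hset' hd hf hdf
      have b2 := Spor.braid_of_not hset' hv hf hbf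
      have hcoll : f * (u * f * u) * f = u * f * u := by
        calc f * (u * f * u) * f = f * d * (v * f * v) * d * f := by
              rw [hexp f]; simp only [mul_assoc]
          _ = f * d * (f * v * f) * d * f := by rw [b2]
          _ = (f * d * f) * v * (f * d * f) := by simp only [mul_assoc]
          _ = (d * f * d) * v * (d * f * d) := by rw [b1]
          _ = d * f * (d * v * d) * f * d := by simp only [mul_assoc]
          _ = d * (f * v * f) * d := by rw [hdv.eq, mul_assoc v d d, mul2 hd, mul_one]; simp only [mul_assoc]
          _ = d * (v * f * v) * d := by rw [b2]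
          _ = u * f * u := (hexp f).symm
      show f * (u * f * u) = u * f * u * f
      calc f * (u * f * u) = f * (u * f * u) * f * f := by rw [mul_assoc _ f f, mul2 hf, mul_one]
        _ = u * f * u * f := by rw [hcoll]
    have huf' : g⁻¹ * (u * f * u) * g ∈ ({d, v} : Set G) := by
      rw [← hpart]
      refine ⟨(Spor.conj_mem_iff hG.2.1 g).1 huf, ?_⟩
      rw [← Spor.commute_conj_iff (g := g), hg, show g * (g⁻¹ * (u * f * u) * g) * g⁻¹ = u * f * u by group]
      exact hcomm
    rcases huf' with h | h
    · exact absurd (calc u * f * u = g * (g⁻¹ * (u * f * u) * g) * g⁻¹ := by group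
        _ = f := by rw [h, hg]) hne
    rcases hy' with h' | h'
    · left; rw [← hg, ← h']; group
    · right
      have : g⁻¹ * y * g = g⁻¹ * (u * f * u) * g := by rw [h', h]
      simpa using this
  -- the product of the two members of a pair
  have pair : ∀ f ∈ D, ¬ Commute d f → d * (f * (u * f * u)) * d = (f * (u * f * u)) * u := by
    intro f hf hdf
    have b1 := Spor.braid_of_not hset' hd hf hdf
    have hbf : ¬ Commute v f := fun h => hdf ((hV' f hf).2 h)
    have b2 := Spor.braid_of_not hset' hv hf hbf
    calc d * (f * (u * f * u)) * d = d * f * d * (v * f * v) * (d * d) := by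
          rw [hexp f]; simp only [mul_assoc]
      _ = (d * f * d) * (f * v * f) := by rw [mul2 hd, mul_one, b2]
      _ = (f * d * f) * (f * v * f) := by rw [b1]
      _ = f * (d * (f * f) * v) * f := by simp only [mul_assoc]
      _ = f * u * f := by rw [mul2 hf, mul_one]
      _ = (f * (u * f * u)) * u := by rw [mul_assoc f (u * f * u) u, mul_assoc (u * f) u u, huu, mul_one]; simp only [mul_assoc]
  -- every member is one of six
  have hsix : ∀ f ∈ D, f ∈ Subgroup.closure ({d, c, v} : Set G) := by
    intro f hf
    have hd' : d ∈ Subgroup.closure ({d, c, v} : Set G) := Subgroup.subset_closure (by simp)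
    have hv' : v ∈ Subgroup.closure ({d, c, v} : Set G) := Subgroup.subset_closure (by simp)
    have hc' : c ∈ Subgroup.closure ({d, c, v} : Set G) := Subgroup.subset_closure (by simp)
    by_cases hdf : Commute d f
    · have : f ∈ ({d, v} : Set G) := hpart ▸ ⟨hf, hdf⟩
      rcases this with rfl | rfl
      exacts [hd', hv']
    by_cases hcf : Commute c f
    · rcases part c hc f hf hdc hcf with rfl | rfl
      · exact hc'
      · rw [hu]; exact mul_mem (mul_mem (mul_mem hd' hv') hc') (mul_mem hd' hv')
    -- the pair of `c * f * c` commutes with `d`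
    set y := c * f * c with hy
    have hyD : y ∈ D := Spor.conj_mem' hG hc hf
    set Pc := c * (u * c * u) with hPc
    set Pf := f * (u * f * u) with hPf
    have ucu : u * c * u ∈ D := by have := hG.2.1 u c hc; rwa [hui] at this
    have ufu : u * f * u ∈ D := by have := hG.2.1 u f hf; rwa [hui] at this
    have hVD : ∀ w ∈ D, ¬ Commute d w → Spor.SameV D w (u * w * u) := by
      intro w hw hdw e he
      have hh := hV'.conj hG.2.1
      obtain ⟨g, hg⟩ := Spor.class_conj hD hd hw
      have h1 := hh g
      rw [hg] at h1
      have h2 : g * v * g⁻¹ = u * w * u := by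
        rcases part w hw _ (hG.2.1 g v hv) hdw (h1.commute hw) with h3 | h3
        · exfalso
          rw [← hg] at h3
          exact hvne (mul_left_cancel (mul_right_cancel h3))
        · exact h3
      rw [h2] at h1
      exact h1 e he
    have hPcu : Commute (c * (u * c * u)) u := by
      have h := (hVD c hc hdc).commute hc
      show c * (u * c * u) * u = u * (c * (u * c * u))
      calc c * (u * c * u) * u = (c * (u * c * u)) * u := rfl
        _ = (u * c * u * c) * u := by rw [h.eq]
        _ = u * (c * (u * c * u)) := by simp only [mul_assoc]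
    have hPfu : Commute (f * (u * f * u)) u := by
      have h := (hVD f hf hdf).commute hf
      show f * (u * f * u) * u = u * (f * (u * f * u))
      calc f * (u * f * u) * u = (f * (u * f * u)) * u := rfl
        _ = (u * f * u * f) * u := by rw [h.eq]
        _ = u * (f * (u * f * u)) := by simp only [mul_assoc]
    have hdd := mul2 hd
    have hfix : Commute d (Pc * Pf) := by
      show d * (Pc * Pf) = Pc * Pf * d
      calc d * (Pc * Pf) = d * Pc * (d * d) * Pf * (d * d) := by
            rw [hdd, mul_one, mul_one, mul_assoc d Pc Pf]
        _ = d * Pc * d * (d * Pf * d) * d := by simp only [mul_assoc]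
        _ = Pc * u * (Pf * u) * d := by rw [hPc, hPf, pair c hc hdc, pair f hf hdf]
        _ = Pc * Pf * d := by rw [hPfu.eq, ← mul_assoc (Pc * u), mul_assoc Pc u u, huu, mul_one]
    -- `Pc * Pf` is the product of the pair of `y`
    have hVy : Spor.SameV D y (c * (u * f * u) * c) := by
      have := (hVD f hf hdf).conj hG.2.1 c
      rwa [Spor.inv_of_order_two (hset'.1 c hc), ← hy] at this
    have hwit : Pc * Pf = y * (c * (u * f * u) * c) := by
      have hfc : ¬ Commute f c := fun h => hcf h.symm
      have hVf := hVD f hf hdf
      have hVc := hVD c hc hdc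
      have hufc : ¬ Commute (u * f * u) c := fun h => hfc ((hVf c hc).2 h)
      have hucf : ¬ Commute (u * c * u) f := fun h => hcf ((hVc f hf).2 h)
      -- conjugating `c` by the pair of `f` gives the partner of `c`
      have hfc1 := Spor.braid_of_not hset' hf hc hfc
      have hfc2 := Spor.braid_of_not hset' ufu hc hufc
      have hq : Pf * c * Pf = u * c * u := by
        have hff := hVf.commute hf
        have hD' : Pf * c * Pf ∈ D := by
          have := hG.2.1 Pf c hc
          rwa [inv_eq_of_mul_eq_one_right (show Pf * Pf = 1 by
            have := Spor.pow_two_of_commute (mul2 hf) (mul2 ufu) hff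
            rwa [pow_two] at this)] at this
        have hcom : Commute c (Pf * c * Pf) := by
          show c * (Pf * c * Pf) = Pf * c * Pf * c
          have hcoll : c * (Pf * c * Pf) * c = Pf * c * Pf := by
            calc c * (Pf * c * Pf) * c = c * f * ((u * f * u) * c * (u * f * u)) * f * c := by
                  rw [hPf]; nth_rewrite 2 [hff.eq]; simp only [mul_assoc]
              _ = c * f * (c * (u * f * u) * c) * f * c := by rw [hfc2]
              _ = (c * f * c) * (u * f * u) * (c * f * c) := by simp only [mul_assoc]
              _ = (f * c * f) * (u * f * u) * (f * c * f) := by rw [hfc1]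
              _ = f * c * ((f * (u * f * u)) * f) * c * f := by simp only [mul_assoc]
              _ = f * (c * (u * f * u) * c) * f := by
                  rw [hff.eq, mul_assoc _ f f, mul2 hf, mul_one]; simp only [mul_assoc]
              _ = f * ((u * f * u) * c * (u * f * u)) * f := by rw [hfc2]
              _ = Pf * c * Pf := by rw [hPf]; nth_rewrite 2 [hff.eq]; simp only [mul_assoc]
          calc c * (Pf * c * Pf) = c * (Pf * c * Pf) * c * c := by rw [mul_assoc _ c c, mul2 hc, mul_one]
            _ = Pf * c * Pf * c := by rw [hcoll]
        rcases part c hc _ hD' hdc hcom with h | h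
        · exfalso
          apply hfc
          have hc2 : Commute c (f * (u * f * u)) := by
            show c * Pf = Pf * c
            calc c * Pf = Pf * c * Pf * Pf := by rw [h]
              _ = Pf * c := by
                rw [mul_assoc _ Pf Pf, show Pf * Pf = 1 by
                  have := Spor.pow_two_of_commute (mul2 hf) (mul2 ufu) hff
                  rwa [pow_two] at this, mul_one]
          have hne : f ≠ u * f * u := fun e => hdf (by
            have hcu : Commute u f := by
              show u * f = f * u
              calc u * f = u * f * (u * u) := by rw [huu, mul_one]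
                _ = u * f * u * u := by simp only [mul_assoc]
                _ = f * u := by rw [← e]
            exact ((Spor.commute_pair_iff hset' hd hv hf (Ne.symm hvne) hdv).1 hcu.symm).1.symm)
          exact ((Spor.commute_pair_iff hset' hf ufu hc hne hff).1 hc2).1.symm
        · exact h
      calc Pc * Pf = c * (Pf * c * Pf) * Pf := by rw [hPc, hq]
        _ = c * Pf * c * (Pf * Pf) := by simp only [mul_assoc]
        _ = c * f * (c * c) * (u * f * u) * c := by
            rw [show Pf * Pf = 1 by
              have := Spor.pow_two_of_commute (mul2 hf) (mul2 ufu) (hVf.commute hf)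
              rwa [pow_two] at this, mul_one, mul2 hc, mul_one, hPf]
            simp only [mul_assoc]
        _ = y * (c * (u * f * u) * c) := by rw [hy]; simp only [mul_assoc]
    have hyne : y ≠ c * (u * f * u) * c := fun e => hdf (by
      have e2 : f = u * f * u := mul_left_cancel (mul_right_cancel (hy ▸ e))
      have hcu : Commute u f := by
        show u * f = f * u
        calc u * f = u * f * (u * u) := by rw [huu, mul_one]
          _ = u * f * u * u := by simp only [mul_assoc]
          _ = f * u := by rw [← e2]
      exact ((Spor.commute_pair_iff hset' hd hv hf (Ne.symm hvne) hdv).1 hcu.symm).1.symm)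
    rw [hwit] at hfix
    have hdy := ((Spor.commute_pair_iff hset' hyD (Spor.conj_mem' hG hc ufu) hd hyne (hVy.commute hyD)).1
      hfix).1
    have : y ∈ ({d, v} : Set G) := hpart ▸ ⟨hyD, hdy⟩
    have hf' : f = c * y * c := by
      rw [hy]
      calc f = (c * c) * f * (c * c) := by rw [mul2 hc, one_mul, mul_one]
        _ = c * (c * f * c) * c := by simp only [mul_assoc]
    rw [hf']
    rcases this with h | h <;> rw [h]
    exacts [mul_mem (mul_mem hc' hd') hc', mul_mem (mul_mem hc' hv') hc']
  obtain ⟨φ, hinj, h1, h2, h3⟩ := S5344.result hset' hd hc hv (Ne.symm hvne) hdv hdc (fun h => hvc h.symm)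
  have hsurj : Function.Surjective φ := by
    rw [← MonoidHom.range_eq_top, eq_top_iff, ← hD.2.2, Subgroup.closure_le]
    intro f hf
    refine (Subgroup.closure_le _).2 ?_ (hsix f hf)
    rintro _ (rfl | rfl | rfl)
    exacts [⟨_, h1⟩, ⟨_, h2⟩, ⟨_, h3⟩]
  exact ⟨(MulEquiv.ofBijective φ ⟨hinj, hsurj⟩).symm⟩

end Cfsg.Agent.S5355
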