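import Cfsg.Statements.S5356
import Cfsg.Agent.Lib.Fischer.InvariantSylow
-- import your own Cfsg.Agent.* helpers here

set_option autoImplicit false
open Cfsg

namespace Cfsg.Agent.S5356

/-- Let D be a conjugacy class of 3-transpositions generating the finite group G, with at least two members, and d a member of D such that every member of D commuting with d commutes with exactly the same members of D as d. Then there is a Sylow 3-subgroup P of G normalized by d such that G is generated by d, P and the largest normal 2-subgroup of G. -/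
theorem result {G : Type*} [Group G] [Finite G] {D : Set G} (hD : Cfsg.IsThreeTranspositionClass D) (hD2 : ∃ a ∈ D, ∃ b ∈ D, a ≠ b) {d : G} (hd : d ∈ D) (hV : {y : G | y ∈ D ∧ Commute d y} = {v : G | v ∈ D ∧ ∀ e ∈ D, Commute v e ↔ Commute d e}) : ∃ P : Sylow 3 G, d ∈ Subgroup.normalizer (P : Set G) ∧ Subgroup.zpowers d ⊔ (P : Subgroup G) ⊔ Cfsg.pCore 2 G = ⊤ := by
  have hcw : Fischer.CoreWidthOne D := by
    intro a ha b hb hab
    obtain ⟨g, rfl⟩ := Spor.class_conj hD hd ha
    have hG := Spor.class_isGroup hD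
    set b' := g⁻¹ * b * g with hb'
    have hb'D : b' ∈ D := by
      have := hG.2.1 g⁻¹ b hb
      rwa [inv_inv] at this
    have hb'e : g * b' * g⁻¹ = b := by rw [hb']; group
    have hc : Commute d b' := (Commute.conj_iff g).1 (hb'e.symm ▸ hab)
    have hV' : b' ∈ {v : G | v ∈ D ∧ ∀ e ∈ D, Commute v e ↔ Commute d e} := hV ▸ ⟨hb'D, hc⟩
    have h := Spor.SameV.mul_mem_core hG hd hb'D fun e he => (hV'.2 e he).symm
    haveI := Solv.pCore_normal (G := G) 2
    have h2 := (inferInstance : (Cfsg.pCore 2 G).Normal).conj_mem _ h g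
    rw [← hb'e]
    rwa [show g * (d * b') * g⁻¹ = g * d * g⁻¹ * (g * b' * g⁻¹) by group] at h2
  obtain ⟨P, hP⟩ := Fischer.exists_invariant (Nat.card G) le_rfl hD hD2 hcw hd
  exact ⟨P, hP, Fischer.sup_eq_top hD hD2 hcw hd P⟩

end Cfsg.Agent.S5356
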