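import Cfsg.Statements.S5358

set_option autoImplicit false
open scoped MatrixGroups
open Cfsg Matrix

namespace Cfsg.Agent.S5358

/-- Let Q be a non-degenerate quadratic form on the n-dimensional coordinate space over the field with three elements and u, v vectors of the same non-zero norm Q(u) = Q(v) spanning different lines (v ≠ u and v ≠ −u). Then the reflection matrices of u and v commute if and only if u and v are orthogonal for the polar form of Q. -/
theorem result (n : ℕ) (Q : QuadraticForm (ZMod 3) (Fin n → ZMod 3)) (hQ : (QuadraticMap.polarBilin Q).Nondegenerate) (u v : Fin n → ZMod 3) (hu : Q u ≠ 0) (huv : Q u = Q v) (h1 : v ≠ u) (h2 : v ≠ -u) : Commute (Cfsg.reflectionMatrix (⇑Q) u) (Cfsg.reflectionMatrix (⇑Q) v) ↔ QuadraticMap.polar (⇑Q) u v = 0 := by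
  have hact : ∀ w x : Fin n → ZMod 3, Cfsg.reflectionMatrix (⇑Q) w *ᵥ x =
      x - ((Q w)⁻¹ * QuadraticMap.polar (⇑Q) w x) • w := fun w x => by
    have e : Cfsg.polarVec (⇑Q) w ⬝ᵥ x = QuadraticMap.polar (⇑Q) w x := by
      conv_rhs => rw [pi_eq_sum_univ' x]
      rw [← QuadraticMap.polarBilin_apply_apply, map_sum, dotProduct]
      refine Finset.sum_congr rfl fun j _ => ?_
      rw [map_smul, QuadraticMap.polarBilin_apply_apply, smul_eq_mul, mul_comm, Cfsg.polarVec]
    rw [Cfsg.reflectionMatrix, Matrix.sub_mulVec, Matrix.one_mulVec, Matrix.smul_mulVec,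
      Matrix.vecMulVec_mulVec, op_smul_eq_smul, smul_smul, e]
  set f := QuadraticMap.polar (⇑Q) u v with hf
  set c := (Q u)⁻¹ with hcdef
  have hc : (Q v)⁻¹ = c := by rw [hcdef, huv]
  have hvu : QuadraticMap.polar (⇑Q) v u = f := by rw [hf, QuadraticMap.polar_comm]
  have hbase : ∀ x, (Cfsg.reflectionMatrix (⇑Q) u * Cfsg.reflectionMatrix (⇑Q) v) *ᵥ x =
      x - (c * QuadraticMap.polar (⇑Q) v x) • v - (c * QuadraticMap.polar (⇑Q) u x) • u +
        (c * c * QuadraticMap.polar (⇑Q) v x * f) • u := fun x => by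
    rw [← Matrix.mulVec_mulVec, hact, hact, hc, QuadraticMap.polar_sub_right,
      QuadraticMap.polar_smul_right, ← hf, smul_eq_mul]
    module
  have hbase' : ∀ x, (Cfsg.reflectionMatrix (⇑Q) v * Cfsg.reflectionMatrix (⇑Q) u) *ᵥ x =
      x - (c * QuadraticMap.polar (⇑Q) u x) • u - (c * QuadraticMap.polar (⇑Q) v x) • v +
        (c * c * QuadraticMap.polar (⇑Q) u x * f) • v := fun x => by
    rw [← Matrix.mulVec_mulVec, hact, hact, hc, QuadraticMap.polar_sub_right,
      QuadraticMap.polar_smul_right, hvu, smul_eq_mul]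
    module
  refine ⟨fun h => ?_, fun h => ?_⟩
  · by_contra hne
    have e : (c * c * QuadraticMap.polar (⇑Q) v u * f) • u =
        (c * c * QuadraticMap.polar (⇑Q) u u * f) • v := by
      have h1 := hbase u
      rw [h.eq, hbase' u] at h1
      have h2 := congrArg (fun t => t - (u - (c * QuadraticMap.polar (⇑Q) u u) • u -
        (c * QuadraticMap.polar (⇑Q) v u) • v)) h1
      rw [show ∀ p q : Fin n → ZMod 3, p + q - p = q from fun p q => add_sub_cancel_left p q] at h2
      rw [h2]; abel
    rw [QuadraticMap.polar_self, hvu, nsmul_eq_mul] at e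
    have key : ∀ f' : ZMod 3, f' ≠ 0 → ∀ q : ZMod 3, q ≠ 0 →
        (q * q * f' * f' = q * q * (((2 : ℕ) : ZMod 3) * q) * f' ∨
          q * q * f' * f' = -(q * q * (((2 : ℕ) : ZMod 3) * q) * f')) ∧
        q * q * (((2 : ℕ) : ZMod 3) * q) * f' ≠ 0 := by decide
    obtain ⟨hk, hk0⟩ := key f hne (Q u) hu
    have hci : c = Q u := by
      rw [hcdef]
      exact inv_eq_of_mul_eq_one_right ((by decide : ∀ q : ZMod 3, q ≠ 0 → q * q = 1) _ hu)
    rw [hci] at e
    rcases hk with hk | hk <;> rw [hk] at e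
    · exact h1 (smul_right_injective _ hk0 e).symm
    · rw [neg_smul, ← smul_neg] at e
      exact h2 (smul_right_injective _ hk0 e).symm
  · refine Matrix.ext_iff_mulVec.2 fun x => ?_
    rw [hbase, hbase', h, mul_zero, zero_smul, mul_zero, zero_smul]
    abel

end Cfsg.Agent.S5358
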