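import Cfsg.Statements.S5381
import Cfsg.Agent.Lib.Spor.CoTypeThree.Main
import Cfsg.Agent.Lib.Spor.SuzMain
import Cfsg.Agent.S1719

set_option autoImplicit false
open Cfsg

namespace Cfsg.Agent.S5381

/-- Let G be a finite group of Conway type (involution z with generalized Fitting subgroup Q of its centralizer C extraspecial of order 2^9, C/Q the commutator subgroup of the isometry group of the hyperbolic quadratic form in dimension 8 over the field with two elements, z not weakly closed in Q), and let X be a subgroup of C of order 3 whose commutator subgroup with Q is non-abelian of order 8, contained in an elementary abelian subgroup Y of C of order 9 whose centralizer in Q is extraspecial of order 32 containing an elementary abelian subgroup of order 8. Then the centralizer of X in G is quasisimple and its quotient by X is isomorphic to the presented sporadic Suzuki group. -/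
theorem result {G : Type*} [Group G] [Finite G] (z : G) (hz : orderOf z = 2) (Q : Subgroup (Subgroup.centralizer ({z} : Set G))) [Q.Normal] (hF : Cfsg.generalizedFittingSubgroup (Subgroup.centralizer ({z} : Set G)) = Q) (hQ : Cfsg.IsExtraspecial 2 Q) (hcard : Nat.card Q = 2 ^ 9) (e : (Subgroup.centralizer ({z} : Set G)) ⧸ Q ≃* Cfsg.Omega (ZMod 2) (Cfsg.quadFormPlus 4 (ZMod 2))) (hnwc : ∃ g : G, (∃ hq : g * z * g⁻¹ ∈ Subgroup.centralizer ({z} : Set G), (⟨g * z * g⁻¹, hq⟩ : Subgroup.centralizer ({z} : Set G)) ∈ Q) ∧ g * z * g⁻¹ ≠ z) (X : Subgroup (Subgroup.centralizer ({z} : Set G))) (hX : Nat.card X = 3) (hQX : Nat.card ↥⁅Q, X⁆ = 8) (hQXna : ¬ IsMulCommutative ↥⁅Q, X⁆) (Y₉ : Subgroup (Subgroup.centralizer ({z} : Set G))) (hXY : X ≤ Y₉) (hY₉ : Nat.card Y₉ = 9) (hY₉e : ∀ y ∈ Y₉, y ^ 3 = 1) (hCQ₉ : Cfsg.IsExtraspecial 2 ↥(Q ⊓ Subgroup.centralizer (Y₉ : Set (Subgroup.centralizer ({z} : Set G))))) (hCQ₉c : Nat.card ↥(Q ⊓ Subgroup.centralizer (Y₉ : Set (Subgroup.centralizer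 ({z} : Set G)))) = 32) (hCQ₉p : ∃ A : Subgroup (Subgroup.centralizer ({z} : Set G)), A ≤ Q ⊓ Subgroup.centralizer (Y₉ : Set (Subgroup.centralizer ({z} : Set G))) ∧ Cfsg.IsElementaryAbelian 2 A ∧ Nat.card A = 8) [((X.map (Subgroup.subtype (Subgroup.centralizer ({z} : Set G)))).subgroupOf (Subgroup.centralizer ((X.map (Subgroup.subtype (Subgroup.centralizer ({z} : Set G)))) : Set G))).Normal] : Cfsg.IsQuasisimple ↥(Subgroup.centralizer ((X.map (Subgroup.subtype (Subgroup.centralizer ({z} : Set G)))) : Set G)) ∧ Cfsg.Spor.IsoSuz (↥(Subgroup.centralizer ((X.map (Subgroup.subtype (Subgroup.centralizer ({z} : Set G)))) : Set G)) ⧸ (X.map (Subgroup.subtype (Subgroup.centralizer ({z} : Set G)))).subgroupOf (Subgroup.centralizer ((X.map (Subgroup.subtype (Subgroup.centralizer ({z} : Set G)))) : Set G))) := by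
  have h := Cfsg.Agent.Spor.CoT.Three.of_statement z hz Q hF hQ hcard e hnwc X hX hQX
  obtain ⟨K, hK⟩ := h
  revert ‹((X.map (Subgroup.subtype (Subgroup.centralizer ({z} : Set G)))).subgroupOf (Subgroup.centralizer ((X.map (Subgroup.subtype (Subgroup.centralizer ({z} : Set G)))) : Set G))).Normal›
  rw [hK]
  intro _
  obtain ⟨N, hN, h1, h2, h3, ⟨e'⟩, h5⟩ := K.suzuki_setting
  haveI := hN
  have hs : Cfsg.Spor.IsoSuz (K.L ⧸ K.P) := Cfsg.Agent.S1719.result K.zb K.zb_ord N h1 h2 h3 e' h5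
  obtain ⟨φ⟩ := hs
  have hsim : IsSimpleGroup (K.L ⧸ K.P) := φ.isSimpleGroup_congr.mpr Cfsg.Agent.Spor.SuzCert.isSuz.1
  refine ⟨K.quasisimple hsim ?_, ⟨φ⟩⟩
  intro hab
  haveI := hsim
  haveI hn : (Subgroup.zpowers K.zb).Normal := ⟨fun a ha g => by rwa [hab g a, mul_inv_cancel_right]⟩
  have hcard2 : Nat.card (Subgroup.zpowers K.zb) = 2 := by rw [Nat.card_zpowers, K.zb_ord]
  rcases hn.eq_bot_or_eq_top with e0 | e0
  · rw [e0, Subgroup.card_bot] at hcard2; omega
  · rw [e0, Subgroup.card_top, Nat.card_congr φ.toEquiv, Cfsg.Agent.Spor.SuzCert.isSuz.2] at hcard2; omega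

end Cfsg.Agent.S5381
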