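import Cfsg.Statements.S5382
import Cfsg.Agent.Lib.Lie.HJType.Bridge
import Cfsg.Agent.Lib.Lie.HJType.FourNormalizer
-- import your own Cfsg.Agent.* helpers here

set_option autoImplicit false
open Cfsg

namespace Cfsg.Agent.S5382

/-- Let G be a finite group of Hall–Janko type: it has more than one class of involutions and an involution z whose centralizer C has generalized Fitting subgroup Q extraspecial of order 32 with C/Q isomorphic to the commutator subgroup of the isometry group of the elliptic quadratic form in dimension 4 over the field with two elements (the alternating group of degree 5), with z not weakly closed in Q. Then for every involution t not conjugate to z, the centralizer of t is isomorphic to the direct product of an elementary abelian group of order 4 and the alternating group of degree 5, and the normalizer of the largest normal 2-subgroup of that centralizer is isomorphic to the direct product of the alternating groups of degrees 4 and 5. -/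
theorem result {G : Type*} [Group G] [Finite G] (z : G) (hz : orderOf z = 2) (Q : Subgroup (Subgroup.centralizer ({z} : Set G))) [Q.Normal] (hF : Cfsg.generalizedFittingSubgroup (Subgroup.centralizer ({z} : Set G)) = Q) (hQ : Cfsg.IsExtraspecial 2 Q) (hcard : Nat.card Q = 2 ^ 5) (e : (Subgroup.centralizer ({z} : Set G)) ⧸ Q ≃* Cfsg.Omega (ZMod 2) (Cfsg.quadFormMinus 1 (ZMod 2) 1 1)) (hnwc : ∃ g : G, (∃ hq : g * z * g⁻¹ ∈ Subgroup.centralizer ({z} : Set G), (⟨g * z * g⁻¹, hq⟩ : Subgroup.centralizer ({z} : Set G)) ∈ Q) ∧ g * z * g⁻¹ ≠ z) (hcl : ∃ x y : G, orderOf x = 2 ∧ orderOf y = 2 ∧ ¬ IsConj x y) (t : G) (ht : orderOf t = 2) (htz : ¬ IsConj t z) : Nonempty (↥(Subgroup.centralizer ({t} : Set G)) ≃* (Multiplicative (ZMod 2) × Multiplicative (ZMod 2)) × alternatingGroup (Fin 5)) ∧ Nonempty (↥(Subgroup.normalizer (((Cfsg.pCore 2 ↥(Subgroup.centralizer ({t} : Set G))).map (Subgroup.subtype (Subgroup.centralizer ({t} : Set G))) : Subgroup G) : Set G)) ≃* alternatingGroup (Fin 4) × alternatingGroup (Fin 5)) := by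
  classical
  obtain ⟨z', Q', h', -, htz', htt, htQ⟩ :=
    Lie.HJType.at_invol (Lie.HJType.hyp_of_statement z hz Q hF hQ hcard e hnwc hcl) ht htz
  obtain ⟨V, L, K0, hVL, hV4, hV2, -, ⟨eL⟩, -, -, -, -, -, -, ⟨e4⟩, ⟨eN⟩, -⟩ :=
    Lie.HJType.four_normalizer h' htz' htt htQ
  obtain ⟨eH⟩ := Lie.HJType.prod_equiv hVL.1 hVL.2.1 hVL.2.2.1 hVL.2.2.2.1 (Lie.HJType.internal_card hVL)
  haveI : IsKleinFour V := ⟨hV4, by
    have h2 : Monoid.exponent V ∣ 2 :=
      Monoid.exponent_dvd_of_forall_pow_eq_one fun v => Subtype.ext (hV2 v v.2)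
    rcases (Nat.dvd_prime Nat.prime_two).1 h2 with h1 | h1
    · exfalso
      rw [Monoid.exp_eq_one_iff] at h1
      have := @Finite.card_le_one_iff_subsingleton V _ |>.2 h1
      omega
    · exact h1⟩
  haveI : IsKleinFour (Multiplicative (ZMod 2) × Multiplicative (ZMod 2)) :=
    ⟨by simp, by
      have h2 : Monoid.exponent (Multiplicative (ZMod 2) × Multiplicative (ZMod 2)) ∣ 2 :=
        Monoid.exponent_dvd_of_forall_pow_eq_one (by decide)
      rcases (Nat.dvd_prime Nat.prime_two).1 h2 with h1 | h1
      · exfalso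
        rw [Monoid.exp_eq_one_iff] at h1
        have := @Finite.card_le_one_iff_subsingleton (Multiplicative (ZMod 2) × Multiplicative (ZMod 2)) _ |>.2 h1
        simp at this
      · exact h1⟩
  obtain ⟨eV⟩ := IsKleinFour.nonempty_mulEquiv (G₁ := V) (G₂ := Multiplicative (ZMod 2) × Multiplicative (ZMod 2))
  refine ⟨⟨eH.trans (eV.prodCongr eL)⟩, ?_⟩
  rw [Lie.HJType.pcore_eq hVL eL hV4]
  exact ⟨eN.trans (e4.prodCongr eL)⟩

end Cfsg.Agent.S5382
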