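import Cfsg.Statements.S5385
import Cfsg.Agent.Lib.Spor.CoTypeBridge
import Cfsg.Agent.Lib.Spor.CoTypeFive.Central

set_option autoImplicit false
open Cfsg
open Cfsg.Agent.Spor.CoT

namespace Cfsg.Agent.S5385

/-- Let G be a finite group of Conway type (involution z with generalized Fitting subgroup Q of its centralizer C extraspecial of order 2^9, C/Q the commutator subgroup of the isometry group of the hyperbolic quadratic form in dimension 8 over the field with two elements, z not weakly closed in Q), and let B be a subgroup of C of order 5 such that the centralizer of B in Q is extraspecial of order 32 containing no elementary abelian subgroup of order 8 (the quaternion-times-dihedral type). Then the layer L of the centralizer of B in G is isomorphic to the Hall–Janko group and the centralizer of L is isomorphic to the alternating group of degree 5. -/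
theorem result {G : Type*} [Group G] [Finite G] (z : G) (hz : orderOf z = 2) (Q : Subgroup (Subgroup.centralizer ({z} : Set G))) [Q.Normal] (hF : Cfsg.generalizedFittingSubgroup (Subgroup.centralizer ({z} : Set G)) = Q) (hQ : Cfsg.IsExtraspecial 2 Q) (hcard : Nat.card Q = 2 ^ 9) (e : (Subgroup.centralizer ({z} : Set G)) ⧸ Q ≃* Cfsg.Omega (ZMod 2) (Cfsg.quadFormPlus 4 (ZMod 2))) (hnwc : ∃ g : G, (∃ hq : g * z * g⁻¹ ∈ Subgroup.centralizer ({z} : Set G), (⟨g * z * g⁻¹, hq⟩ : Subgroup.centralizer ({z} : Set G)) ∈ Q) ∧ g * z * g⁻¹ ≠ z) (B : Subgroup (Subgroup.centralizer ({z} : Set G))) (hB : Nat.card B = 5) (hCQ : Cfsg.IsExtraspecial 2 ↥(Q ⊓ Subgroup.centralizer (B : Set (Subgroup.centralizer ({z} : Set G))))) (hCQcard : Nat.card ↥(Q ⊓ Subgroup.centralizer (B : Set (Subgroup.centralizer ({z} : Set G)))) = 32) (hminus : ∀ A : Subgroup (Subgroup.centralizer ({z} : Set G)), A ≤ Q ⊓ Subgroup.centralizer (B : Set (Subgroup.centralizer ({z} : Set G))) → Cfsg.IsElementaryAbelian 2 A → Nat.card A ≤ 4) : Cfsg.Spor.IsoJ2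 ↥(Cfsg.layer ↥(Subgroup.centralizer ((B.map (Subgroup.subtype (Subgroup.centralizer ({z} : Set G)))) : Set G))) ∧ Nonempty (↥(Subgroup.centralizer (((Cfsg.layer ↥(Subgroup.centralizer ((B.map (Subgroup.subtype (Subgroup.centralizer ({z} : Set G)))) : Set G))).map (Subgroup.subtype _)) : Set G)) ≃* alternatingGroup (Fin 5)) := by
  classical
  have h := hyp_of_statement z hz Q hF hQ hcard e hnwc
  obtain ⟨F⟩ := exists_frame h
  haveI : Fact (Nat.Prime 5) := ⟨by norm_num⟩
  obtain ⟨b, hbB⟩ := exists_prime_orderOf_dvd_card' (G := B) 5 (by rw [hB])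
  have hbo : orderOf ((b : (Subgroup.centralizer ({z} : Set G))) : G) = 5 := by rw [Subgroup.orderOf_coe, Subgroup.orderOf_coe, hbB]
  have hBz : B.map (Subgroup.centralizer ({z} : Set G)).subtype = Subgroup.zpowers ((b : (Subgroup.centralizer ({z} : Set G))) : G) := by
    refine (Subgroup.eq_of_le_of_card_ge (Subgroup.zpowers_le.2 (Subgroup.mem_map_of_mem (Subgroup.centralizer ({z} : Set G)).subtype b.2)) ?_).symm
    rw [Subgroup.card_map_of_injective (Subgroup.centralizer ({z} : Set G)).subtype_injective, hB, Nat.card_zpowers, Subgroup.subtype_apply, hbo]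
  have hbz : Commute ((b : (Subgroup.centralizer ({z} : Set G))) : G) z := mem_C.1 (b : (Subgroup.centralizer ({z} : Set G))).2
  -- membership in the fixed part
  have memR : ∀ g : G, g ∈ (Q ⊓ Subgroup.centralizer (B : Set (Subgroup.centralizer ({z} : Set G)))).map (Subgroup.centralizer ({z} : Set G)).subtype ↔
      g ∈ (Q.map (Subgroup.centralizer ({z} : Set G)).subtype) ∧ Commute ((b : (Subgroup.centralizer ({z} : Set G))) : G) g := by
    intro g
    constructor
    · rintro ⟨q, ⟨hq, hqB⟩, rfl⟩
      exact ⟨⟨q, hq, rfl⟩, congrArg Subtype.val (Subgroup.mem_centralizer_iff.1 hqB (b : (Subgroup.centralizer ({z} : Set G))) b.2)⟩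
    · rintro ⟨⟨q, hq, rfl⟩, hc⟩
      refine ⟨q, ⟨hq, Subgroup.mem_centralizer_iff.2 fun a ha => Subtype.ext ?_⟩, rfl⟩
      have ha' : (a : G) ∈ Subgroup.zpowers ((b : (Subgroup.centralizer ({z} : Set G))) : G) := hBz ▸ ⟨a, ha, rfl⟩
      obtain ⟨m, hm⟩ := ha'
      change (a : G) * (q : G) = (q : G) * (a : G)
      rw [← show ((b : (Subgroup.centralizer ({z} : Set G))) : G) ^ m = (a : G) from hm]
      exact (Commute.zpow_left hc m).eq
  have hRc : Nat.card ↥((Q ⊓ Subgroup.centralizer (B : Set (Subgroup.centralizer ({z} : Set G)))).map (Subgroup.centralizer ({z} : Set G)).subtype) = 32 := by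
    rw [Subgroup.card_map_of_injective (Subgroup.centralizer ({z} : Set G)).subtype_injective, hCQcard]
  obtain ⟨q, hq, hq1, hqz⟩ : ∃ q ∈ (Q ⊓ Subgroup.centralizer (B : Set (Subgroup.centralizer ({z} : Set G)))).map (Subgroup.centralizer ({z} : Set G)).subtype, q ≠ 1 ∧ q ≠ z := by
    by_contra! hall
    have hle := Nat.card_mono (Set.toFinite ({1, z} : Set G)) (s := ((Q ⊓ Subgroup.centralizer (B : Set (Subgroup.centralizer ({z} : Set G)))).map (Subgroup.centralizer ({z} : Set G)).subtype : Set G))
      fun a ha => (Classical.em (a = 1)).imp id (hall a ha)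
    have h2 : Nat.card ({1, z} : Set G) ≤ 2 := by
      rw [Nat.card_coe_set_eq]
      exact (Set.ncard_insert_le _ _).trans (by rw [Set.ncard_singleton])
    have h32 : Nat.card ((((Q ⊓ Subgroup.centralizer (B : Set (Subgroup.centralizer ({z} : Set G)))).map (Subgroup.centralizer ({z} : Set G)).subtype : Subgroup G) : Set G)) = 32 := hRc
    omega
  obtain ⟨hqQ, hqb⟩ := (memR q).1 hq
  obtain ⟨F', b', P, hzp⟩ := Five.exists_five F h hbo hbz hqQ
    (fun e => ((F.vec_zero q hqQ).1 e).elim hq1 hqz) hqb
  have hcb : Subgroup.centralizer ((B.map (Subgroup.centralizer ({z} : Set G)).subtype : Subgroup G) : Set G) = Five.CB b' := by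
    rw [hBz, ← hzp]
    ext a
    simp only [Five.CB, Subgroup.mem_centralizer_iff]
    refine ⟨fun ha x hx => ?_, fun ha x hx => ?_⟩
    · rw [Set.mem_singleton_iff.1 hx]; exact ha b' (Subgroup.mem_zpowers b')
    · obtain ⟨m, rfl⟩ := hx
      exact (Commute.zpow_left (ha b' rfl) m).eq
  have hReq : (Q ⊓ Subgroup.centralizer (B : Set (Subgroup.centralizer ({z} : Set G)))).map (Subgroup.centralizer ({z} : Set G)).subtype = (Q.map (Subgroup.centralizer ({z} : Set G)).subtype) ⊓ Subgroup.centralizer ({b'} : Set G) := by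
    ext g
    rw [memR g, Subgroup.mem_inf, show Subgroup.centralizer ({b'} : Set G) = Five.CB b' from rfl, ← hcb, hBz,
      Subgroup.mem_centralizer_iff]
    refine and_congr_right fun _ => ⟨fun hc x hx => ?_, fun hc => hc _ (Subgroup.mem_zpowers _)⟩
    obtain ⟨m, rfl⟩ := hx
    exact (Commute.zpow_left hc m).eq
  obtain ⟨E⟩ := Five.exists_proj h P
    (Cfsg.Agent.Lie.HallJankoPairs.extraspecial_congr ((Subgroup.equivMapOfInjective _ _ (Subgroup.centralizer ({z} : Set G)).subtype_injective).trans
      (MulEquiv.subgroupCongr hReq)) hCQ) (hReq ▸ hRc)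
  rw [hcb, Five.layer_eq E P.pow]
  exact ⟨⟨MulEquiv.ofBijective E.σ (Five.σ_bij E P.pow)⟩, Five.central E h P⟩

end Cfsg.Agent.S5385
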