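import Cfsg.Statements.S5386
import Cfsg.Agent.Lib.Spor.CoSeven.Main
import Cfsg.Agent.Lib.Spor.CoSeven.Transport
import Cfsg.Agent.Lib.Spor.CoLocal.ThreeNorm
import Cfsg.Agent.Lib.Spor.CoAmal.Finish

set_option autoImplicit false
open Cfsg

namespace Cfsg.Agent.S5386

/-- Let G be a finite group of Conway type (involution z with generalized Fitting subgroup Q of its centralizer C extraspecial of order 2^9, C/Q the commutator subgroup of the isometry group of the hyperbolic quadratic form in dimension 8 over the field with two elements, z not weakly closed in Q). Then G has a subgroup V of order 7 whose centralizer is isomorphic to the direct product of a cyclic group of order 7 and the alternating group of degree 7, and a subgroup W of order 3 whose normalizer is isomorphic to the direct product of the symmetric group of degree 3 and the alternating group of degree 9. -/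
theorem result {G : Type*} [Group G] [Finite G] (z : G) (hz : orderOf z = 2) (Q : Subgroup (Subgroup.centralizer ({z} : Set G))) [Q.Normal] (hF : Cfsg.generalizedFittingSubgroup (Subgroup.centralizer ({z} : Set G)) = Q) (hQ : Cfsg.IsExtraspecial 2 Q) (hcard : Nat.card Q = 2 ^ 9) (e : (Subgroup.centralizer ({z} : Set G)) ⧸ Q ≃* Cfsg.Omega (ZMod 2) (Cfsg.quadFormPlus 4 (ZMod 2))) (hnwc : ∃ g : G, (∃ hq : g * z * g⁻¹ ∈ Subgroup.centralizer ({z} : Set G), (⟨g * z * g⁻¹, hq⟩ : Subgroup.centralizer ({z} : Set G)) ∈ Q) ∧ g * z * g⁻¹ ≠ z) : (∃ V : Subgroup G, Nat.card V = 7 ∧ Nonempty (↥(Subgroup.centralizer (V : Set G)) ≃* Multiplicative (ZMod 7) × alternatingGroup (Fin 7))) ∧ ∃ W : Subgroup G, Nat.card W = 3 ∧ Nonempty (↥(Subgroup.normalizer (W : Set G)) ≃* Equiv.Perm (Fin 3) × alternatingGroup (Fin 9)) := by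
  obtain ⟨e'⟩ := Cfsg.Agent.Spor.CoAmal.iso_co1 (Cfsg.Agent.Spor.CoT.hyp_of_statement z hz Q hF hQ hcard e hnwc)
  obtain ⟨h7, ⟨f7⟩⟩ := Cfsg.Agent.Spor.CoSeven.seven_centralizer
  obtain ⟨h3, ⟨f3⟩⟩ := Cfsg.Agent.Spor.CoLocal.three_normalizer
  obtain ⟨hV, ⟨gV⟩⟩ := Cfsg.Agent.Spor.CoSeven.centralizer_transport e' (Subgroup.zpowers Cfsg.Agent.Spor.CoSeven.gam1)
  obtain ⟨hW, ⟨gW⟩⟩ := Cfsg.Agent.Spor.CoSeven.normalizer_transport e'
    (Subgroup.zpowers Cfsg.Agent.Spor.CoLocal.three_ok'.beta)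
  exact ⟨⟨_, hV.trans h7, ⟨gV.trans f7⟩⟩, ⟨_, hW.trans h3, ⟨gW.trans f3⟩⟩⟩

end Cfsg.Agent.S5386
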