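import Cfsg.Statements.S5387
import Cfsg.Agent.Lib.Spor.CoverThreeFour
-- import your own Cfsg.Agent.* helpers here

set_option autoImplicit false
open Cfsg

namespace Cfsg.Agent.S5387

/-- Up to isomorphism there is at most one quasisimple group whose centre is elementary abelian of order 4 and whose central quotient is isomorphic to the projective special linear group of dimension 3 over the field with four elements: any two such groups are isomorphic. -/
theorem result {L₁ L₂ : Type*} [Group L₁] [Finite L₁] [Group L₂] [Finite L₂] (F : Type) [Field F] [Fintype F] (hF : Fintype.card F = 4) (h₁ : Cfsg.IsQuasisimple L₁) (h₂ : Cfsg.IsQuasisimple L₂) (hc₁ : Nat.card (Subgroup.center L₁) = 4) (hc₂ : Nat.card (Subgroup.center L₂) = 4) (he₁ : ∀ x ∈ Subgroup.center L₁, x * x = 1) (he₂ : ∀ x ∈ Subgroup.center L₂, x * x = 1) (e₁ : L₁ ⧸ Subgroup.center L₁ ≃* Matrix.ProjectiveSpecialLinearGroup (Fin 3) F) (e₂ : L₂ ⧸ Subgroup.center L₂ ≃* Matrix.ProjectiveSpecialLinearGroup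 (Fin 3) F) : Nonempty (L₁ ≃* L₂) := by
  classical
  let p₁ : L₁ →* Matrix.ProjectiveSpecialLinearGroup (Fin 3) F := e₁.toMonoidHom.comp (QuotientGroup.mk' _)
  let p₂ : L₂ →* Matrix.ProjectiveSpecialLinearGroup (Fin 3) F := e₂.toMonoidHom.comp (QuotientGroup.mk' _)
  have hp₁ : Function.Surjective p₁ := e₁.surjective.comp (QuotientGroup.mk'_surjective _)
  have hp₂ : Function.Surjective p₂ := e₂.surjective.comp (QuotientGroup.mk'_surjective _)
  have hk₁ : ∀ x, p₁ x = 1 ↔ x ∈ Subgroup.center L₁ := fun x =>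
    e₁.map_eq_one_iff.trans (QuotientGroup.eq_one_iff x)
  have hk₂ : ∀ x, p₂ x = 1 ↔ x ∈ Subgroup.center L₂ := fun x =>
    e₂.map_eq_one_iff.trans (QuotientGroup.eq_one_iff x)
  let P : Subgroup (L₁ × L₂) :=
    (p₁.comp (MonoidHom.fst L₁ L₂)).eqLocus (p₂.comp (MonoidHom.snd L₁ L₂))
  let q₁ : P →* L₁ := (MonoidHom.fst L₁ L₂).comp P.subtype
  let q₂ : P →* L₂ := (MonoidHom.snd L₁ L₂).comp P.subtype
  have hq₁ : Function.Surjective q₁ := fun x => by
    obtain ⟨y, hy⟩ := hp₂ (p₁ x)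
    exact ⟨⟨(x, y), hy.symm⟩, rfl⟩
  have hq₂ : Function.Surjective q₂ := fun y => by
    obtain ⟨x, hx⟩ := hp₁ (p₂ y)
    exact ⟨⟨(x, y), hx⟩, rfl⟩
  let M : Subgroup P := commutator P
  have hM₁ : M.map q₁ = ⊤ := by
    simp only [M, commutator_def, Subgroup.map_commutator, Subgroup.map_top_of_surjective _ hq₁]
    exact h₁.1.commutator_eq_top
  have hM₂ : M.map q₂ = ⊤ := by
    simp only [M, commutator_def, Subgroup.map_commutator, Subgroup.map_top_of_surjective _ hq₂]
    exact h₂.1.commutator_eq_top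
  let π : P →* Matrix.ProjectiveSpecialLinearGroup (Fin 3) F := p₁.comp q₁
  have hMπ : Function.Surjective (π.comp M.subtype) := fun g => by
    obtain ⟨x, hx⟩ := hp₁ g
    obtain ⟨u, hu, hu'⟩ := Subgroup.mem_map.mp (hM₁ ▸ Subgroup.mem_top x : x ∈ M.map q₁)
    exact ⟨⟨u, hu⟩, by simp [π, hu', hx]⟩
  have hπk : ∀ u : P, π u = 1 → u ∈ Subgroup.center P ∧ u * u = 1 := by
    intro u hu
    have a₁ : q₁ u ∈ Subgroup.center L₁ := (hk₁ _).mp hu
    have a₂ : q₂ u ∈ Subgroup.center L₂ := (hk₂ _).mp (u.2.symm.trans hu)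
    refine ⟨Subgroup.mem_center_iff.mpr fun v => ?_, ?_⟩
    · exact Subtype.ext (Prod.ext (Subgroup.mem_center_iff.mp a₁ _) (Subgroup.mem_center_iff.mp a₂ _))
    · exact Subtype.ext (Prod.ext (he₁ _ a₁) (he₂ _ a₂))
  have hperf : commutator M = ⊤ := by
    apply Subgroup.map_injective M.subtype_injective
    rw [commutator_def, Subgroup.map_commutator, ← MonoidHom.range_eq_map, Subgroup.range_subtype]
    refine le_antisymm (Subgroup.commutator_le_self M) ?_
    show ⁅(⊤ : Subgroup P), ⊤⁆ ≤ _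
    rw [Subgroup.commutator_le]
    intro a _ b _
    obtain ⟨m, hm⟩ := hMπ (π a)
    obtain ⟨n, hn⟩ := hMπ (π b)
    have ha : (m : P)⁻¹ * a ∈ Subgroup.center P :=
      (hπk _ (by rw [map_mul, map_inv, show π (m : P) = π a from hm, inv_mul_cancel])).1
    have hb : (n : P)⁻¹ * b ∈ Subgroup.center P :=
      (hπk _ (by rw [map_mul, map_inv, show π (n : P) = π b from hn, inv_mul_cancel])).1
    have e := Spor.CoverThreeFour.comm_central (m : P) (n : P) _ _ ha hb
    rw [mul_inv_cancel_left, mul_inv_cancel_left] at e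
    rw [e]
    exact Subgroup.commutator_mem_commutator m.2 n.2
  have hle := Spor.CoverThreeFour.card_ker_le_four hF (π.comp M.subtype) hMπ
    (fun z hz => Subgroup.mem_center_iff.mpr fun v => Subtype.ext
      (Subgroup.mem_center_iff.mp (hπk _ (MonoidHom.mem_ker.mp hz)).1 _))
    (fun z hz => Subtype.ext (hπk _ (MonoidHom.mem_ker.mp hz)).2) hperf
  have hcard : Nat.card M ≤ 4 * Nat.card (Matrix.ProjectiveSpecialLinearGroup (Fin 3) F) := by
    have e := Subgroup.card_mul_index (π.comp M.subtype).ker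
    rw [Subgroup.index_ker, MonoidHom.range_eq_top.mpr hMπ, Subgroup.card_top] at e
    rw [← e]
    exact Nat.mul_le_mul_right _ hle
  have s₁ : Function.Surjective (q₁.comp M.subtype) := fun x => by
    obtain ⟨u, hu, hu'⟩ := Subgroup.mem_map.mp (hM₁ ▸ Subgroup.mem_top x : x ∈ M.map q₁)
    exact ⟨⟨u, hu⟩, hu'⟩
  have s₂ : Function.Surjective (q₂.comp M.subtype) := fun x => by
    obtain ⟨u, hu, hu'⟩ := Subgroup.mem_map.mp (hM₂ ▸ Subgroup.mem_top x : x ∈ M.map q₂)
    exact ⟨⟨u, hu⟩, hu'⟩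
  have c₁ : Nat.card L₁ = 4 * Nat.card (Matrix.ProjectiveSpecialLinearGroup (Fin 3) F) := by
    rw [Subgroup.card_eq_card_quotient_mul_card_subgroup (Subgroup.center L₁), hc₁,
      Nat.card_congr e₁.toEquiv, mul_comm]
  have c₂ : Nat.card L₂ = 4 * Nat.card (Matrix.ProjectiveSpecialLinearGroup (Fin 3) F) := by
    rw [Subgroup.card_eq_card_quotient_mul_card_subgroup (Subgroup.center L₂), hc₂,
      Nat.card_congr e₂.toEquiv, mul_comm]
  have b₁ := s₁.bijective_of_nat_card_le (c₁ ▸ hcard)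
  have b₂ := s₂.bijective_of_nat_card_le (c₂ ▸ hcard)
  exact ⟨(MulEquiv.ofBijective _ b₁).symm.trans (MulEquiv.ofBijective _ b₂)⟩

end Cfsg.Agent.S5387
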