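import Cfsg.Statements.S5394
import Cfsg.Agent.Lib.Spor.GolayElemCent

set_option autoImplicit false
open Cfsg

namespace Cfsg.Agent.S5394

/-- The automorphism group of the length-24 code built from the squares modulo 23 has exactly two conjugacy classes of involutions: an involution either fixes exactly the eight points of an octad or has no fixed points, both kinds occur, and any two involutions of the same kind are conjugate in the group. -/
theorem result : (∀ g ∈ Cfsg.M24, orderOf g = 2 → (Finset.univ.filter fun p => g p = p) ∈ Cfsg.octads ∨ ∀ p, g p ≠ p) ∧ (∃ g ∈ Cfsg.M24, orderOf g = 2 ∧ (Finset.univ.filter fun p => g p = p) ∈ Cfsg.octads) ∧ (∃ g ∈ Cfsg.M24, orderOf g = 2 ∧ ∀ p, g p ≠ p) ∧ ∀ g ∈ Cfsg.M24, ∀ h ∈ Cfsg.M24, orderOf g = 2 → orderOf h = 2 → ((∀ p, g p ≠ p) ↔ (∀ p, h p ≠ p)) → ∃ k ∈ Cfsg.M24, k * g * k⁻¹ = h := by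
  have hfree := Spor.involFree_mem
  refine ⟨fun g hg h₂ => ?_, ?_, ⟨_, hfree.1, hfree.2.1, hfree.2.2⟩, fun g hg h hh h₂ h₂' hiff => ?_⟩
  · rcases Spor.invol_by_fix hg h₂ with ⟨h, -⟩ | ⟨-, h, -⟩
    exacts [Or.inr ((Spor.free_iff g).2 h), Or.inl h]
  · obtain ⟨-, -, hf, -, -⟩ := Spor.invol_ok
    refine ⟨_, Spor.lperm_mem hf, orderOf_eq_prime ?_ fun h => ?_, Spor.card_fix_invol.2.2⟩
    · refine Equiv.ext fun p => Spor.idx_injective ?_
      have h : ∀ i, i < 24 → Spor.involFixed.getD (Spor.involFixed.getD i 0) 0 = i := by decide +kernel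
      rw [pow_two, Equiv.Perm.mul_apply, ← Spor.rep_lperm (Spor.m24ok_lok hf),
        ← Spor.rep_lperm (Spor.m24ok_lok hf), h _ (Spor.idx_lt p)]
      rfl
    · have h8 := Spor.card_fix_invol.2.1
      rw [h] at h8
      exact absurd h8 (by decide +kernel)
  · exact Spor.invol_conj hg hh h₂ h₂' (by rw [← Spor.free_iff, ← Spor.free_iff]; exact hiff)

end Cfsg.Agent.S5394
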