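import Cfsg.Statements.S5396
import Cfsg.Agent.Lib.Solv.Extraspecial

set_option autoImplicit false
open Cfsg

namespace Cfsg.Agent.S5396


open scoped commutatorElement

/-- The sign character of the field with two elements. -/
def chi (a : ZMod 2) : ℤ := if a = 0 then 1 else -1

theorem chi_add : ∀ a b : ZMod 2, chi (a + b) = chi a * chi b := by decide

theorem chi_sum {ι : Type*} (s : Finset ι) (f : ι → ZMod 2) : chi (∑ i ∈ s, f i) = ∏ i ∈ s, chi (f i) := by
  classical
  induction s using Finset.induction_on with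
  | empty => simp [chi]
  | insert i s hi ih => rw [Finset.sum_insert hi, Finset.prod_insert hi, chi_add, ih]

/-- The coordinate plane. -/
abbrev Pl : Type := ZMod 2 × ZMod 2

/-- The bilinear cocycle of one plane. -/
def cell (d : ZMod 2) (a b : Pl) : ZMod 2 := a.1 * b.2 + d * (a.1 * b.1 + a.2 * b.2)

/-- The vector space. -/
abbrev Vec (n : ℕ) : Type := Fin n → Pl

variable {n : ℕ} (d : Fin n → ZMod 2)

/-- The cocycle. -/
def cocy (v w : Vec n) : ZMod 2 := ∑ i, cell (d i) (v i) (w i)

theorem cocy_add_left (u v w : Vec n) : cocy d (u + v) w = cocy d u w + cocy d v w := by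
  simp only [cocy, cell, Pi.add_apply, Prod.fst_add, Prod.snd_add, ← Finset.sum_add_distrib]
  exact Finset.sum_congr rfl fun i _ => by ring

theorem cocy_add_right (u v w : Vec n) : cocy d u (v + w) = cocy d u v + cocy d u w := by
  simp only [cocy, cell, Pi.add_apply, Prod.fst_add, Prod.snd_add, ← Finset.sum_add_distrib]
  exact Finset.sum_congr rfl fun i _ => by ring

theorem cocy_zero_left (w : Vec n) : cocy d 0 w = 0 := by simp [cocy, cell]

theorem cocy_zero_right (w : Vec n) : cocy d w 0 = 0 := by simp [cocy, cell]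

/-- The group. -/
@[ext] structure Ext where
  /-- the vector -/
  v : Vec n
  /-- the central part -/
  z : ZMod 2

/-- The underlying pairs. -/
def eqv : Ext (n := n) ≃ Vec n × ZMod 2 where
  toFun g := (g.v, g.z)
  invFun g := ⟨g.1, g.2⟩

/-- The group with the given cocycle. -/
def Grp (_ : Fin n → ZMod 2) : Type := Ext (n := n)

theorem vneg (v : Vec n) : v + v = 0 := by
  funext i; exact Prod.ext (CharTwo.add_self_eq_zero _) (CharTwo.add_self_eq_zero _)

instance : Mul (Grp d) := ⟨fun g h => ⟨g.v + h.v, g.z + h.z + cocy d g.v h.v⟩⟩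
instance : One (Grp d) := ⟨⟨0, 0⟩⟩
instance : Inv (Grp d) := ⟨fun g => ⟨g.v, g.z + cocy d g.v g.v⟩⟩
instance : Finite (Grp d) := Finite.of_equiv _ (eqv (n := n)).symm

theorem mul_v (g h : Grp d) : (g * h).v = g.v + h.v := rfl
theorem mul_z (g h : Grp d) : (g * h).z = g.z + h.z + cocy d g.v h.v := rfl
theorem one_v : (1 : Grp d).v = 0 := rfl
theorem one_z : (1 : Grp d).z = 0 := rfl

instance : Group (Grp d) where
  mul_assoc a b c := by
    apply Ext.ext
    · simp only [mul_v, add_assoc]
    · simp only [mul_z, mul_v, cocy_add_left, cocy_add_right]; ring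
  one_mul a := by
    apply Ext.ext
    · simp only [mul_v, one_v, zero_add]
    · simp only [mul_z, one_z, one_v, cocy_zero_left, zero_add, add_zero]
  mul_one a := by
    apply Ext.ext
    · simp only [mul_v, one_v, add_zero]
    · simp only [mul_z, one_z, one_v, cocy_zero_right, add_zero]
  inv_mul_cancel a := by
    apply Ext.ext
    · exact vneg a.v
    · show a.z + cocy d a.v a.v + a.z + cocy d a.v a.v = 0
      rw [show a.z + cocy d a.v a.v + a.z + cocy d a.v a.v =
        (a.z + cocy d a.v a.v) + (a.z + cocy d a.v a.v) by ring]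
      exact CharTwo.add_self_eq_zero _

/-- The commutator form. -/
def form (v w : Vec n) : ZMod 2 := cocy d v w + cocy d w v

theorem commute_iff (g h : Grp d) : g * h = h * g ↔ form d g.v h.v = 0 := by
  rw [form, CharTwo.add_eq_zero]
  constructor
  · intro e
    have := congrArg Ext.z e
    rw [mul_z, mul_z, add_comm h.z g.z] at this
    exact add_left_cancel this
  · intro e
    apply Ext.ext
    · exact add_comm _ _
    · rw [mul_z, mul_z, e, add_comm h.z g.z]

theorem form_add_right (u v w : Vec n) : form d u (v + w) = form d u v + form d u w := by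
  simp only [form, cocy_add_left, cocy_add_right]; ring

theorem sum_chi_form (w : Vec n) (hw : w ≠ 0) : ∑ v : Vec n, chi (form d v w) = 0 := by
  obtain ⟨i, hi⟩ : ∃ i, w i ≠ 0 := by
    by_contra h; push Not at h; exact hw (funext h)
  have e : ∀ v : Vec n, chi (form d v w) =
      ∏ j, chi (cell (d j) (v j) (w j) + cell (d j) (w j) (v j)) := fun v => by
    rw [form, cocy, cocy, ← Finset.sum_add_distrib, chi_sum]
  simp only [e]
  rw [← Fintype.prod_sum (fun j p => chi (cell (d j) p (w j) + cell (d j) (w j) p))]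
  refine Finset.prod_eq_zero (Finset.mem_univ i) ?_
  exact (show ∀ (c : ZMod 2) (a : Pl), a ≠ 0 → ∑ p : Pl, chi (cell c p a + cell c a p) = 0 by
    decide) _ _ hi

theorem exists_form_one (v : Vec n) (hv : v ≠ 0) : ∃ w, form d w v = 1 := by
  by_contra h
  have h1 : ∀ w, form d w v = 0 := fun w =>
    ((show ∀ a : ZMod 2, a ≠ 1 → a = 0 by decide) _ (fun e => h ⟨w, e⟩))
  have := sum_chi_form d v hv
  simp [h1, chi] at this

theorem eq_one_of_ne_zero : ∀ a : ZMod 2, a ≠ 0 → a = 1 := by decide

theorem extraspecial (hn : 1 ≤ n) : Cfsg.IsExtraspecial 2 (Grp d) ∧ Nat.card (Grp d) = 2 ^ (2 * n + 1) := by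
  have : Fact (Nat.Prime 2) := ⟨Nat.prime_two⟩
  have hcard : Nat.card (Grp d) = 2 ^ (2 * n + 1) := by
    rw [show Nat.card (Grp d) = Nat.card (Vec n × ZMod 2) from Nat.card_congr (eqv (n := n))]
    simp only [Nat.card_eq_fintype_card, Fintype.card_prod, Fintype.card_fun, ZMod.card, Fintype.card_fin]
    rw [pow_succ, pow_mul]; norm_num
  refine ⟨?_, hcard⟩
  have hc : ∀ g : Grp d, g ∈ Subgroup.center (Grp d) ↔ g.v = 0 := by
    intro g
    rw [Subgroup.mem_center_iff]
    constructor
    · intro h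
      by_contra hv
      obtain ⟨w, hw⟩ := exists_form_one d g.v hv
      have := (commute_iff d ⟨w, 0⟩ g).1 (h _)
      exact one_ne_zero (hw.symm.trans this)
    · intro h k
      rw [commute_iff, h, form, cocy_zero_left, cocy_zero_right, add_zero]
  refine Cfsg.Agent.Solv.isExtraspecial_of (IsPGroup.of_card hcard) ?_ ?_ ?_
  · have e : ↥(Subgroup.center (Grp d)) ≃ ZMod 2 :=
      { toFun := fun g => g.1.z
        invFun := fun z => ⟨⟨0, z⟩, (hc _).2 rfl⟩
        left_inv := fun g => Subtype.ext (Ext.ext ((hc g.1).1 g.2).symm rfl)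
        right_inv := fun z => rfl }
    rw [Nat.card_congr e, Nat.card_eq_fintype_card, ZMod.card]
  · refine le_antisymm ?_ ?_
    · rw [commutator_def, Subgroup.commutator_le]
      intro a _ b _
      rw [hc, commutatorElement_def]
      show a.v + b.v + a.v + b.v = 0
      rw [show a.v + b.v + a.v + b.v = (a.v + b.v) + (a.v + b.v) by abel]
      exact vneg _
    · intro g hg
      rw [hc] at hg
      by_cases h1 : g = 1
      · rw [h1]; exact one_mem _
      obtain ⟨u, hne⟩ : ∃ u : Vec n, u ≠ 0 :=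
        ⟨fun _ => (1, 0), fun h => one_ne_zero (congrArg Prod.fst (congrFun h ⟨0, hn⟩))⟩
      obtain ⟨w, hw⟩ := exists_form_one d _ hne
      let a : Grp d := ⟨w, 0⟩
      let b : Grp d := ⟨u, 0⟩
      have hgz : g.z = 1 := by
        exact eq_one_of_ne_zero _ fun h => h1 (Ext.ext hg h)
      suffices e : ⁅a, b⁆ = g by
        rw [← e]; exact Subgroup.commutator_mem_commutator (Subgroup.mem_top _) (Subgroup.mem_top _)
      have key : a * b = g * (b * a) := by
        apply Ext.ext
        · show a.v + b.v = g.v + (b.v + a.v); rw [hg, zero_add, add_comm]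
        · show a.z + b.z + cocy d a.v b.v = g.z + (b.z + a.z + cocy d b.v a.v) + cocy d g.v (b.v + a.v)
          rw [hg, cocy_zero_left, hgz]
          simp only [a, b]
          rw [form] at hw
          simp only [zero_add, add_zero]
          rw [← hw, add_assoc, CharTwo.add_self_eq_zero, add_zero]
      rw [commutatorElement_def, key]; group
  · intro x
    rw [hc, pow_two]; exact vneg _

theorem bound (S : ℤ) (hS : ∑ v : Vec n, chi (cocy d v v) = S) (hS2 : |S| = 2 ^ n)
    (A : Subgroup (Grp d)) (hA : Cfsg.IsElementaryAbelian 2 A) (k : ℕ) (hk : Nat.card A = 2 ^ k) :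
    k ≤ n + 1 ∧ (S < 0 → k ≤ n) := by
  classical
  obtain ⟨hcom, hsq⟩ := hA
  let W : Finset (Vec n) := (Set.toFinite ((fun g : Grp d => g.v) '' (A : Set (Grp d)))).toFinset
  have hW : ∀ {v}, v ∈ W ↔ ∃ g ∈ A, g.v = v := fun {v} => by simp [W]
  have hWQ : ∀ w ∈ W, cocy d w w = 0 := by
    intro w hw
    obtain ⟨g, hg, rfl⟩ := hW.1 hw
    have := congrArg Ext.z (hsq g hg)
    rw [pow_two, mul_z, one_z, CharTwo.add_self_eq_zero, zero_add] at this
    exact this
  have hWB : ∀ v ∈ W, ∀ w ∈ W, form d v w = 0 := by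
    intro v hv w hw
    obtain ⟨g, hg, rfl⟩ := hW.1 hv
    obtain ⟨h, hh, rfl⟩ := hW.1 hw
    exact (commute_iff d g h).1 (congrArg Subtype.val (hcom.is_comm.comm ⟨g, hg⟩ ⟨h, hh⟩))
  have hWadd : ∀ v ∈ W, ∀ w ∈ W, v + w ∈ W := by
    intro v hv w hw
    obtain ⟨g, hg, rfl⟩ := hW.1 hv
    obtain ⟨h, hh, rfl⟩ := hW.1 hw
    exact hW.2 ⟨g * h, A.mul_mem hg hh, rfl⟩
  have hW0 : (0 : Vec n) ∈ W := hW.2 ⟨1, A.one_mem, rfl⟩
  have hAW : Nat.card A ≤ W.card * 2 := by
    let f : ↥A → ↥W × ZMod 2 := fun g => (⟨g.1.v, hW.2 ⟨g.1, g.2, rfl⟩⟩, g.1.z)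
    have := Nat.card_le_card_of_injective f (fun g h e => by
      simp only [f, Prod.mk.injEq, Subtype.mk.injEq] at e
      exact Subtype.ext (Ext.ext e.1 e.2))
    simpa [Nat.card_eq_fintype_card] using this
  set P : Finset (Vec n) := Finset.univ.filter (fun v => ∀ w ∈ W, form d v w = 0) with hP
  have hin : ∀ v, ∑ w ∈ W, chi (form d v w) = if v ∈ P then (W.card : ℤ) else 0 := by
    intro v
    split_ifs with hv
    · rw [hP, Finset.mem_filter] at hv
      rw [Finset.sum_congr rfl (fun w hw => by rw [hv.2 w hw])]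
      simp [chi]
    · rw [hP, Finset.mem_filter, not_and] at hv
      have hv' := hv (Finset.mem_univ _)
      push Not at hv'
      obtain ⟨w0, hw0, hne⟩ := hv'
      have h1 : ∑ w ∈ W, chi (form d v w) = ∑ w ∈ W, chi (form d v (w + w0)) := by
        refine Finset.sum_bij' (fun w _ => w + w0) (fun w _ => w + w0) (fun w hw => hWadd w hw w0 hw0)
          (fun w hw => hWadd w hw w0 hw0) ?_ ?_ ?_
        · intro w _; rw [add_assoc, vneg, add_zero]
        · intro w _; rw [add_assoc, vneg, add_zero]
        · intro w _; rw [add_assoc, vneg, add_zero]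
      have h2 : chi (form d v w0) = -1 := if_neg hne
      simp only [form_add_right, chi_add, h2, mul_neg, mul_one, Finset.sum_neg_distrib] at h1
      omega
  have hcount : (W.card : ℤ) * P.card = 4 ^ n := by
    have h1 : ∑ v : Vec n, ∑ w ∈ W, chi (form d v w) = (W.card : ℤ) * P.card := by
      simp only [hin, Finset.sum_ite_mem, Finset.univ_inter, Finset.sum_const, nsmul_eq_mul]
      ring
    rw [← h1, Finset.sum_comm, Finset.sum_eq_single (0 : Vec n) (fun w _ hw => sum_chi_form d w hw)
      (fun h => absurd hW0 h)]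
    simp [form, cocy_zero_left, cocy_zero_right, chi, Fintype.card_fun]
  have hSP : S = ∑ v ∈ P, chi (cocy d v v) := by
    have hWpos : (W.card : ℤ) ≠ 0 := by
      have := Finset.card_pos.2 ⟨0, hW0⟩
      exact_mod_cast this.ne'
    refine mul_left_cancel₀ hWpos ?_
    have e1 : ∀ w ∈ W, ∑ v : Vec n, chi (cocy d v v) * chi (form d v w) = S := by
      intro w hw
      rw [← hS]
      refine Fintype.sum_equiv (Equiv.addRight w) _ _ fun v => ?_
      rw [Equiv.coe_addRight, cocy_add_left, cocy_add_right, cocy_add_right, hWQ w hw, add_zero,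
        ← chi_add, form, add_assoc]
    calc (W.card : ℤ) * S = ∑ w ∈ W, ∑ v : Vec n, chi (cocy d v v) * chi (form d v w) := by
          rw [Finset.sum_congr rfl e1, Finset.sum_const, nsmul_eq_mul]
      _ = ∑ v : Vec n, chi (cocy d v v) * ∑ w ∈ W, chi (form d v w) := by
          rw [Finset.sum_comm]; simp only [Finset.mul_sum]
      _ = _ := by
          simp only [hin, mul_ite, mul_zero, Finset.sum_ite_mem, Finset.univ_inter, ← Finset.sum_mul]
          ring
  have hle : (2 : ℤ) ^ n ≤ P.card := by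
    rw [← hS2, hSP]
    refine (Finset.abs_sum_le_sum_abs _ _).trans ?_
    rw [Finset.card_eq_sum_ones, Nat.cast_sum]
    refine Finset.sum_le_sum fun v _ => ?_
    rcases (show ∀ a : ZMod 2, chi a = 1 ∨ chi a = -1 by decide) (cocy d v v) with e | e <;> simp [e]
  have h4 : (4 : ℤ) ^ n = 2 ^ n * 2 ^ n := by rw [← mul_pow]; norm_num
  have hWn : (W.card : ℤ) ≤ 2 ^ n := by
    refine le_of_mul_le_mul_right ?_ (show (0 : ℤ) < 2 ^ n by positivity)
    calc (W.card : ℤ) * 2 ^ n ≤ W.card * P.card := by gcongr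
      _ = _ := by rw [hcount, h4]
  have hkn : (2 : ℤ) ^ k ≤ W.card * 2 := by rw [hk] at hAW; exact_mod_cast hAW
  have hkn1 : k ≤ n + 1 := by
    refine (Nat.pow_le_pow_iff_right (le_refl 2)).1 ?_
    have : (2 : ℤ) ^ k ≤ 2 ^ (n + 1) := by rw [pow_succ]; linarith
    exact_mod_cast this
  refine ⟨hkn1, fun hneg => ?_⟩
  by_contra hk'
  have hk1 : k = n + 1 := by omega
  rw [hk1, pow_succ] at hkn
  have hWe : (W.card : ℤ) = 2 ^ n := by linarith
  have hPe : (P.card : ℤ) = 2 ^ n := by
    rw [hWe, h4] at hcount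
    exact mul_left_cancel₀ (by positivity) hcount
  have hWP : W = P := Finset.eq_of_subset_of_card_le
    (fun v hv => by rw [hP, Finset.mem_filter]; exact ⟨Finset.mem_univ _, hWB v hv⟩)
    (by exact_mod_cast (hPe.trans hWe.symm).le)
  rw [← hWP, Finset.sum_congr rfl (fun v hv => by rw [hWQ v hv])] at hSP
  simp [chi] at hSP
  omega

theorem exists_elem {m : ℕ} (f : (Fin m → ZMod 2) →+ Vec n) (hf : Function.Injective f)
    (hQ : ∀ a b, cocy d (f a) (f b) = 0) :
    ∃ A : Subgroup (Grp d), Cfsg.IsElementaryAbelian 2 A ∧ Nat.card A = 2 ^ (m + 1) := by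
  let φ : Multiplicative ((Fin m → ZMod 2) × ZMod 2) →* Grp d :=
    { toFun := fun x => ⟨f x.toAdd.1, x.toAdd.2⟩
      map_one' := Ext.ext (map_zero f) rfl
      map_mul' := fun x y => by
        apply Ext.ext
        · exact map_add f _ _
        · show x.toAdd.2 + y.toAdd.2 = x.toAdd.2 + y.toAdd.2 + cocy d (f x.toAdd.1) (f y.toAdd.1)
          rw [hQ, add_zero] }
  have hφ : Function.Injective φ := fun x y e =>
    Multiplicative.toAdd.injective (Prod.ext (hf (congrArg Ext.v e)) (congrArg Ext.z e))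
  refine ⟨φ.range, ⟨⟨⟨?_⟩⟩, ?_⟩, ?_⟩
  · rintro ⟨_, x, rfl⟩ ⟨_, y, rfl⟩
    refine Subtype.ext ?_
    show φ x * φ y = φ y * φ x
    rw [← map_mul, mul_comm, map_mul]
  · rintro a ⟨x, rfl⟩
    rw [← map_pow, show x ^ 2 = 1 from Multiplicative.toAdd.injective (by
      rw [toAdd_pow, toAdd_one, two_nsmul]
      exact Prod.ext (funext fun i => CharTwo.add_self_eq_zero _) (CharTwo.add_self_eq_zero _)), map_one]
  · rw [← Nat.card_congr (MonoidHom.ofInjective hφ).toEquiv]
    simp [Nat.card_eq_fintype_card, Fintype.card_prod, pow_succ]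


/-- For every n ≥ 1 there exist finite extraspecial 2-groups of order 2^(2n+1) whose 2-rank (the largest rank of an elementary abelian subgroup) is n, and ones whose 2-rank is n + 1 (so for each such order there are two non-isomorphic extraspecial 2-groups, told apart by their 2-rank). -/
theorem result (n : ℕ) (hn : 1 ≤ n) : ∀ r ∈ ({n, n + 1} : Set ℕ), ∃ (E : Type) (_ : Group E) (_ : Finite E), Cfsg.IsExtraspecial 2 E ∧ Nat.card E = 2 ^ (2 * n + 1) ∧ sSup {k : ℕ | ∃ A : Subgroup E, Cfsg.IsElementaryAbelian 2 A ∧ Nat.card A = 2 ^ k} = r := by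
  classical
  obtain ⟨m, rfl⟩ : ∃ m, n = m + 1 := ⟨n - 1, by omega⟩
  intro r hr
  suffices H : ∃ d : Fin (m + 1) → ZMod 2, IsGreatest {k : ℕ | ∃ A : Subgroup (Grp d),
      Cfsg.IsElementaryAbelian 2 A ∧ Nat.card A = 2 ^ k} r by
    obtain ⟨d, hd⟩ := H
    exact ⟨Grp d, inferInstance, inferInstance, (extraspecial d hn).1, (extraspecial d hn).2, hd.csSup_eq⟩
  have hS : ∀ d : Fin (m + 1) → ZMod 2, (∑ v : Vec (m + 1), chi (cocy d v v)) =
      ∏ i, ∑ p : Pl, chi (cell (d i) p p) := fun d => by
    rw [Fintype.prod_sum (fun i p => chi (cell (d i) p p))]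
    exact Finset.sum_congr rfl fun v _ => chi_sum _ _
  have hcell : ∀ c : ZMod 2, ∑ p : Pl, chi (cell c p p) = if c = 0 then 2 else -2 := by decide
  simp only [Set.mem_insert_iff, Set.mem_singleton_iff] at hr
  rcases hr with rfl | rfl
  · refine ⟨Fin.cons 1 0, ?_, ?_⟩
    · let f : (Fin m → ZMod 2) →+ Vec (m + 1) :=
        { toFun := fun a => Fin.cons 0 (fun i => (a i, 0))
          map_zero' := by funext i; cases i using Fin.cases <;> simp
          map_add' := fun a b => by funext i; cases i using Fin.cases <;> simp }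
      refine exists_elem _ f (fun a b e => funext fun i => ?_) (fun a b => ?_)
      · exact congrArg Prod.fst (congrFun e i.succ)
      · simp [f, cocy, cell, Fin.sum_univ_succ]
    · rintro k ⟨A, hA, hk⟩
      have e := hS (Fin.cons 1 0)
      rw [Fin.prod_univ_succ] at e
      simp only [Fin.cons_zero, Fin.cons_succ, Pi.zero_apply, hcell, if_true, one_ne_zero, if_false,
        Finset.prod_const, Finset.card_univ, Fintype.card_fin] at e
      refine (bound _ _ e ?_ A hA k hk).2 ?_
      · rw [abs_mul, abs_pow]; norm_num [pow_succ']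
      · have : (0 : ℤ) < 2 ^ m := by positivity
        linarith
  · refine ⟨0, ?_, ?_⟩
    · let f : (Fin (m + 1) → ZMod 2) →+ Vec (m + 1) :=
        { toFun := fun a i => (a i, 0)
          map_zero' := rfl
          map_add' := fun a b => by funext i; simp }
      exact exists_elem _ f (fun a b e => funext fun i => congrArg Prod.fst (congrFun e i))
        (fun a b => by simp [f, cocy, cell])
    · rintro k ⟨A, hA, hk⟩
      have e := hS 0
      simp only [Pi.zero_apply, hcell, if_true, Finset.prod_const, Finset.card_univ, Fintype.card_fin] at e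
      exact (bound _ _ e (by rw [abs_pow]; norm_num) A hA k hk).1

end Cfsg.Agent.S5396
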