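import Cfsg.Statements.S5398
import Cfsg.Agent.Lib.Spor.M22UInvClassesEx

set_option autoImplicit false
open Cfsg

namespace Cfsg.Agent.S5398

/-- Let G be a finite group with trivial centre generated by a conjugation-invariant set D of 3-transpositions on which it acts primitively, such that for some d in D the subgroup generated by the members of D other than d commuting with d has central largest normal 2- and 3-subgroups, and suppose G with D is of type M(22). Then G has exactly 3 conjugacy classes of involutions: every involution is a product of m distinct pairwise commuting members of D for some m between 1 and 3; for each such m these products form one non-empty conjugacy class; and the value of m is determined by the involution. -/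
theorem result {G : Type*} [Group G] [Finite G] {D : Set G} (hD : Cfsg.IsThreeTranspositionGroup D) (hprim : Cfsg.IsPrimitiveUnderConj D) (d : G) (hd : d ∈ D) (h3 : Cfsg.pCore 3 ↥(Subgroup.closure {y : G | y ∈ D ∧ y ≠ d ∧ Commute d y}) ≤ Subgroup.center ↥(Subgroup.closure {y : G | y ∈ D ∧ y ≠ d ∧ Commute d y})) (h2 : Cfsg.pCore 2 ↥(Subgroup.closure {y : G | y ∈ D ∧ y ≠ d ∧ Commute d y}) ≤ Subgroup.center ↥(Subgroup.closure {y : G | y ∈ D ∧ y ≠ d ∧ Commute d y})) (ht : Cfsg.IsOfTypeM22 G D) : (∀ x : G, orderOf x = 2 → ∃ m : ℕ, 1 ≤ m ∧ m ≤ 3 ∧ (∃ l : List G, l.Nodup ∧ l.length = m ∧ (∀ a ∈ l, a ∈ D) ∧ (∀ a ∈ l, ∀ b ∈ l, Commute a b) ∧ l.prod = x)) ∧ (∀ m : ℕ, 1 ≤ m → m ≤ 3 → (∃ x : G, orderOf x = 2 ∧ (∃ l : List G, l.Nodup ∧ l.length = m ∧ (∀ a ∈ l, a ∈ D) ∧ (∀ a ∈ l, ∀ b ∈ l, Commute a b) ∧ l.prod = x)) ∧ ∀ x y : G, (∃ l : List G, l.Nodup ∧ l.length = m ∧ (∀ a ∈ l, a ∈ D) ∧ (∀ a ∈ l, ∀ b ∈ l,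 Commute a b) ∧ l.prod = x) → (∃ l : List G, l.Nodup ∧ l.length = m ∧ (∀ a ∈ l, a ∈ D) ∧ (∀ a ∈ l, ∀ b ∈ l, Commute a b) ∧ l.prod = y) → IsConj x y) ∧ ∀ (m m' : ℕ) (x : G), 1 ≤ m → m ≤ 3 → 1 ≤ m' → m' ≤ 3 → (∃ l : List G, l.Nodup ∧ l.length = m ∧ (∀ a ∈ l, a ∈ D) ∧ (∀ a ∈ l, ∀ b ∈ l, Commute a b) ∧ l.prod = x) → (∃ l : List G, l.Nodup ∧ l.length = m' ∧ (∀ a ∈ l, a ∈ D) ∧ (∀ a ∈ l, ∀ b ∈ l, Commute a b) ∧ l.prod = x) → m = m' := by
  refine ⟨fun x hx => ?_, fun m hm1 hm3 => ⟨?_, ?_⟩, ?_⟩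
  · obtain ⟨l, ⟨hn, hmem, hcom⟩, h1, h3', hp⟩ := Cfsg.Agent.Spor.M22U.InvClasses.exists_good hD hprim ht hx
    exact ⟨l.length, h1, h3', l, hn, rfl, hmem, hcom, hp⟩
  · obtain ⟨l, hl, hlen⟩ := Cfsg.Agent.Spor.M22U.InvClassesEx.exists_list hD hprim ht hm1 hm3
    refine ⟨l.prod, Cfsg.Agent.Spor.M22U.InvClassesEx.order_two hD hprim ht hl (by omega) (by omega),
      l, hl.1, hlen, hl.2.1, hl.2.2, rfl⟩
  · rintro x y ⟨l, hn, hlen, hmem, hcom, rfl⟩ ⟨l', hn', hlen', hmem', hcom', rfl⟩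
    exact Cfsg.Agent.Spor.M22U.InvClasses.good_conj hD hprim ht ⟨hn, hmem, hcom⟩ ⟨hn', hmem', hcom'⟩
      (hlen.trans hlen'.symm) (by omega) (by omega)
  · rintro m m' x hm1 hm3 hm1' hm3' ⟨l, hn, hlen, hmem, hcom, rfl⟩ ⟨l', hn', hlen', hmem', hcom', hp⟩
    have f1 := Cfsg.Agent.Spor.M22U.InvClasses.fx_good hD hprim ht (l := l) ⟨hn, hmem, hcom⟩ (by omega) (by omega)
    have f2 := Cfsg.Agent.Spor.M22U.InvClasses.fx_good hD hprim ht (l := l') ⟨hn', hmem', hcom'⟩ (by omega) (by omega)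
    rw [hp, f1, hlen, hlen'] at f2
    interval_cases m <;> interval_cases m' <;> first | rfl | (exact absurd f2 (by decide))

end Cfsg.Agent.S5398
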