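import Cfsg.Statements.S5405
import Cfsg.Agent.Lib.Small.OrthH1Two
import Cfsg.Agent.Lib.Classical.OrthForms

set_option autoImplicit false
open scoped MatrixGroups
open Cfsg

namespace Cfsg.Agent.S5405

open Cfsg.Agent.Small.OrthH1Two
open Cfsg.Agent.Classical (OCount.PND)

local notation "ιm" m => (Fin m ⊕ Fin m) ⊕ Fin 2

def posMinus (m : ℕ) : ((Fin m ⊕ Fin m) ⊕ Fin 2) → ℕ :=
  Sum.elim (Sum.elim (fun i => i.val) (fun i => m + i.val)) (fun j => 2 * m + j.val)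

def posPlus (m : ℕ) : (Fin m ⊕ Fin m) → ℕ := Sum.elim (fun i => i.val) (fun i => m + i.val)

def dec {ι : Type} (pos : ι → ℕ) (c : ℕ) : ι → ZMod 2 := fun i => if c.testBit (pos i) then 1 else 0

def enc {ι : Type} [Fintype ι] (pos : ι → ℕ) (v : ι → ZMod 2) : ℕ := ∑ i, (v i).val * 2 ^ pos i

theorem dec_surj {ι : Type} [Fintype ι] [DecidableEq ι] (pos : ι → ℕ) (N : ℕ)
    (hN : N = 2 ^ Fintype.card ι) (h : ∀ c : Fin N, enc pos (dec pos c.val) = c.val) (v : ι → ZMod 2) :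
    ∃ c : Fin N, dec pos c.val = v := by
  have hinj : Function.Injective fun c : Fin N => dec pos c.val := fun a b e =>
    Fin.ext (by rw [← h a, ← h b]; exact congrArg (enc pos) e)
  exact ((Fintype.bijective_iff_injective_and_card _).2 ⟨hinj, by simp [hN, ZMod.card]⟩).2 v

def S4 : Fin 4 → ℕ := ![3, 5, 8, 4]
def D4 : Fin 4 → ℕ := ![1, 3, 4, 11]
def par4 : Fin 4 → Fin 4 := ![0, 0, 1, 2]
def L4 : List (ℕ × ℕ × Fin 4) :=
  [(6, 3, 1), (13, 5, 2), (12, 8, 3), (14, 6, 2), (9, 13, 3), (10, 14, 3)]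
def S6 : Fin 6 → ℕ := ![5, 11, 18, 10, 7, 32]
def D6 : Fin 6 → ℕ := ![43, 5, 32, 7, 42, 16]
def par6 : Fin 6 → Fin 6 := ![0, 0, 1, 2, 3, 2]
def L6 : List (ℕ × ℕ × Fin 6) :=
  [(14, 5, 1), (25, 11, 2), (24, 18, 3), (50, 18, 5), (13, 10, 4), (28, 14, 2), (19, 25, 3), (57, 25, 5),
   (31, 24, 4), (56, 24, 5), (22, 28, 3), (60, 28, 5), (20, 19, 4), (51, 19, 5), (63, 31, 5), (17, 22, 4),
   (54, 22, 5), (52, 20, 5), (33, 51, 2), (49, 17, 5), (36, 54, 2), (38, 52, 2), (35, 49, 2), (47, 36, 1),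
   (44, 38, 3), (40, 35, 1), (41, 35, 3), (34, 40, 3), (48, 34, 2), (16, 48, 5)]
def S8 : Fin 8 → ℕ := ![17, 35, 21, 68, 23, 34, 27, 162]
def D8 : Fin 8 → ℕ := ![197, 17, 230, 4, 162, 27, 128, 8]
def par8 : Fin 8 → Fin 8 := ![0, 0, 1, 2, 3, 4, 5, 4]
def L8 : List (ℕ × ℕ × Fin 8) :=
  [(50, 17, 1), (54, 35, 2), (81, 21, 3), (83, 68, 4), (53, 23, 5), (181, 23, 7), (57, 34, 6), (39, 50, 2),
   (114, 54, 3), (70, 81, 4), (113, 83, 5), (241, 83, 7), (46, 53, 6), (151, 53, 7), (99, 39, 3), (101, 114, 4),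
   (100, 70, 5), (228, 70, 7), (106, 113, 6), (211, 113, 7), (140, 46, 7), (116, 99, 4), (71, 101, 5), (199, 101, 7),
   (127, 100, 6), (198, 100, 7), (200, 106, 7), (196, 211, 4), (86, 116, 5), (214, 116, 7), (92, 71, 6), (229, 71, 7),
   (221, 127, 7), (209, 198, 4), (223, 200, 4), (77, 86, 6), (244, 86, 7), (254, 92, 7), (242, 229, 4), (202, 221, 4),
   (149, 209, 3), (253, 223, 5), (239, 77, 7), (227, 244, 4), (233, 254, 4), (182, 242, 3), (142, 202, 3), (232, 202, 5),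
   (248, 239, 4), (167, 227, 3), (173, 233, 3), (203, 233, 5), (163, 182, 2), (172, 142, 5), (188, 248, 3), (218, 248, 5),
   (178, 167, 2), (184, 173, 2), (143, 173, 5), (187, 172, 4), (169, 188, 2), (158, 188, 5), (145, 178, 1), (154, 184, 5),
   (152, 143, 4), (25, 187, 7), (138, 169, 1), (139, 169, 5), (137, 158, 4), (141, 154, 4), (58, 152, 7), (168, 138, 5),
   (156, 139, 4), (43, 137, 7), (201, 141, 3), (47, 141, 7), (191, 168, 4), (216, 156, 3), (62, 156, 7), (107, 201, 7),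
   (251, 191, 3), (29, 191, 7), (122, 216, 7), (124, 107, 4), (238, 251, 2), (89, 251, 7), (109, 122, 4), (94, 124, 5),
   (76, 238, 7), (78, 89, 4), (79, 109, 5), (69, 94, 6), (91, 76, 4), (108, 78, 5), (84, 79, 6), (31, 91, 3),
   (121, 91, 5), (119, 108, 6), (61, 31, 5), (98, 121, 6), (42, 61, 4), (38, 61, 6), (49, 42, 6), (136, 42, 7),
   (19, 49, 5), (147, 49, 7), (177, 19, 7), (166, 177, 4), (226, 166, 3), (247, 226, 2), (212, 247, 1), (197, 212, 0)]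

/-- The form on a coordinate space, as a quadratic form. -/
noncomputable def QM (m : ℕ) : QuadraticForm (ZMod 2) (((Fin m ⊕ Fin m) ⊕ Fin 2) → ZMod 2) :=
  Cfsg.Agent.Classical.OOmega.formOf m (Equiv.refl _) (Cfsg.Agent.Classical.OCount.planeForm 1 1)

noncomputable def QP (m : ℕ) : QuadraticForm (ZMod 2) ((Fin m ⊕ Fin m) → ZMod 2) :=
  Cfsg.Agent.Classical.OOmega.formOf m (Equiv.sumEmpty (Fin m ⊕ Fin m) Empty).symm
    (0 : QuadraticForm (ZMod 2) (Empty → ZMod 2))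

theorem coe_QM (m : ℕ) : ⇑(QM m) = Cfsg.quadFormMinus m (ZMod 2) 1 1 := Cfsg.Agent.Classical.OOmega.coe_minus m 1 1

theorem coe_QP (m : ℕ) : ⇑(QP m) = Cfsg.quadFormPlus m (ZMod 2) := Cfsg.Agent.Classical.OOmega.coe_plus m

theorem gen_of_cert {ι : Type} [Fintype ι] [DecidableEq ι] {Q : QuadraticForm (ZMod 2) (ι → ZMod 2)}
    (hQ : OCount.PND Q) (hn : Fintype.card ι ≠ 4) {n : ℕ} (pos : ι → ℕ) (N : ℕ) (S : Fin n → ℕ)
    (hsurj : ∀ v, ∃ c : Fin N, dec pos c.val = v) (hS : ∀ i, Q (dec pos (S i)) = 1)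
    (L : List (ℕ × ℕ × Fin n))
    (hL : ∀ k (h : k < L.length), L[k].2.1 ∈ List.ofFn S ++ (L.take k).map Prod.fst ∧
      QuadraticMap.polar Q (dec pos (S L[k].2.2)) (dec pos L[k].2.1) = 1 ∧
        dec pos L[k].1 = dec pos L[k].2.1 + dec pos (S L[k].2.2))
    (hall : ∀ c : Fin N, Q (dec pos c.val) = 1 → c.val ∈ List.ofFn S ++ L.map Prod.fst) :
    Subgroup.closure (Set.range fun i => t Q (dec pos (S i))) = ⊤ := by
  rw [eq_top_iff, ← Cfsg.Agent.Classical.ORefl.closure_refl hQ (Or.inr hn), Subgroup.closure_le]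
  rintro g ⟨v, hv, hg⟩
  obtain ⟨c, rfl⟩ := hsurj v
  rw [Cfsg.Agent.Classical.ORefl.eq_toMat_refl hg]
  have h1 : ∀ z : ZMod 2, z ≠ 0 → z = 1 := by decide
  refine (chain_mem (G := Subgroup.closure (Set.range fun i => t Q (dec pos (S i)))) (fun i => dec pos (S i)) (dec pos) hS (fun i => Subgroup.subset_closure ⟨i, rfl⟩)
    (List.ofFn S) ?_ L hL c.val (hall c (h1 _ hv))).2
  intro x hx
  obtain ⟨i, rfl⟩ := List.mem_ofFn.1 hx
  exact ⟨hS i, Subgroup.subset_closure ⟨i, rfl⟩⟩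

section Four

local notation "Q4" => QM 1
local notation "s4" => fun i : Fin 4 => dec (posMinus 1) (S4 i)

theorem cands_four : ∀ (k : Fin 4) (u : Fin 16), Cfsg.quadFormMinus 1 (ZMod 2) 1 1 (dec (posMinus 1) u.val) = 1 →
    (∀ i, i < k → u.val ≠ S4 i ∧
      QuadraticMap.polar (Cfsg.quadFormMinus 1 (ZMod 2) 1 1) (dec (posMinus 1) (S4 i)) (dec (posMinus 1) u.val) =
        QuadraticMap.polar (Cfsg.quadFormMinus 1 (ZMod 2) 1 1) (dec (posMinus 1) (S4 i)) (s4 k)) →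
    u.val = S4 k ∨ Cfsg.quadFormMinus 1 (ZMod 2) 1 1 (dec (posMinus 1) u.val - s4 k) = 1 ∨
      ∃ y : Fin 16, Cfsg.quadFormMinus 1 (ZMod 2) 1 1 (dec (posMinus 1) y.val) = 1 ∧
        Cfsg.quadFormMinus 1 (ZMod 2) 1 1 (dec (posMinus 1) u.val - dec (posMinus 1) y.val) = 1 ∧
        Cfsg.quadFormMinus 1 (ZMod 2) 1 1 (dec (posMinus 1) y.val - s4 k) = 1 ∧
        ∀ i, i < k →
          QuadraticMap.polar (Cfsg.quadFormMinus 1 (ZMod 2) 1 1) (dec (posMinus 1) (S4 i)) (dec (posMinus 1) y.val) =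
            QuadraticMap.polar (Cfsg.quadFormMinus 1 (ZMod 2) 1 1) (dec (posMinus 1) (S4 i)) (s4 k) := by
  decide +kernel

theorem sep_four : ∀ u : Fin 16, (∀ i : Fin 4, QuadraticMap.polar (Cfsg.quadFormMinus 1 (ZMod 2) 1 1)
    (s4 i) (dec (posMinus 1) u.val) = 0) → dec (posMinus 1) u.val = 0 := by
  decide +kernel

theorem gen_four : Subgroup.closure (Set.range fun i => t Q4 (s4 i)) = ⊤ := by
  have hsurj : ∀ v, ∃ c : Fin 16, dec (posMinus 1) c.val = v :=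
    dec_surj _ 16 (by decide) (by decide +kernel)
  have hs : ∀ i : Fin 4, Q4 (s4 i) = 1 := by rw [coe_QM]; decide +kernel
  let G := Subgroup.closure (Set.range fun i => t Q4 (s4 i))
  have hrefl : ∀ v, Q4 v = 1 → t Q4 v ∈ G := by
    intro v hv
    obtain ⟨c, rfl⟩ := hsurj v
    have hb : ∀ x ∈ List.ofFn S4, Q4 (dec (posMinus 1) x) = 1 ∧ t Q4 (dec (posMinus 1) x) ∈ G := by
      intro x hx
      obtain ⟨i, rfl⟩ := List.mem_ofFn.1 hx
      exact ⟨hs i, Subgroup.subset_closure ⟨i, rfl⟩⟩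
    refine (chain_mem (G := G) s4 (dec (posMinus 1)) hs (fun i => Subgroup.subset_closure ⟨i, rfl⟩)
      (List.ofFn S4) hb L4 ?_ c.val ?_).2
    · rw [coe_QM]; decide +kernel
    · revert hv c; rw [coe_QM]; decide +kernel
  have hnz : ∀ z : ZMod 2, z ≠ 0 → z = 1 := by decide
  have key : ∀ j : ℕ, j ≤ 4 → ∀ g : ↥(Cfsg.isometryGroup (ZMod 2) ⇑(Q4)),
      (∀ i : Fin 4, i.val < 4 - j → act g (s4 i) = s4 i) → g ∈ G := by
    intro j
    induction j with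
    | zero =>
      intro _ g hg
      rw [show g = 1 from act_inj fun x => ?_]; exact one_mem _
      rw [act_one]
      obtain ⟨u, hu⟩ := hsurj (act g x + x)
      have h0 : act g x + x = 0 := by
        rw [← hu]
        refine sep_four u fun i => ?_
        rw [hu, ← coe_QM, QuadraticMap.polar_add_right]
        conv_lhs => arg 1; rw [← hg i i.isLt, polar_act]
        exact CharTwo.add_self_eq_zero _
      rw [← sub_eq_add'] at h0
      exact sub_eq_zero.1 h0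
    | succ j ih =>
      intro hj g hg
      let k : Fin 4 := ⟨4 - (j + 1), by omega⟩
      obtain ⟨u, hu⟩ := hsurj (act g (s4 k))
      have hfix : ∀ i : Fin 4, i < k → act g (s4 i) = s4 i := fun i hi => hg i hi
      have hdiff : ∀ x : Fin 4 → ℕ, ∀ i, i < k → u.val ≠ S4 i := by
        intro _ i hi he
        have h1 : act g (s4 k) = act g (s4 i) := by rw [hfix i hi, ← hu, he]
        have h2 := congrArg (act g⁻¹) h1
        rw [← act_mul, ← act_mul, inv_mul_cancel, act_one, act_one] at h2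
        have : ∀ a b : Fin 4, s4 a = s4 b → a = b := by decide +kernel
        exact hi.ne (this _ _ h2).symm
      have hmove : ∀ (w z : (Fin 1 ⊕ Fin 1) ⊕ Fin 2 → ZMod 2), Q4 w = 1 → Q4 z = 1 → Q4 (z - w) = 1 →
          t Q4 (z - w) ∈ G ∧ act (t Q4 (z - w)) z = w ∧ ∀ x, QuadraticMap.polar Q4 x z = QuadraticMap.polar Q4 x w →
            act (t Q4 (z - w)) x = x := by
        intro w z hw hz hzw
        refine ⟨hrefl _ hzw, ?_, fun x hx => ?_⟩
        · rw [act, t, Cfsg.Agent.Classical.ORefl.toMat_apply]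
          exact Cfsg.Agent.Classical.ORefl.refl_sub_apply (hz.trans hw.symm) (by rw [hzw]; decide)
        · rw [t_act hzw, QuadraticMap.polar_comm, QuadraticMap.polar_sub_right, hx, sub_self, zero_smul, add_zero]
      have hQu : Q4 (dec (posMinus 1) u.val) = 1 := by rw [hu]; exact (g.2 (s4 k) (s4 k)).trans (hs k)
      have hpol : ∀ i, i < k → QuadraticMap.polar Q4 (s4 i) (dec (posMinus 1) u.val) =
          QuadraticMap.polar Q4 (s4 i) (s4 k) := fun i hi => by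
        rw [hu]; nth_rewrite 1 [← hfix i hi]; exact polar_act g _ _
      obtain ⟨h, hh, hhk, hhi⟩ : ∃ h ∈ G, act h (dec (posMinus 1) u.val) = s4 k ∧
          ∀ i, i < k → act h (s4 i) = s4 i := by
        rcases cands_four k u (by rw [← coe_QM]; exact hQu)
            (fun i hi => ⟨hdiff S4 i hi, by rw [← coe_QM]; exact hpol i hi⟩) with h | h | ⟨y, hy, hyu, hyk, hyi⟩
        · exact ⟨1, one_mem _, by rw [act_one, h], fun i _ => act_one _⟩
        · obtain ⟨a1, a2, a3⟩ := hmove (s4 k) _ (hs k) hQu (by rw [coe_QM]; exact h)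
          exact ⟨_, a1, a2, fun i hi => a3 _ (hpol i hi)⟩
        · rw [← coe_QM] at hy hyu hyk hyi
          obtain ⟨a1, a2, a3⟩ := hmove _ _ hy hQu hyu
          obtain ⟨b1, b2, b3⟩ := hmove _ _ (hs k) hy hyk
          exact ⟨_, mul_mem b1 a1, by rw [act_mul, a2, b2], fun i hi => by
            rw [act_mul, a3 _ ((hpol i hi).trans (hyi i hi).symm), b3 _ (hyi i hi)]⟩
      have := mul_mem (inv_mem hh) (ih (by omega) (h * g) fun i hi => by
        rw [act_mul]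
        by_cases hik : i = k
        · rw [hik, ← hu, hhk]
        · have hik' : i < k := by
            have : i.val ≠ k.val := fun e => hik (Fin.ext e)
            simp only [k] at this
            rw [Fin.lt_def]; simp only [k]; omega
          rw [hfix i hik', hhi i hik'])
      rwa [inv_mul_cancel_left] at this
  rw [eq_top_iff]
  exact fun g _ => key 4 le_rfl g fun i hi => absurd hi (by omega)

theorem tree_four : Tree (Q := Q4) s4 (fun i => dec (posMinus 1) (D4 i)) par4 where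
  norm := by rw [coe_QM]; decide +kernel
  lt := by decide
  adj := by rw [coe_QM]; decide +kernel
  grand := by rw [coe_QM]; decide +kernel
  root := by decide
  dual := by rw [coe_QM]; decide +kernel
  gen := gen_four

end Four

theorem tree_six : Tree (Q := QM 2) (fun i => dec (posMinus 2) (S6 i)) (fun i => dec (posMinus 2) (D6 i)) par6 where
  norm := by rw [coe_QM]; decide +kernel
  lt := by decide
  adj := by rw [coe_QM]; decide +kernel
  grand := by rw [coe_QM]; decide +kernel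
  root := by decide
  dual := by rw [coe_QM]; decide +kernel
  gen := by
    refine gen_of_cert (Q := QM 2) (Cfsg.Agent.Classical.OOmega.formOf_pnd (Cfsg.Agent.Classical.OOmega.pnd_plane (by decide)))
      (by decide) (posMinus 2) 64 S6 (dec_surj _ 64 (by decide) (by decide +kernel)) ?_ L6 ?_ ?_
    all_goals (rw [coe_QM]; decide +kernel)

theorem tree_eight : Tree (Q := QP 4) (fun i => dec (posPlus 4) (S8 i)) (fun i => dec (posPlus 4) (D8 i)) par8 where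
  norm := by rw [coe_QP]; decide +kernel
  lt := by decide
  adj := by rw [coe_QP]; decide +kernel
  grand := by rw [coe_QP]; decide +kernel
  root := by decide
  dual := by rw [coe_QP]; decide +kernel
  gen := by
    refine gen_of_cert (Q := QP 4) (Cfsg.Agent.Classical.OOmega.formOf_pnd Cfsg.Agent.Classical.OOmega.pnd_empty)
      (by decide) (posPlus 4) 256 S8 (dec_surj _ 256 (by decide) (by decide +kernel)) ?_ L8 ?_ ?_
    all_goals (rw [coe_QP]; decide +kernel)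

theorem of_tree {ι : Type} [Fintype ι] [DecidableEq ι] {Qf : (ι → ZMod 2) → ZMod 2}
    {Q : QuadraticForm (ZMod 2) (ι → ZMod 2)} (e : ⇑Q = Qf) {n : ℕ} {s d : Fin (n + 2) → (ι → ZMod 2)}
    {par : Fin (n + 2) → Fin (n + 2)} (hT : Tree (Q := Q) s d par) :
    ∀ f : ↥(Cfsg.Omega (ZMod 2) Qf) → (ι → ZMod 2),
      (∀ g h : ↥(Cfsg.Omega (ZMod 2) Qf), f (g * h) = f g + Matrix.mulVec
        (((g : ↥(Cfsg.isometryGroup (ZMod 2) Qf)) : GL ι (ZMod 2)) : Matrix ι ι (ZMod 2)) (f h)) →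
      ∃ v : ι → ZMod 2, ∀ g : ↥(Cfsg.Omega (ZMod 2) Qf), f g = Matrix.mulVec
        (((g : ↥(Cfsg.isometryGroup (ZMod 2) Qf)) : GL ι (ZMod 2)) : Matrix ι ι (ZMod 2)) v - v := by
  subst e
  exact fun f hf => hT.coboundary f hf

/-- Vanishing of first cohomology on the natural module for three small orthogonal groups over the field with two elements: for the commutator subgroup of the isometry group of the elliptic quadratic form in dimension 4, of the elliptic form in dimension 6, and of the hyperbolic form in dimension 8, every crossed homomorphism into the natural module (a map f with f(gh) = f(g) + g·f(h)) is principal (of the form g ↦ g·v − v). -/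
theorem result : (∀ f : ↥(Cfsg.Omega (ZMod 2) (Cfsg.quadFormMinus 1 (ZMod 2) 1 1)) → ((Fin 1 ⊕ Fin 1) ⊕ Fin 2 → ZMod 2), (∀ g h : ↥(Cfsg.Omega (ZMod 2) (Cfsg.quadFormMinus 1 (ZMod 2) 1 1)), f (g * h) = f g + Matrix.mulVec (((g : ↥(Cfsg.isometryGroup (ZMod 2) (Cfsg.quadFormMinus 1 (ZMod 2) 1 1))) : GL ((Fin 1 ⊕ Fin 1) ⊕ Fin 2) (ZMod 2)) : Matrix ((Fin 1 ⊕ Fin 1) ⊕ Fin 2) ((Fin 1 ⊕ Fin 1) ⊕ Fin 2) (ZMod 2)) (f h)) → ∃ v : (Fin 1 ⊕ Fin 1) ⊕ Fin 2 → ZMod 2, ∀ g : ↥(Cfsg.Omega (ZMod 2) (Cfsg.quadFormMinus 1 (ZMod 2) 1 1)), f g = Matrix.mulVec (((g : ↥(Cfsg.isometryGroup (ZMod 2) (Cfsg.quadFormMinus 1 (ZMod 2) 1 1))) : GL ((Fin 1 ⊕ Fin 1) ⊕ Fin 2) (ZMod 2)) : Matrix ((Fin 1 ⊕ Fin 1) ⊕ Fin 2) ((Fin 1 ⊕ Fin 1) ⊕ Fin 2) (ZMod 2)) v - v) ∧ (∀ f : ↥(Cfsg.Omega (ZMod 2) (Cfsg.quadFormMinus 2 (ZMod 2) 1 1)) → ((Fin 2 ⊕ Fin 2) ⊕ Fin 2 → ZMod 2), (∀ g h : ↥(Cfsg.Omega (ZMod 2) (Cfsg.quadFormMinus 2 (ZMod 2) 1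 1)), f (g * h) = f g + Matrix.mulVec (((g : ↥(Cfsg.isometryGroup (ZMod 2) (Cfsg.quadFormMinus 2 (ZMod 2) 1 1))) : GL ((Fin 2 ⊕ Fin 2) ⊕ Fin 2) (ZMod 2)) : Matrix ((Fin 2 ⊕ Fin 2) ⊕ Fin 2) ((Fin 2 ⊕ Fin 2) ⊕ Fin 2) (ZMod 2)) (f h)) → ∃ v : (Fin 2 ⊕ Fin 2) ⊕ Fin 2 → ZMod 2, ∀ g : ↥(Cfsg.Omega (ZMod 2) (Cfsg.quadFormMinus 2 (ZMod 2) 1 1)), f g = Matrix.mulVec (((g : ↥(Cfsg.isometryGroup (ZMod 2) (Cfsg.quadFormMinus 2 (ZMod 2) 1 1))) : GL ((Fin 2 ⊕ Fin 2) ⊕ Fin 2) (ZMod 2)) : Matrix ((Fin 2 ⊕ Fin 2) ⊕ Fin 2) ((Fin 2 ⊕ Fin 2) ⊕ Fin 2) (ZMod 2)) v - v) ∧ (∀ f : ↥(Cfsg.Omega (ZMod 2) (Cfsg.quadFormPlus 4 (ZMod 2))) → (Fin 4 ⊕ Fin 4 → ZMod 2), (∀ g h : ↥(Cfsg.Omega (ZMod 2) (Cfsg.quadFormPlus 4 (ZMod 2))), f (g * h) = f g + Matrix.mulVec (((g : ↥(Cfsg.isometryGroup (ZMod 2) (Cfsg.quadFormPlus 4 (ZMod 2)))) : GL (Fin 4 ⊕ Fin 4) (ZMod 2)) : Matrix (Fin 4 ⊕ Fin 4) (Fin 4 ⊕ Fin 4) (ZMod 2)) (f h)) → ∃ v :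 Fin 4 ⊕ Fin 4 → ZMod 2, ∀ g : ↥(Cfsg.Omega (ZMod 2) (Cfsg.quadFormPlus 4 (ZMod 2))), f g = Matrix.mulVec (((g : ↥(Cfsg.isometryGroup (ZMod 2) (Cfsg.quadFormPlus 4 (ZMod 2)))) : GL (Fin 4 ⊕ Fin 4) (ZMod 2)) : Matrix (Fin 4 ⊕ Fin 4) (Fin 4 ⊕ Fin 4) (ZMod 2)) v - v) :=
  ⟨of_tree (coe_QM 1) tree_four, of_tree (coe_QM 2) tree_six, of_tree (coe_QP 4) tree_eight⟩

end Cfsg.Agent.S5405
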