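import Cfsg.Statements.S5412
import Cfsg.Agent.Lib.Spor.MonsterBaby

set_option autoImplicit false
open Cfsg

namespace Cfsg.Agent.S5412

/-- Let G be a finite group of Monster type at the involution z with Q the extraspecial normal subgroup of order 2^25 of C = C_G(z) (so C/Q is identified with the first Conway group with Q modulo its centre the Leech lattice modulo 2, and z is not weakly closed in Q). Let t be an involution of Q not conjugate to z in G. Then the centralizer of t modulo the subgroup generated by t is a group of Baby Monster type (an involution whose centralizer D has generalized Fitting subgroup R extraspecial of order 2^23 with D/R identified with the second Conway group acting on R modulo its centre as on the vectors of the Leech lattice modulo 2 orthogonal to a short vector, modulo that vector; the involution not weakly closed in R). -/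
theorem result {G : Type*} [Group G] [Finite G] (z : G) (Q : Subgroup (Subgroup.centralizer ({z} : Set G))) [Q.Normal] (hM : Cfsg.IsOfMonsterType z Q) (t : G) (htQ : ∃ htc : t ∈ Subgroup.centralizer ({z} : Set G), (⟨t, htc⟩ : Subgroup.centralizer ({z} : Set G)) ∈ Q) (ht2 : orderOf t = 2) (ht : ¬ IsConj z t) [hn : ((Subgroup.zpowers t).subgroupOf (Subgroup.centralizer ({t} : Set G))).Normal] : Cfsg.IsOfBabyMonsterType (↥(Subgroup.centralizer ({t} : Set G)) ⧸ (Subgroup.zpowers t).subgroupOf (Subgroup.centralizer ({t} : Set G))) := by
  obtain ⟨hS, e, ψ, hψ⟩ := hM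
  obtain ⟨htc, htm⟩ := htQ
  open Cfsg.Agent.Spor Cfsg.Agent.Spor.MonsterFusion in
  have S : Setting z Q e ψ := Setting.mk hS hψ
  let tQ : Q := ⟨_, htm⟩
  have h2 : tQ * tQ = 1 := Subtype.ext (Subtype.ext (by
    show t * t = 1
    rw [← sq, ← ht2, pow_orderOf_eq_one]))
  have hc : tQ ∉ Subgroup.center Q := fun h => by
    rcases (S.center_iff tQ).1 h with h' | h'
    · have h1 : t = 1 := congrArg Subtype.val h'
      rw [h1, orderOf_one] at ht2
      omega
    · have h1 : t = z := congrArg Subtype.val h'
      exact ht (h1 ▸ IsConj.refl z)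
  obtain ⟨v, hv, hψv⟩ := S.classify h2 hc
  have hv32 := hv.resolve_right fun h => ht ((S.conj_iff tQ).2 ⟨v, h, hψv⟩).1
  obtain ⟨g0, hg0⟩ := Cfsg.Agent.Spor.transitive_of_orb (fun y hy hn => Cfsg.Agent.Spor.orb_short hy hn)
    Cfsg.Spor.leechU v (by decide +kernel) hv32
  exact Cfsg.Agent.Spor.MonsterFusion.Setting.baby (S.twist g0) tQ
    (by show ψ (g0 • Cfsg.Spor.leechU) = _; rw [hg0]; exact hψv) ht2 ht


end Cfsg.Agent.S5412
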