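import Cfsg.Statements.S5426
import Cfsg.Agent.Lib.Spor.LargeProduct
import Cfsg.Agent.Lib.Spor.LargePair
import Cfsg.Agent.Lib.Perm.CharSimple
import Cfsg.Agent.Lib.Solv.Basic
import Cfsg.Agent.Lib.Solv.Component
import Cfsg.Agent.Lib.Solv.PGroupPhi
import Cfsg.Agent.Lib.Fusion.LocalConstrained

set_option autoImplicit false
open Cfsg
open Cfsg.Agent.Spor.Large
open scoped commutatorElement

namespace Cfsg.Agent.S5426

variable {G : Type*} [Group G] [Finite G]

/-- every nontrivial normal subgroup contains the central involution -/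
theorem mem_of_normal (Q : Subgroup G) (hQ : Cfsg.IsLargeExtraspecial Q) {z : G} (X : XT z Q)
    (hnorm : ∀ c : G, Commute c z → ∀ q ∈ Q, c * q * c⁻¹ ∈ Q)
    (N : Subgroup G) (hN : N.Normal) (hne : N ≠ ⊥) : z ∈ N := by
  haveI : Fact (Nat.Prime 2) := ⟨Nat.prime_two⟩
  haveI := hN
  by_contra hzN
  refine hne ?_
  have hNQ : ∀ q ∈ Q, q ∈ N → q = 1 := by
    intro q hq hqN
    by_contra hq1
    by_cases hcq : ∀ b ∈ Q, Commute q b
    · rcases X.eq_of_cen q hq hcq with e | e
      exacts [hq1 e, hzN (e ▸ hqN)]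
    · push Not at hcq
      obtain ⟨b, hb, hqb⟩ := hcq
      have hm := X.move hb hq fun e => hqb e.symm
      refine hzN ?_
      have := mul_mem (inv_mem hqN) (hN.conj_mem q hqN b)
      rwa [hm, inv_mul_cancel_left] at this
  have hfix : ∀ n ∈ N, Commute n z → n = 1 := by
    intro n hn hnz
    have hcQ : ∀ q ∈ Q, q * n = n * q := by
      intro q hq
      have h1 : n * q * n⁻¹ * q⁻¹ = 1 := by
        refine hNQ _ (mul_mem (hnorm n hnz q hq) (inv_mem hq)) ?_
        rw [show n * q * n⁻¹ * q⁻¹ = n * (q * n⁻¹ * q⁻¹) by group]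
        exact mul_mem hn (hN.conj_mem _ (inv_mem hn) q)
      exact (mul_inv_eq_iff_eq_mul.1 (mul_inv_eq_one.1 h1)).symm
    have hm : n ∈ (Subgroup.center ↥Q).map Q.subtype := hQ.2.1 ▸ Subgroup.mem_centralizer_iff.2 hcQ
    exact hNQ n (Subgroup.map_subtype_le _ hm) hn
  set φ : N →* N :=
    { toFun := fun n => ⟨z * (n : G) * z⁻¹, hN.conj_mem _ n.2 z⟩
      map_one' := Subtype.ext (by simp)
      map_mul' := fun a c => Subtype.ext (by simp [mul_assoc]) } with hφ
  have hzi : z⁻¹ = z := inv_eq_of_mul_eq_one_right X.sq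
  have hfpf : MonoidHom.FixedPointFree φ := fun a ha => by
    have e : z * (a : G) * z⁻¹ = a := congrArg Subtype.val ha
    exact Subtype.ext (hfix a a.2 (mul_inv_eq_iff_eq_mul.1 e).symm)
  have hinv : Function.Involutive φ := fun a => Subtype.ext (by
    show z * (z * (a : G) * z⁻¹) * z⁻¹ = a
    rw [hzi, ← mul_assoc, ← mul_assoc, X.sq, one_mul, mul_assoc, X.sq, mul_one])
  refine hQ.2.2.2 N ?_ (fun q _ => (Subgroup.normalizer_eq_top N).symm ▸ Subgroup.mem_top q)
  rw [← Nat.not_even_iff_odd, even_iff_two_dvd]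
  intro h2
  obtain ⟨a, ha⟩ := exists_prime_orderOf_dvd_card' (G := N) 2 h2
  have e := congrFun (hfpf.coe_eq_inv_of_involutive hinv) a
  have hai : a⁻¹ = a := inv_eq_of_mul_eq_one_right (by rw [← pow_two, ← ha, pow_orderOf_eq_one])
  have hfa : φ a = a := e.trans hai
  have ha1 : (a : G) = 1 := hfix a a.2 (mul_inv_eq_iff_eq_mul.1 (congrArg Subtype.val hfa)).symm
  rw [show a = 1 from Subtype.ext ha1, orderOf_one] at ha
  omega

/-- Let Q be a large extraspecial 2-subgroup of the finite group G (extraspecial; centralizer equal to its centre; normal in the centralizer of its centre; normalizing no non-trivial subgroup of odd order) with centre generated by z, and let M be the normal closure of z in G. Then one of the following holds: Q is normal in G; or M is abelian and the generalized Fitting subgroup of G is its largest normal 2-subgroup; or M is the generalized Fitting subgroup of G and is a non-abelian simple group; or M is the generalized Fitting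 subgroup of G and is the direct product of a non-abelian simple subgroup L and its conjugate u L u⁻¹ by some u in Q (the two meet trivially and commute elementwise), with z = z₁ (u z₁ u⁻¹) for some z₁ in L whose centralizer in L is a Sylow 2-subgroup of L with Frattini subgroup inside the subgroup generated by z₁, and Q is not the largest normal 2-subgroup of the centralizer of z. -/
theorem result {G : Type*} [Group G] [Finite G] (Q : Subgroup G) (hQ : Cfsg.IsLargeExtraspecial Q) (z : G) (hz : ((Subgroup.center ↥Q).map Q.subtype) = Subgroup.zpowers z) (M : Subgroup G) (hM : M = Subgroup.normalClosure ({z} : Set G)) : Q.Normal ∨ (IsMulCommutative ↥M ∧ Cfsg.generalizedFittingSubgroup G = Cfsg.pCore 2 G) ∨ (M = Cfsg.generalizedFittingSubgroup G ∧ IsSimpleGroup ↥M ∧ ¬ IsMulCommutative ↥M) ∨ (M = Cfsg.generalizedFittingSubgroup G ∧ ∃ (L : Subgroup G) (u : G), u ∈ Q ∧ IsSimpleGroup ↥L ∧ ¬ IsMulCommutative ↥L ∧ L ⊓ (L).map (MulAut.conj u).toMonoidHom = ⊥ ∧ (∀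 x ∈ L, ∀ y ∈ (L).map (MulAut.conj u).toMonoidHom, x * y = y * x) ∧ L ⊔ (L).map (MulAut.conj u).toMonoidHom = M ∧ ∃ z₁ ∈ L, z = z₁ * (u * z₁ * u⁻¹) ∧ (∃ R : Sylow 2 ↥L, (R : Subgroup ↥L) = (Subgroup.centralizer ({z₁} : Set G)).subgroupOf L ∧ (frattini ↥(R : Subgroup ↥L)).map ((L.subtype).comp (R : Subgroup ↥L).subtype) ≤ Subgroup.zpowers z₁) ∧ Q ≠ (Cfsg.pCore 2 ↥(Subgroup.centralizer ({z} : Set G))).map (Subgroup.centralizer ({z} : Set G)).subtype) := by
  classical
  haveI : Fact (Nat.Prime 2) := ⟨Nat.prime_two⟩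
  obtain ⟨hE, hCQ, hN, -⟩ := id hQ
  obtain ⟨u₀, -, -, X, hset⟩ := exists_center_gen Q hE
  have hZmem : ∀ a, a ∈ (Subgroup.center ↥Q).map Q.subtype ↔ a = 1 ∨ a = u₀ := fun a => by
    rw [← SetLike.mem_coe, hset]; simp
  have hz1 : z ≠ 1 := by
    rintro rfl
    have h := (hZmem u₀).2 (Or.inr rfl)
    rw [hz, Subgroup.zpowers_one_eq_bot, Subgroup.mem_bot] at h
    exact X.ne h
  obtain rfl : z = u₀ := ((hZmem z).1 (hz ▸ Subgroup.mem_zpowers z)).resolve_left hz1
  have hnorm : ∀ c : G, Commute c z → ∀ q ∈ Q, c * q * c⁻¹ ∈ Q := fun c hc q hq => by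
    have hcN : c ∈ Subgroup.normalizer (Q : Set G) := hN <| Subgroup.mem_centralizer_iff.2 fun a ha => by
      rcases (hZmem a).1 ha with rfl | rfl
      exacts [(one_mul c).trans (mul_one c).symm, hc.symm.eq]
    exact (Subgroup.mem_normalizer_iff.1 hcN q).1 hq
  have hcen : ∀ c : G, (∀ q ∈ Q, Commute c q) → c = 1 ∨ c = z := fun c hc => (hZmem c).1
    (hCQ ▸ Subgroup.mem_centralizer_iff.2 fun q hq => (hc q hq).symm.eq)
  haveI hMn : M.Normal := hM ▸ Subgroup.normalClosure_normal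
  have hzM : z ∈ M := hM ▸ Subgroup.subset_normalClosure (Set.mem_singleton z)
  have hmin : ∀ K : Subgroup G, K.Normal → K ≠ ⊥ → M ≤ K := fun K hK hKne => by
    haveI := hK
    rw [hM]
    exact Subgroup.normalClosure_le_normal (Set.singleton_subset_iff.2 (mem_of_normal Q hQ X hnorm K hK hKne))
  have hMne : M ≠ ⊥ := fun h => X.ne (by rw [h] at hzM; exact Subgroup.mem_bot.1 hzM)
  have hmin' : ∀ K : Subgroup G, K.Normal → K ≤ M → K = ⊥ ∨ K = M := fun K hK hKM => by
    by_cases hb : K = ⊥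
    exacts [Or.inl hb, Or.inr (le_antisymm hKM (hmin K hK hb))]
  by_cases hab : IsMulCommutative ↥M
  · refine Or.inr (Or.inl ⟨hab, ?_⟩)
    -- the centralizer of the two-core is a two-group
    have hsol : Group.IsSolvable M := by
      letI : CommGroup M := { (inferInstance : Group M) with mul_comm := fun a b => hab.is_comm.comm a b }
      infer_instance
    obtain ⟨-, p, hp, hexp, hMp⟩ := Cfsg.Agent.Solv.minimal_normal_elementaryAbelian M hsol hMne hmin'
    have hp2 : p = 2 := by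
      have h1 : orderOf z ∣ p := orderOf_dvd_of_pow_eq_one (hexp z hzM)
      rw [orderOf_eq_prime (by rw [pow_two, X.sq]) X.ne] at h1
      exact ((Nat.prime_dvd_prime_iff_eq Nat.prime_two hp).1 h1).symm
    subst hp2
    haveI : (Cfsg.pCore 2 G).Normal := Cfsg.Agent.Solv.pCore_normal 2
    have hMO : M ≤ Cfsg.pCore 2 G := le_sSup ⟨hMn, hMp⟩
    rw [Cfsg.Agent.Fusion.gfit_eq_pCore_iff]
    set C := Subgroup.centralizer (Cfsg.pCore 2 G : Set G) with hC
    haveI hCn : C.Normal := Cfsg.Agent.Solv.centralizer_normal_of_normal _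
    refine le_sSup (show C ∈ {N : Subgroup G | N.Normal ∧ IsPGroup 2 N} from ⟨hCn, ?_⟩)
    have hCz : ∀ c ∈ C, Commute c z := fun c hc => (Subgroup.mem_centralizer_iff.1 hc z (hMO hzM)).symm
    have hcore : ∀ c ∈ C, ∀ x ∈ C, x ∈ Q → Commute c x := by
      -- the intersection with `Q` is a normal two-subgroup of `C`
      set D := (C ⊓ Q).subgroupOf C with hD
      haveI hDn : D.Normal := ⟨fun x hx c => Subgroup.mem_subgroupOf.2
        ⟨(c * x * c⁻¹).2, hnorm c (hCz c c.2) x (Subgroup.mem_subgroupOf.1 hx).2⟩⟩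
      have hD2 : IsPGroup 2 D :=
        (hE.1.1.to_le (inf_le_right : C ⊓ Q ≤ Q)).comap_of_injective C.subtype C.subtype_injective
      have hle : D ≤ Cfsg.pCore 2 C := le_sSup ⟨hDn, hD2⟩
      haveI : (Cfsg.pCore 2 C).Characteristic := Cfsg.Agent.Fusion.pCore_characteristic
      have hO : (Cfsg.pCore 2 C).map C.subtype ≤ Cfsg.pCore 2 G :=
        le_sSup ⟨inferInstance, (Cfsg.Agent.Solv.pCore_isPGroup 2).map _⟩
      intro c hc x hxC hxQ
      exact (Subgroup.mem_centralizer_iff.1 hc x (hO ⟨⟨x, hxC⟩, hle (Subgroup.mem_subgroupOf.2 ⟨hxC, hxQ⟩), rfl⟩)).symm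
    intro c
    obtain ⟨n, m, hm, hcard⟩ := Nat.exists_eq_pow_mul_and_not_dvd (n := orderOf c)
      (orderOf_pos c).ne' 2 (by norm_num)
    refine ⟨n, ?_⟩
    set a : G := (c : G) ^ 2 ^ n with ha
    have hao : Odd (orderOf a) := by
      rw [ha, orderOf_pow, Subgroup.orderOf_coe, hcard, Nat.gcd_eq_right (dvd_mul_right _ _),
        Nat.mul_div_cancel_left _ (by positivity)]
      exact Nat.not_even_iff_odd.1 fun h => hm (even_iff_two_dvd.1 h)
    have haC : a ∈ C := pow_mem c.2 _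
    have haQ : ∀ q ∈ Q, Commute a q := by
      intro q hq
      set d := a * q * a⁻¹ * q⁻¹ with hd
      have hdQ : d ∈ Q := mul_mem (hnorm a (hCz a haC) q hq) (inv_mem hq)
      have hdC : d ∈ C := by
        rw [hd, show a * q * a⁻¹ * q⁻¹ = a * (q * a⁻¹ * q⁻¹) by group]
        exact mul_mem haC (hCn.conj_mem _ (inv_mem haC) q)
      have had : Commute a d := hcore a haC d hdC hdQ
      have hstep : ∀ k : ℕ, a ^ k * q * (a ^ k)⁻¹ = d ^ k * q := by
        intro k
        induction k with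
        | zero => simp
        | succ k ih =>
          calc a ^ (k + 1) * q * (a ^ (k + 1))⁻¹ = a * (a ^ k * q * (a ^ k)⁻¹) * a⁻¹ := by rw [pow_succ']; group
            _ = (a * d ^ k * a⁻¹) * (a * q * a⁻¹) := by rw [ih]; group
            _ = d ^ k * (d * q) := by
              rw [(had.pow_right k).eq, mul_inv_cancel_right, hd, inv_mul_cancel_right]
            _ = _ := by rw [← mul_assoc, ← pow_succ]
      have h1 := hstep (orderOf a)
      rw [pow_orderOf_eq_one, one_mul, inv_one, mul_one] at h1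
      have h2 : d ^ orderOf a = 1 := mul_eq_right.1 h1.symm
      obtain ⟨k, hk⟩ := hE.1.1 ⟨d, hdQ⟩
      have hd' := Nat.dvd_gcd (orderOf_dvd_of_pow_eq_one h2) (orderOf_dvd_of_pow_eq_one (congrArg Subtype.val hk : d ^ 2 ^ k = 1))
      rw [Nat.Coprime.gcd_eq_one ((Nat.coprime_two_right.2 hao).pow_right k), Nat.dvd_one, orderOf_eq_one_iff] at hd'
      exact mul_inv_eq_iff_eq_mul.1 (mul_inv_eq_one.1 hd')
    refine Subtype.ext ?_
    rw [SubgroupClass.coe_pow, ← ha]
    rcases hcen a haQ with e | e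
    · exact e
    · exfalso
      rw [e, orderOf_eq_prime (by rw [pow_two, X.sq]) X.ne] at hao
      exact absurd hao (by decide)
  -- the nonabelian case
  refine Or.inr (Or.inr ?_)
  obtain ⟨T, iT, m, hTs, hm, ⟨e⟩⟩ := Cfsg.Agent.Perm.minimal_normal_power M hMne hmin'
  haveI := hTs
  have hTna : ¬ IsMulCommutative T := fun h => hab ⟨⟨fun a b => e.injective (by
    rw [map_mul, map_mul]; funext i; exact h.is_comm.comm _ _)⟩⟩
  haveI : Finite T := by
    haveI : Finite (Fin m → T) := Finite.of_equiv M e.toEquiv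
    exact Finite.of_injective (fun t : T => (fun _ => t : Fin m → T)) fun a b h => congrFun h ⟨0, hm⟩
  have hMc : Subgroup.centralizer (M : Set G) = ⊥ := by
    haveI : (Subgroup.centralizer (M : Set G)).Normal := Cfsg.Agent.Solv.centralizer_normal_of_normal _
    by_contra hne
    refine hab ⟨⟨fun a b => Subtype.ext ?_⟩⟩
    exact (Subgroup.mem_centralizer_iff.1 (hmin _ inferInstance hne a.2) b b.2).symm
  have hMF : M = Cfsg.generalizedFittingSubgroup G := by
    haveI : (Cfsg.generalizedFittingSubgroup G).Normal := Cfsg.Agent.Local.gfit_normal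
    refine le_antisymm (hmin _ inferInstance fun h => ?_) ?_
    · have := Cfsg.Agent.Solv.centralizer_gfit_le (G := G)
      rw [h] at this
      exact X.ne (Subgroup.mem_bot.1 (this (Subgroup.mem_centralizer_iff.2 fun a ha => by
        rw [Subgroup.mem_bot.1 ha, one_mul, mul_one])))
    · refine sup_le (sSup_le fun K hK => ?_) (sSup_le fun K hK => ?_)
      · refine (Cfsg.Agent.Solv.component_normal_dichotomy hK M).resolve_right fun h => ?_
        rw [Subgroup.commutator_eq_bot_iff_le_centralizer, hMc] at h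
        exact Cfsg.Agent.Solv.qs_ne_bot hK.2 (le_bot_iff.1 h)
      · by_contra hle
        haveI := hK.1
        have hMK : M ≤ K := hmin K hK.1 fun h => hle (h ▸ bot_le)
        have hnil : Group.IsNilpotent M := Cfsg.Agent.Solv.isNilpotent_of_le hMK hK.2
        haveI : Group.IsNilpotent (Fin m → T) := Group.nilpotent_of_mulEquiv e
        haveI hT' : Group.IsNilpotent T := Group.nilpotent_of_surjective (Pi.evalMonoidHom (fun _ : Fin m => T) ⟨0, hm⟩)
          fun t => ⟨fun _ => t, rfl⟩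
        haveI : Nontrivial T := IsSimpleGroup.toNontrivial
        exact hTna ⟨⟨IsSimpleGroup.comm_iff_isSolvable.2 (inferInstance : Group.IsSolvable T)⟩⟩
  rcases Nat.lt_or_ge m 2 with hm1 | hm2
  · left
    obtain rfl : m = 1 := by omega
    refine ⟨hMF, ?_, hab⟩
    haveI : Nontrivial M := (Subgroup.nontrivial_iff_ne_bot M).2 hMne
    exact IsSimpleGroup.isSimpleGroup_of_surjective
      ((e.trans (MulEquiv.funUnique (Fin 1) T)).symm.toMonoidHom) (MulEquiv.surjective _)
  right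
  refine ⟨hMF, ?_⟩
  -- coordinates
  set lift : (Fin m → T) →* G := M.subtype.comp e.symm.toMonoidHom with hlift
  have hliftinj : Function.Injective lift := M.subtype_injective.comp e.symm.injective
  have hliftM : ∀ x, lift x ∈ M := fun x => (e.symm x).2
  have hliftsurj : ∀ g ∈ M, ∃ x, lift x = g := fun g hg => ⟨e ⟨g, hg⟩, by simp [lift]⟩
  let Φ : G → (Fin m → T) ≃* (Fin m → T) := fun g => e.symm.trans ((MulAut.conjNormal g).trans e)
  have hΦ : ∀ g x, lift (Φ g x) = g * lift x * g⁻¹ := fun g x => by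
    simp [lift, Φ, MulAut.conjNormal_apply]
  obtain ⟨ζ, hζ⟩ := hliftsurj z hzM
  choose σ hσb hσs hσx using fun g : G => auto_perm hTna (Φ g)
  haveI : Nontrivial T := IsSimpleGroup.toNontrivial
  obtain ⟨t₀, ht₀⟩ := exists_ne (1 : T)
  have hval : ∀ g i a, Φ g (Pi.mulSingle i a) (σ g i) = 1 → a = 1 := by
    intro g i a h
    have h1 : Φ g (Pi.mulSingle i a) = 1 := funext fun j => by
      rcases eq_or_ne j (σ g i) with rfl | hj
      exacts [h, hσs g i a j hj]
    rwa [MulEquiv.map_eq_one_iff, Pi.mulSingle_eq_one_iff] at h1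
  have hsingle : ∀ g i a, Φ g (Pi.mulSingle i a) = Pi.mulSingle (σ g i) (Φ g (Pi.mulSingle i a) (σ g i)) := by
    intro g i a
    funext j
    rcases eq_or_ne j (σ g i) with rfl | hj
    · rw [Pi.mulSingle_eq_same]
    · rw [Pi.mulSingle_eq_of_ne hj, hσs g i a j hj]
  have hΦmul : ∀ g h x, Φ (g * h) x = Φ g (Φ h x) := fun g h x => hliftinj (by
    rw [hΦ, hΦ, hΦ]; group)
  have hΦone : ∀ x, Φ 1 x = x := fun x => hliftinj (by rw [hΦ]; group)
  have hcomp : ∀ g h i, σ (g * h) i = σ g (σ h i) := by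
    intro g h i
    by_contra hne
    refine ht₀ (hval (g * h) i t₀ ?_)
    rw [hΦmul, hsingle h i t₀]
    exact hσs g (σ h i) _ _ hne
  have hone : ∀ i, σ 1 i = i := by
    intro i
    by_contra hne
    refine ht₀ (hval 1 i t₀ ?_)
    rw [hΦone, Pi.mulSingle_eq_of_ne hne]
  have hback : ∀ g i j, σ g i = j → σ g⁻¹ j = i := fun g i j h => by
    rw [← h, ← hcomp, inv_mul_cancel, hone]
  have hfixζ : ∀ g, Commute g z → Φ g ζ = ζ := fun g hg => hliftinj (by
    rw [hΦ, hζ, hg.eq, mul_inv_cancel_right])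
  have hQz : ∀ q ∈ Q, Commute q z := fun q hq => (X.cen q hq).symm
  have hcommζ : ∀ i a, Commute a (ζ i) → Commute (lift (Pi.mulSingle i a)) z := fun i a h => by
    rw [← hζ]
    refine Commute.map (funext fun j => ?_) lift
    rcases eq_or_ne j i with rfl | hj
    · rw [Pi.mul_apply, Pi.mul_apply, Pi.mulSingle_eq_same]; exact h.eq
    · rw [Pi.mul_apply, Pi.mul_apply, Pi.mulSingle_eq_of_ne hj, one_mul, mul_one]
  -- the element attached to a pair
  have hpair : ∀ i a q, Commute a (ζ i) → q ∈ Q →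
      lift (Pi.mulSingle i a * Φ q (Pi.mulSingle i a⁻¹)) ∈ Q := by
    intro i a q ha hq
    rw [map_mul, hΦ, Pi.mulSingle_inv, map_inv,
      show lift (Pi.mulSingle i a) * (q * (lift (Pi.mulSingle i a))⁻¹ * q⁻¹) =
        lift (Pi.mulSingle i a) * q * (lift (Pi.mulSingle i a))⁻¹ * q⁻¹ by group]
    exact mul_mem (hnorm _ (hcommζ i a ha) q hq) (inv_mem hq)
  have hsqQ : ∀ x, lift x ∈ Q → x * x = 1 ∨ x * x = ζ := fun x hx => by
    rcases X.sq_mem hx with h | h
    · exact Or.inl (hliftinj (by rw [map_mul, h, map_one]))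
    · exact Or.inr (hliftinj (by rw [map_mul, h, hζ]))
  have hconjQ : ∀ x q, lift x ∈ Q → q ∈ Q → Φ q x = x ∨ Φ q x = x * ζ := fun x q hx hq => by
    rcases X.comm q hq _ hx with h | h
    · exact Or.inl (hliftinj (by rw [hΦ, h]))
    · exact Or.inr (hliftinj (by rw [hΦ, h, map_mul, hζ]))
  -- every coordinate is nontrivial
  have hall : ∀ j, ζ j ≠ 1 := by
    intro j hj
    set P : Subgroup T := ((Q.comap lift).map (Pi.evalMonoidHom (fun _ : Fin m => T) j)) with hP
    have hP2 : IsPGroup 2 P := (hE.1.1.comap_of_injective lift hliftinj).map _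
    have hPn : P.Normal := ⟨by
      rintro _ ⟨x, hx, rfl⟩ a
      refine ⟨Pi.mulSingle j a * x * (Pi.mulSingle j a)⁻¹, ?_, by simp⟩
      show lift _ ∈ Q
      rw [map_mul, map_mul, map_inv]
      exact hnorm _ (hcommζ j a (by rw [hj]; exact Commute.one_right a)) _ hx⟩
    have hPbot : P = ⊥ := by
      rcases IsSimpleGroup.eq_bot_or_eq_top_of_normal P hPn with h | h
      · exact h
      · exfalso
        haveI : Group.IsNilpotent T := by
          have h2 : IsPGroup 2 T := fun t => by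
            obtain ⟨k, hk⟩ := hP2 ⟨t, h ▸ Subgroup.mem_top t⟩
            exact ⟨k, congrArg Subtype.val hk⟩
          exact h2.isNilpotent
        exact hTna ⟨⟨IsSimpleGroup.comm_iff_isSolvable.2 (inferInstance : Group.IsSolvable T)⟩⟩
    have hzero : ∀ x, lift x ∈ Q → x j = 1 := fun x hx => by
      have : x j ∈ P := ⟨x, hx, rfl⟩
      rwa [hPbot, Subgroup.mem_bot] at this
    have hja : ∀ a : T, Commute a (ζ j) := fun a => by rw [hj]; exact Commute.one_right a
    have hfix : ∀ q ∈ Q, ∀ a : T, Φ q (Pi.mulSingle j a) = Pi.mulSingle j a := by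
      intro q hq
      have hσj : σ q j = j := by
        by_contra hne
        refine ht₀ ?_
        have h1 := hzero _ (hpair j t₀ q (hja t₀) hq)
        rwa [Pi.mul_apply, Pi.mulSingle_eq_same, hσs q j _ j (Ne.symm hne), mul_one] at h1
      intro a
      have h1 := hzero _ (hpair j a q (hja a) hq)
      rw [Pi.mul_apply, Pi.mulSingle_eq_same, Pi.mulSingle_inv, map_inv, Pi.inv_apply, mul_inv_eq_one] at h1
      rw [hsingle, hσj, ← h1]
    rcases hcen (lift (Pi.mulSingle j t₀)) (fun q hq => by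
      refine (mul_inv_eq_iff_eq_mul.1 ?_ : Commute q (lift (Pi.mulSingle j t₀))).symm
      rw [← hΦ, hfix q hq t₀]) with h | h
    · rw [← map_one lift] at h
      exact ht₀ (Pi.mulSingle_eq_one_iff.1 (hliftinj h))
    · rw [← hζ] at h
      have := congrFun (hliftinj h) j
      rw [Pi.mulSingle_eq_same, hj] at this
      exact ht₀ this
  -- transitivity
  have htrans : ∀ i j, ∃ q ∈ Q, σ q i = j := by
    intro i j
    let y : Fin m → T := fun k => if ∃ q ∈ Q, σ q i = k then ζ k else 1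
    have hclosed : ∀ q ∈ Q, ∀ k, (∃ q' ∈ Q, σ q' i = σ q k) ↔ ∃ q' ∈ Q, σ q' i = k := by
      intro q hq k
      constructor
      · rintro ⟨q', hq', e'⟩
        exact ⟨q⁻¹ * q', mul_mem (inv_mem hq) hq', by rw [hcomp, e', ← hcomp, inv_mul_cancel, hone]⟩
      · rintro ⟨q', hq', rfl⟩
        exact ⟨q * q', mul_mem hq hq', hcomp q q' i⟩
    have hyfix : ∀ q ∈ Q, Φ q y = y := by
      intro q hq
      funext l
      obtain ⟨k, rfl⟩ := (hσb q).2 l
      rw [hσx q y k]
      by_cases hk : ∃ q' ∈ Q, σ q' i = k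
      · simp only [y, if_pos hk, if_pos ((hclosed q hq k).2 hk)]
        rw [← hσx q ζ k, hfixζ q (hQz q hq)]
      · simp only [y, if_neg hk, if_neg fun h => hk ((hclosed q hq k).1 h), Pi.mulSingle_one, map_one, Pi.one_apply]
    have hi : ∃ q ∈ Q, σ q i = i := ⟨1, one_mem _, hone i⟩
    rcases hcen (lift y) (fun q hq => (mul_inv_eq_iff_eq_mul.1 (by rw [← hΦ, hyfix q hq]) : Commute q (lift y)).symm)
      with h | h
    · rw [← map_one lift] at h
      have := congrFun (hliftinj h) i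
      simp only [y, if_pos hi, Pi.one_apply] at this
      exact absurd this (hall i)
    · rw [← hζ] at h
      have := congrFun (hliftinj h) j
      by_contra hno
      simp only [y, if_neg hno] at this
      exact hall j this.symm
  have hζζ : ζ * ζ = 1 := hliftinj (by rw [map_mul, hζ, X.sq, map_one])
  have hordi : ∀ i, orderOf (ζ i) = 2 := fun i =>
    orderOf_eq_prime (by rw [pow_two]; exact congrFun hζζ i) (hall i)
  obtain rfl : m = 2 := by
    by_contra hne
    obtain ⟨i, j, k, hij, hik, hjk⟩ : ∃ i j k : Fin m, i ≠ j ∧ i ≠ k ∧ j ≠ k :=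
      ⟨⟨0, by omega⟩, ⟨1, by omega⟩, ⟨2, by omega⟩, by simp, by simp, by simp⟩
    obtain ⟨q, hq, hqi⟩ := htrans i j
    obtain ⟨q', hq', hq'i⟩ := htrans i k
    have hsmall : ∀ a, Commute a (ζ i) → a = 1 ∨ a = ζ i := by
      intro a ha
      by_cases ha1 : a = 1
      · exact Or.inl ha1
      right
      set x := Pi.mulSingle i a * Φ q (Pi.mulSingle i a⁻¹) with hxdef
      have hxi : x i = a := by
        rw [hxdef, Pi.mul_apply, Pi.mulSingle_eq_same, hσs q i _ i (hqi.symm ▸ hij), mul_one]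
      have hxk : x k = 1 := by
        rw [hxdef, Pi.mul_apply, Pi.mulSingle_eq_of_ne hik.symm, hσs q i _ k (hqi.symm ▸ hjk.symm), one_mul]
      have hΦk : Φ q' x k = Φ q' (Pi.mulSingle i a) k := by
        have := hσx q' x i
        rwa [hq'i, hxi] at this
      rcases hconjQ x q' (hpair i a q ha hq) hq' with h | h <;>
        rw [h] at hΦk
      · rw [hxk] at hΦk
        exact absurd (hval q' i a (hq'i.symm ▸ hΦk.symm)) ha1
      · rw [Pi.mul_apply, hxk, one_mul] at hΦk
        have e2 : ζ k = Φ q' (Pi.mulSingle i (ζ i)) k := by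
          have := hσx q' ζ i
          rwa [hq'i, hfixζ q' (hQz q' hq')] at this
        have e3 : Φ q' (Pi.mulSingle i (a⁻¹ * ζ i)) (σ q' i) = 1 := by
          rw [hq'i, Pi.mulSingle_mul, map_mul, Pi.mul_apply, Pi.mulSingle_inv, map_inv, Pi.inv_apply, ← e2, ← hΦk,
            inv_mul_cancel]
        exact inv_mul_eq_one.1 (hval q' i _ e3)
    have h4 := four_le_of_simple hTna (hordi i)
    have hsub : (Subgroup.centralizer ({ζ i} : Set T) : Set T) ⊆ {1, ζ i} := fun a ha =>
      hsmall a (Subgroup.mem_centralizer_singleton_iff.1 ha)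
    have h2 := (Set.ncard_le_ncard hsub (Set.toFinite _)).trans (Set.ncard_insert_le _ _)
    rw [Set.ncard_singleton] at h2
    have h5 : Nat.card (Subgroup.centralizer ({ζ i} : Set T)) =
        (Subgroup.centralizer ({ζ i} : Set T) : Set T).ncard := Nat.card_coe_set_eq _
    omega
  obtain ⟨u, hu, hu01⟩ := htrans 0 1
  have hu10 : σ u⁻¹ 1 = 0 := hback u 0 1 hu01
  have hdec : ∀ x : Fin 2 → T, x = Pi.mulSingle 0 (x 0) * Pi.mulSingle 1 (x 1) := fun x => by
    funext l; fin_cases l <;> simp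
  let f₀ : T →* G := lift.comp (MonoidHom.mulSingle (fun _ : Fin 2 => T) 0)
  have hf₀ : Function.Injective f₀ := fun a b h => by
    simpa using congrFun (hliftinj h) 0
  have hLsimple : IsSimpleGroup f₀.range := by
    haveI : Nontrivial f₀.range := (MonoidHom.ofInjective hf₀).toEquiv.symm.nontrivial
    exact IsSimpleGroup.isSimpleGroup_of_surjective (MonoidHom.ofInjective hf₀).toMonoidHom
      (MonoidHom.ofInjective hf₀).surjective
  have hLu : ∀ w, w ∈ f₀.range.map (MulAut.conj u).toMonoidHom ↔ ∃ b, lift (Pi.mulSingle 1 b) = w := by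
    intro w
    constructor
    · rintro ⟨_, ⟨a, rfl⟩, rfl⟩
      refine ⟨Φ u (Pi.mulSingle 0 a) 1, ?_⟩
      have e1 := hsingle u 0 a
      rw [hu01] at e1
      rw [← e1, hΦ]
      rfl
    · rintro ⟨b, rfl⟩
      have e1 := hsingle u⁻¹ 1 b
      rw [hu10] at e1
      refine ⟨_, ⟨Φ u⁻¹ (Pi.mulSingle 1 b) 0, rfl⟩, ?_⟩
      show u * lift (Pi.mulSingle 0 _) * u⁻¹ = _
      rw [← e1, hΦ]; group
  have huz : Commute u z := hQz u hu
  have hζ1 : Φ u (Pi.mulSingle 0 (ζ 0)) = Pi.mulSingle 1 (ζ 1) := by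
    have := hσx u ζ 0
    rw [hu01, hfixζ u huz] at this
    rw [hsingle u 0, hu01, ← this]
  set CT := Subgroup.centralizer ({ζ 0} : Set T) with hCT
  have hCsq : ∀ a ∈ CT, a * a = 1 ∨ a * a = ζ 0 := by
    intro a ha
    have hx := hsqQ _ (hpair 0 a u (Subgroup.mem_centralizer_singleton_iff.1 ha) hu)
    have h0 : Φ u (Pi.mulSingle 0 a⁻¹) 0 = 1 := hσs u 0 _ 0 (hu01.symm ▸ by decide)
    rcases hx with h | h <;> have h' := congrFun h 0 <;>
      rw [Pi.mul_apply, Pi.mul_apply, Pi.mulSingle_eq_same, h0, mul_one] at h'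
    exacts [Or.inl h', Or.inr h']
  have hζ00 : ζ 0 * ζ 0 = 1 := congrFun hζζ 0
  have hC4 : ∀ a ∈ CT, a ^ 4 = 1 := fun a ha => by
    rw [show (4 : ℕ) = 2 * 2 from rfl, pow_mul, pow_two a]
    rcases hCsq a ha with h | h <;> rw [h, pow_two]
    exacts [one_mul 1, hζ00]
  have h4 := four_le_of_simple hTna (hordi 0)
  -- a Sylow subgroup centralizing the involution
  obtain ⟨T₀, hT₀⟩ := hE.1.1.exists_le_sylow
  have hT₀z : ∀ s ∈ T₀, Commute s z := by
    haveI : Nontrivial (T₀ : Subgroup G) := ⟨⟨⟨z, hT₀ X.mem⟩, 1, fun h => X.ne (congrArg Subtype.val h)⟩⟩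
    haveI := (T₀.isPGroup' : IsPGroup 2 (T₀ : Subgroup G)).center_nontrivial
    obtain ⟨v, hv⟩ := exists_ne (1 : Subgroup.center (T₀ : Subgroup G))
    have hvc : ∀ s (hs : s ∈ (T₀ : Subgroup G)), s * ((v : (T₀ : Subgroup G)) : G) = ((v : (T₀ : Subgroup G)) : G) * s :=
      fun s hs => congrArg Subtype.val (Subgroup.mem_center_iff.1 v.2 ⟨s, hs⟩)
    have hvz : ((v : (T₀ : Subgroup G)) : G) = z :=
      (hcen _ fun q hq => (hvc q (hT₀ hq)).symm).resolve_left fun h => hv (Subtype.ext (Subtype.ext h))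
    intro s hs
    have := hvc s hs
    rwa [hvz] at this
  have hsyl : ∀ S₁ : Subgroup T, IsPGroup 2 S₁ → Nat.card S₁ ≤ Nat.card CT := by
    intro S₁ hS₁
    obtain ⟨S', hS'⟩ := (hS₁.map f₀).exists_le_sylow
    obtain ⟨g, hg⟩ := MulAction.exists_smul_eq G S' T₀
    obtain ⟨h, hh0, hhz⟩ : ∃ h : G, σ h 0 = 0 ∧ ∀ a ∈ S₁, Commute (h * f₀ a * h⁻¹) z := by
      have hgz : ∀ a ∈ S₁, Commute (g * f₀ a * g⁻¹) z := fun a ha => by
        refine hT₀z _ ?_
        rw [← hg]
        exact ⟨f₀ a, hS' ⟨a, ha, rfl⟩, rfl⟩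
      rcases (by decide : ∀ x : Fin 2, x = 0 ∨ x = 1) (σ g 0) with h0 | h1
      · exact ⟨g, h0, hgz⟩
      · refine ⟨u⁻¹ * g, by rw [hcomp, h1, hu10], fun a ha => ?_⟩
        have := (Commute.conj_iff u⁻¹).2 (hgz a ha)
        rw [inv_inv, show u⁻¹ * z * u = z by rw [huz.inv_left.eq, inv_mul_cancel_right]] at this
        rwa [show u⁻¹ * g * f₀ a * (u⁻¹ * g)⁻¹ = u⁻¹ * (g * f₀ a * g⁻¹) * u by group]
    have hin : ∀ a : S₁, Φ h (Pi.mulSingle 0 (a : T)) 0 ∈ CT := fun a => by
      rw [hCT, Subgroup.mem_centralizer_singleton_iff]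
      have hc : Commute (Φ h (Pi.mulSingle 0 (a : T))) ζ := hliftinj (by
        rw [map_mul, map_mul, hΦ, hζ]; exact (hhz a a.2).eq)
      exact congrFun hc 0
    refine Nat.card_le_card_of_injective (fun a : S₁ => (⟨_, hin a⟩ : CT)) fun a b hab' => ?_
    have e1 : Φ h (Pi.mulSingle 0 (a : T)) 0 = Φ h (Pi.mulSingle 0 (b : T)) 0 := congrArg Subtype.val hab'
    have e2 : Φ h (Pi.mulSingle 0 ((a : T)⁻¹ * b)) (σ h 0) = 1 := by
      rw [hh0, Pi.mulSingle_mul, map_mul, Pi.mul_apply, Pi.mulSingle_inv, map_inv, Pi.inv_apply, e1, inv_mul_cancel]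
    exact Subtype.ext (inv_mul_eq_one.1 (hval h 0 _ e2))
  set L := f₀.range with hL
  set z₁ := f₀ (ζ 0) with hz₁
  set eL := MonoidHom.ofInjective hf₀ with heL
  set R₀ : Subgroup L := (Subgroup.centralizer ({z₁} : Set G)).subgroupOf L with hR₀
  have hR₀mem : ∀ a : T, eL a ∈ R₀ ↔ a ∈ CT := fun a => by
    rw [hR₀, Subgroup.mem_subgroupOf, Subgroup.mem_centralizer_singleton_iff, hCT,
      Subgroup.mem_centralizer_singleton_iff]
    show f₀ a * f₀ (ζ 0) = f₀ (ζ 0) * f₀ a ↔ _
    rw [← map_mul, ← map_mul, hf₀.eq_iff]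
  have hR₀sq : ∀ r ∈ R₀, (r : G) * r = 1 ∨ (r : G) * r = z₁ := by
    intro r hr
    obtain ⟨a, rfl⟩ := eL.surjective r
    show f₀ a * f₀ a = 1 ∨ f₀ a * f₀ a = z₁
    rw [← map_mul, hz₁]
    rcases hCsq a ((hR₀mem a).1 hr) with h | h <;> rw [h]
    exacts [Or.inl (map_one f₀), Or.inr rfl]
  have hz₁sq : z₁ * z₁ = 1 := by rw [hz₁, ← map_mul, hζ00, map_one]
  have hR₀2 : IsPGroup 2 R₀ := fun r => ⟨2, Subtype.ext (Subtype.ext (by
    show ((r : L) : G) ^ (2 ^ 2) = 1
    rw [show (2 : ℕ) ^ 2 = 2 * 2 from rfl, pow_mul, pow_two ((r : L) : G)]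
    rcases hR₀sq r r.2 with h | h <;> rw [h, pow_two]
    exacts [one_mul 1, hz₁sq]))⟩
  obtain ⟨S, hS⟩ := hR₀2.exists_le_sylow
  have hSR : (S : Subgroup L) = R₀ := by
    refine (Subgroup.eq_of_le_of_card_ge hS ?_).symm
    have h1 := hsyl ((S : Subgroup L).comap eL.toMonoidHom) (S.isPGroup'.comap_of_injective _ eL.injective)
    have h2 : Nat.card ((S : Subgroup L).comap eL.toMonoidHom) = Nat.card (S : Subgroup L) :=
      Nat.card_congr (eL.toEquiv.subtypeEquiv fun a => Iff.rfl)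
    have h3 : Nat.card CT = Nat.card R₀ := Nat.card_congr (eL.toEquiv.subtypeEquiv fun a => (hR₀mem a).symm)
    omega
  refine ⟨L, u, hu, hLsimple, fun h => hTna ⟨⟨fun a b => ?_⟩⟩, ?_, ?_, ?_, z₁, ⟨ζ 0, rfl⟩, ?_, ⟨S, hSR, ?_⟩, ?_⟩
  · exact eL.injective (by rw [map_mul, map_mul]; exact h.is_comm.comm _ _)
  · rw [eq_bot_iff]
    rintro w ⟨⟨a, rfl⟩, hw⟩
    obtain ⟨b, hb⟩ := (hLu _).1 hw
    have h1 : Pi.mulSingle (M := fun _ : Fin 2 => T) 1 b 0 = a := by
      rw [hliftinj hb]; simp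
    rw [Pi.mulSingle_eq_of_ne (by decide)] at h1
    rw [Subgroup.mem_bot, ← h1, map_one]
  · rintro x ⟨a, rfl⟩ w hw
    obtain ⟨b, rfl⟩ := (hLu _).1 hw
    show lift (Pi.mulSingle 0 a) * _ = _
    rw [← map_mul]
    show _ = lift (Pi.mulSingle 1 b) * lift (Pi.mulSingle 0 a)
    rw [← map_mul]
    congr 1
    funext l; fin_cases l <;> simp
  · refine le_antisymm (sup_le ?_ ?_) fun g hg => ?_
    · rintro _ ⟨a, rfl⟩; exact hliftM _
    · intro w hw
      obtain ⟨b, rfl⟩ := (hLu w).1 hw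
      exact hliftM _
    · obtain ⟨x, rfl⟩ := hliftsurj g hg
      rw [hdec x, map_mul]
      exact mul_mem (Subgroup.mem_sup_left ⟨_, rfl⟩) (Subgroup.mem_sup_right ((hLu _).2 ⟨_, rfl⟩))
  · rw [hz₁]
    show z = lift (Pi.mulSingle 0 (ζ 0)) * (u * lift (Pi.mulSingle 0 (ζ 0)) * u⁻¹)
    rw [← hΦ, hζ1, ← map_mul, ← hdec, hζ]
  · -- the Frattini subgroup
    set A := (Subgroup.zpowers z₁).comap ((L.subtype).comp (S : Subgroup L).subtype) with hA
    have hSz : ∀ s : (S : Subgroup L), Commute ((s : L) : G) z₁ := fun s => by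
      have hs : (s : L) ∈ R₀ := hSR ▸ s.2
      exact Subgroup.mem_centralizer_singleton_iff.1 (Subgroup.mem_subgroupOf.1 hs)
    haveI : A.Normal := ⟨fun a ha s => by
      rw [hA, Subgroup.mem_comap] at ha ⊢
      obtain ⟨n, hn⟩ := Subgroup.mem_zpowers_iff.1 ha
      rw [map_mul, map_mul, map_inv, ← hn]
      show ((s : L) : G) * z₁ ^ n * ((s : L) : G)⁻¹ ∈ Subgroup.zpowers z₁
      rw [((hSz s).zpow_right n).eq, mul_inv_cancel_right]
      exact zpow_mem (Subgroup.mem_zpowers z₁) n⟩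
    have hsqA : ∀ s : (S : Subgroup L), s * s ∈ A := fun s => by
      have hs : (s : L) ∈ R₀ := hSR ▸ s.2
      show ((s : L) : G) * (s : L) ∈ Subgroup.zpowers z₁
      rcases hR₀sq _ hs with h | h <;> rw [h]
      exacts [one_mem _, Subgroup.mem_zpowers _]
    rw [Subgroup.map_le_iff_le_comap]
    refine Cfsg.Agent.Solv.frattini_le (p := 2) A (fun a b => ?_) (fun a => pow_two a ▸ hsqA a)
    rw [show ⁅a, b⁆ = a * a * ((a⁻¹ * b) * (a⁻¹ * b)) * (b⁻¹ * b⁻¹) by rw [commutatorElement_def]; group]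
    exact mul_mem (mul_mem (hsqA a) (hsqA _)) (hsqA _)
  · -- the two-core is bigger
    intro hEq
    set H := Subgroup.centralizer ({z} : Set G) with hH
    have hD : (M.subgroupOf H) ≤ Cfsg.pCore 2 H := by
      refine le_sSup ⟨inferInstance, fun d => ⟨2, ?_⟩⟩
      refine Subtype.ext (Subtype.ext ?_)
      show ((d : H) : G) ^ 4 = 1
      obtain ⟨x, hx⟩ := hliftsurj ((d : H) : G) (Subgroup.mem_subgroupOf.1 d.2)
      have hxc : Commute x ζ := hliftinj (by
        rw [map_mul, map_mul, hx, hζ]; exact Subgroup.mem_centralizer_singleton_iff.1 d.1.2)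
      have hy : Commute (Φ u⁻¹ x) ζ := by
        have := hxc.map (Φ u⁻¹).toMonoidHom
        rwa [show (Φ u⁻¹).toMonoidHom ζ = ζ from hfixζ u⁻¹ huz.inv_left] at this
      have h0 : (x ^ 4) 0 = 1 := hC4 _ (Subgroup.mem_centralizer_singleton_iff.2 (congrFun hxc 0))
      have h1 : Φ u⁻¹ (Pi.mulSingle 1 ((x ^ 4) 1)) (σ u⁻¹ 1) = 1 := by
        rw [← hσx, hu10, map_pow]
        exact hC4 _ (Subgroup.mem_centralizer_singleton_iff.2 (congrFun hy 0))
      rw [← hx, ← map_pow, hdec (x ^ 4), h0, hval _ _ _ h1, Pi.mulSingle_one, Pi.mulSingle_one, one_mul, map_one]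
    have hCQ' : ∀ a ∈ CT, a = 1 ∨ a = ζ 0 := by
      intro a ha
      have haH : f₀ a ∈ H := Subgroup.mem_centralizer_singleton_iff.2
        (hcommζ 0 a (Subgroup.mem_centralizer_singleton_iff.1 ha))
      have haQ : f₀ a ∈ Q := by
        rw [hEq]
        exact ⟨⟨_, haH⟩, hD (Subgroup.mem_subgroupOf.2 (hliftM _)), rfl⟩
      have h0 : Φ u (Pi.mulSingle 0 a) 0 = 1 := hσs u 0 a 0 (hu01.symm ▸ by decide)
      rcases hconjQ (Pi.mulSingle 0 a) u haQ hu with h | h <;> rw [h] at h0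
      · rw [Pi.mulSingle_eq_same] at h0; exact Or.inl h0
      · rw [Pi.mul_apply, Pi.mulSingle_eq_same] at h0
        exact Or.inr ((eq_inv_of_mul_eq_one_left h0).trans (inv_eq_of_mul_eq_one_right hζ00))
    have hsub : (CT : Set T) ⊆ {1, ζ 0} := hCQ'
    have h2 := (Set.ncard_le_ncard hsub (Set.toFinite _)).trans (Set.ncard_insert_le _ _)
    rw [Set.ncard_singleton] at h2
    have h5 : Nat.card CT = (CT : Set T).ncard := Nat.card_coe_set_eq _
    have h4' : 4 ≤ Nat.card CT := h4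
    omega

end Cfsg.Agent.S5426
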