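import Cfsg.Statements.S5427
import Cfsg.Agent.Lib.Spor.LargeSimple

set_option autoImplicit false
open Cfsg
open Cfsg.Agent.Spor.Large

namespace Cfsg.Agent.S5427

/-- Let z be an involution of the finite group G whose centralizer C has generalized Fitting subgroup Q, an extraspecial 2-group of width at least 2 (order 2^(2w+1), w ≥ 2). Let K be a subgroup of G such that the subgroup U generated by the K-conjugates of z is abelian and C is generated by the C-conjugates of U. Suppose that either some K-conjugate of z other than z lies in Q, or some element u of U ∩ Q outside the subgroup generated by z has z in the largest normal 2-subgroup of its centralizer. Then G is simple and Q is a large extraspecial 2-subgroup of G. -/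
theorem result {G : Type*} [Group G] [Finite G] (z : G) (hz : orderOf z = 2) (Q : Subgroup G) (hQC : Q ≤ Subgroup.centralizer ({z} : Set G)) (hF : (Cfsg.generalizedFittingSubgroup ↥(Subgroup.centralizer ({z} : Set G))).map (Subgroup.centralizer ({z} : Set G)).subtype = Q) (hQ : Cfsg.IsExtraspecial 2 ↥Q) (w : ℕ) (hw : 2 ≤ w) (hcard : Nat.card ↥Q = 2 ^ (2 * w + 1)) (K U : Subgroup G) (hU : U = Subgroup.closure {x : G | ∃ k ∈ K, x = k * z * k⁻¹}) (hUab : IsMulCommutative ↥U) (hgen : Subgroup.closure {x : G | ∃ c ∈ Subgroup.centralizer ({z} : Set G), ∃ u ∈ U, x = c * u * c⁻¹} = Subgroup.centralizer ({z} : Set G)) (h3 : (∃ k ∈ K, k * z * k⁻¹ ∈ Q ∧ k * z * k⁻¹ ≠ z) ∨ ∃ u ∈ U ⊓ Q, u ∉ Subgroup.zpowers z ∧ (∃ hz' : z ∈ Subgroup.centralizer ({u} : Set G), (⟨z, hz'⟩ : ↥(Subgroup.centralizer ({u} : Set G))) ∈ Cfsg.pCore 2 ↥(Subgroup.centralizer ({u} : Set G)))) : IsSimpleGroup G ∧ Cfsg.IsLargeExtraspecial Q := by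
  classical
  haveI : Fact (Nat.Prime 2) := ⟨Nat.prime_two⟩
  obtain ⟨X, hnorm, -, hzp, hL2, hL3⟩ := of_gfit z hz Q hQC hF hQ
  have hzz : z * z = 1 := X.sq
  have hconjU : ∀ k ∈ K, k * z * k⁻¹ ∈ U := fun k hk => hU ▸ Subgroup.subset_closure ⟨k, hk, rfl⟩
  have hUsq : ∀ u ∈ U, u * u = 1 := by
    have hcomm : ∀ a ∈ U, ∀ b ∈ U, a * b = b * a := fun a ha b hb =>
      congrArg Subtype.val (hUab.is_comm.comm ⟨a, ha⟩ ⟨b, hb⟩)
    intro u hu
    have hu' := hu
    rw [hU] at hu'
    induction hu' using Subgroup.closure_induction with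
    | mem v hv => obtain ⟨k, -, rfl⟩ := hv; rw [conj_mul, hzz, mul_one, mul_inv_cancel]
    | one => exact one_mul 1
    | mul a b ha hb iha ihb =>
      have haU : a ∈ U := hU.symm ▸ ha
      have hbU : b ∈ U := hU.symm ▸ hb
      calc a * b * (a * b) = a * (b * a) * b := by simp only [mul_assoc]
        _ = (a * a) * (b * b) := by rw [hcomm b hbU a haU]; simp only [mul_assoc]
        _ = 1 := by rw [iha haU, ihb hbU, one_mul]
    | inv a ha iha => rw [← mul_inv_rev, iha (hU.symm ▸ ha), inv_one]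
  have hlarge : Cfsg.IsLargeExtraspecial Q := by
    rcases h3 with ⟨k, -, hkQ, hkz⟩ | ⟨u, hu, huz, hz', hzO⟩
    · have hkN : k ∉ Subgroup.normalizer (((Subgroup.center ↥Q).map Q.subtype : Subgroup G) : Set G) := by
        intro hn
        have hm := (Subgroup.mem_normalizer_iff.1 hn z).1 (hzp ▸ Subgroup.mem_zpowers z)
        rw [hzp] at hm
        obtain ⟨n, hn'⟩ := Subgroup.mem_zpowers_iff.1 hm
        rcases Int.even_or_odd n with ⟨j, rfl⟩ | ⟨j, rfl⟩
        · rw [zpow_add, ← (Commute.refl z).mul_zpow, hzz, one_zpow] at hn'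
          exact X.ne (conj_eq_one_iff.1 hn'.symm)
        · rw [zpow_add, two_mul, zpow_add, ← (Commute.refl z).mul_zpow, hzz, one_zpow, one_mul, zpow_one] at hn'
          exact hkz hn'.symm
      refine (conjugate_inside Q hQ hL2 hL3 w hw hcard k hkN ?_ _ rfl).2.2
      rw [hzp, MonoidHom.map_zpowers, Subgroup.zpowers_le]
      exact hkQ
    · have hu1 : u ≠ 1 := fun e => huz (e ▸ one_mem _)
      refine involution_in_core Q hQ hL2 hL3 u hu.2 (hzp ▸ huz)
        (orderOf_eq_prime (by rw [pow_two, hUsq u hu.1]) hu1) ?_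
      rw [hzp, Subgroup.zpowers_le]
      exact ⟨⟨z, hz'⟩, hzO, rfl⟩
  refine ⟨simple_of_large Q hlarge X hnorm fun N hN hzN c hc => ?_, hlarge⟩
  have hUN : U ≤ N := by
    rw [hU, Subgroup.closure_le]
    rintro _ ⟨k, -, rfl⟩
    exact hN.conj_mem z hzN k
  have hCN : Subgroup.centralizer ({z} : Set G) ≤ N := by
    rw [← hgen, Subgroup.closure_le]
    rintro _ ⟨d, -, u, hu, rfl⟩
    exact hN.conj_mem u (hUN hu) d
  exact hCN (Subgroup.mem_centralizer_singleton_iff.2 hc)

end Cfsg.Agent.S5427
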