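import Cfsg.Statements.S5428
import Cfsg.Agent.Lib.Spor.LargeQuotient
import Cfsg.Agent.Lib.Solv.Coprime
import Cfsg.Agent.Lib.Fusion.Cores

set_option autoImplicit false
open Cfsg
open Cfsg.Agent.Spor.Large

namespace Cfsg.Agent.S5428

/-- the fixed points of a coprime group have centre inside the centre -/
theorem fixed_center {G : Type*} [Group G] [Finite G] {u : G} {P : Subgroup G} (X : XT u P)
    (hP : IsPGroup 2 P) {A : Subgroup G} (hAodd : Odd (Nat.card A)) (hAu : ∀ a ∈ A, Commute a u)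
    (hAP : ∀ a ∈ A, ∀ q ∈ P, a * q * a⁻¹ ∈ P) {r : G} (hr : r ∈ P ⊓ Subgroup.centralizer (A : Set G))
    (hc : ∀ s ∈ P ⊓ Subgroup.centralizer (A : Set G), Commute r s) : r = 1 ∨ r = u := by
  haveI : Fact (Nat.Prime 2) := ⟨Nat.prime_two⟩
  have hAN : A ≤ Subgroup.normalizer (P : Set G) := fun a ha => by
    rw [Subgroup.mem_normalizer_iff]
    refine fun q => ⟨hAP a ha q, fun h => ?_⟩
    have := hAP a⁻¹ (inv_mem ha) _ h
    rwa [show a⁻¹ * (a * q * a⁻¹) * a⁻¹⁻¹ = q by group] at this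
  obtain ⟨k, hk⟩ := hP.exists_card_eq
  have hco : (Nat.card A).Coprime (Nat.card P) := by
    rw [hk]; exact (Nat.coprime_two_right.2 hAodd).pow_right k
  have hsol : Group.IsSolvable P := by
    haveI : Group.IsNilpotent P := hP.isNilpotent
    infer_instance
  have hsup := Cfsg.Agent.Solv.commutator_sup_fixed hAN hco (Or.inr hsol)
  have hle : P ≤ Subgroup.centralizer ({r} : Set G) := by
    conv_lhs => rw [← hsup]
    refine sup_le (Subgroup.commutator_le.2 fun q hq a ha => ?_) fun s hs =>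
      Subgroup.mem_centralizer_singleton_iff.2 (hc s hs).symm
    rw [Subgroup.mem_centralizer_singleton_iff, commutatorElement_def]
    have hra : Commute a r := Subgroup.mem_centralizer_iff.1 hr.2 a ha
    have e1 : a * (r * q * r⁻¹) * a⁻¹ = r * (a * q * a⁻¹) * r⁻¹ := by
      rw [show a * (r * q * r⁻¹) * a⁻¹ = (a * r * a⁻¹) * (a * q * a⁻¹) * (a * r * a⁻¹)⁻¹ by group,
        hra.eq, mul_inv_cancel_right]
    have e2 : r * (q * a * q⁻¹ * a⁻¹) * r⁻¹ = (r * q * r⁻¹) * a * (r * q * r⁻¹)⁻¹ * a⁻¹ := by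
      have e := hra.symm.eq
      calc r * (q * a * q⁻¹ * a⁻¹) * r⁻¹ = (r * q * r⁻¹) * (r * a * r⁻¹) * (r * q * r⁻¹)⁻¹ * (r * a * r⁻¹)⁻¹ := by group
        _ = _ := by rw [e, mul_inv_cancel_right]
    refine (mul_inv_eq_iff_eq_mul.1 ?_).symm
    rw [e2]
    rcases X.comm r hr.1 q hq with e | e <;> rw [e]
    have hau := (hAu a ha).eq
    calc q * u * a * (q * u)⁻¹ * a⁻¹ = q * (u * a) * u⁻¹ * q⁻¹ * a⁻¹ := by group
      _ = _ := by rw [← hau, ← mul_assoc, mul_inv_cancel_right]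
  exact X.eq_of_cen r hr.1 fun b hb => (Subgroup.mem_centralizer_singleton_iff.1 (hle hb)).symm

/-- Let z be an involution of the finite group G whose centralizer C has generalized Fitting subgroup Q extraspecial (as a 2-group), let A be a subgroup of C of odd order, and let R be the centralizer of A in Q; suppose R has order at least 32, the largest normal subgroup of odd order of the centralizer of the subgroup generated by A and R lies in A, the order of that centralizer is not divisible by 4, and g is an element of G with g z g⁻¹ in R but outside the centre Z of Q. Let M be the subgroup generated by A and the centralizer of A (A is normal in it). Then: the centralizer in M of the subgroup generated by R and A, joined with A, equals the subgroup generated by A and Z; the image of R in M/A is a large extraspecial 2-subgroup of M/A; and g z g⁻¹ is conjugate to z inside the subgroup generated by R and the centralizer of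 A in g Q g⁻¹. -/
theorem result {G : Type*} [Group G] [Finite G] (z : G) (hz : orderOf z = 2) (Q : Subgroup G) (hQC : Q ≤ Subgroup.centralizer ({z} : Set G)) (hF : (Cfsg.generalizedFittingSubgroup ↥(Subgroup.centralizer ({z} : Set G))).map (Subgroup.centralizer ({z} : Set G)).subtype = Q) (hQ : Cfsg.IsExtraspecial 2 ↥Q) (A : Subgroup G) (hA : A ≤ Subgroup.centralizer ({z} : Set G)) (hAodd : Odd (Nat.card ↥A)) (R : Subgroup G) (hR : R = Q ⊓ Subgroup.centralizer (A : Set G)) (hR32 : 32 ≤ Nat.card ↥R) (hO : (Cfsg.oddCore ↥(Subgroup.centralizer ((A ⊔ R : Subgroup G) : Set G))).map (Subgroup.centralizer ((A ⊔ R : Subgroup G) : Set G)).subtype ≤ A) (h4 : ¬ 4 ∣ Nat.card ↥(Subgroup.centralizer ((A ⊔ R : Subgroup G) : Set G))) (g : G) (hgR : g * z * g⁻¹ ∈ R) (hgZ : g * z * g⁻¹ ∉ ((Subgroup.center ↥Q).map Q.subtype)) (M : Subgroup G) (hM : M = Subgroup.centralizer (A : Set G) ⊔ A) [hn : (A.subgroupOf M).Normal] : (M ⊓ Subgroup.centralizer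 ((R ⊔ A : Subgroup G) : Set G)) ⊔ A = A ⊔ ((Subgroup.center ↥Q).map Q.subtype) ∧ Cfsg.IsLargeExtraspecial ((R.subgroupOf M).map (QuotientGroup.mk' (A.subgroupOf M))) ∧ ∃ x ∈ R ⊔ ((Q).map (MulAut.conj g).toMonoidHom ⊓ Subgroup.centralizer (A : Set G)), x * (g * z * g⁻¹) * x⁻¹ = z := by
  classical
  haveI : Fact (Nat.Prime 2) := ⟨Nat.prime_two⟩
  obtain ⟨X, hnorm, -, hzp, hL2, hL3⟩ := of_gfit z hz Q hQC hF hQ
  have hQ2 : IsPGroup 2 Q := hQ.1.1
  have hAz : ∀ a ∈ A, Commute a z := fun a ha => Subgroup.mem_centralizer_singleton_iff.1 (hA ha)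
  have memR : ∀ r, r ∈ R ↔ r ∈ Q ∧ ∀ a ∈ A, Commute a r := fun r => by
    rw [hR, Subgroup.mem_inf, Subgroup.mem_centralizer_iff]; exact Iff.rfl
  have hzR : z ∈ R := (memR z).2 ⟨X.mem, hAz⟩
  have hRcen : ∀ r ∈ R, (∀ s ∈ R, Commute r s) → r = 1 ∨ r = z := fun r hr hc =>
    fixed_center X hQ2 hAodd hAz (fun a ha => hnorm a (hAz a ha)) (hR ▸ hr) (fun s hs => hc s (hR ▸ hs))
  have XR : XT z R := ⟨X.ne, X.sq, hzR, fun a ha => X.cen a ((memR a).1 ha).1,
    fun a ha b hb => X.comm a ((memR a).1 ha).1 b ((memR b).1 hb).1, hRcen⟩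
  obtain ⟨m, -, hm, -⟩ := Cfsg.Agent.Solv.extraspecial_card hQ
  have hRQ : R ≤ Q := hR ▸ inf_le_left
  have hm2 : 2 ≤ m := by
    by_contra hlt
    have h1 : Nat.card R ≤ Nat.card Q := Nat.card_le_card_of_injective _ (Subgroup.inclusion_injective hRQ)
    have h2 : Nat.card Q ≤ 2 ^ 3 := hm ▸ Nat.pow_le_pow_right (by norm_num) (by omega)
    omega
  set z' := g * z * g⁻¹ with hz'
  have hz'z : z' ≠ z := fun e => hgZ (by rw [hzp, e]; exact Subgroup.mem_zpowers z)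
  have hgH : g ∉ Subgroup.centralizer ({z} : Set G) := fun hc => hz'z (by
    rw [hz', Subgroup.mem_centralizer_singleton_iff.1 hc, mul_inv_cancel_right])
  have hgN : g ∉ Subgroup.normalizer (((Subgroup.center ↥Q).map Q.subtype : Subgroup G) : Set G) := fun hn =>
    hgZ ((Subgroup.mem_normalizer_iff.1 hn z).1 (hzp ▸ Subgroup.mem_zpowers z))
  have hgQ : z' ∈ Q := hRQ hgR
  have hZg : ((Subgroup.center ↥Q).map Q.subtype).map (MulAut.conj g).toMonoidHom ≤ Q := by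
    rw [hzp, MonoidHom.map_zpowers, Subgroup.zpowers_le]
    exact hgQ
  have hlarge : Cfsg.IsLargeExtraspecial Q :=
    (conjugate_inside Q hQ hL2 hL3 m hm2 hm g hgN hZg _ rfl).2.2
  have h := exists_pair Q hlarge z hzp m hm2 hm g hgH hgQ
  set Q' := Q.map (MulAut.conj g).toMonoidHom with hQ'
  have hAz' : ∀ a ∈ A, Commute a z' := ((memR z').1 hgR).2
  -- movers fixed by `A`
  obtain ⟨y, hy, hyn⟩ : ∃ y ∈ R, ¬ Commute y z' := by
    by_contra hno
    push Not at hno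
    rcases hRcen z' hgR (fun s hs => (hno s hs).symm) with e | e
    exacts [h.xt'.ne e, hz'z e]
  obtain ⟨p, hp, hpn⟩ : ∃ p ∈ Q' ⊓ Subgroup.centralizer (A : Set G), ¬ Commute p z := by
    by_contra hno
    push Not at hno
    have hzm : z ∈ Q' ⊓ Subgroup.centralizer (A : Set G) :=
      ⟨h.mem, Subgroup.mem_centralizer_iff.2 fun a ha => (hAz a ha).eq⟩
    rcases fixed_center h.xt' (hQ2.map _) hAodd hAz' (fun a ha => h.norm' a (hAz' a ha)) hzm
      (fun s hs => (hno s hs).symm) with e | e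
    exacts [X.ne e, hz'z e.symm]
  obtain ⟨yz, yz', yzz⟩ := h.act (hRQ hy) hyn
  obtain ⟨pz', pz, pzz⟩ := h.act' hp.1 hpn
  set x := p * y * p with hx
  have hxz' : x * z' * x⁻¹ = z := by
    rw [hx, show p * y * p * z' * (p * y * p)⁻¹ = p * (y * (p * z' * p⁻¹) * y⁻¹) * p⁻¹ by group, pz', yz', pzz]
  have memCA : ∀ c, c ∈ Subgroup.centralizer (A : Set G) ↔ ∀ a ∈ A, Commute a c := fun c => by
    rw [Subgroup.mem_centralizer_iff]; exact Iff.rfl
  have hxA : x ∈ Subgroup.centralizer (A : Set G) :=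
    mul_mem (mul_mem hp.2 ((memCA y).2 ((memR y).1 hy).2)) hp.2
  -- the centralizer of both
  set D := Subgroup.centralizer ((A ⊔ R : Subgroup G) : Set G) with hD
  have memD : ∀ c, c ∈ Subgroup.centralizer (A : Set G) → (∀ r ∈ R, Commute c r) → c ∈ D := by
    intro c hcA hcR
    refine Subgroup.mem_centralizer_iff.2 fun v hv => ?_
    have hle : A ⊔ R ≤ Subgroup.centralizer ({c} : Set G) :=
      sup_le (fun a ha => Subgroup.mem_centralizer_singleton_iff.2 ((memCA c).1 hcA a ha))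
        (fun r hr => Subgroup.mem_centralizer_singleton_iff.2 (hcR r hr).symm)
    exact (Subgroup.mem_centralizer_singleton_iff.1 (hle hv))
  have hzCA : z ∈ Subgroup.centralizer (A : Set G) := (memCA z).2 hAz
  have hDAZ : ∀ d ∈ D, ∃ a ∈ A, d = a ∨ d = a * z := by
    intro d hd
    have hzD : z ∈ D := memD z hzCA fun r hr => X.cen r (hRQ hr)
    set zd : D := ⟨z, hzD⟩ with hzd
    haveI : (Subgroup.zpowers zd).Normal := ⟨fun v hv c => by
      have hc : Commute c zd := Subtype.ext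
        ((Subgroup.mem_centralizer_iff.1 c.2 z (Subgroup.mem_sup_right hzR)).symm)
      obtain ⟨n, rfl⟩ := Subgroup.mem_zpowers_iff.1 hv
      rw [(hc.zpow_right n).eq, mul_inv_cancel_right]
      exact zpow_mem (Subgroup.mem_zpowers zd) n⟩
    have hcz : Nat.card (Subgroup.zpowers zd) = 2 := by
      rw [Nat.card_zpowers, ← Subgroup.orderOf_coe]; exact hz
    have hidx : Odd (Subgroup.zpowers zd).index := by
      rw [← Nat.not_even_iff_odd, even_iff_two_dvd]
      intro h2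
      refine h4 ?_
      rw [← (Subgroup.zpowers zd).card_mul_index, hcz]
      exact mul_dvd_mul_left 2 h2
    obtain ⟨H, hH⟩ := Subgroup.exists_right_complement'_of_coprime (N := Subgroup.zpowers zd)
      (by rw [hcz]; exact Nat.coprime_two_left.2 hidx)
    have hHi : H.index = 2 := hH.index_eq_card.trans hcz
    haveI : H.Normal := Subgroup.normal_of_index_eq_two hHi
    have hHO : H ≤ Cfsg.oddCore D := by
      refine Cfsg.Agent.Fusion.le_pPrimeCore ?_
      have := hH.card_mul_card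
      rw [← (Subgroup.zpowers zd).card_mul_index] at this
      rw [Nat.eq_of_mul_eq_mul_left Nat.card_pos this]
      exact Nat.coprime_two_right.2 hidx
    have hmem : (⟨d, hd⟩ : D) ∈ H ⊔ Subgroup.zpowers zd := by
      rw [sup_comm, hH.sup_eq_top]; exact Subgroup.mem_top _
    obtain ⟨u, hu, v, hv, e⟩ := Subgroup.mem_sup_of_normal_left.1 hmem
    refine ⟨u, hO ⟨u, hHO hu, rfl⟩, ?_⟩
    obtain ⟨n, rfl⟩ := Subgroup.mem_zpowers_iff.1 hv
    have e' : (u : G) * z ^ n = d := congrArg Subtype.val e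
    rcases Int.even_or_odd n with ⟨j, rfl⟩ | ⟨j, rfl⟩
    · left; rw [← e', zpow_add, ← (Commute.refl z).mul_zpow, X.sq, one_zpow, mul_one]
    · right; rw [← e', zpow_add, two_mul, zpow_add, ← (Commute.refl z).mul_zpow, X.sq, one_zpow, one_mul, zpow_one]
  refine ⟨?_, ?_, x, mul_mem (mul_mem (Subgroup.mem_sup_right hp) (Subgroup.mem_sup_left hy)) (Subgroup.mem_sup_right hp), hxz'⟩
  · rw [hzp]
    refine le_antisymm (sup_le ?_ le_sup_left) (sup_le le_sup_right (Subgroup.zpowers_le.2 (Subgroup.mem_sup_left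
      ⟨hM ▸ Subgroup.mem_sup_left hzCA, ?_⟩)))
    · intro c hc
      obtain ⟨a, ha, e | e⟩ := hDAZ c (hD ▸ by rw [sup_comm]; exact hc.2)
      · rw [e]; exact Subgroup.mem_sup_left ha
      · rw [e]; exact mul_mem (Subgroup.mem_sup_left ha) (Subgroup.mem_sup_right (Subgroup.mem_zpowers z))
    · show z ∈ Subgroup.centralizer ((R ⊔ A : Subgroup G) : Set G)
      rw [sup_comm]
      exact memD z hzCA fun r hr => X.cen r (hRQ hr)
  -- the quotient by `A`
  set π := QuotientGroup.mk' (A.subgroupOf M) with hπ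
  have hRM : R ≤ M := fun r hr => hM ▸ Subgroup.mem_sup_left ((memCA r).2 ((memR r).1 hr).2)
  have hCM : Subgroup.centralizer (A : Set G) ≤ M := hM ▸ le_sup_left
  have repM : ∀ c ∈ M, ∃ c₀ ∈ Subgroup.centralizer (A : Set G), c₀⁻¹ * c ∈ A := by
    intro c hc
    rw [hM, Subgroup.sup_eq_closure] at hc
    induction hc using Subgroup.closure_induction with
    | mem u hu =>
      rcases hu with hu | hu
      · exact ⟨u, hu, by simp⟩
      · exact ⟨1, one_mem _, by simpa using hu⟩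
    | one => exact ⟨1, one_mem _, by simp⟩
    | mul u v _ _ hu hv =>
      obtain ⟨u₀, hu₀, hua⟩ := hu
      obtain ⟨v₀, hv₀, hva⟩ := hv
      refine ⟨u₀ * v₀, mul_mem hu₀ hv₀, ?_⟩
      rw [show (u₀ * v₀)⁻¹ * (u * v) = v₀⁻¹ * ((u₀⁻¹ * u) * v₀) * (v₀⁻¹ * v) by group,
        ((memCA v₀).1 hv₀ _ hua).eq, inv_mul_cancel_left]
      exact mul_mem hua hva
    | inv u _ hu =>
      obtain ⟨u₀, hu₀, hua⟩ := hu
      refine ⟨u₀⁻¹, inv_mem hu₀, ?_⟩
      rw [inv_inv, show u₀ * u⁻¹ = u₀ * (u₀⁻¹ * u)⁻¹ * u₀⁻¹ by group,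
        ← ((memCA u₀).1 hu₀ _ (inv_mem hua)).eq, mul_inv_cancel_right]
      exact inv_mem hua
  have hπ1 : ∀ (c : G) (hc : c ∈ M), π ⟨c, hc⟩ = 1 ↔ c ∈ A := fun c hc =>
    (QuotientGroup.eq_one_iff _).trans Subgroup.mem_subgroupOf
  -- an element of `A` times a 2-element
  have htrick : ∀ (c : G) (hc : c ∈ Subgroup.centralizer (A : Set G)) (r : G) (hr : r ∈ R),
      Commute (π ⟨c, hCM hc⟩) (π ⟨r, hRM hr⟩) → Commute c r := by
    intro c hc r hr hcom
    have hα : c * r * c⁻¹ * r⁻¹ ∈ A := by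
      refine (hπ1 _ (mul_mem (mul_mem (mul_mem (hCM hc) (hRM hr)) (inv_mem (hCM hc))) (inv_mem (hRM hr)))).1 ?_
      refine (show π (⟨c, hCM hc⟩ * ⟨r, hRM hr⟩ * ⟨c, hCM hc⟩⁻¹ * ⟨r, hRM hr⟩⁻¹) = 1 from ?_)
      rw [map_mul, map_mul, map_mul, map_inv, map_inv, hcom.eq, mul_inv_cancel_right, mul_inv_cancel]
    obtain ⟨hrQ, hrA⟩ := (memR r).1 hr
    set α := c * r * c⁻¹ * r⁻¹ with hαdef
    have hαr : Commute α r := hrA α hα
    have hr4 : r ^ 4 = 1 := by
      have := Cfsg.Agent.Solv.extraspecial_pow_sq hQ ⟨r, hrQ⟩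
      exact congrArg Subtype.val this
    have h1 : (α * r) ^ 4 = 1 := by
      rw [hαdef, inv_mul_cancel_right, conj_pow, hr4, mul_one, mul_inv_cancel]
    rw [hαr.mul_pow, hr4, mul_one] at h1
    have hd := Nat.dvd_gcd (orderOf_dvd_of_pow_eq_one h1) (Subgroup.orderOf_dvd_natCard A hα)
    rw [Nat.Coprime.gcd_eq_one ((Nat.coprime_two_left.2 hAodd).pow_left 2), Nat.dvd_one, orderOf_eq_one_iff] at hd
    exact mul_inv_eq_iff_eq_mul.1 (mul_inv_eq_one.1 hd)
  set Rb := (R.subgroupOf M).map π with hRb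
  have hmem : ∀ r (hr : r ∈ R), π ⟨r, hRM hr⟩ ∈ Rb := fun r hr =>
    ⟨⟨r, hRM hr⟩, Subgroup.mem_subgroupOf.2 hr, rfl⟩
  have rep : ∀ v ∈ Rb, ∃ (r : G) (hr : r ∈ R), π ⟨r, hRM hr⟩ = v := by
    rintro v ⟨⟨r, hrM⟩, hr, rfl⟩
    exact ⟨r, Subgroup.mem_subgroupOf.1 hr, rfl⟩
  have hinj : ∀ r ∈ R, r ∈ A → r = 1 := by
    intro r hr hrA
    obtain ⟨k, hk⟩ := hQ2 ⟨r, hRQ hr⟩
    have h1 : r ^ 2 ^ k = 1 := congrArg Subtype.val hk
    have hd := Nat.dvd_gcd (orderOf_dvd_of_pow_eq_one h1) (Subgroup.orderOf_dvd_natCard A hrA)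
    rwa [Nat.Coprime.gcd_eq_one ((Nat.coprime_two_left.2 hAodd).pow_left k), Nat.dvd_one, orderOf_eq_one_iff] at hd
  set zb := π ⟨z, hRM hzR⟩ with hzb
  have hlift : ∀ (a b : G) (ha : a ∈ R) (hb : b ∈ R), π ⟨a, hRM ha⟩ = π ⟨b, hRM hb⟩ → a = b := by
    intro a b ha hb e
    refine mul_inv_eq_one.1 (hinj _ (mul_mem ha (inv_mem hb)) ((hπ1 _ (mul_mem (hRM ha) (inv_mem (hRM hb)))).1 ?_))
    refine (show π (⟨a, hRM ha⟩ * ⟨b, hRM hb⟩⁻¹) = 1 from ?_)
    rw [map_mul, map_inv, e, mul_inv_cancel]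
  have Xb : XT zb Rb := by
    refine ⟨fun e => X.ne (hinj z hzR ((hπ1 _ _).1 e)), ?_, hmem z hzR, fun v hv => ?_, fun v hv v' hv' => ?_,
      fun v hv hc => ?_⟩
    · rw [hzb, ← map_mul]
      exact (congrArg π (Subtype.ext X.sq : (⟨z, hRM hzR⟩ * ⟨z, hRM hzR⟩ : M) = 1)).trans (map_one π)
    · obtain ⟨a, ha, rfl⟩ := rep v hv
      exact (Commute.map (Subtype.ext (X.cen a (hRQ ha)).eq : Commute (⟨z, hRM hzR⟩ : M) ⟨a, hRM ha⟩) π)
    · obtain ⟨a, ha, rfl⟩ := rep v hv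
      obtain ⟨b, hb, rfl⟩ := rep v' hv'
      rw [hzb, ← map_mul, ← map_inv, ← map_mul, ← map_mul]
      rcases X.comm a (hRQ ha) b (hRQ hb) with e | e
      · exact Or.inl (congrArg π (Subtype.ext e))
      · exact Or.inr (congrArg π (Subtype.ext e))
    · obtain ⟨a, ha, rfl⟩ := rep v hv
      have := hRcen a ha fun s hs => htrick a ((memCA a).2 ((memR a).1 ha).2) s hs (hc _ (hmem s hs))
      rcases this with e | e
      · exact Or.inl ((congrArg π (Subtype.ext e : (⟨a, hRM ha⟩ : M) = 1)).trans (map_one π))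
      · exact Or.inr (congrArg π (Subtype.ext e))
  have hR2 : IsPGroup 2 Rb := ((hQ2.to_le hRQ).comap_of_injective M.subtype M.subtype_injective).map π
  have hncomm : ¬ Commute (π ⟨y, hRM hy⟩) (π ⟨z', hRM hgR⟩) := fun hc =>
    hyn (htrick y ((memCA y).2 ((memR y).1 hy).2) z' hgR hc)
  obtain ⟨hEb, hZb⟩ := isExtraspecial_of_xt Xb hR2 ⟨_, hmem y hy, _, hmem z' hgR, hncomm⟩
  obtain ⟨k, -, hk, -⟩ := Cfsg.Agent.Solv.extraspecial_card hEb
  have hk2 : 2 ≤ k := by
    by_contra hlt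
    have h1 : Nat.card R ≤ Nat.card Rb := Nat.card_le_card_of_injective
      (fun r : R => (⟨π ⟨r, hRM r.2⟩, hmem r r.2⟩ : Rb)) fun a b e =>
        Subtype.ext (hlift a b a.2 b.2 (congrArg Subtype.val e))
    have h2 : Nat.card Rb ≤ 2 ^ 3 := hk ▸ Nat.pow_le_pow_right (by norm_num) (by omega)
    omega
  have rephom : ∀ v : M ⧸ A.subgroupOf M, ∃ (c : G) (hc : c ∈ Subgroup.centralizer (A : Set G)),
      π ⟨c, hCM hc⟩ = v := by
    intro v
    obtain ⟨⟨c, hc⟩, rfl⟩ := QuotientGroup.mk'_surjective _ v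
    obtain ⟨c₀, hc₀, hca⟩ := repM c hc
    refine ⟨c₀, hc₀, ?_⟩
    have e : π (⟨c₀, hCM hc₀⟩⁻¹ * ⟨c, hc⟩) = 1 := (hπ1 _ _).2 hca
    rwa [map_mul, map_inv, inv_mul_eq_one] at e
  have hC2 : Subgroup.centralizer (Rb : Set (M ⧸ A.subgroupOf M)) = (Subgroup.center ↥Rb).map Rb.subtype := by
    refine le_antisymm ?_ ?_
    · intro v hv
      obtain ⟨c, hc, rfl⟩ := rephom v
      have hcR : ∀ r ∈ R, Commute c r := fun r hr =>
        htrick c hc r hr (Subgroup.mem_centralizer_iff.1 hv _ (hmem r hr)).symm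
      obtain ⟨a, ha, e | e⟩ := hDAZ c (memD c hc hcR)
      · rw [show π ⟨c, hCM hc⟩ = 1 from (hπ1 _ _).2 (e ▸ ha)]; exact one_mem _
      · rw [show π ⟨c, hCM hc⟩ = zb by
          have haM : a ∈ M := hM ▸ Subgroup.mem_sup_right ha
          rw [show (⟨c, hCM hc⟩ : M) = ⟨a, haM⟩ * ⟨z, hRM hzR⟩ from Subtype.ext e, map_mul,
            (hπ1 a haM).2 ha, one_mul], hZb]
        exact Subgroup.mem_zpowers zb
    · rintro _ ⟨d, hd, rfl⟩
      exact Subgroup.mem_centralizer_iff.2 fun u hu =>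
        congrArg Subtype.val (Subgroup.mem_center_iff.1 hd ⟨u, hu⟩)
  have hC3 : Subgroup.centralizer (((Subgroup.center ↥Rb).map Rb.subtype : Subgroup _) :
      Set (M ⧸ A.subgroupOf M)) ≤ Subgroup.normalizer (Rb : Set (M ⧸ A.subgroupOf M)) := by
    intro v hv
    obtain ⟨c, hc, rfl⟩ := rephom v
    have hcz : Commute c z := htrick c hc z hzR (Subgroup.mem_centralizer_iff.1 hv zb
      (by rw [SetLike.mem_coe, hZb]; exact Subgroup.mem_zpowers zb)).symm
    have key : ∀ (d : G) (hd : d ∈ Subgroup.centralizer (A : Set G)), Commute d z → ∀ u ∈ Rb,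
        π ⟨d, hCM hd⟩ * u * (π ⟨d, hCM hd⟩)⁻¹ ∈ Rb := by
      intro d hd hdz u hu
      obtain ⟨r, hr, rfl⟩ := rep u hu
      rw [← map_mul, ← map_inv, ← map_mul]
      exact hmem _ ((memR _).2 ⟨hnorm d hdz r (hRQ hr), (memCA _).1
        (mul_mem (mul_mem hd ((memCA r).2 ((memR r).1 hr).2)) (inv_mem hd))⟩)
    rw [Subgroup.mem_normalizer_iff]
    refine fun u => ⟨key c hc hcz u, fun hu => ?_⟩
    have := key c⁻¹ (inv_mem hc) hcz.inv_left _ hu
    rwa [show (⟨c⁻¹, hCM (inv_mem hc)⟩ : M) = ⟨c, hCM hc⟩⁻¹ from rfl, map_inv, inv_inv,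
      show (π ⟨c, hCM hc⟩)⁻¹ * (π ⟨c, hCM hc⟩ * u * (π ⟨c, hCM hc⟩)⁻¹) * π ⟨c, hCM hc⟩ = u by group] at this
  set gb := π ⟨x⁻¹, hCM (inv_mem hxA)⟩ with hgb
  have hgbz : gb * zb * gb⁻¹ = π ⟨z', hRM hgR⟩ := by
    rw [hgb, hzb, ← map_inv, ← map_mul, ← map_mul]
    refine congrArg π (Subtype.ext ?_)
    show x⁻¹ * z * x⁻¹⁻¹ = z'
    rw [← hxz']; group
  have hgbN : gb ∉ Subgroup.normalizer (((Subgroup.center ↥Rb).map Rb.subtype : Subgroup _) :
      Set (M ⧸ A.subgroupOf M)) := by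
    intro hn
    have hm' := (Subgroup.mem_normalizer_iff.1 hn zb).1 (by rw [hZb]; exact Subgroup.mem_zpowers zb)
    rw [hgbz, hZb] at hm'
    obtain ⟨n, hn'⟩ := Subgroup.mem_zpowers_iff.1 hm'
    rcases Int.even_or_odd n with ⟨j, rfl⟩ | ⟨j, rfl⟩
    · rw [zpow_add, ← (Commute.refl zb).mul_zpow, Xb.sq, one_zpow] at hn'
      exact h.xt'.ne (hinj z' hgR ((hπ1 _ _).1 hn'.symm))
    · rw [zpow_add, two_mul, zpow_add, ← (Commute.refl zb).mul_zpow, Xb.sq, one_zpow, one_mul, zpow_one] at hn'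
      exact hz'z (hlift z' z hgR hzR hn'.symm)
  have hgbZ : ((Subgroup.center ↥Rb).map Rb.subtype).map (MulAut.conj gb).toMonoidHom ≤ Rb := by
    rw [hZb, MonoidHom.map_zpowers, Subgroup.zpowers_le]
    show gb * zb * gb⁻¹ ∈ Rb
    rw [hgbz]
    exact hmem z' hgR
  exact (conjugate_inside Rb hEb hC2 hC3 k hk2 hk gb hgbN hgbZ _ rfl).2.2

end Cfsg.Agent.S5428
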