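import Cfsg.Statements.S5429
import Cfsg.Agent.Lib.Spor.LargeQuotient

set_option autoImplicit false
open Cfsg
open Cfsg.Agent.Spor.Large

namespace Cfsg.Agent.S5429

/-- Let z be an involution of the finite group G with centralizer C whose generalized Fitting subgroup Q is extraspecial of width at least 3 (order 2^(2w+1), w ≥ 3); let g be an element of G with g z g⁻¹ in Q but outside the centre Z of Q, and t an involution lying in both Q and g Q g⁻¹ that is not conjugate to z; write P for the centralizer of t in Q and suppose that the elements of C acting trivially by conjugation on P modulo the subgroup generated by t and z are exactly the elements of Q. Then the image of P in the centralizer of t modulo the subgroup generated by t is a large extraspecial 2-subgroup there, and g z g⁻¹ is conjugate to z inside the subgroup generated by P and the centralizer of t in g Q g⁻¹. -/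
theorem result {G : Type*} [Group G] [Finite G] (z : G) (hz : orderOf z = 2) (Q : Subgroup G) (hQC : Q ≤ Subgroup.centralizer ({z} : Set G)) (hF : (Cfsg.generalizedFittingSubgroup ↥(Subgroup.centralizer ({z} : Set G))).map (Subgroup.centralizer ({z} : Set G)).subtype = Q) (hQ : Cfsg.IsExtraspecial 2 ↥Q) (w : ℕ) (hw : 3 ≤ w) (hcard : Nat.card ↥Q = 2 ^ (2 * w + 1)) (g : G) (hgQ : g * z * g⁻¹ ∈ Q) (hgZ : g * z * g⁻¹ ∉ ((Subgroup.center ↥Q).map Q.subtype)) (t : G) (ht : orderOf t = 2) (htQ : t ∈ Q ⊓ (Q).map (MulAut.conj g).toMonoidHom) (htz : ¬ IsConj z t) (P : Subgroup G) (hP : P = Q ⊓ Subgroup.centralizer ({t} : Set G)) (hCP : ∀ c ∈ Subgroup.centralizer ({z} : Set G), (∀ x ∈ P, ∃ y ∈ Subgroup.closure ({t, z} : Set G), c * x * c⁻¹ = x * y) ↔ c ∈ Q) [hn : ((Subgroup.zpowers t).subgroupOf (Subgroup.centralizer ({t} : Set G))).Normal] : Cfsg.IsLargeExtraspecial ((P.subgroupOf (Subgroup.centralizer ({t} : Set G))).map (QuotientGroup.mk' ((Subgroup.zpowers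 t).subgroupOf (Subgroup.centralizer ({t} : Set G))))) ∧ ∃ x ∈ P ⊔ ((Q).map (MulAut.conj g).toMonoidHom ⊓ Subgroup.centralizer ({t} : Set G)), x * (g * z * g⁻¹) * x⁻¹ = z := by
  classical
  haveI : Fact (Nat.Prime 2) := ⟨Nat.prime_two⟩
  obtain ⟨X, hnorm, -, hzp, hL2, hL3⟩ := of_gfit z hz Q hQC hF hQ
  set z' := g * z * g⁻¹ with hz'
  have hz'z : z' ≠ z := fun e => hgZ (by rw [hzp, e]; exact Subgroup.mem_zpowers z)
  have hgH : g ∉ Subgroup.centralizer ({z} : Set G) := fun hc => hz'z (by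
    rw [hz', Subgroup.mem_centralizer_singleton_iff.1 hc, mul_inv_cancel_right])
  have hgN : g ∉ Subgroup.normalizer (((Subgroup.center ↥Q).map Q.subtype : Subgroup G) : Set G) := by
    intro hn
    have hm := (Subgroup.mem_normalizer_iff.1 hn z).1 (hzp ▸ Subgroup.mem_zpowers z)
    exact hgZ hm
  have hZg : ((Subgroup.center ↥Q).map Q.subtype).map (MulAut.conj g).toMonoidHom ≤ Q := by
    rw [hzp, MonoidHom.map_zpowers, Subgroup.zpowers_le]
    exact hgQ
  have hlarge : Cfsg.IsLargeExtraspecial Q :=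
    (conjugate_inside Q hQ hL2 hL3 w (by omega) hcard g hgN hZg _ rfl).2.2
  have h := exists_pair Q hlarge z hzp w (by omega) hcard g hgH hgQ
  set Q' := Q.map (MulAut.conj g).toMonoidHom with hQ'
  have htt : t * t = 1 := by rw [← pow_two, ← ht, pow_orderOf_eq_one]
  have ht1 : t ≠ 1 := fun e => by rw [e, orderOf_one] at ht; omega
  have htz' : Commute t z' := (h.xt'.cen t htQ.2).symm
  have htcz : Commute t z := (h.xt.cen t htQ.1).symm
  have htnz : t ≠ z := fun e => htz (e ▸ IsConj.refl z)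
  have hzt : t * z ≠ z' := by
    intro e
    obtain ⟨y, hy, hyn⟩ := h.exists_mover
    refine htz (IsConj.trans (isConj_iff.2 ⟨g, rfl⟩ : IsConj z z') ?_)
    refine isConj_iff.2 ⟨y, ?_⟩
    rw [(h.act hy hyn).2.1]
    calc z' * z = t * z * z := by rw [e]
      _ = t := by rw [mul_assoc, h.xt.sq, mul_one]
  have htne' : t ≠ z' := fun e => htz (e ▸ isConj_iff.2 ⟨g, rfl⟩)
  -- elements moving the involutions inside the centralizer of `t`
  obtain ⟨y, hy, hyt, hyn⟩ : ∃ y ∈ Q, Commute y t ∧ ¬ Commute y z' := by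
    by_contra hno
    push Not at hno
    rcases h.xt.double_cent htQ.1 htt h.mem' (fun s hs hst => hno s hs hst) with e | e | e | e
    exacts [h.xt'.ne e, hz'z e, htne' e.symm, hzt e.symm]
  obtain ⟨p, hp, hpt, hpn⟩ : ∃ p ∈ Q', Commute p t ∧ ¬ Commute p z := by
    by_contra hno
    push Not at hno
    rcases h.xt'.double_cent htQ.2 htt h.mem (fun s hs hst => hno s hs hst) with e | e | e | e
    · exact h.xt.ne e
    · exact hz'z e.symm
    · exact htnz e.symm
    · exact hzt (by rw [e, ← mul_assoc, htt, one_mul])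
  obtain ⟨yz, yz', yzz⟩ := h.act hy hyn
  obtain ⟨pz', pz, pzz⟩ := h.act' hp hpn
  set x := p * y * p with hx
  have hxz' : x * z' * x⁻¹ = z := by
    rw [hx, show p * y * p * z' * (p * y * p)⁻¹ = p * (y * (p * z' * p⁻¹) * y⁻¹) * p⁻¹ by group, pz', yz', pzz]
  set Ct := Subgroup.centralizer ({t} : Set G) with hCt
  have memC : ∀ c, c ∈ Ct ↔ Commute c t := fun c => Subgroup.mem_centralizer_singleton_iff
  have hPQ : ∀ a, a ∈ P ↔ a ∈ Q ∧ Commute a t := fun a => by rw [hP]; exact mem_cz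
  have hxC : x ∈ Ct := (memC x).2 ((hpt.mul_left hyt).mul_left hpt)
  refine ⟨?_, x, mul_mem (mul_mem (Subgroup.mem_sup_right ⟨hp, (memC p).2 hpt⟩)
    (Subgroup.mem_sup_left ((hPQ y).2 ⟨hy, hyt⟩))) (Subgroup.mem_sup_right ⟨hp, (memC p).2 hpt⟩), hxz'⟩
  -- the quotient
  set π := QuotientGroup.mk' ((Subgroup.zpowers t).subgroupOf Ct) with hπ
  have hker : ∀ (a : G) (ha : a ∈ Ct), π ⟨a, ha⟩ = 1 → a = 1 ∨ a = t := by
    intro a ha he
    obtain ⟨n, hn⟩ := Subgroup.mem_zpowers_iff.1 (Subgroup.mem_subgroupOf.1 ((QuotientGroup.eq_one_iff _).1 he))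
    have hn' : t ^ n = a := hn
    rcases Int.even_or_odd n with ⟨j, rfl⟩ | ⟨j, rfl⟩
    · left; rw [← hn', zpow_add, ← (Commute.refl t).mul_zpow, htt, one_zpow]
    · right; rw [← hn', zpow_add, two_mul, zpow_add, ← (Commute.refl t).mul_zpow, htt, one_zpow, one_mul, zpow_one]
  set Pb := (P.subgroupOf Ct).map π with hPb
  have hzC : z ∈ Ct := (memC z).2 htcz.symm
  have hz'C : z' ∈ Ct := (memC z').2 htz'.symm
  have hmem : ∀ a (ha : a ∈ P), π ⟨a, (memC a).2 ((hPQ a).1 ha).2⟩ ∈ Pb := fun a ha =>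
    ⟨⟨a, (memC a).2 ((hPQ a).1 ha).2⟩, Subgroup.mem_subgroupOf.2 ha, rfl⟩
  have rep : ∀ v ∈ Pb, ∃ (a : G) (ha : a ∈ Ct), a ∈ Q ∧ Commute a t ∧ π ⟨a, ha⟩ = v := by
    rintro v ⟨⟨a, ha⟩, hv, rfl⟩
    exact ⟨a, ha, ((hPQ a).1 (Subgroup.mem_subgroupOf.1 hv)).1, (memC a).1 ha, rfl⟩
  set zb := π ⟨z, hzC⟩ with hzb
  have hzb1 : zb ≠ 1 := fun e => by
    rcases hker z hzC e with e | e
    exacts [X.ne e, htnz e.symm]
  have hcommut : ∀ (a b : G) (ha : a ∈ Ct) (hb : b ∈ Ct), Commute (π ⟨a, ha⟩) (π ⟨b, hb⟩) →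
      a * b * a⁻¹ * b⁻¹ = 1 ∨ a * b * a⁻¹ * b⁻¹ = t := by
    intro a b ha hb hc
    refine hker _ (mul_mem (mul_mem (mul_mem ha hb) (inv_mem ha)) (inv_mem hb)) ?_
    refine (show π (⟨a, ha⟩ * ⟨b, hb⟩ * ⟨a, ha⟩⁻¹ * ⟨b, hb⟩⁻¹) = 1 from ?_)
    rw [map_mul, map_mul, map_mul, map_inv, map_inv, hc.eq, mul_inv_cancel_right, mul_inv_cancel]
  have Xb : XT zb Pb := by
    refine ⟨hzb1, ?_, hmem z ((hPQ z).2 ⟨X.mem, htcz.symm⟩), fun v hv => ?_, fun v hv v' hv' => ?_, fun v hv hc => ?_⟩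
    · rw [hzb, ← map_mul]
      exact (congrArg π (Subtype.ext X.sq : (⟨z, hzC⟩ * ⟨z, hzC⟩ : Ct) = 1)).trans (map_one π)
    · obtain ⟨a, ha, haQ, -, rfl⟩ := rep v hv
      exact (Commute.map (Subtype.ext (X.cen a haQ).eq : Commute (⟨z, hzC⟩ : Ct) ⟨a, ha⟩) π)
    · obtain ⟨a, ha, haQ, -, rfl⟩ := rep v hv
      obtain ⟨b, hb, hbQ, -, rfl⟩ := rep v' hv'
      rw [hzb, ← map_mul, ← map_inv, ← map_mul, ← map_mul]
      rcases X.comm a haQ b hbQ with e | e
      · exact Or.inl (congrArg π (Subtype.ext e))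
      · exact Or.inr (congrArg π (Subtype.ext e))
    · obtain ⟨a, ha, haQ, hat, rfl⟩ := rep v hv
      have hac : ∀ s ∈ Q, Commute s t → Commute s a := by
        intro s hs hst
        have hsP : s ∈ P := (hPQ s).2 ⟨hs, hst⟩
        have := hcommut s a ((memC s).2 hst) ha (hc _ (hmem s hsP)).symm
        refine mul_inv_eq_iff_eq_mul.1 (mul_inv_eq_one.1 ?_)
        rcases this with e | e
        · exact e
        · rcases X.comm_mem hs haQ with e' | e'
          · exact e'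
          · exact absurd (e'.symm.trans e) htnz.symm
      rcases X.double_cent htQ.1 htt haQ hac with e | e | e | e
      · exact Or.inl ((congrArg π (Subtype.ext e : (⟨a, ha⟩ : Ct) = 1)).trans (map_one π))
      · exact Or.inr (congrArg π (Subtype.ext e))
      · exact Or.inl ((QuotientGroup.eq_one_iff _).2 (Subgroup.mem_subgroupOf.2 (show a ∈ Subgroup.zpowers t from e ▸ Subgroup.mem_zpowers t)))
      · refine Or.inr ?_
        have htC : t ∈ Ct := (memC t).2 (Commute.refl t)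
        rw [show (⟨a, ha⟩ : Ct) = ⟨t, htC⟩ * ⟨z, hzC⟩ from Subtype.ext e, map_mul,
          show π ⟨t, htC⟩ = 1 from (QuotientGroup.eq_one_iff _).2 (Subgroup.mem_subgroupOf.2 (Subgroup.mem_zpowers t)),
          one_mul]
  have hP2 : IsPGroup 2 Pb :=
    (((hQ.1.1.to_le (hP ▸ inf_le_left)) : IsPGroup 2 P).comap_of_injective Ct.subtype Ct.subtype_injective).map π
  have hy' : y ∈ P := (hPQ y).2 ⟨hy, hyt⟩
  have hz'P : z' ∈ P := (hPQ z').2 ⟨h.mem', htz'.symm⟩
  have hncomm : ¬ Commute (π ⟨y, (memC y).2 hyt⟩) (π ⟨z', hz'C⟩) := by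
    intro hc
    rcases hcommut y z' _ _ hc with e | e
    · exact hyn (mul_inv_eq_iff_eq_mul.1 (mul_inv_eq_one.1 e))
    · rcases X.comm_mem hy h.mem' with e' | e'
      · exact ht1 (e.symm.trans e')
      · exact htnz (e.symm.trans e')
  obtain ⟨hEb, hZb⟩ := isExtraspecial_of_xt Xb hP2 ⟨_, hmem y hy', _, hmem z' hz'P, hncomm⟩
  obtain ⟨m, -, hm, -⟩ := Cfsg.Agent.Solv.extraspecial_card hEb
  -- the order
  have hm2 : 2 ≤ m := by
    have htc : (⟨t, htQ.1⟩ : Q) ∉ Subgroup.center Q := fun hc => by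
      rcases X.eq_of_cen t htQ.1 (fun b hb => (congrArg Subtype.val (Subgroup.mem_center_iff.1 hc ⟨b, hb⟩) :).symm) with e | e
      exacts [ht1 e, htnz e]
    have hidx := Cfsg.Agent.Solv.extraspecial_centralizer_index hQ htc
    have hPc : P.subgroupOf Q = Subgroup.centralizer ({⟨t, htQ.1⟩} : Set Q) := by
      ext a
      rw [Subgroup.mem_subgroupOf, hPQ, Subgroup.mem_centralizer_singleton_iff]
      exact ⟨fun e => Subtype.ext e.2.eq, fun e => ⟨a.2, congrArg Subtype.val e⟩⟩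
    have hPn : Nat.card P * 2 = Nat.card Q := by
      rw [← hidx, ← hPc, ← Nat.card_congr (Subgroup.subgroupOfEquivOfLe (hP ▸ inf_le_left : P ≤ Q)).toEquiv]
      exact (P.subgroupOf Q).card_mul_index
    set f : P →* Ct ⧸ (Subgroup.zpowers t).subgroupOf Ct :=
      π.comp (Subgroup.inclusion (fun a ha => (memC a).2 ((hPQ a).1 ha).2 : P ≤ Ct)) with hf
    have hr : f.range = Pb := by
      ext v
      constructor
      · rintro ⟨a, rfl⟩; exact hmem a a.2
      · rintro ⟨a, ha, rfl⟩; exact ⟨⟨a, Subgroup.mem_subgroupOf.1 ha⟩, rfl⟩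
    have hk : Nat.card f.ker ≤ 2 := by
      have hsub : (f.ker.map P.subtype : Subgroup G) ≤ Subgroup.zpowers t := by
        rintro _ ⟨a, ha, rfl⟩
        rcases hker a ((memC a).2 ((hPQ a).1 a.2).2) ha with e | e
        · rw [show P.subtype a = 1 from e]; exact one_mem _
        · rw [show P.subtype a = t from e]; exact Subgroup.mem_zpowers t
      rw [Nat.card_congr (f.ker.equivMapOfInjective P.subtype P.subtype_injective).toEquiv, ← ht, ← Nat.card_zpowers]
      exact Nat.card_le_card_of_injective _ (Subgroup.inclusion_injective hsub)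
    have hc : Nat.card P = Nat.card f.ker * Nat.card Pb := by
      rw [← hr, ← Subgroup.index_ker, f.ker.card_mul_index]
    by_contra hlt
    have h8 : Nat.card Pb ≤ 8 := by
      rw [hm]
      calc 2 ^ (2 * m + 1) ≤ 2 ^ 3 := Nat.pow_le_pow_right (by norm_num) (by omega)
        _ = 8 := by norm_num
    have h128 : 2 ^ 7 ≤ Nat.card Q := hcard ▸ Nat.pow_le_pow_right (by norm_num) (by omega)
    have h16 : Nat.card P ≤ 16 := by rw [hc]; nlinarith only [hk, h8]
    omega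
  have hZmem : ∀ v, v ∈ (Subgroup.center ↥Pb).map Pb.subtype → v = 1 ∨ v = zb := by
    intro v hv
    rw [hZb] at hv
    obtain ⟨n, rfl⟩ := Subgroup.mem_zpowers_iff.1 hv
    rcases Int.even_or_odd n with ⟨j, rfl⟩ | ⟨j, rfl⟩
    · left; rw [zpow_add, ← (Commute.refl zb).mul_zpow, Xb.sq, one_zpow]
    · right; rw [zpow_add, two_mul, zpow_add, ← (Commute.refl zb).mul_zpow, Xb.sq, one_zpow, one_mul, zpow_one]
  have zconj : ∀ c, Commute c t → c * z * c⁻¹ ≠ t * z := by
    intro c _ e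
    obtain ⟨q, hq, hqn⟩ : ∃ q ∈ Q, ¬ Commute q t := by
      by_contra hno
      push Not at hno
      rcases X.eq_of_cen t htQ.1 (fun b hb => (hno b hb).symm) with e | e
      exacts [ht1 e, htnz e]
    refine htz (IsConj.trans (isConj_iff.2 ⟨c, e⟩ : IsConj z (t * z)) (isConj_iff.2 ⟨q, ?_⟩))
    rw [← conj_mul, X.move hq htQ.1 hqn, show q * z * q⁻¹ = z by rw [← (X.cen q hq).eq, mul_inv_cancel_right],
      mul_assoc, X.sq, mul_one]
  have hfix : ∀ (c : G) (hc : c ∈ Ct), Commute (π ⟨c, hc⟩) zb → Commute c z := by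
    intro c hc he
    rcases hcommut c z hc hzC he with e | e
    · exact mul_inv_eq_iff_eq_mul.1 (mul_inv_eq_one.1 e)
    · exact absurd (mul_inv_eq_iff_eq_mul.1 e) (zconj c ((memC c).1 hc))
  have hC2 : Subgroup.centralizer (Pb : Set (Ct ⧸ (Subgroup.zpowers t).subgroupOf Ct)) =
      (Subgroup.center ↥Pb).map Pb.subtype := by
    refine le_antisymm ?_ ?_
    · intro v hv
      obtain ⟨⟨c, hc⟩, rfl⟩ := QuotientGroup.mk'_surjective _ v
      have hcc : ∀ a (ha : a ∈ P), Commute (π ⟨c, hc⟩) (π ⟨a, (memC a).2 ((hPQ a).1 ha).2⟩) := fun a ha =>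
        (Subgroup.mem_centralizer_iff.1 hv _ (hmem a ha)).symm
      have hcz : Commute c z := hfix c hc (hcc z ((hPQ z).2 ⟨X.mem, htcz.symm⟩))
      have hcQ : c ∈ Q := by
        refine (hCP c (Subgroup.mem_centralizer_singleton_iff.2 hcz)).1 fun a ha => ?_
        refine ⟨a⁻¹ * (c * a * c⁻¹), ?_, by rw [mul_inv_cancel_left]⟩
        rcases hcommut c a hc _ (hcc a ha) with e | e
        · rw [mul_inv_eq_one.1 e, inv_mul_cancel]; exact one_mem _
        · have hat : Commute a t := ((hPQ a).1 ha).2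
          rw [mul_inv_eq_iff_eq_mul.1 e, hat.symm.eq, inv_mul_cancel_left]
          exact Subgroup.subset_closure (Or.inl rfl)
      have hvP : π ⟨c, hc⟩ ∈ Pb := hmem c ((hPQ c).2 ⟨hcQ, (memC c).1 hc⟩)
      exact ⟨⟨_, hvP⟩, Subgroup.mem_center_iff.2 fun u => Subtype.ext (Subgroup.mem_centralizer_iff.1 hv u u.2), rfl⟩
    · rintro _ ⟨d, hd, rfl⟩
      exact Subgroup.mem_centralizer_iff.2 fun u hu =>
        congrArg Subtype.val (Subgroup.mem_center_iff.1 hd ⟨u, hu⟩)
  have hC3 : Subgroup.centralizer (((Subgroup.center ↥Pb).map Pb.subtype : Subgroup _) :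
      Set (Ct ⧸ (Subgroup.zpowers t).subgroupOf Ct)) ≤ Subgroup.normalizer (Pb : Set (Ct ⧸ (Subgroup.zpowers t).subgroupOf Ct)) := by
    intro v hv
    obtain ⟨⟨c, hc⟩, rfl⟩ := QuotientGroup.mk'_surjective _ v
    have hcz : Commute c z := hfix c hc (Subgroup.mem_centralizer_iff.1 hv zb
      (by rw [SetLike.mem_coe, hZb]; exact Subgroup.mem_zpowers zb)).symm
    have key : ∀ (d : G) (hd : d ∈ Ct), Commute d z → ∀ u ∈ Pb, π ⟨d, hd⟩ * u * (π ⟨d, hd⟩)⁻¹ ∈ Pb := by
      intro d hd hdz u hu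
      obtain ⟨a, ha, haQ, hat, rfl⟩ := rep u hu
      have hdt : Commute d t := (memC d).1 hd
      rw [← map_mul, ← map_inv, ← map_mul]
      exact hmem _ ((hPQ _).2 ⟨hnorm d hdz a haQ, (hdt.mul_left hat).mul_left hdt.inv_left⟩)
    rw [Subgroup.mem_normalizer_iff]
    refine fun u => ⟨key c hc hcz u, fun hu => ?_⟩
    have := key c⁻¹ (inv_mem hc) hcz.inv_left _ hu
    rwa [show (⟨c⁻¹, inv_mem hc⟩ : Ct) = ⟨c, hc⟩⁻¹ from rfl, map_inv, inv_inv,
      show (π ⟨c, hc⟩)⁻¹ * (π ⟨c, hc⟩ * u * (π ⟨c, hc⟩)⁻¹) * π ⟨c, hc⟩ = u by group] at this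
  set gb := π ⟨x⁻¹, inv_mem hxC⟩ with hgb
  have hgbz : gb * zb * gb⁻¹ = π ⟨z', hz'C⟩ := by
    rw [hgb, hzb, ← map_inv, ← map_mul, ← map_mul]
    refine congrArg π (Subtype.ext ?_)
    show x⁻¹ * z * x⁻¹⁻¹ = z'
    rw [← hxz']; group
  have hgbN : gb ∉ Subgroup.normalizer (((Subgroup.center ↥Pb).map Pb.subtype : Subgroup _) :
      Set (Ct ⧸ (Subgroup.zpowers t).subgroupOf Ct)) := by
    intro hn
    have hm' := (Subgroup.mem_normalizer_iff.1 hn zb).1 (by rw [hZb]; exact Subgroup.mem_zpowers zb)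
    rw [hgbz] at hm'
    rcases hZmem _ hm' with e | e
    · rcases hker z' hz'C e with e | e
      exacts [h.xt'.ne e, htne' e.symm]
    · have e' : π (⟨z', hz'C⟩ * ⟨z, hzC⟩⁻¹) = 1 := by rw [map_mul, map_inv, e, hzb, mul_inv_cancel]
      rcases hker _ (mul_mem hz'C (inv_mem hzC)) e' with e | e
      · exact hz'z (mul_inv_eq_one.1 e)
      · exact hzt (mul_inv_eq_iff_eq_mul.1 e).symm
  have hgbZ : ((Subgroup.center ↥Pb).map Pb.subtype).map (MulAut.conj gb).toMonoidHom ≤ Pb := by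
    rw [hZb, MonoidHom.map_zpowers, Subgroup.zpowers_le]
    show gb * zb * gb⁻¹ ∈ Pb
    rw [hgbz]
    exact hmem z' hz'P
  exact (conjugate_inside Pb hEb hC2 hC3 m hm2 hm gb hgbN hgbZ _ rfl).2.2

end Cfsg.Agent.S5429
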