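import Cfsg.Statements.S5430
import Cfsg.Agent.Lib.Spor.LargePair
import Cfsg.Agent.Lib.Solv.Cores

set_option autoImplicit false
open Cfsg
open Cfsg.Agent.Spor.Large

namespace Cfsg.Agent.S5430

theorem sym3_two_elt : ∀ σ : Equiv.Perm (Fin 3), σ = 1 ∨ σ ^ 3 = 1 ∨
    ∃ τ : Equiv.Perm (Fin 3), σ * τ * σ⁻¹ * τ⁻¹ ≠ 1 ∧ (σ * τ * σ⁻¹ * τ⁻¹) ^ 3 = 1 := by
  set_option maxRecDepth 20000 in decide

/-- Let Q be a large extraspecial 2-subgroup of the finite group G (extraspecial; centralizer equal to its centre; normal in the centralizer of its centre; normalizing no non-trivial subgroup of odd order) with centre generated by z, an involution, of width w ≥ 2 (order 2^(2w+1)); let g be an element outside the centralizer H of z with g z g⁻¹ in Q; write V for the subgroup generated by z and g z g⁻¹, X for the subgroup generated by Q and g Q g⁻¹, R for the subgroup generated by the centralizer of z in g Q g⁻¹ and the centralizer of g z g⁻¹ in Q, and E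 for the intersection of Q and g Q g⁻¹. Then R is the centralizer of V in X and is the largest normal 2-subgroup of X, and X/R is isomorphic to the symmetric group of degree 3; moreover the normalizer of V is the product of X and the centralizer of V in H, X is normal in it, and modulo R it is the direct product of X/R and of the centralizer of V in H modulo R. -/
theorem result {G : Type*} [Group G] [Finite G] (Q : Subgroup G) (hQ : Cfsg.IsLargeExtraspecial Q) (z : G) (hz : ((Subgroup.center ↥Q).map Q.subtype) = Subgroup.zpowers z) (hz2 : orderOf z = 2) (w : ℕ) (hw : 2 ≤ w) (hcard : Nat.card ↥Q = 2 ^ (2 * w + 1)) (g : G) (hgH : g ∉ Subgroup.centralizer ({z} : Set G)) (hgQ : g * z * g⁻¹ ∈ Q) (V X R E : Subgroup G) (hV : V = Subgroup.closure ({z, g * z * g⁻¹} : Set G)) (hX : X = Q ⊔ (Q).map (MulAut.conj g).toMonoidHom) (hR : R = ((Q).map (MulAut.conj g).toMonoidHom ⊓ Subgroup.centralizer ({z} : Set G)) ⊔ (Q ⊓ Subgroup.centralizer ({g * z *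 g⁻¹} : Set G))) (hE : E = Q ⊓ (Q).map (MulAut.conj g).toMonoidHom) : R = X ⊓ Subgroup.centralizer (V : Set G) ∧ R = (Cfsg.pCore 2 ↥X).map X.subtype ∧ (∃ h : (R.subgroupOf X).Normal, Nonempty (↥X ⧸ R.subgroupOf X ≃* Equiv.Perm (Fin 3))) ∧ Subgroup.normalizer (V : Set G) = X ⊔ (Subgroup.centralizer ({z} : Set G) ⊓ Subgroup.centralizer (V : Set G)) ∧ (∀ y ∈ Subgroup.normalizer (V : Set G), ∀ x ∈ X, y * x * y⁻¹ ∈ X) ∧ R ≤ Subgroup.centralizer ({z} : Set G) ⊓ Subgroup.centralizer (V : Set G) ∧ (∀ x ∈ X, ∀ c ∈ Subgroup.centralizer ({z} : Set G) ⊓ Subgroup.centralizer (V : Set G), x * c * x⁻¹ * c⁻¹ ∈ R) ∧ X ⊓ (Subgroup.centralizer ({z} : Set G) ⊓ Subgroup.centralizer (V : Set G)) = R := by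
  classical
  haveI : Fact (Nat.Prime 2) := ⟨Nat.prime_two⟩
  have h := exists_pair Q hQ z hz w hw hcard g hgH hgQ
  set z' := g * z * g⁻¹ with hz'def
  set Q' := Q.map (MulAut.conj g).toMonoidHom with hQ'def
  have hRc : R = core Q Q' z z' := hR
  have hAR : Q ⊓ Subgroup.centralizer ({z'} : Set G) ≤ R := hRc ▸ le_sup_right
  have hBR : Q' ⊓ Subgroup.centralizer ({z} : Set G) ≤ R := hRc ▸ le_sup_left
  have hRX : R ≤ X := hR ▸ hX ▸ sup_le (inf_le_left.trans le_sup_right) (inf_le_left.trans le_sup_left)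
  have hnR : ∀ x ∈ X, ∀ r ∈ R, x * r * x⁻¹ ∈ R := fun x hx r hr =>
    hRc ▸ h.core_normalized (hX ▸ hx) (hRc ▸ hr)
  have hRz : ∀ r ∈ R, Commute r z ∧ Commute r z' := fun r hr => by
    have := h.core_le (hRc ▸ hr)
    exact ⟨(Subgroup.mem_centralizer_iff.1 this z (Or.inl rfl)).symm,
      (Subgroup.mem_centralizer_iff.1 this z' (Or.inr rfl)).symm⟩
  obtain ⟨y, hy, hyn⟩ := h.exists_mover
  obtain ⟨p, hp, hpn⟩ := h.exists_mover'
  obtain ⟨yz, yz', yzz⟩ := h.act hy hyn
  obtain ⟨pz', pz, pzz⟩ := h.act' hp hpn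
  have hyX : y ∈ X := hX ▸ Subgroup.mem_sup_left hy
  have hpX : p ∈ X := hX ▸ Subgroup.mem_sup_right hp
  have cQ : ∀ q ∈ Q, Commute q z' → q ∈ R := fun q hq hc => hAR (mem_cz.2 ⟨hq, hc⟩)
  have cQ' : ∀ q ∈ Q', Commute q z → q ∈ R := fun q hq hc => hBR (mem_cz.2 ⟨hq, hc⟩)
  have hyy : y * y ∈ R := cQ _ (mul_mem hy hy) (mul_inv_eq_iff_eq_mul.1 (by
    rw [show y * y * z' * (y * y)⁻¹ = y * (y * z' * y⁻¹) * y⁻¹ by group, yz', yzz]))
  have hpp : p * p ∈ R := cQ' _ (mul_mem hp hp) (mul_inv_eq_iff_eq_mul.1 (by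
    rw [show p * p * z * (p * p)⁻¹ = p * (p * z * p⁻¹) * p⁻¹ by group, pz, pzz]))
  -- the braid relation
  obtain ⟨b, hb, hbr⟩ : ∃ b ∈ R, y * p * y = b * (p * y * p) := by
    set e := p * y * p with he
    have ez : e * z * e⁻¹ = z' := by
      rw [he, show p * y * p * z * (p * y * p)⁻¹ = p * (y * (p * z * p⁻¹) * y⁻¹) * p⁻¹ by group, pz, yzz, pz']
    have ez' : e * z' * e⁻¹ = z := by
      rw [he, show p * y * p * z' * (p * y * p)⁻¹ = p * (y * (p * z' * p⁻¹) * y⁻¹) * p⁻¹ by group, pz', yz', pzz]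
    have hm : e * y * e⁻¹ ∈ Q' := h.map e ez ▸ ⟨y, hy, rfl⟩
    have hn : ¬ Commute (e * y * e⁻¹) z := fun hc => hyn ((Commute.conj_iff e).1 (ez'.symm ▸ hc))
    exact ⟨p⁻¹ * (e * y * e⁻¹), cQ' _ (mul_mem (inv_mem hp) hm) (h.coset' hp hm hpn hn), by rw [he]; group⟩
  -- the six cosets
  let W : Set G := {1, y, p, y * p, p * y, y * p * y}
  have hmul : ∀ u ∈ ({y, p} : Set G), ∀ v ∈ W, ∃ v' ∈ W, ∃ r ∈ R, u * v = v' * r := by
    have hR1 : ∀ x ∈ X, ∀ r ∈ R, x⁻¹ * r * x ∈ R := fun x hx r hr => by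
      have := hnR x⁻¹ (inv_mem hx) r hr
      rwa [inv_inv] at this
    rintro u (hu | hu) v (hv | hv | hv | hv | hv | hv) <;> rw [hu, hv]
    · exact ⟨y, by simp [W], 1, one_mem _, rfl⟩
    · exact ⟨1, by simp [W], y * y, hyy, (one_mul _).symm⟩
    · exact ⟨y * p, by simp [W], 1, one_mem _, (mul_one _).symm⟩
    · exact ⟨p, by simp [W], p⁻¹ * (y * y) * p, hR1 p hpX _ hyy, by group⟩
    · exact ⟨y * p * y, by simp [W], 1, one_mem _, by group⟩
    · exact ⟨p * y, by simp [W], (p * y)⁻¹ * (y * y) * (p * y), hR1 _ (mul_mem hpX hyX) _ hyy, by group⟩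
    · exact ⟨p, by simp [W], 1, one_mem _, rfl⟩
    · exact ⟨p * y, by simp [W], 1, one_mem _, (mul_one _).symm⟩
    · exact ⟨1, by simp [W], p * p, hpp, (one_mul _).symm⟩
    · exact ⟨y * p * y, by simp [W], (y * p * y)⁻¹ * b⁻¹ * (y * p * y),
        hR1 _ (mul_mem (mul_mem hyX hpX) hyX) _ (inv_mem hb), by
          rw [show y * p * y * ((y * p * y)⁻¹ * b⁻¹ * (y * p * y)) = b⁻¹ * (y * p * y) by group, hbr]; group⟩
    · exact ⟨y, by simp [W], y⁻¹ * (p * p) * y, hR1 y hyX _ hpp, by group⟩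
    · refine ⟨y * p, by simp [W], (y * p)⁻¹ * b⁻¹ * (y * p) * (y * y),
        mul_mem (hR1 _ (mul_mem hyX hpX) _ (inv_mem hb)) hyy, ?_⟩
      calc p * (y * p * y) = (p * y * p) * y := by group
        _ = b⁻¹ * (y * p * y) * y := by rw [hbr, inv_mul_cancel_left]
        _ = _ := by group
  have hXW : ∀ x ∈ X, ∃ v ∈ W, ∃ r ∈ R, x = v * r := by
    intro x hx
    rw [hX, Subgroup.sup_eq_closure] at hx
    induction hx using Subgroup.closure_induction_left with
    | one => exact ⟨1, by simp [W], 1, one_mem _, (one_mul _).symm⟩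
    | mul_left u hu x _ ih => ?left
    | inv_mul_cancel u hu x _ ih => ?left'
    case left =>
      obtain ⟨v, hv, r, hr, rfl⟩ := ih
      have hu' : u ∈ R ∨ ∃ c ∈ ({y, p} : Set G), c⁻¹ * u ∈ R := by
        rcases hu with hu | hu
        · by_cases hc : Commute u z'
          · exact Or.inl (cQ u hu hc)
          · exact Or.inr ⟨y, Or.inl rfl, cQ _ (mul_mem (inv_mem hy) hu) (h.coset hy hu hyn hc)⟩
        · by_cases hc : Commute u z
          · exact Or.inl (cQ' u hu hc)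
          · exact Or.inr ⟨p, Or.inr rfl, cQ' _ (mul_mem (inv_mem hp) hu) (h.coset' hp hu hpn hc)⟩
      have hvX : v ∈ X := by
        rcases hv with rfl | rfl | rfl | rfl | rfl | rfl
        exacts [one_mem _, hyX, hpX, mul_mem hyX hpX, mul_mem hpX hyX, mul_mem (mul_mem hyX hpX) hyX]
      have hmove : ∀ t ∈ R, v⁻¹ * t * v ∈ R := fun t ht => by
        have := hnR v⁻¹ (inv_mem hvX) t ht
        rwa [inv_inv] at this
      rcases hu' with hu' | ⟨c, hc, hu'⟩
      · exact ⟨v, hv, v⁻¹ * u * v * r, mul_mem (hmove u hu') hr, by group⟩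
      · obtain ⟨v', hv', r', hr', e⟩ := hmul c hc v hv
        refine ⟨v', hv', r' * (v⁻¹ * (c⁻¹ * u) * v * r), mul_mem hr' (mul_mem (hmove _ hu') hr), ?_⟩
        rw [← mul_assoc v', ← e]; group
    case left' =>
      obtain ⟨v, hv, r, hr, rfl⟩ := ih
      have hu' : u⁻¹ ∈ R ∨ ∃ c ∈ ({y, p} : Set G), c⁻¹ * u⁻¹ ∈ R := by
        rcases hu with hu | hu
        · by_cases hc : Commute u⁻¹ z'
          · exact Or.inl (cQ _ (inv_mem hu) hc)
          · exact Or.inr ⟨y, Or.inl rfl, cQ _ (mul_mem (inv_mem hy) (inv_mem hu)) (h.coset hy (inv_mem hu) hyn hc)⟩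
        · by_cases hc : Commute u⁻¹ z
          · exact Or.inl (cQ' _ (inv_mem hu) hc)
          · exact Or.inr ⟨p, Or.inr rfl, cQ' _ (mul_mem (inv_mem hp) (inv_mem hu)) (h.coset' hp (inv_mem hu) hpn hc)⟩
      have hvX : v ∈ X := by
        rcases hv with rfl | rfl | rfl | rfl | rfl | rfl
        exacts [one_mem _, hyX, hpX, mul_mem hyX hpX, mul_mem hpX hyX, mul_mem (mul_mem hyX hpX) hyX]
      have hmove : ∀ t ∈ R, v⁻¹ * t * v ∈ R := fun t ht => by
        have := hnR v⁻¹ (inv_mem hvX) t ht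
        rwa [inv_inv] at this
      rcases hu' with hu' | ⟨c, hc, hu'⟩
      · exact ⟨v, hv, v⁻¹ * u⁻¹ * v * r, mul_mem (hmove _ hu') hr, by group⟩
      · obtain ⟨v', hv', r', hr', e⟩ := hmul c hc v hv
        refine ⟨v', hv', r' * (v⁻¹ * (c⁻¹ * u⁻¹) * v * r), mul_mem hr' (mul_mem (hmove _ hu') hr), ?_⟩
        rw [← mul_assoc v', ← e]; group
  -- the action on the three involutions
  have hne1 : z' * z ≠ z := fun e => h.xt'.ne (mul_eq_right.1 e)
  have hne2 : z' * z ≠ z' := fun e => h.xt.ne (mul_eq_left.1 e)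
  let T := {a : G // a = z ∨ a = z' ∨ a = z' * z}
  have hrT : ∀ r ∈ R, ∀ a : T, r * a.1 * r⁻¹ = a.1 := by
    intro r hr a
    obtain ⟨e1, e2⟩ := hRz r hr
    rcases a.2 with e | e | e <;> rw [e]
    · rw [e1.eq, mul_inv_cancel_right]
    · rw [e2.eq, mul_inv_cancel_right]
    · rw [(e2.mul_right e1).eq, mul_inv_cancel_right]
  have hT : ∀ x ∈ X, ∀ a : T, x * a.1 * x⁻¹ = z ∨ x * a.1 * x⁻¹ = z' ∨ x * a.1 * x⁻¹ = z' * z := by
    intro x hx a
    obtain ⟨v, hv, r, hr, rfl⟩ := hXW x hx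
    rw [show v * r * a.1 * (v * r)⁻¹ = v * (r * a.1 * r⁻¹) * v⁻¹ by group, hrT r hr a]
    have ay : ∀ c, c = z ∨ c = z' ∨ c = z' * z →
        (y * c * y⁻¹ = z ∨ y * c * y⁻¹ = z' ∨ y * c * y⁻¹ = z' * z) ∧
        (p * c * p⁻¹ = z ∨ p * c * p⁻¹ = z' ∨ p * c * p⁻¹ = z' * z) := by
      rintro c (e | e | e) <;> rw [e]
      exacts [⟨Or.inl yz, Or.inr (Or.inr pz)⟩, ⟨Or.inr (Or.inr yz'), Or.inr (Or.inl pz')⟩,
        ⟨Or.inr (Or.inl yzz), Or.inl pzz⟩]
    rcases hv with e | e | e | e | e | e <;> rw [e]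
    · simpa using a.2
    · exact (ay _ a.2).1
    · exact (ay _ a.2).2
    · rw [show y * p * a.1 * (y * p)⁻¹ = y * (p * a.1 * p⁻¹) * y⁻¹ by group]
      exact (ay _ (ay _ a.2).2).1
    · rw [show p * y * a.1 * (p * y)⁻¹ = p * (y * a.1 * y⁻¹) * p⁻¹ by group]
      exact (ay _ (ay _ a.2).1).2
    · rw [show y * p * y * a.1 * (y * p * y)⁻¹ = y * (p * (y * a.1 * y⁻¹) * p⁻¹) * y⁻¹ by group]
      exact (ay _ (ay _ (ay _ a.2).1).2).1
  have hker : ∀ x ∈ X, Commute x z → Commute x z' → x ∈ R := by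
    intro x hx c1 c2
    obtain ⟨v, hv, r, hr, rfl⟩ := hXW x hx
    have k1 : v * z * v⁻¹ = z := by
      have := ((hRz r hr).1.inv_left.symm.symm)
      have hc : Commute (v * r * r⁻¹) z := c1.mul_left this
      rw [mul_inv_cancel_right] at hc
      rw [hc.eq, mul_inv_cancel_right]
    have k2 : v * z' * v⁻¹ = z' := by
      have hc : Commute (v * r * r⁻¹) z' := c2.mul_left (hRz r hr).2.inv_left
      rw [mul_inv_cancel_right] at hc
      rw [hc.eq, mul_inv_cancel_right]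
    rcases hv with e | e | e | e | e | e <;> rw [e] at k1 k2 ⊢
    · rwa [one_mul]
    · rw [yz'] at k2; exact absurd k2 hne2
    · rw [pz] at k1; exact absurd k1 hne1
    · rw [show y * p * z * (y * p)⁻¹ = y * (p * z * p⁻¹) * y⁻¹ by group, pz, yzz] at k1
      exact absurd k1 h.ne
    · rw [show p * y * z' * (p * y)⁻¹ = p * (y * z' * y⁻¹) * p⁻¹ by group, yz', pzz] at k2
      exact absurd k2.symm h.ne
    · rw [show y * p * y * z * (y * p * y)⁻¹ = y * (p * (y * z * y⁻¹) * p⁻¹) * y⁻¹ by group, yz, pz, yzz] at k1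
      exact absurd k1 h.ne
  let α : X →* Equiv.Perm T :=
    { toFun := fun x =>
        { toFun := fun a => ⟨(x : G) * a.1 * (x : G)⁻¹, hT x x.2 a⟩
          invFun := fun a => ⟨(x : G)⁻¹ * a.1 * (x : G)⁻¹⁻¹, hT _ (inv_mem x.2) a⟩
          left_inv := fun a => Subtype.ext (by simp [mul_assoc])
          right_inv := fun a => Subtype.ext (by simp [mul_assoc]) }
      map_one' := Equiv.ext fun a => Subtype.ext (by simp)
      map_mul' := fun x x' => Equiv.ext fun a => Subtype.ext (by simp [mul_assoc]) }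
  let t0 : T := ⟨z, Or.inl rfl⟩
  let t1 : T := ⟨z', Or.inr (Or.inl rfl)⟩
  let t2 : T := ⟨z' * z, Or.inr (Or.inr rfl)⟩
  have hαker : α.ker = R.subgroupOf X := by
    ext x
    rw [MonoidHom.mem_ker, Subgroup.mem_subgroupOf]
    constructor
    · intro hx
      have e : ∀ a : T, (x : G) * a.1 * (x : G)⁻¹ = a.1 := fun a =>
        congrArg (fun σ : Equiv.Perm T => ((σ a : T) : G)) hx
      exact hker x x.2 (mul_inv_eq_iff_eq_mul.1 (e t0)) (mul_inv_eq_iff_eq_mul.1 (e t1))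
    · intro hx
      exact Equiv.ext fun a => Subtype.ext (hrT x hx a)
  haveI hN : (R.subgroupOf X).Normal := hαker ▸ α.normal_ker
  have hbij3 : Function.Bijective (![t0, t1, t2] : Fin 3 → T) := by
    refine ⟨?_, ?_⟩
    · intro i j e
      have e' := congrArg Subtype.val e
      fin_cases i <;> fin_cases j <;>
        first
        | rfl
        | exact absurd e' h.ne
        | exact absurd e'.symm h.ne
        | exact absurd e' hne1
        | exact absurd e'.symm hne1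
        | exact absurd e' hne2
        | exact absurd e'.symm hne2
    · rintro ⟨a, e | e | e⟩
      exacts [⟨0, Subtype.ext e.symm⟩, ⟨1, Subtype.ext e.symm⟩, ⟨2, Subtype.ext e.symm⟩]
  set e3 := (Equiv.ofBijective _ hbij3).symm with he3
  let φ : X →* Equiv.Perm (Fin 3) := e3.permCongrHom.toMonoidHom.comp α
  have hφker : φ.ker = R.subgroupOf X := by
    rw [← hαker]
    ext x
    exact MulEquiv.map_eq_one_iff e3.permCongrHom (x := α x)
  have hφsurj : Function.Surjective φ := by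
    have hv : ∀ x : X, ∀ i, (![t0, t1, t2] (φ x i) : T) = α x (![t0, t1, t2] i) := fun x i =>
      (Equiv.ofBijective _ hbij3).apply_symm_apply _
    have gen : ∀ σ : Equiv.Perm (Fin 3), σ ∈ Subgroup.closure ({Equiv.swap 1 2, Equiv.swap 0 2} : Set (Equiv.Perm (Fin 3))) := by
      intro σ
      have h1 : Equiv.swap (1 : Fin 3) 2 ∈ Subgroup.closure ({Equiv.swap 1 2, Equiv.swap 0 2} : Set (Equiv.Perm (Fin 3))) :=
        Subgroup.subset_closure (Or.inl rfl)
      have h2 : Equiv.swap (0 : Fin 3) 2 ∈ Subgroup.closure ({Equiv.swap 1 2, Equiv.swap 0 2} : Set (Equiv.Perm (Fin 3))) :=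
        Subgroup.subset_closure (Or.inr rfl)
      have : ∀ σ : Equiv.Perm (Fin 3), σ = 1 ∨ σ = Equiv.swap 1 2 ∨ σ = Equiv.swap 0 2 ∨
          σ = Equiv.swap 1 2 * Equiv.swap 0 2 ∨ σ = Equiv.swap 0 2 * Equiv.swap 1 2 ∨
          σ = Equiv.swap 1 2 * Equiv.swap 0 2 * Equiv.swap 1 2 := by set_option maxRecDepth 20000 in decide
      rcases this σ with rfl | rfl | rfl | rfl | rfl | rfl
      exacts [one_mem _, h1, h2, mul_mem h1 h2, mul_mem h2 h1, mul_mem (mul_mem h1 h2) h1]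
    have hy' : φ ⟨y, hyX⟩ = Equiv.swap 1 2 := by
      refine Equiv.ext fun i => hbij3.1 ?_
      rw [hv]
      fin_cases i <;> refine Subtype.ext ?_
      exacts [yz, yz', yzz]
    have hp' : φ ⟨p, hpX⟩ = Equiv.swap 0 2 := by
      refine Equiv.ext fun i => hbij3.1 ?_
      rw [hv]
      fin_cases i <;> refine Subtype.ext ?_
      exacts [pz, pz', pzz]
    rw [← MonoidHom.range_eq_top, eq_top_iff]
    intro σ _
    refine (Subgroup.closure_le _).2 ?_ (gen σ)
    rintro _ (rfl | rfl)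
    exacts [⟨_, hy'⟩, ⟨_, hp'⟩]
  have hX3 : Nonempty (↥X ⧸ R.subgroupOf X ≃* Equiv.Perm (Fin 3)) :=
    ⟨(QuotientGroup.quotientMulEquivOfEq hφker.symm).trans
      (QuotientGroup.quotientKerEquivOfSurjective φ hφsurj)⟩
  have hXV : R = X ⊓ Subgroup.centralizer (V : Set G) := by
    ext x
    rw [Subgroup.mem_inf, hV, Subgroup.centralizer_closure, Subgroup.mem_centralizer_iff]
    constructor
    · intro hx
      refine ⟨hRX hx, ?_⟩
      rintro b (rfl | rfl)
      exacts [(hRz x hx).1.symm.eq, (hRz x hx).2.symm.eq]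
    · rintro ⟨hx, hc⟩
      exact hker x hx (hc z (Or.inl rfl)).symm (hc z' (Or.inr rfl)).symm
  have hO : R = (Cfsg.pCore 2 ↥X).map X.subtype := by
    have hR2 : IsPGroup 2 (R.subgroupOf X) := by
      intro r
      have h2 : IsPGroup 2 ↥Q := hQ.1.1.1
      have h2' : IsPGroup 2 ↥Q' := h2.map _
      have hA : IsPGroup 2 ↥(Q ⊓ Subgroup.centralizer ({z'} : Set G)) := h2.to_le inf_le_left
      have hB : IsPGroup 2 ↥(Q' ⊓ Subgroup.centralizer ({z} : Set G)) := h2'.to_le inf_le_left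
      have hn : Q ⊓ Subgroup.centralizer ({z'} : Set G) ≤
          Subgroup.normalizer ((Q' ⊓ Subgroup.centralizer ({z} : Set G) : Subgroup G) : Set G) := by
        intro a ha
        rw [Subgroup.mem_normalizer_iff]
        refine fun c => ⟨fun hc => (h.normalizes ha hc).1, fun hc => ?_⟩
        have := (h.normalizes (inv_mem ha) hc).1
        rwa [show a⁻¹ * (a * c * a⁻¹) * a⁻¹⁻¹ = c by group] at this
      have hRp : IsPGroup 2 ↥R := by
        rw [hRc, core]
        exact hB.to_sup_of_normal_left' hA hn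
      obtain ⟨k, hk⟩ := hRp ⟨(r : X), r.2⟩
      exact ⟨k, Subtype.ext (Subtype.ext (congrArg (fun t : R => (t : G)) hk : _))⟩
    have hle : Cfsg.pCore 2 ↥X ≤ R.subgroupOf X := by
      haveI : (Cfsg.pCore 2 ↥X).Normal := Cfsg.Agent.Solv.pCore_normal 2
      have hSn : ((Cfsg.pCore 2 ↥X).map φ).Normal := Subgroup.Normal.map inferInstance φ hφsurj
      have hS2 : IsPGroup 2 ((Cfsg.pCore 2 ↥X).map φ) := (Cfsg.Agent.Solv.pCore_isPGroup 2).map φ
      intro x hx
      rw [← hφker, MonoidHom.mem_ker]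
      have hmem : φ x ∈ (Cfsg.pCore 2 ↥X).map φ := ⟨x, hx, rfl⟩
      have cube : ∀ σ ∈ (Cfsg.pCore 2 ↥X).map φ, σ ^ 3 = 1 → σ = 1 := by
        intro σ hσ h3
        obtain ⟨k, hk⟩ := hS2 ⟨σ, hσ⟩
        have := (pow_gcd_eq_one.2 ⟨h3, congrArg Subtype.val hk⟩ : σ ^ Nat.gcd _ _ = 1)
        rwa [Nat.Coprime.gcd_eq_one ((by decide : Nat.Coprime 3 2).pow_right k), pow_one] at this
      rcases sym3_two_elt (φ x) with e | e | ⟨τ, e1, e2⟩
      · exact e
      · exact cube _ hmem e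
      · refine absurd (cube _ ?_ e2) e1
        rw [show φ x * τ * (φ x)⁻¹ * τ⁻¹ = φ x * (τ * (φ x)⁻¹ * τ⁻¹) by group]
        exact mul_mem hmem (hSn.conj_mem _ (inv_mem hmem) τ)
    have heq : Cfsg.pCore 2 ↥X = R.subgroupOf X :=
      le_antisymm hle (le_sSup ⟨hN, hR2⟩)
    rw [heq, Subgroup.map_subgroupOf_eq_of_le hRX]
  -- the normalizer of the four-group
  have hzV : z ∈ V := hV ▸ Subgroup.subset_closure (Or.inl rfl)
  have hz'V : z' ∈ V := hV ▸ Subgroup.subset_closure (Or.inr rfl)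
  have hVT : ∀ a ∈ V, a ≠ 1 → a = z ∨ a = z' ∨ a = z' * z := by
    intro a ha
    rw [hV] at ha
    have e1 : ∀ t : G, z * (z * t) = t := fun t => by rw [← mul_assoc, h.xt.sq, one_mul]
    have e2 : ∀ t : G, z' * (z' * t) = t := fun t => by rw [← mul_assoc, h.xt'.sq, one_mul]
    have e3 : ∀ t : G, z * (z' * t) = z' * (z * t) := fun t => by rw [← mul_assoc, h.comm_zz.eq, mul_assoc]
    have key : a = 1 ∨ a = z ∨ a = z' ∨ a = z' * z := by
      induction ha using Subgroup.closure_induction with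
      | mem u hu => rcases hu with hu | hu <;> tauto
      | one => exact Or.inl rfl
      | mul c d _ _ hc hd =>
        rcases hc with rfl | rfl | rfl | rfl <;> rcases hd with rfl | rfl | rfl | rfl <;>
          simp [mul_assoc, e1, e2, e3, h.xt.sq, h.xt'.sq, h.comm_zz.eq]
      | inv c _ hc =>
        rcases hc with rfl | rfl | rfl | rfl
        · left; simp
        · right; left; exact inv_eq_of_mul_eq_one_right h.xt.sq
        · right; right; left; exact inv_eq_of_mul_eq_one_right h.xt'.sq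
        · right; right; right
          rw [mul_inv_rev, inv_eq_of_mul_eq_one_right h.xt.sq, inv_eq_of_mul_eq_one_right h.xt'.sq, h.comm_zz.eq]
    tauto
  have hXn : X ≤ Subgroup.normalizer (V : Set G) := by
    have key : ∀ x ∈ X, ∀ a ∈ V, x * a * x⁻¹ ∈ V := by
      intro x hx a ha
      by_cases ha1 : a = 1
      · simp [ha1]
      rcases hT x hx ⟨a, hVT a ha ha1⟩ with e | e | e <;> rw [show x * a * x⁻¹ = _ from e]
      exacts [hzV, hz'V, mul_mem hz'V hzV]
    intro x hx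
    rw [Subgroup.mem_normalizer_iff]
    refine fun a => ⟨key x hx a, fun ha => ?_⟩
    have := key x⁻¹ (inv_mem hx) _ ha
    rwa [show x⁻¹ * (x * a * x⁻¹) * x⁻¹⁻¹ = a by group] at this
  set C := Subgroup.centralizer ({z} : Set G) ⊓ Subgroup.centralizer (V : Set G) with hCdef
  have hCle : C ≤ Subgroup.normalizer (V : Set G) := by
    intro c hc
    rw [Subgroup.mem_normalizer_iff]
    intro a
    have hcV := Subgroup.mem_centralizer_iff.1 hc.2
    refine ⟨fun ha => by rwa [← hcV a ha, mul_inv_cancel_right], fun ha => ?_⟩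
    have := hcV _ ha
    have e : a * c = c * a := by
      calc a * c = c⁻¹ * ((c * a * c⁻¹) * c) * c := by group
        _ = c⁻¹ * (c * (c * a * c⁻¹)) * c := by rw [this]
        _ = c * a := by group
    rwa [← e, mul_inv_cancel_right] at ha
  have hNV : Subgroup.normalizer (V : Set G) = X ⊔ C := by
    refine le_antisymm (fun n hn => ?_) (sup_le hXn hCle)
    have hnT : ∀ a, a = z ∨ a = z' ∨ a = z' * z → n * a * n⁻¹ = z ∨ n * a * n⁻¹ = z' ∨ n * a * n⁻¹ = z' * z := by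
      intro a ha
      have haV : a ∈ V ∧ a ≠ 1 := by
        rcases ha with rfl | rfl | rfl
        exacts [⟨hzV, h.xt.ne⟩, ⟨hz'V, h.xt'.ne⟩, ⟨mul_mem hz'V hzV, fun e => h.ne
          ((eq_inv_of_mul_eq_one_left e).trans (inv_eq_of_mul_eq_one_right h.xt.sq))⟩]
      exact hVT _ ((Subgroup.mem_normalizer_iff.1 hn a).1 haV.1) fun e => haV.2 (conj_eq_one_iff.1 e)
    obtain ⟨x₁, hx₁, hx₁z⟩ : ∃ x ∈ X, x * z * x⁻¹ = n * z * n⁻¹ := by
      rcases hnT z (Or.inl rfl) with e | e | e <;> rw [e]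
      · exact ⟨1, one_mem _, by simp⟩
      · exact ⟨y * p, mul_mem hyX hpX, by
          rw [show y * p * z * (y * p)⁻¹ = y * (p * z * p⁻¹) * y⁻¹ by group, pz, yzz]⟩
      · exact ⟨p, hpX, pz⟩
    have hn1 : (x₁⁻¹ * n) * z * (x₁⁻¹ * n)⁻¹ = z := by
      rw [show x₁⁻¹ * n * z * (x₁⁻¹ * n)⁻¹ = x₁⁻¹ * (n * z * n⁻¹) * x₁ by group, ← hx₁z]; group
    have hm : x₁⁻¹ * n ∈ Subgroup.normalizer (V : Set G) := mul_mem (inv_mem (hXn hx₁)) hn
    have hC : ∀ m : G, m * z * m⁻¹ = z → m * z' * m⁻¹ = z' → m ∈ C := fun m m1 m2 => by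
      refine ⟨Subgroup.mem_centralizer_singleton_iff.2 (mul_inv_eq_iff_eq_mul.1 m1), ?_⟩
      show m ∈ Subgroup.centralizer (V : Set G)
      rw [hV, Subgroup.centralizer_closure, Subgroup.mem_centralizer_iff]
      rintro b (rfl | rfl)
      exacts [(mul_inv_eq_iff_eq_mul.1 m1).symm, (mul_inv_eq_iff_eq_mul.1 m2).symm]
    set m := x₁⁻¹ * n with hmdef
    rw [show n = x₁ * m by rw [hmdef, mul_inv_cancel_left]]
    refine mul_mem (Subgroup.mem_sup_left hx₁) ?_
    have hmV := (Subgroup.mem_normalizer_iff.1 hm z').1 hz'V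
    rcases hVT _ hmV (fun e => h.xt'.ne (conj_eq_one_iff.1 e)) with e | e | e
    · exact absurd (mul_left_cancel (mul_right_cancel (e.trans hn1.symm))) h.ne
    · exact Subgroup.mem_sup_right (hC m hn1 e)
    · rw [show m = y * (y⁻¹ * m) by rw [mul_inv_cancel_left]]
      refine mul_mem (Subgroup.mem_sup_left hyX) (Subgroup.mem_sup_right (hC _ ?_ ?_))
      · rw [show y⁻¹ * m * z * (y⁻¹ * m)⁻¹ = y⁻¹ * (m * z * m⁻¹) * y by group, hn1]
        conv_lhs => rw [← yz]
        group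
      · rw [show y⁻¹ * m * z' * (y⁻¹ * m)⁻¹ = y⁻¹ * (m * z' * m⁻¹) * y by group, e, ← yz']
        group
  have hRC : R ≤ C := fun r hr => ⟨Subgroup.mem_centralizer_singleton_iff.2 (hRz r hr).1, (hXV ▸ hr :).2⟩
  have hnormX : ∀ n ∈ Subgroup.normalizer (V : Set G), ∀ x ∈ X, n * x * n⁻¹ ∈ X := by
    have hcX : ∀ c ∈ C, ∀ x ∈ X, c * x * c⁻¹ ∈ X := by
      intro c hc x hx
      have c1 : Commute c z := Subgroup.mem_centralizer_singleton_iff.1 hc.1
      have c2 : Commute c z' := (Subgroup.mem_centralizer_iff.1 hc.2 z' hz'V).symm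
      rw [hX, Subgroup.sup_eq_closure] at hx
      induction hx using Subgroup.closure_induction with
      | mem u hu =>
        rw [hX]
        rcases hu with hu | hu
        exacts [Subgroup.mem_sup_left (h.norm c c1 u hu), Subgroup.mem_sup_right (h.norm' c c2 u hu)]
      | one => simp
      | mul u v _ _ hu hv => rw [← conj_mul]; exact mul_mem hu hv
      | inv u _ hu => rw [← conj_inv]; exact inv_mem hu
    intro n hn
    rw [hNV, Subgroup.sup_eq_closure] at hn
    induction hn using Subgroup.closure_induction'' with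
    | mem u hu =>
      intro x hx
      rcases hu with hu | hu
      exacts [mul_mem (mul_mem hu hx) (inv_mem hu), hcX u hu x hx]
    | inv_mem u hu =>
      intro x hx
      rcases hu with hu | hu
      exacts [mul_mem (mul_mem (inv_mem hu) hx) (inv_mem (inv_mem hu)), hcX _ (inv_mem hu) x hx]
    | one => intro x hx; simpa using hx
    | mul u v _ _ hu hv =>
      intro x hx
      rw [show u * v * x * (u * v)⁻¹ = u * (v * x * v⁻¹) * u⁻¹ by group]
      exact hu _ (hv x hx)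
  refine ⟨hXV, hO, ⟨hN, hX3⟩, hNV, hnormX, hRC, fun x hx c hc => ?_, ?_⟩
  · rw [hXV]
    refine ⟨?_, ?_⟩
    · rw [show x * c * x⁻¹ * c⁻¹ = x * (c * x⁻¹ * c⁻¹) by group]
      exact mul_mem hx (hnormX c (hCle hc) _ (inv_mem hx))
    · have hcinv : c⁻¹ ∈ Subgroup.centralizer (V : Set G) := inv_mem (show c ∈ Subgroup.centralizer (V : Set G) from hc.2)
      refine mul_mem (Subgroup.mem_centralizer_iff.2 fun a ha => ?_) hcinv
      have ha' : x⁻¹ * a * x ∈ V := by
        have := (Subgroup.mem_normalizer_iff.1 (hXn (inv_mem hx)) a).1 ha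
        rwa [inv_inv] at this
      have := Subgroup.mem_centralizer_iff.1 hc.2 _ ha'
      calc a * (x * c * x⁻¹) = x * (x⁻¹ * a * x * c) * x⁻¹ := by group
        _ = x * (c * (x⁻¹ * a * x)) * x⁻¹ := by rw [this]
        _ = _ := by group
  · exact le_antisymm (fun a ha => hXV ▸ ⟨ha.1, ha.2.2⟩) (le_inf hRX hRC)

end Cfsg.Agent.S5430
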