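import Cfsg.Statements.S5431
import Cfsg.Agent.Lib.Spor.LargePair

set_option autoImplicit false
open Cfsg
open Cfsg.Agent.Spor.Large

namespace Cfsg.Agent.S5431

/-- Let Q be a large extraspecial 2-subgroup of the finite group G (extraspecial; centralizer equal to its centre; normal in the centralizer of its centre; normalizing no non-trivial subgroup of odd order) with centre generated by z, an involution, of width w ≥ 2 (order 2^(2w+1)); let g be an element outside the centralizer H of z with g z g⁻¹ in Q; write V for the subgroup generated by z and g z g⁻¹, X for the subgroup generated by Q and g Q g⁻¹, R for the subgroup generated by the centralizer of z in g Q g⁻¹ and the centralizer of g z g⁻¹ in Q, and E for the intersection of Q and g Q g⁻¹. Then V is the centre of R, E lies in the second centre of R, R is nilpotent of class at most 3, E and R/E are elementary abelian, R/E is the direct product of the images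 of the centralizer of g z g⁻¹ in Q and of the centralizer of z in g Q g⁻¹ (R is their product and they meet in E), and the commutator subgroup of X and E lies in V. -/
theorem result {G : Type*} [Group G] [Finite G] (Q : Subgroup G) (hQ : Cfsg.IsLargeExtraspecial Q) (z : G) (hz : ((Subgroup.center ↥Q).map Q.subtype) = Subgroup.zpowers z) (hz2 : orderOf z = 2) (w : ℕ) (hw : 2 ≤ w) (hcard : Nat.card ↥Q = 2 ^ (2 * w + 1)) (g : G) (hgH : g ∉ Subgroup.centralizer ({z} : Set G)) (hgQ : g * z * g⁻¹ ∈ Q) (V X R E : Subgroup G) (hV : V = Subgroup.closure ({z, g * z * g⁻¹} : Set G)) (hX : X = Q ⊔ (Q).map (MulAut.conj g).toMonoidHom) (hR : R = ((Q).map (MulAut.conj g).toMonoidHom ⊓ Subgroup.centralizer ({z} : Set G)) ⊔ (Q ⊓ Subgroup.centralizer ({g * z * g⁻¹} : Set G))) (hE : E = Q ⊓ (Q).map (MulAut.conj g).toMonoidHom) : (Subgroup.center ↥R).map R.subtype = V ∧ E ≤ (Subgroup.upperCentralSeries ↥R 2).map R.subtype ∧ Subgroup.upperCentralSeries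 ↥R 3 = ⊤ ∧ Cfsg.IsElementaryAbelian 2 E ∧ (∀ x ∈ R, ∀ y ∈ R, x * y * x⁻¹ * y⁻¹ ∈ E ∧ x ^ 2 ∈ E) ∧ ((Q).map (MulAut.conj g).toMonoidHom ⊓ Subgroup.centralizer ({z} : Set G)) ⊓ (Q ⊓ Subgroup.centralizer ({g * z * g⁻¹} : Set G)) = E ∧ ⁅X, E⁆ ≤ V := by
  classical
  have h := exists_pair Q hQ z hz w hw hcard g hgH hgQ
  set z' := g * z * g⁻¹ with hz'def
  set Q' := Q.map (MulAut.conj g).toMonoidHom with hQ'def
  have hRc : R = core Q Q' z z' := hR
  have hVmem : ∀ v, v ∈ V → Commute v z ∧ Commute v z' := by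
    intro v hv
    have : v ∈ Subgroup.centralizer ({z, z'} : Set G) := by
      rw [hV] at hv
      refine (Subgroup.closure_le _).2 ?_ hv
      intro a ha
      rw [SetLike.mem_coe, Subgroup.mem_centralizer_iff]
      rintro b (rfl | rfl) <;> rcases ha with rfl | rfl
      exacts [rfl, h.comm_zz.eq, h.comm_zz.symm.eq, rfl]
    exact ⟨(Subgroup.mem_centralizer_iff.1 this z (Or.inl rfl)).symm,
      (Subgroup.mem_centralizer_iff.1 this z' (Or.inr rfl)).symm⟩
  have hzV : z ∈ V := hV ▸ Subgroup.subset_closure (Or.inl rfl)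
  have hz'V : z' ∈ V := hV ▸ Subgroup.subset_closure (Or.inr rfl)
  have hV4 : ∀ c, c = 1 ∨ c = z ∨ c = z' ∨ c = z' * z → c ∈ V := by
    rintro c (rfl | rfl | rfl | rfl)
    exacts [one_mem _, hzV, hz'V, mul_mem hz'V hzV]
  have hAR : Q ⊓ Subgroup.centralizer ({z'} : Set G) ≤ R := hRc ▸ le_sup_right
  have hBR : Q' ⊓ Subgroup.centralizer ({z} : Set G) ≤ R := hRc ▸ le_sup_left
  have hRz : ∀ r ∈ R, Commute r z ∧ Commute r z' := fun r hr => by
    have := h.core_le (hRc ▸ hr)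
    exact ⟨(Subgroup.mem_centralizer_iff.1 this z (Or.inl rfl)).symm,
      (Subgroup.mem_centralizer_iff.1 this z' (Or.inr rfl)).symm⟩
  have hER : E ≤ R := fun e he => by
    rw [hE] at he
    exact hAR (mem_cz.2 ⟨he.1, (h.inter_commute he).2⟩)
  have hEV : V ≤ E := by
    rw [hV, Subgroup.closure_le, hE]
    rintro a (rfl | rfl)
    exacts [⟨h.xt.mem, h.mem⟩, ⟨h.mem', h.xt'.mem⟩]
  have hcenter : (Subgroup.center ↥R).map R.subtype = V := by
    refine le_antisymm ?_ fun v hv => ?_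
    · rintro _ ⟨c, hc, rfl⟩
      refine hV4 _ (h.cent_out (hRz c c.2).1 fun a ha haz => ?_)
      exact (congrArg Subtype.val (Subgroup.mem_center_iff.1 hc ⟨a, hAR (mem_cz.2 ⟨ha, haz⟩)⟩)).symm
    · refine ⟨⟨v, hER (hEV hv)⟩, Subgroup.mem_center_iff.2 fun r => Subtype.ext ?_, rfl⟩
      have hc : (r : G) ∈ Subgroup.centralizer (V : Set G) := by
        rw [hV, Subgroup.centralizer_closure, Subgroup.mem_centralizer_iff]
        rintro b (rfl | rfl)
        exacts [(hRz r r.2).1.symm.eq, (hRz r r.2).2.symm.eq]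
      exact (Subgroup.mem_centralizer_iff.1 hc v hv).symm
  have hzpow : ∀ a, a = 1 ∨ a = z → a ∈ V := by
    rintro a (rfl | rfl)
    exacts [one_mem _, hzV]
  have hzpow' : ∀ a, a = 1 ∨ a = z' → a ∈ V := by
    rintro a (rfl | rfl)
    exacts [one_mem _, hz'V]
  -- the big subgroup acts on the intersection trivially modulo the four-group
  have hXE : ∀ x ∈ X, ∀ e ∈ E, x * e * x⁻¹ * e⁻¹ ∈ V ∧ ∀ v ∈ V, x * v * x⁻¹ ∈ V := by
    intro x hx
    rw [hX, Subgroup.sup_eq_closure] at hx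
    induction hx using Subgroup.closure_induction'' with
    | mem u hu =>
      intro e he
      rw [hE] at he
      refine ⟨?_, fun v hv => ?_⟩
      · rcases hu with hu | hu
        · exact hzpow _ (h.xt.comm_mem hu he.1)
        · exact hzpow' _ (h.xt'.comm_mem hu he.2)
      · have hvE := hEV hv
        rw [hE] at hvE
        rcases hu with hu | hu
        · rcases h.xt.comm u hu v hvE.1 with e' | e' <;> rw [e']
          · exact hv
          · exact mul_mem hv hzV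
        · rcases h.xt'.comm u hu v hvE.2 with e' | e' <;> rw [e']
          · exact hv
          · exact mul_mem hv hz'V
    | inv_mem u hu =>
      intro e he
      rw [hE] at he
      refine ⟨?_, fun v hv => ?_⟩
      · rcases hu with hu | hu
        · exact hzpow _ (h.xt.comm_mem (inv_mem hu) he.1)
        · exact hzpow' _ (h.xt'.comm_mem (inv_mem hu) he.2)
      · have hvE := hEV hv
        rw [hE] at hvE
        rcases hu with hu | hu
        · rcases h.xt.comm u⁻¹ (inv_mem hu) v hvE.1 with e' | e' <;> rw [e']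
          · exact hv
          · exact mul_mem hv hzV
        · rcases h.xt'.comm u⁻¹ (inv_mem hu) v hvE.2 with e' | e' <;> rw [e']
          · exact hv
          · exact mul_mem hv hz'V
    | one =>
      intro e _
      exact ⟨by simp, fun v hv => by simpa using hv⟩
    | mul u v _ _ hu hv =>
      intro e he
      refine ⟨?_, fun a ha => ?_⟩
      · rw [show u * v * e * (u * v)⁻¹ * e⁻¹ = u * (v * e * v⁻¹ * e⁻¹) * u⁻¹ * (u * e * u⁻¹ * e⁻¹) by group]
        exact mul_mem ((hu e he).2 _ (hv e he).1) (hu e he).1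
      · rw [show u * v * a * (u * v)⁻¹ = u * (v * a * v⁻¹) * u⁻¹ by group]
        exact (hu e he).2 _ ((hv e he).2 a ha)
  have hRX : R ≤ X := hR ▸ hX ▸ sup_le (inf_le_left.trans le_sup_right) (inf_le_left.trans le_sup_left)
  have hnormE : R ≤ Subgroup.normalizer (E : Set G) := by
    intro r hr
    rw [Subgroup.mem_normalizer_iff]
    have key : ∀ s ∈ R, ∀ e ∈ E, s * e * s⁻¹ ∈ E := fun s hs e he => by
      have := mul_mem (hEV (hXE s (hRX hs) e he).1) he
      rwa [inv_mul_cancel_right] at this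
    intro e
    refine ⟨key r hr e, fun he => ?_⟩
    have := key r⁻¹ (inv_mem hr) _ he
    rwa [show r⁻¹ * (r * e * r⁻¹) * r⁻¹⁻¹ = e by group] at this
  set N := Subgroup.normalizer (E : Set G) with hN
  set π := QuotientGroup.mk' (E.subgroupOf N) with hπ
  have hπ1 : ∀ (a : G) (ha : a ∈ N), π ⟨a, ha⟩ = 1 ↔ a ∈ E := fun a ha =>
    (QuotientGroup.eq_one_iff _).trans Subgroup.mem_subgroupOf
  have hgen : ∀ r ∈ R, ∀ hr : r ∈ N, π ⟨r, hr⟩ * π ⟨r, hr⟩ = 1 ∧
      ∀ s ∈ R, ∀ hs : s ∈ N, Commute (π ⟨r, hr⟩) (π ⟨s, hs⟩) := by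
    have gen : ∀ a ∈ Q ⊓ Subgroup.centralizer ({z'} : Set G), ∀ b ∈ Q' ⊓ Subgroup.centralizer ({z} : Set G),
        ∀ (ha : a ∈ N) (hb : b ∈ N), π ⟨a, ha⟩ * π ⟨a, ha⟩ = 1 ∧ π ⟨b, hb⟩ * π ⟨b, hb⟩ = 1 ∧
          Commute (π ⟨a, ha⟩) (π ⟨b, hb⟩) ∧
          (∀ a' ∈ Q ⊓ Subgroup.centralizer ({z'} : Set G), ∀ ha' : a' ∈ N, Commute (π ⟨a, ha⟩) (π ⟨a', ha'⟩)) ∧
          (∀ b' ∈ Q' ⊓ Subgroup.centralizer ({z} : Set G), ∀ hb' : b' ∈ N, Commute (π ⟨b, hb⟩) (π ⟨b', hb'⟩)) := by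
      intro a ha b hb haN hbN
      refine ⟨?_, ?_, ?_, fun a' ha' ha'N => ?_, fun b' hb' hb'N => ?_⟩
      · rw [← map_mul]; exact (hπ1 _ _).2 (hEV (hzpow _ (h.xt.sq_mem ha.1)))
      · rw [← map_mul]; exact (hπ1 _ _).2 (hEV (hzpow' _ (h.xt'.sq_mem hb.1)))
      all_goals
        refine mul_inv_eq_iff_eq_mul.1 (mul_inv_eq_one.1 ?_)
        rw [← map_inv, ← map_inv, ← map_mul, ← map_mul, ← map_mul]
        refine (hπ1 _ _).2 ?_
      · rw [hE]; exact (h.normalizes ha hb).2.2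
      · exact hEV (hzpow _ (h.xt.comm_mem ha.1 ha'.1))
      · exact hEV (hzpow' _ (h.xt'.comm_mem hb.1 hb'.1))
    intro r hr hrN
    obtain ⟨b, hb, a, ha, rfl⟩ := h.mem_core (hRc ▸ hr)
    have haN : a ∈ N := hnormE (hAR ha)
    have hbN : b ∈ N := hnormE (hBR hb)
    have e : π ⟨b * a, hrN⟩ = π ⟨b, hbN⟩ * π ⟨a, haN⟩ := map_mul π ⟨b, hbN⟩ ⟨a, haN⟩
    obtain ⟨g1, g2, g3, g4, g5⟩ := gen a ha b hb haN hbN
    rw [e]
    refine ⟨?_, fun s hs hsN => ?_⟩
    · calc π ⟨b, hbN⟩ * π ⟨a, haN⟩ * (π ⟨b, hbN⟩ * π ⟨a, haN⟩)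
          = π ⟨b, hbN⟩ * (π ⟨a, haN⟩ * π ⟨b, hbN⟩) * π ⟨a, haN⟩ := by simp only [mul_assoc]
        _ = (π ⟨b, hbN⟩ * π ⟨b, hbN⟩) * (π ⟨a, haN⟩ * π ⟨a, haN⟩) := by rw [g3.eq]; simp only [mul_assoc]
        _ = 1 := by rw [g1, g2, one_mul]
    obtain ⟨b', hb', a', ha', rfl⟩ := h.mem_core (hRc ▸ hs)
    have ha'N : a' ∈ N := hnormE (hAR ha')
    have hb'N : b' ∈ N := hnormE (hBR hb')
    rw [show π ⟨b' * a', hsN⟩ = π ⟨b', hb'N⟩ * π ⟨a', ha'N⟩ from map_mul π ⟨b', hb'N⟩ ⟨a', ha'N⟩]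
    exact ((g5 b' hb' hb'N).mul_right (gen a' ha' b hb ha'N hbN).2.2.1.symm).mul_left
      ((gen a ha b' hb' haN hb'N).2.2.1.mul_right (g4 a' ha' ha'N))
  have hsq : ∀ x ∈ R, ∀ y ∈ R, x * y * x⁻¹ * y⁻¹ ∈ E ∧ x ^ 2 ∈ E := by
    intro x hx y hy
    obtain ⟨h1, h2⟩ := hgen x hx (hnormE hx)
    refine ⟨?_, ?_⟩
    · refine (hπ1 _ (hnormE (mul_mem (mul_mem (mul_mem hx hy) (inv_mem hx)) (inv_mem hy)))).1 ?_
      have e := map_mul π (⟨x, hnormE hx⟩ * ⟨y, hnormE hy⟩ * ⟨x, hnormE hx⟩⁻¹) ⟨y, hnormE hy⟩⁻¹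
      refine e.trans ?_
      rw [map_mul, map_mul, map_inv, map_inv, (h2 y hy (hnormE hy)).eq, mul_inv_cancel_right, mul_inv_cancel]
    · rw [pow_two]
      exact (hπ1 _ (hnormE (mul_mem hx hx))).1 ((map_mul π ⟨x, hnormE hx⟩ ⟨x, hnormE hx⟩).trans h1)
  have hE2 : E ≤ (Subgroup.upperCentralSeries ↥R 2).map R.subtype := by
    intro e he
    refine ⟨⟨e, hER he⟩, Subgroup.mem_upperCentralSeries_succ_iff.2 fun r => ?_, rfl⟩
    rw [Subgroup.upperCentralSeries_one]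
    have h1 := (hXE r (hRX r.2) e he).1
    have h2 : e * (r : G) * e⁻¹ * (r : G)⁻¹ ∈ V := by
      have := inv_mem h1
      rwa [show ((r : G) * e * (r : G)⁻¹ * e⁻¹)⁻¹ = e * (r : G) * e⁻¹ * (r : G)⁻¹ by group] at this
    rw [← hcenter] at h2
    obtain ⟨c, hc, hce⟩ := h2
    rwa [commutatorElement_def, show (⟨e, hER he⟩ * r * ⟨e, hER he⟩⁻¹ * r⁻¹ : R) = c from Subtype.ext hce.symm]
  refine ⟨hcenter, hE2, ?_, ?_, hsq, ?_, ?_⟩
  · rw [eq_top_iff]
    intro x _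
    refine Subgroup.mem_upperCentralSeries_succ_iff.2 fun r => ?_
    obtain ⟨c, hc, hce⟩ := hE2 (hsq x x.2 r r.2).1
    rwa [commutatorElement_def, show (x * r * x⁻¹ * r⁻¹ : R) = c from Subtype.ext hce.symm]
  · refine ⟨⟨⟨fun a b => Subtype.ext (h.inter_comm (hE ▸ a.2) (hE ▸ b.2)).eq⟩⟩, fun a ha => ?_⟩
    exact pow_two a ▸ h.inter_square (hE ▸ ha)
  · rw [hE]
    ext a
    rw [Subgroup.mem_inf, mem_cz, mem_cz, Subgroup.mem_inf]
    exact ⟨fun ⟨⟨h1, _⟩, h2, _⟩ => ⟨h2, h1⟩, fun ⟨h1, h2⟩ =>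
      ⟨⟨h2, (h.inter_commute ⟨h1, h2⟩).1⟩, h1, (h.inter_commute ⟨h1, h2⟩).2⟩⟩
  · rw [Subgroup.commutator_le]
    exact fun x hx e he => (hXE x hx e he).1

end Cfsg.Agent.S5431
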