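import Cfsg.Statements.S5434
import Cfsg.Agent.Lib.Solv.Coprime
import Cfsg.Agent.Lib.Solv.Extraspecial

set_option autoImplicit false
open scoped commutatorElement
open Cfsg

namespace Cfsg.Agent.S5434

/-- Let Q be a large extraspecial 2-subgroup of the finite group G (extraspecial; centralizer equal to its centre; normal in the centralizer of its centre; normalizing no non-trivial subgroup of odd order), and A a non-trivial subgroup of odd order of the normalizer of Q. Then Q is the central product of the centralizer of A in Q and the commutator subgroup [Q, A] (they generate Q and commute elementwise), [Q, A] is extraspecial, and the centralizer of A in Q is either the centre of Q or extraspecial. -/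
theorem result {G : Type*} [Group G] [Finite G] (Q : Subgroup G) (hQ : Cfsg.IsLargeExtraspecial Q) (A : Subgroup G) (hA : A ≤ Subgroup.normalizer (Q : Set G)) (hAodd : Odd (Nat.card ↥A)) (hA1 : A ≠ ⊥) : (Q ⊓ Subgroup.centralizer (A : Set G)) ⊔ ⁅Q, A⁆ = Q ∧ (∀ x ∈ Q ⊓ Subgroup.centralizer (A : Set G), ∀ y ∈ ⁅Q, A⁆, x * y = y * x) ∧ Cfsg.IsExtraspecial 2 ↥⁅Q, A⁆ ∧ (Q ⊓ Subgroup.centralizer (A : Set G) = ((Subgroup.center ↥Q).map Q.subtype) ∨ Cfsg.IsExtraspecial 2 ↥(Q ⊓ Subgroup.centralizer (A : Set G))) := by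
  classical
  haveI : Fact (Nat.Prime 2) := ⟨Nat.prime_two⟩
  obtain ⟨hE, hCQ, -, -⟩ := hQ
  have hQ2 : IsPGroup 2 Q := hE.1.1
  set Z := (Subgroup.center Q).map Q.subtype with hZdef
  have hZc : Nat.card Z = 2 := by
    rw [hZdef, Subgroup.card_map_of_injective Q.subtype_injective, hE.2]
  have hZQ : Z ≤ Q := Subgroup.map_subtype_le _
  have hmemZ : ∀ x, x ∈ Z ↔ x ∈ Q ∧ ∀ y ∈ Q, y * x = x * y := by
    intro x
    constructor
    · intro hx
      exact ⟨hZQ hx, Subgroup.mem_centralizer_iff.1 (hCQ.symm ▸ hx : x ∈ Subgroup.centralizer (Q : Set G))⟩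
    · rintro ⟨-, h⟩
      rw [← hCQ]
      exact Subgroup.mem_centralizer_iff.2 h
  obtain ⟨k, hk⟩ := hQ2.exists_card_eq
  have hco : (Nat.card A).Coprime (Nat.card Q) := by
    rw [hk]; exact (Nat.coprime_two_right.2 hAodd).pow_right k
  have hsol : Group.IsSolvable Q := by
    haveI : Group.IsNilpotent Q := hQ2.isNilpotent
    infer_instance
  have hqc : ∀ x ∈ Q, ∀ y ∈ Q, x * y * x⁻¹ * y⁻¹ ∈ Z := by
    intro x hx y hy
    refine ⟨⟨x, hx⟩ * ⟨y, hy⟩ * (⟨x, hx⟩ : Q)⁻¹ * (⟨y, hy⟩ : Q)⁻¹, ?_, rfl⟩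
    show _ ∈ Subgroup.center Q
    rw [← hE.1.2.2, commutator_def, ← commutatorElement_def]
    exact Subgroup.commutator_mem_commutator (Subgroup.mem_top _) (Subgroup.mem_top _)
  have hsq : ∀ x ∈ Q, x ^ 2 ∈ Z := fun x hx =>
    ⟨(⟨x, hx⟩ : Q) ^ 2, Cfsg.Agent.Solv.extraspecial_pow_mem_center hE _, rfl⟩
  have hZfix : ∀ a ∈ A, ∀ w ∈ Z, a * w * a⁻¹ = w := by
    intro a ha w hw
    by_cases h1 : w = 1
    · simp [h1]
    have hm : a * w * a⁻¹ ∈ Z := by
      refine (hmemZ _).2 ⟨(Subgroup.mem_normalizer_iff.1 (hA ha) w).1 (hZQ hw), fun y hy => ?_⟩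
      have hy' : a⁻¹ * y * a ∈ Q := by
        have := (Subgroup.mem_normalizer_iff.1 (inv_mem (hA ha)) y).1 hy
        rwa [inv_inv] at this
      calc y * (a * w * a⁻¹) = a * ((a⁻¹ * y * a) * w) * a⁻¹ := by group
        _ = a * (w * (a⁻¹ * y * a)) * a⁻¹ := by rw [((hmemZ w).1 hw).2 _ hy']
        _ = a * w * a⁻¹ * y := by group
    obtain ⟨u, -, hu⟩ := (Nat.card_eq_two_iff' (1 : Z)).1 hZc
    have e1 := hu ⟨_, hm⟩ (fun h => h1 (by
      have h' : a * w * a⁻¹ = 1 := congrArg Subtype.val h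
      rwa [conj_eq_one_iff] at h'))
    have e2 := hu ⟨w, hw⟩ (fun h => h1 (congrArg Subtype.val h))
    exact congrArg Subtype.val (e1.trans e2.symm)
  set C := Q ⊓ Subgroup.centralizer (A : Set G) with hC
  set W := ⁅Q, A⁆ with hW
  have hsup : C ⊔ W = Q := by
    rw [sup_comm]; exact Cfsg.Agent.Solv.commutator_sup_fixed hA hco (Or.inr hsol)
  have hWQ : W ≤ Q := (Cfsg.Agent.Solv.commutator_normal_in hA).1
  have h3 : ⁅W, C⁆ = ⊥ := by
    have h1 : ⁅⁅C, Q⁆, A⁆ = ⊥ := by
      rw [Subgroup.commutator_eq_bot_iff_le_centralizer, Subgroup.commutator_le]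
      intro c hc q hq
      rw [Subgroup.mem_centralizer_iff]
      intro a ha
      rw [commutatorElement_def]
      have := hZfix a ha _ (hqc c hc.1 q hq)
      calc a * (c * q * c⁻¹ * q⁻¹) = a * (c * q * c⁻¹ * q⁻¹) * a⁻¹ * a := by group
        _ = _ := by rw [this]
    have h2 : ⁅⁅A, C⁆, Q⁆ = ⊥ := by
      have : ⁅A, C⁆ = ⊥ := Subgroup.commutator_eq_bot_iff_le_centralizer.2
        (fun a ha => Subgroup.mem_centralizer_iff.2 fun c hc =>
          (Subgroup.mem_centralizer_iff.1 hc.2 a ha).symm)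
      rw [this, Subgroup.commutator_bot_left]
    exact Subgroup.commutator_commutator_eq_bot_of_rotate h2 h1
  have hcomm : ∀ x ∈ C, ∀ y ∈ W, x * y = y * x := fun x hx y hy =>
    Subgroup.mem_centralizer_iff.1 (Subgroup.commutator_eq_bot_iff_le_centralizer.1 h3 hy) x hx
  have hW1 : W ≠ ⊥ := by
    intro h
    refine hA1 ((Subgroup.eq_bot_iff_forall _).2 fun a ha => ?_)
    have haZ : a ∈ Z := hCQ ▸ Subgroup.mem_centralizer_iff.2 fun q hq =>
      Subgroup.mem_centralizer_iff.1 (Subgroup.commutator_eq_bot_iff_le_centralizer.1 h hq) a ha |>.symm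
    have hd := Nat.dvd_gcd (Subgroup.orderOf_dvd_natCard Z haZ) (Subgroup.orderOf_dvd_natCard A ha)
    rw [hZc, Nat.Coprime.gcd_eq_one (Nat.coprime_two_left.2 hAodd), Nat.dvd_one] at hd
    exact orderOf_eq_one_iff.1 hd
  have key : ∀ U : Subgroup G, U ≤ Q → ¬ U ≤ Z → (∀ x ∈ U, (∀ u ∈ U, u * x = x * u) → x ∈ Z) →
      Cfsg.IsExtraspecial 2 U := by
    intro U hUQ hUZ hcen
    have hU2 : IsPGroup 2 U := hQ2.to_le hUQ
    obtain ⟨u0, hu0, hu0Z⟩ := SetLike.not_le_iff_exists.1 hUZ
    haveI : Nontrivial U := ⟨⟨u0, hu0⟩, 1, fun h => hu0Z (by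
      have e : u0 = 1 := congrArg Subtype.val h
      rw [e]; exact one_mem _)⟩
    haveI := hU2.center_nontrivial
    have hsub : (Subgroup.center U).map U.subtype ≤ Z := by
      rintro _ ⟨x, hx, rfl⟩
      exact hcen _ x.2 fun u hu => congrArg Subtype.val (Subgroup.mem_center_iff.1 hx ⟨u, hu⟩)
    have hcard : Nat.card (Subgroup.center U) = 2 := by
      have hle : Nat.card (Subgroup.center U) ≤ 2 := by
        rw [← hZc, show Nat.card (Subgroup.center U) = Nat.card ((Subgroup.center U).map U.subtype : Subgroup G) from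
          (Subgroup.card_map_of_injective U.subtype_injective).symm]
        exact Nat.card_le_card_of_injective _ (Subgroup.inclusion_injective hsub)
      have := Finite.one_lt_card (α := Subgroup.center U)
      omega
    have heq : (Subgroup.center U).map U.subtype = Z :=
      Subgroup.eq_of_le_of_card_ge hsub (by
        rw [hZc, Subgroup.card_map_of_injective U.subtype_injective, hcard])
    have hin : ∀ x : U, (x : G) ∈ Z → x ∈ Subgroup.center U := by
      intro x hx
      rw [← heq] at hx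
      obtain ⟨y, hy, e⟩ := hx
      rwa [U.subtype_injective e] at hy
    have hle : commutator U ≤ Subgroup.center U := by
      rw [commutator_def, Subgroup.commutator_le]
      intro x _ y _
      refine hin _ ?_
      rw [commutatorElement_def]
      exact hqc x (hUQ x.2) y (hUQ y.2)
    have hd : commutator U = Subgroup.center U := by
      refine Subgroup.eq_of_le_of_card_ge hle ?_
      rw [hcard]
      by_contra hlt
      have h1 : commutator U = ⊥ := Subgroup.eq_bot_of_card_eq _ (by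
        have := Nat.card_pos (α := commutator U); omega)
      refine hu0Z (hcen u0 hu0 fun u hu => ?_)
      have := (Subgroup.eq_bot_iff_forall _).1 h1 ⁅(⟨u, hu⟩ : U), ⟨u0, hu0⟩⁆
        (by rw [commutator_def]; exact Subgroup.commutator_mem_commutator (Subgroup.mem_top _) (Subgroup.mem_top _))
      exact congrArg Subtype.val (commutatorElement_eq_one_iff_mul_comm.1 this)
    exact Cfsg.Agent.Solv.isExtraspecial_of hU2 hcard hd fun x => hin _ (hsq x (hUQ x.2))
  have hmix : ∀ x ∈ Q, (∀ c ∈ C, c * x = x * c) → (∀ w ∈ W, w * x = x * w) → x ∈ Z := by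
    intro x hx h1 h2
    refine (hmemZ x).2 ⟨hx, fun y hy => ?_⟩
    have hle : Q ≤ Subgroup.centralizer ({x} : Set G) := by
      rw [← hsup]
      exact sup_le (fun c hc => Subgroup.mem_centralizer_singleton_iff.2 (h1 c hc))
        (fun w hw => Subgroup.mem_centralizer_singleton_iff.2 (h2 w hw))
    exact Subgroup.mem_centralizer_singleton_iff.1 (hle hy)
  refine ⟨hsup, hcomm, key W hWQ ?_ ?_, ?_⟩
  · intro hle
    refine hW1 ?_
    have := Cfsg.Agent.Solv.commutator_commutator_eq hA hco (Or.inr hsol)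
    rw [← hW] at this
    rw [← this]
    exact Subgroup.commutator_eq_bot_iff_le_centralizer.2 fun w hw => Subgroup.mem_centralizer_iff.2 fun a ha => by
      calc a * w = a * w * a⁻¹ * a := by group
        _ = w * a := by rw [hZfix a ha w (hle hw)]
  · exact fun x hx h => hmix x (hWQ hx) (fun c hc => hcomm c hc x hx) h
  · have hZC : Z ≤ C := fun w hw => ⟨hZQ hw, Subgroup.mem_centralizer_iff.2 fun a ha => by
      calc a * w = a * w * a⁻¹ * a := by group
        _ = w * a := by rw [hZfix a ha w hw]⟩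
    by_cases h : C ≤ Z
    · exact Or.inl (le_antisymm h hZC)
    · exact Or.inr (key C inf_le_left h fun x hx hh => hmix x hx.1 hh fun w hw => (hcomm x hx w hw).symm)


end Cfsg.Agent.S5434
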