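import Cfsg.Statements.S5435
import Cfsg.Agent.Lib.Char.ZStar
import Cfsg.Agent.Lib.Fusion.ThompsonTransferCyclic
import Cfsg.Agent.Lib.Solv.PGroupPhi

set_option autoImplicit false
open Cfsg
open scoped commutatorElement

namespace Cfsg.Agent.S5435

/-- a dihedral group of order eight -/
theorem dihedral_eight {G : Type*} [Group G] [Finite G] {P : Subgroup G} (hcard : Nat.card P ≤ 8)
    {r t z : G} (hr : r ∈ P) (ht : t ∈ P) (hrr : r * r = z) (hzz : z * z = 1) (hz1 : z ≠ 1)
    (htt : t * t = 1) (htr : t * r * t⁻¹ = r⁻¹) : Nonempty (P ≃* DihedralGroup 4) := by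
  classical
  have hti : t⁻¹ = t := inv_eq_of_mul_eq_one_right htt
  have hr4 : r ^ 4 = 1 := by rw [show (4 : ℕ) = 2 * 2 from rfl, pow_mul, pow_two r, hrr, pow_two, hzz]
  let e : ZMod 4 → G := fun i => r ^ i.val
  have hadd : ∀ i j : ZMod 4, e (i + j) = e i * e j := fun i j => by
    show r ^ (i + j).val = r ^ i.val * r ^ j.val
    rw [← pow_add, ZMod.val_add, ← pow_eq_pow_mod _ hr4]
  have he0 : e 0 = 1 := by show r ^ (0 : ZMod 4).val = 1; rw [ZMod.val_zero, pow_zero]
  have hneg : ∀ i : ZMod 4, e (-i) = (e i)⁻¹ := fun i =>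
    eq_inv_of_mul_eq_one_left (by rw [← hadd, neg_add_cancel, he0])
  have hconj : ∀ i : ZMod 4, e i * t = t * e (-i) := fun i => by
    have h1 : t * r ^ i.val * t⁻¹ = (r ^ i.val)⁻¹ := by rw [← conj_pow, htr, inv_pow]
    rw [hneg]
    show r ^ i.val * t = t * (r ^ i.val)⁻¹
    rw [← h1, hti, ← mul_assoc, ← mul_assoc, htt, one_mul]
  let f : DihedralGroup 4 →* P :=
    { toFun := fun x => match x with
        | .r i => ⟨e i, pow_mem hr _⟩
        | .sr i => ⟨t * e i, mul_mem ht (pow_mem hr _)⟩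
      map_one' := Subtype.ext he0
      map_mul' := by
        rintro (i | i) (j | j) <;> refine Subtype.ext ?_
        · exact hadd i j
        · show t * e (j - i) = e i * (t * e j)
          rw [← mul_assoc (e i), hconj, mul_assoc, ← hadd]
          congr 2; ring
        · show t * e (i + j) = t * e i * e j
          rw [mul_assoc, ← hadd]
        · show e (j - i) = t * e i * (t * e j)
          rw [mul_assoc t (e i), ← mul_assoc (e i), hconj, mul_assoc t (e (-i)), ← hadd, ← mul_assoc, htt, one_mul]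
          congr 1; ring }
  have hv : ∀ i : ZMod 4, e i = 1 → i = 0 := by
    intro i hi
    have hz2 : r ^ 2 ≠ 1 := by rw [pow_two, hrr]; exact hz1
    have hlt := ZMod.val_lt i
    have hi' : r ^ i.val = 1 := hi
    have hg := pow_gcd_eq_one.2 ⟨hi', hr4⟩
    rcases (by omega : i.val = 0 ∨ i.val = 1 ∨ i.val = 2 ∨ i.val = 3) with h | h | h | h
    · exact (ZMod.val_eq_zero i).1 h
    · rw [h] at hi'; exact absurd (by rw [pow_two, ← pow_one r, hi', one_mul]) hz2
    · rw [h] at hi'; exact absurd hi' hz2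
    · rw [h] at hg; norm_num at hg; exact absurd (by rw [hg, one_pow]) hz2
  have hsr : ∀ i : ZMod 4, t * e i ≠ 1 := by
    intro i hi
    have ht' : r ^ i.val = t := by
      have h' : t * (t * e i) = t := by rw [hi, mul_one]
      rwa [← mul_assoc, htt, one_mul] at h'
    have hc : t * r * t⁻¹ = r := by
      rw [← ht', ← ((Commute.refl r).pow_left i.val).symm.eq]
      group
    rw [htr] at hc
    apply hz1
    rw [← hrr]
    conv_lhs => arg 1; rw [← hc]
    exact inv_mul_cancel r
  have hinj : Function.Injective f := by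
    refine (injective_iff_map_eq_one f).2 ?_
    rintro (i | i) hi
    · rw [hv i (congrArg Subtype.val hi)]; rfl
    · exact absurd (congrArg Subtype.val hi) (hsr i)
  have h8 : Nat.card (DihedralGroup 4) = 8 := DihedralGroup.nat_card
  exact ⟨(MulEquiv.ofBijective f ((Nat.bijective_iff_injective_and_card f).2
    ⟨hinj, le_antisymm (Nat.card_le_card_of_injective f hinj) (h8.symm ▸ hcard)⟩)).symm⟩

/-- Let L be a finite non-abelian simple group with an involution z whose centralizer R is a Sylow 2-subgroup of L whose Frattini subgroup is the subgroup generated by z. Then R is dihedral of order 8. -/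
theorem result {L : Type*} [Group L] [Finite L] [IsSimpleGroup L] (hL : ¬ IsMulCommutative L) (z : L) (hz : orderOf z = 2) (R : Sylow 2 L) (hR : (R : Subgroup L) = Subgroup.centralizer ({z} : Set L)) (hΦ : (frattini ↥(R : Subgroup L)).map (R : Subgroup L).subtype = Subgroup.zpowers z) : Nonempty (↥(R : Subgroup L) ≃* DihedralGroup 4) := by
  classical
  haveI : Fact (Nat.Prime 2) := ⟨Nat.prime_two⟩
  set P : Subgroup L := (R : Subgroup L) with hP
  have hP2 : IsPGroup 2 P := R.isPGroup'
  have mP : ∀ a, a ∈ P ↔ Commute a z := fun a => by rw [hR, Subgroup.mem_centralizer_singleton_iff]; exact Iff.rfl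
  have hzP : z ∈ P := (mP z).2 (Commute.refl z)
  have hzz : z * z = 1 := by rw [← pow_two, ← hz, pow_orderOf_eq_one]
  have hz1 : z ≠ 1 := fun e => by rw [e, orderOf_one] at hz; omega
  have hpow : ∀ a ∈ Subgroup.zpowers z, a = 1 ∨ a = z := by
    intro a ha
    obtain ⟨n, rfl⟩ := Subgroup.mem_zpowers_iff.1 ha
    rcases Int.even_or_odd n with ⟨j, rfl⟩ | ⟨j, rfl⟩
    · left; rw [zpow_add, ← (Commute.refl z).mul_zpow, hzz, one_zpow]
    · right; rw [zpow_add, two_mul, zpow_add, ← (Commute.refl z).mul_zpow, hzz, one_zpow, one_mul, zpow_one]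
  have hsq : ∀ a ∈ P, a * a = 1 ∨ a * a = z := fun a ha => hpow _ <| hΦ ▸
    ⟨⟨a, ha⟩ ^ 2, Cfsg.Agent.Solv.pow_mem_frattini hP2 _, by rw [pow_two]; rfl⟩
  have hcm : ∀ a ∈ P, ∀ b ∈ P, a * b * a⁻¹ = b ∨ a * b * a⁻¹ = b * z := by
    intro a ha b hb
    have hm : ⁅(⟨a, ha⟩ : P), ⟨b, hb⟩⁆ ∈ frattini P := Cfsg.Agent.Solv.commutator_le_frattini_pgroup hP2
      (by rw [commutator_def]; exact Subgroup.commutator_mem_commutator (Subgroup.mem_top _) (Subgroup.mem_top _))
    rcases hpow (a * b * a⁻¹ * b⁻¹) (hΦ ▸ ⟨_, hm, rfl⟩) with e | e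
    · exact Or.inl (mul_inv_eq_one.1 e)
    · exact Or.inr ((mul_inv_eq_iff_eq_mul.1 e).trans ((mP b).1 hb).symm.eq)
  -- normalizing the Sylow subgroup fixes the involution
  have hfix : ∀ n : L, (∀ a ∈ P, n * a * n⁻¹ ∈ P) → Commute n z := by
    intro n hn
    have hne : ∃ a ∈ P, ∃ b ∈ P, a * a = z ∨ a * b * a⁻¹ = b * z := by
      by_contra hno
      push Not at hno
      have hbot : frattini P ≤ ⊥ := by
        refine Cfsg.Agent.Solv.frattini_le (p := 2) ⊥ (fun a b => Subgroup.mem_bot.2 (Subtype.ext ?_))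
          fun a => Subgroup.mem_bot.2 (Subtype.ext ?_)
        · have e := (hcm a a.2 b b.2).resolve_right ((hno a a.2 b b.2).2)
          show (a : L) * b * (a : L)⁻¹ * (b : L)⁻¹ = 1
          rw [e, mul_inv_cancel]
        · show ((a : L)) ^ 2 = 1
          rw [pow_two]
          exact (hsq a a.2).resolve_right (hno a a.2 1 (one_mem _)).1
      rw [le_bot_iff.1 hbot, Subgroup.map_bot] at hΦ
      exact hz1 (Subgroup.mem_bot.1 (hΦ ▸ Subgroup.mem_zpowers z))
    obtain ⟨a, ha, b, hb, e⟩ := hne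
    have hnz : n * z * n⁻¹ = 1 ∨ n * z * n⁻¹ = z := by
      rcases e with e | e
      · rw [← e, show n * (a * a) * n⁻¹ = n * a * n⁻¹ * (n * a * n⁻¹) by group]
        exact e.symm ▸ hsq _ (hn a ha)
      · have e2 : n * z * n⁻¹ = (n * b * n⁻¹)⁻¹ * ((n * a * n⁻¹) * (n * b * n⁻¹) * (n * a * n⁻¹)⁻¹) := by
          rw [show (n * a * n⁻¹) * (n * b * n⁻¹) * (n * a * n⁻¹)⁻¹ = n * (a * b * a⁻¹) * n⁻¹ by group, e]; group
        rcases hcm _ (hn a ha) _ (hn b hb) with e' | e' <;> rw [e2, e']
        · left; rw [inv_mul_cancel]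
        · right; rw [inv_mul_cancel_left]
    exact mul_inv_eq_iff_eq_mul.1 (hnz.resolve_left fun e => hz1 (conj_eq_one_iff.1 e))
  have hclosed : ∀ n : L, (∀ a ∈ P, n * a * n⁻¹ ∈ P) → n ∈ P := fun n hn => (mP n).2 (hfix n hn)
  -- conjugate central elements are equal
  have burnside : ∀ (g a : L), a ∈ P → g * a * g⁻¹ ∈ P → (∀ b ∈ P, Commute a b) →
      (∀ b ∈ P, Commute (g * a * g⁻¹) b) → g * a * g⁻¹ = a := by
    intro g a ha hga h1 h2
    obtain ⟨n, hn, he⟩ := R.conj_eq_normalizer_conj_of_mem_centralizer a g⁻¹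
      (Subgroup.mem_centralizer_iff.2 fun b hb => (h1 b hb).symm.eq)
      (by rw [inv_inv]; exact Subgroup.mem_centralizer_iff.2 fun b hb => (h2 b hb).symm.eq)
    have hnP : n ∈ P := hclosed n fun b hb => (Subgroup.mem_normalizer_iff.1 hn b).1 hb
    rw [inv_inv] at he
    rw [he, mul_assoc, (h1 n hnP).eq, inv_mul_cancel_left]
  have hperf : commutator L = ⊤ := by
    rcases IsSimpleGroup.eq_bot_or_eq_top_of_normal (commutator L) inferInstance with h | h
    · refine absurd ⟨⟨fun a b => ?_⟩⟩ hL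
      exact commutatorElement_eq_one_iff_mul_comm.1 ((Subgroup.eq_bot_iff_forall _).1 h ⁅a, b⁆
        (by rw [commutator_def]; exact Subgroup.commutator_mem_commutator (Subgroup.mem_top _) (Subgroup.mem_top _)))
    · exact h
  -- there is another conjugate
  obtain ⟨g₀, hg₀, hg₀z⟩ : ∃ g : L, g * z * g⁻¹ ∈ P ∧ g * z * g⁻¹ ≠ z := by
    by_contra hno
    push Not at hno
    have hodd := Cfsg.Agent.Char.oddInvol_of_isolated_sylow hz (P := R) hzP hno
    have hO : Cfsg.oddCore L = ⊥ := by
      rcases IsSimpleGroup.eq_bot_or_eq_top_of_normal (Cfsg.oddCore L) inferInstance with h | h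
      · exact h
      · exfalso
        have := Cfsg.Agent.Char.card_oddCore_odd L
        rw [h, Subgroup.card_top] at this
        exact (Nat.not_even_iff_odd.2 this) (even_iff_two_dvd.2 (hz ▸ orderOf_dvd_natCard z))
    have hc := Cfsg.Agent.Char.zStar_central hodd hO
    have hzc : z ∈ Subgroup.center L := Subgroup.mem_center_iff.2 fun g => (hc g).symm
    rcases IsSimpleGroup.eq_bot_or_eq_top_of_normal (Subgroup.center L) inferInstance with h | h
    · rw [h, Subgroup.mem_bot] at hzc; exact hz1 hzc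
    · exact hL ⟨⟨fun a b => Subgroup.mem_center_iff.1 (h ▸ Subgroup.mem_top b) a⟩⟩
  -- facts about a conjugate of the involution
  have cen_conj : ∀ g : L, g * z * g⁻¹ ∈ P → (∀ b ∈ P, Commute (g * z * g⁻¹) b) → g * z * g⁻¹ = z :=
    fun g hg hc => burnside g z hzP hg (fun b hb => ((mP b).1 hb).symm) hc
  have mover : ∀ g : L, g * z * g⁻¹ ∈ P → g * z * g⁻¹ ≠ z →
      (∃ y ∈ P, y * (g * z * g⁻¹) * y⁻¹ = g * z * g⁻¹ * z) ∧
      (∃ p, Commute p (g * z * g⁻¹) ∧ p * z * p⁻¹ = z * (g * z * g⁻¹)) := by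
    intro g hg hne
    constructor
    · by_contra hno
      push Not at hno
      exact hne (cen_conj g hg fun b hb =>
        (mul_inv_eq_iff_eq_mul.1 ((hcm b hb _ hg).resolve_right (hno b hb)) : Commute b _).symm)
    · by_contra hno
      push Not at hno
      refine hne ?_
      have hsub : ∀ a ∈ P, g * a * g⁻¹ ∈ P := by
        intro a ha
        have hc : Commute (g * a * g⁻¹) (g * z * g⁻¹) := (Commute.conj_iff g).2 ((mP a).1 ha)
        refine (mP _).2 (mul_inv_eq_iff_eq_mul.1 ?_)
        have hz' : g⁻¹ * z * g ∈ P := (mP _).2 (by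
          have := (Commute.conj_iff g⁻¹).2 ((mP _).1 hg).symm
          rwa [inv_inv, show g⁻¹ * (g * z * g⁻¹) * g = z by group] at this)
        rcases hcm a ha _ hz' with e | e
        · rw [show g * a * g⁻¹ * z * (g * a * g⁻¹)⁻¹ = g * (a * (g⁻¹ * z * g) * a⁻¹) * g⁻¹ by group, e]; group
        · exact absurd (by rw [show g * a * g⁻¹ * z * (g * a * g⁻¹)⁻¹ = g * (a * (g⁻¹ * z * g) * a⁻¹) * g⁻¹ by group, e]; group)
            (hno _ hc)
      rw [(hfix g hsub).eq, mul_inv_cancel_right]
  set t := g₀ * z * g₀⁻¹ with ht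
  have hsqc : ∀ g, g * z * g⁻¹ * (g * z * g⁻¹) = 1 := fun g => by rw [conj_mul, hzz, mul_one, mul_inv_cancel]
  have htt : t * t = 1 := hsqc g₀
  obtain ⟨y, hy, hyt⟩ := (mover g₀ hg₀ hg₀z).1
  -- the squares and commutators in the centralizer of a conjugate
  have conj_cent : ∀ g s : L, Commute s (g * z * g⁻¹) → g⁻¹ * s * g ∈ P := fun g s h => (mP _).2 (by
    have := (Commute.conj_iff g⁻¹).2 h
    rwa [inv_inv, show g⁻¹ * (g * z * g⁻¹) * g = z by group] at this)
  have hsq' : ∀ g s : L, Commute s (g * z * g⁻¹) → s * s = 1 ∨ s * s = g * z * g⁻¹ := by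
    intro g s h
    rcases hsq _ (conj_cent g s h) with e | e
    · left; calc s * s = g * (g⁻¹ * s * g * (g⁻¹ * s * g)) * g⁻¹ := by group
        _ = 1 := by rw [e]; group
    · right; calc s * s = g * (g⁻¹ * s * g * (g⁻¹ * s * g)) * g⁻¹ := by group
        _ = _ := by rw [e]
  have hcm' : ∀ g s b : L, Commute s (g * z * g⁻¹) → Commute b (g * z * g⁻¹) →
      s * b * s⁻¹ = b ∨ s * b * s⁻¹ = b * (g * z * g⁻¹) := by
    intro g s b hs hb
    rcases hcm _ (conj_cent g s hs) _ (conj_cent g b hb) with e | e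
    · left; calc s * b * s⁻¹ = g * (g⁻¹ * s * g * (g⁻¹ * b * g) * (g⁻¹ * s * g)⁻¹) * g⁻¹ := by group
        _ = b := by rw [e]; group
    · right; calc s * b * s⁻¹ = g * (g⁻¹ * s * g * (g⁻¹ * b * g) * (g⁻¹ * s * g)⁻¹) * g⁻¹ := by group
        _ = _ := by rw [e]; group
  have elem : ∀ g, g * z * g⁻¹ ≠ z → ∀ s ∈ P, Commute s (g * z * g⁻¹) → s * s = 1 := by
    intro g hne s hs hc
    rcases hsq s hs with e | e
    · exact e
    rcases hsq' g s hc with e' | e'
    · exact e'
    exact absurd (e'.symm.trans e) hne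
  -- conjugates in the centralizer of a conjugate
  have two_in : ∀ g₀, g₀ * z * g₀⁻¹ ∈ P → g₀ * z * g₀⁻¹ ≠ z →
      ∀ g, g * z * g⁻¹ ∈ P → g * z * g⁻¹ ≠ z → Commute (g * z * g⁻¹) (g₀ * z * g₀⁻¹) →
      g * z * g⁻¹ = g₀ * z * g₀⁻¹ ∨ g * z * g⁻¹ = g₀ * z * g₀⁻¹ * z := by
    intro g₀ hg₀ hg₀z g hg hne hc
    set t := g₀ * z * g₀⁻¹ with ht
    have htt : t * t = 1 := hsqc g₀
    obtain ⟨y, hy, hyt⟩ := (mover g₀ hg₀ hg₀z).1
    obtain ⟨p, hpt, hpz⟩ := (mover g₀ hg₀ hg₀z).2
    have hcT : ∀ s b : L, Commute s t → Commute b t → s * b * s⁻¹ = b ∨ s * b * s⁻¹ = b * t := hcm' g₀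
    rw [← ht] at hyt hpt hpz
    clear_value t
    set u := g * z * g⁻¹ with hu
    have hcenU : (∀ b ∈ P, Commute u b) → u = z := cen_conj g hg
    clear_value u
    have hwP : t * u ∈ P := mul_mem hg₀ hg
    have huy : y * u * y⁻¹ = u * z := by
      refine (hcm y hy u hg).resolve_left fun e => hne (hcenU fun b hb => ?_)
      have hyu : Commute y u := mul_inv_eq_iff_eq_mul.1 e
      rcases hcm b hb t hg₀ with eb | eb
      · refine (mul_inv_eq_iff_eq_mul.1 ((hcm b hb u hg).resolve_right fun eu => ?_) : Commute b u).symm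
        -- elements commuting with a conjugate form an abelian group
        rcases hcT b u (mul_inv_eq_iff_eq_mul.1 eb) hc with e' | e'
        · exact hz1 (mul_eq_left.1 (eu.symm.trans e'))
        · exact hg₀z (mul_left_cancel (eu.symm.trans e')).symm
      · have hcb : Commute (y⁻¹ * b) t := mul_inv_eq_iff_eq_mul.1 (by
          calc y⁻¹ * b * t * (y⁻¹ * b)⁻¹ = y⁻¹ * (b * t * b⁻¹) * y := by group
            _ = y⁻¹ * (y * t * y⁻¹) * y := by rw [eb, hyt]
            _ = t := by group)
        have hbu : Commute (y⁻¹ * b) u := by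
          refine mul_inv_eq_iff_eq_mul.1 ((hcm _ (mul_mem (inv_mem hy) hb) u hg).resolve_right fun eu => ?_)
          rcases hcT _ u hcb hc with e' | e'
          · exact hz1 (mul_eq_left.1 (eu.symm.trans e'))
          · exact hg₀z (mul_left_cancel (eu.symm.trans e')).symm
        have := hyu.mul_left hbu
        rw [mul_inv_cancel_left] at this
        exact this.symm
    have hwy : Commute y (t * u) := mul_inv_eq_iff_eq_mul.1 (by
      calc y * (t * u) * y⁻¹ = (y * t * y⁻¹) * (y * u * y⁻¹) := by group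
        _ = t * (z * u) * z := by rw [hyt, huy]; simp only [mul_assoc]
        _ = t * u := by rw [← ((mP u).1 hg).eq, mul_assoc, mul_assoc, hzz, mul_one])
    have hwt : Commute (t * u) t := (Commute.refl t).mul_left hc
    have hwc : ∀ b ∈ P, Commute (t * u) b := by
      intro b hb
      rcases hcm b hb t hg₀ with eb | eb
      · refine (mul_inv_eq_iff_eq_mul.1 ((hcm b hb _ hwP).resolve_right fun eu => ?_) : Commute b _).symm
        rcases hcT b _ (mul_inv_eq_iff_eq_mul.1 eb) hwt with e' | e'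
        · exact hz1 (mul_eq_left.1 (eu.symm.trans e'))
        · exact hg₀z (mul_left_cancel (eu.symm.trans e')).symm
      · have hcb : Commute (y⁻¹ * b) t := mul_inv_eq_iff_eq_mul.1 (by
          calc y⁻¹ * b * t * (y⁻¹ * b)⁻¹ = y⁻¹ * (b * t * b⁻¹) * y := by group
            _ = y⁻¹ * (y * t * y⁻¹) * y := by rw [eb, hyt]
            _ = t := by group)
        have hbu : Commute (y⁻¹ * b) (t * u) := by
          refine mul_inv_eq_iff_eq_mul.1 ((hcm _ (mul_mem (inv_mem hy) hb) _ hwP).resolve_right fun eu => ?_)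
          rcases hcT _ _ hcb hwt with e' | e'
          · exact hz1 (mul_eq_left.1 (eu.symm.trans e'))
          · exact hg₀z (mul_left_cancel (eu.symm.trans e')).symm
        have := hwy.mul_left hbu
        rw [mul_inv_cancel_left] at this
        exact this.symm
    have hut : u = t * (t * u) := by rw [← mul_assoc, htt, one_mul]
    rcases hcT p (t * u) hpt hwt with e | e
    · -- fixed by both movers
      left
      obtain ⟨-, -⟩ := (⟨hwP, hwt⟩ : t * u ∈ P ∧ Commute (t * u) t)
      have e1 : (p * y * p * g) * z * (p * y * p * g)⁻¹ = z * (t * u) := by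
        have d0 : p * t * p⁻¹ = t := by rw [hpt.eq, mul_inv_cancel_right]
        have d1 : y * (t * u) * y⁻¹ = t * u := by rw [hwy.eq, mul_inv_cancel_right]
        have d3 : p * (t * z) * p⁻¹ = z := by
          rw [← conj_mul, d0, hpz, ← ((mP t).1 hg₀).eq, ← mul_assoc, htt, one_mul]
        calc (p * y * p * g) * z * (p * y * p * g)⁻¹ = p * y * p * (t * (t * u)) * (p * y * p)⁻¹ := by
              rw [← hut, hu]; group
          _ = p * (y * ((p * t * p⁻¹) * (p * (t * u) * p⁻¹)) * y⁻¹) * p⁻¹ := by group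
          _ = p * ((y * t * y⁻¹) * (y * (t * u) * y⁻¹)) * p⁻¹ := by rw [d0, e]; group
          _ = (p * (t * z) * p⁻¹) * (p * (t * u) * p⁻¹) := by rw [hyt, d1]; group
          _ = _ := by rw [d3, e]
      have := cen_conj (p * y * p * g) (e1 ▸ mul_mem hzP hwP) fun b hb => e1 ▸ ((mP b).1 hb).symm.mul_left (hwc b hb)
      rw [e1, mul_eq_left] at this
      rw [hut, this, mul_one]
    · right
      have e1 : (p * g) * z * (p * g)⁻¹ = t * u := by
        have d0 : p * t * p⁻¹ = t := by rw [hpt.eq, mul_inv_cancel_right]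
        calc (p * g) * z * (p * g)⁻¹ = p * (t * (t * u)) * p⁻¹ := by rw [← hut, hu]; group
          _ = (p * t * p⁻¹) * (p * (t * u) * p⁻¹) := by group
          _ = _ := by rw [d0, e, hwt.eq, ← mul_assoc, htt, one_mul]
      have := cen_conj (p * g) (e1 ▸ hwP) fun b hb => e1 ▸ hwc b hb
      rw [e1] at this
      calc u = t * (t * u) := hut
        _ = t * z := by rw [this]
  -- a second conjugate, if any
  obtain ⟨t', ht', hW⟩ : ∃ t' : L, (t' = 1 ∨ (t' ∈ P ∧ t' * t' = 1 ∧ t' * t * t'⁻¹ = t * z)) ∧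
      ∀ g : L, g * z * g⁻¹ ∈ P → g * z * g⁻¹ ∈ Subgroup.closure ({z, t, t'} : Set L) := by
    have hzW : ∀ a : L, z ∈ Subgroup.closure ({z, t, a} : Set L) := fun a => Subgroup.subset_closure (Or.inl rfl)
    have htW : ∀ a : L, t ∈ Subgroup.closure ({z, t, a} : Set L) := fun a => Subgroup.subset_closure (Or.inr (Or.inl rfl))
    have haW : ∀ a : L, a ∈ Subgroup.closure ({z, t, a} : Set L) := fun a => Subgroup.subset_closure (Or.inr (Or.inr rfl))
    by_cases hex : ∃ g, g * z * g⁻¹ ∈ P ∧ ¬ Commute (g * z * g⁻¹) t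
    · obtain ⟨g', hg', hg't⟩ := hex
      have h't : g' * z * g'⁻¹ * t * (g' * z * g'⁻¹)⁻¹ = t * z :=
        (hcm _ hg' t hg₀).resolve_left fun e => hg't (mul_inv_eq_iff_eq_mul.1 e)
      refine ⟨g' * z * g'⁻¹, Or.inr ⟨hg', hsqc g', h't⟩, fun g hg => ?_⟩
      by_cases hne : g * z * g⁻¹ = z
      · rw [hne]; exact hzW _
      by_cases hc : Commute (g * z * g⁻¹) t
      · rcases two_in g₀ hg₀ hg₀z g hg hne hc with e | e <;> rw [e]
        exacts [htW _, mul_mem (htW _) (hzW _)]
      · set u := g * z * g⁻¹ with hu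
        set s := g' * z * g'⁻¹ with hs
        have hut : u * t * u⁻¹ = t * z := (hcm u hg t hg₀).resolve_left fun e => hc (mul_inv_eq_iff_eq_mul.1 e)
        have hsi : s⁻¹ = s := inv_eq_of_mul_eq_one_right (hsqc g')
        have hui : u⁻¹ = u := inv_eq_of_mul_eq_one_right (hsqc g)
        have hat : Commute (s * u) t := mul_inv_eq_iff_eq_mul.1 (by
          calc s * u * t * (s * u)⁻¹ = s * (u * t * u⁻¹) * s⁻¹ := by group
            _ = (s * t * s⁻¹) * (s * z * s⁻¹) := by rw [hut]; group
            _ = t := by rw [h't, ((mP s).1 hg').eq, mul_inv_cancel_right, mul_assoc, hzz, mul_one])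
        have ha2 := elem g₀ hg₀z (s * u) (mul_mem hg' hg) hat
        have hsu : Commute u s := by
          have := inv_eq_of_mul_eq_one_right ha2
          rwa [mul_inv_rev, hsi, hui] at this
        have huK : u = s ∨ u = s * z :=
          two_in g' hg' (fun e => hg't (by rw [show s = z from e]; exact ((mP t).1 hg₀).symm)) g hg hne hsu
        rcases huK with e | e <;> rw [e]
        exacts [haW _, mul_mem (haW _) (hzW _)]
    · push Not at hex
      refine ⟨1, Or.inl rfl, fun g hg => ?_⟩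
      by_cases hne : g * z * g⁻¹ = z
      · rw [hne]; exact hzW _
      rcases two_in g₀ hg₀ hg₀z g hg hne (hex g hg) with e | e <;> rw [e]
      exacts [htW _, mul_mem (htW _) (hzW _)]
  set W : Subgroup L := Subgroup.closure ({z, t, t'} : Set L) with hWdef
  have ht'P : t' ∈ P := by
    rcases ht' with e | e
    · rw [e]; exact one_mem _
    · exact e.1
  have hWP : W ≤ P := by
    rw [hWdef, Subgroup.closure_le]
    rintro a (rfl | rfl | rfl)
    exacts [hzP, hg₀, ht'P]
  have hyn : ¬ Commute y t := fun e => hz1 (mul_eq_left.1 (by rw [← hyt, e.eq, mul_inv_cancel_right]))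
  have habel : ∀ a b : L, a ∈ P → b ∈ P → Commute a t → Commute b t → Commute a b := by
    intro a b ha hb hat hbt
    refine mul_inv_eq_iff_eq_mul.1 ((hcm a ha b hb).resolve_right fun e => ?_)
    rcases hcm' g₀ a b hat hbt with e' | e'
    · exact hz1 (mul_eq_left.1 (e.symm.trans e'))
    · exact hg₀z (mul_left_cancel (e.symm.trans e')).symm
  have hcoset : ∀ b ∈ P, ¬ Commute b t → Commute (y⁻¹ * b) t := fun b hb hbn => mul_inv_eq_iff_eq_mul.1 (by
    calc y⁻¹ * b * t * (y⁻¹ * b)⁻¹ = y⁻¹ * (b * t * b⁻¹) * y := by group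
      _ = y⁻¹ * (y * t * y⁻¹) * y := by
        rw [(hcm b hb t hg₀).resolve_left fun e => hbn (mul_inv_eq_iff_eq_mul.1 e), hyt]
      _ = t := by group)
  have hcentral : ∀ a ∈ P, Commute a t → Commute a y → ∀ b ∈ P, Commute a b := by
    intro a ha hat hay b hb
    by_cases hbt : Commute b t
    · exact habel a b ha hb hat hbt
    · have := hay.mul_right (habel a _ ha (mul_mem (inv_mem hy) hb) hat (hcoset b hb hbt))
      rwa [mul_inv_cancel_left] at this
  by_cases hbig : ∃ c ∈ P, (∀ b ∈ P, Commute c b) ∧ c ≠ 1 ∧ c ≠ z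
  · exfalso
    obtain ⟨c, hcP, hcc, hc1, hcz⟩ := hbig
    have hc2 : c * c = 1 := elem g₀ hg₀z c hcP (hcc t hg₀)
    have hcord : orderOf c = 2 := orderOf_eq_prime (by rw [pow_two, hc2]) hc1
    have hcW : c ∉ W := by
      intro hcW
      set K := Subgroup.closure ({z, t} : Set L) with hK
      have hzK : z ∈ K := Subgroup.subset_closure (Or.inl rfl)
      have htK : t ∈ K := Subgroup.subset_closure (Or.inr rfl)
      have hnK : K ≤ K.comap (MulAut.conj t').toMonoidHom := by
        rw [hK, Subgroup.closure_le]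
        rintro a (rfl | rfl)
        · show t' * a * t'⁻¹ ∈ K
          rw [((mP t').1 ht'P).eq, mul_inv_cancel_right]; exact hzK
        · show t' * t * t'⁻¹ ∈ K
          rcases hcm t' ht'P t hg₀ with e | e <;> rw [e]
          exacts [htK, mul_mem htK hzK]
      have ht2 : t' * t' = 1 := by
        rcases ht' with e | e
        · rw [e, one_mul]
        · exact e.2.1
      have hform : ∀ a ∈ W, ∃ k ∈ K, a = k ∨ a = t' * k := by
        intro a ha
        rw [hWdef] at ha
        induction ha using Subgroup.closure_induction'' with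
        | mem u hu =>
          rcases hu with rfl | rfl | rfl
          exacts [⟨_, hzK, Or.inl rfl⟩, ⟨_, htK, Or.inl rfl⟩, ⟨1, one_mem _, Or.inr (mul_one _).symm⟩]
        | inv_mem u hu =>
          rcases hu with rfl | rfl | rfl
          exacts [⟨_, inv_mem hzK, Or.inl rfl⟩, ⟨_, inv_mem htK, Or.inl rfl⟩,
            ⟨1, one_mem _, Or.inr (by rw [mul_one, inv_eq_of_mul_eq_one_right ht2])⟩]
        | one => exact ⟨1, one_mem _, Or.inl rfl⟩
        | mul u v _ _ hu hv =>
          obtain ⟨k, hk, e⟩ := hu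
          obtain ⟨l, hl, e'⟩ := hv
          have hkt : t' * k * t'⁻¹ ∈ K := hnK hk
          rw [inv_eq_of_mul_eq_one_right ht2] at hkt
          rcases e with rfl | rfl <;> rcases e' with rfl | rfl
          · exact ⟨_, mul_mem hk hl, Or.inl rfl⟩
          · exact ⟨_, mul_mem hkt hl, Or.inr (by rw [← mul_assoc t', ← mul_assoc t', ← mul_assoc t', ht2, one_mul, mul_assoc])⟩
          · exact ⟨_, mul_mem hk hl, Or.inr (mul_assoc _ _ _)⟩
          · exact ⟨_, mul_mem hkt hl, Or.inl (by simp only [mul_assoc])⟩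
      obtain ⟨k, hk, e⟩ := hform c hcW
      have hKl : ∀ a ∈ K, a = 1 ∨ a = z ∨ a = t ∨ a = t * z := by
        intro a ha
        rw [hK] at ha
        have hzt : z * t = t * z := ((mP t).1 hg₀).symm.eq
        have e1 : ∀ u : L, z * (z * u) = u := fun u => by rw [← mul_assoc, hzz, one_mul]
        have e2 : ∀ u : L, t * (t * u) = u := fun u => by rw [← mul_assoc, htt, one_mul]
        have e3 : ∀ u : L, z * (t * u) = t * (z * u) := fun u => by rw [← mul_assoc, hzt, mul_assoc]
        clear_value t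
        induction ha using Subgroup.closure_induction with
        | mem v hv => rcases hv with hv | hv <;> tauto
        | one => exact Or.inl rfl
        | mul u v _ _ hu hv =>
          rcases hu with rfl | rfl | rfl | rfl <;> rcases hv with rfl | rfl | rfl | rfl <;>
            simp [mul_assoc, e1, e2, e3, hzz, htt, hzt]
        | inv u _ hu =>
          rcases hu with rfl | rfl | rfl | rfl
          · left; simp
          · right; left; exact inv_eq_of_mul_eq_one_right hzz
          · right; right; left; exact inv_eq_of_mul_eq_one_right htt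
          · right; right; right
            rw [mul_inv_rev, inv_eq_of_mul_eq_one_right hzz, inv_eq_of_mul_eq_one_right htt, hzt]
      have hkP : k ∈ P := (Subgroup.closure_le P).2 (by rintro a (rfl | rfl); exacts [hzP, hg₀]) hk
      have hkt : Commute k t := by
        rcases hKl k hk with e | e | e | e <;> rw [e]
        exacts [Commute.one_left t, ((mP t).1 hg₀).symm, (Commute.refl t).mul_left ((mP t).1 hg₀).symm]
      rcases e with e | e
      · rcases hKl k hk with e' | e' | e' | e'
        · exact hc1 (e.trans e')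
        · exact hcz (e.trans e')
        · exact hyn ((e.trans e') ▸ hcc y hy).symm
        · refine hyn ?_
          have h1 : Commute y (c * z) := (hcc y hy).symm.mul_right ((mP y).1 hy)
          rwa [e, e', mul_assoc, hzz, mul_one] at h1
      · rcases ht' with e' | ⟨-, -, e'⟩
        · rw [e', one_mul] at e
          rcases hKl k hk with e'' | e'' | e'' | e''
          · exact hc1 (e.trans e'')
          · exact hcz (e.trans e'')
          · exact hyn ((e.trans e'') ▸ hcc y hy).symm
          · refine hyn ?_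
            have h1 : Commute y (c * z) := (hcc y hy).symm.mul_right ((mP y).1 hy)
            rwa [e, e'', mul_assoc, hzz, mul_one] at h1
        · have hct : Commute (c * k⁻¹) t := (hcc t hg₀).mul_left hkt.inv_left
          rw [e, mul_inv_cancel_right] at hct
          rw [hct.eq, mul_inv_cancel_right] at e'
          exact hz1 (mul_eq_left.1 e'.symm)
    -- a maximal subgroup avoiding `c`
    obtain ⟨M, ⟨hWM, hMP, hcM⟩, hmax⟩ := (Set.toFinite {M : Subgroup L | W ≤ M ∧ M ≤ P ∧ c ∉ M}).exists_maximal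
      ⟨W, le_rfl, hWP, hcW⟩
    have hzM : z ∈ M := hWM (Subgroup.subset_closure (Or.inl rfl))
    have hMn : ∀ s ∈ P, ∀ m ∈ M, s * m * s⁻¹ ∈ M := by
      intro s hs m hm
      rcases hcm s hs m (hMP hm) with e | e <;> rw [e]
      exacts [hm, mul_mem hm hzM]
    have hsqM : ∀ s ∈ P, s * s ∈ M := fun s hs => by
      rcases hsq s hs with e | e <;> rw [e]
      exacts [one_mem _, hzM]
    have htwo : ∀ s ∈ P, s ∉ M → c⁻¹ * s ∈ M := by
      intro s hs hsM
      have hcm' : c ∈ M ⊔ Subgroup.zpowers s := by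
        by_contra hno
        exact hsM ((hmax (show M ⊔ Subgroup.zpowers s ∈ {M : Subgroup L | W ≤ M ∧ M ≤ P ∧ c ∉ M} from
          ⟨hWM.trans le_sup_left, sup_le hMP (Subgroup.zpowers_le.2 hs), hno⟩) le_sup_left)
          (Subgroup.mem_sup_right (Subgroup.mem_zpowers s)))
      have hform : ∀ a ∈ M ⊔ Subgroup.zpowers s, a ∈ M ∨ s⁻¹ * a ∈ M := by
        intro a ha
        rw [Subgroup.zpowers_eq_closure, ← M.closure_eq, ← Subgroup.closure_union] at ha
        induction ha using Subgroup.closure_induction'' with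
        | mem u hu =>
          rcases hu with hu | rfl
          exacts [Or.inl hu, Or.inr (by rw [inv_mul_cancel]; exact one_mem _)]
        | inv_mem u hu =>
          rcases hu with hu | rfl
          exacts [Or.inl (inv_mem hu), Or.inr (by rw [← mul_inv_rev]; exact inv_mem (hsqM _ hs))]
        | one => exact Or.inl (one_mem _)
        | mul u v _ _ hu hv =>
          rcases hu with hu | hu <;> rcases hv with hv | hv
          · exact Or.inl (mul_mem hu hv)
          · refine Or.inr ?_
            rw [show s⁻¹ * (u * v) = (s⁻¹ * u * s⁻¹⁻¹) * (s⁻¹ * v) by group]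
            exact mul_mem (hMn _ (inv_mem hs) u hu) hv
          · exact Or.inr (by rw [← mul_assoc]; exact mul_mem hu hv)
          · refine Or.inl ?_
            rw [show u * v = (s * (s⁻¹ * u) * s⁻¹) * (s * s) * (s⁻¹ * v) by group]
            exact mul_mem (mul_mem (hMn s hs _ hu) (hsqM s hs)) hv
      rcases hform c hcm' with h | h
      · exact absurd h hcM
      · have := inv_mem h
        rwa [mul_inv_rev, inv_inv] at this
    haveI hTn : (M.subgroupOf P).Normal :=
      ⟨fun m hm s => Subgroup.mem_subgroupOf.2 (hMn s s.2 m (Subgroup.mem_subgroupOf.1 hm))⟩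
    have hidx : (M.subgroupOf P).index = 2 := by
      rw [Subgroup.index_eq_two_iff]
      refine ⟨⟨c, hcP⟩, fun s => ?_⟩
      have h1 : (s * ⟨c, hcP⟩ ∈ M.subgroupOf P) ↔ (s : L) * c ∈ M := Iff.rfl
      have h2 : (s ∈ M.subgroupOf P) ↔ (s : L) ∈ M := Iff.rfl
      rw [h1, h2]
      by_cases hs : (s : L) ∈ M
      · refine Or.inr ⟨hs, fun h => hcM ?_⟩
        have := mul_mem (inv_mem hs) h
        rwa [inv_mul_cancel_left] at this
      · refine Or.inl ⟨?_, hs⟩
        have := htwo s s.2 hs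
        rwa [inv_eq_of_mul_eq_one_right hc2, (hcc s s.2).eq] at this
    have hcyc : IsCyclic (↥(R : Subgroup L) ⧸ M.subgroupOf (R : Subgroup L)) :=
      isCyclic_of_prime_card (p := 2) hidx
    obtain ⟨g, hgM, -, -⟩ := Cfsg.Agent.Fusion.extremal_transfer_cyclic hperf R M hMP hcyc hcord hcP hcM
    set d := g * c * g⁻¹ with hd
    have hdP : d ∈ P := hMP hgM
    by_cases hdc : ∀ b ∈ P, Commute d b
    · exact hcM (burnside g c hcP hdP hcc hdc ▸ hgM)
    -- a conjugate Sylow subgroup centralizing `d`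
    obtain ⟨h, hh, hhd⟩ : ∃ h : L, (∀ b ∈ P, Commute b d → h⁻¹ * b * h ∈ P) ∧ h * c * h⁻¹ = d := by
      set Cd := Subgroup.centralizer ({d} : Set L) with hCd
      set B := P.subgroupOf Cd with hB
      have hB2 : IsPGroup 2 B := hP2.comap_of_injective Cd.subtype Cd.subtype_injective
      obtain ⟨S₁, hS₁⟩ := hB2.exists_le_sylow
      have hgle : ((g • R : Sylow 2 L) : Subgroup L) ≤ Cd := by
        intro a ha
        rw [Sylow.coe_subgroup_smul, Subgroup.mem_pointwise_smul_iff_inv_smul_mem] at ha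
        simp only [← map_inv, MulAut.smul_def, MulAut.conj_apply, inv_inv] at ha
        rw [hCd, Subgroup.mem_centralizer_singleton_iff]
        have := (Commute.conj_iff g).2 (hcc _ ha).symm
        rwa [show g * (g⁻¹ * a * g) * g⁻¹ = a by group] at this
      obtain ⟨k, hk⟩ := MulAction.exists_smul_eq Cd ((g • R).subtype hgle) S₁
      refine ⟨(k : L) * g, fun b hb hbd => ?_, ?_⟩
      · have hbC : b ∈ Cd := Subgroup.mem_centralizer_singleton_iff.2 hbd
        have hb1 : (⟨b, hbC⟩ : Cd) ∈ (S₁ : Subgroup Cd) := hS₁ (Subgroup.mem_subgroupOf.2 hb)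
        rw [← hk, Sylow.coe_subgroup_smul, Subgroup.mem_pointwise_smul_iff_inv_smul_mem, Sylow.coe_subtype,
          Subgroup.mem_subgroupOf, Sylow.coe_subgroup_smul, Subgroup.mem_pointwise_smul_iff_inv_smul_mem] at hb1
        simp only [← map_inv, MulAut.smul_def, MulAut.conj_apply, inv_inv, Subgroup.coe_mul, Subgroup.coe_inv] at hb1
        rw [show ((k : L) * g)⁻¹ * b * ((k : L) * g) = g⁻¹ * ((k : L)⁻¹ * b * (k : L)) * g by group]
        exact hb1
      · have hkd : Commute (k : L) d := Subgroup.mem_centralizer_singleton_iff.1 k.2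
        rw [show (k : L) * g * c * ((k : L) * g)⁻¹ = (k : L) * d * (k : L)⁻¹ by rw [hd]; group, hkd.eq, mul_inv_cancel_right]
    have hcomm1 : ∀ b ∈ P, Commute b d → Commute b (h * z * h⁻¹) := by
      intro b hb hbd
      have := (Commute.conj_iff h).2 ((mP _).1 (hh b hb hbd))
      rwa [show h * (h⁻¹ * b * h) * h⁻¹ = b by group] at this
    have ht1P : h * z * h⁻¹ ∈ P := (mP _).2 (hcomm1 z hzP ((mP d).1 hdP).symm).symm
    have ht1ne : h * z * h⁻¹ ≠ z := by
      intro e
      refine hdc ?_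
      have hhP : h ∈ P := (mP h).2 (mul_inv_eq_iff_eq_mul.1 e)
      rw [← hhd, show h * c * h⁻¹ = c by rw [← (hcc h hhP).eq, mul_inv_cancel_right]]
      exact hcc
    obtain ⟨y₁, hy₁, hy₁t⟩ := (mover h ht1P ht1ne).1
    obtain ⟨p, hpt, hpz⟩ := (mover h ht1P ht1ne).2
    have hdt : Commute d (h * z * h⁻¹) := hcomm1 d hdP (Commute.refl d)
    set t₁ := h * z * h⁻¹ with ht₁
    have ht1M : t₁ ∈ M := hWM (hW h ht1P)
    set K := Subgroup.closure ({z, t₁} : Set L) with hK
    have hKM : K ≤ M := (Subgroup.closure_le M).2 (by rintro a (rfl | rfl); exacts [hzM, ht1M])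
    have hzK : z ∈ K := Subgroup.subset_closure (Or.inl rfl)
    have htK : t₁ ∈ K := Subgroup.subset_closure (Or.inr rfl)
    have hpK : K ≤ K.comap (MulAut.conj p).toMonoidHom := (Subgroup.closure_le _).2 (by
      rintro a (rfl | rfl)
      · show p * a * p⁻¹ ∈ K
        rw [hpz]; exact mul_mem hzK htK
      · show p * t₁ * p⁻¹ ∈ K
        rw [hpt.eq, mul_inv_cancel_right]; exact htK)
    have hyK : K ≤ K.comap (MulAut.conj y₁).toMonoidHom := (Subgroup.closure_le _).2 (by
      rintro a (rfl | rfl)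
      · show y₁ * a * y₁⁻¹ ∈ K
        rw [((mP y₁).1 hy₁).eq, mul_inv_cancel_right]; exact hzK
      · show y₁ * t₁ * y₁⁻¹ ∈ K
        rw [hy₁t]; exact mul_mem htK hzK)
    set e := p * y₁ * p with he
    have het : e * t₁ * e⁻¹ = z := by
      rw [he, show p * y₁ * p * t₁ * (p * y₁ * p)⁻¹ = p * (y₁ * (p * t₁ * p⁻¹) * y₁⁻¹) * p⁻¹ by group,
        show p * t₁ * p⁻¹ = t₁ by rw [hpt.eq, mul_inv_cancel_right], hy₁t, ← conj_mul,
        show p * t₁ * p⁻¹ = t₁ by rw [hpt.eq, mul_inv_cancel_right], hpz,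
        ← ((mP t₁).1 ht1P).eq, ← mul_assoc, hsqc h, one_mul]
    have hed : ∀ b ∈ P, Commute (e * d * e⁻¹) b := by
      intro b hb
      have h1 : Commute (e⁻¹ * b * e) t₁ := by
        have := (Commute.conj_iff e⁻¹).2 ((mP b).1 hb)
        rwa [inv_inv, ← het, show e⁻¹ * (e * t₁ * e⁻¹) * e = t₁ by group] at this
      have h2 := (Commute.conj_iff h).2 (hcc _ (conj_cent h _ h1))
      rw [hhd, show h * (h⁻¹ * (e⁻¹ * b * e) * h) * h⁻¹ = e⁻¹ * b * e by group] at h2
      have h3 := (Commute.conj_iff e).2 h2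
      rwa [show e * (e⁻¹ * b * e) * e⁻¹ = b by group] at h3
    have hedc : e * d * e⁻¹ = c := by
      have hx : e * h * c * (e * h)⁻¹ = e * d * e⁻¹ := by rw [← hhd]; group
      rw [← hx]
      exact burnside (e * h) c hcP (hx ▸ (mP _).2 (hed z hzP)) hcc (hx ▸ hed)
    -- the image of `d` under `e` lies in its coset
    have step1 : ∃ k ∈ K, p * d * p⁻¹ = d * k := by
      rcases hcm' h p d hpt hdt with e' | e'
      exacts [⟨1, one_mem _, by rw [e', mul_one]⟩, ⟨t₁, htK, e'⟩]
    obtain ⟨k₁, hk₁, ek₁⟩ := step1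
    obtain ⟨k₂, hk₂, ek₂⟩ : ∃ k ∈ K, y₁ * d * y₁⁻¹ = d * k := by
      rcases hcm y₁ hy₁ d hdP with e' | e'
      exacts [⟨1, one_mem _, by rw [e', mul_one]⟩, ⟨z, hzK, e'⟩]
    refine hcM ?_
    rw [← hedc, show e * d * e⁻¹ = p * (y₁ * (p * d * p⁻¹) * y₁⁻¹) * p⁻¹ by rw [he]; group, ek₁,
      show p * (y₁ * (d * k₁) * y₁⁻¹) * p⁻¹ = p * ((y₁ * d * y₁⁻¹) * (y₁ * k₁ * y₁⁻¹)) * p⁻¹ by group, ek₂,
      show p * (d * k₂ * (y₁ * k₁ * y₁⁻¹)) * p⁻¹ = (p * d * p⁻¹) * (p * (k₂ * (y₁ * k₁ * y₁⁻¹)) * p⁻¹) by group, ek₁]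
    exact mul_mem (mul_mem hgM (hKM hk₁)) (hKM (hpK (mul_mem hk₂ (hyK hk₁))))
  · push Not at hbig
    have hA : ∀ a ∈ P, Commute a t → a = 1 ∨ a = z ∨ a = t ∨ a = t * z := by
      intro a ha hat
      by_cases hay : Commute a y
      · by_cases a1 : a = 1
        · exact Or.inl a1
        · exact Or.inr (Or.inl (hbig a ha (hcentral a ha hat hay) a1))
      · have hya : y * a * y⁻¹ = a * z :=
          (hcm y hy a ha).resolve_left fun e => hay (mul_inv_eq_iff_eq_mul.1 e : Commute y a).symm
        have hy2 : Commute y (a * t) := mul_inv_eq_iff_eq_mul.1 (by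
          calc y * (a * t) * y⁻¹ = (y * a * y⁻¹) * (y * t * y⁻¹) := by group
            _ = a * z * (t * z) := by rw [hya, hyt]
            _ = a * t := by
              rw [← mul_assoc (a * z), mul_assoc a z t, ((mP t).1 hg₀).symm.eq, ← mul_assoc a t z, mul_assoc (a * t) z z, hzz, mul_one])
        have hat2 := hcentral _ (mul_mem ha hg₀) (hat.mul_left (Commute.refl t)) hy2.symm
        have hcases : a * t = 1 ∨ a * t = z := or_iff_not_imp_left.2 (hbig _ (mul_mem ha hg₀) hat2)
        have hat' : a = a * t * t := by rw [mul_assoc, htt, mul_one]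
        rcases hcases with e | e <;> rw [e] at hat'
        · exact Or.inr (Or.inr (Or.inl (hat'.trans (one_mul t))))
        · exact Or.inr (Or.inr (Or.inr (hat'.trans ((mP t).1 hg₀).symm.eq)))
    have h8 : Nat.card P ≤ 8 := by
      let S : Finset L := {1, z, t, t * z}
      have hsub : (P : Set L) ⊆ ↑(S ∪ S.image (fun s => y * s)) := by
        intro b hb
        rw [Finset.mem_coe, Finset.mem_union, Finset.mem_image]
        by_cases hbt : Commute b t
        · left; rcases hA b hb hbt with e | e | e | e <;> simp [S, e]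
        · right
          refine ⟨y⁻¹ * b, ?_, mul_inv_cancel_left y b⟩
          rcases hA _ (mul_mem (inv_mem hy) hb) (hcoset b hb hbt) with e | e | e | e <;> simp [S, e]
      have h1 : (P : Set L).ncard ≤ (↑(S ∪ S.image (fun s => y * s)) : Set L).ncard :=
        Set.ncard_le_ncard hsub (Finset.finite_toSet _)
      rw [Set.ncard_coe_finset] at h1
      have h2 := (Finset.card_union_le S (S.image (fun s => y * s))).trans
        (Nat.add_le_add_left Finset.card_image_le _)
      have h4 : S.card ≤ 4 := Finset.card_le_four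
      have h5 : Nat.card P = (P : Set L).ncard := Nat.card_coe_set_eq _
      omega
    have hti : t⁻¹ = t := inv_eq_of_mul_eq_one_right htt
    rcases hsq y hy with hyy | hyy
    · have hyi : y⁻¹ = y := inv_eq_of_mul_eq_one_right hyy
      refine dihedral_eight h8 (mul_mem hy hg₀) hg₀ ?_ hzz hz1 htt ?_
      · calc y * t * (y * t) = (y * t * y⁻¹) * t := by rw [hyi]; simp only [mul_assoc]
          _ = z := by rw [hyt, mul_assoc, ← ((mP t).1 hg₀).eq, ← mul_assoc, htt, one_mul]
      · rw [hti, mul_inv_rev, hti, hyi]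
        simp only [mul_assoc, htt, mul_one]
    · refine dihedral_eight h8 hy hg₀ hyy hzz hz1 htt ?_
      have h1 : t * y * t⁻¹ = y * z := (hcm t hg₀ y hy).resolve_left fun e =>
        hyn (mul_inv_eq_iff_eq_mul.1 e : Commute t y).symm
      rw [h1, eq_comm, inv_eq_iff_mul_eq_one, ← mul_assoc, hyy, hzz]

end Cfsg.Agent.S5435
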