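import Cfsg.Statements.S5436
import Cfsg.Agent.Lib.Spor.LargeSimple

set_option autoImplicit false
open Cfsg
open Cfsg.Agent.Spor.Large

namespace Cfsg.Agent.S5436

/-- Let z be an involution of the finite group G with centralizer H whose generalized Fitting subgroup Q is extraspecial of width at least 2 (order 2^(2w+1), w ≥ 2); suppose some conjugate of z other than z lies in Q, H/Q is a non-abelian simple group, H acts irreducibly by conjugation on Q modulo the subgroup generated by z (the only H-invariant subgroups of Q containing z are that subgroup and Q), and Q is not the subgroup generated by the conjugates of z lying in H. Then G is simple. -/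
theorem result {G : Type*} [Group G] [Finite G] (z : G) (hz : orderOf z = 2) (Q : Subgroup (Subgroup.centralizer ({z} : Set G))) [Q.Normal] (hF : Cfsg.generalizedFittingSubgroup ↥(Subgroup.centralizer ({z} : Set G)) = Q) (hQ : Cfsg.IsExtraspecial 2 ↥Q) (w : ℕ) (hw : 2 ≤ w) (hcard : Nat.card ↥Q = 2 ^ (2 * w + 1)) (hnwc : ∃ g : G, (∃ hq : g * z * g⁻¹ ∈ Subgroup.centralizer ({z} : Set G), (⟨g * z * g⁻¹, hq⟩ : Subgroup.centralizer ({z} : Set G)) ∈ Q) ∧ g * z * g⁻¹ ≠ z) (hsimp : IsSimpleGroup (↥(Subgroup.centralizer ({z} : Set G)) ⧸ Q)) (hna : ¬ IsMulCommutative (↥(Subgroup.centralizer ({z} : Set G)) ⧸ Q)) (hirr : ∀ W : Subgroup (Subgroup.centralizer ({z} : Set G)), W.Normal → W ≤ Q → (W = Q ∨ ∀ x ∈ W, (x : G) ∈ Subgroup.zpowers z)) (hwcl : Subgroup.closure {x : Subgroup.centralizer ({z} : Set G) | IsConj z (x : G)} ≠ Q) : IsSimpleGroup G := by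
  classical
  haveI : Fact (Nat.Prime 2) := ⟨Nat.prime_two⟩
  set Q₀ := Q.map (Subgroup.centralizer ({z} : Set G)).subtype with hQ₀
  let eQ : Q ≃* Q₀ := Q.equivMapOfInjective (Subgroup.centralizer ({z} : Set G)).subtype (Subgroup.centralizer ({z} : Set G)).subtype_injective
  have hQ' : Cfsg.IsExtraspecial 2 ↥Q₀ := by
    obtain ⟨⟨hp, hΦ, hD⟩, hc⟩ := hQ
    have hzc : (Subgroup.center Q).map eQ.toMonoidHom = Subgroup.center Q₀ := by
      ext v
      rw [Subgroup.mem_map_equiv, Subgroup.mem_center_iff, Subgroup.mem_center_iff]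
      constructor
      · intro h b
        exact eQ.symm.injective (by rw [map_mul, map_mul, h (eQ.symm b)])
      · intro h b
        exact eQ.injective (by rw [map_mul, map_mul, MulEquiv.apply_symm_apply, h (eQ b)])
    have hcard' : Nat.card (Subgroup.center Q₀) = 2 := by
      rw [← hzc, Subgroup.card_map_of_injective eQ.injective, hc]
    refine Cfsg.Agent.Solv.isExtraspecial_of (hp.of_equiv eQ) hcard' ?_ fun x => ?_
    · rw [← hzc, ← hD, commutator_def, commutator_def, Subgroup.map_commutator,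
        Subgroup.map_top_of_surjective _ eQ.surjective]
    · have := Cfsg.Agent.Solv.extraspecial_pow_mem_center ⟨⟨hp, hΦ, hD⟩, hc⟩ (eQ.symm x)
      rw [← hzc, Subgroup.mem_map_equiv, map_pow]
      exact this
  have hcard' : Nat.card ↥Q₀ = 2 ^ (2 * w + 1) := by rw [← Nat.card_congr eQ.toEquiv, hcard]
  obtain ⟨X, hnorm, -, hzp, hL2, hL3⟩ := of_gfit z hz Q₀ (Subgroup.map_subtype_le _) (by rw [hF]) hQ'
  obtain ⟨g, ⟨hq, hgQ⟩, hgz⟩ := hnwc
  have hgN : g ∉ Subgroup.normalizer (((Subgroup.center ↥Q₀).map Q₀.subtype : Subgroup G) : Set G) := by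
    intro hn
    have hm := (Subgroup.mem_normalizer_iff.1 hn z).1 (hzp ▸ Subgroup.mem_zpowers z)
    rw [hzp] at hm
    obtain ⟨n, hn'⟩ := Subgroup.mem_zpowers_iff.1 hm
    rcases Int.even_or_odd n with ⟨j, rfl⟩ | ⟨j, rfl⟩
    · rw [zpow_add, ← (Commute.refl z).mul_zpow, X.sq, one_zpow] at hn'
      exact X.ne (conj_eq_one_iff.1 hn'.symm)
    · rw [zpow_add, two_mul, zpow_add, ← (Commute.refl z).mul_zpow, X.sq, one_zpow, one_mul, zpow_one] at hn'
      exact hgz hn'.symm
  have hlarge : Cfsg.IsLargeExtraspecial Q₀ := by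
    refine (conjugate_inside Q₀ hQ' hL2 hL3 w hw hcard' g hgN ?_ _ rfl).2.2
    rw [hzp, MonoidHom.map_zpowers, Subgroup.zpowers_le]
    exact ⟨_, hgQ, rfl⟩
  refine simple_of_large Q₀ hlarge X hnorm fun N hN hzN c hc => ?_
  set S : Set ↥(Subgroup.centralizer ({z} : Set G)) := {x : ↥(Subgroup.centralizer ({z} : Set G)) | IsConj z (x : G)} with hS
  set W := Subgroup.closure S with hW
  have hWn : W.Normal := ⟨fun x hx d => by
    induction hx using Subgroup.closure_induction with
    | mem y hy => exact Subgroup.subset_closure (IsConj.trans (hy : IsConj z (y : G)) (isConj_iff.2 ⟨(d : G), rfl⟩))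
    | one => simp
    | mul u v _ _ hu hv => rw [← conj_mul]; exact mul_mem hu hv
    | inv u _ hu => rw [← conj_inv]; exact inv_mem hu⟩
  have hWN : ∀ x ∈ W, (x : G) ∈ N := fun x hx => by
    have h : W ≤ N.subgroupOf (Subgroup.centralizer ({z} : Set G)) := (Subgroup.closure_le _).2 fun y hy => by
      obtain ⟨d, hd⟩ := isConj_iff.1 (hy : IsConj z (y : G))
      rw [SetLike.mem_coe, Subgroup.mem_subgroupOf, ← hd]
      exact hN.conj_mem z hzN d
    exact Subgroup.mem_subgroupOf.1 (h hx)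
  have hzH : z ∈ (Subgroup.centralizer ({z} : Set G)) := Subgroup.mem_centralizer_singleton_iff.2 rfl
  have hQW : Q ≤ W := by
    haveI := hWn
    have hg' : (⟨g * z * g⁻¹, hq⟩ : ↥(Subgroup.centralizer ({z} : Set G))) ∈ W ⊓ Q := ⟨Subgroup.subset_closure (isConj_iff.2 ⟨g, rfl⟩), hgQ⟩
    rcases hirr (W ⊓ Q) inferInstance inf_le_right with h | h
    · exact h ▸ inf_le_left
    · exfalso
      obtain ⟨n, hn⟩ := Subgroup.mem_zpowers_iff.1 (h _ hg')
      rcases Int.even_or_odd n with ⟨j, rfl⟩ | ⟨j, rfl⟩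
      · rw [zpow_add, ← (Commute.refl z).mul_zpow, X.sq, one_zpow] at hn
        exact X.ne (conj_eq_one_iff.1 hn.symm)
      · rw [zpow_add, two_mul, zpow_add, ← (Commute.refl z).mul_zpow, X.sq, one_zpow, one_mul, zpow_one] at hn
        exact hgz hn.symm
  have hWtop : W = ⊤ := by
    haveI := hsimp
    rcases IsSimpleGroup.eq_bot_or_eq_top_of_normal (W.map (QuotientGroup.mk' Q))
      (hWn.map _ (QuotientGroup.mk'_surjective Q)) with h | h
    · refine absurd (le_antisymm ?_ hQW) hwcl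
      rw [Subgroup.map_eq_bot_iff, QuotientGroup.ker_mk'] at h
      exact h
    · rw [eq_top_iff]
      intro x _
      obtain ⟨y, hy, he⟩ : QuotientGroup.mk' Q x ∈ W.map (QuotientGroup.mk' Q) := h ▸ Subgroup.mem_top _
      have := mul_mem hy (hQW ((QuotientGroup.eq.1 he : y⁻¹ * x ∈ Q)))
      rwa [mul_inv_cancel_left] at this
  exact hWN ⟨c, Subgroup.mem_centralizer_singleton_iff.2 hc⟩ (hWtop ▸ Subgroup.mem_top _)

end Cfsg.Agent.S5436
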