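import Cfsg.Statements.S5440
import Cfsg.Agent.Lib.Spor.LFTMain

set_option autoImplicit false
open Cfsg
open Cfsg.Agent.Spor.LFT

namespace Cfsg.Agent.S5440

/-- Let G be a finite group of large Fischer type at the involution z: the generalized Fitting subgroup Q of H = C_G(z) is extraspecial of order 2^13, H has normal subgroups Q ≤ H₁ ≤ H₂ with H₁/Q of order 3, H₂/H₁ the projective special unitary group of dimension 4 over the field with nine elements and H₂ of index 2 in H, and some conjugate of z other than z lies in Q. Then H has exactly two orbits, under conjugation, on the involutions of Q other than z. -/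
theorem result {G : Type*} [Group G] [Finite G] (z : G) (Q : Subgroup (Subgroup.centralizer ({z} : Set G))) [Q.Normal] (hF : Cfsg.IsOfLargeFischerTypeAt z Q) : ∃ s t : Subgroup.centralizer ({z} : Set G), s ∈ Q ∧ t ∈ Q ∧ orderOf s = 2 ∧ orderOf t = 2 ∧ (s : G) ≠ z ∧ (t : G) ≠ z ∧ (¬ ∃ h : Subgroup.centralizer ({z} : Set G), h * s * h⁻¹ = t) ∧ ∀ x : Subgroup.centralizer ({z} : Set G), x ∈ Q → orderOf x = 2 → (x : G) ≠ z → (∃ h : Subgroup.centralizer ({z} : Set G), h * s * h⁻¹ = x) ∨ ∃ h : Subgroup.centralizer ({z} : Set G), h * t * h⁻¹ = x := by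
  obtain ⟨N, M, S⟩ := setup_of z Q hF
  obtain ⟨f⟩ := S.hyp.exists_frame
  set sub := (Subgroup.centralizer ({z} : Set G)).subtype with hsub
  have hzC : z ∈ Subgroup.centralizer ({z} : Set G) := Subgroup.mem_centralizer_singleton_iff.2 rfl
  obtain ⟨_, ⟨s, hs, rfl⟩, hs2, hs1, hsz, hsv⟩ := f.exists_inv S PA_va.2.1
  obtain ⟨_, ⟨t, ht, rfl⟩, ht2, ht1, htz, htv⟩ := f.exists_inv S PA_va.2.2.2.1
  have hord : ∀ a : Subgroup.centralizer ({z} : Set G), (a : G) * a = 1 → (a : G) ≠ 1 → orderOf a = 2 :=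
    fun a h2 h1 => orderOf_eq_prime (Subtype.ext (by rw [pow_two]; exact h2)) fun e => h1 (congrArg Subtype.val e)
  refine ⟨s, t, hs, ht, hord s hs2 hs1, hord t ht2 ht1, hsz, htz, ?_, fun x hx hxo hxz => ?_⟩
  · rintro ⟨h, e⟩
    have e' : f.vec (sub t) = f.π h (f.vec (sub s)) := by
      rw [← f.vec_conj h _ ⟨s, hs, rfl⟩, ← e]; rfl
    rw [hsv, htv] at e'
    exact PA_va.2.2.1 (e'.symm ▸ (f.pres h va).1.2 PA_va.1)
  · have hx2 : (x : G) * x = 1 := by
      have := congrArg Subtype.val (pow_orderOf_eq_one x)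
      rw [hxo, pow_two] at this
      exact this
    have hx1 : (x : G) ≠ 1 := fun e => by
      rw [show x = 1 from Subtype.ext e, orderOf_one] at hxo
      omega
    have hI := f.isI S (a := sub x) ⟨x, hx, rfl⟩ hx2 hx1 hxz
    by_cases hA : PA (f.vec (sub x))
    · left
      obtain ⟨p, hp, hpv⟩ := (Spor.LFT.trans hI).1 hA
      obtain ⟨c, rfl⟩ := f.surj p hp
      obtain ⟨c', hc', -⟩ := f.exact_conj S (a := sub s) ⟨s, hs, rfl⟩ hs1 hsz (b := sub x) ⟨x, hx, rfl⟩ c
        (by rw [hsv, hpv])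
      exact ⟨c', Subtype.ext hc'⟩
    · right
      obtain ⟨p, hp, hpv⟩ := (Spor.LFT.trans hI).2 hA
      obtain ⟨c, rfl⟩ := f.surj p hp
      obtain ⟨c', hc', -⟩ := f.exact_conj S (a := sub t) ⟨t, ht, rfl⟩ ht1 htz (b := sub x) ⟨x, hx, rfl⟩ c
        (by rw [htv, hpv])
      exact ⟨c', Subtype.ext hc'⟩

end Cfsg.Agent.S5440
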