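import Cfsg.Statements.S5441
import Cfsg.Agent.Lib.Spor.LFTMain

set_option autoImplicit false
open Cfsg
open Cfsg.Agent.Spor.LFT

namespace Cfsg.Agent.S5441

/-- Let G be a finite group of large Fischer type at the involution z: the generalized Fitting subgroup Q of H = C_G(z) is extraspecial of order 2^13, H has normal subgroups Q ≤ H₁ ≤ H₂ with H₁/Q of order 3, H₂/H₁ the projective special unitary group of dimension 4 over the field with nine elements and H₂ of index 2 in H, and some conjugate of z other than z lies in Q. Then the conjugates of z lying in Q and different from z form a single orbit under conjugation by H. -/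
theorem result {G : Type*} [Group G] [Finite G] (z : G) (Q : Subgroup (Subgroup.centralizer ({z} : Set G))) [Q.Normal] (hF : Cfsg.IsOfLargeFischerTypeAt z Q) (s t : G) (hsQ : ∃ hsc : s ∈ Subgroup.centralizer ({z} : Set G), (⟨s, hsc⟩ : Subgroup.centralizer ({z} : Set G)) ∈ Q) (htQ : ∃ htc : t ∈ Subgroup.centralizer ({z} : Set G), (⟨t, htc⟩ : Subgroup.centralizer ({z} : Set G)) ∈ Q) (hs : IsConj z s) (ht : IsConj z t) (hs1 : s ≠ z) (ht1 : t ≠ z) : ∃ h ∈ Subgroup.centralizer ({z} : Set G), h * s * h⁻¹ = t := by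
  obtain ⟨N, M, S⟩ := setup_of z Q hF
  obtain ⟨f⟩ := S.hyp.exists_frame
  obtain ⟨g, rfl⟩ := isConj_iff.1 hs
  obtain ⟨k, rfl⟩ := isConj_iff.1 ht
  obtain ⟨hgc, hgQ⟩ := hsQ
  obtain ⟨hkc, hkQ⟩ := htQ
  have hg : g * z * g⁻¹ ∈ Q.map (Subgroup.centralizer ({z} : Set G)).subtype := ⟨_, hgQ, rfl⟩
  have hk : k * z * k⁻¹ ∈ Q.map (Subgroup.centralizer ({z} : Set G)).subtype := ⟨_, hkQ, rfl⟩
  obtain ⟨hI, hA⟩ := S.not_PA f hg hs1
  obtain ⟨hI', hA'⟩ := S.not_PA f hk ht1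
  obtain ⟨p, hp, hpv⟩ := (Spor.LFT.trans hI).2 hA
  obtain ⟨q, hq, hqv⟩ := (Spor.LFT.trans hI').2 hA'
  obtain ⟨c, hc⟩ := f.surj _ (mul_mem hq (inv_mem hp))
  obtain ⟨c', hc', -⟩ := f.exact_conj S hg (fun e => S.hyp.xt.ne (conj_eq_one_iff.1 e)) hs1 hk c (by
    rw [hc, Equiv.Perm.mul_apply, ← hpv, show p⁻¹ (p vb) = vb from p.symm_apply_apply vb, hqv])
  exact ⟨c', c'.2, hc'⟩

end Cfsg.Agent.S5441
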