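import Cfsg.Statements.S5442
import Cfsg.Agent.Lib.Spor.LFTMain

set_option autoImplicit false
open Cfsg
open Cfsg.Agent.Spor.LFT

namespace Cfsg.Agent.S5442

/-- Let G be a finite group of large Fischer type at the involution z: the generalized Fitting subgroup Q of H = C_G(z) is extraspecial of order 2^13, H has normal subgroups Q ≤ H₁ ≤ H₂ with H₁/Q of order 3, H₂/H₁ the projective special unitary group of dimension 4 over the field with nine elements and H₂ of index 2 in H, and some conjugate of z other than z lies in Q. Let s = g z g⁻¹ be a conjugate of z lying in Q and different from z. Then the intersection of Q and g Q g⁻¹ (as subgroups of G) is elementary abelian of order 2^7; and in H/Q, writing X for the image of the centralizer of s in H and E for the image of the intersection of g Q g⁻¹ with H, E is a normal subgroup of X, elementary abelian of order 32, with X/E isomorphic to the alternating group of degree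 6. -/
theorem result {G : Type*} [Group G] [Finite G] (z : G) (Q : Subgroup (Subgroup.centralizer ({z} : Set G))) [Q.Normal] (hF : Cfsg.IsOfLargeFischerTypeAt z Q) (s : G) (hsQ : ∃ hsc : s ∈ Subgroup.centralizer ({z} : Set G), (⟨s, hsc⟩ : Subgroup.centralizer ({z} : Set G)) ∈ Q) (hs : IsConj z s) (hs1 : s ≠ z) (g : G) (hg : g * z * g⁻¹ = s) (X E : Subgroup ((Subgroup.centralizer ({z} : Set G)) ⧸ Q)) (hX : X = ((Subgroup.centralizer ({z} : Set G) ⊓ Subgroup.centralizer ({s} : Set G)).subgroupOf (Subgroup.centralizer ({z} : Set G))).map (QuotientGroup.mk' Q)) (hE : E = ((((Q.map (Subgroup.centralizer ({z} : Set G)).subtype)).map (MulAut.conj g).toMonoidHom ⊓ Subgroup.centralizer ({z} : Set G)).subgroupOf (Subgroup.centralizer ({z} : Set G))).map (QuotientGroup.mk' Q)) : Cfsg.IsElementaryAbelian 2 ((Q.map (Subgroup.centralizer ({z} : Set G)).subtype) ⊓ ((Q.map (Subgroup.centralizer ({z} : Set G)).subtype)).map (MulAut.conj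 g).toMonoidHom) ∧ Nat.card ↥((Q.map (Subgroup.centralizer ({z} : Set G)).subtype) ⊓ ((Q.map (Subgroup.centralizer ({z} : Set G)).subtype)).map (MulAut.conj g).toMonoidHom) = 2 ^ 7 ∧ E ≤ X ∧ (∀ x ∈ X, ∀ y ∈ E, x * y * x⁻¹ ∈ E) ∧ Cfsg.IsElementaryAbelian 2 E ∧ Nat.card E = 32 ∧ ∃ _ : (E.subgroupOf X).Normal, Nonempty (↥X ⧸ E.subgroupOf X ≃* alternatingGroup (Fin 6)) := by
  obtain ⟨N, M, W⟩ := setup_of z Q hF
  obtain ⟨f⟩ := W.hyp.exists_frame
  obtain ⟨hsc, hsQ⟩ := hsQ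
  subst hg
  have hgQ : g * z * g⁻¹ ∈ Q.map (Subgroup.centralizer ({z} : Set G)).subtype := ⟨_, hsQ, rfl⟩
  have P := W.pair hgQ hs1
  obtain ⟨-, hW, p, hp, hpv, h32, hR⟩ := W.pair_struct f hgQ hs1
  refine ⟨⟨⟨⟨fun a b => Subtype.ext (P.inter_comm a.2 b.2).eq⟩⟩, fun a ha => by
    rw [pow_two]; exact P.inter_square ha⟩, hW, ?_⟩
  have hker : Q ≤ f.π.ker := fun c hc => MonoidHom.mem_ker.2 ((f.ker c).2 ⟨c, hc, rfl⟩)
  set θ := QuotientGroup.lift Q f.π hker with hθ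
  have hθi : Function.Injective θ := by
    refine (injective_iff_map_eq_one θ).2 fun g hg => ?_
    obtain ⟨c, rfl⟩ := QuotientGroup.mk_surjective g
    exact (QuotientGroup.eq_one_iff c).2 ((Subgroup.mem_map_iff_mem (Subgroup.subtype_injective _)).1 ((f.ker c).1 hg))
  have hEθ : ∀ y, y ∈ E ↔ θ y ∈ f.R g := by
    intro y
    subst hE
    constructor
    · rintro ⟨c, hc, rfl⟩
      exact ⟨c, hc, rfl⟩
    · rintro ⟨c, hc, e⟩
      exact ⟨c, hc, hθi e⟩
  have hXθ : ∀ y, y ∈ X ↔ θ y ∈ Gam ⊓ fixv (f.vec (g * z * g⁻¹)) := by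
    intro y
    subst hX
    constructor
    · rintro ⟨c, ⟨-, hc⟩, rfl⟩
      refine ⟨(W.range_pi f _).2 ⟨c, rfl⟩, ?_⟩
      show f.π c _ = _
      rw [← f.vec_conj c _ hgQ]
      refine congrArg f.vec ?_
      rw [mul_inv_eq_iff_eq_mul]
      exact Subgroup.mem_centralizer_singleton_iff.1 hc
    · rintro ⟨-, hy⟩
      obtain ⟨c, rfl⟩ := QuotientGroup.mk_surjective y
      obtain ⟨c', hc', hce⟩ := f.exact_conj W hgQ (fun e => W.hyp.xt.ne (conj_eq_one_iff.1 e)) hs1 hgQ c hy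
      refine ⟨c', ⟨c'.2, Subgroup.mem_centralizer_singleton_iff.2 (mul_inv_eq_iff_eq_mul.1 hc')⟩, hθi ?_⟩
      exact hce
  have hEX : E ≤ X := fun y hy => (hXθ y).2 ⟨by
      obtain ⟨c, -, e⟩ := (hEθ y).1 hy
      exact (W.range_pi f _).2 ⟨c, e⟩, W.R_fix f hgQ hs1 ((hEθ y).1 hy)⟩
  have hnorm : ∀ x ∈ X, ∀ y ∈ E, x * y * x⁻¹ ∈ E := by
    intro x hx y hy
    obtain ⟨c, rfl⟩ := QuotientGroup.mk_surjective x
    rw [hEθ, map_mul, map_mul, map_inv]
    exact W.R_normal f hgQ hs1 c ((hXθ _).1 hx).2 _ ((hEθ y).1 hy)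
  refine ⟨hEX, hnorm, ⟨⟨⟨fun a b => Subtype.ext (hθi ?_)⟩⟩, fun a ha => hθi ?_⟩, ?_, ?_⟩
  · obtain ⟨c, hc, ec⟩ := (hEθ a.1).1 a.2
    obtain ⟨d, hd, ed⟩ := (hEθ b.1).1 b.2
    show θ (a.1 * b.1) = θ (b.1 * a.1)
    rw [map_mul, map_mul, ← ec, ← ed, ← map_mul, ← map_mul]
    rcases P.xt'.comm c (mem_EC.1 hc) d (mem_EC.1 hd) with e | e <;> rw [mul_inv_eq_iff_eq_mul] at e
    · exact congrArg f.π (Subtype.ext e)
    · have hs : f.π ⟨g * z * g⁻¹, hsc⟩ = 1 := (f.ker _).2 hgQ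
      rw [show c * d = d * ⟨g * z * g⁻¹, hsc⟩ * c from Subtype.ext e, map_mul, map_mul, hs, mul_one, map_mul]
  · obtain ⟨c, hc, ec⟩ := (hEθ a).1 ha
    rw [map_pow, map_one, ← ec, ← map_pow, pow_two]
    refine (f.ker _).2 ?_
    rcases P.xt'.sq_mem (mem_EC.1 hc) with e | e
    · rw [Subgroup.coe_mul, e]; exact one_mem _
    · rw [Subgroup.coe_mul, e]; exact hgQ
  · rw [← h32]
    have e : E.map θ = f.R g := by
      ext r
      constructor
      · rintro ⟨y, hy, rfl⟩; exact (hEθ y).1 hy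
      · intro hr
        obtain ⟨c, hc, rfl⟩ := hr
        exact ⟨(c : (Subgroup.centralizer ({z} : Set G)) ⧸ Q), (hEθ _).2 ⟨c, hc, rfl⟩, rfl⟩
    rw [← e, Subgroup.card_map_of_injective hθi]
  · haveI hn : (E.subgroupOf X).Normal := ⟨fun a ha x => hnorm x x.2 a ha⟩
    refine ⟨hn, ?_⟩
    obtain ⟨hG, hrange, -⟩ := stabB
    have hin : ∀ x : X, p⁻¹ * θ x * p ∈ Gam ⊓ fixv vb := fun x => by
      obtain ⟨h1, h2⟩ := (hXθ x).1 x.2
      refine ⟨Gam.mul_mem (Gam.mul_mem (Gam.inv_mem (Kp_le hp)) h1) (Kp_le hp), ?_⟩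
      show p⁻¹ (θ x (p vb)) = vb
      rw [hpv, show θ x (f.vec _) = _ from h2, ← hpv]
      exact p.symm_apply_apply vb
    let δ : X →* ↥(Gam ⊓ fixv vb) :=
      { toFun := fun x => ⟨p⁻¹ * θ x * p, hin x⟩
        map_one' := Subtype.ext (by simp)
        map_mul' := fun a b => Subtype.ext (by
          show p⁻¹ * θ (a.1 * b.1) * p = p⁻¹ * θ a.1 * p * (p⁻¹ * θ b.1 * p)
          rw [map_mul]; group) }
    set ψ := (phiB.comp (Subgroup.inclusion hG)).comp δ with hψ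
    have hk : ψ.ker = E.subgroupOf X := by
      ext x
      rw [MonoidHom.mem_ker, Subgroup.mem_subgroupOf, hEθ, hR]
      show phiB ⟨p⁻¹ * θ x * p, _⟩ = 1 ↔ _
      rw [← mem_KerB]
      exact ⟨fun h => ⟨hin x, h⟩, fun h => h.2⟩
    have hr : ψ.range = (alternatingGroup (Fin 6)).map duad := by
      rw [← hrange, hψ, MonoidHom.range_comp, MonoidHom.range_eq_top.2, ← MonoidHom.range_eq_map]
      rintro ⟨q, hq⟩
      obtain ⟨c, hc⟩ := (W.range_pi f _).1
        (Gam.mul_mem (Gam.mul_mem (Kp_le hp) hq.1) (Gam.inv_mem (Kp_le hp)))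
      refine ⟨⟨(c : (Subgroup.centralizer ({z} : Set G)) ⧸ Q), (hXθ _).2 ⟨(W.range_pi f _).2 ⟨c, rfl⟩, ?_⟩⟩, Subtype.ext ?_⟩
      · show f.π c _ = _
        rw [hc, ← hpv]
        show p (q (p⁻¹ (p vb))) = p vb
        rw [show p⁻¹ (p vb) = vb from p.symm_apply_apply vb, show q vb = vb from hq.2]
      · show p⁻¹ * f.π c * p = q
        rw [hc]; group
    exact ⟨(QuotientGroup.quotientMulEquivOfEq hk.symm).trans
      ((QuotientGroup.quotientKerEquivRange ψ).trans ((MulEquiv.subgroupCongr hr).trans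
        (Subgroup.equivMapOfInjective _ duad duad_inj).symm))⟩

end Cfsg.Agent.S5442
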