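import Cfsg.Statements.S5443
import Cfsg.Agent.Lib.Spor.LFTMain

set_option autoImplicit false
open Cfsg
open Cfsg.Agent.Spor.LFT

namespace Cfsg.Agent.S5443

/-- Let G be a finite group of large Fischer type at the involution z: the generalized Fitting subgroup Q of H = C_G(z) is extraspecial of order 2^13, H has normal subgroups Q ≤ H₁ ≤ H₂ with H₁/Q of order 3, H₂/H₁ the projective special unitary group of dimension 4 over the field with nine elements and H₂ of index 2 in H, and some conjugate of z other than z lies in Q. Let t be an involution of Q not conjugate to z in G, and S the set of elements of H conjugating t to t or to t z (the stabilizer of the image of t in Q modulo its centre). Then the image of S in H/Q is isomorphic to the full isometry group of the elliptic quadratic form in dimension 6 over the field with two elements. -/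
theorem result {G : Type*} [Group G] [Finite G] (z : G) (Q : Subgroup (Subgroup.centralizer ({z} : Set G))) [Q.Normal] (hF : Cfsg.IsOfLargeFischerTypeAt z Q) (t : Subgroup.centralizer ({z} : Set G)) (htQ : t ∈ Q) (ht2 : orderOf t = 2) (ht : ¬ IsConj z (t : G)) (S : Subgroup (Subgroup.centralizer ({z} : Set G))) (hS : ∀ h : Subgroup.centralizer ({z} : Set G), h ∈ S ↔ (h * t * h⁻¹ = t ∨ ((h * t * h⁻¹ : Subgroup.centralizer ({z} : Set G)) : G) = t * z)) : Nonempty (↥(S.map (QuotientGroup.mk' Q)) ≃* Cfsg.isometryGroup (ZMod 2) (Cfsg.quadFormMinus 2 (ZMod 2) 1 1)) := by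
  obtain ⟨N, M, W⟩ := setup_of z Q hF
  obtain ⟨f⟩ := W.hyp.exists_frame
  set sub := (Subgroup.centralizer ({z} : Set G)).subtype with hsub
  have htG : (t : G) ∈ Q.map sub := ⟨t, htQ, rfl⟩
  have ht2' : (t : G) * t = 1 := by
    have := congrArg Subtype.val (pow_orderOf_eq_one t)
    rw [ht2, pow_two] at this
    exact this
  have ht1 : (t : G) ≠ 1 := fun e => by
    rw [show t = 1 from Subtype.ext e, orderOf_one] at ht2
    omega
  have htz : (t : G) ≠ z := fun e => ht (e.symm ▸ IsConj.refl z)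
  have hI := f.isI W htG ht2' ht1 htz
  have hA : PA (f.vec t) := by
    by_contra hA
    obtain ⟨g, hgQ, hne⟩ := W.hyp.nwc
    obtain ⟨hI', hA'⟩ := W.not_PA f hgQ hne
    obtain ⟨p, hp, hpv⟩ := (Spor.LFT.trans hI).2 hA
    obtain ⟨q, hq, hqv⟩ := (Spor.LFT.trans hI').2 hA'
    obtain ⟨c, hc⟩ := f.surj _ (mul_mem hp (inv_mem hq))
    obtain ⟨c', hc', -⟩ := f.exact_conj W hgQ (fun e => W.hyp.xt.ne (conj_eq_one_iff.1 e)) hne htG c (by
      rw [hc, Equiv.Perm.mul_apply, ← hqv, show q⁻¹ (q vb) = vb from q.symm_apply_apply vb, hpv])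
    refine ht (isConj_iff.2 ⟨(c' : G) * g, ?_⟩)
    rw [← hc']
    group
  have hmem : ∀ c : Subgroup.centralizer ({z} : Set G), c ∈ S ↔ f.π c (f.vec t) = f.vec t := by
    intro c
    rw [hS, ← f.vec_conj c t htG]
    refine Iff.trans ?_ (((f.vec_eq t htG _
      (W.hyp.normQ c (Subgroup.mem_centralizer_singleton_iff.1 c.2) t htG)).symm).trans eq_comm)
    exact or_congr ⟨fun e => congrArg Subtype.val e, fun e => Subtype.ext e⟩ Iff.rfl
  have hker : Q ≤ f.π.ker := fun c hc => MonoidHom.mem_ker.2 ((f.ker c).2 ⟨c, hc, rfl⟩)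
  set θ := QuotientGroup.lift Q f.π hker with hθ
  have hθi : Function.Injective θ := by
    refine (injective_iff_map_eq_one θ).2 fun g hg => ?_
    obtain ⟨c, rfl⟩ := QuotientGroup.mk_surjective g
    exact (QuotientGroup.eq_one_iff c).2 ((Subgroup.mem_map_iff_mem (Subgroup.subtype_injective _)).1 ((f.ker c).1 hg))
  have himg : (S.map (QuotientGroup.mk' Q)).map θ = Gam ⊓ fixv (f.vec t) := by
    ext p
    constructor
    · rintro ⟨_, ⟨c, hc, rfl⟩, rfl⟩
      exact ⟨(W.range_pi f _).2 ⟨c, rfl⟩, (hmem c).1 hc⟩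
    · rintro ⟨hp, hpv⟩
      obtain ⟨c, rfl⟩ := (W.range_pi f p).1 hp
      exact ⟨_, ⟨c, (hmem c).2 hpv, rfl⟩, rfl⟩
  obtain ⟨p, hp, hpv⟩ := (Spor.LFT.trans hI).1 hA
  obtain ⟨e⟩ := isoA
  exact ⟨((Subgroup.equivMapOfInjective _ θ hθi).trans (MulEquiv.subgroupCongr
    (himg.trans (hpv ▸ stab_conj (Kp_le hp) va).symm))).trans
      (((MulAut.conj p).subgroupMap (Gam ⊓ fixv va)).symm.trans e)⟩

end Cfsg.Agent.S5443
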