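import Cfsg.Statements.S5447
import Cfsg.Agent.Lib.Spor.LFTFusion

set_option autoImplicit false
open Cfsg
open Cfsg.Agent.Spor.LFT

namespace Cfsg.Agent.S5447

/-- Let G be a finite group of large Fischer type at the involution z: the generalized Fitting subgroup Q of H = C_G(z) is extraspecial of order 2^13, H has normal subgroups Q ≤ H₁ ≤ H₂ with H₁/Q of order 3, H₂/H₁ the projective special unitary group of dimension 4 over the field with nine elements and H₂ of index 2 in H, and some conjugate of z other than z lies in Q. Let T be a Sylow 2-subgroup of G, A its Thompson subgroup and M = N_G(A) its normalizer. Then M controls fusion in A (elements of A conjugate in G are conjugate in M), and M has exactly two orbits on the non-identity elements of A: those conjugate to z in G and those not. -/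
theorem result {G : Type*} [Group G] [Finite G] (z : G) (Q : Subgroup (Subgroup.centralizer ({z} : Set G))) [Q.Normal] (hF : Cfsg.IsOfLargeFischerTypeAt z Q) (T : Sylow 2 G) (A M : Subgroup G) (hA : A = Cfsg.thompsonSubgroupOf 2 (T : Subgroup G)) (hM : M = Subgroup.normalizer (A : Set G)) : (∀ a ∈ A, ∀ g : G, g * a * g⁻¹ ∈ A → ∃ m ∈ M, m * a * m⁻¹ = g * a * g⁻¹) ∧ (∃ a ∈ A, a ≠ 1 ∧ IsConj z a) ∧ (∃ a ∈ A, a ≠ 1 ∧ ¬ IsConj z a) ∧ ∀ a ∈ A, ∀ b ∈ A, a ≠ 1 → b ≠ 1 → (IsConj z a ↔ IsConj z b) → ∃ m ∈ M, m * a * m⁻¹ = b := by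
  obtain ⟨N, M', S⟩ := setup_of z Q hF
  obtain ⟨hAe, hAc, s, hs, t, ht, hs1, ht1, hzs, hzt, hcl⟩ := S.thompson T
  rw [← hA] at hAe hAc hs ht hcl
  subst hM
  have hctrl : ∀ a ∈ A, ∀ g : G, g * a * g⁻¹ ∈ A →
      ∃ m ∈ Subgroup.normalizer (A : Set G), m * a * m⁻¹ = g * a * g⁻¹ :=
    fun a ha g hga => S.control hAe hAc ha hga
  refine ⟨hctrl, ⟨s, hs, hs1, hzs⟩, ⟨t, ht, ht1, hzt⟩, fun a ha b hb ha1 hb1 hiff => ?_⟩
  have hab : IsConj a b := by
    by_cases hza : IsConj z a
    · exact hza.symm.trans (hiff.1 hza)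
    · exact ((hcl a ha ha1).resolve_left hza).symm.trans ((hcl b hb hb1).resolve_left fun h => hza (hiff.2 h))
  obtain ⟨g, rfl⟩ := isConj_iff.1 hab
  exact hctrl a ha g hb

end Cfsg.Agent.S5447
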