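import Cfsg.Statements.S5448
import Cfsg.Agent.Lib.Spor.LFTThompNorm

set_option autoImplicit false
open scoped Pointwise
open Cfsg
open Cfsg.Agent.Spor.LFT

namespace Cfsg.Agent.S5448

/-- Let G be a finite group of large Fischer type at the involution z: the generalized Fitting subgroup Q of H = C_G(z) is extraspecial of order 2^13, H has normal subgroups Q ≤ H₁ ≤ H₂ with H₁/Q of order 3, H₂/H₁ the projective special unitary group of dimension 4 over the field with nine elements and H₂ of index 2 in H, and some conjugate of z other than z lies in Q. Let T be a Sylow 2-subgroup of G, A its Thompson subgroup, M = N_G(A) its normalizer, and t an involution of A not conjugate to z in G. Then the centralizer of t in M, modulo A, is isomorphic to the setwise stabilizer of a two-element subset of the 24 points in the Mathieu group of degree 24 (the automorphism group of the smaller Mathieu group on 22 points). -/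
theorem result {G : Type*} [Group G] [Finite G] (z : G) (Q : Subgroup (Subgroup.centralizer ({z} : Set G))) [Q.Normal] (hF : Cfsg.IsOfLargeFischerTypeAt z Q) (T : Sylow 2 G) (A M : Subgroup G) (hA : A = Cfsg.thompsonSubgroupOf 2 (T : Subgroup G)) (hM : M = Subgroup.normalizer (A : Set G)) (t : G) (htA : t ∈ A) (ht2 : orderOf t = 2) (ht : ¬ IsConj z t) : ∃ _ : (A.subgroupOf (M ⊓ Subgroup.centralizer ({t} : Set G))).Normal, Nonempty (↥(M ⊓ Subgroup.centralizer ({t} : Set G)) ⧸ A.subgroupOf (M ⊓ Subgroup.centralizer ({t} : Set G)) ≃* ↥(Cfsg.M24 ⊓ MulAction.stabilizer (Equiv.Perm Cfsg.GolayPt) ({none, some 0} : Set Cfsg.GolayPt))) := by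
  classical
  obtain ⟨N', M', S⟩ := setup_of z Q hF
  have hth := S.thompson T
  have hmod := S.thompson_model T
  rw [← hA] at hth hmod
  obtain ⟨hAe, hAc, _, _, t', ht', _, _, _, htn', hcl⟩ := hth
  obtain ⟨ψ, m, ρ, hsur, hker, hdes⟩ := hmod
  subst hM
  have ht1 : t ≠ 1 := fun e => by rw [e, orderOf_one] at ht2; omega
  -- pairs of points
  obtain ⟨n, hn, hnt⟩ := m.surj t htA
  obtain ⟨s0, hs0, hs0n⟩ := m.eq_pair hn ((m.cls n hn).1 (by rw [hnt]; exact ⟨ht1, ht⟩))
  subst hs0n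
  set s1 : Finset Cfsg.GolayPt := {none, some 0} with hs1
  have hs1c : s1.card = 2 := by rw [hs1]; exact Finset.card_pair (by simp)
  obtain ⟨hT1, hn1⟩ := (m.cls _ (phN_lt s1)).2 (pair_table s1 hs1c).2
  have hab : IsConj t (ψ (phN s1)) :=
    ((hcl t htA ht1).resolve_left ht).symm.trans ((hcl _ (m.mem _ (phN_lt s1)) hT1).resolve_left hn1)
  obtain ⟨g, hg⟩ := isConj_iff.1 hab
  obtain ⟨y0, hy0, hy0t⟩ := S.control hAe hAc htA (g := g) (hg.symm ▸ m.mem _ (phN_lt s1))
  set τ : Equiv.Perm Cfsg.GolayPt := (ρ ⟨y0, hy0⟩ : Equiv.Perm Cfsg.GolayPt)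
  have hτ : τ • s0 = s1 := by
    refine pair_inj _ _ (by rw [Finset.card_smul_finset, hs0]) hs1c (m.inj _ _ (phN_lt _) (phN_lt _) ?_)
    rw [← hdes ⟨y0, hy0⟩ s0 hs0, hnt, ← hg]
    exact hy0t
  have hfix : ∀ y : Subgroup.normalizer (A : Set G), (y : G) ∈ Subgroup.centralizer ({t} : Set G) ↔
      (ρ y : Equiv.Perm Cfsg.GolayPt) • s0 = s0 := by
    intro y
    rw [Subgroup.mem_centralizer_singleton_iff, ← mul_inv_eq_iff_eq_mul, ← hnt, hdes y s0 hs0]
    exact ⟨fun e => pair_inj _ _ (by rw [Finset.card_smul_finset, hs0]) hs0 (m.inj _ _ (phN_lt _) (phN_lt _) e),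
      fun e => by rw [e]⟩
  set H := Subgroup.normalizer (A : Set G) ⊓ Subgroup.centralizer ({t} : Set G)
  let inc : H →* Subgroup.normalizer (A : Set G) := Subgroup.inclusion inf_le_left
  let φ0 : H →* Equiv.Perm Cfsg.GolayPt :=
    (MulAut.conj τ).toMonoidHom.comp (Cfsg.M24.subtype.comp (ρ.comp inc))
  have hcoe : ((s1 : Finset Cfsg.GolayPt) : Set Cfsg.GolayPt) = {none, some 0} := by simp [hs1]
  have hmem : ∀ y, φ0 y ∈ Cfsg.M24 ⊓ MulAction.stabilizer (Equiv.Perm Cfsg.GolayPt)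
      ({none, some 0} : Set Cfsg.GolayPt) := by
    intro y
    refine ⟨mul_mem (mul_mem (ρ ⟨y0, hy0⟩).2 (ρ (inc y)).2) (Cfsg.M24.inv_mem (ρ ⟨y0, hy0⟩).2), ?_⟩
    show φ0 y • ({none, some 0} : Set Cfsg.GolayPt) = _
    rw [← hcoe, ← Finset.coe_smul_finset]
    congr 1
    show (τ * (ρ (inc y) : Equiv.Perm Cfsg.GolayPt) * τ⁻¹) • s1 = s1
    rw [mul_smul, mul_smul, inv_smul_eq_iff.2 hτ.symm, (hfix (inc y)).1 y.2.2, hτ]
  let φ := φ0.codRestrict _ hmem
  have hφker : φ.ker = A.subgroupOf H := by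
    ext y
    rw [MonoidHom.ker_codRestrict, MonoidHom.mem_ker]
    show τ * (ρ (inc y) : Equiv.Perm Cfsg.GolayPt) * τ⁻¹ = 1 ↔ _
    rw [conj_eq_one_iff, OneMemClass.coe_eq_one, ← MonoidHom.mem_ker, hker]
    rfl
  have hφsur : Function.Surjective φ := by
    rintro ⟨σ, hσ⟩
    obtain ⟨h24, hst⟩ := hσ
    obtain ⟨y, hy⟩ := hsur ⟨τ⁻¹ * σ * τ, mul_mem (mul_mem (inv_mem (ρ ⟨y0, hy0⟩).2) h24) (ρ ⟨y0, hy0⟩).2⟩
    have hσ1 : σ • s1 = s1 := by
      refine Finset.coe_injective ?_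
      rw [Finset.coe_smul_finset, hcoe]
      exact hst
    have hy' : (ρ y : Equiv.Perm Cfsg.GolayPt) = τ⁻¹ * σ * τ := congrArg Subtype.val hy
    have hyt : (y : G) ∈ Subgroup.centralizer ({t} : Set G) := (hfix y).2 (by
      rw [hy', mul_smul, mul_smul, hτ, hσ1, inv_smul_eq_iff, hτ])
    refine ⟨⟨(y : G), y.2, hyt⟩, Subtype.ext ?_⟩
    show τ * (ρ (inc ⟨(y : G), y.2, hyt⟩) : Equiv.Perm Cfsg.GolayPt) * τ⁻¹ = σ
    rw [show inc ⟨(y : G), y.2, hyt⟩ = y from Subtype.ext rfl, hy']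
    group
  haveI hn' : (A.subgroupOf H).Normal := hφker ▸ φ.normal_ker
  refine ⟨hn', ⟨(QuotientGroup.quotientMulEquivOfEq hφker.symm).trans
    (QuotientGroup.quotientKerEquivOfSurjective φ hφsur)⟩⟩

end Cfsg.Agent.S5448
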