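import Cfsg.Statements.S5449
import Cfsg.Agent.Lib.Spor.LFTFourCore

set_option autoImplicit false
open Cfsg
open Cfsg.Agent.Spor.LFT
open Cfsg.Agent.Spor.SpFour (F4)

namespace Cfsg.Agent.S5449

/-- Let G be a finite group of large Fischer type at the involution z: the generalized Fitting subgroup Q of H = C_G(z) is extraspecial of order 2^13, H has normal subgroups Q ≤ H₁ ≤ H₂ with H₁/Q of order 3, H₂/H₁ the projective special unitary group of dimension 4 over the field with nine elements and H₂ of index 2 in H, and some conjugate of z other than z lies in Q. Then Q contains a four-group E, not containing z and containing an involution not conjugate to z in G, whose centralizer in G is quasisimple with quotient by E isomorphic to the projective special unitary group of dimension 6 over the field with four elements. -/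
theorem result {G : Type*} [Group G] [Finite G] (z : G) (Q : Subgroup (Subgroup.centralizer ({z} : Set G))) [Q.Normal] (hF : Cfsg.IsOfLargeFischerTypeAt z Q) : ∃ E : Subgroup G, E ≤ (Q.map (Subgroup.centralizer ({z} : Set G)).subtype) ∧ Cfsg.IsElementaryAbelian 2 E ∧ Nat.card E = 4 ∧ z ∉ E ∧ (∃ t ∈ E, orderOf t = 2 ∧ ¬ IsConj z t) ∧ Cfsg.IsQuasisimple ↥(Subgroup.centralizer (E : Set G)) ∧ ∃ (_ : (E.subgroupOf (Subgroup.centralizer (E : Set G))).Normal) (K : Type) (_ : Field K) (_ : Fintype K), Fintype.card K = 4 ∧ Nonempty (↥(Subgroup.centralizer (E : Set G)) ⧸ E.subgroupOf (Subgroup.centralizer (E : Set G)) ≃* Cfsg.PSU 6 K 2) := by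
  obtain ⟨N, M, W⟩ := setup_of z Q hF
  obtain ⟨f⟩ := W.hyp.exists_frame
  obtain ⟨t, t', P, hP⟩ := W.exists_FPair f
  obtain ⟨hmove, hd, hd'⟩ := hP P.CE fun y hy => P.mem_CE.2 hy
  obtain ⟨hqs, hiso⟩ := P.main W hmove hd hd'
  refine ⟨P.E, P.E_le, ⟨⟨⟨fun a b => Subtype.ext (P.E_comm a.2 b.2).eq⟩⟩, fun a ha => by
      rw [pow_two]; exact P.sq_mem ha⟩, P.card_E W, P.z_not_mem W,
    ⟨t, P.t_mem, orderOf_eq_prime (by rw [pow_two]; exact P.sq) (P.ne_all W).1, P.nc⟩, hqs,
    FPair.normal_E P, F4, inferInstance, inferInstance, Cfsg.Agent.Spor.CHZ.hF, hiso⟩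

end Cfsg.Agent.S5449
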