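import Cfsg.Statements.S5451
import Cfsg.Agent.Lib.Spor.LFTCover

set_option autoImplicit false
open Cfsg
open Cfsg.Agent.Spor.LFT
open scoped commutatorElement

namespace Cfsg.Agent.S5451

/-- Let G be a finite group of large Fischer type at the involution z: the generalized Fitting subgroup Q of H = C_G(z) is extraspecial of order 2^13, H has normal subgroups Q ≤ H₁ ≤ H₂ with H₁/Q of order 3, H₂/H₁ the projective special unitary group of dimension 4 over the field with nine elements and H₂ of index 2 in H, and some conjugate of z other than z lies in Q. Let X be a subgroup of H of order 3 whose product with Q is normal in H (X maps onto the normal subgroup of order 3 of H/Q). Then the centralizer of X in H is quasisimple with cyclic centre of order 6 and central quotient isomorphic to the projective special unitary group of dimension 4 over the field with nine elements. -/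
theorem result {G : Type*} [Group G] [Finite G] (z : G) (Q : Subgroup (Subgroup.centralizer ({z} : Set G))) [Q.Normal] (hF : Cfsg.IsOfLargeFischerTypeAt z Q) (X : Subgroup (Subgroup.centralizer ({z} : Set G))) (hX : Nat.card X = 3) (hXQ : (X ⊔ Q).Normal) : Cfsg.IsQuasisimple ↥(Subgroup.centralizer ((X : Subgroup (Subgroup.centralizer ({z} : Set G))) : Set (Subgroup.centralizer ({z} : Set G)))) ∧ IsCyclic ↥(Subgroup.center ↥(Subgroup.centralizer ((X : Subgroup (Subgroup.centralizer ({z} : Set G))) : Set (Subgroup.centralizer ({z} : Set G))))) ∧ Nat.card ↥(Subgroup.center ↥(Subgroup.centralizer ((X : Subgroup (Subgroup.centralizer ({z} : Set G))) : Set (Subgroup.centralizer ({z} : Set G))))) = 6 ∧ ∃ (K : Type) (_ : Field K) (_ : Fintype K), Fintype.card K = 9 ∧ Nonempty (↥(Subgroup.centralizer ((X : Subgroup (Subgroup.centralizer ({z} : Set G))) : Set (Subgroup.centralizer ({z} : Set G)))) ⧸ Subgroup.center ↥(Subgroup.centralizer ((X : Subgroup (Subgroup.centralizer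 ({z} : Set G))) : Set (Subgroup.centralizer ({z} : Set G)))) ≃* Cfsg.PSU 4 K 3) := by
  obtain ⟨N, M, W⟩ := setup_of z Q hF
  obtain ⟨f⟩ := W.hyp.exists_frame
  set sub := (Subgroup.centralizer ({z} : Set G)).subtype with hsub
  haveI : Fact (Nat.Prime 3) := ⟨Nat.prime_three⟩
  haveI : IsCyclic ↥X := isCyclic_of_prime_card hX
  obtain ⟨⟨x, hxX⟩, hgen⟩ := IsCyclic.exists_generator (α := ↥X)
  have hXx : X = Subgroup.zpowers x := le_antisymm (fun a ha => by
    obtain ⟨i, hi⟩ := hgen ⟨a, ha⟩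
    exact ⟨i, congrArg Subtype.val hi⟩) (Subgroup.zpowers_le.2 hxX)
  have hxo : orderOf x = 3 := by rw [← hX, hXx, Nat.card_zpowers]
  have hx3 : x ^ 3 = 1 := by rw [← hxo, pow_orderOf_eq_one]
  -- the image is not trivial
  set u := f.π x with hu
  have hu1 : u ≠ 1 := fun e => by
    have hxQ : x ∈ Q := (Subgroup.mem_map_iff_mem (Subgroup.subtype_injective _)).1 ((f.ker x).1 e)
    have h1 := Subgroup.orderOf_dvd_natCard Q hxQ
    have h2 := W.hyp.cardQ
    rw [Subgroup.card_map_of_injective (Subgroup.subtype_injective _)] at h2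
    rw [hxo, h2] at h1
    norm_num at h1
  have hu3 : u ^ 3 = 1 := by rw [hu, ← map_pow, hx3, map_one]
  have huK : u ∈ Kp := by
    have hM : (x : G) ∈ M := by
      by_contra hxM
      have hxz : Commute (x : G) z := Subgroup.mem_centralizer_singleton_iff.1 x.2
      have h2 : ∀ a : G, Commute a z → a * a ∈ M := fun a ha => by
        by_cases h : a ∈ M
        · exact mul_mem h h
        · have := W.hyp.idx a⁻¹ a ha.inv_left ha (fun h' => h (inv_mem_iff.1 h')) h
          rwa [inv_inv] at this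
      have h4 : ((x : G) * x) * ((x : G) * x) = x := by
        have : ((x ^ 3 * x : Subgroup.centralizer ({z} : Set G)) : G) = x := by rw [hx3, one_mul]
        rw [← pow_succ, SubmonoidClass.coe_pow] at this
        conv_rhs => rw [← this]
        rw [← pow_two, ← pow_two, ← pow_mul]
      exact hxM (h4 ▸ mul_mem (h2 _ hxz) (h2 _ hxz))
    exact (f.mem_Kp x).2 hM
  have hpow : ∀ i : ℤ, u ^ i = 1 ∨ u ^ i = u ∨ u ^ i = u⁻¹ := fun i => by
    have h3 : u ^ (3 : ℤ) = 1 := by exact_mod_cast hu3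
    rcases (by omega : i % 3 = 0 ∨ i % 3 = 1 ∨ i % 3 = 2) with e | e | e <;>
      rw [← Int.mul_ediv_add_emod i 3, zpow_add, zpow_mul, h3, one_zpow, one_mul, e]
    · exact Or.inl (zpow_zero u)
    · exact Or.inr (Or.inl (zpow_one u))
    · refine Or.inr (Or.inr (eq_inv_of_mul_eq_one_left ?_))
      rw [← zpow_add_one]; exact h3
  have hconj : ∀ p ∈ Kp, p * u * p⁻¹ = u ∨ p * u * p⁻¹ = u⁻¹ := by
    intro p hp
    obtain ⟨c, rfl⟩ := f.surj p hp
    obtain ⟨i, hi⟩ : f.π (c * x * c⁻¹) ∈ Subgroup.zpowers u := by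
      have h1 := hXQ.conj_mem x (Subgroup.mem_sup_left hxX) c
      have h2 : X ⊔ Q ≤ (Subgroup.zpowers u).comap f.π := by
        refine sup_le ?_ fun q hq => ?_
        · rw [hXx, Subgroup.zpowers_le]
          exact Subgroup.mem_zpowers u
        · rw [Subgroup.mem_comap, (f.ker q).2 ⟨q, hq, rfl⟩]
          exact one_mem _
      exact h2 h1
    change u ^ i = _ at hi
    rw [map_mul, map_mul, map_inv] at hi
    rcases hpow i with e | e | e <;> rw [e] at hi
    · exact absurd (conj_eq_one_iff.1 hi.symm) hu1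
    · exact Or.inl hi.symm
    · exact Or.inr hi.symm
  have hcen : ∀ p ∈ Kp, p * u * p⁻¹ = u := by
    have hinv : ∀ p, p * u * p⁻¹ = u⁻¹ → p⁻¹ * u * p = u⁻¹ := fun p h => by
      calc p⁻¹ * u * p = (p⁻¹ * u⁻¹ * p)⁻¹ := by group
        _ = (p⁻¹ * (p * u * p⁻¹) * p)⁻¹ := by rw [h]
        _ = u⁻¹ := by group
    have hle : ⁅Kp, Kp⁆ ≤ Subgroup.centralizer ({u} : Set PV) := by
      rw [Subgroup.commutator_le]
      intro a ha b hb
      rw [Subgroup.mem_centralizer_singleton_iff, ← mul_inv_eq_iff_eq_mul, commutatorElement_def]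
      have hb' : b⁻¹ * u * b = u ∧ b * u * b⁻¹ = u ∨ b⁻¹ * u * b = u⁻¹ ∧ b * u * b⁻¹ = u⁻¹ := by
        rcases hconj b hb with e | e
        · refine Or.inl ⟨?_, e⟩
          calc b⁻¹ * u * b = b⁻¹ * (b * u * b⁻¹) * b := by rw [e]
            _ = u := by group
        · exact Or.inr ⟨hinv b e, e⟩
      have ha' : a⁻¹ * u * a = u ∧ a * u * a⁻¹ = u ∨ a⁻¹ * u * a = u⁻¹ ∧ a * u * a⁻¹ = u⁻¹ := by
        rcases hconj a ha with e | e
        · refine Or.inl ⟨?_, e⟩
          calc a⁻¹ * u * a = a⁻¹ * (a * u * a⁻¹) * a := by rw [e]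
            _ = u := by group
        · exact Or.inr ⟨hinv a e, e⟩
      have hstep : ∀ p v : PV, p * v⁻¹ * p⁻¹ = (p * v * p⁻¹)⁻¹ := fun p v => by group
      rw [show a * b * a⁻¹ * b⁻¹ * u * (a * b * a⁻¹ * b⁻¹)⁻¹ = a * (b * (a⁻¹ * (b⁻¹ * u * b) * a) * b⁻¹) * a⁻¹ by group]
      rcases ha' with ⟨a1, a2⟩ | ⟨a1, a2⟩ <;> rcases hb' with ⟨b1, b2⟩ | ⟨b1, b2⟩ <;> rw [b1]
      · rw [a1, b2, a2]
      · rw [show a⁻¹ * u⁻¹ * a = (a⁻¹ * u * a)⁻¹ by group, a1, hstep, b2, inv_inv, a2]
      · rw [a1, hstep, b2, hstep, a2, inv_inv]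
      · rw [show a⁻¹ * u⁻¹ * a = (a⁻¹ * u * a)⁻¹ by group, a1, inv_inv, b2, hstep, a2, inv_inv]
    rw [perfect_Kp] at hle
    exact fun p hp => mul_inv_eq_iff_eq_mul.2 (Subgroup.mem_centralizer_singleton_iff.1 (hle hp))
  -- the image is a scalar
  obtain ⟨A, hA, hAu⟩ := huK
  have hAcen : A ∈ Subgroup.center Cfsg.Agent.Spor.SUSix.G6 := by
    have : (⟨A, hA⟩ : Cfsg.Agent.Spor.U43.K1) ∈ Subgroup.center Cfsg.Agent.Spor.U43.K1 := by
      refine Subgroup.mem_center_iff.2 fun a => Subtype.ext (act_inj ?_)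
      show act (a.1 * A) = act (A * a.1)
      rw [map_mul, map_mul, hAu]
      exact mul_inv_eq_iff_eq_mul.1 (hcen _ ⟨a.1, a.2, rfl⟩)
    rwa [Cfsg.Agent.Spor.U43.center_K1, Subgroup.mem_subgroupOf] at this
  obtain ⟨c, hc0, hc⟩ := Cfsg.Agent.Spor.U43.center_scal hAcen
  have huv : ∀ v, u v = c • v := fun v => by
    rw [← hAu, act_apply, hc]
    funext k
    rw [Cfsg.Agent.Spor.SUSix.scal, Matrix.mulVec_diagonal]
    rfl
  have hc1 : c ≠ 1 := fun e => hu1 (Equiv.ext fun v => by rw [huv, e, one_smul]; rfl)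
  have hcase : c = Cfsg.Agent.Spor.SpFour.F4.w ∨ c = Cfsg.Agent.Spor.SpFour.F4.v := by
    have key : ∀ c : Cfsg.Agent.Spor.SpFour.F4, c ≠ 0 → c ≠ 1 →
        c = Cfsg.Agent.Spor.SpFour.F4.w ∨ c = Cfsg.Agent.Spor.SpFour.F4.v := by decide +kernel
    exact key c hc0 hc1
  obtain ⟨y, hy, hyx⟩ : ∃ y, Xel f y ∧ Subgroup.centralizer (X : Set (Subgroup.centralizer ({z} : Set G))) = Kx y := by
    have hcx : ∀ y : Subgroup.centralizer ({z} : Set G), (∀ d, Commute d y ↔ Commute d x) →
        Subgroup.centralizer (X : Set (Subgroup.centralizer ({z} : Set G))) = Kx y := fun y hy => by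
      ext d
      rw [mem_Kx, hy, Subgroup.mem_centralizer_iff, hXx]
      constructor
      · exact fun h => (h x (Subgroup.mem_zpowers x)).symm
      · rintro h _ ⟨i, rfl⟩
        exact (h.zpow_right i).symm.eq
    rcases hcase with e | e
    · exact ⟨x, ⟨hx3, fun v => by rw [← hu, huv, e]⟩, hcx x fun _ => Iff.rfl⟩
    · refine ⟨x ^ 2, ⟨by rw [← pow_mul, mul_comm, pow_mul, hx3, one_pow], fun v => ?_⟩, hcx _ fun d => ?_⟩
      · rw [map_pow, ← hu, pow_two, Equiv.Perm.mul_apply, huv, huv, smul_smul, e]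
        rfl
      · refine ⟨fun h => ?_, fun h => h.pow_right 2⟩
        have := h.pow_right 2
        rwa [← pow_mul, show 2 * 2 = 3 + 1 from rfl, pow_succ, hx3, one_mul] at this
  rw [hyx]
  exact Xel.main W f hy

end Cfsg.Agent.S5451
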