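import Cfsg.Statements.S5452
import Cfsg.Agent.Lib.Spor.CoverUnitarySix
-- import your own Cfsg.Agent.* helpers here

set_option autoImplicit false
open Cfsg

namespace Cfsg.Agent.S5452

/-- Let G be a finite group with an involution d whose centralizer C is quasisimple with C modulo the subgroup generated by d isomorphic to the projective special unitary group of dimension 6 over the field with four elements, and suppose some conjugate of d other than d commutes with d. Then every involution of C modulo the subgroup generated by d is the image of an involution of C, and d is not a square in G. -/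
theorem result {G : Type*} [Group G] [Finite G] (d : G) (hd : orderOf d = 2) (hq : Cfsg.IsQuasisimple ↥(Subgroup.centralizer ({d} : Set G))) [hzn : ((Subgroup.zpowers d).subgroupOf (Subgroup.centralizer ({d} : Set G))).Normal] (K : Type) [Field K] [Fintype K] (hK : Fintype.card K = 4) (e : ↥(Subgroup.centralizer ({d} : Set G)) ⧸ (Subgroup.zpowers d).subgroupOf (Subgroup.centralizer ({d} : Set G)) ≃* Cfsg.PSU 6 K 2) (hnwc : ∃ g : G, g * d * g⁻¹ ∈ Subgroup.centralizer ({d} : Set G) ∧ g * d * g⁻¹ ≠ d) : (∀ x : ↥(Subgroup.centralizer ({d} : Set G)) ⧸ (Subgroup.zpowers d).subgroupOf (Subgroup.centralizer ({d} : Set G)), orderOf x = 2 → ∃ y : ↥(Subgroup.centralizer ({d} : Set G)), orderOf y = 2 ∧ (QuotientGroup.mk y : ↥(Subgroup.centralizer ({d} : Set G)) ⧸ (Subgroup.zpowers d).subgroupOf (Subgroup.centralizer ({d} : Set G))) = x) ∧ ¬ ∃ g : G, g ^ 2 = d := by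
  classical
  have : CharP K 2 := by
    obtain ⟨p, hp⟩ := CharP.exists K
    obtain ⟨k, hpp, hk⟩ := FiniteField.card K p
    have h2 : p ∣ 4 := by rw [← hK, hk]; exact dvd_pow_self p k.ne_zero
    have hp2 : p = 2 := (Nat.prime_dvd_prime_iff_eq hpp Nat.prime_two).1
      ((Nat.Prime.dvd_of_dvd_pow hpp (show p ∣ 2 ^ 2 by simpa using h2)))
    subst hp2
    exact hp
  letI : StarRing K := Agent.Small.Hermitian.starRingOfInvolution (frobenius K 2) (fun x => by
    rw [frobenius_def, frobenius_def, ← pow_mul, show 2 * 2 = Fintype.card K from hK.symm,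
      FiniteField.pow_card])
  let C : Subgroup G := Subgroup.centralizer ({d} : Set G)
  let q : ↥C →* Cfsg.PSU 6 K 2 := e.toMonoidHom.comp (QuotientGroup.mk' _)
  have hqs : Function.Surjective q := e.surjective.comp (QuotientGroup.mk'_surjective _)
  have hqker : ∀ z, z ∈ q.ker → (z : G) = 1 ∨ (z : G) = d := by
    intro z hz
    have h : z ∈ (Subgroup.zpowers d).subgroupOf C :=
      (QuotientGroup.eq_one_iff z).mp (e.map_eq_one_iff.mp (MonoidHom.mem_ker.mp hz))
    obtain ⟨k, hk⟩ := Subgroup.mem_zpowers_iff.mp (Subgroup.mem_subgroupOf.mp h)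
    have hd2 : d ^ (2 : ℤ) = 1 := by
      rw [show (2 : ℤ) = ((2 : ℕ) : ℤ) from rfl, zpow_natCast, ← hd, pow_orderOf_eq_one]
    rcases Int.even_or_odd k with ⟨j, hj⟩ | ⟨j, hj⟩
    · left; rw [← hk, hj, ← two_mul, zpow_mul, hd2, one_zpow]
    · right; rw [← hk, hj, zpow_add, zpow_mul, hd2, one_zpow, one_mul, zpow_one]
  have hc : q.ker ≤ Subgroup.center ↥C := fun z hz => Subgroup.mem_center_iff.mpr fun g => by
    apply Subtype.ext
    rcases hqker z hz with h | h
    · simp [h]
    · show (g : G) * z = z * g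
      rw [h]
      exact (Subgroup.mem_centralizer_singleton_iff.mp g.2)
  have h2 : ∀ z ∈ q.ker, z * z = 1 := fun z hz => by
    apply Subtype.ext
    rcases hqker z hz with h | h
    · simp [h]
    · show (z : G) * z = 1
      rw [h, ← pow_two, ← hd, pow_orderOf_eq_one]
  have hlift : ∀ x : ↥C ⧸ (Subgroup.zpowers d).subgroupOf C, x * x = 1 →
      ∃ y : ↥C, (QuotientGroup.mk y : ↥C ⧸ (Subgroup.zpowers d).subgroupOf C) = x ∧ y * y = 1 := by
    intro x hx
    obtain ⟨y, hy, hy2⟩ := Agent.Spor.CoverUnitarySix.exists_lift (fun _ => rfl) q hqs hK le_rfl hc h2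
      (x := e x) (by rw [← map_mul, hx, map_one])
    exact ⟨y, e.injective hy, hy2⟩
  refine ⟨fun x hx => ?_, ?_⟩
  · have hx2 : x * x = 1 := by rw [← pow_two, ← hx, pow_orderOf_eq_one]
    obtain ⟨y, hy, hy2⟩ := hlift x hx2
    refine ⟨y, orderOf_eq_prime (by rw [pow_two, hy2]) (fun h => ?_), hy⟩
    rw [h, QuotientGroup.mk_one] at hy
    rw [← hy, orderOf_one] at hx
    omega
  · rintro ⟨g, hg⟩
    have hgC : g ∈ C := Subgroup.mem_centralizer_singleton_iff.mpr (by rw [← hg]; group)
    have hd1 : d ≠ 1 := fun h => by rw [h, orderOf_one] at hd; omega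
    let gc : ↥C := ⟨g, hgC⟩
    have hgker : gc * gc ∈ (Subgroup.zpowers d).subgroupOf C := by
      rw [Subgroup.mem_subgroupOf]
      show g * g ∈ _
      rw [← pow_two, hg]
      exact Subgroup.mem_zpowers d
    obtain ⟨y, hy, hy2⟩ := hlift (QuotientGroup.mk gc) (by
      rw [← QuotientGroup.mk_mul]; exact (QuotientGroup.eq_one_iff _).mpr hgker)
    have hz : y⁻¹ * gc ∈ q.ker := by
      rw [MonoidHom.mem_ker, map_mul, map_inv, inv_mul_eq_one]
      exact congrArg e hy
    have hzc := Subgroup.mem_center_iff.mp (hc hz)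
    have : gc * gc = 1 := by
      calc gc * gc = y * (y⁻¹ * gc) * (y * (y⁻¹ * gc)) := by group
        _ = y * ((y⁻¹ * gc) * y) * (y⁻¹ * gc) := by group
        _ = y * (y * (y⁻¹ * gc)) * (y⁻¹ * gc) := by rw [hzc y]
        _ = y * y * ((y⁻¹ * gc) * (y⁻¹ * gc)) := by group
        _ = 1 := by rw [hy2, h2 _ hz, one_mul]
    have h' : g * g = 1 := congrArg Subtype.val this
    exact hd1 (by rw [← hg, pow_two, h'])

end Cfsg.Agent.S5452
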