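import Cfsg.Statements.S5453
import Cfsg.Agent.Lib.Lead.Fi22Two.CoverLift
-- import your own Cfsg.Agent.* helpers here

set_option autoImplicit false
open Cfsg

namespace Cfsg.Agent.S5453

/-- Let G be a finite group with an involution d whose centralizer C is quasisimple, such that C modulo the subgroup generated by d is of type M(22) with respect to some conjugacy class of 3-transpositions generating it and also has an involution whose own centralizer is quasisimple with quotient by it isomorphic to the projective special unitary group of dimension 6 over the field with four elements and which is not weakly closed in that centralizer; and suppose some conjugate of d other than d commutes with d. Then every involution of C modulo the subgroup generated by d is the image of an involution of C, and d is not a square in G. -/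
theorem result {G : Type*} [Group G] [Finite G] (d : G) (hd : orderOf d = 2) (hq : Cfsg.IsQuasisimple ↥(Subgroup.centralizer ({d} : Set G))) [hzn : ((Subgroup.zpowers d).subgroupOf (Subgroup.centralizer ({d} : Set G))).Normal] (htype : ∃ E : Set (↥(Subgroup.centralizer ({d} : Set G)) ⧸ (Subgroup.zpowers d).subgroupOf (Subgroup.centralizer ({d} : Set G))), Cfsg.IsThreeTranspositionClass E ∧ Cfsg.IsOfTypeM22 _ E) (hinvol : ∃ d' : ↥(Subgroup.centralizer ({d} : Set G)) ⧸ (Subgroup.zpowers d).subgroupOf (Subgroup.centralizer ({d} : Set G)), orderOf d' = 2 ∧ Cfsg.IsQuasisimple ↥(Subgroup.centralizer ({d'} : Set _)) ∧ (∃ (K : Type) (_ : Field K) (_ : Fintype K), Fintype.card K = 4 ∧ ∃ _ : ((Subgroup.zpowers d').subgroupOf (Subgroup.centralizer ({d'} : Set _))).Normal, Nonempty (↥(Subgroup.centralizer ({d'} : Set _)) ⧸ (Subgroup.zpowers d').subgroupOf (Subgroup.centralizer ({d'} : Set _)) ≃* Cfsg.PSU 6 K 2)) ∧ ∃ g, g * d' * g⁻¹ ∈ Subgroup.centralizer ({d'} : Set _) ∧ g * d' * g⁻¹ ≠ d') (hnwc : ∃ g : G, g * d * g⁻¹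 ∈ Subgroup.centralizer ({d} : Set G) ∧ g * d * g⁻¹ ≠ d) : (∀ x : ↥(Subgroup.centralizer ({d} : Set G)) ⧸ (Subgroup.zpowers d).subgroupOf (Subgroup.centralizer ({d} : Set G)), orderOf x = 2 → ∃ y : ↥(Subgroup.centralizer ({d} : Set G)), orderOf y = 2 ∧ (QuotientGroup.mk y : ↥(Subgroup.centralizer ({d} : Set G)) ⧸ (Subgroup.zpowers d).subgroupOf (Subgroup.centralizer ({d} : Set G))) = x) ∧ ¬ ∃ g : G, g ^ 2 = d := by
  classical
  obtain ⟨hperf, hsimp⟩ := hq
  obtain ⟨E, hE, h22⟩ := htype
  set C : Subgroup G := Subgroup.centralizer ({d} : Set G) with hC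
  set N : Subgroup ↥C := (Subgroup.zpowers d).subgroupOf C with hN
  have hNc : N ≤ Subgroup.center ↥C := fun z hz => Subgroup.mem_center_iff.mpr fun g => by
    obtain ⟨k, hk⟩ := Subgroup.mem_zpowers_iff.mp (Subgroup.mem_subgroupOf.mp hz)
    have hg : Commute (g : G) d := Subgroup.mem_centralizer_singleton_iff.mp g.2
    apply Subtype.ext
    show (g : G) * z = z * g
    rw [← hk]
    exact (hg.zpow_right k).eq
  have hcen : Subgroup.center ↥C = N := by
    refine le_antisymm (fun z hz => ?_) hNc
    have h1 : (QuotientGroup.mk' N z) ∈ Subgroup.center (↥C ⧸ N) := by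
      refine Subgroup.mem_center_iff.mpr fun q => ?_
      obtain ⟨g, rfl⟩ := QuotientGroup.mk'_surjective N q
      rw [← map_mul, ← map_mul, Subgroup.mem_center_iff.mp hz g]
    rw [h22.1, Subgroup.mem_bot] at h1
    exact (QuotientGroup.eq_one_iff z).mp h1
  haveI : IsSimpleGroup (↥C ⧸ N) := by
    haveI := hsimp
    haveI : Nontrivial (↥C ⧸ N) := (QuotientGroup.quotientMulEquivOfEq hcen).symm.toEquiv.nontrivial
    exact IsSimpleGroup.isSimpleGroup_of_surjective (QuotientGroup.quotientMulEquivOfEq hcen).toMonoidHom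
      (QuotientGroup.quotientMulEquivOfEq hcen).surjective
  have hlift : ∀ x : ↥C ⧸ N, orderOf x = 2 → ∃ y : ↥C, QuotientGroup.mk' N y = x ∧ y * y = 1 :=
    fun x hx => Agent.Lead.Fi22Two.CoverLift.lift_involution (QuotientGroup.mk' N) (QuotientGroup.mk'_surjective N)
      (by rw [QuotientGroup.ker_mk']; exact hNc) hperf.1 hE h22 hx
  refine ⟨fun x hx => ?_, ?_⟩
  · obtain ⟨y, hy, hy2⟩ := hlift x hx
    refine ⟨y, orderOf_eq_prime (by rw [pow_two, hy2]) (fun h => ?_), hy⟩
    rw [h, map_one] at hy
    rw [← hy, orderOf_one] at hx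
    omega
  · rintro ⟨g, hg⟩
    have hgC : g ∈ C := Subgroup.mem_centralizer_singleton_iff.mpr (by rw [← hg]; group)
    have hd1 : d ≠ 1 := fun h => by rw [h, orderOf_one] at hd; omega
    have hd2 : d * d = 1 := by rw [← pow_two, ← hd, pow_orderOf_eq_one]
    let gc : ↥C := ⟨g, hgC⟩
    have hsqN : ∀ z ∈ N, z * z = 1 := fun z hz => by
      obtain ⟨k, hk⟩ := Subgroup.mem_zpowers_iff.mp (Subgroup.mem_subgroupOf.mp hz)
      apply Subtype.ext
      show (z : G) * z = 1
      rw [← hk, ← (Commute.refl d).mul_zpow, hd2, one_zpow]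
    have hgg : gc * gc ≠ 1 := fun h => hd1 (by
      rw [← hg, pow_two]; exact congrArg Subtype.val h)
    have himg : QuotientGroup.mk' N gc * QuotientGroup.mk' N gc = 1 := by
      rw [← map_mul]
      refine (QuotientGroup.eq_one_iff _).mpr (Subgroup.mem_subgroupOf.mpr ?_)
      show g * g ∈ _
      rw [← pow_two, hg]
      exact Subgroup.mem_zpowers d
    by_cases h1 : QuotientGroup.mk' N gc = 1
    · exact hgg (hsqN gc ((QuotientGroup.eq_one_iff gc).mp h1))
    · obtain ⟨y, hy, hy2⟩ := hlift _ (orderOf_eq_prime (by rw [pow_two]; exact himg) h1)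
      have hz : y⁻¹ * gc ∈ N := by
        rw [← QuotientGroup.eq_one_iff]
        show QuotientGroup.mk' N (y⁻¹ * gc) = 1
        rw [map_mul, map_inv, hy, inv_mul_cancel]
      apply hgg
      have hc := Subgroup.mem_center_iff.mp (hNc hz)
      calc gc * gc = y * ((y⁻¹ * gc) * y) * (y⁻¹ * gc) := by group
        _ = y * (y * (y⁻¹ * gc)) * (y⁻¹ * gc) := by rw [← hc y]
        _ = (y * y) * ((y⁻¹ * gc) * (y⁻¹ * gc)) := by group
        _ = 1 := by rw [hy2, hsqN _ hz, one_mul]

end Cfsg.Agent.S5453
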