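import Cfsg.Statements.S5454
import Cfsg.Agent.Lib.Spor.TSUCount
import Cfsg.Agent.Lib.Spor.PSUTransfer

set_option autoImplicit false
open Cfsg

namespace Cfsg.Agent.S5454

/-- Let G be a finite group with an involution d whose centralizer C is quasisimple with C modulo the subgroup generated by d isomorphic to the projective special unitary group of dimension 6 over the field with four elements, and suppose some conjugate of d other than d commutes with d. Let S be a Sylow 2-subgroup of C and A the Thompson subgroup of S (generated by the elementary abelian subgroups of S of largest order), regarded as a subgroup of G. Then A is elementary abelian of order 2^10, exactly 22 conjugates of d lie in A, and the normalizer of A permutes them transitively. -/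
theorem result {G : Type*} [Group G] [Finite G] (d : G) (hd : orderOf d = 2) (hq : Cfsg.IsQuasisimple ↥(Subgroup.centralizer ({d} : Set G))) [hzn : ((Subgroup.zpowers d).subgroupOf (Subgroup.centralizer ({d} : Set G))).Normal] (K : Type) [Field K] [Fintype K] (hK : Fintype.card K = 4) (e : ↥(Subgroup.centralizer ({d} : Set G)) ⧸ (Subgroup.zpowers d).subgroupOf (Subgroup.centralizer ({d} : Set G)) ≃* Cfsg.PSU 6 K 2) (hnwc : ∃ g : G, g * d * g⁻¹ ∈ Subgroup.centralizer ({d} : Set G) ∧ g * d * g⁻¹ ≠ d) (S : Sylow 2 ↥(Subgroup.centralizer ({d} : Set G))) (A : Subgroup G) (hA : A = (Cfsg.thompsonSubgroupOf 2 (S : Subgroup ↥(Subgroup.centralizer ({d} : Set G)))).map (Subgroup.centralizer ({d} : Set G)).subtype) : Cfsg.IsElementaryAbelian 2 A ∧ Nat.card A = 2 ^ 10 ∧ Set.ncard {x : G | x ∈ A ∧ IsConj d x} = 22 ∧ ∀ x ∈ A, ∀ y ∈ A, IsConj d x → IsConj d y → ∃ n ∈ Subgroup.normalizer (A : Set G), n * x * n⁻¹ = y := by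
  classical
  have hd2 : d * d = 1 := by rw [← pow_two, ← hd, pow_orderOf_eq_one]
  have hd1 : d ≠ 1 := fun h => by rw [h, orderOf_one] at hd; omega
  let C : Subgroup G := Subgroup.centralizer ({d} : Set G)
  obtain ⟨eU⟩ := Agent.Spor.SUSix.range_equiv
  obtain ⟨φ⟩ : Nonempty (K ≃+* Agent.Spor.SpFour.F4) :=
    ⟨FiniteField.ringEquivOfCardEq (K := K) (K' := Agent.Spor.SpFour.F4)
      (by rw [hK, Agent.Spor.SpFour.F4.card])⟩
  obtain ⟨eK⟩ := Agent.Spor.PSUTransfer.psu_congr (n := 6) (q := 2) φ
  let E := e.trans eK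
  let ψ : ↥C →* Cfsg.PSU 6 Agent.Spor.SpFour.F4 2 := E.toMonoidHom.comp (QuotientGroup.mk' _)
  let q : ↥C →* Agent.Spor.TSU.RR := eU.symm.toMonoidHom.comp ψ
  have hψs : Function.Surjective ψ := E.surjective.comp (QuotientGroup.mk'_surjective _)
  have hψk : ∀ z : ↥C, ψ z = 1 ↔ (z : G) = 1 ∨ (z : G) = d := by
    intro z
    rw [show ψ z = E (QuotientGroup.mk z) from rfl, E.map_eq_one_iff, QuotientGroup.eq_one_iff,
      Subgroup.mem_subgroupOf]
    constructor
    · intro h
      obtain ⟨k, hk⟩ := Subgroup.mem_zpowers_iff.mp h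
      have hd2' : d ^ (2 : ℤ) = 1 := by rw [zpow_two, hd2]
      rcases Int.even_or_odd k with ⟨j, hj⟩ | ⟨j, hj⟩
      · left; rw [← hk, hj, ← two_mul, zpow_mul, hd2', one_zpow]
      · right; rw [← hk, hj, zpow_add, zpow_mul, hd2', one_zpow, one_mul, zpow_one]
    · rintro (h | h) <;> rw [h]
      exacts [one_mem _, Subgroup.mem_zpowers d]
  have hc : ψ.ker ≤ Subgroup.center ↥C := fun z hz => Subgroup.mem_center_iff.mpr fun g => by
    apply Subtype.ext
    rcases (hψk z).mp hz with h | h
    · simp [h]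
    · show (g : G) * z = z * g
      rw [h]
      exact Subgroup.mem_centralizer_singleton_iff.mp g.2
  have h2 : ∀ z ∈ ψ.ker, z * z = 1 := fun z hz => by
    apply Subtype.ext
    rcases (hψk z).mp hz with h | h
    · simp [h]
    · show (z : G) * z = 1
      rw [h, hd2]
  have hs : Agent.Spor.TSU.Setup d q := by
    refine ⟨eU.symm.surjective.comp hψs, fun z => ?_, hq.1.commutator_eq_top, fun x hx => ?_, hd1, hd2, hnwc⟩
    · rw [← hψk]
      exact eU.symm.map_eq_one_iff
    · obtain ⟨y, hy, hy2⟩ := Agent.Spor.CoverUnitarySix.exists_lift Agent.Spor.SpFour.F4.star_eq_pow ψ hψs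
        Agent.Spor.SpFour.F4.card le_rfl hc h2 (x := eU x) (by rw [← map_mul, hx, map_one])
      exact ⟨y, by show eU.symm (ψ y) = x; rw [hy, eU.symm_apply_apply], hy2⟩
  haveI : Fact (Nat.Prime 2) := ⟨Nat.prime_two⟩
  -- a large subgroup inside the Sylow subgroup
  have hA0 := Agent.Spor.TSU.elem_A0 hs
  obtain ⟨T, hT⟩ := hA0.pgroup.exists_le_sylow
  obtain ⟨g, hg⟩ := MulAction.exists_smul_eq ↥C T S
  set B : Subgroup ↥C := (Agent.Spor.TSU.A0 q).map (MulAut.conj g).toMonoidHom
  have hB : Agent.Spor.TSULift.Elem B 1024 := hA0.map _ (MulAut.conj g).injective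
  have hBS : B ≤ (S : Subgroup ↥C) := by
    rw [← hg]
    exact Subgroup.map_mono hT
  have hBcard : Nat.card B = 1024 := by
    rw [Subgroup.card_map_of_injective (MulAut.conj g).injective, Agent.Spor.TSU.card_A0 hs]
  have hJ : Cfsg.thompsonSubgroupOf 2 (S : Subgroup ↥C) = B := by
    have hmax : Cfsg.maxElementaryAbelianSubgroups 2 (S : Subgroup ↥C) = {B.subgroupOf (S : Subgroup ↥C)} := by
      ext W
      have hup : ∀ {W : Subgroup (S : Subgroup ↥C)}, Cfsg.IsElementaryAbelian 2 W →
          1024 ≤ Nat.card W → W = B.subgroupOf (S : Subgroup ↥C) := by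
        intro W hW hcard
        have e := Agent.Spor.TSU.unique_A0 hs (S : Subgroup ↥C) (W.map (S : Subgroup ↥C).subtype) B S.isPGroup'
          ⟨by
            rintro _ ⟨w, hw, rfl⟩
            rw [← map_mul, ← pow_two, hW.2 w hw, map_one],
          by rw [Subgroup.card_map_of_injective Subtype.val_injective]; exact hcard⟩
          hB (Subgroup.map_subtype_le W) hBS
        rw [← e, Subgroup.subgroupOf, Subgroup.comap_map_eq_self_of_injective Subtype.val_injective]
      have hBS' : Cfsg.IsElementaryAbelian 2 (B.subgroupOf (S : Subgroup ↥C)) := by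
        refine ⟨⟨⟨fun a b => ?_⟩⟩, fun a ha => ?_⟩
        · exact Subtype.ext (Subtype.ext (hB.comm a.2 b.2).eq)
        · rw [pow_two]; exact Subtype.ext (hB.1 _ ha)
      have hBc : Nat.card (B.subgroupOf (S : Subgroup ↥C)) = 1024 :=
        (Nat.card_congr (Subgroup.subgroupOfEquivOfLe hBS).toEquiv).trans hBcard
      constructor
      · rintro ⟨hW, hWmax⟩
        exact hup hW (hBc ▸ hWmax _ hBS')
      · rintro rfl
        refine ⟨hBS', fun V hV => ?_⟩
        by_contra hlt
        rw [not_le, hBc] at hlt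
        rw [hup hV hlt.le, hBc] at hlt
        exact lt_irrefl _ hlt
    rw [Cfsg.thompsonSubgroupOf, Cfsg.thompsonSubgroup, hmax, sSup_singleton,
      Subgroup.subgroupOf_map_subtype, inf_eq_left.mpr hBS]
  subst hA
  rw [show Cfsg.thompsonSubgroupOf 2 (S : Subgroup ↥(Subgroup.centralizer ({d} : Set G))) = B from hJ]
  have hBG := hB.map C.subtype Subtype.val_injective
  refine ⟨⟨⟨⟨fun a b => Subtype.ext (hBG.comm a.2 b.2).eq⟩⟩, fun a ha => by rw [pow_two]; exact hBG.1 a ha⟩,
    ?_, Agent.Spor.TSU.count_any hs hB, ?_⟩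
  · rw [Subgroup.card_map_of_injective Subtype.val_injective, hBcard]
    norm_num
  · intro x hx y hy hdx hdy
    obtain ⟨n, hn, hnx⟩ := Agent.Spor.TSU.move_d hs hB hx hdx
    obtain ⟨m, hm, hmy⟩ := Agent.Spor.TSU.move_d hs hB hy hdy
    refine ⟨m * n⁻¹, mul_mem hm (inv_mem hn), ?_⟩
    rw [← hnx, ← hmy]
    group

end Cfsg.Agent.S5454
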