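import Cfsg.Statements.S5455
import Cfsg.Agent.Lib.Spor.Fi23Thompson.Main
import Cfsg.Agent.Lib.Spor.Fi23Thompson.Ident
import Cfsg.Agent.Lib.Lead.Fi22Two.CoverLift

set_option autoImplicit false
open Cfsg

namespace Cfsg.Agent.S5455

/-- Let G be a finite group with an involution d whose centralizer C is quasisimple, such that C modulo the subgroup generated by d is of type M(22) with respect to some conjugacy class of 3-transpositions generating it and also has an involution whose own centralizer is quasisimple with quotient by it isomorphic to the projective special unitary group of dimension 6 over the field with four elements and which is not weakly closed in that centralizer; and suppose some conjugate of d other than d commutes with d. Let S be a Sylow 2-subgroup of C and A the Thompson subgroup of S, regarded as a subgroup of G. Then A is elementary abelian of order 2^11, exactly 23 conjugates of d lie in A, and the normalizer of A permutes them transitively. -/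
theorem result {G : Type*} [Group G] [Finite G] (d : G) (hd : orderOf d = 2) (hq : Cfsg.IsQuasisimple ↥(Subgroup.centralizer ({d} : Set G))) [hzn : ((Subgroup.zpowers d).subgroupOf (Subgroup.centralizer ({d} : Set G))).Normal] (htype : ∃ E : Set (↥(Subgroup.centralizer ({d} : Set G)) ⧸ (Subgroup.zpowers d).subgroupOf (Subgroup.centralizer ({d} : Set G))), Cfsg.IsThreeTranspositionClass E ∧ Cfsg.IsOfTypeM22 _ E) (hinvol : ∃ d' : ↥(Subgroup.centralizer ({d} : Set G)) ⧸ (Subgroup.zpowers d).subgroupOf (Subgroup.centralizer ({d} : Set G)), orderOf d' = 2 ∧ Cfsg.IsQuasisimple ↥(Subgroup.centralizer ({d'} : Set _)) ∧ (∃ (K : Type) (_ : Field K) (_ : Fintype K), Fintype.card K = 4 ∧ ∃ _ : ((Subgroup.zpowers d').subgroupOf (Subgroup.centralizer ({d'} : Set _))).Normal, Nonempty (↥(Subgroup.centralizer ({d'} : Set _)) ⧸ (Subgroup.zpowers d').subgroupOf (Subgroup.centralizer ({d'} : Set _)) ≃* Cfsg.PSU 6 K 2)) ∧ ∃ g, g * d' * g⁻¹ ∈ Subgroup.centralizer ({d'} : Set _) ∧ g * d' * g⁻¹ ≠ d') (hnwc : ∃ g : G, g * d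 * g⁻¹ ∈ Subgroup.centralizer ({d} : Set G) ∧ g * d * g⁻¹ ≠ d) (S : Sylow 2 ↥(Subgroup.centralizer ({d} : Set G))) (A : Subgroup G) (hA : A = (Cfsg.thompsonSubgroupOf 2 (S : Subgroup ↥(Subgroup.centralizer ({d} : Set G)))).map (Subgroup.centralizer ({d} : Set G)).subtype) : Cfsg.IsElementaryAbelian 2 A ∧ Nat.card A = 2 ^ 11 ∧ Set.ncard {x : G | x ∈ A ∧ IsConj d x} = 23 ∧ ∀ x ∈ A, ∀ y ∈ A, IsConj d x → IsConj d y → ∃ n ∈ Subgroup.normalizer (A : Set G), n * x * n⁻¹ = y := by
  classical
  obtain ⟨hperf, hsimp⟩ := hq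
  obtain ⟨E, hE, h22⟩ := htype
  let C : Subgroup G := Subgroup.centralizer ({d} : Set G)
  let N : Subgroup ↥C := (Subgroup.zpowers d).subgroupOf C
  haveI : N.Normal := hzn
  have hdC : d ∈ C := Subgroup.mem_centralizer_singleton_iff.mpr rfl
  have hNc : N ≤ Subgroup.center ↥C := fun z hz => Subgroup.mem_center_iff.mpr fun g => by
    obtain ⟨k, hk⟩ := Subgroup.mem_zpowers_iff.mp (Subgroup.mem_subgroupOf.mp hz)
    have hg : Commute (g : G) d := Subgroup.mem_centralizer_singleton_iff.mp g.2
    apply Subtype.ext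
    show (g : G) * z = z * g
    rw [← hk]
    exact (hg.zpow_right k).eq
  have hNcard : Nat.card N = 2 := by
    rw [Nat.card_congr (Subgroup.subgroupOfEquivOfLe (Subgroup.zpowers_le.mpr hdC)).toEquiv, Nat.card_zpowers, hd]
  have hcen : Subgroup.center ↥C = N := by
    refine le_antisymm (fun z hz => ?_) hNc
    have h1 : (QuotientGroup.mk' N z) ∈ Subgroup.center (↥C ⧸ N) := by
      refine Subgroup.mem_center_iff.mpr fun q => ?_
      obtain ⟨g, rfl⟩ := QuotientGroup.mk'_surjective N q
      rw [← map_mul, ← map_mul, Subgroup.mem_center_iff.mp hz g]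
    rw [h22.1, Subgroup.mem_bot] at h1
    exact (QuotientGroup.eq_one_iff z).mp h1
  haveI : IsSimpleGroup (↥C ⧸ N) := by
    haveI := hsimp
    haveI : Nontrivial (↥C ⧸ N) := (QuotientGroup.quotientMulEquivOfEq hcen).symm.toEquiv.nontrivial
    exact IsSimpleGroup.isSimpleGroup_of_surjective (QuotientGroup.quotientMulEquivOfEq hcen).toMonoidHom
      (QuotientGroup.quotientMulEquivOfEq hcen).surjective
  have hD2 : ∃ a ∈ E, ∃ b ∈ E, a ≠ b := by
    obtain ⟨-, a, ha, c, hc, hac, -⟩ := h22
    exact ⟨a, ha, c, hc, fun h => hac (h ▸ Commute.refl a)⟩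
  have hQ : commutator (↥C ⧸ N) = ⊤ := by
    rw [commutator_def, ← Subgroup.map_top_of_surjective (QuotientGroup.mk' N) (QuotientGroup.mk'_surjective N),
      ← Subgroup.map_commutator, ← commutator_def, hperf.1]
  haveI : Fact (Nat.Prime 3) := ⟨Nat.prime_three⟩
  have hprim : Cfsg.IsPrimitiveUnderConj E :=
    (Agent.Fischer.primitive hE hD2 (Agent.Lead.Fi22Two.CoverLift.pCore_central 2)
      (Agent.Lead.Fi22Two.CoverLift.pCore_central 3) (by rw [hQ, ← commutator_def, hQ])).1
  have hD := Agent.Spor.class_isGroup hE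
  obtain ⟨e, he⟩ := Agent.Spor.M22U.Norm.iso_fi22 hD hprim h22
  have hgood : Agent.Spor.Fi23Thompson.GoodInvol := by
    intro x hx
    by_cases h1 : x = 1
    · exact ⟨[], by simp, by simp, by simp [h1]⟩
    · have he2 : orderOf (e x) = 2 := by
        refine orderOf_eq_prime (by rw [pow_two, ← map_mul, hx, map_one]) fun h => h1 ?_
        exact e.injective (h.trans (map_one e).symm)
      obtain ⟨l, ⟨-, hmem, hcom⟩, -, -, hl⟩ := Agent.Spor.M22U.InvClasses.exists_good hD hprim h22 he2
      refine ⟨l.map e.symm, fun a ha => ?_, fun a ha b hb => ?_, ?_⟩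
      · obtain ⟨a', ha', rfl⟩ := List.mem_map.mp ha
        obtain ⟨a'', ha'', rfl⟩ : a' ∈ e '' Agent.Spor.M22U.Fischer.Dc := he ▸ hmem a' ha'
        rw [e.symm_apply_apply]
        exact ha''
      · obtain ⟨a', ha', rfl⟩ := List.mem_map.mp ha
        obtain ⟨b', hb', rfl⟩ := List.mem_map.mp hb
        rw [← map_mul, ← map_mul, (hcom a' ha' b' hb').eq]
      · apply e.injective
        rw [map_list_prod, List.map_map, List.map_congr_left (f := ⇑e ∘ ⇑e.symm) (g := id) (fun a _ => e.apply_symm_apply a),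
          List.map_id, hl]
  have hker : (e.symm.toMonoidHom.comp (QuotientGroup.mk' N)).ker = N := by
    ext z
    simp [MonoidHom.mem_ker]
  obtain ⟨ψ⟩ := Agent.Spor.Fi23Thompson.Ident.exists_equiv (e.symm.toMonoidHom.comp (QuotientGroup.mk' N))
    (e.symm.surjective.comp (QuotientGroup.mk'_surjective N))
    (hker.symm ▸ hNc) hperf.1
    (by rw [hker]; exact hNcard)
  exact Agent.Spor.Fi23Thompson.Main.main d hd ψ hgood hnwc S A hA

end Cfsg.Agent.S5455
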