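import Cfsg.Statements.S5459
import Cfsg.Agent.Lib.Spor.ThreeLayer

set_option autoImplicit false
open Cfsg
open scoped commutatorElement

namespace Cfsg.Agent.S5459

/-- Let G be a finite group with a quasisimple normal subgroup L and an involution d such that G is generated by L and d, the centre of L has odd order, and d inverts every element of the centre of L. If the commuting graph on the conjugacy class of the image of d in G modulo the centre of L is connected, then the commuting graph on the conjugacy class of d is connected. -/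
theorem result {G : Type*} [Group G] [Finite G] (L : Subgroup G) [L.Normal] (hL : Cfsg.IsQuasisimple ↥L) (d : G) (hd : orderOf d = 2) (hgen : L ⊔ Subgroup.zpowers d = ⊤) (hodd : Odd (Nat.card ↥(Subgroup.center ↥L))) (hinv : ∀ c ∈ (Subgroup.center ↥L).map L.subtype, d * c * d⁻¹ = c⁻¹) [hn : ((Subgroup.center ↥L).map L.subtype).Normal] (hconn : (Cfsg.commutingGraph (conjugatesOf (QuotientGroup.mk d : G ⧸ (Subgroup.center ↥L).map L.subtype))).Connected) : (Cfsg.commutingGraph (conjugatesOf d)).Connected := by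
  set Z := (Subgroup.center ↥L).map L.subtype with hZ
  set D := conjugatesOf d with hD
  have hdd := Spor.mul_self_of_order_two hd
  have hmemD : ∀ g : G, g * d * g⁻¹ ∈ D := fun g => isConj_iff.2 ⟨g, rfl⟩
  have hDinv : ∀ g : G, ∀ x ∈ D, g * x * g⁻¹ ∈ D := by
    intro g x hx
    obtain ⟨k, rfl⟩ := isConj_iff.1 hx
    rw [show g * (k * d * k⁻¹) * g⁻¹ = g * k * d * (g * k)⁻¹ by group]
    exact hmemD _
  have hinvall : ∀ e ∈ D, ∀ c ∈ Z, e * c * e⁻¹ = c⁻¹ := by
    intro e he c hc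
    obtain ⟨g, rfl⟩ := isConj_iff.1 he
    have h1 := hinv _ (hn.conj_mem c hc g⁻¹)
    rw [inv_inv] at h1
    calc g * d * g⁻¹ * c * (g * d * g⁻¹)⁻¹ = g * (d * (g⁻¹ * c * g) * d⁻¹) * g⁻¹ := by group
      _ = c⁻¹ := by rw [h1]; group
  have hsq : ∀ z ∈ Z, ∃ c ∈ Z, c * c = z := by
    rintro _ ⟨w, hw, rfl⟩
    obtain ⟨k, hk⟩ := hodd
    refine ⟨L.subtype (w ^ (k + 1)), ⟨_, pow_mem hw _, rfl⟩, ?_⟩
    rw [← map_mul, ← pow_add]
    congr 1
    have h1 : (⟨w, hw⟩ : Subgroup.center L) ^ Nat.card (Subgroup.center L) = 1 := pow_card_eq_one'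
    rw [hk] at h1
    have h2 : w ^ (2 * k + 1) = 1 := congrArg Subtype.val h1
    rw [show k + 1 + (k + 1) = 2 * k + 1 + 1 by omega, pow_succ, h2, one_mul]
  let r : G → G → Prop := Relation.ReflTransGen fun x y => x ∈ D ∧ y ∈ D ∧ Commute x y
  have rinv : ∀ (g : G) x y, r x y → r (g * x * g⁻¹) (g * y * g⁻¹) := fun g x y h =>
    Relation.ReflTransGen.lift (fun z => g * z * g⁻¹)
      (fun p q (hpq : p ∈ D ∧ q ∈ D ∧ Commute p q) =>
        ⟨hDinv g p hpq.1, hDinv g q hpq.2.1, (Commute.conj_iff g).2 hpq.2.2⟩) x y h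
  have rsymm : ∀ x y, r x y → r y x := fun x y h => by
    induction h with
    | refl => exact Relation.ReflTransGen.refl
    | tail _ hpq ih => exact Relation.ReflTransGen.head ⟨hpq.2.1, hpq.1, hpq.2.2.symm⟩ ih
  have rtrans : ∀ {x y z}, r x y → r y z → r x z := fun h h' => Relation.ReflTransGen.trans h h'
  let H : Subgroup G :=
    { carrier := {g | r d (g * d * g⁻¹)}
      mul_mem' := fun {g h} hg hh => by
        show r d (g * h * d * (g * h)⁻¹)
        rw [show g * h * d * (g * h)⁻¹ = g * (h * d * h⁻¹) * g⁻¹ by group]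
        exact rtrans hg (rinv g _ _ hh)
      one_mem' := by
        show r d (1 * d * 1⁻¹)
        rw [one_mul, inv_one, mul_one]
      inv_mem' := fun {g} hg => by
        show r d (g⁻¹ * d * g⁻¹⁻¹)
        have h1 := rinv g⁻¹ _ _ hg
        rw [show g⁻¹ * (g * d * g⁻¹) * g⁻¹⁻¹ = d by group] at h1
        exact rsymm _ _ h1 }
  have lift : ∀ x y : conjugatesOf (QuotientGroup.mk d : G ⧸ Z),
      (Cfsg.commutingGraph (conjugatesOf (QuotientGroup.mk d : G ⧸ Z))).Walk x y →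
      (∃ e ∈ D, r d e ∧ (QuotientGroup.mk e : G ⧸ Z) = x) → ∃ e ∈ D, r d e ∧ (QuotientGroup.mk e : G ⧸ Z) = y := by
    intro x y w
    induction w with
    | nil => exact id
    | @cons u v t hadj _ ih =>
      rintro ⟨e, he, hre, heu⟩
      refine ih ?_
      rw [Cfsg.commutingGraph, SimpleGraph.fromRel_adj] at hadj
      have hc : Commute (u : G ⧸ Z) v := hadj.2.elim id fun e => e.symm
      obtain ⟨q, hq⟩ := isConj_iff.1 v.2
      obtain ⟨g, rfl⟩ := QuotientGroup.mk'_surjective Z q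
      have he' : (QuotientGroup.mk (g * d * g⁻¹) : G ⧸ Z) = v := hq
      set e' := g * d * g⁻¹ with he'd
      have hz : e'⁻¹ * (e * e' * e⁻¹) ∈ Z := by
        rw [← QuotientGroup.eq_one_iff, QuotientGroup.mk_mul, QuotientGroup.mk_mul, QuotientGroup.mk_mul,
          QuotientGroup.mk_inv, QuotientGroup.mk_inv, heu, he', hc.eq, mul_inv_cancel_right, inv_mul_cancel]
      obtain ⟨c, hcZ, hcc⟩ := hsq _ hz
      obtain ⟨c₁, hc₁, hc₁c⟩ := hsq _ (inv_mem hcZ)
      have hc2 : c₁ * e' * c₁⁻¹ = e' * c := by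
        have h1 := hinvall e' (hmemD g) _ hc₁
        have hee : e' * e' = 1 := by rw [he'd]; calc g * d * g⁻¹ * (g * d * g⁻¹) = g * (d * d) * g⁻¹ := by group
                                                    _ = 1 := by rw [hdd, mul_one, mul_inv_cancel]
        calc c₁ * e' * c₁⁻¹ = e' * (e' * c₁ * e'⁻¹) * c₁⁻¹ := by
              rw [inv_eq_of_mul_eq_one_right hee]; simp only [← mul_assoc, hee, one_mul]
          _ = e' * (c₁ * c₁)⁻¹ := by rw [h1, mul_assoc, ← mul_inv_rev]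
          _ = e' * c := by rw [hc₁c, inv_inv]
      refine ⟨e' * c, hc2 ▸ hDinv _ _ (hmemD g), hre.tail ⟨he, hc2 ▸ hDinv _ _ (hmemD g), ?_⟩, ?_⟩
      · refine mul_inv_eq_iff_eq_mul.1 ?_
        calc e * (e' * c) * e⁻¹ = (e * e' * e⁻¹) * (e * c * e⁻¹) := by group
          _ = e' * (c * c) * c⁻¹ := by rw [hinvall e he c hcZ, hcc]; group
          _ = e' * c := by group
      · rw [QuotientGroup.mk_mul, he', (QuotientGroup.eq_one_iff c).2 hcZ, mul_one]
  have hHZ : H ⊔ Z = ⊤ := by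
    rw [eq_top_iff]
    intro g _
    obtain ⟨w⟩ := hconn.preconnected ⟨QuotientGroup.mk d, IsConj.refl _⟩
      ⟨QuotientGroup.mk (g * d * g⁻¹), isConj_iff.2 ⟨QuotientGroup.mk g, rfl⟩⟩
    obtain ⟨e, he, hre, hee⟩ := lift _ _ w ⟨d, IsConj.refl d, Relation.ReflTransGen.refl, rfl⟩
    obtain ⟨k, rfl⟩ := isConj_iff.1 he
    have hk : k ∈ H := hre
    have hz : (k * d * k⁻¹)⁻¹ * (g * d * g⁻¹) ∈ Z := QuotientGroup.eq.1 hee
    have hz' := hn.conj_mem _ hz k⁻¹
    obtain ⟨c, hcZ, hcc⟩ := hsq _ (inv_mem hz')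
    -- conjugation by `c` moves `d` to the required member
    have h1 := hinv c hcZ
    have hfix : c⁻¹ * k⁻¹ * g ∈ H := by
      show r d (c⁻¹ * k⁻¹ * g * d * (c⁻¹ * k⁻¹ * g)⁻¹)
      have e1 : c * d * c⁻¹ = k⁻¹ * (g * d * g⁻¹) * k := by
        calc c * d * c⁻¹ = d * (d⁻¹ * c * d) * c⁻¹ := by group
          _ = d * (c⁻¹ * c⁻¹) := by
            rw [show d⁻¹ * c * d = d * c * d⁻¹ by rw [Spor.inv_of_order_two hd], h1, mul_assoc]
          _ = d * (c * c)⁻¹ := by rw [mul_inv_rev]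
          _ = k⁻¹ * (g * d * g⁻¹) * k := by rw [hcc]; group
      have e2 : c⁻¹ * k⁻¹ * g * d * (c⁻¹ * k⁻¹ * g)⁻¹ = d := by
        calc c⁻¹ * k⁻¹ * g * d * (c⁻¹ * k⁻¹ * g)⁻¹ = c⁻¹ * (k⁻¹ * (g * d * g⁻¹) * k) * c := by group
          _ = d := by rw [← e1]; group
      rw [e2]
    rw [show g = k * (c * (c⁻¹ * k⁻¹ * g)) by group]
    exact mul_mem (Subgroup.mem_sup_left hk)
      (mul_mem (Subgroup.mem_sup_right hcZ) (Subgroup.mem_sup_left hfix))
  have hLH : L ≤ H := by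
    conv_lhs => rw [← Solv.qs_self_commutator hL]
    refine Subgroup.commutator_le.2 fun x hx y hy => ?_
    have dec : ∀ x ∈ L, ∃ h ∈ H, h ∈ L ∧ ∃ z ∈ Z, x = h * z := by
      intro x hx
      have hm : x ∈ H ⊔ Z := hHZ ▸ Subgroup.mem_top x
      obtain ⟨h, hh, z, hz, rfl⟩ := Subgroup.mem_sup_of_normal_right.1 hm
      refine ⟨h, hh, ?_, z, hz, rfl⟩
      have hzL : z ∈ L := Subgroup.map_subtype_le _ hz
      simpa using mul_mem hx (inv_mem hzL)
    obtain ⟨h, hh, hhL, z, hz, rfl⟩ := dec x hx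
    obtain ⟨h', hh', hh'L, z', hz', rfl⟩ := dec y hy
    have hcom : ∀ z ∈ Z, ∀ a ∈ L, Commute z a := by
      rintro _ ⟨w, hw, rfl⟩ a ha
      exact congrArg Subtype.val (Subgroup.mem_center_iff.1 hw ⟨a, ha⟩).symm
    have e : ⁅h * z, h' * z'⁆ = ⁅h, h'⁆ := by
      have a1 := hcom z hz
      have a2 := hcom z' hz'
      rw [commutatorElement_def, commutatorElement_def]
      calc h * z * (h' * z') * (h * z)⁻¹ * (h' * z')⁻¹
          = h * (z * (h' * z')) * z⁻¹ * h⁻¹ * z'⁻¹ * h'⁻¹ := by group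
        _ = h * (h' * z') * h⁻¹ * z'⁻¹ * h'⁻¹ := by rw [(a1 _ hy).eq]; group
        _ = h * h' * h⁻¹ * (z' * z'⁻¹) * h'⁻¹ := by
            rw [show h * (h' * z') * h⁻¹ = h * h' * (z' * h⁻¹) by group, (a2 _ (inv_mem hhL)).eq]; group
        _ = _ := by group
    rw [e, commutatorElement_def]
    exact mul_mem (mul_mem (mul_mem hh hh') (inv_mem hh)) (inv_mem hh')
  have hH : H = ⊤ := by
    rw [eq_top_iff, ← hHZ]
    exact sup_le le_rfl ((Subgroup.map_subtype_le _).trans hLH)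
  have hreach : ∀ x y, r x y → ∀ (hx : x ∈ D) (hy : y ∈ D),
      (Cfsg.commutingGraph D).Reachable ⟨x, hx⟩ ⟨y, hy⟩ := by
    intro x y h
    induction h with
    | refl => intro hx hy; exact SimpleGraph.Reachable.refl _
    | @tail p q _ hpq ih =>
      intro hx hy
      refine (ih hx hpq.1).trans ?_
      by_cases he : p = q
      · subst he; exact SimpleGraph.Reachable.refl _
      · refine SimpleGraph.Adj.reachable ?_
        rw [Cfsg.commutingGraph, SimpleGraph.fromRel_adj]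
        exact ⟨fun e => he (congrArg Subtype.val e), Or.inl hpq.2.2⟩
  haveI : Nonempty D := ⟨⟨d, IsConj.refl d⟩⟩
  refine ⟨fun x y => hreach x y ?_ x.2 y.2⟩
  obtain ⟨g, hg⟩ := isConj_iff.1 x.2
  obtain ⟨k, hk⟩ := isConj_iff.1 y.2
  have m : ∀ t : G, r d (t * d * t⁻¹) := fun t => by
    have ht : t ∈ H := by rw [hH]; exact Subgroup.mem_top t
    exact ht
  rw [← hg, ← hk]
  exact rtrans (rsymm _ _ (m g)) (m k)

end Cfsg.Agent.S5459
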