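import Cfsg.Statements.S5463
import Cfsg.Agent.Lib.Spor.M22UTriples

set_option autoImplicit false
open Cfsg

namespace Cfsg.Agent.S5463

/-- Let G be a finite group with trivial centre generated by a conjugation-invariant set D of 3-transpositions on which it acts primitively, such that for some d in D the subgroup generated by the members of D other than d commuting with d has central largest normal 2- and 3-subgroups, and suppose G with D is of type M(22). A product j of two distinct commuting members of D determines the pair: any two 2-element sets of commuting members of D with product j coincide. A product j of three distinct pairwise commuting members of D arises from exactly two such 3-element sets. -/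
theorem result {G : Type*} [Group G] [Finite G] {D : Set G} (hD : Cfsg.IsThreeTranspositionGroup D) (hprim : Cfsg.IsPrimitiveUnderConj D) (d₀ : G) (hd₀ : d₀ ∈ D) (h3 : Cfsg.pCore 3 ↥(Subgroup.closure {y : G | y ∈ D ∧ y ≠ d₀ ∧ Commute d₀ y}) ≤ Subgroup.center ↥(Subgroup.closure {y : G | y ∈ D ∧ y ≠ d₀ ∧ Commute d₀ y})) (h2 : Cfsg.pCore 2 ↥(Subgroup.closure {y : G | y ∈ D ∧ y ≠ d₀ ∧ Commute d₀ y}) ≤ Subgroup.center ↥(Subgroup.closure {y : G | y ∈ D ∧ y ≠ d₀ ∧ Commute d₀ y})) (h22 : Cfsg.IsOfTypeM22 G D) : (∀ (j : G) (l l' : List G), (l.Nodup ∧ l.length = 2 ∧ (∀ a ∈ l, a ∈ D) ∧ (∀ a ∈ l, ∀ b ∈ l, Commute a b) ∧ l.prod = j) → (l'.Nodup ∧ l'.length = 2 ∧ (∀ a ∈ l', a ∈ D) ∧ (∀ a ∈ l', ∀ b ∈ l', Commute a b) ∧ l'.prod = j) → (∀ x : G, x ∈ l ↔ x ∈ l')) ∧ ∀ (j : G) (l₀ : List G), (l₀.Nodup ∧ l₀.length = 3 ∧ (∀ a ∈ l₀, a ∈ D) ∧ (∀ a ∈ l₀, ∀ b ∈ l₀, Commute a b) ∧ l₀.prod = j) → ∃ l₁ l₂ : List G, (l₁.Nodup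 ∧ l₁.length = 3 ∧ (∀ a ∈ l₁, a ∈ D) ∧ (∀ a ∈ l₁, ∀ b ∈ l₁, Commute a b) ∧ l₁.prod = j) ∧ (l₂.Nodup ∧ l₂.length = 3 ∧ (∀ a ∈ l₂, a ∈ D) ∧ (∀ a ∈ l₂, ∀ b ∈ l₂, Commute a b) ∧ l₂.prod = j) ∧ ¬ (∀ x : G, x ∈ l₁ ↔ x ∈ l₂) ∧ ∀ l : List G, (l.Nodup ∧ l.length = 3 ∧ (∀ a ∈ l, a ∈ D) ∧ (∀ a ∈ l, ∀ b ∈ l, Commute a b) ∧ l.prod = j) → ((∀ x : G, x ∈ l ↔ x ∈ l₁) ∨ (∀ x : G, x ∈ l ↔ x ∈ l₂)) := by
  constructor
  · rintro j l l' ⟨hn, hlen, hmem, hcom, rfl⟩ ⟨hn', hlen', hmem', hcom', hp⟩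
    match l, hlen, l', hlen' with
    | [a, b], _, [c, d], _ =>
      simp only [List.nodup_cons, List.mem_cons, List.not_mem_nil, or_false, List.nodup_nil, and_true,
        not_false_eq_true] at hn hn'
      simp only [List.prod_cons, List.prod_nil, mul_one] at hp
      intro x
      exact (Cfsg.Agent.Spor.M22U.Triples.pair_eq hD hprim h22 (hmem a (by simp)) (hmem b (by simp))
        (hmem' c (by simp)) (hmem' d (by simp)) hn hn' (hcom a (by simp) b (by simp)) (hcom' c (by simp) d (by simp))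
        hp.symm x).symm
  · rintro j l₀ ⟨hn, hlen, hmem, hcom, rfl⟩
    match l₀, hlen with
    | [a, b, c], _ =>
      obtain ⟨l₂, ⟨⟨g1, g2, g3⟩, g4, g5⟩, hne, hall⟩ :=
        Cfsg.Agent.Spor.M22U.Triples.triples hD hprim h22 (a := a) (b := b) (c := c) ⟨hn, hmem, hcom⟩
      refine ⟨[a, b, c], l₂, ⟨hn, rfl, hmem, hcom, rfl⟩, ⟨g1, g4, g2, g3, by rw [g5]; simp [mul_assoc]⟩, hne, ?_⟩
      rintro l ⟨k1, k2, k3, k4, k5⟩
      match l, k2 with
      | [p, q, r], _ => exact hall p q r ⟨k1, k3, k4⟩ (by simpa [mul_assoc] using k5)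

end Cfsg.Agent.S5463
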