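import Cfsg.Statements.S5472
import Cfsg.Agent.Lib.Spor.M22UOutSp
import Cfsg.Agent.Lib.Spor.M22UOutL
import Cfsg.Agent.Lib.Spor.M22UOutFuse

set_option autoImplicit false
open Cfsg

namespace Cfsg.Agent.S5472

open Cfsg.Agent.Spor.CC Cfsg.Agent.Spor.Fi22Cert Cfsg.Agent.Spor.Fi22Cert.U62Act Cfsg.Agent.Spor.M22U
open Cfsg.Agent.Spor.M22U.Cent
open Cfsg.Agent.Spor.M22U.Outv
open Cfsg.Agent.Lead.Fi22Two (bb zz)
open Cfsg.Agent.Lead.Fi22Two.Aut (MA cj)

theorem congr_cj {G : Type*} [Group G] (e : pres.Grp ≃* G) (g : pres.Grp) :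
    MulAut.congr e (cj g) = MulAut.conj (e g) := by
  ext x
  show e (g * e.symm x * g⁻¹) = e g * x * (e g)⁻¹
  rw [map_mul, map_mul, map_inv, e.apply_symm_apply]

theorem fix_map {G : Type*} [Group G] (e : pres.Grp ≃* G) (ψ : MA) (g : G) :
    g ∈ (fixG ψ).map e.toMonoidHom ↔ MulAut.congr e ψ g = g := by
  show g ∈ (fixG ψ).map e.toMonoidHom ↔ e (ψ (e.symm g)) = g
  constructor
  · rintro ⟨x, hx, rfl⟩
    show e (ψ (e.symm (e x))) = e x
    rw [e.symm_apply_apply, show ψ x = x from hx]
  · intro h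
    exact ⟨e.symm g, e.injective (h.trans (e.apply_symm_apply g).symm), e.apply_symm_apply g⟩

theorem pCore_equiv {A B : Type*} [Group A] [Group B] [Finite A] [Finite B] (f : A ≃* B) :
    (Cfsg.pCore 2 A).map f.toMonoidHom = Cfsg.pCore 2 B :=
  le_antisymm (Cfsg.Agent.Lead.Fi22Two.pCore_map_le f) fun y hy =>
    ⟨f.symm y, Cfsg.Agent.Lead.Fi22Two.pCore_map_le f.symm ⟨y, hy, rfl⟩, f.apply_symm_apply y⟩

/-- Let G be a finite group with trivial centre generated by a conjugation-invariant set D of 3-transpositions on which it acts primitively, such that for some d in D the subgroup generated by the members of D other than d commuting with d has central largest normal 2- and 3-subgroups, and suppose G with D is of type M(22). Then G has a non-inner automorphism s of order 2 whose fixed-point subgroup is isomorphic to the full automorphism group of Ω⁺(8, 2) (the commutator subgroup of the isometry group of the hyperbolic quadratic form in dimension 8 over the field with two elements),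 together with distinct commuting members a, b of D fixed by s such that: s, s composed with conjugation by a, and s composed with conjugation by a b represent the three classes (under the automorphism group) of non-inner automorphisms of order 2; the elements fixed by the automorphism s composed with conjugation by a are exactly those fixed by s and commuting with a, and they form a group isomorphic to the direct product of a group of order 2 and the symplectic group of dimension 6 over the field with two elements; and the elements fixed by the automorphism s composed with conjugation by a b form a group whose largest normal 2-subgroup is elementary abelian of order 64 with quotient isomorphic to the full isometry group of the elliptic quadratic form in dimension 6 over the field with two elements. -/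
theorem result {G : Type*} [Group G] [Finite G] {D : Set G} (hD : Cfsg.IsThreeTranspositionGroup D) (hprim : Cfsg.IsPrimitiveUnderConj D) (d₀ : G) (hd₀ : d₀ ∈ D) (h3 : Cfsg.pCore 3 ↥(Subgroup.closure {y : G | y ∈ D ∧ y ≠ d₀ ∧ Commute d₀ y}) ≤ Subgroup.center ↥(Subgroup.closure {y : G | y ∈ D ∧ y ≠ d₀ ∧ Commute d₀ y})) (h2 : Cfsg.pCore 2 ↥(Subgroup.closure {y : G | y ∈ D ∧ y ≠ d₀ ∧ Commute d₀ y}) ≤ Subgroup.center ↥(Subgroup.closure {y : G | y ∈ D ∧ y ≠ d₀ ∧ Commute d₀ y})) (h22 : Cfsg.IsOfTypeM22 G D) : ∃ (s : MulAut G) (a b : G) (Cs : Subgroup G), orderOf s = 2 ∧ s ∉ (MulAut.conj : G →* MulAut G).range ∧ (∀ g : G, g ∈ Cs ↔ s g = g) ∧ Nonempty (↥Cs ≃* MulAut (Cfsg.Omega (ZMod 2) (Cfsg.quadFormPlus 4 (ZMod 2)))) ∧ a ∈ D ∧ b ∈ D ∧ a ≠ b ∧ Commute a b ∧ s a = a ∧ s b = b ∧ (∀ t : MulAut G, orderOf t = 2 → t ∉ (MulAut.conj : G →* MulAut G).range → (IsConj t s ∨ IsConj t (s * MulAut.conj a) ∨ IsConj t (s * MulAut.conj (a * b)))) ∧ ¬ IsConj s (s * MulAut.conj a) ∧ ¬ IsConj s (s * MulAut.conj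 (a * b)) ∧ ¬ IsConj (s * MulAut.conj a) (s * MulAut.conj (a * b)) ∧ (∀ g : G, (s * MulAut.conj a) g = g ↔ g ∈ Cs ⊓ Subgroup.centralizer ({a} : Set G)) ∧ Nonempty (↥(Cs ⊓ Subgroup.centralizer ({a} : Set G)) ≃* Multiplicative (ZMod 2) × Cfsg.PSp 3 (ZMod 2)) ∧ ∃ Csab O : Subgroup G, (∀ g : G, g ∈ Csab ↔ (s * MulAut.conj (a * b)) g = g) ∧ O = (Cfsg.pCore 2 ↥Csab).map Csab.subtype ∧ Cfsg.IsElementaryAbelian 2 O ∧ Nat.card O = 64 ∧ ∃ _ : (O.subgroupOf Csab).Normal, Nonempty (↥Csab ⧸ O.subgroupOf Csab ≃* Cfsg.isometryGroup (ZMod 2) (Cfsg.quadFormMinus 2 (ZMod 2) 1 1)) := by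
  obtain ⟨e, he⟩ := Norm.iso_fi22 hD hprim h22
  have ha : e tA ∈ D := he ▸ ⟨_, Fischer.tA_mem, rfl⟩
  have hb : e bb ∈ D := he ▸ ⟨_, (Cent.dp 6).2, rfl⟩
  set E := MulAut.congr e with hE
  have hTT : ∀ g, E (TT g) = E SS * MulAut.conj (e g) := fun g => by
    rw [TT, map_mul, hE, congr_cj]
  have happ : ∀ x, E SS (e x) = e (SS x) := fun x => by
    show e (SS (e.symm (e x))) = e (SS x)
    rw [e.symm_apply_apply]
  have h0 : SS tA = tA := by
    rw [← Cfsg.Agent.Lead.Fi22Two.dp_zero, ← mem_fixG, fixG_pt (by norm_num), fix0_iff (by norm_num)]; decide +kernel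
  have h6 : SS bb = bb := by
    show SS (Cent.dp 6 : pres.Grp) = Cent.dp 6
    rw [← mem_fixG, fixG_pt (by norm_num), fix0_iff (by norm_num)]; decide +kernel
  have hzz : e zz = e tA * e bb := map_mul e tA bb
  have hinn : E SS ∉ (MulAut.conj : G →* MulAut G).range := by
    rintro ⟨g, hg⟩
    exact SS_outer ⟨e.symm g, E.injective (by rw [hE, congr_cj, e.apply_symm_apply]; exact hg)⟩
  refine ⟨E SS, e tA, e bb, (fixG SS).map e.toMonoidHom, ?_, hinn, fix_map e SS, ?_, ha, hb,
    fun h => Cfsg.Agent.Lead.Fi22Two.tA_ne_bb (e.injective h), Cfsg.Agent.Lead.Fi22Two.tA_bb.map e,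
    by rw [happ, h0], by rw [happ, h6], ?_, ?_, ?_, ?_, ?_, ?_, ?_⟩
  · refine orderOf_eq_prime ?_ fun h => hinn (h ▸ one_mem _)
    rw [pow_two, ← map_mul, SS_sq, map_one]
  · obtain ⟨⟨φ⟩, -, -⟩ := O8.I_facts hD hprim h22
    exact ⟨((fixG SS).equivMapOfInjective _ e.injective).symm.trans
      ((MulEquiv.subgroupCongr (I_eq hD hprim h22).symm).trans φ)⟩
  · intro t ht hout
    have hsq : E.symm t * E.symm t = 1 := by
      rw [← map_mul, ← pow_two, ← ht, pow_orderOf_eq_one, map_one]
    have ho : E.symm t ∉ Cfsg.Inn pres.Grp := by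
      rintro ⟨g, hg⟩
      refine hout ⟨e g, ?_⟩
      rw [← congr_cj, ← hE]
      exact (congrArg E hg).trans (E.apply_symm_apply t)
    have key : ∀ {x}, IsConj (E.symm t) x → IsConj t (E x) := fun {x} h => by
      have := MonoidHom.map_isConj E.toMonoidHom h
      rwa [show E.toMonoidHom (E.symm t) = t from E.apply_symm_apply t] at this
    rcases classes hD hprim h22 ho hsq with h | h | h
    · exact Or.inl (key h)
    · exact Or.inr (Or.inl (hTT tA ▸ key h))
    · exact Or.inr (Or.inr (by rw [← hzz, ← hTT]; exact key h))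
  · rw [← hTT]
    intro h
    have := MonoidHom.map_isConj E.symm.toMonoidHom h
    exact not_conj.1 (by simpa using this)
  · rw [← hzz, ← hTT]
    intro h
    have := MonoidHom.map_isConj E.symm.toMonoidHom h
    exact not_conj.2.1 (by simpa using this)
  · rw [← hzz, ← hTT, ← hTT]
    intro h
    have := MonoidHom.map_isConj E.symm.toMonoidHom h
    exact not_conj.2.2 (by simpa using this)
  · intro g
    rw [← hTT, ← fix_map e (TT tA)]
    constructor
    · rintro ⟨x, hx, rfl⟩
      obtain ⟨h1, h2⟩ := fixG_TA.mp hx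
      exact ⟨⟨x, h1, rfl⟩, Subgroup.mem_centralizer_singleton_iff.mpr (h2.map e).eq⟩
    · rintro ⟨⟨x, hx, rfl⟩, hc⟩
      refine ⟨x, fixG_TA.mpr ⟨hx, e.injective ?_⟩, rfl⟩
      rw [map_mul, map_mul]
      exact Subgroup.mem_centralizer_singleton_iff.mp hc
  · have hmap : (fixG SS ⊓ Subgroup.centralizer ({tA} : Set pres.Grp)).map e.toMonoidHom =
        (fixG SS).map e.toMonoidHom ⊓ Subgroup.centralizer ({e tA} : Set G) := by
      ext g
      constructor
      · rintro ⟨x, ⟨h1, h2⟩, rfl⟩
        refine ⟨⟨x, h1, rfl⟩, Subgroup.mem_centralizer_singleton_iff.mpr ?_⟩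
        show e x * e tA = e tA * e x
        rw [← map_mul, ← map_mul, Subgroup.mem_centralizer_singleton_iff.mp h2]
      · rintro ⟨⟨x, h1, rfl⟩, h2⟩
        refine ⟨x, ⟨h1, Subgroup.mem_centralizer_singleton_iff.mpr (e.injective ?_)⟩, rfl⟩
        rw [map_mul, map_mul]
        exact Subgroup.mem_centralizer_singleton_iff.mp h2
    obtain ⟨φ⟩ := C_iso hD hprim h22
    exact ⟨(MulEquiv.subgroupCongr hmap.symm).trans
      ((Subgroup.equivMapOfInjective _ _ e.injective).symm.trans φ)⟩
  · obtain ⟨θ, hθ, hker, ⟨hcomm, hexp⟩, hcard⟩ := KK_structure hD hprim h22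
    haveI := order.1
    set C := KK.map e.toMonoidHom with hC
    let f : ↥KK ≃* ↥C := Subgroup.equivMapOfInjective _ _ e.injective
    have hk : Cfsg.pCore 2 ↥C = (θ.comp f.symm.toMonoidHom).ker := by
      rw [← pCore_equiv f, ← hker, Subgroup.map_equiv_eq_comap_symm', MonoidHom.comap_ker]
    refine ⟨C, (Cfsg.pCore 2 ↥C).map C.subtype, fun g => ?_, rfl, ⟨⟨⟨?_⟩⟩, ?_⟩, ?_, ?_⟩
    · rw [hC, KK_eq hD hprim h22, fix_map, ← hE, hTT, hzz]
    · rintro ⟨_, x, hx, rfl⟩ ⟨_, y, hy, rfl⟩
      have hm : ∀ {x}, x ∈ Cfsg.pCore 2 ↥C → f.symm x ∈ θ.ker := fun h => by rw [hk] at h; exact h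
      have h1 := hcomm.is_comm.comm ⟨_, hm hx⟩ ⟨_, hm hy⟩
      have h2 : x * y = y * x := f.symm.injective (by rw [map_mul, map_mul]; exact congrArg Subtype.val h1)
      refine Subtype.ext ?_
      show C.subtype x * C.subtype y = C.subtype y * C.subtype x
      rw [← map_mul, h2, map_mul]
    · rintro _ ⟨x, hx, rfl⟩
      rw [hk] at hx
      rw [← map_pow, show x ^ 2 = 1 from f.symm.injective (by rw [map_pow, map_one]; exact hexp _ hx), map_one]
    · rw [Nat.card_congr ((Cfsg.pCore 2 ↥C).equivMapOfInjective _ C.subtype_injective).toEquiv.symm, ← pCore_equiv f,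
        Nat.card_congr ((Cfsg.pCore 2 ↥KK).equivMapOfInjective _ f.injective).toEquiv.symm, ← hker, hcard]
    · have hsub : ((Cfsg.pCore 2 ↥C).map C.subtype).subgroupOf C = (θ.comp f.symm.toMonoidHom).ker := by
        rw [Subgroup.subgroupOf, Subgroup.comap_map_eq_self_of_injective C.subtype_injective, hk]
      have hn : (((Cfsg.pCore 2 ↥C).map C.subtype).subgroupOf C).Normal := hsub ▸ MonoidHom.normal_ker _
      refine ⟨hn, ?_⟩
      haveI := hn
      exact ⟨(QuotientGroup.quotientMulEquivOfEq hsub).trans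
        (QuotientGroup.quotientKerEquivOfSurjective _ (hθ.comp f.symm.surjective))⟩

end Cfsg.Agent.S5472
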