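import Cfsg.Statements.S5520
import Cfsg.Agent.Lib.Spor.U43Main
import Cfsg.Agent.Lib.Local.FS.USixStabField

set_option autoImplicit false
open Cfsg

namespace Cfsg.Agent.S5520

open Cfsg.Agent.Spor

private theorem exists_iso (F : Type) [Field F] [Fintype F] (hF : Fintype.card F = 4) :
    Nonempty (F ≃+* SpFour.F4) :=
  ⟨FiniteField.ringEquivOfCardEq (by rw [hF, SpFour.F4.card])⟩

private theorem spec_map {G G' : Type*} [Group G] [Group G'] (e : G ≃* G') (K : Subgroup G) {P : Type*} [Group P]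
    (h : Nat.card (Subgroup.center K) = 3 ∧ Nonempty (K ⧸ Subgroup.center K ≃* P)) :
    Nat.card (Subgroup.center (K.map e.toMonoidHom)) = 3 ∧
      Nonempty (↥(K.map e.toMonoidHom) ⧸ Subgroup.center (K.map e.toMonoidHom) ≃* P) := by
  obtain ⟨hc, ⟨i⟩⟩ := h
  let f : K ≃* ↥(K.map e.toMonoidHom) := Subgroup.equivMapOfInjective K e.toMonoidHom e.injective
  refine ⟨by rw [← Nat.card_congr (Subgroup.centerCongr f).toEquiv, hc], ?_⟩
  have hm : (Subgroup.center K).map f.toMonoidHom = Subgroup.center ↥(K.map e.toMonoidHom) := by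
    ext y
    constructor
    · rintro ⟨x, hx, rfl⟩
      refine Subgroup.mem_center_iff.mpr fun w => ?_
      obtain ⟨v, rfl⟩ := f.surjective w
      show f v * f x = f x * f v
      rw [← map_mul, ← map_mul, Subgroup.mem_center_iff.mp hx v]
    · intro hy
      refine ⟨f.symm y, Subgroup.mem_center_iff.mpr fun v => f.injective ?_, f.apply_symm_apply y⟩
      rw [map_mul, map_mul, f.apply_symm_apply]
      exact Subgroup.mem_center_iff.mp hy _
  exact ⟨(QuotientGroup.congr _ _ f hm).symm.trans i⟩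

private theorem map_conj {G G' : Type*} [Group G] [Group G'] (e : G ≃* G') (K : Subgroup G) (g : G) :
    (K.map (MulAut.conj g).toMonoidHom).map e.toMonoidHom =
      (K.map e.toMonoidHom).map (MulAut.conj (e g)).toMonoidHom := by
  rw [Subgroup.map_map, Subgroup.map_map]
  congr 1
  ext x
  simp

/-- In the special unitary group of dimension 6 over the field with four elements (determinant-one matrices preserving the standard Hermitian form), the subgroups K whose centre has order 3 with K modulo its centre isomorphic to the projective special unitary group of dimension 4 over the field with nine elements fall into exactly three conjugacy classes. -/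
theorem result (F : Type) [Field F] [Fintype F] (hF : Fintype.card F = 4) (F9 : Type) [Field F9] [Fintype F9] (hF9 : Fintype.card F9 = 9) : ∃ K₁ K₂ K₃ : Subgroup ↥(Cfsg.SU 6 F 2), (∀ K ∈ [K₁, K₂, K₃], Nat.card ↥(Subgroup.center ↥K) = 3 ∧ Nonempty (↥K ⧸ Subgroup.center ↥K ≃* Cfsg.PSU 4 F9 3)) ∧ (¬ ∃ g : ↥(Cfsg.SU 6 F 2), K₁.map (MulAut.conj g).toMonoidHom = K₂) ∧ (¬ ∃ g : ↥(Cfsg.SU 6 F 2), K₁.map (MulAut.conj g).toMonoidHom = K₃) ∧ (¬ ∃ g : ↥(Cfsg.SU 6 F 2), K₂.map (MulAut.conj g).toMonoidHom = K₃) ∧ ∀ K : Subgroup ↥(Cfsg.SU 6 F 2), Nat.card ↥(Subgroup.center ↥K) = 3 → Nonempty (↥K ⧸ Subgroup.center ↥K ≃* Cfsg.PSU 4 F9 3) → ∃ g : ↥(Cfsg.SU 6 F 2), K.map (MulAut.conj g).toMonoidHom = K₁ ∨ K.map (MulAut.conj g).toMonoidHom = K₂ ∨ K.map (MulAut.conj g).toMonoidHom = K₃ := by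
  obtain ⟨φ⟩ := exists_iso F hF
  let e : ↥(Cfsg.SU 6 F 2) ≃* SUSix.G6 := Local.FS.USixStab.suEquiv φ
  have hee : ∀ L : Subgroup SUSix.G6, (L.map e.symm.toMonoidHom).map e.toMonoidHom = L := fun L => by
    rw [Subgroup.map_map]
    conv_rhs => rw [← Subgroup.map_id L]
    congr 1
    ext x
    simp
  have hinj : ∀ {A B : Subgroup ↥(Cfsg.SU 6 F 2)}, A.map e.toMonoidHom = B.map e.toMonoidHom → A = B :=
    fun h => Subgroup.map_injective e.injective h
  have hnot : ∀ i j : Fin 3, i < j → ¬ ∃ g : ↥(Cfsg.SU 6 F 2),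
      ((U43.Kc i).map e.symm.toMonoidHom).map (MulAut.conj g).toMonoidHom = (U43.Kc j).map e.symm.toMonoidHom := by
    rintro i j hij ⟨g, hg⟩
    have h := congrArg (Subgroup.map e.toMonoidHom) hg
    rw [map_conj, hee, hee] at h
    exact U43.not_conj hij (e g) h
  refine ⟨(U43.Kc 0).map e.symm.toMonoidHom, (U43.Kc 1).map e.symm.toMonoidHom,
    (U43.Kc 2).map e.symm.toMonoidHom, fun K hK => ?_, hnot 0 1 (by decide), hnot 0 2 (by decide),
    hnot 1 2 (by decide), fun K hc hi => ?_⟩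
  · simp only [List.mem_cons, List.not_mem_nil, or_false] at hK
    rcases hK with rfl | rfl | rfl <;> exact spec_map e.symm _ (U43.Kc_spec F9 _ hF9)
  · obtain ⟨hc', hi'⟩ := spec_map e K ⟨hc, hi⟩
    obtain ⟨g, j, hj, h⟩ := U43.three_classes F9 hF9 hc' hi'
    refine ⟨e.symm g, ?_⟩
    have key : K.map (MulAut.conj (e.symm g)).toMonoidHom = (U43.Kc j).map e.symm.toMonoidHom :=
      hinj (by rw [map_conj, hee, e.apply_symm_apply, h])
    interval_cases j
    · exact Or.inl key
    · exact Or.inr (Or.inl key)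
    · exact Or.inr (Or.inr key)

end Cfsg.Agent.S5520
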