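import Cfsg.Statements.S5521
import Cfsg.Agent.Lib.Spor.GolaySix

set_option autoImplicit false
open Cfsg

namespace Cfsg.Agent.S5521

/-- The Mathieu group M₂₄ in its natural action on the 24 coordinate positions of the binary Golay code has minimal base size exactly 7: every set of at most 6 positions is fixed pointwise by some non-identity element of M₂₄, while some set of 7 positions is fixed pointwise only by the identity. -/
theorem result :
    (∀ B : Finset Cfsg.GolayPt, B.card ≤ 6 → ∃ g ∈ Cfsg.M24, g ≠ 1 ∧ ∀ b ∈ B, g b = b) ∧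
    (∃ B : Finset Cfsg.GolayPt, B.card = 7 ∧ ∀ g ∈ Cfsg.M24, (∀ b ∈ B, g b = b) → g = 1) := by
  constructor
  · intro B hB
    obtain ⟨E, hBE, hE⟩ := Finset.exists_superset_card_eq hB (by
      show 6 ≤ Fintype.card GolayPt
      rw [show Fintype.card GolayPt = 24 from rfl]
      norm_num)
    have hc : 1 < Nat.card (Spor.fixM E) := by
      rw [Spor.card_fixM_six hE]; split <;> norm_num
    have : Nontrivial (Spor.fixM E) := Finite.one_lt_card_iff_nontrivial.1 hc
    obtain ⟨⟨g, hg⟩, hne⟩ := exists_ne (1 : Spor.fixM E)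
    obtain ⟨hM, hfix⟩ := Spor.mem_fixM.1 hg
    exact ⟨g, hM, fun h => hne (Subtype.ext h), fun b hb => hfix b (hBE hb)⟩
  · refine ⟨Spor.ofMask (Spor.listMask Spor.chainBase), by decide +kernel, fun g hg h => Spor.fix_seven ?_⟩
    refine Spor.mem_fixL.2 ⟨hg, fun p hp => h p ?_⟩
    rw [Spor.mem_ofMask, Spor.testBit_listMask]
    exact hp

end Cfsg.Agent.S5521
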