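import Cfsg.Statements.S5522
import Cfsg.Agent.Lib.Spor.GolayElemPairs

set_option autoImplicit false
open Cfsg

namespace Cfsg.Agent.S5522

open scoped Pointwise

/-- The Mathieu group M₁₁, realised as the stabiliser of one point of the dodecad of squares inside the stabiliser M₁₂ of that dodecad in M₂₄, acts on the twelve coordinate positions outside the dodecad of squares (its 3-transitive action of degree 12); in this action every element of prime order fixes a point, i.e. the action is elusive. -/
theorem result (g : Equiv.Perm Cfsg.GolayPt) (hg : g ∈ Cfsg.Spor.M11) (hord : (orderOf g).Prime) :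
    ∃ x : Cfsg.GolayPt, x ∉ Cfsg.Spor.squareDodecad ∧ g x = x := by
  have hg0 : g ∈ Cfsg.Spor.M11 := hg
  obtain ⟨⟨hgM, hgd⟩, -⟩ := hg
  set d := Cfsg.Spor.squareDodecad with hddef
  have hgd' : g • d = d := hgd
  have hmem : ∀ p, p ∈ dᶜ ↔ g p ∈ dᶜ := fun p => by
    rw [Finset.mem_compl, Finset.mem_compl]
    nth_rewrite 2 [← hgd']
    rw [← Equiv.Perm.smul_def, Finset.smul_mem_smul_finset_iff]
  have hd : d ∈ Cfsg.dodecads := by
    rw [Spor.mem_dodecads, show Spor.mask d = Spor.mask Cfsg.Spor.squareDodecad from rfl]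
    decide +kernel
  by_contra hcon
  push Not at hcon
  have hsub : Spor.fixSet g ⊆ d := fun p hp => by
    by_contra h
    exact hcon p h (Finset.mem_filter.1 hp).2
  haveI := Fact.mk hord
  have hdvd : orderOf g ∣ 12 := by
    by_contra hnd
    let π : Equiv.Perm {p // p ∈ dᶜ} := g.subtypePerm fun p => (hmem p).symm
    obtain ⟨⟨p, hp⟩, hfix⟩ := Equiv.Perm.exists_fixed_point_of_prime (p := orderOf g) (n := 1)
      (σ := π) (by rwa [Fintype.card_coe, Finset.card_compl, hd.2,
        show Fintype.card Cfsg.GolayPt = 24 from rfl]) (by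
        ext ⟨q, hq⟩
        simp [π, pow_orderOf_eq_one])
    exact hcon p (Finset.mem_compl.1 hp) (congrArg Subtype.val hfix)
  have h23 : orderOf g = 2 ∨ orderOf g = 3 := by
    have hle := Nat.le_of_dvd (by norm_num) hdvd
    revert hdvd hord
    generalize orderOf g = n at hle ⊢
    intro hn hdvd
    interval_cases n <;> norm_num at *
  have hcase : (Spor.fixSet g).card = 0 → False := fun h0 => by
    have hfree := (Spor.free_iff g).2 h0
    obtain ⟨-, h0'⟩ := hg0
    exact hfree (some 0) h0'
  rcases h23 with h | h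
  · rcases Spor.invol_by_fix hgM h with ⟨h0, -⟩ | ⟨h8, ho, -⟩
    · exact hcase h0
    · have hw := Spor.supports_symmDiff hd.1 ho.1
      have hc := Spor.card_symmDiff_add d (Spor.fixSet g)
      rw [Finset.inter_eq_right.2 hsub, hd.2, h8] at hc
      have := Spor.code_weight_ge hw (fun e => by rw [e] at hc; simp at hc)
      omega
  · rcases Spor.three_by_fix hgM h with ⟨h0, -⟩ | ⟨h6, -⟩
    · exact hcase h0
    · exact Spor.six_not_subset hgM h h6 hd hgd' hsub

end Cfsg.Agent.S5522
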