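import Cfsg.Statements.S5541

set_option autoImplicit false
open Cfsg

namespace Cfsg.Agent.S5541

/-- Let ρ be a representation of a group H on a finite-dimensional real vector space U whose only ρ-invariant subspaces are the zero subspace and U, and suppose U carries a non-zero ρ-invariant symmetric bilinear form. Then the following are equivalent: (1) there is a non-zero ρ-equivariant commutative bilinear product on U of which every ρ-equivariant bilinear product is a scalar multiple; (2) there is a non-zero ρ-invariant trilinear form on U that is symmetric under all permutations of its arguments and of which every ρ-invariant trilinear form is a scalar multiple. -/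
theorem result {H : Type*} [Group H] {U : Type*} [AddCommGroup U] [Module ℝ U] [FiniteDimensional ℝ U] (ρ : Representation ℝ H U) (hirr : ∀ W : Submodule ℝ U, (∀ g : H, W.map (ρ g) ≤ W) → W = ⊥ ∨ W = ⊤) (B : LinearMap.BilinForm ℝ U) (hB0 : B ≠ 0) (hBs : ∀ u v, B u v = B v u) (hBi : ∀ (g : H) (u v : U), B (ρ g u) (ρ g v) = B u v) : (∃ m : U →ₗ[ℝ] U →ₗ[ℝ] U, m ≠ 0 ∧ (∀ u v, m u v = m v u) ∧ (∀ (g : H) (u v : U), m (ρ g u) (ρ g v) = ρ g (m u v)) ∧ ∀ m' : U →ₗ[ℝ] U →ₗ[ℝ] U, (∀ (g : H) (u v : U), m' (ρ g u) (ρ g v) = ρ g (m' u v)) → ∃ c : ℝ, m' = c • m) ↔ (∃ t : U →ₗ[ℝ] U →ₗ[ℝ] U →ₗ[ℝ] ℝ, t ≠ 0 ∧ (∀ u v w, t u v w = t v u w ∧ t u v w = t u w v) ∧ (∀ (g : H) (u v w : U), t (ρ g u) (ρ g v) (ρ g w) = t u v w) ∧ ∀ t' : U →ₗ[ℝ] U →ₗ[ℝ] U →ₗ[ℝ] ℝ, (∀ (g : H) (u v w : U), t' (ρ g u) (ρ g v) (ρ g w) = t' u v w) → ∃ c : ℝ, t' = c • t) := by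
  -- the form is nondegenerate
  have hinv : ∀ (g : H) (u : U), ρ g (ρ g⁻¹ u) = u := fun g u => by
    rw [← Module.End.mul_apply, ← map_mul, mul_inv_cancel, map_one, Module.End.one_apply]
  have hker : LinearMap.ker B = ⊥ := by
    rcases hirr (LinearMap.ker B) (fun g => by
      rintro _ ⟨u, hu, rfl⟩
      rw [SetLike.mem_coe, LinearMap.mem_ker] at hu
      refine LinearMap.ext fun v => ?_
      rw [← hinv g v, hBi, hu]; rfl) with h | h
    · exact h
    · exact absurd (LinearMap.ker_eq_top.1 h) hB0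
  have hinj : Function.Injective B := LinearMap.ker_eq_bot.1 hker
  have hsurj : Function.Surjective B :=
    (LinearMap.injective_iff_surjective_of_finrank_eq_finrank Subspace.dual_finrank_eq.symm).1 hinj
  let e : U ≃ₗ[ℝ] Module.Dual ℝ U := LinearEquiv.ofBijective B ⟨hinj, hsurj⟩
  have he : ∀ (t : Module.Dual ℝ U) (w : U), B (e.symm t) w = t w := fun t w => by
    show e (e.symm t) w = t w
    rw [e.apply_symm_apply]
  have hext : ∀ {x y : U}, (∀ w, B x w = B y w) → x = y := fun h => hinj (LinearMap.ext h)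
  -- passage between products and forms
  have fwd : ∀ m : U →ₗ[ℝ] U →ₗ[ℝ] U, (∀ (g : H) (u v : U), m (ρ g u) (ρ g v) = ρ g (m u v)) →
      ∀ (g : H) (u v w : U), (m.compr₂ B) (ρ g u) (ρ g v) (ρ g w) = (m.compr₂ B) u v w := by
    intro m hm g u v w
    simp only [LinearMap.compr₂_apply]
    rw [hm, hBi]
  let back : (U →ₗ[ℝ] U →ₗ[ℝ] U →ₗ[ℝ] ℝ) → (U →ₗ[ℝ] U →ₗ[ℝ] U) := fun t => t.compr₂ e.symm.toLinearMap
  have hback : ∀ t u v w, B (back t u v) w = t u v w := fun t u v w => he _ w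
  have bwd : ∀ t : U →ₗ[ℝ] U →ₗ[ℝ] U →ₗ[ℝ] ℝ,
      (∀ (g : H) (u v w : U), t (ρ g u) (ρ g v) (ρ g w) = t u v w) →
      ∀ (g : H) (u v : U), back t (ρ g u) (ρ g v) = ρ g (back t u v) := by
    intro t ht g u v
    refine hext fun w => ?_
    rw [hback]
    conv_rhs => rw [← hinv g w, hBi, hback]
    rw [← ht g u v, hinv]
  constructor
  · rintro ⟨m, hm0, hms, hme, hmu⟩
    have hc : ∀ t : U →ₗ[ℝ] U →ₗ[ℝ] U →ₗ[ℝ] ℝ,
        (∀ (g : H) (u v w : U), t (ρ g u) (ρ g v) (ρ g w) = t u v w) →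
        ∃ c : ℝ, ∀ u v w, t u v w = c * B (m u v) w := by
      intro t ht
      obtain ⟨c, hc⟩ := hmu _ (bwd t ht)
      refine ⟨c, fun u v w => ?_⟩
      rw [← hback, hc]; simp
    have hne : ∃ u v w, B (m u v) w ≠ 0 := by
      by_contra h
      push_neg at h
      exact hm0 (LinearMap.ext fun u => LinearMap.ext fun v => hext fun w => by simp [h u v w])
    let t' : U →ₗ[ℝ] U →ₗ[ℝ] U →ₗ[ℝ] ℝ :=
      LinearMap.mk₂ ℝ (fun u v => (LinearMap.flip ((m.compr₂ B) u)) v)
        (fun a b c => by ext; simp) (fun r a b => by ext; simp)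
        (fun a b c => by ext; simp) (fun r a b => by ext; simp)
    have ht'app : ∀ u v w, t' u v w = B (m u w) v := fun u v w => by simp [t']
    obtain ⟨c, hflip⟩ := hc t' (fun g u v w => by rw [ht'app, ht'app, hme, hBi])
    obtain ⟨u₀, v₀, w₀, h0⟩ := hne
    have hf : ∀ u v w, B (m u w) v = c * B (m u v) w := fun u v w => by rw [← ht'app, hflip]
    have h12 : ∀ u v w, B (m u v) w = B (m v u) w := fun u v w => by rw [hms]
    have hc2 : c * c = 1 := by
      have := hf u₀ w₀ v₀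
      rw [hf u₀ v₀ w₀, ← mul_assoc] at this
      exact (mul_eq_right₀ h0).1 this.symm
    have hc3 : c * (c * c) = 1 := by
      have h : B (m u₀ v₀) w₀ = c * (c * c) * B (m u₀ v₀) w₀ := by
        calc B (m u₀ v₀) w₀ = c * B (m u₀ w₀) v₀ := hf u₀ w₀ v₀
          _ = c * (c * B (m w₀ v₀) u₀) := by rw [h12 u₀ w₀, hf w₀ v₀ u₀]
          _ = c * (c * (c * B (m v₀ u₀) w₀)) := by rw [h12 w₀ v₀, hf v₀ u₀ w₀]
          _ = c * (c * c) * B (m u₀ v₀) w₀ := by rw [h12 v₀ u₀]; ring
      exact (mul_eq_right₀ h0).1 h.symm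
    rw [hc2, mul_one] at hc3
    refine ⟨m.compr₂ B, ?_, fun u v w => ⟨?_, ?_⟩, fwd m hme, fun t ht => ?_⟩
    · intro h
      exact h0 (by simpa using LinearMap.congr_fun (LinearMap.congr_fun (LinearMap.congr_fun h u₀) v₀) w₀)
    · simp only [LinearMap.compr₂_apply]; exact h12 u v w
    · simp only [LinearMap.compr₂_apply]; rw [hf u v w, hc3, one_mul]
    · obtain ⟨c', hc'⟩ := hc t ht
      exact ⟨c', LinearMap.ext fun u => LinearMap.ext fun v => LinearMap.ext fun w => by simp [hc' u v w]⟩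
  · rintro ⟨t, ht0, hts, hte, htu⟩
    refine ⟨back t, ?_, fun u v => hext fun w => by rw [hback, hback]; exact (hts u v w).1, bwd t hte,
      fun m' hm' => ?_⟩
    · intro h
      refine ht0 (LinearMap.ext fun u => LinearMap.ext fun v => LinearMap.ext fun w => ?_)
      rw [← hback, h]; simp
    · obtain ⟨c, hc⟩ := htu _ (fwd m' hm')
      refine ⟨c, LinearMap.ext fun u => LinearMap.ext fun v => hext fun w => ?_⟩
      have := LinearMap.congr_fun (LinearMap.congr_fun (LinearMap.congr_fun hc u) v) w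
      simp only [LinearMap.compr₂_apply, LinearMap.smul_apply] at this
      rw [this, ← hback]; simp


end Cfsg.Agent.S5541
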