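import Cfsg.Statements.S5543
import Cfsg.Agent.Lib.Spor.Majorana

set_option autoImplicit false
open Cfsg

namespace Cfsg.Agent.S5543

/-- Let V be a finite-dimensional real vector space with a commutative bilinear product and a positive-definite symmetric bilinear form that associates with the product and satisfies the Norton inequality (the Majorana setting of the definitions). Let X be a group of linear automorphisms of V in which every element squares to the identity, and suppose every non-identity element x of X is a Majorana involution with an axial vector a(x) of squared length 1, such that for any two distinct non-identity x, y the product a(x) ∘ a(y) equals (1/8)(a(x) + a(y) − a(xy)) (the dihedral subalgebra of type 2A whose third axis belongs to the involution xy). Then X has order at most 4. -/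
theorem result {V : Type*} [AddCommGroup V] [Module ℝ V] [FiniteDimensional ℝ V] (mul : V →ₗ[ℝ] V →ₗ[ℝ] V) (B : LinearMap.BilinForm ℝ V) (hV : Cfsg.Axial.IsMajoranaAmbient mul B) (X : Subgroup (V ≃ₗ[ℝ] V)) (hX : ∀ x ∈ X, x * x = 1) (ax : (V ≃ₗ[ℝ] V) → V) (hax : ∀ x ∈ X, x ≠ 1 → Cfsg.Axial.IsMajoranaPair mul B x (ax x)) (h1 : ∀ x ∈ X, x ≠ 1 → B (ax x) (ax x) = 1) (h2A : ∀ x ∈ X, ∀ y ∈ X, x ≠ 1 → y ≠ 1 → x ≠ y → mul (ax x) (ax y) = (1 / 8 : ℝ) • (ax x + ax y - ax (x * y))) : Nat.card ↥X ≤ 4 := by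
  have hV' := hV
  obtain ⟨hcm, hsym, -, hass, -⟩ := hV'
  by_contra hlt
  push_neg at hlt
  have : Finite ↥X := Nat.finite_of_card_ne_zero (by omega)
  have : Fintype ↥X := Fintype.ofFinite _
  rw [Nat.card_eq_fintype_card] at hlt
  classical
  have pick : ∀ s : Finset ↥X, s.card ≤ 4 → ∃ x, x ∉ s := fun s hs => by
    obtain ⟨x, -, hx⟩ := Finset.exists_mem_notMem_of_card_lt_card (t := Finset.univ) (s := s)
      (by rw [Finset.card_univ]; omega)
    exact ⟨x, hx⟩
  obtain ⟨⟨x, hx⟩, hx1⟩ := pick {1} (by simp)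
  obtain ⟨⟨y, hy⟩, hy1⟩ := pick {1, ⟨x, hx⟩} (Finset.card_le_two.trans (by norm_num))
  obtain ⟨⟨z, hz⟩, hz1⟩ := pick {1, ⟨x, hx⟩, ⟨y, hy⟩, ⟨x * y, mul_mem hx hy⟩} Finset.card_le_four
  simp only [Finset.mem_insert, Finset.mem_singleton, not_or, Subtype.ext_iff, Subgroup.coe_one] at hx1 hy1 hz1
  have hinv : ∀ u ∈ X, u⁻¹ = u := fun u hu => inv_eq_of_mul_eq_one_right (hX u hu)
  have hcomm : ∀ u ∈ X, ∀ v ∈ X, u * v = v * u := fun u hu v hv => by
    have := hinv (u * v) (mul_mem hu hv)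
    rw [mul_inv_rev, hinv u hu, hinv v hv] at this
    exact this.symm
  have hne : ∀ u ∈ X, ∀ v : V ≃ₗ[ℝ] V, u ≠ v → u * v ≠ 1 := fun u hu v h e =>
    h ((hinv u hu).symm.trans (inv_eq_of_mul_eq_one_right e))
  have hxx : ∀ v : V ≃ₗ[ℝ] V, x * (x * v) = v := fun v => by rw [← mul_assoc, hX x hx, one_mul]
  obtain ⟨hy1, hyx⟩ := hy1
  obtain ⟨hz1, hzx, hzy, hzxy⟩ := hz1
  have hxy : x * y ∈ X := mul_mem hx hy
  have hxz : x * z ∈ X := mul_mem hx hz
  have hyz : y * z ∈ X := mul_mem hy hz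
  have nxy : x * y ≠ 1 := hne x hx y (Ne.symm hyx)
  have nxz : x * z ≠ 1 := hne x hx z (Ne.symm hzx)
  have nyz : y * z ≠ 1 := hne y hy z (Ne.symm hzy)
  have nxyz : x * (y * z) ≠ 1 := hne x hx _ fun e => hzxy (by
    rw [e, hcomm y hy z hz, mul_assoc, hX y hy, mul_one])
  have c1 : y * (x * z) = x * (y * z) := by rw [← mul_assoc, hcomm y hy x hx, mul_assoc]
  have c2 : x * y * z = x * (y * z) := mul_assoc _ _ _
  have c3 : x * y * (x * z) = y * z := by rw [hcomm x hx y hy, mul_assoc, hxx]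
  have k := Cfsg.Agent.Spor.no_eight (B := B) hV (ha := (hax x hx hx1).2.2.1)
    (e1 := h2A x hx y hy hx1 hy1 (Ne.symm hyx))
    (e2 := by
      have := h2A x hx (x * y) hxy hx1 nxy (fun e => hy1 (by simpa using e.symm))
      rwa [hxx] at this)
    (e3 := h2A x hx z hz hx1 hz1 (Ne.symm hzx))
    (e4 := by
      have := h2A x hx (x * z) hxz hx1 nxz (fun e => hz1 (by simpa using e.symm))
      rwa [hxx] at this)
    (e5 := h2A x hx (y * z) hyz hx1 nyz (fun e => nxyz (by rw [← e, hX x hx])))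
    (e6 := by
      have := h2A x hx (x * (y * z)) (mul_mem hx hyz) hx1 nxyz (fun e => nyz (by simpa using e.symm))
      rwa [hxx] at this)
    (f1 := h2A y hy z hz hy1 hz1 (Ne.symm hzy))
    (f2 := by
      have := h2A y hy (x * z) hxz hy1 nxz (fun e => hzxy (by rw [e, hxx]))
      rwa [c1] at this)
    (f3 := by
      have := h2A (x * y) hxy z hz nxy hz1 (Ne.symm hzxy)
      rwa [c2] at this)
    (f4 := by
      have := h2A (x * y) hxy (x * z) hxz nxy nxz (fun e => hzy (mul_left_cancel e).symm)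
      rwa [c3] at this)
  -- equal axes give inner product one
  have hd : ∀ u ∈ X, ∀ v ∈ X, u ≠ 1 → v ≠ 1 → u ≠ v → B (ax u) (ax v) ≠ 1 := by
    intro u hu v hv hu1 hv1 huv e
    have huw : u ≠ u * v := fun e => hv1 (by simpa using e.symm)
    have hid : ∀ w ∈ X, w ≠ 1 → mul (ax w) (ax w) = ax w := fun w hw hw1 => (hax w hw hw1).2.2.1.1.2.1
    have r1 : B (ax u) (mul (ax u) (ax v)) = B (ax u) (ax v) := by rw [hass, hid u hu hu1]
    have r2 : B (ax u) (mul (ax u) (ax (u * v))) = B (ax u) (ax (u * v)) := by rw [hass, hid u hu hu1]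
    rw [h2A u hu v hv hu1 hv1 huv] at r1
    rw [h2A u hu _ (mul_mem hu hv) hu1 (hne u hu v huv) huw, ← mul_assoc, hX u hu, one_mul] at r2
    simp only [map_smul, map_add, map_sub, smul_eq_mul, h1 u hu hu1, e] at r1 r2
    linarith
  refine hd _ hyz _ (mul_mem hx hyz) nyz nxyz (fun e => hx1 (by simpa using e.symm)) ?_
  rw [← k]
  exact h1 _ hyz nyz


end Cfsg.Agent.S5543
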