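import Cfsg.Statements.S5555
import Cfsg.Agent.Lib.Spor.ThreeSUGroup
import Cfsg.Agent.Lib.Spor.ThreeBasic
import Cfsg.Agent.Lib.Solv.Coprime
import Cfsg.Agent.Lib.Solv.Cores

set_option autoImplicit false
open Cfsg

namespace Cfsg.Agent.S5555

/-- Let G be a finite group generated by a conjugacy class D of 3-transpositions, with trivial centre and with generalized Fitting subgroup F*(G) = O₂(G) (so the Fitting subgroup is O₂(G) too). If G/O₂(G) is isomorphic to the derived group of SU₃(2) (the group of order 54 generated by nine 3-transpositions), then O₂(G) has a complement in G. -/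
theorem result {G : Type*} [Group G] [Finite G] {D : Set G} (hD : Cfsg.IsThreeTranspositionClass D)
    (hZ : Subgroup.center G = ⊥) (hF : Cfsg.generalizedFittingSubgroup G = Cfsg.pCore 2 G)
    (hq : ∃ (F : Type) (_ : Field F) (_ : Fintype F), Fintype.card F = 4 ∧ Nonempty (G ⧸ Cfsg.pCore 2 G ≃* ↥(commutator ↥(Cfsg.SU 3 F 2)))) :
    ∃ K : Subgroup G, (Cfsg.pCore 2 G).IsComplement' K := by
  classical
  obtain ⟨F, _, _, hF4, ⟨e⟩⟩ := hq
  obtain ⟨hcard, a', b', c', hgen, ha', hb', hc', hane, hab', hac', hbc', hab3, hac3, hbc3, -, -, -, hconj⟩ :=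
    Cfsg.Agent.Spor.ThreeSU.exists_triple hF4
  obtain ⟨hset, ⟨d, hd, hDd⟩, hDgen⟩ := hD
  haveI : (Cfsg.pCore 2 G).Normal := Cfsg.Agent.Solv.pCore_normal 2
  set O := Cfsg.pCore 2 G with hO
  let f : G →* ↥(commutator ↥(Cfsg.SU 3 F 2)) := e.toMonoidHom.comp (QuotientGroup.mk' O)
  have hfs : Function.Surjective f := e.surjective.comp (QuotientGroup.mk'_surjective O)
  have hfk : ∀ x, f x = 1 ↔ x ∈ O := fun x => by
    show e (QuotientGroup.mk x) = 1 ↔ _
    rw [MulEquiv.map_eq_one_iff, QuotientGroup.eq_one_iff]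
  have hd2 : d * d = 1 := Cfsg.Agent.Spor.mul_self_of_order_two (hset.1 d hd)
  have hfd : f d ≠ 1 := by
    intro h
    have hall : ∀ x, f x = 1 := by
      intro x
      have : x ∈ (f.ker : Subgroup G) := by
        have hle : Subgroup.closure D ≤ f.ker := by
          rw [Subgroup.closure_le]
          intro y hy
          rw [hDd] at hy
          obtain ⟨g, hg⟩ := isConj_iff.1 hy
          show f y = 1
          rw [← hg, map_mul, map_mul, h, mul_one, map_inv, mul_inv_cancel]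
        exact hle (hDgen ▸ Subgroup.mem_top x)
      exact this
    obtain ⟨x, hx⟩ := hfs a'
    exact hane (hx ▸ hall x)
  have hlift : ∀ t, t * t = 1 → t ≠ 1 → ∃ y ∈ D, f y = t := by
    intro t ht ht1
    obtain ⟨g1, hg1⟩ := (hconj (f d) (by rw [← map_mul, hd2, map_one])).resolve_left hfd
    obtain ⟨g2, hg2⟩ := (hconj t ht).resolve_left ht1
    obtain ⟨g, hg⟩ := hfs (g2 * g1⁻¹)
    refine ⟨g * d * g⁻¹, hDd ▸ (isConj_iff.2 ⟨g, rfl⟩ : IsConj d (g * d * g⁻¹)), ?_⟩
    rw [map_mul, map_mul, map_inv, hg, ← hg1, ← hg2]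
    group
  obtain ⟨a, haD, hfa⟩ := hlift a' ha' hane
  obtain ⟨b, hbD, hfb⟩ := hlift b' hb' (fun h => hab' (by
    exfalso
    rw [h, mul_one] at hab3
    have : a' = 1 := by rw [← hab3, pow_succ, pow_two, ha', one_mul]
    exact hane this))
  obtain ⟨c, hcD, hfc⟩ := hlift c' hc' (fun h => hac' (by
    exfalso
    rw [h, mul_one] at hac3
    have : a' = 1 := by rw [← hac3, pow_succ, pow_two, ha', one_mul]
    exact hane this))
  have hsq : ∀ x ∈ D, x * x = 1 := fun x hx => Cfsg.Agent.Spor.mul_self_of_order_two (hset.1 x hx)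
  have hbraid : ∀ x ∈ D, ∀ y ∈ D, f x * f y ≠ 1 → (f x * f y) ^ 3 = 1 → (x * y) ^ 3 = 1 ∧ x * y * x = y * x * y := by
    intro x hx y hy h1 h3
    have hn : ¬ Commute x y := fun hc => h1 (by
      have h2 : (f x * f y) ^ 2 = 1 := by
        rw [← map_mul, ← map_pow, hc.mul_pow, pow_two, pow_two, hsq x hx, hsq y hy, mul_one, map_one]
      rwa [pow_succ, h2, one_mul] at h3)
    have hbr := (Cfsg.Agent.Spor.commute_or_braid hset hx hy).resolve_left hn
    refine ⟨?_, hbr⟩
    calc (x * y) ^ 3 = (x * y * x) * (y * x * y) := by rw [pow_succ, pow_two]; group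
      _ = (y * x * y) * (y * x * y) := by rw [hbr]
      _ = y * x * (y * y) * x * y := by group
      _ = 1 := by rw [hsq y hy, mul_one, mul_assoc y x x, hsq x hx, mul_one, hsq y hy]
  obtain ⟨-, bab⟩ := hbraid a haD b hbD (by rw [hfa, hfb]; exact hab') (by rw [hfa, hfb]; exact hab3)
  obtain ⟨-, bac⟩ := hbraid a haD c hcD (by rw [hfa, hfc]; exact hac') (by rw [hfa, hfc]; exact hac3)
  obtain ⟨bc3, bbc⟩ := hbraid b hbD c hcD (by rw [hfb, hfc]; exact hbc') (by rw [hfb, hfc]; exact hbc3)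
  have ai : a⁻¹ = a := Cfsg.Agent.Spor.inv_of_order_two (hset.1 a haD)
  have bi : b⁻¹ = b := Cfsg.Agent.Spor.inv_of_order_two (hset.1 b hbD)
  have ci : c⁻¹ = c := Cfsg.Agent.Spor.inv_of_order_two (hset.1 c hcD)
  have haa : ∀ u, a * (a * u) = u := fun u => by rw [← mul_assoc, hsq a haD, one_mul]
  have hbb : ∀ u, b * (b * u) = u := fun u => by rw [← mul_assoc, hsq b hbD, one_mul]
  have hcc : ∀ u, c * (c * u) = u := fun u => by rw [← mul_assoc, hsq c hcD, one_mul]
  have rab : ∀ u, a * (b * (a * u)) = b * (a * (b * u)) := fun u => by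
    rw [← mul_assoc, ← mul_assoc, bab]; group
  have rac : ∀ u, a * (c * (a * u)) = c * (a * (c * u)) := fun u => by
    rw [← mul_assoc, ← mul_assoc, bac]; group
  have rbc : ∀ u, b * (c * (b * u)) = c * (b * (c * u)) := fun u => by
    rw [← mul_assoc, ← mul_assoc, bbc]; group
  set t1 := a * (b * (c * b)) with ht1
  set t2 := c * (a * (c * b)) with ht2
  have hc12 : c * t1 * c⁻¹ = t2 := by
    rw [ci, ht1, ht2]
    simp only [mul_assoc]
    rw [show b * (c * (b * c)) = c * (b * (c * c)) from rbc c, hsq c hcD, mul_one]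
  have hc21 : c * t2 * c⁻¹ = t1 := by
    rw [ci, ht1, ht2]
    simp only [mul_assoc, hcc]
    congr 1
    rw [show b * (c * b) = c * (b * c) by rw [← mul_assoc, bbc, mul_assoc]]
  have hcomm : t1 * t2 = t2 * t1 := by
    rw [ht1, ht2]
    simp only [mul_assoc]
    -- both sides are the square of `a c b`
    have l : b * (c * (b * (c * (a * (c * b))))) = c * (b * (a * (c * b))) := by rw [rbc, hcc]
    have r : c * (a * (c * (b * (a * (b * (c * b)))))) = a * (c * (b * (a * (c * b)))) := by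
      rw [← rac, ← rab, haa]
    rw [l, r]
  have hb1 : b * t1 * b⁻¹ = t1 * t2⁻¹ := by
    rw [ht1, ht2, bi, mul_inv_rev, mul_inv_rev, mul_inv_rev, ai, bi, ci]
    simp only [mul_assoc, hcc, hbb]
    rw [← rab, show c * (b * b) = c by rw [hsq b hbD, mul_one]]
  have hb2 : b * t2 * b⁻¹ = t2⁻¹ := by
    rw [ht2, bi, mul_inv_rev, mul_inv_rev, mul_inv_rev, ai, bi, ci]
    simp only [mul_assoc, hsq b hbD, mul_one]
  set T := Subgroup.zpowers t1 ⊔ Subgroup.zpowers t2 with hT
  set S := Subgroup.zpowers (b * c) ⊔ Subgroup.zpowers b with hS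
  have hcard_sup : ∀ N K : Subgroup G, K ≤ Subgroup.normalizer (N : Set G) →
      Nat.card (N ⊔ K : Subgroup G) ≤ Nat.card N * Nat.card K := fun N K h => by
    rw [← Cfsg.Agent.Solv.card_sup_mul_card_inf' N K h]
    exact Nat.le_mul_of_pos_right _ Nat.card_pos
  have hord : ∀ x ∈ D, ∀ y ∈ D, Nat.card (Subgroup.zpowers (x * y)) ≤ 3 := fun x hx y hy => by
    rw [Nat.card_zpowers]
    rcases hset.2 x hx y hy with h | h
    · exact (Nat.le_of_dvd (by norm_num) (orderOf_dvd_of_pow_eq_one h)).trans (by norm_num)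
    · exact Nat.le_of_dvd (by norm_num) (orderOf_dvd_of_pow_eq_one h)
  have hconjD : ∀ g, ∀ x ∈ D, g * x * g⁻¹ ∈ D := fun g x hx => by
    rw [hDd] at hx ⊢
    exact IsConj.trans (hx : IsConj d x) (isConj_iff.2 ⟨g, rfl⟩ : IsConj x (g * x * g⁻¹))
  have hT9 : Nat.card T ≤ 9 := by
    refine (hcard_sup _ _ ?_).trans (le_trans (Nat.mul_le_mul (?_ : _ ≤ 3) (?_ : _ ≤ 3)) le_rfl)
    · rw [Subgroup.zpowers_le]
      refine Subgroup.centralizer_le_normalizer (s := ((Subgroup.zpowers t1 : Subgroup G) : Set G)) ?_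
      rw [Subgroup.mem_centralizer_iff]
      rintro _ ⟨n, rfl⟩
      exact ((Commute.zpow_left hcomm n)).eq
    · have := hord a haD _ (hconjD b c hcD)
      rwa [bi, show a * (b * c * b) = t1 by rw [ht1]; group] at this
    · have := hord _ (hconjD c a haD) b hbD
      rwa [ci, show c * a * c * b = t2 by rw [ht2]; group] at this
  have hTn : ∀ g, g * t1 * g⁻¹ ∈ T → g * t2 * g⁻¹ ∈ T → g * g = 1 → g ∈ Subgroup.normalizer (T : Set G) := by
    intro g h1 h2 hg
    have hle : T ≤ T.comap (MulAut.conj g).toMonoidHom := by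
      rw [hT, sup_le_iff, Subgroup.zpowers_le, Subgroup.zpowers_le, ← hT]
      exact ⟨h1, h2⟩
    rw [Subgroup.mem_normalizer_iff]
    intro x
    constructor
    · exact fun hx => hle hx
    · intro hx
      have h3 : g * (g * x * g⁻¹) * g⁻¹ ∈ T := hle hx
      rwa [show g * (g * x * g⁻¹) * g⁻¹ = (g * g) * x * (g * g)⁻¹ by group, hg, one_mul, inv_one, mul_one] at h3
  have m1 : t1 ∈ T := Subgroup.mem_sup_left (Subgroup.mem_zpowers _)
  have m2 : t2 ∈ T := Subgroup.mem_sup_right (Subgroup.mem_zpowers _)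
  have hnb : b ∈ Subgroup.normalizer (T : Set G) :=
    hTn b (hb1.symm ▸ mul_mem m1 (inv_mem m2)) (hb2.symm ▸ inv_mem m2) (hsq b hbD)
  have hnc : c ∈ Subgroup.normalizer (T : Set G) :=
    hTn c (hc12.symm ▸ m2) (hc21.symm ▸ m1) (hsq c hcD)
  have hS6 : Nat.card S ≤ 6 := by
    refine (hcard_sup _ _ ?_).trans (le_trans (Nat.mul_le_mul (hord b hbD c hcD) (?_ : _ ≤ 2)) le_rfl)
    · rw [Subgroup.zpowers_le, Subgroup.mem_normalizer_iff]
      have hinv : b * (b * c) * b⁻¹ = (b * c)⁻¹ := by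
        rw [mul_inv_rev, bi, ci, ← mul_assoc b b c, hsq b hbD, one_mul]
      intro x
      constructor
      · rintro ⟨n, rfl⟩
        refine ⟨-n, ?_⟩
        show (b * c) ^ (-n) = b * (b * c) ^ n * b⁻¹
        rw [← MulAut.conj_apply, map_zpow, MulAut.conj_apply, hinv, inv_zpow']
      · rintro ⟨n, hn⟩
        refine ⟨-n, ?_⟩
        show (b * c) ^ (-n) = x
        have hn' : (b * c) ^ n = b * x * b⁻¹ := hn
        rw [show x = b⁻¹ * (b * x * b⁻¹) * b by group, ← hn']
        have := MulAut.conj_apply b ((b * c) ^ n)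
        rw [map_zpow, MulAut.conj_apply, hinv, inv_zpow'] at this
        rw [this, bi]
    · rw [Nat.card_zpowers, hset.1 b hbD]
  have hSn : S ≤ Subgroup.normalizer (T : Set G) := by
    rw [hS, sup_le_iff, Subgroup.zpowers_le, Subgroup.zpowers_le]
    exact ⟨mul_mem hnb hnc, hnb⟩
  have h54 : Nat.card (T ⊔ S : Subgroup G) ≤ 54 :=
    (hcard_sup T S hSn).trans (Nat.mul_le_mul hT9 hS6)
  have hbS : b ∈ T ⊔ S := Subgroup.mem_sup_right (Subgroup.mem_sup_right (Subgroup.mem_zpowers _))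
  have hcS : c ∈ T ⊔ S := by
    have : b * (b * c) ∈ T ⊔ S := mul_mem hbS (Subgroup.mem_sup_right (Subgroup.mem_sup_left (Subgroup.mem_zpowers _)))
    rwa [← mul_assoc, hsq b hbD, one_mul] at this
  have haS : a ∈ T ⊔ S := by
    have : t1 * (b * c * b)⁻¹ ∈ T ⊔ S := mul_mem (Subgroup.mem_sup_left m1) (inv_mem (mul_mem (mul_mem hbS hcS) hbS))
    rwa [show t1 * (b * c * b)⁻¹ = a by rw [ht1]; group] at this
  let g : (T ⊔ S : Subgroup G) →* ↥(commutator ↥(Cfsg.SU 3 F 2)) := f.comp (T ⊔ S).subtype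
  have hgs : Function.Surjective g := by
    rw [← MonoidHom.range_eq_top, eq_top_iff, ← hgen, Subgroup.closure_le]
    rintro x (rfl | rfl | rfl)
    exacts [⟨⟨a, haS⟩, hfa⟩, ⟨⟨b, hbS⟩, hfb⟩, ⟨⟨c, hcS⟩, hfc⟩]
  have hgb : Function.Bijective g :=
    (Nat.bijective_iff_surjective_and_card g).2 ⟨hgs, le_antisymm (hcard.symm ▸ h54)
      (Nat.card_le_card_of_surjective g hgs)⟩
  refine ⟨T ⊔ S, Subgroup.isComplement'_of_disjoint_and_mul_eq_univ ?_ ?_⟩
  · rw [Subgroup.disjoint_def]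
    intro x hxO hxS
    have : g ⟨x, hxS⟩ = 1 := (hfk x).2 hxO
    exact congrArg Subtype.val (hgb.1 (this.trans (map_one g).symm))
  · rw [Set.eq_univ_iff_forall]
    intro x
    obtain ⟨s, hs⟩ := hgs (f x)
    refine ⟨x * (s : G)⁻¹, (hfk _).1 ?_, (s : G), s.2, inv_mul_cancel_right _ _⟩
    rw [map_mul, map_inv, ← hs]
    exact mul_inv_cancel _


end Cfsg.Agent.S5555
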