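import Cfsg.Statements.S5557
import Cfsg.Agent.Lib.Spor.ThreeTwoRadical
import Cfsg.Agent.Lib.Spor.UnitarySevenInvol
import Cfsg.Agent.Lib.Small.UCover.Main

set_option autoImplicit false
open Cfsg

namespace Cfsg.Agent.S5557

open Cfsg.Agent.Small Cfsg.Agent.Small.Unitary Cfsg.Agent.Spor Cfsg.Agent.Spor.UnitaryTrans

/-- A group without proper perfect central covers meets every finite central cover trivially in its
derived subgroup. -/
theorem stem_trivial {X : Type*} [Group X] [Finite X] {S : Type} [Group S] (hS : commutator S = ⊤)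
    (htriv : ∀ (Γ : Type) [Group Γ] [Finite Γ] (C : Small.SchurLifts.Central Γ S),
      commutator Γ = ⊤ → C.π.ker = ⊥)
    (ξ : X →* S) (hξ : Function.Surjective ξ) (hc : ξ.ker ≤ Subgroup.center X) :
    commutator X ⊓ ξ.ker = ⊥ := by
  set K := commutator X with hK
  have hmap : K.map ξ = ⊤ := by
    rw [hK, commutator_def, Subgroup.map_commutator, Subgroup.map_top_of_surjective _ hξ]; exact hS
  have hgen : Subgroup.closure (K : Set X) ⊔ Subgroup.center X = ⊤ := by
    rw [Subgroup.closure_eq, eq_top_iff]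
    intro x _
    obtain ⟨k, hk, hkx⟩ := (hmap.symm ▸ Subgroup.mem_top (ξ x) : ξ x ∈ K.map ξ)
    have h1 : k⁻¹ * x ∈ Subgroup.center X := hc (by rw [MonoidHom.mem_ker, map_mul, map_inv, hkx, inv_mul_cancel])
    rw [← mul_inv_cancel_left k x]
    exact mul_mem (Subgroup.mem_sup_left hk) (Subgroup.mem_sup_right h1)
  have hKK : K ≤ ⁅K, K⁆ := Solv.commutator_le_of_gen _ (K : Set X) hgen
    fun a ha b hb => Subgroup.commutator_mem_commutator ha hb
  have hperf : commutator ↥K = ⊤ := by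
    rw [eq_top_iff]
    intro x _
    have h1 : x.1 ∈ ⁅K, K⁆ := hKK x.2
    rw [← Subgroup.map_subtype_commutator] at h1
    obtain ⟨y, hy, e⟩ := h1
    rwa [← Subtype.ext e]
  let e : Shrink.{0} ↥K ≃* ↥K := Shrink.mulEquiv
  let C : Small.SchurLifts.Central (Shrink.{0} ↥K) S :=
    { π := (ξ.comp K.subtype).comp e.toMonoidHom
      surj := fun s => by
        obtain ⟨k, hk, hks⟩ := (hmap.symm ▸ Subgroup.mem_top s : s ∈ K.map ξ)
        exact ⟨e.symm ⟨k, hk⟩, by simpa using hks⟩
      central := fun x hx => Subgroup.mem_center_iff.2 fun y => e.injective (Subtype.ext (by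
        rw [map_mul, map_mul]
        exact Subgroup.mem_center_iff.1 (hc hx) ((e y : ↥K) : X))) }
  haveI : Finite (Shrink.{0} ↥K) := Finite.of_equiv _ e.symm.toEquiv
  have hperf' : commutator (Shrink.{0} ↥K) = ⊤ := by
    have h1 : (commutator ↥K).map e.symm.toMonoidHom = commutator (Shrink.{0} ↥K) := by
      rw [commutator_def, Subgroup.map_commutator, Subgroup.map_top_of_surjective _ e.symm.surjective]
      rfl
    rw [← h1, hperf, Subgroup.map_top_of_surjective _ e.symm.surjective]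
  have hker := htriv _ C hperf'
  rw [Subgroup.eq_bot_iff_forall] at hker ⊢
  rintro x ⟨hx1, hx2⟩
  have h2 := hker (e.symm ⟨x, hx1⟩) (by
    show ξ ((e (e.symm ⟨x, hx1⟩) : ↥K) : X) = 1
    rw [e.apply_symm_apply]; exact hx2)
  have h3 : (⟨x, hx1⟩ : ↥K) = 1 := by rw [← e.apply_symm_apply ⟨x, hx1⟩, h2, map_one]
  exact congrArg Subtype.val h3

/-- Let G be a finite group generated by a conjugacy class D of 3-transpositions, with trivial centre and with generalized Fitting subgroup F*(G) = O₂(G) (so the Fitting subgroup is O₂(G) too). If G/O₂(G) is isomorphic to SU₇(2), then O₂(G) is elementary abelian. No complement is asserted. -/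
theorem result {G : Type*} [Group G] [Finite G] {D : Set G} (hD : Cfsg.IsThreeTranspositionClass D)
    (hZ : Subgroup.center G = ⊥) (hF : Cfsg.generalizedFittingSubgroup G = Cfsg.pCore 2 G)
    (hq : ∃ (F : Type) (_ : Field F) (_ : Fintype F), Fintype.card F = 4 ∧ Nonempty (G ⧸ Cfsg.pCore 2 G ≃* ↥(Cfsg.SU 7 F 2))) :
    Cfsg.IsElementaryAbelian 2 (Cfsg.pCore 2 G) := by
  classical
  obtain ⟨F, _, _, hF4, ⟨e⟩⟩ := hq
  have hF2 : Fintype.card F = 2 ^ 2 := by rw [hF4]; norm_num
  obtain ⟨p, j, σ, -, -, -, -, hσ⟩ := Classical.exists_usigma hF2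
  letI : StarRing F := Small.Hermitian.starRingOfInvolution (σ : F →+* F) hσ.involutive
  have hstar : ∀ x : F, star x = x ^ 2 := fun x => hσ.apply_eq x
  haveI : CharP F 2 := by
    obtain ⟨p, hp⟩ := CharP.exists F
    obtain ⟨k, hpp, hk⟩ := FiniteField.card F p
    have h2 : p ∣ 4 := by rw [← hF4, hk]; exact dvd_pow_self p k.ne_zero
    have hp2 : p = 2 := (Nat.prime_dvd_prime_iff_eq hpp Nat.prime_two).1
      (Nat.Prime.dvd_of_dvd_pow hpp (show p ∣ 2 ^ 2 by simpa using h2))
    subst hp2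
    exact hp
  haveI : (Cfsg.pCore 2 G).Normal := Solv.pCore_normal 2
  set O := Cfsg.pCore 2 G with hO
  let π : G →* ↥(Cfsg.SU 7 F 2) := e.toMonoidHom.comp (QuotientGroup.mk' O)
  have hπs : Function.Surjective π := e.surjective.comp (QuotientGroup.mk'_surjective O)
  have hker : π.ker = O := by
    ext x
    show e (QuotientGroup.mk x) = 1 ↔ _
    rw [MulEquiv.map_eq_one_iff, QuotientGroup.eq_one_iff]
  have hperf : commutator ↥(Cfsg.SU 7 F 2) = ⊤ :=
    Unitary.commutator_eq_top hstar hF2 (by norm_num) (by omega)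
  obtain ⟨hset, ⟨d₀, hd₀, hcl⟩, hgen⟩ := id hD
  have hne : π d₀ ≠ 1 := by
    intro h1
    have hall : ∀ x, π x = 1 := fun x => by
      have hle : Subgroup.closure D ≤ π.ker := (Subgroup.closure_le _).2 fun y hy => by
        rw [hcl] at hy
        obtain ⟨g, hg⟩ := isConj_iff.1 hy
        show π y = 1
        rw [← hg, map_mul, map_mul, h1, mul_one, map_inv, mul_inv_cancel]
      exact hle (hgen ▸ Subgroup.mem_top x)
    obtain ⟨v, hv0, hv, -⟩ := UnitarySeven.five hstar hF4
    obtain ⟨y, hy⟩ := hπs (tv hstar (v 0) (hv 0))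
    have h2 := tv_order hstar (hv0 0) (hv 0)
    rw [← hy, hall, orderOf_one] at h2
    omega
  obtain ⟨u, hu, hu0, hdu⟩ := UnitarySeven.tv_of_three hstar hF4 (σ := π d₀)
    (by rw [← map_mul, mul_self_of_order_two (hset.1 d₀ hd₀), map_one]) hne (fun k => by
      obtain ⟨g, rfl⟩ := hπs k
      have hg : g * d₀ * g⁻¹ ∈ D := hcl ▸ (isConj_iff.2 ⟨g, rfl⟩ : IsConj d₀ (g * d₀ * g⁻¹))
      simp only [← map_inv, ← map_mul, ← map_pow]
      exact (hset.2 d₀ hd₀ _ hg).imp (fun h => by rw [h, map_one]) (fun h => by rw [h, map_one]))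
  have himg : π '' D = {t | ∃ (v : Fin 7 → F) (hv : herm v v = 0), v ≠ 0 ∧ t = tv hstar v hv} := by
    refine Set.Subset.antisymm ?_ ?_
    · rintro _ ⟨d, hd, rfl⟩
      rw [hcl] at hd
      obtain ⟨g, rfl⟩ := isConj_iff.1 hd
      refine ⟨act (π g) u, by rw [herm_act hstar]; exact hu,
        fun h0 => hu0 (act_injective (π g) (h0.trans (by simp [act]))), ?_⟩
      rw [map_mul, map_mul, map_inv, hdu]
      exact tv_conj hstar (π g) u hu
    · rintro _ ⟨v, hv, hv0, rfl⟩
      obtain ⟨-, ⟨t, -, ht⟩, -⟩ := UnitaryTrans.isClass (n := 7) hstar hF4 (by norm_num)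
      have h1 : IsConj t (π d₀) := (Set.ext_iff.1 ht _).1 (hdu ▸ tv_rank hstar hu0 hu)
      have h2 : IsConj t (tv hstar v hv) := (Set.ext_iff.1 ht _).1 (tv_rank hstar hv0 hv)
      obtain ⟨k, hk⟩ := isConj_iff.1 (h1.symm.trans h2)
      obtain ⟨g, rfl⟩ := hπs k
      refine ⟨g * d₀ * g⁻¹, hcl ▸ (isConj_iff.2 ⟨g, rfl⟩ : IsConj d₀ (g * d₀ * g⁻¹)), ?_⟩
      rw [map_mul, map_mul, map_inv, hk]
  have hdata : TwoRadical.Data D π := by
    refine ⟨hD, hπs, hker.le, hZ, hperf, ?_, ?_⟩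
    · rw [himg]
      rintro _ ⟨a, ha, ha0, rfl⟩ _ ⟨r, hr, hr0, rfl⟩ hnc _ ⟨s, hs, hs0, rfl⟩
      have hne' : herm a r ≠ 0 := fun h0 => hnc (UnitarySeven.tv_commute hstar ha hr h0)
      obtain ⟨b, c, hb, hc, hb0, hc0, hbo, hco, he⟩ :=
        UnitarySeven.gen_pair hstar hF4 ha hr hs hs0 hne'
      exact ⟨_, ⟨b, hb, hb0, rfl⟩, _, ⟨c, hc, hc0, rfl⟩,
        hbo.imp (UnitarySeven.tv_commute hstar hb ha) (UnitarySeven.tv_commute hstar hb hr),
        hco.imp (UnitarySeven.tv_commute hstar hc ha) (UnitarySeven.tv_commute hstar hc hr), he⟩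
    · obtain ⟨v, hv0, hv, hperp, hprod⟩ := UnitarySeven.five hstar hF4
      refine ⟨fun i => tv hstar (v i) (hv i), fun i => himg ▸ ⟨v i, hv i, hv0 i, rfl⟩,
        fun i k => UnitarySeven.tv_commute hstar (hv i) (hv k) (hperp i k), hprod⟩
  have hstem : ∀ (N : Subgroup G) [N.Normal], N ≤ π.ker → ⁅π.ker, (⊤ : Subgroup G)⁆ ≤ N →
      commutator G ⊓ π.ker ≤ N := by
    intro N _ hN hQN x hx
    have hc : (QuotientGroup.lift N π hN).ker ≤ Subgroup.center (G ⧸ N) := by
      intro y hy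
      obtain ⟨y, rfl⟩ := QuotientGroup.mk'_surjective N y
      refine Subgroup.mem_center_iff.2 fun w => ?_
      obtain ⟨w, rfl⟩ := QuotientGroup.mk'_surjective N w
      refine (commutatorElement_eq_one_iff_mul_comm.1 ?_).symm
      rw [← map_commutatorElement]
      exact (QuotientGroup.eq_one_iff _).2 (hQN (Subgroup.commutator_mem_commutator
        (show y ∈ π.ker from hy) (Subgroup.mem_top w)))
    have h0 := stem_trivial (X := G ⧸ N) hperf
      (fun Γ _ _ C hΓ => Small.UCover.su_triv (hstar := hstar) hF2 (by norm_num) (by omega) (by omega)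
        (by omega) Γ C hΓ)
      (QuotientGroup.lift N π hN)
      (fun s => by obtain ⟨g, hg⟩ := hπs s; exact ⟨g, hg⟩) hc
    rw [← QuotientGroup.eq_one_iff]
    refine (Subgroup.eq_bot_iff_forall _).1 h0 _ ⟨?_, hx.2⟩
    have h1 : (commutator G).map (QuotientGroup.mk' N) = commutator (G ⧸ N) := by
      rw [commutator_def, Subgroup.map_commutator,
        Subgroup.map_top_of_surjective _ (QuotientGroup.mk'_surjective N)]
      rfl
    rw [← h1]
    exact ⟨x, hx.1, rfl⟩
  exact hker ▸ hdata.elementary hstem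

end Cfsg.Agent.S5557
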