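import Cfsg.Statements.S5556
import Cfsg.Agent.S5557
import Cfsg.Agent.Lib.Spor.UnitaryFiveSection
-- import your own Cfsg.Agent.* helpers here

set_option autoImplicit false
open Cfsg

namespace Cfsg.Agent.S5556

open Cfsg.Agent.Small Cfsg.Agent.Small.Unitary Cfsg.Agent.Spor Cfsg.Agent.Spor.UnitaryTrans

/-- Let G be a finite group generated by a conjugacy class D of 3-transpositions, with trivial centre and with generalized Fitting subgroup F*(G) = O₂(G) (so the Fitting subgroup is O₂(G) too). If G/O₂(G) is isomorphic to SU₅(2), then O₂(G) is elementary abelian and has a complement in G. -/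
theorem result {G : Type*} [Group G] [Finite G] {D : Set G} (hD : Cfsg.IsThreeTranspositionClass D)
    (hZ : Subgroup.center G = ⊥) (hF : Cfsg.generalizedFittingSubgroup G = Cfsg.pCore 2 G)
    (hq : ∃ (F : Type) (_ : Field F) (_ : Fintype F), Fintype.card F = 4 ∧ Nonempty (G ⧸ Cfsg.pCore 2 G ≃* ↥(Cfsg.SU 5 F 2))) :
    Cfsg.IsElementaryAbelian 2 (Cfsg.pCore 2 G) ∧ ∃ K : Subgroup G, (Cfsg.pCore 2 G).IsComplement' K := by
  classical
  obtain ⟨F, _, _, hF4, ⟨e⟩⟩ := hq
  have hF2 : Fintype.card F = 2 ^ 2 := by rw [hF4]; norm_num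
  obtain ⟨p, j, σ, -, -, -, -, hσ⟩ := Classical.exists_usigma hF2
  letI : StarRing F := Small.Hermitian.starRingOfInvolution (σ : F →+* F) hσ.involutive
  have hstar : ∀ x : F, star x = x ^ 2 := fun x => hσ.apply_eq x
  haveI : CharP F 2 := by
    obtain ⟨p, hp⟩ := CharP.exists F
    obtain ⟨k, hpp, hk⟩ := FiniteField.card F p
    have h2 : p ∣ 4 := by rw [← hF4, hk]; exact dvd_pow_self p k.ne_zero
    have hp2 : p = 2 := (Nat.prime_dvd_prime_iff_eq hpp Nat.prime_two).1
      (Nat.Prime.dvd_of_dvd_pow hpp (show p ∣ 2 ^ 2 by simpa using h2))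
    subst hp2
    exact hp
  haveI : (Cfsg.pCore 2 G).Normal := Solv.pCore_normal 2
  set O := Cfsg.pCore 2 G with hO
  let π : G →* ↥(Cfsg.SU 5 F 2) := e.toMonoidHom.comp (QuotientGroup.mk' O)
  have hπs : Function.Surjective π := e.surjective.comp (QuotientGroup.mk'_surjective O)
  have hker : π.ker = O := by
    ext x
    show e (QuotientGroup.mk x) = 1 ↔ _
    rw [MulEquiv.map_eq_one_iff, QuotientGroup.eq_one_iff]
  have hperf : commutator ↥(Cfsg.SU 5 F 2) = ⊤ :=
    Unitary.commutator_eq_top hstar hF2 (by norm_num) (by omega)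
  obtain ⟨hset, ⟨d₀, hd₀, hcl⟩, hgen⟩ := id hD
  have hne : π d₀ ≠ 1 := by
    intro h1
    have hall : ∀ x, π x = 1 := fun x => by
      have hle : Subgroup.closure D ≤ π.ker := (Subgroup.closure_le _).2 fun y hy => by
        rw [hcl] at hy
        obtain ⟨g, hg⟩ := isConj_iff.1 hy
        show π y = 1
        rw [← hg, map_mul, map_mul, h1, mul_one, map_inv, mul_inv_cancel]
      exact hle (hgen ▸ Subgroup.mem_top x)
    obtain ⟨om, hf⟩ := UnitaryFive.exists_four hstar hF4
    have hv : herm (UnitaryFive.sv (F := F) 0 1 1) (UnitaryFive.sv (F := F) 0 1 1) = 0 :=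
      UnitaryFive.sv_iso hf (by decide) one_ne_zero
    have hv0 : UnitaryFive.sv (F := F) 0 1 1 ≠ 0 := fun h0 => by
      have := congrFun h0 0
      simp [UnitaryFive.sv] at this
    obtain ⟨y, hy⟩ := hπs (tv hstar _ hv)
    have h2 := tv_order hstar hv0 hv
    rw [← hy, hall, orderOf_one] at h2
    omega
  obtain ⟨u, hu, hu0, hdu⟩ := UnitaryFive.tv_of_three hstar hF4 (σ := π d₀)
    (by rw [← map_mul, mul_self_of_order_two (hset.1 d₀ hd₀), map_one]) hne (fun k => by
      obtain ⟨g, rfl⟩ := hπs k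
      have hg : g * d₀ * g⁻¹ ∈ D := hcl ▸ (isConj_iff.2 ⟨g, rfl⟩ : IsConj d₀ (g * d₀ * g⁻¹))
      simp only [← map_inv, ← map_mul, ← map_pow]
      exact (hset.2 d₀ hd₀ _ hg).imp (fun h => by rw [h, map_one]) (fun h => by rw [h, map_one]))
  have himg : π '' D = {t | ∃ (v : Fin 5 → F) (hv : herm v v = 0), v ≠ 0 ∧ t = tv hstar v hv} := by
    refine Set.Subset.antisymm ?_ ?_
    · rintro _ ⟨d, hd, rfl⟩
      rw [hcl] at hd
      obtain ⟨g, rfl⟩ := isConj_iff.1 hd
      refine ⟨act (π g) u, by rw [herm_act hstar]; exact hu,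
        fun h0 => hu0 (act_injective (π g) (h0.trans (by simp [act]))), ?_⟩
      rw [map_mul, map_mul, map_inv, hdu]
      exact tv_conj hstar (π g) u hu
    · rintro _ ⟨v, hv, hv0, rfl⟩
      obtain ⟨-, ⟨t, -, ht⟩, -⟩ := UnitaryTrans.isClass (n := 5) hstar hF4 (by norm_num)
      have h1 : IsConj t (π d₀) := (Set.ext_iff.1 ht _).1 (hdu ▸ tv_rank hstar hu0 hu)
      have h2 : IsConj t (tv hstar v hv) := (Set.ext_iff.1 ht _).1 (tv_rank hstar hv0 hv)
      obtain ⟨k, hk⟩ := isConj_iff.1 (h1.symm.trans h2)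
      obtain ⟨g, rfl⟩ := hπs k
      refine ⟨g * d₀ * g⁻¹, hcl ▸ (isConj_iff.2 ⟨g, rfl⟩ : IsConj d₀ (g * d₀ * g⁻¹)), ?_⟩
      rw [map_mul, map_mul, map_inv, hk]
  have hdata : TwoRadical.Data D π := by
    refine ⟨hD, hπs, hker.le, hZ, hperf, ?_, ?_⟩
    · rw [himg]
      rintro _ ⟨a, ha, ha0, rfl⟩ _ ⟨r, hr, hr0, rfl⟩ hnc _ ⟨s, hs, hs0, rfl⟩
      have hne' : herm a r ≠ 0 := fun h0 => hnc (UnitarySeven.tv_commute hstar ha hr h0)
      obtain ⟨b, c, hb, hc, hb0, hc0, hbo, hco, he⟩ :=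
        UnitaryFive.gen_pair hstar hF4 ha hr hs hs0 hne'
      exact ⟨_, ⟨b, hb, hb0, rfl⟩, _, ⟨c, hc, hc0, rfl⟩,
        hbo.imp (UnitarySeven.tv_commute hstar hb ha) (UnitarySeven.tv_commute hstar hb hr),
        hco.imp (UnitarySeven.tv_commute hstar hc ha) (UnitarySeven.tv_commute hstar hc hr), he⟩
    · obtain ⟨om, hf⟩ := UnitaryFive.exists_four hstar hF4
      set a := UnitaryFive.sv (F := F) 0 1 1 with ha
      set b := UnitaryFive.sv (F := F) 2 3 1 with hb
      have haa : herm a a = 0 := UnitaryFive.sv_iso hf (by decide) one_ne_zero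
      have hbb : herm b b = 0 := UnitaryFive.sv_iso hf (by decide) one_ne_zero
      have hab : herm a b = 0 := by simp [ha, hb, UnitaryFive.sv, herm_add_left, herm_single_left]
      have hba : herm b a = 0 := by rw [← star_herm a b, hab, star_zero]
      have hperp : ∀ s r s' r' : F, herm (s • a + r • b) (s' • a + r' • b) = 0 := fun s r s' r' => by
        simp [herm_add_left, herm_add_right, herm_smul_left, herm_smul_right, haa, hbb, hab, hba]
      let co : Fin 5 → F × F := ![(1, 0), (0, 1), (1, 1), (1, om), (1, om ^ 2)]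
      let v : Fin 5 → (Fin 5 → F) := fun i => (co i).1 • a + (co i).2 • b
      have hv : ∀ i, herm (v i) (v i) = 0 := fun i => hperp _ _ _ _
      have hv0 : ∀ i, v i ≠ 0 := fun i h0 => by
        have e0 := congrFun h0 0
        have e2 := congrFun h0 2
        fin_cases i <;> simp [v, co, ha, hb, UnitaryFive.sv] at e0 e2
      refine ⟨fun i => tv hstar (v i) (hv i), fun i => himg ▸ ⟨v i, hv i, hv0 i, rfl⟩,
        fun i k => UnitarySeven.tv_commute hstar (hv i) (hv k) (hperp _ _ _ _), ?_⟩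
      refine Eq.trans ?_ (UnitaryFive.line hf haa hbb hab (by simpa using hperp 1 1 1 1)
        (by simpa using hperp 1 om 1 om) (by simpa using hperp 1 (om ^ 2) 1 (om ^ 2)))
      congr 1 <;> first | skip
      all_goals simp [v, co]
  have hstem : ∀ (N : Subgroup G) [N.Normal], N ≤ π.ker → ⁅π.ker, (⊤ : Subgroup G)⁆ ≤ N →
      commutator G ⊓ π.ker ≤ N := by
    intro N _ hN hQN x hx
    have hc : (QuotientGroup.lift N π hN).ker ≤ Subgroup.center (G ⧸ N) := by
      intro y hy
      obtain ⟨y, rfl⟩ := QuotientGroup.mk'_surjective N y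
      refine Subgroup.mem_center_iff.2 fun w => ?_
      obtain ⟨w, rfl⟩ := QuotientGroup.mk'_surjective N w
      refine (commutatorElement_eq_one_iff_mul_comm.1 ?_).symm
      rw [← map_commutatorElement]
      exact (QuotientGroup.eq_one_iff _).2 (hQN (Subgroup.commutator_mem_commutator
        (show y ∈ π.ker from hy) (Subgroup.mem_top w)))
    have h0 := S5557.stem_trivial (X := G ⧸ N) hperf
      (fun Γ _ _ C hΓ => Small.UCover.su_triv (hstar := hstar) hF2 (by norm_num) (by omega) (by omega)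
        (by omega) Γ C hΓ)
      (QuotientGroup.lift N π hN)
      (fun s => by obtain ⟨g, hg⟩ := hπs s; exact ⟨g, hg⟩) hc
    rw [← QuotientGroup.eq_one_iff]
    refine (Subgroup.eq_bot_iff_forall _).1 h0 _ ⟨?_, hx.2⟩
    have h1 : (commutator G).map (QuotientGroup.mk' N) = commutator (G ⧸ N) := by
      rw [commutator_def, Subgroup.map_commutator,
        Subgroup.map_top_of_surjective _ (QuotientGroup.mk'_surjective N)]
      rfl
    rw [← h1]
    exact ⟨x, hx.1, rfl⟩
  have helem : Cfsg.IsElementaryAbelian 2 π.ker := hdata.elementary hstem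
  refine ⟨hker ▸ helem, ?_⟩
  obtain ⟨om, hf⟩ := UnitaryFive.exists_four hstar hF4
  obtain ⟨⟨hcomm⟩, hexp⟩ := helem
  have hover : UnitaryFive.Over hf D π :=
    ⟨hdata, fun x hx y hy => congrArg Subtype.val (hcomm.comm ⟨x, hx⟩ ⟨y, hy⟩),
      fun x hx => by rw [← pow_two]; exact hexp x hx, himg⟩
  obtain ⟨yh, hy, hyc⟩ := hover.lift_frame
  rw [← hker]
  exact hover.complement hy hyc fun X ξ hs hc => S5557.stem_trivial hperf
    (fun Γ _ _ C hΓ => Small.UCover.su_triv (hstar := hstar) hF2 (by norm_num) (by omega) (by omega)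
      (by omega) Γ C hΓ) ξ hs hc

end Cfsg.Agent.S5556
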