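import Cfsg.Statements.S5559
import Cfsg.Agent.Lib.Spor.ThreeSUGroup
import Cfsg.Agent.Lib.Spor.ThreeTriangle
import Cfsg.Agent.Lib.Spor.ThreeSolubleModule
import Cfsg.Agent.Lib.Spor.ThreeBasic
import Cfsg.Agent.Lib.Solv.Cores
import Cfsg.Agent.Lib.Solv.Component

set_option autoImplicit false
open Cfsg

namespace Cfsg.Agent.S5559

/-- Let H be a finite group generated by a conjugacy class E of 3-transpositions with at least two members, with F*(H) = O₂(H), and such that H/O₂(H) has a normal Sylow 3-subgroup of 2-power index (that is, H = O_{2,3,2}(H)). Then H/O₂(H) is isomorphic to the symmetric group of degree 3 or to the derived group of SU₃(2) (of order 54). -/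
theorem result {H : Type*} [Group H] [Finite H] {E : Set H} (hE : Cfsg.IsThreeTranspositionClass E)
    (hE2 : ∃ a ∈ E, ∃ b ∈ E, a ≠ b) (hF : Cfsg.generalizedFittingSubgroup H = Cfsg.pCore 2 H)
    (h232 : ∃ P : Sylow 3 (H ⧸ Cfsg.pCore 2 H), (P : Subgroup (H ⧸ Cfsg.pCore 2 H)).Normal ∧
      ∃ k : ℕ, (P : Subgroup (H ⧸ Cfsg.pCore 2 H)).index = 2 ^ k) :
    Nonempty (H ⧸ Cfsg.pCore 2 H ≃* Equiv.Perm (Fin 3)) ∨
      ∃ (F : Type) (_ : Field F) (_ : Fintype F), Fintype.card F = 4 ∧
        Nonempty (H ⧸ Cfsg.pCore 2 H ≃* ↥(commutator ↥(Cfsg.SU 3 F 2))) := by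
  classical
  haveI : Fact (Nat.Prime 2) := ⟨Nat.prime_two⟩
  haveI : Fact (Nat.Prime 3) := ⟨Nat.prime_three⟩
  obtain ⟨hset, ⟨d₀, hd₀, hEd⟩, hgen⟩ := hE
  haveI hOn : (Cfsg.pCore 2 H).Normal := Cfsg.Agent.Solv.pCore_normal 2
  set O := Cfsg.pCore 2 H with hO
  have hO2 : IsPGroup 2 O := Cfsg.Agent.Solv.pCore_isPGroup 2
  have hconj : ∀ g : H, ∀ e ∈ E, g * e * g⁻¹ ∈ E := fun g e he => by
    rw [hEd] at he ⊢
    exact IsConj.trans (he : IsConj d₀ e) (isConj_iff.2 ⟨g, rfl⟩ : IsConj e (g * e * g⁻¹))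
  have hsq : ∀ e ∈ E, e * e = 1 := fun e he => Cfsg.Agent.Spor.mul_self_of_order_two (hset.1 e he)
  obtain ⟨P, hPn, k, hPk⟩ := h232
  haveI := hPn
  set f := QuotientGroup.mk' O with hf
  have hfs : Function.Surjective f := QuotientGroup.mk'_surjective O
  -- two-groups generated by a class are cyclic
  have hcyc : ∀ {A : Type _} [Group A] [Finite A] (hA : IsPGroup 2 A) (a : A)
      (hgenA : Subgroup.closure {b | IsConj a b} = ⊤), Subgroup.zpowers a = ⊤ := by
    intro A _ _ hA a hgenA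
    by_contra hne
    obtain ⟨M, hM, hle⟩ := (eq_top_or_exists_le_coatom (Subgroup.zpowers a)).resolve_left hne
    haveI := hA.isNilpotent
    haveI : M.Normal := Subgroup.NormalizerCondition.normal_of_coatom M Group.normalizerCondition_of_isNilpotent hM
    refine hM.1 (eq_top_iff.2 (hgenA ▸ (Subgroup.closure_le M).2 fun b hb => ?_))
    obtain ⟨g, rfl⟩ := isConj_iff.1 (hb : IsConj a b)
    exact Subgroup.Normal.conj_mem inferInstance _ (hle (Subgroup.mem_zpowers a)) g
  have hclassEq : ∀ {A : Type _} [Group A] [Finite A] (π : H →* A) (hπ : Function.Surjective π)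
      (hA : IsPGroup 2 A), ∀ a ∈ E, ∀ b ∈ E, π a = π b := by
    intro A _ _ π hπ hA a ha b hb
    have hz := hcyc hA (π d₀) (by
      rw [eq_top_iff, ← MonoidHom.range_eq_top.2 hπ, MonoidHom.range_eq_map, ← hgen, MonoidHom.map_closure,
        Subgroup.closure_le]
      rintro _ ⟨e, he, rfl⟩
      rw [hEd] at he
      exact Subgroup.subset_closure (MonoidHom.map_isConj π (he : IsConj d₀ e)))
    have key : ∀ e ∈ E, π e = π d₀ := by
      intro e he
      rw [hEd] at he
      obtain ⟨g, rfl⟩ := isConj_iff.1 (he : IsConj d₀ e)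
      have hg : π g ∈ Subgroup.zpowers (π d₀) := hz ▸ Subgroup.mem_top _
      obtain ⟨n, hn⟩ := hg
      have hn' : π d₀ ^ n = π g := hn
      rw [map_mul, map_mul, map_inv, ← hn', mul_inv_eq_iff_eq_mul]
      exact ((Commute.refl (π d₀)).zpow_left n).eq
    rw [key a ha, key b hb]
  have hdiff : ∀ a ∈ E, ∀ b ∈ E, f a * f b ∈ (P : Subgroup (H ⧸ O)) := by
    intro a ha b hb
    have h2 : IsPGroup 2 ((H ⧸ O) ⧸ (P : Subgroup (H ⧸ O))) :=
      IsPGroup.of_card (by rw [← Subgroup.index_eq_card, hPk])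
    have := hclassEq ((QuotientGroup.mk' (P : Subgroup (H ⧸ O))).comp f)
      ((QuotientGroup.mk'_surjective _).comp hfs) h2 a ha b hb
    have h3 := QuotientGroup.eq.1 this
    rwa [← map_inv, Cfsg.Agent.Spor.inv_of_order_two (hset.1 a ha)] at h3
  have hcubeQ : ∀ a ∈ E, ∀ b ∈ E, f a ≠ f b → (a * b) ^ 3 = 1 := by
    intro a ha b hb hne
    rcases hset.2 a ha b hb with h | h
    · exfalso
      refine hne ?_
      obtain ⟨n, hn⟩ := IsPGroup.iff_card.1 P.isPGroup'
      have h1 : (f a * f b) ^ 2 = 1 := by rw [← map_mul, ← map_pow, h, map_one]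
      have h3 : (f a * f b) ^ (3 ^ n) = 1 := by
        have e := pow_card_eq_one' (x := (⟨_, hdiff a ha b hb⟩ : (P : Subgroup (H ⧸ O))))
        rw [hn] at e
        exact congrArg Subtype.val e
      have := (pow_gcd_eq_one.2 ⟨h1, h3⟩ : (f a * f b) ^ Nat.gcd _ _ = 1)
      rw [Nat.Coprime.gcd_eq_one ((by decide : Nat.Coprime 2 3).pow_right n), pow_one] at this
      rw [mul_eq_one_iff_eq_inv] at this
      rw [this, ← map_inv, Cfsg.Agent.Spor.inv_of_order_two (hset.1 b hb)]
    · exact h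
  -- a product acting nontrivially
  have hCO : Subgroup.centralizer (O : Set H) ≤ O := by
    have := Cfsg.Agent.Solv.centralizer_gfit_le (G := H)
    rwa [hF] at this
  let Bad : Subgroup H → Prop := fun N => N.Normal ∧ N ≤ O ∧
    ∃ a ∈ E, ∃ b ∈ E, (a * b) ^ 3 = 1 ∧ ∃ n ∈ N, ¬ Commute (a * b) n
  have hbadO : Bad O := by
    refine ⟨hOn, le_rfl, ?_⟩
    by_contra hno
    push_neg at hno
    have heq : ∀ a ∈ E, ∀ b ∈ E, (a * b) ^ 3 = 1 → a = b := by
      intro a ha b hb h3
      have hm : a * b ∈ O := hCO (Subgroup.mem_centralizer_iff.2 fun n hn => ((hno a ha b hb h3 n hn).symm).eq)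
      obtain ⟨j, hj⟩ := hO2 ⟨a * b, hm⟩
      have := (pow_gcd_eq_one.2 ⟨h3, congrArg Subtype.val hj⟩ : (a * b) ^ Nat.gcd _ _ = 1)
      rw [Nat.Coprime.gcd_eq_one ((by decide : Nat.Coprime 3 2).pow_right j), pow_one] at this
      rw [mul_eq_one_iff_eq_inv] at this
      rw [this, Cfsg.Agent.Spor.inv_of_order_two (hset.1 b hb)]
    have hcom : ∀ a ∈ E, ∀ b ∈ E, a * b = b * a := by
      intro a ha b hb
      rcases Cfsg.Agent.Spor.commute_or_braid hset ha hb with h | h
      · exact h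
      · rcases hset.2 a ha b hb with h2 | h3
        · rw [pow_two, mul_eq_one_iff_eq_inv, mul_inv_rev, Cfsg.Agent.Spor.inv_of_order_two (hset.1 a ha),
            Cfsg.Agent.Spor.inv_of_order_two (hset.1 b hb)] at h2
          exact h2
        · rw [heq a ha b hb h3]
    obtain ⟨a, ha, b, hb, hab⟩ := hE2
    refine hab ?_
    have hc : ∀ g : H, g * d₀ = d₀ * g := fun g =>
      Subgroup.mem_centralizer_singleton_iff.1 ((Subgroup.closure_le (Subgroup.centralizer ({d₀} : Set H))).2
        (fun e he => Subgroup.mem_centralizer_singleton_iff.2 (hcom e he d₀ (hEd ▸ IsConj.refl d₀)))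
        (hgen ▸ Subgroup.mem_top g))
    have one : ∀ e ∈ E, e = d₀ := fun e he => by
      rw [hEd] at he
      obtain ⟨g, rfl⟩ := isConj_iff.1 (he : IsConj d₀ e)
      rw [hc g, mul_inv_cancel_right]
    rw [one a ha, one b hb]
  obtain ⟨N, hN, hmin⟩ := (Set.toFinite {N : Subgroup H | Bad N}).exists_minimal ⟨O, hbadO⟩
  obtain ⟨hNn, hNO, a₁, ha₁, b₁, hb₁, hab3, n₁, hn₁, hnc⟩ := hN
  haveI := hNn
  obtain ⟨M, ⟨hMn, hMN⟩, hmax⟩ := (Set.toFinite {M : Subgroup H | M.Normal ∧ M < N}).exists_maximal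
    ⟨⊥, inferInstance, bot_lt_iff_ne_bot.2 fun h => by
      rw [h, Subgroup.mem_bot] at hn₁; exact hnc (hn₁ ▸ Commute.one_right _)⟩
  haveI := hMn
  have hMc : ∀ n ∈ M, Commute (a₁ * b₁) n := by
    intro n hn
    by_contra hc
    exact hMN.not_ge (hmin (show M ∈ {N : Subgroup H | Bad N} from
      ⟨hMn, hMN.le.trans hNO, a₁, ha₁, b₁, hb₁, hab3, n, hn, hc⟩) hMN.le)
  set μ := QuotientGroup.mk' M with hμ
  have hμs : Function.Surjective μ := QuotientGroup.mk'_surjective M
  set W : Subgroup (H ⧸ M) := N.map μ with hW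
  haveI hWn : W.Normal := hNn.map μ hμs
  have hμ1 : ∀ x, μ x = 1 ↔ x ∈ M := fun x => QuotientGroup.eq_one_iff x
  have hW2 : IsPGroup 2 W := (hO2.to_le hNO).map μ
  have hWne : W ≠ ⊥ := by
    intro h
    refine hMN.not_ge fun n hn => (hμ1 n).1 ?_
    have : μ n ∈ W := ⟨n, hn, rfl⟩
    rwa [h, Subgroup.mem_bot] at this
  have hirr : ∀ S : Subgroup (H ⧸ M), S.Normal → S ≤ W → S = ⊥ ∨ S = W := by
    intro S hS hSW
    haveI := hS
    have h1 : M ≤ S.comap μ := fun m hm => by
      show μ m ∈ S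
      rw [(hμ1 m).2 hm]; exact one_mem S
    have h2 : S.comap μ ≤ N := fun x hx => by
      obtain ⟨n, hn, he⟩ := hSW hx
      have : n⁻¹ * x ∈ M := (hμ1 _).1 (by rw [map_mul, map_inv, he, inv_mul_cancel])
      have := mul_mem hn (hMN.le this)
      rwa [mul_inv_cancel_left] at this
    rcases h2.lt_or_eq with hlt | heq
    · left
      have he : S.comap μ = M := le_antisymm (hmax (show S.comap μ ∈ {M : Subgroup H | M.Normal ∧ M < N} from
        ⟨inferInstance, hlt⟩) h1) h1
      rw [← Subgroup.map_comap_eq_self_of_surjective hμs S, he, Subgroup.map_eq_bot_iff]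
      exact fun m hm => (hμ1 m).2 hm
    · right
      rw [← Subgroup.map_comap_eq_self_of_surjective hμs S, heq]
  -- a two-group acting on `W` fixes something
  have hfixed : ∀ R : Subgroup (H ⧸ M), IsPGroup 2 R → W ≤ Subgroup.normalizer (R : Set (H ⧸ M)) →
      ∃ w ∈ W, w ≠ 1 ∧ ∀ r ∈ R, r * w = w * r := by
    intro R hR _
    obtain ⟨j, hj⟩ := IsPGroup.iff_card.1 hW2
    have hj0 : j ≠ 0 := fun h0 => hWne (Subgroup.eq_bot_of_card_eq _ (by rw [hj, h0, pow_zero]))
    let φ : R →* MulAut W := (MulAut.conjNormal).comp R.subtype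
    letI : MulAction R W := MulAction.compHom W φ
    obtain ⟨w, hw, hw1⟩ := hR.exists_fixed_point_of_prime_dvd_card_of_fixed_point ↥W
      (hj ▸ dvd_pow_self 2 hj0) (a := 1) (fun r => map_one (φ r))
    refine ⟨w, w.2, fun h => hw1 (Subtype.ext h.symm), fun r hr => ?_⟩
    have := congrArg Subtype.val (hw ⟨r, hr⟩)
    rw [show ((⟨r, hr⟩ : R) • w : W) = MulAut.conjNormal r w from rfl, MulAut.conjNormal_apply] at this
    exact mul_inv_eq_iff_eq_mul.1 this
  have hcent : ∀ R : Subgroup (H ⧸ M), R.Normal → IsPGroup 2 R → ∀ r ∈ R, ∀ w ∈ W, r * w = w * r := by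
    intro R hR hR2 r hr w hw
    obtain ⟨u, huW, hu1, hu⟩ := hfixed R hR2 (by rw [Subgroup.normalizer_eq_top R]; exact le_top)
    rcases hirr (W ⊓ Subgroup.centralizer (R : Set (H ⧸ M))) inferInstance inf_le_left with h | h
    · exfalso
      refine hu1 ?_
      have : u ∈ W ⊓ Subgroup.centralizer (R : Set (H ⧸ M)) := ⟨huW, Subgroup.mem_centralizer_iff.2 hu⟩
      rwa [h, Subgroup.mem_bot] at this
    · exact Subgroup.mem_centralizer_iff.1 (h.ge hw).2 r hr
  have hWc : ∀ v ∈ W, ∀ w ∈ W, v * w = w * v := hcent W hWn hW2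
  haveI : IsMulCommutative W := ⟨⟨fun v w => Subtype.ext (hWc v v.2 w w.2)⟩⟩
  letI : CommGroup W := { (inferInstance : Group W) with mul_comm := fun v w => Subtype.ext (hWc v v.2 w w.2) }
  have hWe : ∀ w : W, w * w = 1 := by
    let S : Subgroup (H ⧸ M) :=
      { carrier := {x | x ∈ W ∧ x * x = 1}
        one_mem' := ⟨one_mem _, one_mul 1⟩
        mul_mem' := fun {u v} hu hv => ⟨mul_mem hu.1 hv.1, by
          rw [mul_assoc, ← mul_assoc v u, hWc v hv.1 u hu.1, mul_assoc u v v, hv.2, mul_one, hu.2]⟩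
        inv_mem' := fun {u} hu => ⟨inv_mem hu.1, by rw [← mul_inv_rev, hu.2, inv_one]⟩ }
    have hSn : S.Normal := ⟨fun x hx g => ⟨hWn.conj_mem x hx.1 g, by
      rw [show g * x * g⁻¹ * (g * x * g⁻¹) = g * (x * x) * g⁻¹ by group, hx.2, mul_one, mul_inv_cancel]⟩⟩
    rcases hirr S hSn (fun x hx => hx.1) with h | h
    · exfalso
      obtain ⟨j, hj⟩ := IsPGroup.iff_card.1 hW2
      have hj0 : j ≠ 0 := fun h0 => hWne (Subgroup.eq_bot_of_card_eq _ (by rw [hj, h0, pow_zero]))
      obtain ⟨x, hx⟩ := exists_prime_orderOf_dvd_card' (G := W) 2 (hj ▸ dvd_pow_self 2 hj0)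
      have hxS : (x : H ⧸ M) ∈ S := ⟨x.2, by
        have := pow_orderOf_eq_one x
        rw [hx, pow_two] at this
        exact congrArg Subtype.val this⟩
      rw [h, Subgroup.mem_bot] at hxS
      rw [show x = 1 from Subtype.ext hxS, orderOf_one] at hx
      omega
    · exact fun w => Subtype.ext (h.ge w.2).2
  -- the action
  let ρ₀ : H →* MulAut W := (MulAut.conjNormal).comp μ
  have hρv : ∀ (g : H) (w : W), ((ρ₀ g w : W) : H ⧸ M) = μ g * w * (μ g)⁻¹ := fun g w =>
    MulAut.conjNormal_apply _ _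
  have hρO : O ≤ ρ₀.ker := fun o ho => by
    rw [MonoidHom.mem_ker]
    refine MulEquiv.ext fun w => Subtype.ext ?_
    rw [hρv]
    show _ = (w : H ⧸ M)
    rw [hcent (O.map μ) (hOn.map μ hμs) (hO2.map μ) _ ⟨o, ho, rfl⟩ w w.2, mul_inv_cancel_right]
  let ρq : H ⧸ O →* MulAut W := QuotientGroup.lift O ρ₀ hρO
  let π : H ⧸ O →* ρq.range := ρq.rangeRestrict
  have hπs : Function.Surjective π := ρq.rangeRestrict_surjective
  have hπv : ∀ g : H, ((π (f g) : ρq.range) : MulAut W) = ρ₀ g := fun g => rfl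
  set EW : Set ρq.range := (fun e => π (f e)) '' E with hEW
  have hxne : π (f a₁) ≠ π (f b₁) := by
    intro h
    refine hnc ?_
    have h1 : ρ₀ (a₁ * b₁) = 1 := by
      rw [map_mul, ← hπv, ← hπv, ← h, hπv, ← map_mul, hsq a₁ ha₁, map_one]
    have h2 : μ (a₁ * b₁) * μ n₁ * (μ (a₁ * b₁))⁻¹ = μ n₁ := by
      have := hρv (a₁ * b₁) ⟨μ n₁, n₁, hn₁, rfl⟩
      rw [h1] at this
      exact this.symm
    set x := a₁ * b₁ with hx
    obtain ⟨m, hm, hxm⟩ : ∃ m ∈ M, x * n₁ * x⁻¹ = m * n₁ :=
      ⟨x * n₁ * x⁻¹ * n₁⁻¹, (hμ1 _).1 (by rw [map_mul, map_mul, map_mul, map_inv, map_inv, h2, mul_inv_cancel]),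
        (inv_mul_cancel_right _ _).symm⟩
    have hxm' : x * m * x⁻¹ = m := by rw [(hMc m hm).eq, mul_inv_cancel_right]
    have e : x * (x * (x * n₁ * x⁻¹) * x⁻¹) * x⁻¹ = x ^ 3 * n₁ * (x ^ 3)⁻¹ := by
      rw [pow_succ, pow_two]; group
    rw [hab3, one_mul, inv_one, mul_one, hxm, show x * (m * n₁) * x⁻¹ = (x * m * x⁻¹) * (x * n₁ * x⁻¹) by group,
      hxm', hxm, show x * (m * (m * n₁)) * x⁻¹ = (x * m * x⁻¹) * (x * m * x⁻¹) * (x * n₁ * x⁻¹) by group,
      hxm', hxm] at e
    have hm3 : m ^ 3 = 1 := by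
      rw [pow_succ, pow_two]
      exact mul_right_cancel (b := n₁) (by rw [one_mul, mul_assoc]; exact e)
    obtain ⟨j, hj⟩ := hO2 ⟨m, hNO (hMN.le hm)⟩
    have := (pow_gcd_eq_one.2 ⟨hm3, congrArg Subtype.val hj⟩ : m ^ Nat.gcd _ _ = 1)
    rw [Nat.Coprime.gcd_eq_one ((by decide : Nat.Coprime 3 2).pow_right j), pow_one] at this
    rw [this, one_mul, mul_inv_eq_iff_eq_mul] at hxm
    exact hxm
  have hconjQ : ∀ (g : H), ∀ e ∈ E, π (f (g * e * g⁻¹)) = π (f g) * π (f e) * (π (f g))⁻¹ := fun g e _ => by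
    simp only [map_mul, map_inv]
  have hS : Cfsg.Agent.Spor.Soluble.Sol EW ((P : Subgroup (H ⧸ O)).map π) := by
    refine ⟨?_, ?_, ?_, ?_, P.isPGroup'.map π, hPn.map π hπs, ?_⟩
    · rintro _ ⟨e, he, rfl⟩
      show π (f e) * π (f e) = 1
      rw [← map_mul, ← map_mul, hsq e he, map_one, map_one]
    · rintro g _ ⟨e, he, rfl⟩
      obtain ⟨q, rfl⟩ := hπs g
      obtain ⟨g, rfl⟩ := hfs q
      exact ⟨g * e * g⁻¹, hconj g e he, hconjQ g e he⟩
    · have : EW = (π.comp f) '' E := rfl
      rw [this, ← MonoidHom.map_closure, hgen, ← MonoidHom.range_eq_map, MonoidHom.range_eq_top]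
      exact hπs.comp hfs
    · rintro _ ⟨a, ha, rfl⟩ _ ⟨b, hb, rfl⟩ hne
      show (π (f a) * π (f b)) ^ 3 = 1
      rw [← map_mul, ← map_mul, ← map_pow, ← map_pow, hcubeQ a ha b hb (fun h => hne (by simp only [h])),
        map_one, map_one]
    · rintro _ ⟨a, ha, rfl⟩ _ ⟨b, hb, rfl⟩
      exact ⟨f a * f b, hdiff a ha b hb, map_mul π _ _⟩
  have hM : Cfsg.Agent.Spor.Soluble.Mdl EW ρq.range.subtype := by
    refine ⟨Subgroup.subtype_injective _, hWe, ?_, ?_⟩
    · intro S hS'
      have hn : (S.map W.subtype).Normal := ⟨by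
        rintro _ ⟨w, hw, rfl⟩ g
        obtain ⟨g, rfl⟩ := hμs g
        exact ⟨ρ₀ g w, hS' (π (f g)) w hw, hρv g w⟩⟩
      rcases hirr _ hn (Subgroup.map_subtype_le S) with h | h
      · exact Or.inl ((Subgroup.map_eq_bot_iff_of_injective _ W.subtype_injective).1 h)
      · refine Or.inr (Subgroup.map_injective W.subtype_injective ?_)
        rw [h, ← MonoidHom.range_eq_map, Subgroup.range_subtype]
    · rintro _ ⟨a, ha, rfl⟩ _ ⟨b, hb, rfl⟩ hne w hw
      have h3 : (a * b) ^ 3 = 1 := hcubeQ a ha b hb (fun h => hne (by simp only [h]))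
      obtain ⟨n, hn, hnw⟩ := w.2
      have hbi : (μ b)⁻¹ = μ b := by rw [← map_inv, Cfsg.Agent.Spor.inv_of_order_two (hset.1 b hb)]
      change ρ₀ b w = w
      have hw' : ρ₀ (a * b) (ρ₀ b w * w) = ρ₀ b w * w := by rw [map_mul ρ₀]; exact hw
      set u := ρ₀ b w * w with hu
      have hum : (u : H ⧸ M) = μ b * μ n * μ b * μ n := by
        rw [hu, Subgroup.coe_mul, hρv, hbi, ← hnw]
      have hninv : (μ n)⁻¹ = μ n := inv_eq_of_mul_eq_one_right (by
        have := congrArg Subtype.val (hWe w)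
        rw [Subgroup.coe_mul, ← hnw] at this
        exact this)
      have hc : μ b * (u : H ⧸ M) = μ (n * b * n⁻¹) := by
        rw [hum, map_mul, map_mul, map_inv, hninv, ← mul_assoc (μ b), ← mul_assoc (μ b), ← mul_assoc (μ b),
          show μ b * μ b = 1 by rw [← map_mul, hsq b hb, map_one], one_mul]
      have hfix : μ (a * b) * u * (μ (a * b))⁻¹ = u := by
        have := hρv (a * b) u
        rw [hw'] at this
        exact this.symm
      set g := μ (a * b) with hg
      have hgu : Commute g (u : H ⧸ M) := mul_inv_eq_iff_eq_mul.1 hfix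
      have hu2 : (u : H ⧸ M) * u = 1 := congrArg Subtype.val (hWe u)
      have hg3 : g ^ 3 = 1 := by rw [hg, ← map_pow, h3, map_one]
      have hgu' : μ (a * (n * b * n⁻¹)) = g * u := by rw [map_mul, ← hc, ← mul_assoc, ← map_mul]
      have hu1 : (u : H ⧸ M) = 1 := by
        rcases hset.2 a ha _ (hconj n b hb) with h | h
        · exfalso
          have h2 := congrArg μ h
          rw [map_pow, hgu', map_one, hgu.mul_pow, pow_two (u : H ⧸ M), hu2, mul_one] at h2
          rw [pow_succ, h2, one_mul] at hg3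
          have e : μ a = μ b := by
            rw [hg, map_mul, mul_eq_one_iff_eq_inv] at hg3
            rw [hg3, hbi]
          refine hne (Subtype.ext ?_)
          rw [hπv, hπv]
          show MulAut.conjNormal (μ a) = MulAut.conjNormal (μ b)
          rw [e]
        · have h2 := congrArg μ h
          rw [map_pow, hgu', map_one, hgu.mul_pow, hg3, one_mul, pow_succ, pow_two, hu2, one_mul] at h2
          exact h2
      have hu1' : ρ₀ b w * w = 1 := Subtype.ext hu1
      rw [mul_eq_one_iff_eq_inv.1 hu1']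
      exact inv_eq_of_mul_eq_one_right (hWe w)
  have hinj : ∀ a ∈ E, ∀ b ∈ E, π (f a) = π (f b) → f a = f b := by
    intro a ha b hb h
    by_contra hne
    have h3 := hcubeQ a ha b hb hne
    -- the transposition would act trivially
    have hbW : ρ₀ b = 1 := by
      refine MulEquiv.ext fun w => ?_
      show ρ₀ b w = w
      obtain ⟨n, hn, hnw⟩ := w.2
      have hb2 : ρ₀ (a * b) = 1 := by
        rw [map_mul, ← hπv, h, hπv, ← map_mul, hsq b hb, map_one]
      set u := ρ₀ b w * w with hu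
      have hbi : (μ b)⁻¹ = μ b := by rw [← map_inv, Cfsg.Agent.Spor.inv_of_order_two (hset.1 b hb)]
      have hum : (u : H ⧸ M) = μ b * μ n * μ b * μ n := by
        rw [hu, Subgroup.coe_mul, hρv, hbi, ← hnw]
      have hninv : (μ n)⁻¹ = μ n := inv_eq_of_mul_eq_one_right (by
        have := congrArg Subtype.val (hWe w)
        rw [Subgroup.coe_mul, ← hnw] at this
        exact this)
      have hc : μ b * (u : H ⧸ M) = μ (n * b * n⁻¹) := by
        rw [hum, map_mul, map_mul, map_inv, hninv, ← mul_assoc (μ b), ← mul_assoc (μ b), ← mul_assoc (μ b),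
          show μ b * μ b = 1 by rw [← map_mul, hsq b hb, map_one], one_mul]
      have hfix : μ (a * b) * u * (μ (a * b))⁻¹ = u := by
        have := hρv (a * b) u
        rw [hb2] at this
        exact this.symm
      set g := μ (a * b) with hg
      have hgu : Commute g (u : H ⧸ M) := mul_inv_eq_iff_eq_mul.1 hfix
      have hu2 : (u : H ⧸ M) * u = 1 := congrArg Subtype.val (hWe u)
      have hg3 : g ^ 3 = 1 := by rw [hg, ← map_pow, h3, map_one]
      have hgu' : μ (a * (n * b * n⁻¹)) = g * u := by rw [map_mul, ← hc, ← mul_assoc, ← map_mul]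
      have hu1 : (u : H ⧸ M) = 1 := by
        have hb' : f (n * b * n⁻¹) = f b := by
          have hn1 : f n = 1 := (QuotientGroup.eq_one_iff n).2 (hNO hn)
          rw [map_mul, map_mul, map_inv, hn1, one_mul, inv_one, mul_one]
        have h2 := congrArg μ (hcubeQ a ha _ (hconj n b hb) (by rw [hb']; exact hne))
        rw [map_pow, hgu', map_one, hgu.mul_pow, hg3, one_mul, pow_succ, pow_two, hu2, one_mul] at h2
        exact h2
      have hu1' : ρ₀ b w * w = 1 := Subtype.ext hu1
      rw [mul_eq_one_iff_eq_inv.1 hu1']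
      exact inv_eq_of_mul_eq_one_right (hWe w)
    refine hxne ?_
    have key : ∀ e ∈ E, π (f e) = 1 := by
      intro e he
      have hb' := hb
      rw [hEd] at he hb'
      obtain ⟨g, rfl⟩ := isConj_iff.1 (((hb' : IsConj d₀ b).symm).trans (he : IsConj d₀ e))
      refine Subtype.ext ?_
      rw [hπv, map_mul, map_mul, hbW, mul_one, map_inv, mul_inv_cancel]
      rfl
    rw [key a₁ ha₁, key b₁ hb₁]
  have h9 := Cfsg.Agent.Spor.Soluble.small_class hS hM
  -- the quotient
  set EQ : Set (H ⧸ O) := f '' E with hEQ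
  have hEQcard : Nat.card EQ ≤ 9 := by
    refine le_trans (Nat.card_le_card_of_injective (fun q : EQ => (⟨π q.1, by
      obtain ⟨e, he, hq⟩ := q.2
      exact ⟨e, he, by show π (f e) = π q.1; rw [hq]⟩⟩ : EW)) ?_) h9
    rintro ⟨_, a, ha, rfl⟩ ⟨_, b, hb, rfl⟩ h
    exact Subtype.ext (hinj a ha b hb (congrArg Subtype.val h))
  have hSQ : Cfsg.Agent.Spor.Soluble.Sol EQ (P : Subgroup (H ⧸ O)) := by
    refine ⟨?_, ?_, ?_, ?_, P.isPGroup', hPn, ?_⟩
    · rintro _ ⟨e, he, rfl⟩
      rw [← map_mul, hsq e he, map_one]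
    · rintro g _ ⟨e, he, rfl⟩
      obtain ⟨g, rfl⟩ := hfs g
      exact ⟨g * e * g⁻¹, hconj g e he, by rw [map_mul, map_mul, map_inv]⟩
    · rw [hEQ, ← MonoidHom.map_closure, hgen, ← MonoidHom.range_eq_map, MonoidHom.range_eq_top]
      exact hfs
    · rintro _ ⟨a, ha, rfl⟩ _ ⟨b, hb, rfl⟩ hne
      rw [← map_mul, ← map_pow, hcubeQ a ha b hb hne, map_one]
    · rintro _ ⟨a, ha, rfl⟩ _ ⟨b, hb, rfl⟩
      exact hdiff a ha b hb
  have hbr : ∀ u ∈ EQ, ∀ v ∈ EQ, u ≠ v → u * v * u = v * u * v := fun u hu v hv hne => by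
    have h := hSQ.cube u hu v hv hne
    calc u * v * u = (u * v) ^ 3 * (v⁻¹ * u⁻¹ * v⁻¹) := by rw [pow_succ, pow_two]; group
      _ = _ := by rw [h, one_mul, hSQ.inv_eq hu, hSQ.inv_eq hv]
  set a := f a₁ with haf
  set b := f b₁ with hbf
  have ha : a ∈ EQ := ⟨a₁, ha₁, rfl⟩
  have hb : b ∈ EQ := ⟨b₁, hb₁, rfl⟩
  have hab : a ≠ b := fun h => hxne (congrArg π h)
  have ha2 := hSQ.inv a ha
  have hb2 := hSQ.inv b hb
  have hai := hSQ.inv_eq ha
  have hbi := hSQ.inv_eq hb
  set x := a * b with hx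
  have hxP : x ∈ (P : Subgroup (H ⧸ O)) := hSQ.mem a ha b hb
  have hx3 : x ^ 3 = 1 := hSQ.cube a ha b hb hab
  have hx1 : x ≠ 1 := fun h => hab (by rw [mul_eq_one_iff_eq_inv, hbi] at h; exact h)
  have haP : ∀ p ∈ (P : Subgroup (H ⧸ O)), a * p * a ∈ (P : Subgroup (H ⧸ O)) := fun p hp => by
    have := hPn.conj_mem p hp a; rwa [hai] at this
  have haN : a ∉ (P : Subgroup (H ⧸ O)) := fun h => by
    obtain ⟨j, hj⟩ := P.isPGroup' ⟨a, h⟩
    have := (pow_gcd_eq_one.2 ⟨(by rw [pow_two, ha2] : a ^ 2 = 1), congrArg Subtype.val hj⟩ : a ^ Nat.gcd _ _ = 1)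
    rw [Nat.Coprime.gcd_eq_one ((by decide : Nat.Coprime 2 3).pow_right j), pow_one] at this
    refine hx1 ?_
    have hb1 : ∀ e ∈ EQ, e = 1 := fun e he => by
      obtain ⟨p, -, rfl⟩ := hSQ.class_eq ha he
      rw [this, mul_one, mul_inv_cancel]
    rw [hx, this, one_mul, hb1 b hb]
  by_cases hthree : ∀ e ∈ EQ, e = a ∨ e = b ∨ e = a * b * a
  · -- the symmetric group
    left
    let S3 : Fin 3 → H ⧸ O := ![a, b, a * b * a]
    have hab' : a * b * a ∈ EQ := by
      have := hSQ.conj a b hb; rwa [hai] at this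
    have hS3 : ∀ e, e ∈ EQ ↔ ∃ i, S3 i = e := by
      intro e
      constructor
      · intro he
        rcases hthree e he with rfl | rfl | rfl
        exacts [⟨0, rfl⟩, ⟨1, rfl⟩, ⟨2, rfl⟩]
      · rintro ⟨i, rfl⟩
        fin_cases i
        exacts [ha, hb, hab']
    have hd1 : a * b * a ≠ a := fun h => hab (by
      rw [mul_eq_right, mul_eq_one_iff_eq_inv, hbi] at h; exact h)
    have hd2 : a * b * a ≠ b := fun h => hab (by
      rw [hbr a ha b hb hab, mul_eq_right, mul_eq_one_iff_eq_inv, hai] at h; exact h.symm)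
    have hinj3 : Function.Injective S3 := by
      intro i j h
      fin_cases i <;> fin_cases j
      all_goals first
        | rfl
        | exact absurd h hab
        | exact absurd h.symm hab
        | exact absurd h hd1
        | exact absurd h.symm hd1
        | exact absurd h hd2
        | exact absurd h.symm hd2
    let e3 : Fin 3 ≃ EQ := Equiv.ofBijective (fun i => (⟨S3 i, (hS3 _).2 ⟨i, rfl⟩⟩ : EQ))
      ⟨fun i j h => hinj3 (congrArg Subtype.val h), fun e => by
        obtain ⟨i, hi⟩ := (hS3 e.1).1 e.2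
        exact ⟨i, Subtype.ext hi⟩⟩
    let cP : H ⧸ O →* Equiv.Perm EQ :=
      { toFun := fun g =>
          { toFun := fun e => ⟨g * e.1 * g⁻¹, hSQ.conj g e.1 e.2⟩
            invFun := fun e => ⟨g⁻¹ * e.1 * g⁻¹⁻¹, hSQ.conj g⁻¹ e.1 e.2⟩
            left_inv := fun e => Subtype.ext (by simp [mul_assoc])
            right_inv := fun e => Subtype.ext (by simp [mul_assoc]) }
        map_one' := Equiv.ext fun e => Subtype.ext (by simp)
        map_mul' := fun g g' => Equiv.ext fun e => Subtype.ext (by simp [mul_assoc]) }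
    let φ : H ⧸ O →* Equiv.Perm (Fin 3) := (e3.symm.permCongrHom).toMonoidHom.comp cP
    have hPle : ∀ p ∈ (P : Subgroup (H ⧸ O)), (∀ u ∈ EQ, p * u * p⁻¹ = u) → p = 1 := by
      intro p hp hfix
      have hpc : ∀ g : H ⧸ O, g * p = p * g := fun g =>
        Subgroup.mem_centralizer_singleton_iff.1 ((Subgroup.closure_le (Subgroup.centralizer ({p} : Set (H ⧸ O)))).2
          (fun u hu => Subgroup.mem_centralizer_singleton_iff.2 (mul_inv_eq_iff_eq_mul.1 (hfix u hu)).symm)
          (hSQ.gen ▸ Subgroup.mem_top g))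
      -- every element of the class is a conjugate of `a` by a power of `x`
      have hQ : ∀ g : H ⧸ O, g ∈ Subgroup.zpowers x ∨ a * g ∈ Subgroup.zpowers x := by
        intro g
        have hg : g ∈ Subgroup.closure EQ := hSQ.gen ▸ Subgroup.mem_top g
        have hax : ∀ y ∈ Subgroup.zpowers x, a * y * a ∈ Subgroup.zpowers x := by
          rintro _ ⟨n, rfl⟩
          have e : a * x * a = x⁻¹ := by
            rw [hx, mul_inv_rev, hai, hbi, ← mul_assoc, ha2, one_mul]
          have := (MulAut.conj a).toMonoidHom.map_zpow x n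
          simp only [MulEquiv.coe_toMonoidHom, MulAut.conj_apply, hai] at this
          exact ⟨-n, by show x ^ (-n) = a * x ^ n * a; rw [this, e, inv_zpow']⟩
        induction hg using Subgroup.closure_induction with
        | mem u hu =>
          rcases hthree u hu with rfl | rfl | rfl
          · exact Or.inr (ha2.symm ▸ one_mem _)
          · exact Or.inr (Subgroup.mem_zpowers x)
          · refine Or.inr ?_
            rw [← mul_assoc, ← mul_assoc, ha2, one_mul]
            exact ⟨-1, by show x ^ (-1 : ℤ) = b * a; rw [zpow_neg_one, hx, mul_inv_rev, hai, hbi]⟩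
        | one => exact Or.inl (one_mem _)
        | mul u v _ _ hu hv =>
          rcases hu with hu | hu <;> rcases hv with hv | hv
          · exact Or.inl (mul_mem hu hv)
          · refine Or.inr ?_
            rw [show a * (u * v) = (a * u * a) * (a⁻¹ * v) by group, hai]
            exact mul_mem (hax u hu) hv
          · exact Or.inr (by rw [← mul_assoc]; exact mul_mem hu hv)
          · refine Or.inl ?_
            rw [show u * v = (a⁻¹ * (a * u) * a⁻¹) * (a * v) by group, hai]
            exact mul_mem (hax _ hu) hv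
        | inv u _ hu =>
          rcases hu with hu | hu
          · exact Or.inl (inv_mem hu)
          · refine Or.inr ?_
            rw [show a * u⁻¹ = a * (a * u)⁻¹ * a by group]
            exact hax _ (inv_mem hu)
      have hpz : p ∈ Subgroup.zpowers x := (hQ p).resolve_right fun h => haN (by
        have h1 : Subgroup.zpowers x ≤ (P : Subgroup (H ⧸ O)) := Subgroup.zpowers_le.2 hxP
        have := mul_mem (h1 h) (inv_mem hp)
        rwa [mul_inv_cancel_right] at this)
      obtain ⟨n, rfl⟩ := hpz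
      have e : a * x * a = x⁻¹ := by rw [hx, mul_inv_rev, hai, hbi, ← mul_assoc, ha2, one_mul]
      have h2 := hfix a ha
      have h3 := (MulAut.conj a).toMonoidHom.map_zpow x n
      simp only [MulEquiv.coe_toMonoidHom, MulAut.conj_apply, hai, e] at h3
      have h4 : a * x ^ n * a = x ^ n := by rw [hpc a, mul_assoc, ha2, mul_one]
      rw [h4, inv_zpow, eq_inv_iff_mul_eq_one] at h3
      have hn3 : (x ^ n) ^ 3 = 1 := by
        rw [← zpow_natCast (x ^ n), ← zpow_mul, mul_comm, zpow_mul, zpow_natCast, hx3, one_zpow]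
      rw [pow_succ, pow_two, h3, one_mul] at hn3
      exact hn3
    have hφinj : Function.Injective φ := by
      refine (injective_iff_map_eq_one φ).2 fun g hg => ?_
      have hg' : cP g = 1 := (MulEquiv.map_eq_one_iff e3.symm.permCongrHom (x := cP g)).1 hg
      have hfix : ∀ u ∈ EQ, g * u * g⁻¹ = u := fun u hu =>
        congrArg (fun p : Equiv.Perm EQ => ((p ⟨u, hu⟩ : EQ) : H ⧸ O)) hg'
      rcases hSQ.mem_or ha g with hgP | hgP
      · exact hPle g hgP hfix
      · exfalso
        -- the other coset moves `b`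
        have h1 := hfix a ha
        have h2 := hfix b hb
        have hcen : ∀ p : H ⧸ O, p * g = g * p := fun p =>
          Subgroup.mem_centralizer_singleton_iff.1 ((Subgroup.closure_le (Subgroup.centralizer ({g} : Set (H ⧸ O)))).2
            (fun u hu => Subgroup.mem_centralizer_singleton_iff.2 (mul_inv_eq_iff_eq_mul.1 (hfix u hu)).symm)
            (hSQ.gen ▸ Subgroup.mem_top p))
        set p := a * g with hp
        have hpa : a * p * a = p := by
          rw [hp, ← mul_assoc, ha2, one_mul, ← hcen a]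
        have hpx : p * x = x⁻¹ * p := by
          have e : a * x * a = x⁻¹ := by rw [hx, mul_inv_rev, hai, hbi, ← mul_assoc, ha2, one_mul]
          have key : ∀ y : H ⧸ O, a * y * g = (a * y * a) * (a * g) := fun y => by
            rw [← mul_assoc, mul_assoc (a * y) a a, ha2, mul_one]
          have key2 : ∀ y : H ⧸ O, y * g = g * y → (a * g) * y = a * y * g := fun y hy => by
            rw [mul_assoc, ← hy, mul_assoc]
          rw [hp, key2 x (hcen x), key x, e]
        -- an element of odd order cannot invert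
        obtain ⟨j, hj⟩ := P.isPGroup' ⟨p, hgP⟩
        have hj' : p ^ (3 ^ j) = 1 := congrArg Subtype.val hj
        have hp2 : Commute (p ^ 2) x := by
          show p ^ 2 * x = x * p ^ 2
          rw [pow_two, mul_assoc, hpx, ← mul_assoc]
          have : p * x⁻¹ = x * p := by
            rw [mul_inv_eq_iff_eq_mul, mul_assoc, hpx, mul_inv_cancel_left]
          rw [this, mul_assoc]
        obtain ⟨r, hr⟩ := ((by decide : Odd 3).pow (n := j))
        have hpc : Commute p x := by
          have h := hp2.pow_left (r + 1)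
          rwa [← pow_mul, show 2 * (r + 1) = 3 ^ j + 1 by omega, pow_succ, hj', one_mul] at h
        have : x⁻¹ = x := mul_right_cancel (b := p) (hpx.symm.trans hpc.eq)
        rw [inv_eq_iff_mul_eq_one] at this
        refine hx1 ?_
        rwa [pow_succ, pow_two, this, one_mul] at hx3
    have hcard6 : 6 ≤ Nat.card (H ⧸ O) := by
      have h2 : 2 ∣ Nat.card (H ⧸ O) := by
        rw [← orderOf_eq_prime (by rw [pow_two, ha2] : a ^ 2 = 1) (fun h => haN (h ▸ one_mem _))]
        exact orderOf_dvd_natCard a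
      have h3 : 3 ∣ Nat.card (H ⧸ O) := by
        rw [← orderOf_eq_prime hx3 hx1]
        exact orderOf_dvd_natCard x
      exact Nat.le_of_dvd Nat.card_pos (Nat.Coprime.mul_dvd_of_dvd_of_dvd (by decide : Nat.Coprime 2 3) h2 h3)
    have hp6 : Nat.card (Equiv.Perm (Fin 3)) = 6 := by
      rw [Nat.card_eq_fintype_card, Fintype.card_perm, Fintype.card_fin]; rfl
    exact ⟨MulEquiv.ofBijective φ ((Nat.bijective_iff_injective_and_card φ).2
      ⟨hφinj, le_antisymm (Nat.card_le_card_of_injective φ hφinj) (hp6 ▸ hcard6)⟩)⟩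
  · right
    push_neg at hthree
    obtain ⟨c, hc, hca, hcb, hcab⟩ := hthree
    have hcbc : b * c * b ∈ EQ := by have := hSQ.conj b c hc; rwa [hbi] at this
    have hci := hSQ.inv_eq hc
    have hne' : a ≠ b * c * b := fun h => hcab (by
      rw [hbr a ha b hb hab, h]
      rw [show b * (b * c * b) * b = (b * b) * c * (b * b) by group, hb2, one_mul, mul_one])
    have hR : Cfsg.Agent.Spor.Triangle.Rel a b c :=
      ⟨ha2, hb2, hSQ.inv c hc, hbr a ha b hb hab, hbr a ha c hc (Ne.symm hca), hbr b hb c hc (Ne.symm hcb),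
        by rw [show a * (b * (c * b)) = a * (b * c * b) by group]; exact hSQ.cube a ha _ hcbc hne'⟩
    set y := a * c with hy
    have hyP : y ∈ (P : Subgroup (H ⧸ O)) := hSQ.mem a ha c hc
    have hnc' : x * y ≠ y * x := by
      intro hcm
      have hπc : π x * π y = π y * π x := by rw [← map_mul, ← map_mul, hcm]
      have inv' : ∀ v ∈ EQ, π a * (π a * π v) * π a = (π a * π v)⁻¹ := fun v hv => by
        rw [← map_mul, ← map_mul, ← map_mul, ← map_inv, mul_inv_rev, hai, hSQ.inv_eq hv, ← mul_assoc, ha2, one_mul]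
      have hπa : π a ∈ EW := ⟨a₁, ha₁, rfl⟩
      have hxe : π x = π a * π b := map_mul π a b
      have hye : π y = π a * π c := map_mul π a c
      have hinjQ : ∀ u ∈ EQ, ∀ v ∈ EQ, π u = π v → u = v := by
        rintro _ ⟨u, hu, rfl⟩ _ ⟨v, hv, rfl⟩ h
        exact hinj u hu v hv h
      have hr := hM.eighteen hS hπa ⟨x, hxP, rfl⟩ ⟨y, hyP, rfl⟩ (hxe ▸ inv' b hb) (hye ▸ inv' c hc) hπc
        (fun h => hab (hinjQ a ha b hb (by
          rw [hxe, mul_eq_one_iff_eq_inv, ← map_inv, hbi] at h; exact h)))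
      have hab' : a * b * a ∈ EQ := by have := hSQ.conj a b hb; rwa [hai] at this
      rcases hr with h | h | h
      · refine hca (hinjQ c hc a ha ?_)
        rw [hye, mul_eq_one_iff_eq_inv, ← map_inv, hci] at h
        exact h.symm
      · refine hcb (hinjQ c hc b hb ?_)
        rw [hye, hxe] at h
        exact mul_left_cancel h
      · refine hcab (hinjQ c hc _ hab' ?_)
        rw [hye, ← map_mul π x x] at h
        have h' := congrArg (fun t => π a * t) h
        simp only [← map_mul] at h'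
        rw [← mul_assoc, ha2, one_mul] at h'
        rw [h']
        congr 1
        rw [hx, show a * (a * b * (a * b)) = (a * a) * (b * a * b) by group, ha2, one_mul, hbr a ha b hb hab]
    set K : Subgroup (H ⧸ O) := Subgroup.closure {a, b, c} with hK
    have hle := hR.card_le
    rw [← hK] at hle
    have haK : a ∈ K := Subgroup.subset_closure (Or.inl rfl)
    have hbK : b ∈ K := Subgroup.subset_closure (Or.inr (Or.inl rfl))
    have hcK : c ∈ K := Subgroup.subset_closure (Or.inr (Or.inr rfl))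
    set PK : Subgroup K := (P : Subgroup (H ⧸ O)).subgroupOf K with hPK
    have hPK3 : IsPGroup 3 PK := P.isPGroup'.comap_of_injective K.subtype K.subtype_injective
    have hxK : (⟨x, mul_mem haK hbK⟩ : K) ∈ PK := hxP
    have hyK : (⟨y, mul_mem haK hcK⟩ : K) ∈ PK := hyP
    obtain ⟨j, hj⟩ := IsPGroup.iff_card.1 hPK3
    have hj3 : 3 ≤ j := by
      by_contra hlt
      have hcom : ∀ u v : PK, u * v = v * u := by
        rcases (by omega : j = 0 ∨ j = 1 ∨ j = 2) with rfl | rfl | rfl
        · intro u v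
          haveI := (Nat.card_eq_one_iff_unique.1 (hj.trans (pow_zero 3))).1
          exact Subsingleton.elim _ _
        · haveI := isCyclic_of_prime_card (p := 3) (hj.trans (pow_one 3))
          intro u v
          exact (IsCyclic.commGroup (α := PK)).mul_comm u v
        · intro u v
          exact (IsPGroup.commGroupOfCardEqPrimeSq hj).mul_comm u v
      exact hnc' (congrArg (fun t : PK => ((t : K) : H ⧸ O)) (hcom ⟨_, hxK⟩ ⟨_, hyK⟩))
    have hidx : PK.index = 2 := by
      rw [Subgroup.index_eq_two_iff]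
      refine ⟨⟨a, haK⟩, fun u => ?_⟩
      have h1 : (u * ⟨a, haK⟩ ∈ PK) ↔ (u : H ⧸ O) * a ∈ (P : Subgroup (H ⧸ O)) := Iff.rfl
      have h2 : (u ∈ PK) ↔ (u : H ⧸ O) ∈ (P : Subgroup (H ⧸ O)) := Iff.rfl
      rw [h1, h2]
      by_cases hu : (u : H ⧸ O) ∈ (P : Subgroup (H ⧸ O))
      · refine Or.inr ⟨hu, fun h => haN ?_⟩
        have := mul_mem (inv_mem hu) h
        rwa [inv_mul_cancel_left] at this
      · refine Or.inl ⟨?_, hu⟩
        have h3 := (hSQ.mem_or ha (u : H ⧸ O)).resolve_left hu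
        have := haP _ h3
        rwa [← mul_assoc, ha2, one_mul] at this
    have hKc : Nat.card K = 54 := by
      refine le_antisymm hle ?_
      rw [← PK.card_mul_index, hidx, hj]
      have : 3 ^ 3 ≤ 3 ^ j := Nat.pow_le_pow_right (by norm_num) hj3
      omega
    have hFex : ∃ (F : Type) (_ : Field F) (_ : Fintype F), Fintype.card F = 4 := by
      letI := Fintype.ofFinite (GaloisField 2 2)
      exact ⟨GaloisField 2 2, inferInstance, this, by
        rw [← Nat.card_eq_fintype_card, GaloisField.card 2 2 two_ne_zero]; rfl⟩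
    obtain ⟨F, iF, iFF, hF4⟩ := hFex
    obtain ⟨hcard', a', b', c', hgen', ha', hb', hc', hane, hab', hac', hbc', hab3', hac3', hbc3', -, htr', hnine, -⟩ :=
      Cfsg.Agent.Spor.ThreeSU.exists_triple hF4
    have br' : ∀ u v : ↥(commutator ↥(Cfsg.SU 3 F 2)), u * u = 1 → v * v = 1 → (u * v) ^ 3 = 1 →
        u * v * u = v * u * v := fun u v hu hv h3 => by
      calc u * v * u = (u * v) ^ 3 * (v⁻¹ * u⁻¹ * v⁻¹) := by rw [pow_succ, pow_two]; group
        _ = _ := by rw [h3, one_mul, inv_eq_of_mul_eq_one_right hu, inv_eq_of_mul_eq_one_right hv]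
    have hR' : Cfsg.Agent.Spor.Triangle.Rel a' b' c' :=
      ⟨ha', hb', hc', br' a' b' ha' hb' hab3', br' a' c' ha' hc' hac3', br' b' c' hb' hc' hbc3', htr'⟩
    let aK : K := ⟨a, haK⟩
    let bK : K := ⟨b, hbK⟩
    let cK : K := ⟨c, hcK⟩
    have hRK : Cfsg.Agent.Spor.Triangle.Rel aK bK cK :=
      ⟨Subtype.ext hR.a2, Subtype.ext hR.b2, Subtype.ext hR.c2, Subtype.ext hR.ab, Subtype.ext hR.ac,
        Subtype.ext hR.bc, Subtype.ext (by
          rw [Subgroup.coe_pow, Subgroup.coe_mul, Subgroup.coe_mul, Subgroup.coe_mul]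
          exact hR.tr)⟩
    have hgK : Subgroup.closure {aK, bK, cK} = ⊤ := by
      refine Subgroup.map_injective K.subtype_injective ?_
      rw [MonoidHom.map_closure, ← MonoidHom.range_eq_map, Subgroup.range_subtype, Set.image_insert_eq,
        Set.image_insert_eq, Set.image_singleton]
      exact hK.symm
    obtain ⟨iso⟩ := Cfsg.Agent.Spor.Triangle.iso_of_triangle hRK hR' hgK hgen' hKc hcard'
    -- the class lies in `K`
    have hinvmem : ∀ t : K, t * t = 1 → t ≠ 1 → (t : H ⧸ O) ∈ EQ := by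
      intro t ht ht1
      have ht' : (t : H ⧸ O) * t = 1 := congrArg Subtype.val ht
      have hi : a * (t : H ⧸ O) ∈ (P : Subgroup (H ⧸ O)) := (hSQ.mem_or ha _).resolve_left fun h => by
        obtain ⟨j', hj'⟩ := P.isPGroup' ⟨_, h⟩
        have := (pow_gcd_eq_one.2 ⟨(by rw [pow_two, ht'] : (t : H ⧸ O) ^ 2 = 1), congrArg Subtype.val hj'⟩ : (t : H ⧸ O) ^ Nat.gcd _ _ = 1)
        rw [Nat.Coprime.gcd_eq_one ((by decide : Nat.Coprime 2 3).pow_right j'), pow_one] at this
        exact ht1 (Subtype.ext this)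
      have := hSQ.inverted_mem ha hi (by
        rw [mul_inv_rev, hai, inv_eq_of_mul_eq_one_right ht', ← mul_assoc, ha2, one_mul])
      rwa [← mul_assoc, ha2, one_mul] at this
    let g : {t : ↥(commutator ↥(Cfsg.SU 3 F 2)) // t * t = 1 ∧ t ≠ 1} → EQ := fun s =>
      ⟨((iso.symm s.1 : K) : H ⧸ O), hinvmem _ (by rw [← map_mul, s.2.1, map_one])
        (fun h => s.2.2 (by rwa [MulEquiv.map_eq_one_iff] at h))⟩
    have hgi : Function.Injective g := fun s s' h => Subtype.ext (iso.symm.injective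
      (Subtype.ext (congrArg (fun e : EQ => (e : H ⧸ O)) h)))
    have hsurj : Function.Surjective g :=
      ((Nat.bijective_iff_injective_and_card g).2
        ⟨hgi, le_antisymm (Nat.card_le_card_of_injective g hgi) (hEQcard.trans hnine)⟩).2
    have hKtop : K = ⊤ := by
      rw [eq_top_iff, ← hSQ.gen, Subgroup.closure_le]
      intro e he
      obtain ⟨s, hs⟩ := hsurj ⟨e, he⟩
      rw [← show ((iso.symm s.1 : K) : H ⧸ O) = e from congrArg Subtype.val hs]
      exact SetLike.coe_mem _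
    exact ⟨F, iF, iFF, hF4, ⟨((MulEquiv.subgroupCongr hKtop).trans Subgroup.topEquiv).symm.trans iso⟩⟩


end Cfsg.Agent.S5559
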