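import Cfsg.Statements.S5560
import Cfsg.Agent.Lib.Char.ZStar
import Cfsg.Agent.Lib.Solv.Coprime
import Cfsg.Agent.Lib.Solv.SetMul
import Cfsg.Agent.Lib.Solv.Cores

set_option autoImplicit false
open Cfsg
open scoped Pointwise

namespace Cfsg.Agent.S5560

/-- A Z*-type result for an odd prime p. Let G be a finite group and d an involution of G such that the product of any two conjugates of d has order a power of p. Then the product of any two conjugates of d lies in the largest normal p-subgroup O_p(G); in other words the conjugacy class of d lies in the coset O_p(G)d, and d is central modulo O_p(G). -/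
theorem result {G : Type*} [Group G] [Finite G] {p : ℕ} (hp : p.Prime) (hp2 : p ≠ 2)
    (d : G) (hd : orderOf d = 2)
    (hprod : ∀ a ∈ conjugatesOf d, ∀ b ∈ conjugatesOf d, ∃ k : ℕ, orderOf (a * b) = p ^ k) :
    ∀ a ∈ conjugatesOf d, ∀ b ∈ conjugatesOf d, a * b ∈ Cfsg.pCore p G := by
  haveI := Fact.mk hp
  set t := d
  have ht : orderOf t = 2 := hd
  have ht2 : t * t = 1 := by rw [← pow_two, ← ht, pow_orderOf_eq_one]
  have hti : t⁻¹ = t := inv_eq_of_mul_eq_one_right ht2
  have hodd' : Odd p := hp.odd_of_ne_two hp2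
  have hpp : ∀ g : G, ∃ k : ℕ, orderOf (t * (g * t * g⁻¹)) = p ^ k := fun g =>
    hprod t (mem_conjugatesOf_self) _ (isConj_iff.2 ⟨g, rfl⟩)
  have hOI : Char.OddInvol t := by
    refine ⟨ht2, fun e => ?_, fun g => ?_⟩
    · have := ht
      rw [e, orderOf_one] at this
      omega
    · obtain ⟨k, hk⟩ := hpp g
      rw [hk]; exact hodd'.pow
  set O := oddCore G with hO
  haveI : O.Normal := by rw [hO, oddCore]; exact Solv.pPrimeCore_normal 2
  have hOodd : Odd (Nat.card O) := Char.card_oddCore_odd G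
  set A := Subgroup.zpowers t with hA
  have hcA : ∀ a b : A, a * b = b * a := by
    rintro ⟨_, i, rfl⟩ ⟨_, j, rfl⟩
    exact Subtype.ext (((Commute.refl t).zpow_zpow i j).eq)
  have hAN : A ≤ Subgroup.normalizer (O : Set G) := by
    rw [Subgroup.normalizer_eq_top]; exact le_top
  have hAc : Nat.card A = 2 := by rw [hA, Nat.card_zpowers, ht]
  have hco : (Nat.card A).Coprime (Nat.card O) := by
    rw [hAc]; exact Nat.coprime_two_left.2 hOodd
  have hsol : Group.IsSolvable A ∨ Group.IsSolvable O :=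
    Or.inl (Group.isSolvable_of_comm fun a b => hcA a b)
  obtain ⟨P, hP, hAP⟩ := Solv.exists_invariant_sylow hAN hco hsol p
  have htP : ∀ u ∈ P, t * u * t⁻¹ ∈ P := fun u hu =>
    (Subgroup.mem_normalizer_iff.1 (hAP (Subgroup.mem_zpowers t)) u).1 hu
  set M := O ⊓ Subgroup.centralizer ({t} : Set G) with hM
  -- the other invariant Sylow subgroups are centralized by `t`
  have hQ : ∀ q : ℕ, q.Prime → q ≠ p → q ^ (Nat.card O).factorization q ∣ Nat.card M := by
    intro q hq hqp
    haveI := Fact.mk hq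
    obtain ⟨Q, hQ, hAQ⟩ := Solv.exists_invariant_sylow hAN hco hsol q
    have hle : Q ≤ M := by
      refine le_inf hQ.1 fun x hx => ?_
      have hw : t * (x * t * x⁻¹) ∈ Q := by
        have h1 := (Subgroup.mem_normalizer_iff.1 (hAQ (Subgroup.mem_zpowers t)) x).1 hx
        have h2 := Q.mul_mem h1 (Q.inv_mem hx)
        rw [hti] at h2
        simpa only [mul_assoc] using h2
      obtain ⟨k, hk⟩ := hpp x
      obtain ⟨j, hj⟩ := IsPGroup.iff_orderOf.1 hQ.isPGroup ⟨_, hw⟩
      rw [Subgroup.orderOf_mk] at hj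
      have h1 : orderOf (t * (x * t * x⁻¹)) = 1 :=
        Nat.eq_one_of_dvd_coprimes ((Nat.coprime_primes hq hp).2 hqp |>.pow j k) hj.dvd hk.dvd
      rw [orderOf_eq_one_iff, mul_eq_one_iff_eq_inv', hti, mul_inv_eq_iff_eq_mul] at h1
      exact Subgroup.mem_centralizer_singleton_iff.2 h1
    exact hQ.2 ▸ Subgroup.card_dvd_of_le hle
  -- so every element of `O` is a product from `P` and `C(t)`
  have hdec : ∀ x ∈ O, ∃ u ∈ P, ∃ m ∈ M, x = u * m := by
    have hcard := Solv.card_mul_set_mul_card_inf P M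
    set n := Nat.card ((P : Set G) * (M : Set G) : Set G)
    have hi : Nat.card (P ⊓ M : Subgroup G) ∣ Nat.card P := Subgroup.card_dvd_of_le inf_le_left
    have hj : Nat.card (P ⊓ M : Subgroup G) ∣ Nat.card M := Subgroup.card_dvd_of_le inf_le_right
    have hPn : Nat.card P ∣ n := by
      refine Nat.dvd_of_mul_dvd_mul_right (Nat.card_pos (α := (P ⊓ M : Subgroup G))) ?_
      rw [hcard]; exact mul_dvd_mul_left _ hj
    have hMn : Nat.card M ∣ n := by
      refine Nat.dvd_of_mul_dvd_mul_right (Nat.card_pos (α := (P ⊓ M : Subgroup G))) ?_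
      rw [hcard, mul_comm (Nat.card P)]; exact mul_dvd_mul_left _ hi
    have hOn : Nat.card O ∣ n := by
      refine (Nat.dvd_iff_prime_pow_dvd_dvd _ _).2 fun q k hq hqk => ?_
      have hqk' : q ^ k ∣ q ^ (Nat.card O).factorization q :=
        Nat.pow_dvd_pow q ((hq.pow_dvd_iff_le_factorization Nat.card_pos.ne').1 hqk)
      refine hqk'.trans ?_
      rcases eq_or_ne q p with rfl | hqp
      · exact hP.2.symm.dvd.trans hPn
      · exact (hQ q hq hqp).trans hMn
    have hsub : ((P : Set G) * (M : Set G) : Set G) ⊆ (O : Set G) := by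
      rintro _ ⟨u, hu, m, hm, rfl⟩
      exact O.mul_mem (hP.1 hu) hm.1
    have hn0 : 0 < n := by
      rw [Nat.card_pos_iff]
      exact ⟨⟨⟨1, 1, P.one_mem, 1, M.one_mem, one_mul 1⟩⟩, inferInstance⟩
    have heq : ((P : Set G) * (M : Set G) : Set G) = (O : Set G) :=
      Set.eq_of_subset_of_ncard_le hsub (by
        rw [← Nat.card_coe_set_eq, ← Nat.card_coe_set_eq]
        exact Nat.le_of_dvd hn0 hOn) (Set.toFinite _)
    intro x hx
    obtain ⟨u, hu, m, hm, h⟩ := (heq.ge hx : x ∈ (P : Set G) * (M : Set G))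
    exact ⟨u, hu, m, hm, h.symm⟩
  have hsP : ∀ g : G, g * t * g⁻¹ * t⁻¹ ∈ P := by
    intro g
    have hcO : g * t * g⁻¹ * t⁻¹ ∈ O := by
      have h := Subgroup.inv_mem _ (Char.zStar hOI g)
      rwa [show (t * g * t⁻¹ * g⁻¹)⁻¹ = g * t * g⁻¹ * t⁻¹ by group] at h
    set c := g * t * g⁻¹ * t⁻¹ with hc
    have hcinv : t * c * t⁻¹ = c⁻¹ := by
      rw [hc]
      simp only [mul_inv_rev, inv_inv, hti, mul_assoc, ht2, mul_one]
    have hco' : Odd (orderOf c) := hOodd.of_dvd_nat (Subgroup.orderOf_dvd_natCard O hcO)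
    obtain ⟨j, hj⟩ := hco'
    set s := c ^ (j + 1) with hs
    have hsO : s ∈ O := O.pow_mem hcO _
    have hs2 : s * s = c := by
      rw [hs, ← pow_add, show j + 1 + (j + 1) = orderOf c + 1 by omega, pow_succ,
        pow_orderOf_eq_one, one_mul]
    have hts : t * s * t⁻¹ = s⁻¹ := by rw [hs, ← conj_pow, hcinv, inv_pow]
    have hcs : s * t * s⁻¹ * t⁻¹ = c := by
      rw [show s * t * s⁻¹ * t⁻¹ = s * (t * s * t⁻¹)⁻¹ by group, hts, inv_inv, hs2]
    obtain ⟨u, hu, m, hm, hum⟩ := hdec s hsO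
    have hmt : m * t * m⁻¹ = t := by
      rw [Subgroup.mem_centralizer_singleton_iff.1 hm.2, mul_inv_cancel_right]
    rw [← hcs, hum, show u * m * t * (u * m)⁻¹ * t⁻¹ = u * (m * t * m⁻¹) * u⁻¹ * t⁻¹ by group, hmt,
      show u * t * u⁻¹ * t⁻¹ = u * (t * u⁻¹ * t⁻¹) by group]
    exact P.mul_mem hu (htP _ (P.inv_mem hu))
  set c : G → G := fun g => g * t * g⁻¹ * t⁻¹ with hc
  set L := Subgroup.closure (Set.range c) with hL
  have hLP : L ≤ P := by
    rw [hL, Subgroup.closure_le]
    rintro _ ⟨g, rfl⟩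
    exact hsP g
  haveI hLn : L.Normal := by
    refine ⟨fun x hx h => ?_⟩
    induction hx using Subgroup.closure_induction with
    | mem x hx =>
      obtain ⟨g, rfl⟩ := hx
      have e : h * c g * h⁻¹ = c (h * g) * (c h)⁻¹ := by simp only [hc]; group
      rw [e]
      exact L.mul_mem (Subgroup.subset_closure ⟨_, rfl⟩) (L.inv_mem (Subgroup.subset_closure ⟨_, rfl⟩))
    | one => simp [L.one_mem]
    | mul x y _ _ hx hy =>
      rw [← conj_mul]; exact L.mul_mem hx hy
    | inv x _ hx =>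
      rw [← conj_inv]; exact L.inv_mem hx
  have hLcore : L ≤ Cfsg.pCore p G :=
    le_sSup ⟨hLn, hP.isPGroup.to_le hLP⟩
  intro a ha b hb
  obtain ⟨g, rfl⟩ := isConj_iff.1 ha
  obtain ⟨h, rfl⟩ := isConj_iff.1 hb
  refine hLcore ?_
  have e : g * t * g⁻¹ * (h * t * h⁻¹) = c g * (c h)⁻¹ * (h * (t * t) * h⁻¹) := by
    simp only [hc]; group
  rw [e, ht2, mul_one, mul_inv_cancel, mul_one]
  exact L.mul_mem (Subgroup.subset_closure ⟨_, rfl⟩) (L.inv_mem (Subgroup.subset_closure ⟨_, rfl⟩))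

end Cfsg.Agent.S5560
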