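import Cfsg.Statements.S5570
import Cfsg.Agent.Lib.Spor.JFourTenApply

set_option autoImplicit false
open Cfsg

namespace Cfsg.Agent.S5570

/-- Let G be a finite non-abelian simple group of Janko-four type (an involution z whose centralizer H has an extraspecial largest normal 2-subgroup E of order 2^13 containing its centralizer in H, a normal subgroup N ≥ E of H with N/E of order 3 and H/N the automorphism group of M₂₂, and a subgroup P ≤ N of order 3 with C_E(P) = ⟨z⟩, N_H(P) ≠ C_H(P) and P ≤ C_H(P)′). Then G has self-centralizing elementary abelian subgroups of order 2^10, any two of them are conjugate, and for such a subgroup A the normalizer of A is a split extension of A by a complement isomorphic to L₅(2) under which A has no proper non-trivial invariant subgroup. -/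
theorem result {G : Type*} [Group G] [Finite G] [IsSimpleGroup G] (hG : ¬ IsMulCommutative G) (hJ : Cfsg.IsOfJankoFourType G) :
    (∃ A : Subgroup G, Cfsg.IsElementaryAbelian 2 A ∧ Nat.card ↥A = 2 ^ 10 ∧ Subgroup.centralizer (A : Set G) = A) ∧
    (∀ A A' : Subgroup G, Cfsg.IsElementaryAbelian 2 A → Nat.card ↥A = 2 ^ 10 → Subgroup.centralizer (A : Set G) = A → Cfsg.IsElementaryAbelian 2 A' → Nat.card ↥A' = 2 ^ 10 → Subgroup.centralizer (A' : Set G) = A' → ∃ g : G, A' = A.map (MulAut.conj g).toMonoidHom) ∧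
    ∀ A : Subgroup G, Cfsg.IsElementaryAbelian 2 A → Nat.card ↥A = 2 ^ 10 → Subgroup.centralizer (A : Set G) = A →
      (∃ B : Subgroup G, B ≤ Subgroup.normalizer (A : Set G) ∧ B ⊓ A = ⊥ ∧ B ⊔ A = Subgroup.normalizer (A : Set G) ∧
        Nonempty (↥B ≃* Matrix.SpecialLinearGroup (Fin 5) (ZMod 2))) ∧
      ∀ W : Subgroup G, W ≤ A → Subgroup.normalizer (A : Set G) ≤ Subgroup.normalizer (W : Set G) → W = ⊥ ∨ W = A := by
  obtain ⟨z, P, hJ⟩ := hJ
  obtain ⟨N, x, S, -⟩ := Cfsg.Agent.Spor.JFour.setup_of hJ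
  obtain ⟨f⟩ := S.exists_frame
  obtain ⟨V, ψ, κ, SP, hVc⟩ := (S.big hG).exists_spl f
  have hT := (S.big hG).isTen_sp f SP hVc
  refine ⟨⟨SP.ten, hT.elem, hT.card, hT.self⟩,
    fun A A' h1 h2 h3 h1' h2' h3' => (S.big hG).ten_class f ⟨h1, h2, h3⟩ ⟨h1', h2', h3'⟩, ?_⟩
  intro A h1 h2 h3
  obtain ⟨g, rfl⟩ := (S.big hG).ten_class f hT ⟨h1, h2, h3⟩
  obtain ⟨B, hB1, hB2, hB3, ⟨e⟩⟩ := (S.big hG).ten_compl f SP hVc
  have hinj : Function.Injective (MulAut.conj g).toMonoidHom := (MulAut.conj g).injective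
  have hN : (Subgroup.normalizer (SP.ten : Set G)).map (MulAut.conj g).toMonoidHom =
      Subgroup.normalizer (SP.ten.map (MulAut.conj g).toMonoidHom : Set G) :=
    Subgroup.map_equiv_normalizer_eq SP.ten (MulAut.conj g)
  refine ⟨⟨B.map (MulAut.conj g).toMonoidHom, hN ▸ Subgroup.map_mono hB1, ?_, ?_,
    ⟨(B.equivMapOfInjective _ hinj).symm.trans e⟩⟩, ?_⟩
  · rw [← Subgroup.map_inf _ _ _ hinj, hB2, Subgroup.map_bot]
  · rw [← Subgroup.map_sup, hB3, hN]
  · set A := SP.ten.map (MulAut.conj g).toMonoidHom with hA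
    intro W hWA hNW
    obtain ⟨a, b, ha, hb, h155, h868⟩ := (S.big hG).ten_two_orbits f (A := A) ⟨h1, h2, h3⟩
    set Oa := Cfsg.Agent.Spor.JFour.cOrb (Subgroup.normalizer (A : Set G)) a with hOa
    set Ob := Cfsg.Agent.Spor.JFour.cOrb (Subgroup.normalizer (A : Set G)) b with hOb
    have hsubA : ∀ {r : G}, r ∈ A → Cfsg.Agent.Spor.JFour.cOrb (Subgroup.normalizer (A : Set G)) r ⊆ A := by
      rintro r hr _ ⟨n, hn, rfl⟩
      exact (Subgroup.mem_normalizer_iff.1 hn r).1 hr
    have hinv : ∀ {r s : G}, s ∈ W → s ∈ Cfsg.Agent.Spor.JFour.cOrb (Subgroup.normalizer (A : Set G)) r →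
        Cfsg.Agent.Spor.JFour.cOrb (Subgroup.normalizer (A : Set G)) r ⊆ W := by
      rintro r _ hs ⟨n, hn, rfl⟩ _ ⟨m, hm, rfl⟩
      have h := (Subgroup.mem_normalizer_iff.1 (hNW (mul_mem hm (inv_mem hn))) _).1 hs
      have e' : m * n⁻¹ * (n * r * n⁻¹) * (m * n⁻¹)⁻¹ = m * r * m⁻¹ := by group
      rwa [e'] at h
    have hone : ∀ {r : G}, (1 : G) ∈ Cfsg.Agent.Spor.JFour.cOrb (Subgroup.normalizer (A : Set G)) r →
        (Cfsg.Agent.Spor.JFour.cOrb (Subgroup.normalizer (A : Set G)) r).ncard = 1 := by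
      rintro r ⟨n, -, e'⟩
      have hr : r = 1 := conj_eq_one_iff.1 e'
      subst hr
      rw [Set.ncard_eq_one]
      exact ⟨1, Set.ext fun v => ⟨fun ⟨m, _, e''⟩ => by rw [← e'', mul_one, mul_inv_cancel]; rfl,
        fun hv => ⟨1, one_mem _, by rw [mul_one, inv_one, mul_one]; exact hv.symm⟩⟩⟩
    have h1a : (1 : G) ∉ Oa := fun h => by have := hone h; rw [h155] at this; omega
    have h1b : (1 : G) ∉ Ob := fun h => by have := hone h; rw [h868] at this; omega
    have hdis : Disjoint Oa Ob := Set.disjoint_left.2 fun r hr hr' => by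
      obtain ⟨n, hn, rfl⟩ := hr
      obtain ⟨m, hm, e'⟩ := hr'
      have hsame : Oa = Ob := by
        ext v
        constructor
        · rintro ⟨k, hk, rfl⟩
          refine ⟨k * n⁻¹ * m, mul_mem (mul_mem hk (inv_mem hn)) hm, ?_⟩
          calc k * n⁻¹ * m * b * (k * n⁻¹ * m)⁻¹ = k * n⁻¹ * (m * b * m⁻¹) * (k * n⁻¹)⁻¹ := by group
            _ = _ := by rw [e']; group
        · rintro ⟨k, hk, rfl⟩
          refine ⟨k * m⁻¹ * n, mul_mem (mul_mem hk (inv_mem hm)) hn, ?_⟩
          calc k * m⁻¹ * n * a * (k * m⁻¹ * n)⁻¹ = k * m⁻¹ * (n * a * n⁻¹) * (k * m⁻¹)⁻¹ := by group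
            _ = _ := by rw [← e']; group
      rw [hsame, h868] at h155
      omega
    have hcover : (A : Set G) \ {1} = Oa ∪ Ob := by
      refine (Set.eq_of_subset_of_ncard_le (show Oa ∪ Ob ⊆ (A : Set G) \ {1} from Set.union_subset
        (fun r hr => ⟨hsubA ha hr, fun e' => h1a (e' ▸ hr)⟩) (fun r hr => ⟨hsubA hb hr, fun e' => h1b (e' ▸ hr)⟩))
        (le_of_eq ?_) (Set.toFinite _)).symm
      rw [Set.ncard_union_eq hdis (Set.toFinite _) (Set.toFinite _), h155, h868,
        Set.ncard_sdiff_singleton_of_mem (one_mem A), ← Nat.card_coe_set_eq]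
      show Nat.card A - 1 = 1023
      rw [h2]
      norm_num
    have hWset : ∀ r ∈ W, r ≠ 1 → r ∈ Oa ∨ r ∈ Ob := fun r hr h1r =>
      (Set.ext_iff.1 hcover r).1 ⟨hWA hr, h1r⟩
    have hWd : Nat.card W ∣ 2 ^ 10 := h2 ▸ Subgroup.card_dvd_of_le hWA
    by_cases hWb : ∀ r ∈ W, r = 1
    · exact Or.inl ((Subgroup.eq_bot_iff_forall _).2 hWb)
    push Not at hWb
    obtain ⟨r, hr, hr1⟩ := hWb
    refine Or.inr (Subgroup.eq_of_le_of_card_ge hWA ?_)
    rw [h2]
    by_contra hlt
    push Not at hlt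
    have key : ∀ (O : Set G) (k : ℕ), O ⊆ W → (1 : G) ∉ O → O.ncard = k → k + 1 ≤ Nat.card W := by
      intro O k hO hO1 hk
      rw [← hk, ← Set.ncard_insert_of_notMem hO1 (Set.toFinite _), ← SetLike.coe_sort_coe, Nat.card_coe_set_eq]
      exact Set.ncard_le_ncard (Set.insert_subset (one_mem W) hO) (Set.toFinite _)
    obtain ⟨k, hk, hkc⟩ := (Nat.dvd_prime_pow Nat.prime_two).1 hWd
    by_cases hmixed : ∃ u ∈ W, u ∈ Oa
    · obtain ⟨u, hu, huO⟩ := hmixed
      have hsa := hinv hu huO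
      by_cases hmb : ∃ v ∈ W, v ∈ Ob
      · obtain ⟨v, hv, hvO⟩ := hmb
        have hle : (A : Set G) \ {1} ⊆ W := hcover ▸ Set.union_subset hsa (hinv hv hvO)
        have : A ≤ W := fun y hy => by
          by_cases hy1 : y = 1
          · subst hy1; exact one_mem W
          · exact hle ⟨hy, hy1⟩
        have := Subgroup.card_le_of_le this
        rw [h2] at this
        omega
      · push Not at hmb
        have h156 := key Oa 155 hsa h1a h155
        have hup : Nat.card W ≤ 156 := by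
          rw [← SetLike.coe_sort_coe, Nat.card_coe_set_eq]
          refine (Set.ncard_le_ncard (t := insert 1 Oa) (fun y hy => ?_) (Set.toFinite _)).trans
            ((Set.ncard_insert_le _ _).trans (by omega))
          by_cases hy1 : y = 1
          · exact Or.inl hy1
          · exact Or.inr ((hWset y hy hy1).resolve_right (hmb y hy))
        interval_cases k <;> omega
    · push Not at hmixed
      have hro : r ∈ Ob := (hWset r hr hr1).resolve_left (hmixed r hr)
      have h869 := key Ob 868 (hinv hr hro) h1b h868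
      interval_cases k <;> omega

end Cfsg.Agent.S5570
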