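import Cfsg.Statements.S5572
import Cfsg.Agent.Lib.Spor.JFourLoc.FiveTop
-- import your own Cfsg.Agent.* helpers here

set_option autoImplicit false
open Cfsg

namespace Cfsg.Agent.S5572

/-- Let G be a finite non-abelian simple group of Janko-four type (an involution z whose centralizer H has an extraspecial largest normal 2-subgroup E of order 2^13 containing its centralizer in H, a normal subgroup N ≥ E of H with N/E of order 3 and H/N the automorphism group of M₂₂, and a subgroup P ≤ N of order 3 with C_E(P) = ⟨z⟩, N_H(P) ≠ C_H(P) and P ≤ C_H(P)′). Let Q ≤ H have order 5. Then Q is a Sylow 5-subgroup of G; its centralizer is Q × J with J a non-split extension of an elementary abelian group of order 8 by L₃(2); its normalizer contains a subgroup of order 20 containing Q in which Q is self-centralizing (a Frobenius group of order 20); and the normalizer of Q has order 2^8·3·5·7. -/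
theorem result {G : Type*} [Group G] [Finite G] [IsSimpleGroup G] (hG : ¬ IsMulCommutative G) (z : G) (hJ : Cfsg.IsOfJankoFourTypeAt z) (Q : Subgroup G) (hQ : Nat.card ↥Q = 5) (hQz : Q ≤ Subgroup.centralizer ({z} : Set G)) :
    ¬ (25 ∣ Nat.card G) ∧
    (∃ J : Subgroup G, Cfsg.IsInternalDirectProduct Q J (Subgroup.centralizer (Q : Set G)) ∧
      ∃ (E : Subgroup ↥J) (_ : E.Normal), Cfsg.IsElementaryAbelian 2 E ∧ Nat.card ↥E = 8 ∧
        Nonempty (↥J ⧸ E ≃* Matrix.SpecialLinearGroup (Fin 3) (ZMod 2)) ∧ ∀ K : Subgroup ↥J, ¬ E.IsComplement' K) ∧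
    (∃ R : Subgroup G, Q ≤ R ∧ R ≤ Subgroup.normalizer (Q : Set G) ∧ Nat.card ↥R = 20 ∧ R ⊓ Subgroup.centralizer (Q : Set G) = Q) ∧
    Nat.card ↥(Subgroup.normalizer (Q : Set G)) = 2 ^ 8 * 3 * 5 * 7 := by
  haveI : Fact (Nat.Prime 5) := ⟨by norm_num⟩
  obtain ⟨P, hJ⟩ := hJ
  obtain ⟨N, x, S, -⟩ := Cfsg.Agent.Spor.JFour.setup_of hJ
  obtain ⟨f⟩ := S.exists_frame
  haveI := isCyclic_of_prime_card hQ
  obtain ⟨g, hg⟩ := IsCyclic.exists_generator (α := Q)
  have hQg : Q = Subgroup.zpowers (g : G) := by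
    refine le_antisymm (fun a ha => ?_) (Subgroup.zpowers_le.2 g.2)
    obtain ⟨i, hi⟩ := hg ⟨a, ha⟩
    exact ⟨i, congrArg Subtype.val hi⟩
  have hgo : orderOf (g : G) = 5 := by rw [← Nat.card_zpowers, ← hQg, hQ]
  have hg5 : (g : G) ^ 5 = 1 := hgo ▸ pow_orderOf_eq_one _
  have hg1 : (g : G) ≠ 1 := fun e => by rw [e, orderOf_one] at hgo; norm_num at hgo
  obtain ⟨E, J, d, T⟩ := (S.big hG).five_top f hg5 hg1 (Subgroup.mem_centralizer_singleton_iff.1 (hQz g.2))
  rw [hQg]
  have hcQ : Subgroup.centralizer ((Subgroup.zpowers (g : G) : Subgroup G) : Set G) =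
      Subgroup.centralizer ({(g : G)} : Set G) := by
    rw [Subgroup.zpowers_eq_closure, Subgroup.centralizer_closure]
  have hC := T.loc.ctx
  have hgc : (g : G) ∈ Subgroup.centralizer ({(g : G)} : Set G) := Subgroup.mem_centralizer_singleton_iff.2 rfl
  have hmul := Cfsg.Agent.Spor.JFour.sq_pow_five T.dp
  have hd4 : ∀ j : ℕ, d ^ j = d ^ (j % 4) := fun j => by
    conv_lhs => rw [← Nat.mod_add_div j 4, pow_add, pow_mul, T.d4, one_pow, mul_one]
  have hpd : ∀ j : ℕ, j < 4 → Commute (d ^ j) (g : G) → j = 0 := by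
    intro j hj hc
    have h2 := hmul 1 j
    rw [pow_one, hc.eq, one_mul, mul_left_inj] at h2
    conv_lhs at h2 => rw [← pow_one (g : G)]
    rw [pow_eq_pow_iff_modEq, hgo] at h2
    exact (show ∀ r : Fin 4, Nat.ModEq 5 1 (2 ^ r.val) → r.val = 0 by decide) ⟨j, hj⟩ h2
  refine ⟨T.n25, ⟨J, ⟨?_, ?_, ?_, ?_, ?_⟩, E.subgroupOf J, T.quot.1, ⟨⟨⟨?_⟩⟩, ?_⟩, ?_, T.quot.2, T.nonsplit⟩,
    ⟨?_, ?_⟩, ?_⟩
  · rw [hcQ]; exact Subgroup.zpowers_le.2 hgc
  · rw [hcQ]; exact fun j hj => Subgroup.mem_centralizer_singleton_iff.2 (T.JC j hj).eq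
  · rintro a ⟨i, rfl⟩ b hb
    exact ((T.JC b hb).zpow_right i).eq.symm
  · rw [Subgroup.eq_bot_iff_forall]
    rintro a ⟨ha, haJ⟩
    obtain ⟨i, hi⟩ := (mem_powers_iff_mem_zpowers (x := (g : G))).2 ha
    have hi' : (g : G) ^ i = a := hi
    rw [← hi'] at haJ ⊢
    exact T.disj i haJ
  · rw [hcQ]
    refine le_antisymm (sup_le (Subgroup.zpowers_le.2 hgc)
      fun j hj => Subgroup.mem_centralizer_singleton_iff.2 (T.JC j hj).eq) fun c hc => ?_
    obtain ⟨i, j, hj, rfl⟩ := T.split c (Subgroup.mem_centralizer_singleton_iff.1 hc)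
    exact Subgroup.mul_mem_sup (pow_mem (Subgroup.mem_zpowers _) i) hj
  · rintro ⟨a, ha⟩ ⟨b, hb⟩
    have hi : ∀ e ∈ E, e⁻¹ = e := fun e he => inv_eq_of_mul_eq_one_right (hC.sq e he)
    refine Subtype.ext (Subtype.ext ?_)
    have ha : (a : G) ∈ E := ha
    have hb : (b : G) ∈ E := hb
    show (a : G) * b = b * a
    rw [← hi _ (mul_mem ha hb), mul_inv_rev, hi _ ha, hi _ hb]
  · intro a ha
    refine Subtype.ext ?_
    rw [pow_two]
    exact hC.sq _ ha
  · rw [Nat.card_congr (Subgroup.subgroupOfEquivOfLe T.EJ).toEquiv, hC.card]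
  · exact {
      carrier := {r | ∃ i j : ℕ, r = (g : G) ^ i * d ^ j}
      one_mem' := ⟨0, 0, by simp⟩
      mul_mem' := by
        rintro a b ⟨i, j, rfl⟩ ⟨i', j', rfl⟩
        refine ⟨i + i' * 2 ^ j, j + j', ?_⟩
        rw [mul_assoc, ← mul_assoc (d ^ j), hmul, mul_assoc _ (d ^ j), ← pow_add, ← mul_assoc, ← pow_add]
      inv_mem' := by
        rintro a ⟨i, j, rfl⟩
        refine ⟨4 * i * 2 ^ (3 * j), 3 * j, ?_⟩
        rw [← hmul, mul_inv_rev]
        congr 1
        · refine inv_eq_of_mul_eq_one_right ?_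
          rw [← pow_add, show j + 3 * j = 4 * j by ring, pow_mul, T.d4, one_pow]
        · refine inv_eq_of_mul_eq_one_right ?_
          rw [← pow_add, show i + 4 * i = 5 * i by ring, pow_mul, hg5, one_pow] }
  · refine ⟨?_, ?_, ?_, ?_⟩
    · rintro a ha
      obtain ⟨i, hi⟩ := (mem_powers_iff_mem_zpowers (x := (g : G))).2 ha
      exact ⟨i, 0, by rw [pow_zero, mul_one]; exact hi.symm⟩
    · rintro a ⟨i, j, rfl⟩
      have hdN : d ∈ Subgroup.normalizer ((Subgroup.zpowers (g : G) : Subgroup G) : Set G) := by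
        refine Subgroup.mem_normalizer_iff.2 fun a => ⟨?_, ?_⟩
        · rintro ⟨k, rfl⟩
          refine ⟨2 * k, ?_⟩
          show (g : G) ^ (2 * k) = d * (g : G) ^ k * d⁻¹
          rw [← conj_zpow, T.dp, ← zpow_natCast, ← zpow_mul]
          norm_num
        · rintro ⟨k, hk⟩
          refine ⟨3 * k, ?_⟩
          have hk' : (g : G) ^ k = d * a * d⁻¹ := hk
          show (g : G) ^ (3 * k) = a
          refine mul_left_cancel (mul_right_cancel (b := d⁻¹) (Eq.trans ?_ hk'))
          rw [← conj_zpow, T.dp, ← zpow_natCast, ← zpow_mul,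
            show ((2 : ℕ) : ℤ) * (3 * k) = ((5 : ℕ) : ℤ) * k + k by push_cast; ring, zpow_add, zpow_mul, zpow_natCast,
            hg5, one_zpow, one_mul]
      exact mul_mem (pow_mem (Subgroup.le_normalizer (Subgroup.mem_zpowers _)) i) (pow_mem hdN j)
    · refine (Nat.card_eq_of_bijective (fun t : Fin 5 × Fin 4 =>
        ⟨(g : G) ^ t.1.val * d ^ t.2.val, t.1.val, t.2.val, rfl⟩) ⟨?_, ?_⟩).symm.trans
        (by rw [Nat.card_prod, Nat.card_fin, Nat.card_fin])
      · rintro ⟨i, j⟩ ⟨i', j'⟩ h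
        have h' : (g : G) ^ i.val * d ^ j.val = (g : G) ^ i'.val * d ^ j'.val := congrArg Subtype.val h
        have key : ∀ a b : ℕ, b < 4 → a ≤ b → ∀ i i' : ℕ, (g : G) ^ i * d ^ a = (g : G) ^ i' * d ^ b → a = b := by
          intro a b hb hab i i' h'
          rw [← Nat.sub_add_cancel hab, pow_add, ← mul_assoc, mul_left_inj] at h'
          have e : d ^ (b - a) = ((g : G) ^ i')⁻¹ * (g : G) ^ i := by rw [h', inv_mul_cancel_left]
          have := hpd (b - a) (by omega)
            (e ▸ (((Commute.refl _).pow_left i').inv_left).mul_left ((Commute.refl _).pow_left i))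
          omega
        obtain rfl : j = j' := by
          rcases le_total j.val j'.val with hle | hle
          · exact Fin.ext (key _ _ j'.2 hle _ _ h')
          · exact (Fin.ext (key _ _ j.2 hle _ _ h'.symm)).symm
        have h2 := mul_right_cancel h'
        rw [pow_eq_pow_iff_modEq, hgo] at h2
        rw [Fin.ext (Nat.ModEq.eq_of_lt_of_lt h2 i.2 i'.2)]
      · rintro ⟨a, i, j, rfl⟩
        refine ⟨(⟨i % 5, Nat.mod_lt _ (by norm_num)⟩, ⟨j % 4, Nat.mod_lt _ (by norm_num)⟩), Subtype.ext ?_⟩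
        show (g : G) ^ (i % 5) * d ^ (j % 4) = _
        have e := pow_mod_orderOf (g : G) i
        rw [hgo] at e
        rw [← hd4, e]
    · rw [hcQ]
      refine le_antisymm ?_ (Subgroup.zpowers_le.2 ⟨⟨1, 0, by simp⟩, hgc⟩)
      rintro a ⟨⟨i, j, rfl⟩, hc⟩
      have h := (((Commute.refl (g : G)).pow_left i).inv_left).mul_left
        (Subgroup.mem_centralizer_singleton_iff.1 hc : Commute ((g : G) ^ i * d ^ j) g)
      rw [inv_mul_cancel_left, hd4 j] at h
      rw [hd4 j, hpd _ (Nat.mod_lt _ (by norm_num)) h, pow_zero, mul_one]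
      exact pow_mem (Subgroup.mem_zpowers _) i
  · rw [T.cardN]; norm_num

end Cfsg.Agent.S5572
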