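import Cfsg.Statements.S5573
import Cfsg.Agent.Lib.Spor.JFourLoc.SevenTop
-- import your own Cfsg.Agent.* helpers here

set_option autoImplicit false
open Cfsg

namespace Cfsg.Agent.S5573

/-- Let G be a finite non-abelian simple group of Janko-four type (an involution z whose centralizer H has an extraspecial largest normal 2-subgroup E of order 2^13 containing its centralizer in H, a normal subgroup N ≥ E of H with N/E of order 3 and H/N the automorphism group of M₂₂, and a subgroup P ≤ N of order 3 with C_E(P) = ⟨z⟩, N_H(P) ≠ C_H(P) and P ≤ C_H(P)′). Let S ≤ H have order 7. Then S is a Sylow 7-subgroup of G, its centralizer is S × I with I isomorphic to the symmetric group of degree 5, and its normalizer has order three times that of its centralizer, namely 2^3·3^2·5·7. -/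
theorem result {G : Type*} [Group G] [Finite G] [IsSimpleGroup G] (hG : ¬ IsMulCommutative G) (z : G) (hJ : Cfsg.IsOfJankoFourTypeAt z) (S : Subgroup G) (hS : Nat.card ↥S = 7) (hSz : S ≤ Subgroup.centralizer ({z} : Set G)) :
    ¬ (49 ∣ Nat.card G) ∧
    (∃ I : Subgroup G, Cfsg.IsInternalDirectProduct S I (Subgroup.centralizer (S : Set G)) ∧ Nonempty (↥I ≃* Equiv.Perm (Fin 5))) ∧
    Nat.card ↥(Subgroup.normalizer (S : Set G)) = 3 * Nat.card ↥(Subgroup.centralizer (S : Set G)) ∧
    Nat.card ↥(Subgroup.normalizer (S : Set G)) = 2 ^ 3 * 3 ^ 2 * 5 * 7 := by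
  haveI : Fact (Nat.Prime 7) := ⟨by norm_num⟩
  obtain ⟨P, hJ⟩ := hJ
  obtain ⟨N, x, B, -⟩ := Cfsg.Agent.Spor.JFour.setup_of hJ
  obtain ⟨f⟩ := B.exists_frame
  haveI := isCyclic_of_prime_card hS
  obtain ⟨g, hg⟩ := IsCyclic.exists_generator (α := S)
  have hSg : S = Subgroup.zpowers (g : G) := by
    refine le_antisymm (fun a ha => ?_) (Subgroup.zpowers_le.2 g.2)
    obtain ⟨i, hi⟩ := hg ⟨a, ha⟩
    exact ⟨i, congrArg Subtype.val hi⟩
  have hgo : orderOf (g : G) = 7 := by rw [← Nat.card_zpowers, ← hSg, hS]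
  have hg7 : (g : G) ^ 7 = 1 := hgo ▸ pow_orderOf_eq_one _
  have hg1 : (g : G) ≠ 1 := fun e => by rw [e, orderOf_one] at hgo; norm_num at hgo
  obtain ⟨h49, ⟨I, hI, hinf, hsup, hiso⟩, h840, h2520⟩ :=
    (B.big hG).seven_top f hg7 hg1 (Subgroup.mem_centralizer_singleton_iff.1 (hSz g.2))
  have hcS : Subgroup.centralizer ((Subgroup.zpowers (g : G) : Subgroup G) : Set G) =
      Subgroup.centralizer ({(g : G)} : Set G) := by
    rw [Subgroup.zpowers_eq_closure, Subgroup.centralizer_closure]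
  rw [hSg, hcS, h840, h2520]
  refine ⟨h49, ⟨I, ⟨Subgroup.zpowers_le.2 (Subgroup.mem_centralizer_singleton_iff.2 rfl), hI, ?_, hinf, hsup⟩, hiso⟩,
    by norm_num, by norm_num⟩
  rintro a ⟨i, rfl⟩ b hb
  exact ((show Commute b (g : G) from Subgroup.mem_centralizer_singleton_iff.1 (hI hb)).zpow_right i).eq.symm

end Cfsg.Agent.S5573
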