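import Cfsg.Statements.S5574
import Cfsg.Agent.Lib.Spor.JFourLoc.PentSplit
-- import your own Cfsg.Agent.* helpers here

set_option autoImplicit false
open Cfsg

namespace Cfsg.Agent.S5574

/-- Let G be a finite non-abelian simple group of Janko-four type (an involution z whose centralizer H has an extraspecial largest normal 2-subgroup E of order 2^13 containing its centralizer in H, a normal subgroup N ≥ E of H with N/E of order 3 and H/N the automorphism group of M₂₂, and a subgroup P ≤ N of order 3 with C_E(P) = ⟨z⟩, N_H(P) ≠ C_H(P) and P ≤ C_H(P)′). Then G has a special 2-subgroup L of order 2^15 with centre of order 8 whose normalizer M satisfies: M/L is isomorphic to the direct product of the symmetric group of degree 5 and L₃(2); L has no complement in M; M nevertheless contains subgroups isomorphic to the symmetric group of degree 5 and to L₃(2); and M contains the normalizer of some Sylow 5-subgroup and of some Sylow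 7-subgroup of G. -/
theorem result {G : Type*} [Group G] [Finite G] [IsSimpleGroup G] (hG : ¬ IsMulCommutative G) (hJ : Cfsg.IsOfJankoFourType G) :
    ∃ L : Subgroup G, Cfsg.IsSpecial 2 ↥L ∧ Nat.card ↥L = 2 ^ 15 ∧ Nat.card ↥(Subgroup.center ↥L) = 8 ∧
    Nonempty (↥(Subgroup.normalizer (L : Set G)) ⧸ L.subgroupOf (Subgroup.normalizer (L : Set G)) ≃* Equiv.Perm (Fin 5) × Matrix.SpecialLinearGroup (Fin 3) (ZMod 2)) ∧
    (∀ K : Subgroup ↥(Subgroup.normalizer (L : Set G)), ¬ (L.subgroupOf (Subgroup.normalizer (L : Set G))).IsComplement' K) ∧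
    (∃ K₁ : Subgroup G, K₁ ≤ Subgroup.normalizer (L : Set G) ∧ Nonempty (↥K₁ ≃* Equiv.Perm (Fin 5))) ∧
    (∃ K₂ : Subgroup G, K₂ ≤ Subgroup.normalizer (L : Set G) ∧ Nonempty (↥K₂ ≃* Matrix.SpecialLinearGroup (Fin 3) (ZMod 2))) ∧
    (∃ Q : Sylow 5 G, Subgroup.normalizer ((Q : Subgroup G) : Set G) ≤ Subgroup.normalizer (L : Set G)) ∧
    (∃ S : Sylow 7 G, Subgroup.normalizer ((S : Subgroup G) : Set G) ≤ Subgroup.normalizer (L : Set G)) := by
  haveI : Fact (Nat.Prime 5) := ⟨by norm_num⟩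
  haveI : Fact (Nat.Prime 7) := ⟨by norm_num⟩
  obtain ⟨z, P0, hJ⟩ := hJ
  obtain ⟨N, x, B, -⟩ := Cfsg.Agent.Spor.JFour.setup_of hJ
  obtain ⟨f⟩ := B.exists_frame
  have S := B.big hG
  obtain ⟨p₀, hp₀⟩ := exists_prime_orderOf_dvd_card' (G := Subgroup.centralizer ({z} : Set G)) 5
    (by rw [S.card_C f]; norm_num)
  have hpo : orderOf (p₀ : G) = 5 := by rw [Subgroup.orderOf_coe, hp₀]
  have hp5 : (p₀ : G) ^ 5 = 1 := hpo ▸ pow_orderOf_eq_one _
  have hp1 : (p₀ : G) ≠ 1 := fun e => by rw [e, orderOf_one] at hpo; norm_num at hpo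
  obtain ⟨E, J, d, T⟩ := S.five_top f hp5 hp1 (Subgroup.mem_centralizer_singleton_iff.1 p₀.2)
  obtain ⟨L, C⟩ := S.pent_core f hpo T
  obtain ⟨σ, P⟩ := S.pent_quot f hpo T C
  obtain ⟨hspec, hcen⟩ := S.pent_special f hpo T C P
  obtain ⟨-, -, hI⟩ := S.pent_cent f T C P
  have hNL := S.pent_normalizer f hpo T C P
  have hns := S.pent_nonsplit f hpo T C P
  obtain ⟨Φ, hsur, hker, -⟩ := P.hom
  refine ⟨L, hspec, C.cardL, ?_, ?_⟩
  · rw [hcen, Nat.card_congr (Subgroup.subgroupOfEquivOfLe C.EL).toEquiv, T.loc.ctx.card]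
  have hk : L.subgroupOf (Subgroup.normalizer (E : Set G)) = Φ.ker := by
    ext n
    rw [MonoidHom.mem_ker, hker, Subgroup.mem_subgroupOf]
  obtain ⟨Q5, hQ5⟩ := Cfsg.Agent.Spor.M22U.PrimeCount.sylow_of_card (G := G) (p := 5) (by norm_num)
    (hpo ▸ orderOf_dvd_natCard (p₀ : G)) T.n25 (X := Subgroup.zpowers (p₀ : G)) (by rw [Nat.card_zpowers, hpo])
  obtain ⟨S7, hS7⟩ := Cfsg.Agent.Spor.M22U.PrimeCount.sylow_of_card (G := G) (p := 7) (by norm_num)
    (P.ord ▸ orderOf_dvd_natCard σ) P.n49 (X := Subgroup.zpowers σ) (by rw [Nat.card_zpowers, P.ord])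
  have key : ∀ M : Subgroup G, M = Subgroup.normalizer (E : Set G) → ∀ [(L.subgroupOf M).Normal],
      Nonempty (↥M ⧸ L.subgroupOf M ≃* Equiv.Perm (Fin 5) × Matrix.SpecialLinearGroup (Fin 3) (ZMod 2)) ∧
      (∀ K : Subgroup ↥M, ¬ (L.subgroupOf M).IsComplement' K) ∧
      (∃ K₁ : Subgroup G, K₁ ≤ M ∧ Nonempty (↥K₁ ≃* Equiv.Perm (Fin 5))) ∧
      (∃ K₂ : Subgroup G, K₂ ≤ M ∧ Nonempty (↥K₂ ≃* Matrix.SpecialLinearGroup (Fin 3) (ZMod 2))) ∧
      (∃ Q : Sylow 5 G, Subgroup.normalizer ((Q : Subgroup G) : Set G) ≤ M) ∧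
      (∃ S : Sylow 7 G, Subgroup.normalizer ((S : Subgroup G) : Set G) ≤ M) := by
    rintro M rfl _
    exact ⟨⟨(QuotientGroup.quotientMulEquivOfEq hk).trans (QuotientGroup.quotientKerEquivOfSurjective Φ hsur)⟩,
      hns, hI, S.pent_split f hpo T C P, ⟨Q5, by rw [hQ5]; exact S.pent_norm_five f T⟩,
      ⟨S7, by rw [hS7]; exact S.pent_norm_seven f T C P⟩⟩
  exact key _ hNL

end Cfsg.Agent.S5574
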