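import Cfsg.Statements.S5575
import Cfsg.Agent.Lib.Spor.JFourEleven.Norm

set_option autoImplicit false
open Cfsg

namespace Cfsg.Agent.S5575

/-- Let G be a finite non-abelian simple group of Janko-four type (an involution z whose centralizer H has an extraspecial largest normal 2-subgroup E of order 2^13 containing its centralizer in H, a normal subgroup N ≥ E of H with N/E of order 3 and H/N the automorphism group of M₂₂, and a subgroup P ≤ N of order 3 with C_E(P) = ⟨z⟩, N_H(P) ≠ C_H(P) and P ≤ C_H(P)′). Then a Sylow 11-subgroup of G is extraspecial of order 11^3 and exponent 11, and its normalizer has order 2^4·3·5·11^3 and contains a subgroup isomorphic to GL₂(3). -/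
theorem result {G : Type*} [Group G] [Finite G] [IsSimpleGroup G] (hG : ¬ IsMulCommutative G) (hJ : Cfsg.IsOfJankoFourType G) (U : Sylow 11 G) :
    Cfsg.IsExtraspecial 11 ↥(U : Subgroup G) ∧ Nat.card ↥(U : Subgroup G) = 11 ^ 3 ∧ Monoid.exponent ↥(U : Subgroup G) = 11 ∧
    Nat.card ↥(Subgroup.normalizer ((U : Subgroup G) : Set G)) = 2 ^ 4 * 3 * 5 * 11 ^ 3 ∧
    ∃ K : Subgroup G, K ≤ Subgroup.normalizer ((U : Subgroup G) : Set G) ∧ Nonempty (↥K ≃* GL (Fin 2) (ZMod 3)) := by
  obtain ⟨z, P, hJ⟩ := hJ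
  obtain ⟨N, x, S, -⟩ := Cfsg.Agent.Spor.JFour.setup_of hJ
  obtain ⟨f⟩ := S.exists_frame
  have B := S.big hG
  haveI : Fact (Nat.Prime 11) := ⟨by norm_num⟩
  obtain ⟨a, b, t, P⟩ := B.eleven_pair f
  obtain ⟨O, E⟩ := B.eleven_cube f P
  obtain ⟨hN, hNc⟩ := B.eleven_normalizer f P E
  obtain ⟨g, hg⟩ := B.sylow_eleven f E U
  have hinj : Function.Injective (MulAut.conj g).toMonoidHom := (MulAut.conj g).injective
  have hUc : Nat.card ↥(U : Subgroup G) = 11 ^ 3 := by
    rw [hg, Subgroup.card_map_of_injective hinj, E.card]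
  have hUn : Subgroup.normalizer ((U : Subgroup G) : Set G) =
      (Subgroup.normalizer (O : Set G)).map (MulAut.conj g).toMonoidHom := by
    rw [hg]; exact (Subgroup.map_equiv_normalizer_eq O (MulAut.conj g)).symm
  have hpow : ∀ u : ↥(U : Subgroup G), u ^ 11 = 1 := by
    intro u
    obtain ⟨o, ho, he⟩ : (u : G) ∈ O.map (MulAut.conj g).toMonoidHom := hg ▸ u.2
    refine Subtype.ext ?_
    rw [SubmonoidClass.coe_pow, ← he, ← map_pow, E.pow11 o ho, map_one]
    rfl
  obtain ⟨o, ho, o', ho', hne⟩ : ∃ o ∈ O, ∃ o' ∈ O, ¬ Commute o o' := by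
    by_contra h
    push Not at h
    exact P.bA (E.cen b E.bO (h b E.bO))
  have hmem : ∀ {y}, y ∈ O → (MulAut.conj g).toMonoidHom y ∈ (U : Subgroup G) := fun hy => hg ▸ ⟨_, hy, rfl⟩
  refine ⟨Cfsg.Agent.Spor.JFour.Eleven.cube_extraspecial hUc (u := ⟨_, hmem ho⟩) (v := ⟨_, hmem ho'⟩) ?_, hUc, ?_, ?_, ?_⟩
  · intro h
    have h' := congrArg Subtype.val h
    exact hne (hinj (by rw [map_mul, map_mul]; exact h'))
  · haveI : Nontrivial ↥(U : Subgroup G) := Finite.one_lt_card_iff_nontrivial.1 (by rw [hUc]; norm_num)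
    exact (Monoid.exponent_eq_prime_iff (by norm_num)).2 fun u hu => orderOf_eq_prime (hpow u) hu
  · rw [hUn, Subgroup.card_map_of_injective hinj, hNc]
    norm_num
  · obtain ⟨K, hK, ⟨e⟩⟩ := B.eleven_gl f P
    refine ⟨K.map (MulAut.conj g).toMonoidHom, ?_, ⟨(K.equivMapOfInjective _ hinj).symm.trans e⟩⟩
    rw [hUn, hN]
    exact Subgroup.map_mono hK

end Cfsg.Agent.S5575
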