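import Cfsg.Statements.S5594
import Cfsg.Agent.Lib.Spor.LeechAuto

set_option autoImplicit false
open Cfsg

namespace Cfsg.Agent.S5594

/-- The automorphism group of the Leech lattice contains the negation map, and the subgroup of order 2 it generates has no complement: the automorphism group is a non-split extension of its quotient by that subgroup (it is not the direct product of a group of order 2 with the first Conway group). -/
theorem result :
    ∃ n : ↥Cfsg.Co0, (∀ v : ↥Cfsg.leechLattice, ((n • v : ↥Cfsg.leechLattice) : Cfsg.GolayPt → ℤ) = -(v : Cfsg.GolayPt → ℤ)) ∧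
    ∀ K : Subgroup ↥Cfsg.Co0, ¬ (Subgroup.zpowers n).IsComplement' K := by
  obtain ⟨g, n, hg, hn⟩ := Cfsg.Agent.Spor.exists_sq_neg
  refine ⟨n, hn, fun K hK => ?_⟩
  have hn2 : n ^ 2 = 1 := by
    refine Subtype.ext (Equiv.ext fun v => Subtype.ext ?_)
    show ((n ^ 2) • v : ↥Cfsg.leechLattice).1 = v.1
    rw [sq, mul_smul, hn, hn, neg_neg]
  have hne : n ≠ 1 := by
    intro h
    have := hn ⟨_, Cfsg.Agent.Spor.oddVec_mem⟩
    rw [h, one_smul] at this
    have := congrFun this none
    simp [Cfsg.Agent.Spor.oddVec] at this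
  have hidx : K.index = 2 := by
    rw [hK.index_eq_card, Nat.card_zpowers, orderOf_eq_prime hn2 hne]
  have hmem : n ∈ K := hg ▸ (by simpa [sq] using Subgroup.sq_mem_of_index_two hidx g)
  have := hK.disjoint.le_bot ⟨Subgroup.mem_zpowers n, hmem⟩
  exact hne (by simpa using this)


end Cfsg.Agent.S5594
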