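import Cfsg.Statements.S5599
import Cfsg.Agent.Lib.Spor.GolayCount
import Cfsg.Agent.Lib.Spor.MathieuSimple

set_option autoImplicit false
open scoped Pointwise
open Cfsg
open scoped Pointwise

namespace Cfsg.Agent.S5599

/-- In the automorphism group of the length-24 code, the two-point Mathieu group (permutations of the code's group fixing the extra point and the residue 0) has index 2 in the setwise stabiliser of that pair of points, and an element of the code's group interchanging the two points normalises the two-point group and induces on it, by conjugation, an automorphism that is not inner. -/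
theorem result (g : Equiv.Perm Cfsg.GolayPt) (hg : g ∈ Cfsg.M24) (h₁ : g none = some 0) (h₂ : g (some 0) = none) : Cfsg.Spor.M22.relIndex (Cfsg.M24 ⊓ MulAction.stabilizer (Equiv.Perm Cfsg.GolayPt) ({none, some 0} : Finset Cfsg.GolayPt)) = 2 ∧ (∀ x ∈ Cfsg.Spor.M22, g * x * g⁻¹ ∈ Cfsg.Spor.M22) ∧ ¬ ∃ h ∈ Cfsg.Spor.M22, ∀ x ∈ Cfsg.Spor.M22, g * x * g⁻¹ = h * x * h⁻¹ := by
  classical
  set p : Cfsg.GolayPt := none with hp
  set q : Cfsg.GolayPt := some 0 with hq
  have hpq : p ≠ q := fun e => Option.some_ne_none _ e.symm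
  set S := Cfsg.M24 ⊓ MulAction.stabilizer (Equiv.Perm Cfsg.GolayPt) ({p, q} : Finset Cfsg.GolayPt) with hS
  have mem22 : ∀ σ : Equiv.Perm Cfsg.GolayPt, σ ∈ Cfsg.Spor.M22 ↔ σ ∈ Cfsg.M24 ∧ σ p = p ∧ σ q = q := by
    intro σ
    simp only [Cfsg.Spor.M22, Cfsg.Spor.M23, Subgroup.mem_inf, MulAction.mem_stabilizer_iff, Equiv.Perm.smul_def,
      and_assoc]
    rfl
  have memS : ∀ σ : Equiv.Perm Cfsg.GolayPt, σ ∈ S ↔ σ ∈ Cfsg.M24 ∧ ((σ p = p ∧ σ q = q) ∨ (σ p = q ∧ σ q = p)) := by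
    intro σ
    rw [hS, Subgroup.mem_inf]
    refine and_congr_right fun _ => ?_
    rw [MulAction.mem_stabilizer_iff, Finset.smul_finset_insert, Finset.smul_finset_singleton,
      Equiv.Perm.smul_def, Equiv.Perm.smul_def]
    refine ⟨fun h => ?_, ?_⟩
    · have a : σ p ∈ ({p, q} : Finset Cfsg.GolayPt) := h ▸ Finset.mem_insert_self _ _
      have b : σ q ∈ ({p, q} : Finset Cfsg.GolayPt) := h ▸ Finset.mem_insert_of_mem (Finset.mem_singleton_self _)
      simp only [Finset.mem_insert, Finset.mem_singleton] at a b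
      rcases a with a | a <;> rcases b with b | b
      · exact absurd (σ.injective (a.trans b.symm)) hpq
      · exact Or.inl ⟨a, b⟩
      · exact Or.inr ⟨a, b⟩
      · exact absurd (σ.injective (a.trans b.symm)) hpq
    · rintro (⟨a, b⟩ | ⟨a, b⟩) <;> rw [a, b]
      exact Finset.pair_comm _ _
  have hgS : g ∈ S := (memS g).2 ⟨hg, Or.inr ⟨h₁, h₂⟩⟩
  have hgn : g ∉ Cfsg.Spor.M22 := fun h => hpq ((((mem22 g).1 h).2.1).symm.trans h₁)
  have hidx : Cfsg.Spor.M22.relIndex S = 2 := by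
    rw [Subgroup.relIndex, Subgroup.index_eq_two_iff]
    refine ⟨⟨g, hgS⟩, fun b => ?_⟩
    simp only [Subgroup.mem_subgroupOf, Subgroup.coe_mul]
    obtain ⟨hb, hb'⟩ := (memS b).1 b.2
    rcases hb' with ⟨a1, a2⟩ | ⟨a1, a2⟩
    · refine Or.inr ⟨(mem22 _).2 ⟨hb, a1, a2⟩, fun h => ?_⟩
      have := ((mem22 _).1 h).2.1
      rw [Equiv.Perm.mul_apply, show g p = q from h₁, a2] at this
      exact hpq this.symm
    · refine Or.inl ⟨(mem22 _).2 ⟨mul_mem hb hg, ?_, ?_⟩, fun h => hpq ((((mem22 _).1 h).2.1).symm.trans a1)⟩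
      · rw [Equiv.Perm.mul_apply, show g p = q from h₁, a2]
      · rw [Equiv.Perm.mul_apply, show g q = p from h₂, a1]
  have hnorm : ∀ x ∈ Cfsg.Spor.M22, g * x * g⁻¹ ∈ Cfsg.Spor.M22 := by
    intro x hx
    obtain ⟨hx1, hxp, hxq⟩ := (mem22 x).1 hx
    have gi1 : g⁻¹ p = q := Equiv.Perm.inv_eq_iff_eq.2 (h₂ : g q = p).symm
    have gi2 : g⁻¹ q = p := Equiv.Perm.inv_eq_iff_eq.2 (h₁ : g p = q).symm
    refine (mem22 _).2 ⟨mul_mem (mul_mem hg hx1) (inv_mem hg), ?_, ?_⟩
    · rw [Equiv.Perm.mul_apply, Equiv.Perm.mul_apply, gi1, hxq, show g q = p from h₂]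
    · rw [Equiv.Perm.mul_apply, Equiv.Perm.mul_apply, gi2, hxp, show g p = q from h₁]
  refine ⟨hidx, hnorm, ?_⟩
  rintro ⟨h, hh, heq⟩
  obtain ⟨hh1, hhp, hhq⟩ := (mem22 h).1 hh
  set c := h⁻¹ * g with hc
  have hcomm : ∀ x ∈ Cfsg.Spor.M22, c * x = x * c := by
    intro x hx
    have := heq x hx
    rw [hc]
    calc h⁻¹ * g * x = h⁻¹ * (g * x * g⁻¹) * g := by group
      _ = h⁻¹ * (h * x * h⁻¹) * g := by rw [this]
      _ = x * (h⁻¹ * g) := by group
  have hcm : c ∈ Cfsg.M24 := mul_mem (inv_mem hh1) hg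
  have hfix : ∀ x : Cfsg.GolayPt, x ∉ ({p, q} : Finset Cfsg.GolayPt) → c x = x := by
    intro x hx
    by_contra hne
    have hout : ∀ y : Cfsg.GolayPt, c y ∈ ({p, q} : Finset Cfsg.GolayPt) → y ∈ ({p, q} : Finset Cfsg.GolayPt) := by
      intro y hy
      simp only [Finset.mem_insert, Finset.mem_singleton] at hy ⊢
      have e : g y = h (c y) := by rw [hc, Equiv.Perm.mul_apply]; simp
      rcases hy with hy | hy <;> rw [hy] at e
      · rw [hhp] at e
        exact Or.inr (g.injective (e.trans (show p = g q from h₂.symm)))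
      · rw [hhq] at e
        exact Or.inl (g.injective (e.trans (show q = g p from h₁.symm)))
    have hy : c x ∉ ({p, q} : Finset Cfsg.GolayPt) := fun h' => hx (hout x h')
    simp only [Finset.mem_insert, Finset.mem_singleton, not_or] at hx hy
    obtain ⟨z, -, hz⟩ := Finset.exists_mem_notMem_of_card_lt_card (s := ({p, q, x, c x} : Finset Cfsg.GolayPt))
      (t := Finset.univ) (lt_of_le_of_lt Finset.card_le_four (by rw [Finset.card_univ]; decide))
    simp only [Finset.mem_insert, Finset.mem_singleton, not_or] at hz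
    let mk : ∀ w : Cfsg.GolayPt, w ≠ p → w ≠ q → w ≠ x → (Fin 4 ↪ Cfsg.GolayPt) := fun w w1 w2 w3 => ⟨![p, q, x, w], by
      intro i j e
      fin_cases i <;> fin_cases j <;> first | rfl | (exfalso; revert e; simp [hpq, hpq.symm, hx.1, Ne.symm hx.1, hx.2, Ne.symm hx.2, w1, Ne.symm w1, w2, Ne.symm w2, w3, Ne.symm w3])⟩
    obtain ⟨σ, hσ, hσe⟩ := Cfsg.Agent.Spor.M24_trans (k := 4) (by norm_num)
      (mk (c x) hy.1 hy.2 hne) (mk z hz.1 hz.2.1 hz.2.2.1)
    have e0 : σ p = p := hσe 0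
    have e1 : σ q = q := hσe 1
    have e2 : σ x = x := hσe 2
    have e3 : σ (c x) = z := hσe 3
    have := congrArg (fun π : Equiv.Perm Cfsg.GolayPt => π x) (hcomm σ ((mem22 σ).2 ⟨hσ, e0, e1⟩))
    simp only [Equiv.Perm.mul_apply, e2, e3] at this
    exact hz.2.2.2 this.symm
  have hc1 : c = 1 := Cfsg.Agent.Spor.eq_one_of_fix_ten hcm (F := Finset.univ \ {p, q}) (by
      rw [Finset.card_sdiff_of_subset (Finset.subset_univ _), Finset.card_univ, Finset.card_pair hpq]; decide)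
    fun x hx => hfix x (Finset.mem_sdiff.1 hx).2
  rw [hc, inv_mul_eq_one] at hc1
  exact hgn (hc1 ▸ hh)


end Cfsg.Agent.S5599
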