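import Cfsg.Statements.S5600
import Cfsg.Agent.Lib.Spor.GolaySix

set_option autoImplicit false
open scoped Pointwise
open Cfsg

namespace Cfsg.Agent.S5600

open scoped Pointwise

/-- Although the group of the length-24 code is only 5-transitive on the 24 points, it induces the full symmetric group on every 6-element subset: every permutation of a 6-set E is the restriction of an element of the group mapping E to itself. The pointwise stabiliser of E has order 16 when E lies in an octad and order 3 otherwise; in the latter case the setwise stabiliser of E has order 2160. -/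
theorem result (E : Finset Cfsg.GolayPt) (hE : E.card = 6) : (∀ σ : Equiv.Perm ↥E, ∃ g ∈ Cfsg.M24, ∀ p : ↥E, g p = σ p) ∧ ((∃ o ∈ Cfsg.octads, E ⊆ o) → Nat.card {g : Equiv.Perm Cfsg.GolayPt // g ∈ Cfsg.M24 ∧ ∀ p ∈ E, g p = p} = 16) ∧ ((¬ ∃ o ∈ Cfsg.octads, E ⊆ o) → Nat.card {g : Equiv.Perm Cfsg.GolayPt // g ∈ Cfsg.M24 ∧ ∀ p ∈ E, g p = p} = 3 ∧ Nat.card ↥(MulAction.stabilizer Cfsg.M24 E) = 2160) := by
  have hfix : Nat.card {g : Equiv.Perm GolayPt // g ∈ M24 ∧ ∀ p ∈ E, g p = p} = if Spor.inSomeOctad E then 16 else 3 := by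
    rw [← Spor.card_fixM_six hE]
    exact Nat.card_congr (Equiv.subtypeEquivRight fun g => Spor.mem_fixM.symm)
  have hreal : ∀ σ : Equiv.Perm ↥E, ∃ g ∈ M24, ∀ p : ↥E, g p = σ p := by
    intro σ
    obtain ⟨e⟩ : Nonempty (Fin 6 ≃ E) := ⟨(E.equivFinOfCardEq hE).symm⟩
    let x : Fin 6 ↪ GolayPt := e.toEmbedding.trans (Function.Embedding.subtype _)
    let y : Fin 6 ↪ GolayPt := (e.trans σ).toEmbedding.trans (Function.Embedding.subtype _)
    have himg : ∀ z : Fin 6 ≃ E, Finset.univ.image (fun i => (z i : GolayPt)) = E := fun z => by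
      ext p
      simp only [Finset.mem_image, Finset.mem_univ, true_and]
      exact ⟨fun ⟨i, hi⟩ => hi ▸ (z i).2, fun hp => ⟨z.symm ⟨p, hp⟩, by simp⟩⟩
    obtain ⟨g, hg, h⟩ := Spor.six_trans x y (congrArg Spor.inSomeOctad ((himg e).trans (himg (e.trans σ)).symm))
    refine ⟨g, hg, fun p => ?_⟩
    have := h (e.symm p)
    simpa [x, y] using this
  refine ⟨hreal, fun ho => by rw [hfix, Spor.inSomeOctad_iff.2 ho]; rfl, fun ho => ?_⟩
  have hf : Spor.inSomeOctad E = false := Bool.eq_false_iff.2 fun h => ho (Spor.inSomeOctad_iff.1 h)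
  rw [hf] at hfix
  refine ⟨hfix, ?_⟩
  rw [← Spor.card_stabM]
  let r := Spor.octRestrict E
  have hker : Nat.card r.ker = 3 := by
    refine Eq.trans ?_ hfix
    exact Nat.card_congr
      { toFun := fun g => ⟨g.1.1, Spor.mem_fixM.1 (Spor.octRestrict_ker.1 g.2)⟩
        invFun := fun g => ⟨⟨g.1, Spor.fixM_le_stabM E (Spor.mem_fixM.2 g.2)⟩, Spor.octRestrict_ker.2 (Spor.mem_fixM.2 g.2)⟩
        left_inv := fun _ => rfl
        right_inv := fun _ => rfl }
  have hsurj : Function.Surjective r := by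
    intro σ
    obtain ⟨g, hg, h⟩ := hreal σ
    refine ⟨⟨g, hg, ?_⟩, ?_⟩
    · show g • E = E
      refine Finset.eq_of_subset_of_card_le ?_ (by rw [Finset.card_smul_finset])
      intro q hq
      obtain ⟨p, hp, rfl⟩ := Finset.mem_smul_finset.1 hq
      rw [Equiv.Perm.smul_def, h ⟨p, hp⟩]
      exact (σ ⟨p, hp⟩).2
    · exact Equiv.ext fun p => Subtype.ext (h p)
  have hc := Subgroup.card_mul_index r.ker
  rw [Subgroup.index_ker, hker, MonoidHom.range_eq_top.2 hsurj, Subgroup.card_top, Nat.card_eq_fintype_card,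
    Fintype.card_perm, Fintype.card_coe, hE] at hc
  exact hc.symm

end Cfsg.Agent.S5600
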