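import Cfsg.Statements.S5601
import Cfsg.Agent.Lib.Spor.GolayElemCent

set_option autoImplicit false
open scoped Pointwise
open Cfsg

namespace Cfsg.Agent.S5601

/-- The group of the length-24 code has exactly two conjugacy classes of subgroups of order 3: a subgroup of order 3 fixes either exactly 6 of the 24 points or none of them, both cases occur, and two subgroups of order 3 with the same number of fixed points are conjugate. -/
theorem result : (∀ X : Subgroup ↥Cfsg.M24, Nat.card X = 3 → {p : Cfsg.GolayPt | ∀ x ∈ X, ((x : ↥Cfsg.M24) : Equiv.Perm Cfsg.GolayPt) p = p}.ncard = 6 ∨ {p : Cfsg.GolayPt | ∀ x ∈ X, ((x : ↥Cfsg.M24) : Equiv.Perm Cfsg.GolayPt) p = p}.ncard = 0) ∧ (∃ X : Subgroup ↥Cfsg.M24, Nat.card X = 3 ∧ {p : Cfsg.GolayPt | ∀ x ∈ X, ((x : ↥Cfsg.M24) : Equiv.Perm Cfsg.GolayPt) p = p}.ncard = 6) ∧ (∃ X : Subgroup ↥Cfsg.M24, Nat.card X = 3 ∧ {p : Cfsg.GolayPt | ∀ x ∈ X, ((x : ↥Cfsg.M24) : Equiv.Perm Cfsg.GolayPt)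 p = p}.ncard = 0) ∧ ∀ X Y : Subgroup ↥Cfsg.M24, Nat.card X = 3 → Nat.card Y = 3 → {p : Cfsg.GolayPt | ∀ x ∈ X, ((x : ↥Cfsg.M24) : Equiv.Perm Cfsg.GolayPt) p = p}.ncard = {p : Cfsg.GolayPt | ∀ x ∈ Y, ((x : ↥Cfsg.M24) : Equiv.Perm Cfsg.GolayPt) p = p}.ncard → ∃ k : ↥Cfsg.M24, MulAut.conj k • X = Y := by
  have gen : ∀ X : Subgroup ↥Cfsg.M24, Nat.card X = 3 → ∃ x : ↥Cfsg.M24, X = Subgroup.zpowers x ∧
      orderOf (x : Equiv.Perm Cfsg.GolayPt) = 3 ∧
      {p : Cfsg.GolayPt | ∀ y ∈ X, ((y : ↥Cfsg.M24) : Equiv.Perm Cfsg.GolayPt) p = p} =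
        (Spor.fixSet (x : Equiv.Perm Cfsg.GolayPt) : Set Cfsg.GolayPt) := by
    intro X hX
    haveI : Fact (Nat.Prime 3) := ⟨Nat.prime_three⟩
    haveI : Nontrivial X := Finite.one_lt_card_iff_nontrivial.1 (by omega)
    obtain ⟨x, hx⟩ := exists_ne (1 : X)
    have ho : orderOf x = 3 := by
      have hd := orderOf_dvd_natCard x
      rw [hX] at hd
      rcases (Nat.dvd_prime Nat.prime_three).1 hd with h | h
      · exact absurd (orderOf_eq_one_iff.1 h) hx
      · exact h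
    have ho' : orderOf (x : ↥Cfsg.M24) = 3 := by rw [Subgroup.orderOf_coe, ho]
    have hXz : X = Subgroup.zpowers (x : ↥Cfsg.M24) := by
      refine (Subgroup.eq_of_le_of_card_ge (Subgroup.zpowers_le.2 x.2) ?_).symm
      rw [Nat.card_zpowers, ho', hX]
    refine ⟨x, hXz, by rw [Subgroup.orderOf_coe, ho'], ?_⟩
    ext p
    simp only [Set.mem_ofPred_eq, SetLike.mem_coe, Finset.mem_filter, Finset.mem_univ, true_and]
    refine ⟨fun h => h _ x.2, fun h y hy => ?_⟩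
    rw [hXz, Subgroup.mem_zpowers_iff] at hy
    obtain ⟨n, rfl⟩ := hy
    rw [Subgroup.coe_zpow]
    exact Equiv.Perm.zpow_apply_eq_self_of_apply_eq_self h n
  have mkX : ∀ l : List ℕ, Spor.m24ok l = true → Spor.cubeTest l = true →
      Spor.fixMask l ≠ 16777215 → ∀ n, (Spor.fixSet (Spor.lperm l)).card = n →
      ∃ X : Subgroup ↥Cfsg.M24, Nat.card X = 3 ∧
        {p : Cfsg.GolayPt | ∀ y ∈ X, ((y : ↥Cfsg.M24) : Equiv.Perm Cfsg.GolayPt) p = p}.ncard = n := by
    intro l hl hcu hne n hn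
    let x : ↥Cfsg.M24 := ⟨Spor.lperm l, Spor.lperm_mem hl⟩
    haveI : Fact (Nat.Prime 3) := ⟨Nat.prime_three⟩
    have hlok := Spor.m24ok_lok hl
    have ho : orderOf x = 3 := by
      refine orderOf_eq_prime (Subtype.ext (Equiv.ext fun p => Spor.idx_injective ?_)) ?_
      · have h := List.all_eq_true.1 hcu (Spor.idx p) (List.mem_range.2 (Spor.idx_lt p))
        rw [beq_iff_eq, Spor.rep_lperm hlok p, Spor.rep_lperm hlok, Spor.rep_lperm hlok] at h
        exact h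
      · intro h
        have h2 : Spor.lperm l = 1 := congrArg Subtype.val h
        have h3 := congrArg Spor.mask (Spor.fixSet_lperm hlok)
        rw [h2, Spor.mask_ofMask (Spor.fixMask_lt l)] at h3
        exact hne (h3.symm.trans (by decide +kernel))
    refine ⟨Subgroup.zpowers x, by rw [Nat.card_zpowers, ho], ?_⟩
    rw [← hn, ← Set.ncard_coe_finset]
    congr 1
    ext p
    simp only [Set.mem_ofPred_eq, SetLike.mem_coe, Finset.mem_filter, Finset.mem_univ, true_and]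
    refine ⟨fun h => h x (Subgroup.mem_zpowers x), fun h y hy => ?_⟩
    rw [Subgroup.mem_zpowers_iff] at hy
    obtain ⟨m, rfl⟩ := hy
    rw [Subgroup.coe_zpow]
    exact Equiv.Perm.zpow_apply_eq_self_of_apply_eq_self h m
  refine ⟨fun X hX => ?_, mkX Spor.threeFixed (by decide +kernel) (by decide +kernel) (by decide +kernel) 6
    Spor.card_fix_three.2, mkX Spor.threeFree (by decide +kernel) (by decide +kernel) (by decide +kernel) 0
    Spor.card_fix_three.1, fun X Y hX hY he => ?_⟩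
  · obtain ⟨x, -, ho, hset⟩ := gen X hX
    rw [hset, Set.ncard_coe_finset]
    rcases Spor.three_by_fix x.2 ho with ⟨h, -⟩ | ⟨h, -⟩
    exacts [Or.inr h, Or.inl h]
  · obtain ⟨x, rfl, hox, hsx⟩ := gen X hX
    obtain ⟨y, rfl, hoy, hsy⟩ := gen Y hY
    rw [hsx, hsy, Set.ncard_coe_finset, Set.ncard_coe_finset] at he
    obtain ⟨c, hc, e⟩ := Spor.three_conj x.2 y.2 hox hoy he
    refine ⟨⟨c, hc⟩, ?_⟩
    show (Subgroup.zpowers x).map (MulAut.conj (⟨c, hc⟩ : ↥Cfsg.M24)).toMonoidHom = _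
    rw [MonoidHom.map_zpowers]
    congr 1
    exact Subtype.ext e

end Cfsg.Agent.S5601
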