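import Cfsg.Statements.S5608
import Cfsg.Agent.Lib.Spor.GolayElemPairs

set_option autoImplicit false
open scoped Pointwise
open Cfsg

namespace Cfsg.Agent.S5608

/-- If an element of order 3 and an involution of the group of the length-24 code commute, then either the element of order 3 has exactly 6 fixed points and the involution exactly 8, or both are fixed-point-free. -/
theorem result (x s : Equiv.Perm Cfsg.GolayPt) (hx : x ∈ Cfsg.M24) (hs : s ∈ Cfsg.M24) (h₃ : orderOf x = 3) (h₂ : orderOf s = 2) (hc : Commute x s) : ((Finset.univ.filter fun p => x p = p).card = 6 ∧ (Finset.univ.filter fun p => s p = p).card = 8) ∨ ((Finset.univ.filter fun p => x p = p).card = 0 ∧ (Finset.univ.filter fun p => s p = p).card = 0) := by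
  have hperm : ∀ p, p ∈ Spor.fixSet s → x p ∈ Spor.fixSet s := fun p hp => by
    simp only [Finset.mem_filter, Finset.mem_univ, true_and] at hp ⊢
    rw [← Equiv.Perm.mul_apply, ← hc.eq, Equiv.Perm.mul_apply, hp]
  rcases Spor.three_by_fix hx h₃ with ⟨a, -⟩ | ⟨a, -⟩ <;>
    rcases Spor.invol_by_fix hs h₂ with ⟨b, -⟩ | ⟨b, -⟩
  · exact Or.inr ⟨a, b⟩
  · exfalso
    let π : Equiv.Perm {p // p ∈ Spor.fixSet s} := x.subtypePerm fun p =>
      ⟨fun h => by
        have h2 := hperm _ (hperm _ h)
        have h3 : x ^ 3 = 1 := by rw [← h₃, pow_orderOf_eq_one]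
        rwa [show x (x (x p)) = (x ^ 3) p by rfl, h3] at h2, hperm p⟩
    obtain ⟨⟨p, hp⟩, hfix⟩ := Equiv.Perm.exists_fixed_point_of_prime (p := 3) (n := 1)
      (σ := π) (by rw [Fintype.card_coe, b]; norm_num) (by
        ext ⟨q, hq⟩
        have h3 : x ^ 3 = 1 := by rw [← h₃, pow_orderOf_eq_one]
        simp [π, h3])
    exact (Spor.free_iff x).2 a p (congrArg Subtype.val hfix)
  · exact absurd a (Spor.no_commute_free_six hx h₃ ⟨hs, h₂, (Spor.free_iff s).2 b⟩ hc)
  · exact Or.inl ⟨a, b⟩

end Cfsg.Agent.S5608
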