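import Cfsg.Statements.S5609
import Cfsg.Agent.Lib.Spor.GolayStab

set_option autoImplicit false
open scoped Pointwise
open Cfsg

namespace Cfsg.Agent.S5609

open scoped Pointwise

/-- In the graph on the 759 octads of the length-24 code in which two octads are adjacent when they are disjoint, the graph is connected (of diameter 3) and two distinct octads are at distance 1, 2 or 3 exactly when they meet in 0, 4 or 2 points respectively. -/
theorem result (o o' : Finset Cfsg.GolayPt) (ho : o ∈ Cfsg.octads) (ho' : o' ∈ Cfsg.octads) (hne : o ≠ o') : (Cfsg.blockGraph Cfsg.octads).Connected ∧ ((Cfsg.blockGraph Cfsg.octads).dist ⟨o, ho⟩ ⟨o', ho'⟩ = 1 ↔ (o ∩ o').card = 0) ∧ ((Cfsg.blockGraph Cfsg.octads).dist ⟨o, ho⟩ ⟨o', ho'⟩ = 2 ↔ (o ∩ o').card = 4) ∧ ((Cfsg.blockGraph Cfsg.octads).dist ⟨o, ho⟩ ⟨o', ho'⟩ = 3 ↔ (o ∩ o').card = 2) := by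
  classical
  set G := blockGraph octads
  have hadj : ∀ (a b : Finset GolayPt) (ha : a ∈ octads) (hb : b ∈ octads),
      G.Adj ⟨a, ha⟩ ⟨b, hb⟩ ↔ (a ∩ b).card = 0 := by
    intro a b ha hb
    rw [Finset.card_eq_zero, ← Finset.disjoint_iff_inter_eq_empty]
    simp only [G, blockGraph, SimpleGraph.fromRel_adj, ne_eq, Subtype.mk.injEq]
    constructor
    · rintro ⟨-, h | h⟩
      exacts [h, h.symm]
    · intro h
      refine ⟨fun e => ?_, Or.inl h⟩
      subst e
      rw [disjoint_self, Finset.bot_eq_empty] at h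
      have h8 := ha.2
      rw [h] at h8
      simp at h8
  have hroots : ∀ k, k = 0 ∨ k = 2 ∨ k = 4 → Spor.octRoots.getD k 0 ∈ Spor.octMasks ∧
      Spor.pc (5279 &&& Spor.octRoots.getD k 0) = k := by
    rintro k (rfl | rfl | rfl) <;> decide +kernel
  have hsizes : ∀ a ∈ octads, ∀ b ∈ octads, a ≠ b → (a ∩ b).card = 0 ∨ (a ∩ b).card = 2 ∨ (a ∩ b).card = 4 := by
    intro a ha b hb hab
    obtain ⟨σ, hσ, rfl⟩ := Spor.octad_map a ha
    rw [show (σ • Spor.ofMask 5279 ∩ b).card = Spor.pc (5279 &&& Spor.mask (σ⁻¹ • b)) by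
      rw [← Spor.mask_ofMask (show (5279 : ℕ) < 2 ^ 24 by norm_num), ← Spor.mask_inter, Spor.pc_mask,
        Spor.mask_ofMask (show (5279 : ℕ) < 2 ^ 24 by norm_num), ← Finset.card_smul_finset σ (Spor.ofMask 5279 ∩ _),
        Finset.smul_finset_inter, smul_inv_smul]]
    rcases Spor.octMasks_class _ (Spor.mem_octads.1 (Spor.smul_octad (inv_mem hσ) hb)) with h | h
    · refine absurd ?_ hab
      rw [← Spor.mask_ofMask (show (5279 : ℕ) < 2 ^ 24 by norm_num)] at h
      rw [← Spor.mask_injective h, smul_inv_smul]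
    · exact h
  have htrans : ∀ a ∈ octads, ∀ b ∈ octads, ∀ k, (k = 0 ∨ k = 2 ∨ k = 4) → (a ∩ b).card = k →
      ∃ σ ∈ M24, σ • Spor.ofMask 5279 = a ∧ σ • Spor.ofMask (Spor.octRoots.getD k 0) = b := by
    intro a ha b hb k hk hc
    obtain ⟨σ, hσ, rfl⟩ := Spor.octad_map a ha
    obtain ⟨h1, h2⟩ := hroots k hk
    have hlt := Spor.octMasks_lt h1
    have hr : Spor.ofMask (Spor.octRoots.getD k 0) ∈ octads := by rw [Spor.mem_octads, Spor.mask_ofMask hlt]; exact h1
    obtain ⟨g, hg, hga, hgb⟩ := Spor.octad_orbit_trans (Spor.smul_octad hσ Spor.baseOctad_mem)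
      (Spor.smul_octad hσ hr) hb (by
        rw [← Finset.smul_finset_inter, Finset.card_smul_finset, ← Spor.pc_mask, Spor.mask_inter,
          Spor.mask_ofMask (show (5279 : ℕ) < 2 ^ 24 by norm_num), Spor.mask_ofMask hlt, h2, hc])
    exact ⟨g * σ, mul_mem hg hσ, by rw [mul_smul, hga], by rw [mul_smul, hgb]⟩
  have w4 : Spor.octMasks.any (fun x => (5279 &&& x == 0) && (Spor.octRoots.getD 4 0 &&& x == 0)) = true := by
    decide +kernel
  have w2 : Spor.octMasks.any (fun x => (5279 &&& x == 0) &&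
      Spor.octMasks.any fun y => (x &&& y == 0) && (Spor.octRoots.getD 2 0 &&& y == 0)) = true := by
    decide +kernel
  have n2 : Spor.octMasks.all (fun x => !((5279 &&& x == 0) && (Spor.octRoots.getD 2 0 &&& x == 0))) = true := by
    decide +kernel
  have hmove : ∀ (σ : Equiv.Perm GolayPt) (m x : ℕ), m < 2 ^ 24 → x < 2 ^ 24 → m &&& x = 0 →
      (σ • Spor.ofMask m ∩ σ • Spor.ofMask x).card = 0 := by
    intro σ m x hm hx h
    rw [← Finset.smul_finset_inter, Finset.card_smul_finset, ← Spor.pc_mask, Spor.mask_inter, Spor.mask_ofMask hm,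
      Spor.mask_ofMask hx, h]
    decide +kernel
  have hb5 : (5279 : ℕ) < 2 ^ 24 := by norm_num
  have p4 : ∀ a ∈ octads, ∀ b ∈ octads, (a ∩ b).card = 4 →
      ∃ x ∈ octads, (a ∩ x).card = 0 ∧ (b ∩ x).card = 0 := by
    intro a ha b hb hc
    obtain ⟨σ, hσ, ea, eb⟩ := htrans a ha b hb 4 (by norm_num) hc
    simp only [List.any_eq_true, Bool.and_eq_true, beq_iff_eq] at w4
    obtain ⟨x, hx, h1, h2⟩ := w4
    have hlt := Spor.octMasks_lt hx
    refine ⟨σ • Spor.ofMask x, Spor.smul_octad hσ (by rwa [Spor.mem_octads, Spor.mask_ofMask hlt]), ?_, ?_⟩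
    · rw [← ea]; exact hmove σ _ _ hb5 hlt h1
    · rw [← eb]; exact hmove σ _ _ (Spor.octMasks_lt (hroots 4 (by norm_num)).1) hlt h2
  have p2 : ∀ a ∈ octads, ∀ b ∈ octads, (a ∩ b).card = 2 →
      ∃ x ∈ octads, ∃ y ∈ octads, (a ∩ x).card = 0 ∧ (x ∩ y).card = 0 ∧ (b ∩ y).card = 0 := by
    intro a ha b hb hc
    obtain ⟨σ, hσ, ea, eb⟩ := htrans a ha b hb 2 (by norm_num) hc
    simp only [List.any_eq_true, Bool.and_eq_true, beq_iff_eq] at w2
    obtain ⟨x, hx, h1, y, hy, h3, h2⟩ := w2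
    have hxl := Spor.octMasks_lt hx
    have hyl := Spor.octMasks_lt hy
    refine ⟨σ • Spor.ofMask x, Spor.smul_octad hσ (by rwa [Spor.mem_octads, Spor.mask_ofMask hxl]),
      σ • Spor.ofMask y, Spor.smul_octad hσ (by rwa [Spor.mem_octads, Spor.mask_ofMask hyl]), ?_, ?_, ?_⟩
    · rw [← ea]; exact hmove σ _ _ hb5 hxl h1
    · exact hmove σ _ _ hxl hyl h3
    · rw [← eb]; exact hmove σ _ _ (Spor.octMasks_lt (hroots 2 (by norm_num)).1) hyl h2
  have q2 : ∀ a ∈ octads, ∀ b ∈ octads, (a ∩ b).card = 2 →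
      ∀ x ∈ octads, ¬ ((a ∩ x).card = 0 ∧ (b ∩ x).card = 0) := by
    rintro a ha b hb hc x hx ⟨h1, h2⟩
    obtain ⟨σ, hσ, ea, eb⟩ := htrans a ha b hb 2 (by norm_num) hc
    simp only [List.all_eq_true, Bool.not_eq_true', Bool.and_eq_false_iff, beq_eq_false_iff_ne] at n2
    have conv : ∀ m, m < 2 ^ 24 → (σ • Spor.ofMask m ∩ x).card = 0 → m &&& Spor.mask (σ⁻¹ • x) = 0 := by
      intro m hm h
      rw [Finset.card_eq_zero] at h
      rw [← Spor.mask_ofMask hm, ← Spor.mask_inter, show Spor.ofMask m ∩ σ⁻¹ • x = ∅ by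
        apply MulAction.injective σ
        show σ • (Spor.ofMask m ∩ σ⁻¹ • x) = σ • (∅ : Finset GolayPt)
        rw [Finset.smul_finset_inter, smul_inv_smul, h, Finset.smul_finset_empty]]
      rfl
    rcases n2 _ (Spor.mem_octads.1 (Spor.smul_octad (inv_mem hσ) hx)) with h | h
    · exact h (conv 5279 hb5 (ea ▸ h1))
    · exact h (conv _ (Spor.octMasks_lt (hroots 2 (by norm_num)).1) (eb ▸ h2))
  have hreach : ∀ a b : octads, G.Reachable a b := by
    rintro ⟨a, ha⟩ ⟨b, hb⟩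
    by_cases hab : a = b
    · subst hab; exact .refl _
    rcases hsizes a ha b hb hab with h | h | h
    · exact ((hadj a b ha hb).2 h).reachable
    · obtain ⟨x, hx, y, hy, h1, h2, h3⟩ := p2 a ha b hb h
      exact (((hadj a x ha hx).2 h1).reachable.trans ((hadj x y hx hy).2 h2).reachable).trans
        ((hadj b y hb hy).2 h3).symm.reachable
    · obtain ⟨x, hx, h1, h2⟩ := p4 a ha b hb h
      exact ((hadj a x ha hx).2 h1).reachable.trans ((hadj b x hb hx).2 h2).symm.reachable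
  have : Nonempty octads := ⟨⟨o, ho⟩⟩
  have hconn : G.Connected := ⟨hreach⟩
  have hne' : (⟨o, ho⟩ : octads) ≠ ⟨o', ho'⟩ := fun e => hne (congrArg Subtype.val e)
  have hpos : 0 < G.dist ⟨o, ho⟩ ⟨o', ho'⟩ := hconn.pos_dist_of_ne hne'
  have d1 : G.dist ⟨o, ho⟩ ⟨o', ho'⟩ = 1 ↔ (o ∩ o').card = 0 := by
    rw [SimpleGraph.dist_eq_one_iff_adj, hadj]
  have d4 : (o ∩ o').card = 4 → G.dist ⟨o, ho⟩ ⟨o', ho'⟩ = 2 := by
    intro h
    obtain ⟨x, hx, h1, h2⟩ := p4 o ho o' ho' h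
    have := SimpleGraph.dist_le (.cons ((hadj o x ho hx).2 h1) (.cons ((hadj o' x ho' hx).2 h2).symm .nil))
    simp only [SimpleGraph.Walk.length_cons, SimpleGraph.Walk.length_nil] at this
    have : G.dist ⟨o, ho⟩ ⟨o', ho'⟩ ≠ 1 := fun e => by have := d1.1 e; omega
    omega
  have d2 : (o ∩ o').card = 2 → G.dist ⟨o, ho⟩ ⟨o', ho'⟩ = 3 := by
    intro h
    obtain ⟨x, hx, y, hy, h1, h2, h3⟩ := p2 o ho o' ho' h
    have := SimpleGraph.dist_le (.cons ((hadj o x ho hx).2 h1) (.cons ((hadj x y hx hy).2 h2)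
      (.cons ((hadj o' y ho' hy).2 h3).symm .nil)))
    simp only [SimpleGraph.Walk.length_cons, SimpleGraph.Walk.length_nil] at this
    have : G.dist ⟨o, ho⟩ ⟨o', ho'⟩ ≠ 1 := fun e => by have := d1.1 e; omega
    have : G.dist ⟨o, ho⟩ ⟨o', ho'⟩ ≠ 2 := by
      intro e
      obtain ⟨w, hw⟩ := hconn.exists_walk_length_eq_dist ⟨o, ho⟩ ⟨o', ho'⟩
      rw [e] at hw
      have h1 := w.adj_getVert_succ (show 0 < w.length by omega)
      have h2 := w.adj_getVert_succ (show 1 < w.length by omega)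
      rw [w.getVert_zero, show 0 + 1 = 1 from rfl] at h1
      rw [show 1 + 1 = w.length by omega, w.getVert_length] at h2
      exact q2 o ho o' ho' h _ (w.getVert 1).2
        ⟨(hadj o _ ho (w.getVert 1).2).1 h1, (hadj o' _ ho' (w.getVert 1).2).1 h2.symm⟩
    omega
  refine ⟨hconn, d1, ⟨fun e => ?_, d4⟩, ⟨fun e => ?_, d2⟩⟩
  · rcases hsizes o ho o' ho' hne with h | h | h
    · have := d1.2 h; omega
    · have := d2 h; omega
    · exact h
  · rcases hsizes o ho o' ho' hne with h | h | h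
    · have := d1.2 h; omega
    · exact h
    · have := d4 h; omega

end Cfsg.Agent.S5609
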