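import Cfsg.Statements.S5610
import Cfsg.Agent.Lib.Spor.GolayOrbitFacts
import Cfsg.Agent.Lib.Spor.GolayStabCount

set_option autoImplicit false
open scoped Pointwise
open Cfsg

namespace Cfsg.Agent.S5610

/-- The stabiliser of an octad in the group of the length-24 code has exactly three orbits on the 3795 trios, of sizes 15, 420 and 3360, and exactly three orbits on the 1771 sextets, of sizes 35, 840 and 896. -/
theorem result (o : Finset Cfsg.GolayPt) (ho : o ∈ Cfsg.octads) : (∃ X₁ ∈ Cfsg.trios, ∃ X₂ ∈ Cfsg.trios, ∃ X₃ ∈ Cfsg.trios, (MulAction.orbit ↥(MulAction.stabilizer Cfsg.M24 o) X₁).ncard = 15 ∧ (MulAction.orbit ↥(MulAction.stabilizer Cfsg.M24 o) X₂).ncard = 420 ∧ (MulAction.orbit ↥(MulAction.stabilizer Cfsg.M24 o) X₃).ncard = 3360 ∧ Cfsg.trios = MulAction.orbit ↥(MulAction.stabilizer Cfsg.M24 o) X₁ ∪ MulAction.orbit ↥(MulAction.stabilizer Cfsg.M24 o) X₂ ∪ MulAction.orbit ↥(MulAction.stabilizer Cfsg.M24 o) X₃) ∧ (∃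 Y₁ ∈ Cfsg.sextets, ∃ Y₂ ∈ Cfsg.sextets, ∃ Y₃ ∈ Cfsg.sextets, (MulAction.orbit ↥(MulAction.stabilizer Cfsg.M24 o) Y₁).ncard = 35 ∧ (MulAction.orbit ↥(MulAction.stabilizer Cfsg.M24 o) Y₂).ncard = 840 ∧ (MulAction.orbit ↥(MulAction.stabilizer Cfsg.M24 o) Y₃).ncard = 896 ∧ Cfsg.sextets = MulAction.orbit ↥(MulAction.stabilizer Cfsg.M24 o) Y₁ ∪ MulAction.orbit ↥(MulAction.stabilizer Cfsg.M24 o) Y₂ ∪ MulAction.orbit ↥(MulAction.stabilizer Cfsg.M24 o) Y₃) := by
  obtain ⟨τ, hτ, rfl⟩ := Spor.octad_map o ho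
  rw [← Spor.stabilizer_singleton_conf]
  let σ : M24 := ⟨τ, hτ⟩
  have e : ({τ • Spor.ofMask 5279} : Finset (Finset GolayPt)) = σ • Spor.confOf Spor.confOc :=
    (Spor.smul_confSingleton (σ := τ) 5279).symm
  rw [e]
  constructor
  · obtain ⟨g1, g2, g3⟩ := Spor.orbits_transfer σ (n := 3) (r := (fun c => Spor.confOf (Spor.orbOcTrioR.getD c []))) (fun g T h => Spor.smul_trio g.2 h) Spor.orbOcTrio_orbits.1 Spor.orbOcTrio_orbits.2.1
    refine ⟨_, (g1 2 (by norm_num)).1, _, (g1 1 (by norm_num)).1, _, (g1 0 (by norm_num)).1, (g1 2 (by norm_num)).2, (g1 1 (by norm_num)).2, (g1 0 (by norm_num)).2, Set.Subset.antisymm (fun y hy => ?_) ?_⟩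
    · obtain ⟨c, hc, h⟩ := g3 y hy
      interval_cases c
      · right; exact h
      · left; right; exact h
      · left; left; exact h
    · exact (Set.union_subset (Set.union_subset (g2 2 (by norm_num)) (g2 1 (by norm_num))) (g2 0 (by norm_num)))
  · obtain ⟨g1, g2, g3⟩ := Spor.orbits_transfer σ (n := 3) (r := (fun c => Spor.confOf (Spor.orbOcSextetR.getD c []))) (fun g S h => Spor.smul_sextet g.2 h) Spor.orbOcSextet_orbits.1 Spor.orbOcSextet_orbits.2.1
    refine ⟨_, (g1 0 (by norm_num)).1, _, (g1 2 (by norm_num)).1, _, (g1 1 (by norm_num)).1, (g1 0 (by norm_num)).2, (g1 2 (by norm_num)).2, (g1 1 (by norm_num)).2, Set.Subset.antisymm (fun y hy => ?_) ?_⟩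
    · obtain ⟨c, hc, h⟩ := g3 y hy
      interval_cases c
      · left; left; exact h
      · right; exact h
      · left; right; exact h
    · exact (Set.union_subset (Set.union_subset (g2 0 (by norm_num)) (g2 2 (by norm_num))) (g2 1 (by norm_num)))


end Cfsg.Agent.S5610
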