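import Cfsg.Statements.S5611
import Cfsg.Agent.Lib.Spor.GolayOrbitFacts

set_option autoImplicit false
open scoped Pointwise
open Cfsg

namespace Cfsg.Agent.S5611

/-- The stabiliser of a sextet in the group of the length-24 code has exactly three orbits on the 759 octads, of sizes 15, 360 and 384, and exactly four orbits on the 3795 trios, of sizes 15, 180, 720 and 2880. -/
theorem result (S : Finset (Finset Cfsg.GolayPt)) (hS : S ∈ Cfsg.sextets) : (∃ X₁ ∈ Cfsg.octads, ∃ X₂ ∈ Cfsg.octads, ∃ X₃ ∈ Cfsg.octads, (MulAction.orbit ↥(MulAction.stabilizer Cfsg.M24 S) X₁).ncard = 15 ∧ (MulAction.orbit ↥(MulAction.stabilizer Cfsg.M24 S) X₂).ncard = 360 ∧ (MulAction.orbit ↥(MulAction.stabilizer Cfsg.M24 S) X₃).ncard = 384 ∧ Cfsg.octads = MulAction.orbit ↥(MulAction.stabilizer Cfsg.M24 S) X₁ ∪ MulAction.orbit ↥(MulAction.stabilizer Cfsg.M24 S) X₂ ∪ MulAction.orbit ↥(MulAction.stabilizer Cfsg.M24 S) X₃) ∧ (∃ Y₁ ∈ Cfsg.trios, ∃ Y₂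 ∈ Cfsg.trios, ∃ Y₃ ∈ Cfsg.trios, ∃ Y₄ ∈ Cfsg.trios, (MulAction.orbit ↥(MulAction.stabilizer Cfsg.M24 S) Y₁).ncard = 15 ∧ (MulAction.orbit ↥(MulAction.stabilizer Cfsg.M24 S) Y₂).ncard = 180 ∧ (MulAction.orbit ↥(MulAction.stabilizer Cfsg.M24 S) Y₃).ncard = 720 ∧ (MulAction.orbit ↥(MulAction.stabilizer Cfsg.M24 S) Y₄).ncard = 2880 ∧ Cfsg.trios = MulAction.orbit ↥(MulAction.stabilizer Cfsg.M24 S) Y₁ ∪ MulAction.orbit ↥(MulAction.stabilizer Cfsg.M24 S) Y₂ ∪ MulAction.orbit ↥(MulAction.stabilizer Cfsg.M24 S) Y₃ ∪ MulAction.orbit ↥(MulAction.stabilizer Cfsg.M24 S) Y₄) := by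
  obtain ⟨τ, hτ, rfl⟩ := Spor.sextet_trans (Spor.sxOk_sound (r := Spor.confSx) (by decide +kernel)) hS
  let σ : M24 := ⟨τ, hτ⟩
  rw [show τ • Spor.confOf Spor.confSx = σ • Spor.confOf Spor.confSx from rfl]
  constructor
  · obtain ⟨g1, g2, g3⟩ := Spor.orbits_transfer σ (n := 3) (r := (fun c => Spor.ofMask ((Spor.orbSxOctR.getD c []).getD 0 0))) (fun g o h => Spor.smul_octad g.2 h) Spor.orbSxOct_orbits.1 Spor.orbSxOct_orbits.2.1
    refine ⟨_, (g1 2 (by norm_num)).1, _, (g1 1 (by norm_num)).1, _, (g1 0 (by norm_num)).1, (g1 2 (by norm_num)).2, (g1 1 (by norm_num)).2, (g1 0 (by norm_num)).2, Set.Subset.antisymm (fun y hy => ?_) ?_⟩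
    · obtain ⟨c, hc, h⟩ := g3 y hy
      interval_cases c
      · right; exact h
      · left; right; exact h
      · left; left; exact h
    · exact (Set.union_subset (Set.union_subset (g2 2 (by norm_num)) (g2 1 (by norm_num))) (g2 0 (by norm_num)))
  · obtain ⟨g1, g2, g3⟩ := Spor.orbits_transfer σ (n := 4) (r := (fun c => Spor.confOf (Spor.orbSxTrioR.getD c []))) (fun g T h => Spor.smul_trio g.2 h) Spor.orbSxTrio_orbits.1 Spor.orbSxTrio_orbits.2.1
    refine ⟨_, (g1 3 (by norm_num)).1, _, (g1 2 (by norm_num)).1, _, (g1 1 (by norm_num)).1, _, (g1 0 (by norm_num)).1, (g1 3 (by norm_num)).2, (g1 2 (by norm_num)).2, (g1 1 (by norm_num)).2, (g1 0 (by norm_num)).2, Set.Subset.antisymm (fun y hy => ?_) ?_⟩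
    · obtain ⟨c, hc, h⟩ := g3 y hy
      interval_cases c
      · right; exact h
      · left; right; exact h
      · left; left; right; exact h
      · left; left; left; exact h
    · exact (Set.union_subset (Set.union_subset (Set.union_subset (g2 3 (by norm_num)) (g2 2 (by norm_num))) (g2 1 (by norm_num))) (g2 0 (by norm_num)))


end Cfsg.Agent.S5611
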