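import Cfsg.Statements.S5612
import Cfsg.Agent.Lib.Spor.GolayOrbitFacts

set_option autoImplicit false
open scoped Pointwise
open Cfsg

namespace Cfsg.Agent.S5612

/-- The stabiliser of a trio in the group of the length-24 code has exactly three orbits on the 759 octads, of sizes 3, 84 and 672, and exactly four orbits on the 1771 sextets, of sizes 7, 84, 336 and 1344. -/
theorem result (T : Finset (Finset Cfsg.GolayPt)) (hT : T ∈ Cfsg.trios) : (∃ X₁ ∈ Cfsg.octads, ∃ X₂ ∈ Cfsg.octads, ∃ X₃ ∈ Cfsg.octads, (MulAction.orbit ↥(MulAction.stabilizer Cfsg.M24 T) X₁).ncard = 3 ∧ (MulAction.orbit ↥(MulAction.stabilizer Cfsg.M24 T) X₂).ncard = 84 ∧ (MulAction.orbit ↥(MulAction.stabilizer Cfsg.M24 T) X₃).ncard = 672 ∧ Cfsg.octads = MulAction.orbit ↥(MulAction.stabilizer Cfsg.M24 T) X₁ ∪ MulAction.orbit ↥(MulAction.stabilizer Cfsg.M24 T) X₂ ∪ MulAction.orbit ↥(MulAction.stabilizer Cfsg.M24 T) X₃) ∧ (∃ Y₁ ∈ Cfsg.sextets, ∃ Y₂ ∈ Cfsg.sextets,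 ∃ Y₃ ∈ Cfsg.sextets, ∃ Y₄ ∈ Cfsg.sextets, (MulAction.orbit ↥(MulAction.stabilizer Cfsg.M24 T) Y₁).ncard = 7 ∧ (MulAction.orbit ↥(MulAction.stabilizer Cfsg.M24 T) Y₂).ncard = 84 ∧ (MulAction.orbit ↥(MulAction.stabilizer Cfsg.M24 T) Y₃).ncard = 336 ∧ (MulAction.orbit ↥(MulAction.stabilizer Cfsg.M24 T) Y₄).ncard = 1344 ∧ Cfsg.sextets = MulAction.orbit ↥(MulAction.stabilizer Cfsg.M24 T) Y₁ ∪ MulAction.orbit ↥(MulAction.stabilizer Cfsg.M24 T) Y₂ ∪ MulAction.orbit ↥(MulAction.stabilizer Cfsg.M24 T) Y₃ ∪ MulAction.orbit ↥(MulAction.stabilizer Cfsg.M24 T) Y₄) := by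
  obtain ⟨τ, hτ, rfl⟩ := Spor.exists_base_trio hT
  let σ : M24 := ⟨τ, hτ⟩
  rw [show τ • Spor.confOf Spor.confTr = σ • Spor.confOf Spor.confTr from rfl]
  constructor
  · obtain ⟨g1, g2, g3⟩ := Spor.orbits_transfer σ (n := 3) (r := (fun c => Spor.ofMask ((Spor.orbTrOctR.getD c []).getD 0 0))) (fun g o h => Spor.smul_octad g.2 h) Spor.orbTrOct_orbits.1 Spor.orbTrOct_orbits.2.1
    refine ⟨_, (g1 2 (by norm_num)).1, _, (g1 1 (by norm_num)).1, _, (g1 0 (by norm_num)).1, (g1 2 (by norm_num)).2, (g1 1 (by norm_num)).2, (g1 0 (by norm_num)).2, Set.Subset.antisymm (fun y hy => ?_) ?_⟩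
    · obtain ⟨c, hc, h⟩ := g3 y hy
      interval_cases c
      · right; exact h
      · left; right; exact h
      · left; left; exact h
    · exact (Set.union_subset (Set.union_subset (g2 2 (by norm_num)) (g2 1 (by norm_num))) (g2 0 (by norm_num)))
  · obtain ⟨g1, g2, g3⟩ := Spor.orbits_transfer σ (n := 4) (r := (fun c => Spor.confOf (Spor.orbTrSextetR.getD c []))) (fun g S h => Spor.smul_sextet g.2 h) Spor.orbTrSextet_orbits.1 Spor.orbTrSextet_orbits.2.1
    refine ⟨_, (g1 2 (by norm_num)).1, _, (g1 0 (by norm_num)).1, _, (g1 3 (by norm_num)).1, _, (g1 1 (by norm_num)).1, (g1 2 (by norm_num)).2, (g1 0 (by norm_num)).2, (g1 3 (by norm_num)).2, (g1 1 (by norm_num)).2, Set.Subset.antisymm (fun y hy => ?_) ?_⟩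
    · obtain ⟨c, hc, h⟩ := g3 y hy
      interval_cases c
      · left; left; right; exact h
      · right; exact h
      · left; left; left; exact h
      · left; right; exact h
    · exact (Set.union_subset (Set.union_subset (Set.union_subset (g2 2 (by norm_num)) (g2 0 (by norm_num))) (g2 3 (by norm_num))) (g2 1 (by norm_num)))


end Cfsg.Agent.S5612
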