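import Cfsg.Statements.S5613
import Cfsg.Agent.Lib.Spor.GolayStabCount

set_option autoImplicit false
open scoped Pointwise
open Cfsg

namespace Cfsg.Agent.S5613

open scoped Pointwise

/-- In the group of the length-24 code, the joint stabiliser of two octads has order 10752, 1152 or 720 according as the octads meet in 0, 4 or 2 points. -/
theorem result (o o' : Finset Cfsg.GolayPt) (ho : o ∈ Cfsg.octads) (ho' : o' ∈ Cfsg.octads) : ((o ∩ o').card = 0 → Nat.card ↥(MulAction.stabilizer Cfsg.M24 o ⊓ MulAction.stabilizer Cfsg.M24 o') = 10752) ∧ ((o ∩ o').card = 4 → Nat.card ↥(MulAction.stabilizer Cfsg.M24 o ⊓ MulAction.stabilizer Cfsg.M24 o') = 1152) ∧ ((o ∩ o').card = 2 → Nat.card ↥(MulAction.stabilizer Cfsg.M24 o ⊓ MulAction.stabilizer Cfsg.M24 o') = 720) := by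
  have horb : MulAction.orbit (MulAction.stabilizer M24 o) o' =
      {x | x ∈ octads ∧ (x ∩ o).card = (o' ∩ o).card} := by
    ext x
    constructor
    · rintro ⟨⟨g, hg⟩, rfl⟩
      refine ⟨Spor.smul_octad g.2 ho', ?_⟩
      show ((g • o') ∩ o).card = _
      conv_lhs => rw [← MulAction.mem_stabilizer_iff.1 hg]
      rw [← Finset.smul_finset_inter, Finset.card_smul_finset]
    · rintro ⟨hx, hc⟩
      obtain ⟨g, hg, hgo, hgx⟩ := Spor.octad_orbit_trans ho ho' hx (by
        rw [Finset.inter_comm o, Finset.inter_comm o]; exact hc.symm)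
      exact ⟨⟨⟨g, hg⟩, hgo⟩, hgx⟩
  obtain ⟨σ, hσ, hσo⟩ := Spor.octad_map o ho
  have hn : (MulAction.orbit (MulAction.stabilizer M24 o) o').ncard =
      (Spor.octMasks.filter fun m => Spor.pc (m &&& 5279) == (o ∩ o').card).length := by
    rw [horb, ← hσo, Spor.ncard_class (fun _ => Spor.smul_octad_iff hσ),
      Spor.ncard_class_base Spor.octMasks_nodup (fun _ => Spor.octMasks_lt) (fun _ => Spor.mem_octads) (by norm_num),
      Finset.inter_comm o']
  have h := Subgroup.card_mul_index (MulAction.stabilizer (MulAction.stabilizer M24 o) o')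
  have e : Nat.card (MulAction.stabilizer (MulAction.stabilizer M24 o) o') =
      Nat.card ↥(MulAction.stabilizer M24 o ⊓ MulAction.stabilizer M24 o') :=
    Nat.card_congr
      { toFun := fun g => ⟨g.1.1, g.1.2, g.2⟩
        invFun := fun g => ⟨⟨g.1, g.2.1⟩, g.2.2⟩
        left_inv := fun _ => rfl
        right_inv := fun _ => rfl }
  have hK : Nat.card (MulAction.stabilizer M24 o) = 322560 := by
    rw [← Spor.card_stabM, Spor.card_stabM_octad ho]
  rw [MulAction.index_stabilizer, hn, e, hK] at h
  have c0 : (Spor.octMasks.filter fun m => Spor.pc (m &&& 5279) == 0).length = 30 := by decide +kernel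
  have c4 : (Spor.octMasks.filter fun m => Spor.pc (m &&& 5279) == 4).length = 280 := by decide +kernel
  have c2 : (Spor.octMasks.filter fun m => Spor.pc (m &&& 5279) == 2).length = 448 := by decide +kernel
  refine ⟨fun hc => ?_, fun hc => ?_, fun hc => ?_⟩
  · rw [hc, c0] at h; omega
  · rw [hc, c4] at h; omega
  · rw [hc, c2] at h; omega

end Cfsg.Agent.S5613
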