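import Cfsg.Statements.S5614
import Cfsg.Agent.Lib.Spor.HexadStab
import Cfsg.Agent.Lib.Spor.GolayChain

set_option autoImplicit false
open scoped Pointwise
open Cfsg
open scoped Pointwise

namespace Cfsg.Agent.S5614

/-- In the group of the length-24 code, the joint stabiliser of two octads meeting in exactly two points is isomorphic to the symmetric group of degree 6. -/
theorem result (o o' : Finset Cfsg.GolayPt) (ho : o ∈ Cfsg.octads) (ho' : o' ∈ Cfsg.octads) (h₂ : (o ∩ o').card = 2) : Nonempty (↥(MulAction.stabilizer Cfsg.M24 o ⊓ MulAction.stabilizer Cfsg.M24 o') ≃* Equiv.Perm (Fin 6)) := by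
  classical
  set d := symmDiff o o' with hd0
  have hd : d ∈ Cfsg.dodecads := by
    refine ⟨Cfsg.Agent.Spor.supports_symmDiff ho.1 ho'.1, ?_⟩
    have := Cfsg.Agent.Spor.card_symmDiff_add o o'
    have := ho.2
    have := ho'.2
    show (symmDiff o o').card = 12
    omega
  have hCeq : o ∩ d = o \ o' := by
    ext p
    simp only [hd0, Finset.mem_inter, Finset.mem_symmDiff, Finset.mem_sdiff]
    tauto
  have hC : o \ o' ∈ Cfsg.hexadsOn d := by
    refine ⟨?_, o, ho, hCeq⟩
    have := Finset.card_sdiff_add_card_inter o o'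
    have := ho.2
    omega
  have e : MulAction.stabilizer Cfsg.M24 o ⊓ MulAction.stabilizer Cfsg.M24 o' =
      MulAction.stabilizer Cfsg.M24 d ⊓ MulAction.stabilizer Cfsg.M24 (o \ o') := by
    ext g
    simp only [Subgroup.mem_inf, MulAction.mem_stabilizer_iff]
    constructor
    · rintro ⟨h1, h2⟩
      exact ⟨by rw [hd0, Finset.smul_finset_symmDiff, h1, h2], by rw [Finset.smul_finset_sdiff, h1, h2]⟩
    · rintro ⟨h1, h2⟩
      have h3 : g • o = o := by
        refine Cfsg.Agent.Spor.octad_eq_of_five (Cfsg.Agent.Spor.smul_octad g.2 ho) ho ?_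
        have h4 : (o \ o').card = 6 := hC.1
        have hsub : o \ o' ⊆ (g • o) ∩ o := Finset.subset_inter
          (h2.symm.le.trans (Finset.smul_finset_subset_smul_finset Finset.sdiff_subset)) Finset.sdiff_subset
        exact le_trans (by omega) (Finset.card_le_card hsub)
      refine ⟨h3, ?_⟩
      have h5 : o' = symmDiff o d := by rw [hd0, symmDiff_symmDiff_cancel_left]
      rw [h5, Finset.smul_finset_symmDiff, h3, h1]
  obtain ⟨f⟩ := Cfsg.Agent.Spor.hexad_stab_fin hd hC
  exact ⟨(MulEquiv.subgroupCongr e).trans f⟩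


end Cfsg.Agent.S5614
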