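import Cfsg.Statements.S5615
import Cfsg.Agent.Lib.Spor.GolayTriosOctad

set_option autoImplicit false
open scoped Pointwise
open Cfsg

namespace Cfsg.Agent.S5615

open scoped Pointwise

/-- An octad of the length-24 code lies in exactly 15 trios; the stabiliser of the octad in the code's group acts doubly transitively on these 15 trios, and the kernel of this action is the pointwise stabiliser of the octad. -/
theorem result (o : Finset Cfsg.GolayPt) (ho : o ∈ Cfsg.octads) : {T : Finset (Finset Cfsg.GolayPt) | T ∈ Cfsg.trios ∧ o ∈ T}.ncard = 15 ∧ (∀ T₁ T₂ T₁' T₂' : Finset (Finset Cfsg.GolayPt), T₁ ∈ Cfsg.trios → T₂ ∈ Cfsg.trios → T₁' ∈ Cfsg.trios → T₂' ∈ Cfsg.trios → o ∈ T₁ → o ∈ T₂ → o ∈ T₁' → o ∈ T₂' → T₁ ≠ T₂ → T₁' ≠ T₂' → ∃ g ∈ Cfsg.M24, g • o = o ∧ g • T₁ = T₁' ∧ g • T₂ = T₂') ∧ ∀ g ∈ Cfsg.M24, g • o = o → ((∀ T ∈ Cfsg.trios, o ∈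 T → g • T = T) ↔ ∀ p ∈ o, g p = p) := by
  refine ⟨Spor.ncard_triosAt ho, fun T₁ T₂ T₁' T₂' a b a' b' c d c' d' h h' => ?_, fun g hg hgo => ?_⟩
  · obtain ⟨σ, hσ, e0, e1, e2⟩ := Spor.trios_two_trans ho ⟨a, c⟩ ⟨b, d⟩ h
    obtain ⟨τ, hτ, f0, f1, f2⟩ := Spor.trios_two_trans ho ⟨a', c'⟩ ⟨b', d'⟩ h'
    refine ⟨τ * σ⁻¹, mul_mem hτ (inv_mem hσ), ?_, ?_, ?_⟩
    · conv_lhs => rw [← e0, mul_smul, inv_smul_smul, f0]
    · rw [← e1, mul_smul, inv_smul_smul, f1]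
    · rw [← e2, mul_smul, inv_smul_smul, f2]
  · exact ⟨fun h => (Spor.mem_fixM.1 (Spor.fixes_trios_fixM ho ⟨hg, hgo⟩ fun T hT => h T hT.1 hT.2)).2,
      fun h T hT hoT => Spor.fixM_fixes_trios ho (Spor.mem_fixM.2 ⟨hg, h⟩) ⟨hT, hoT⟩⟩

end Cfsg.Agent.S5615
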