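import Cfsg.Statements.S5616
import Cfsg.Agent.Lib.Spor.GolayOrbitFacts

set_option autoImplicit false
open scoped Pointwise
open Cfsg

namespace Cfsg.Agent.S5616

open scoped Pointwise

/-- Let Y be a set of 3 of the 24 points. The sextets of the length-24 code whose tetrads meeting Y number 1, 2 or 3 are respectively 21, 630 and 1120 in number, and two sextets with the same number of tetrads meeting Y are conjugate under the setwise stabiliser of Y in the code's group. -/
theorem result (Y : Finset Cfsg.GolayPt) (hY : Y.card = 3) : {S : Finset (Finset Cfsg.GolayPt) | S ∈ Cfsg.sextets ∧ (S.filter fun t => (t ∩ Y).Nonempty).card = 1}.ncard = 21 ∧ {S : Finset (Finset Cfsg.GolayPt) | S ∈ Cfsg.sextets ∧ (S.filter fun t => (t ∩ Y).Nonempty).card = 2}.ncard = 630 ∧ {S : Finset (Finset Cfsg.GolayPt) | S ∈ Cfsg.sextets ∧ (S.filter fun t => (t ∩ Y).Nonempty).card = 3}.ncard = 1120 ∧ ∀ S S' : Finset (Finset Cfsg.GolayPt), S ∈ Cfsg.sextets → S' ∈ Cfsg.sextets → (S.filter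 fun t => (t ∩ Y).Nonempty).card = (S'.filter fun t => (t ∩ Y).Nonempty).card → ∃ g ∈ Cfsg.M24, g • Y = Y ∧ g • S = S' := by
  obtain ⟨τ, hτ, e⟩ := Spor.exists_map_set (show Y.card ≤ 5 by omega)
  rw [hY] at e
  subst e
  let σ : M24 := ⟨τ, hτ⟩
  have hconf : Spor.confOf Spor.confT3 = {Spor.ofMask (2 ^ 3 - 1)} := rfl
  have hcount : ∀ S : Finset (Finset GolayPt),
      ((σ • S).filter fun t => (t ∩ τ • Spor.ofMask (2 ^ 3 - 1)).Nonempty).card =
        Spor.meetCount (Spor.confOf Spor.confT3) S := by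
    intro S
    rw [Spor.meetCount, hconf]
    simp only [Finset.sum_singleton, Finset.card_pos]
    rw [← Finset.card_smul_finset σ (S.filter fun t => (t ∩ Spor.ofMask (2 ^ 3 - 1)).Nonempty)]
    congr 1
    ext t
    simp only [Finset.mem_filter, ← Finset.inv_smul_mem_iff]
    refine and_congr_right fun _ => ?_
    rw [show t ∩ τ • Spor.ofMask (2 ^ 3 - 1) = τ • ((σ⁻¹ • t) ∩ Spor.ofMask (2 ^ 3 - 1)) by
      rw [Finset.smul_finset_inter, show τ • σ⁻¹ • t = t from smul_inv_smul σ t], Finset.smul_finset_nonempty]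
  have hrep : ∀ c, c < 3 → Spor.meetCount (Spor.confOf Spor.confT3)
      (Spor.confOf (Spor.orbT3SextetR.getD c [])) = c + 1 := by decide +kernel
  obtain ⟨g1, g2, g3⟩ := Spor.orbits_transfer σ (n := 3) (r := fun c => Spor.confOf (Spor.orbT3SextetR.getD c []))
    (fun g S h => Spor.smul_sextet g.2 h) Spor.orbT3Sextet_orbits.1 Spor.orbT3Sextet_orbits.2.1
  have crit := Spor.criterion_transfer σ (fun g S h => Spor.smul_sextet g.2 h)
    (inv' := fun S => (S.filter fun t => (t ∩ τ • Spor.ofMask (2 ^ 3 - 1)).Nonempty).card)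
    hcount Spor.orbT3Sextet_orbits.2.2
  have hfix : ∀ g : M24, g • σ • Spor.confOf Spor.confT3 = σ • Spor.confOf Spor.confT3 →
      (g : Equiv.Perm GolayPt) • τ • Spor.ofMask (2 ^ 3 - 1) = τ • Spor.ofMask (2 ^ 3 - 1) := by
    intro g h
    rw [hconf, Finset.smul_finset_singleton, Finset.smul_finset_singleton] at h
    exact Finset.singleton_injective h
  have key : ∀ c, c < 3 → {S | S ∈ sextets ∧ (S.filter fun t => (t ∩ τ • Spor.ofMask (2 ^ 3 - 1)).Nonempty).card = c + 1}
      = MulAction.orbit (MulAction.stabilizer M24 (σ • Spor.confOf Spor.confT3)) (σ • Spor.confOf (Spor.orbT3SextetR.getD c [])) := by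
    intro c hc
    apply Set.ext
    intro S
    constructor
    · rintro ⟨hS, hS'⟩
      obtain ⟨k, hk, e⟩ := crit _ (g1 c hc).1 S hS (((hcount _).trans (hrep c hc)).trans hS'.symm)
      exact ⟨⟨k, hk⟩, e⟩
    · rintro ⟨⟨k, hk⟩, rfl⟩
      refine ⟨g2 c hc ⟨⟨k, hk⟩, rfl⟩, ?_⟩
      show ((k • σ • Spor.confOf _).filter _).card = _
      have hk2 : k • σ • Spor.confOf Spor.confT3 = σ • Spor.confOf Spor.confT3 := hk
      have h2 : σ⁻¹ * k * σ ∈ MulAction.stabilizer M24 (Spor.confOf Spor.confT3) := by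
        rw [MulAction.mem_stabilizer_iff, mul_smul, mul_smul, hk2, inv_smul_smul]
      have h3 := Spor.meetCount_stab _ h2 (Spor.confOf (Spor.orbT3SextetR.getD c []))
      rw [hrep c hc, ← hcount, mul_smul, mul_smul, smul_inv_smul] at h3
      exact h3
  refine ⟨?_, ?_, ?_, fun S S' hS hS' h => ?_⟩
  · rw [key 0 (by norm_num)]; exact (g1 0 (by norm_num)).2
  · rw [key 1 (by norm_num)]; exact (g1 1 (by norm_num)).2
  · rw [key 2 (by norm_num)]; exact (g1 2 (by norm_num)).2
  · obtain ⟨g, hg, e⟩ := crit S hS S' hS' h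
    exact ⟨g, g.2, hfix g hg, e⟩

end Cfsg.Agent.S5616
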