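import Cfsg.Statements.S5617
import Cfsg.Agent.Lib.Spor.GolayOrbitFacts
import Cfsg.Agent.Lib.Spor.GolayStab

set_option autoImplicit false
open scoped Pointwise
open Cfsg

namespace Cfsg.Agent.S5617

/-- The setwise stabiliser, in the group of the length-24 code, of a complementary pair of dodecads has exactly three orbits on the 1771 sextets, of sizes 396, 495 and 880. -/
theorem result (d : Finset Cfsg.GolayPt) (hd : d ∈ Cfsg.dodecads) : ∃ X₁ ∈ Cfsg.sextets, ∃ X₂ ∈ Cfsg.sextets, ∃ X₃ ∈ Cfsg.sextets, (MulAction.orbit ↥(MulAction.stabilizer Cfsg.M24 ({d, Finset.univ \ d} : Finset (Finset Cfsg.GolayPt))) X₁).ncard = 396 ∧ (MulAction.orbit ↥(MulAction.stabilizer Cfsg.M24 ({d, Finset.univ \ d} : Finset (Finset Cfsg.GolayPt))) X₂).ncard = 495 ∧ (MulAction.orbit ↥(MulAction.stabilizer Cfsg.M24 ({d, Finset.univ \ d} : Finset (Finset Cfsg.GolayPt))) X₃).ncard = 880 ∧ Cfsg.sextets = MulAction.orbit ↥(MulAction.stabilizer Cfsg.M24 ({d, Finset.univ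 \ d} : Finset (Finset Cfsg.GolayPt))) X₁ ∪ MulAction.orbit ↥(MulAction.stabilizer Cfsg.M24 ({d, Finset.univ \ d} : Finset (Finset Cfsg.GolayPt))) X₂ ∪ MulAction.orbit ↥(MulAction.stabilizer Cfsg.M24 ({d, Finset.univ \ d} : Finset (Finset Cfsg.GolayPt))) X₃ := by
  obtain ⟨τ, hτ, rfl⟩ := Spor.exists_base_dodecad hd
  let σ : M24 := ⟨τ, hτ⟩
  have hb : Spor.confOf Spor.confDp = {Spor.ofMask Spor.baseDod, (Spor.ofMask Spor.baseDod)ᶜ} := by decide +kernel
  have e : ({τ • Spor.ofMask Spor.baseDod, Finset.univ \ τ • Spor.ofMask Spor.baseDod} : Finset (Finset GolayPt)) =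
      σ • Spor.confOf Spor.confDp := by
    rw [hb, Spor.smul_pair, ← Finset.compl_eq_univ_sdiff]; rfl
  rw [e]
  obtain ⟨g1, g2, g3⟩ := Spor.orbits_transfer σ (n := 3) (r := (fun c => Spor.confOf (Spor.orbDpSextetR.getD c []))) (fun g S h => Spor.smul_sextet g.2 h) Spor.orbDpSextet_orbits.1 Spor.orbDpSextet_orbits.2.1
  refine ⟨_, (g1 2 (by norm_num)).1, _, (g1 0 (by norm_num)).1, _, (g1 1 (by norm_num)).1, (g1 2 (by norm_num)).2, (g1 0 (by norm_num)).2, (g1 1 (by norm_num)).2, Set.Subset.antisymm (fun y hy => ?_) ?_⟩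
  · obtain ⟨c, hc, h⟩ := g3 y hy
    interval_cases c
    · left; right; exact h
    · right; exact h
    · left; left; exact h
  · exact (Set.union_subset (Set.union_subset (g2 2 (by norm_num)) (g2 0 (by norm_num))) (g2 1 (by norm_num)))


end Cfsg.Agent.S5617
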