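import Cfsg.Statements.S5619
import Cfsg.Agent.Lib.Spor.MathieuNine
import Cfsg.Agent.Lib.Spor.GolayDodecad
import Cfsg.Agent.Lib.Spor.GolaySmallCerts
import Cfsg.Agent.S1600

set_option autoImplicit false
set_option maxHeartbeats 400000
open scoped Pointwise
open Cfsg

namespace Cfsg.Agent.S5619

/-- four elements of the Mathieu group on nine points -/
def la : List ℕ := [0, 1, 2, 4, 10, 6, 15, 7, 9, 17, 3, 21, 12, 13, 20, 5, 19, 8, 16, 18, 23, 22, 11, 14]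
def lb : List ℕ := [0, 1, 2, 5, 6, 17, 8, 12, 4, 10, 15, 22, 13, 7, 14, 9, 19, 3, 16, 18, 20, 11, 21, 23]
def li : List ℕ := [0, 1, 2, 3, 5, 10, 15, 14, 6, 8, 17, 19, 23, 20, 12, 9, 11, 4, 21, 22, 13, 18, 16, 7]
def lj : List ℕ := [0, 1, 2, 3, 6, 8, 10, 11, 17, 4, 9, 12, 22, 21, 16, 5, 23, 15, 20, 14, 18, 13, 7, 19]

/-- inverse of `la` -/
def la' : List ℕ := [0, 1, 2, 10, 3, 15, 5, 7, 17, 8, 4, 22, 12, 13, 23, 6, 18, 9, 19, 16, 14, 11, 21, 20]

/-- the permutation listed by `la` -/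
def Pa : Equiv.Perm GolayPt where
  toFun p := Agent.Spor.pt (la.getD (Agent.Spor.idx p) 0)
  invFun p := Agent.Spor.pt (la'.getD (Agent.Spor.idx p) 0)
  left_inv := by decide +kernel
  right_inv := by decide +kernel

theorem lperm_a : Agent.Spor.lperm la = Pa :=
  Equiv.ext fun p => Agent.Spor.lperm_apply (by decide +kernel) p

/-- inverse of `lb` -/
def lb' : List ℕ := [0, 1, 2, 17, 8, 3, 4, 13, 6, 15, 9, 21, 7, 12, 14, 10, 18, 5, 19, 16, 20, 22, 11, 23]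

/-- the permutation listed by `lb` -/
def Pb : Equiv.Perm GolayPt where
  toFun p := Agent.Spor.pt (lb.getD (Agent.Spor.idx p) 0)
  invFun p := Agent.Spor.pt (lb'.getD (Agent.Spor.idx p) 0)
  left_inv := by decide +kernel
  right_inv := by decide +kernel

theorem lperm_b : Agent.Spor.lperm lb = Pb :=
  Equiv.ext fun p => Agent.Spor.lperm_apply (by decide +kernel) p

/-- inverse of `li` -/
def li' : List ℕ := [0, 1, 2, 3, 17, 4, 8, 23, 9, 15, 5, 16, 14, 20, 7, 6, 22, 10, 21, 11, 13, 18, 19, 12]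

/-- the permutation listed by `li` -/
def Pi : Equiv.Perm GolayPt where
  toFun p := Agent.Spor.pt (li.getD (Agent.Spor.idx p) 0)
  invFun p := Agent.Spor.pt (li'.getD (Agent.Spor.idx p) 0)
  left_inv := by decide +kernel
  right_inv := by decide +kernel

theorem lperm_i : Agent.Spor.lperm li = Pi :=
  Equiv.ext fun p => Agent.Spor.lperm_apply (by decide +kernel) p

/-- inverse of `lj` -/
def lj' : List ℕ := [0, 1, 2, 3, 9, 15, 4, 22, 5, 10, 6, 7, 11, 21, 19, 17, 14, 8, 20, 23, 18, 13, 12, 16]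

/-- the permutation listed by `lj` -/
def Pj : Equiv.Perm GolayPt where
  toFun p := Agent.Spor.pt (lj.getD (Agent.Spor.idx p) 0)
  invFun p := Agent.Spor.pt (lj'.getD (Agent.Spor.idx p) 0)
  left_inv := by decide +kernel
  right_inv := by decide +kernel

theorem lperm_j : Agent.Spor.lperm lj = Pj :=
  Equiv.ext fun p => Agent.Spor.lperm_apply (by decide +kernel) p

theorem rels :
    (Pa ^ 3 = 1) ∧
    (Pb ^ 3 = 1) ∧
    (Pa * Pb = Pb * Pa) ∧
    (Pa ≠ 1) ∧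
    (Pb ≠ 1) ∧
    (Pb ≠ Pa) ∧
    (Pb ≠ Pa ^ 2) ∧
    (Pi ^ 4 = 1) ∧
    (Pi ^ 2 ≠ 1) ∧
    (Pj ^ 2 = Pi ^ 2) ∧
    (Pj * Pi = Pi⁻¹ * Pj) ∧
    (Pj ≠ Pi) ∧
    (Pj ≠ Pi ^ 3) ∧
    (Pi * Pa * Pi⁻¹ = Pb) ∧
    (Pi * Pb * Pi⁻¹ = Pa ^ 2) ∧
    (Pj * Pa * Pj⁻¹ = Pa * Pb) ∧
    (Pj * Pb * Pj⁻¹ = Pa * Pb ^ 2) := by
  refine ⟨?_, ?_, ?_, ?_, ?_, ?_, ?_, ?_, ?_, ?_, ?_, ?_, ?_, ?_, ?_, ?_, ?_⟩ <;> decide +kernel

/-- In the group of the length-24 code, the subgroup fixing a dodecad setwise and three of its points individually (a group of order 72) has a normal Sylow 3-subgroup that is elementary abelian of order 9, and its Sylow 2-subgroups are quaternion of order 8. -/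
theorem result (d : Finset Cfsg.GolayPt) (hd : d ∈ Cfsg.dodecads) (p q r : Cfsg.GolayPt) (hp : p ∈ d) (hq : q ∈ d) (hr : r ∈ d) (hpq : p ≠ q) (hpr : p ≠ r) (hqr : q ≠ r) : (∀ Q : Sylow 3 ↥(MulAction.stabilizer Cfsg.M24 d ⊓ MulAction.stabilizer Cfsg.M24 p ⊓ MulAction.stabilizer Cfsg.M24 q ⊓ MulAction.stabilizer Cfsg.M24 r), (Q : Subgroup ↥(MulAction.stabilizer Cfsg.M24 d ⊓ MulAction.stabilizer Cfsg.M24 p ⊓ MulAction.stabilizer Cfsg.M24 q ⊓ MulAction.stabilizer Cfsg.M24 r)).Normal ∧ Nat.card ↥Q = 9 ∧ ∀ x ∈ (Q : Subgroup ↥(MulAction.stabilizer Cfsg.M24 d ⊓ MulAction.stabilizer Cfsg.M24 p ⊓ MulAction.stabilizer Cfsg.M24 q ⊓ MulAction.stabilizer Cfsg.M24 r)), x ^ 3 = 1) ∧ ∀ P : Sylow 2 ↥(MulAction.stabilizer Cfsg.M24 d ⊓ MulAction.stabilizer Cfsg.M24 p ⊓ MulAction.stabilizer Cfsg.M24 q ⊓ MulAction.stabilizer Cfsg.M24 r), Nonempty (↥P ≃* QuaternionGroup 2) := by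
  classical
  set H := MulAction.stabilizer M24 d ⊓ MulAction.stabilizer M24 p ⊓ MulAction.stabilizer M24 q ⊓ MulAction.stabilizer M24 r with hH
  have hcard : Nat.card H = 72 := (Cfsg.Agent.S1600.result d hd p q r hp hq hr hpq hpr hqr).1
  obtain ⟨τ, hτ, eτ, e0, e1, e2⟩ : ∃ τ ∈ M24, τ • Agent.Spor.ofMask Agent.Spor.baseDod = d ∧ τ (Agent.Spor.pt 0) = p ∧
      τ (Agent.Spor.pt 1) = q ∧ τ (Agent.Spor.pt 2) = r := by
    obtain ⟨σ, hσ, rfl⟩ := Agent.Spor.exists_base_dodecad hd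
    have hb3 : ∀ i : Fin 3, Agent.Spor.pt i ∈ Agent.Spor.ofMask Agent.Spor.baseDod := by decide +kernel
    have mk5 : ∀ (a b c : GolayPt), a ∈ σ • Agent.Spor.ofMask Agent.Spor.baseDod → b ∈ σ • Agent.Spor.ofMask Agent.Spor.baseDod →
        c ∈ σ • Agent.Spor.ofMask Agent.Spor.baseDod → a ≠ b → a ≠ c → b ≠ c →
        ∃ z : Fin 5 ↪ GolayPt, (∀ i, z i ∈ σ • Agent.Spor.ofMask Agent.Spor.baseDod) ∧ z 0 = a ∧ z 1 = b ∧ z 2 = c := by
      intro a b c ha hb hc hab hac hbc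
      have h9 : 1 < ((σ • Agent.Spor.ofMask Agent.Spor.baseDod) \ {a, b, c}).card := by
        have h12 := hd.2
        have h1 := Finset.card_le_card_sdiff_add_card (s := σ • Agent.Spor.ofMask Agent.Spor.baseDod) (t := {a, b, c})
        have h3 : ({a, b, c} : Finset GolayPt).card ≤ 3 := Finset.card_le_three
        omega
      obtain ⟨u, hu, v, hv, huv⟩ := Finset.one_lt_card.1 h9
      simp only [Finset.mem_sdiff, Finset.mem_insert, Finset.mem_singleton, not_or] at hu hv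
      refine ⟨⟨![a, b, c, u, v], Cfsg.Agent.S1600.vec5_injective hab hac (Ne.symm hu.2.1) (Ne.symm hv.2.1) hbc (Ne.symm hu.2.2.1)
        (Ne.symm hv.2.2.1) (Ne.symm hu.2.2.2) (Ne.symm hv.2.2.2) huv⟩, fun i => ?_, rfl, rfl, rfl⟩
      fin_cases i <;> simp [ha, hb, hc, hu.1, hv.1]
    obtain ⟨z, hz, z0, z1, z2⟩ := mk5 (σ (Agent.Spor.pt 0)) (σ (Agent.Spor.pt 1)) (σ (Agent.Spor.pt 2))
      (Finset.smul_mem_smul_finset (hb3 0)) (Finset.smul_mem_smul_finset (hb3 1)) (Finset.smul_mem_smul_finset (hb3 2))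
      (σ.injective.ne (by decide +kernel)) (σ.injective.ne (by decide +kernel)) (σ.injective.ne (by decide +kernel))
    obtain ⟨w, hw, w0, w1, w2⟩ := mk5 p q r hp hq hr hpq hpr hqr
    obtain ⟨g, hg, -⟩ := Agent.Spor.dodecad_five_trans hd z w hz hw
    refine ⟨((g : M24) : Equiv.Perm GolayPt) * σ, mul_mem (g : M24).2 hσ, ?_, ?_, ?_, ?_⟩
    · rw [mul_smul]; exact g.2
    · rw [Equiv.Perm.mul_apply, ← z0, hg 0, w0]
    · rw [Equiv.Perm.mul_apply, ← z1, hg 1, w1]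
    · rw [Equiv.Perm.mul_apply, ← z2, hg 2, w2]
  have mkel : ∀ l : List ℕ, Agent.Spor.m24ok l = true → Agent.Spor.pm l Agent.Spor.baseDod 0 = Agent.Spor.baseDod →
      l.getD 0 0 = 0 → l.getD 1 0 = 1 → l.getD 2 0 = 2 →
      ∃ g : H, ((g : M24) : Equiv.Perm GolayPt) = τ * Agent.Spor.lperm l * τ⁻¹ := by
    intro l hl hd0 h0 h1 h2
    have hlok : Agent.Spor.lok l = true := by simp only [Agent.Spor.m24ok, Bool.and_eq_true] at hl; exact hl.1
    have hfix : ∀ i, i < 3 → Agent.Spor.lperm l (Agent.Spor.pt i) = Agent.Spor.pt i := by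
      intro i hi
      rw [Agent.Spor.lperm_apply hlok, Agent.Spor.idx_pt i (by omega)]
      interval_cases i <;> simp_all
    refine ⟨⟨⟨τ * Agent.Spor.lperm l * τ⁻¹, mul_mem (mul_mem hτ (Agent.Spor.lperm_mem hl)) (inv_mem hτ)⟩, ⟨⟨⟨?_, ?_⟩, ?_⟩, ?_⟩⟩, rfl⟩
    · show (τ * Agent.Spor.lperm l * τ⁻¹) • d = d
      rw [← eτ, mul_smul, inv_smul_smul, mul_smul]
      refine congrArg (fun s : Finset GolayPt => τ • s) ?_
      apply Agent.Spor.mask_injective
      rw [Agent.Spor.mask_smul_lperm hlok, Agent.Spor.mask_ofMask Agent.Spor.baseDod_lt, hd0]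
    · show (τ * Agent.Spor.lperm l * τ⁻¹) p = p
      rw [← e0]
      show τ (Agent.Spor.lperm l (τ.symm (τ (Agent.Spor.pt 0)))) = _
      rw [Equiv.symm_apply_apply, hfix 0 (by norm_num)]
    · show (τ * Agent.Spor.lperm l * τ⁻¹) q = q
      rw [← e1]
      show τ (Agent.Spor.lperm l (τ.symm (τ (Agent.Spor.pt 1)))) = _
      rw [Equiv.symm_apply_apply, hfix 1 (by norm_num)]
    · show (τ * Agent.Spor.lperm l * τ⁻¹) r = r
      rw [← e2]
      show τ (Agent.Spor.lperm l (τ.symm (τ (Agent.Spor.pt 2)))) = _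
      rw [Equiv.symm_apply_apply, hfix 2 (by norm_num)]
  obtain ⟨a, ha⟩ := mkel la (by decide +kernel) (by decide +kernel) rfl rfl rfl
  obtain ⟨b, hb⟩ := mkel lb (by decide +kernel) (by decide +kernel) rfl rfl rfl
  obtain ⟨i, hi⟩ := mkel li (by decide +kernel) (by decide +kernel) rfl rfl rfl
  obtain ⟨j, hj⟩ := mkel lj (by decide +kernel) (by decide +kernel) rfl rfl rfl
  let ι : H →* Equiv.Perm GolayPt := M24.subtype.comp H.subtype
  have hι : Function.Injective ι := M24.subtype_injective.comp H.subtype_injective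
  let c : Equiv.Perm GolayPt →* Equiv.Perm GolayPt := (MulAut.conj τ).toMonoidHom
  have hc : Function.Injective c := (MulAut.conj τ).injective
  replace ha : ι a = c (Agent.Spor.lperm la) := ha
  replace hb : ι b = c (Agent.Spor.lperm lb) := hb
  replace hi : ι i = c (Agent.Spor.lperm li) := hi
  replace hj : ι j = c (Agent.Spor.lperm lj) := hj
  rw [lperm_a] at ha
  rw [lperm_b] at hb
  rw [lperm_i] at hi
  rw [lperm_j] at hj
  obtain ⟨R1, R2, R3, R4, R5, R6, R7, R8, R9, R10, R11, R12, R13, R14, R15, R16, R17⟩ := rels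
  have pull : ∀ {x y : H} {X Y : Equiv.Perm GolayPt}, ι x = c X → ι y = c Y → X = Y → x = y :=
    fun hx hy h => hι (by rw [hx, hy, h])
  have push : ∀ {x y : H} {X Y : Equiv.Perm GolayPt}, ι x = c X → ι y = c Y → X ≠ Y → x ≠ y :=
    fun hx hy h e => h (hc (by rw [← hx, ← hy, e]))
  have m : ∀ {x y : H} {X Y : Equiv.Perm GolayPt}, ι x = c X → ι y = c Y → ι (x * y) = c (X * Y) :=
    fun hx hy => by rw [map_mul, map_mul, hx, hy]
  have v : ∀ {x : H} {X : Equiv.Perm GolayPt}, ι x = c X → ι x⁻¹ = c X⁻¹ := fun hx => by rw [map_inv, map_inv, hx]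
  have e : ∀ {x : H} {X : Equiv.Perm GolayPt} (n : ℕ), ι x = c X → ι (x ^ n) = c (X ^ n) :=
    fun n hx => by rw [map_pow, map_pow, hx]
  have o : ι 1 = c 1 := by rw [map_one, map_one]
  exact Cfsg.Agent.Spor.NineStruct.structure_nine hcard (pull (e 3 ha) o R1) (pull (e 3 hb) o R2)
    (pull (m ha hb) (m hb ha) R3) (push ha o R4) (push hb o R5) (push hb ha R6) (push hb (e 2 ha) R7)
    (pull (e 4 hi) o R8) (push (e 2 hi) o R9) (pull (e 2 hj) (e 2 hi) R10) (pull (m hj hi) (m (v hi) hj) R11)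
    (push hj hi R12) (push hj (e 3 hi) R13) (pull (m (m hi ha) (v hi)) hb R14)
    (pull (m (m hi hb) (v hi)) (e 2 ha) R15) (pull (m (m hj ha) (v hj)) (m ha hb) R16)
    (pull (m (m hj hb) (v hj)) (m ha (e 2 hb)) R17)

end Cfsg.Agent.S5619
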