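import Cfsg.Statements.S5620
import Cfsg.Agent.Lib.Spor.GolayDodecad
import Cfsg.Agent.S1600

set_option autoImplicit false
open scoped Pointwise
open Cfsg

namespace Cfsg.Agent.S5620

/-- Inside the stabiliser of the dodecad of squares (a Mathieu group of degree 12), the stabiliser of the residue 0 (a point of the dodecad) and the stabiliser of the extra point (a point outside the dodecad) are isomorphic but not conjugate; conjugation by a suitable element of the code's group that maps the dodecad of squares onto its complement carries the first onto the second. -/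
theorem result : Nonempty (↥(Cfsg.Spor.M12 ⊓ MulAction.stabilizer (Equiv.Perm Cfsg.GolayPt) (none : Cfsg.GolayPt)) ≃* ↥Cfsg.Spor.M11) ∧ (¬ ∃ k ∈ Cfsg.Spor.M12, MulAut.conj k • Cfsg.Spor.M11 = Cfsg.Spor.M12 ⊓ MulAction.stabilizer (Equiv.Perm Cfsg.GolayPt) (none : Cfsg.GolayPt)) ∧ ∃ g ∈ Cfsg.M24, g • Cfsg.Spor.squareDodecad = Finset.univ \ Cfsg.Spor.squareDodecad ∧ MulAut.conj g • Cfsg.Spor.M11 = Cfsg.Spor.M12 ⊓ MulAction.stabilizer (Equiv.Perm Cfsg.GolayPt) (none : Cfsg.GolayPt) := by
  classical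
  have hs : Spor.squareDodecad ∈ dodecads := by rw [Cfsg.Agent.Spor.mem_dodecads]; decide +kernel
  have hc : Finset.univ \ Spor.squareDodecad ∈ dodecads := by rw [Cfsg.Agent.Spor.mem_dodecads]; decide +kernel
  have hn : (none : GolayPt) ∈ Finset.univ \ Spor.squareDodecad := by decide +kernel
  have h0 : (some 0 : GolayPt) ∈ Spor.squareDodecad := by decide +kernel
  have one_trans : ∀ d ∈ dodecads, ∀ a ∈ d, ∀ b ∈ d, ∃ g ∈ M24, g • d = d ∧ g a = b := by
    intro d hd a ha b hb
    obtain ⟨e⟩ : Nonempty (Fin 5 ↪ d) := Function.Embedding.nonempty_of_card_le (by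
      rw [Fintype.card_fin, Fintype.card_coe, hd.2]; norm_num)
    obtain ⟨g, hg, -⟩ := Cfsg.Agent.Spor.dodecad_five_trans hd
      ((e.trans (Equiv.swap (e 0) ⟨a, ha⟩).toEmbedding).trans (Function.Embedding.subtype _))
      ((e.trans (Equiv.swap (e 0) ⟨b, hb⟩).toEmbedding).trans (Function.Embedding.subtype _))
      (fun i => Subtype.prop _) (fun i => Subtype.prop _)
    refine ⟨(g : M24), (g : M24).2, g.2, ?_⟩
    have h := hg 0
    simp only [Function.Embedding.trans_apply, Equiv.coe_toEmbedding, Equiv.swap_apply_left,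
      Function.Embedding.coe_subtype] at h
    exact h
  obtain ⟨σ, hσ, eσ⟩ := Cfsg.Agent.Spor.dodecad_trans hs hc
  obtain ⟨τ, hτ, eτ, hτn⟩ := one_trans _ hc (σ (some 0))
    (by rw [← eσ]; exact Finset.smul_mem_smul_finset h0) none hn
  set g := τ * σ with hg
  have hgM : g ∈ M24 := mul_mem hτ hσ
  have hgd : g • Spor.squareDodecad = Finset.univ \ Spor.squareDodecad := by rw [hg, mul_smul, eσ, eτ]
  have hg0 : g (some 0) = none := by rw [hg, Equiv.Perm.mul_apply, hτn]
  have hcompl : ∀ h : Equiv.Perm GolayPt, h • (Finset.univ \ Spor.squareDodecad) = Finset.univ \ Spor.squareDodecad ↔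
      h • Spor.squareDodecad = Spor.squareDodecad := by
    intro h
    rw [Finset.smul_finset_sdiff, Finset.smul_finset_univ]
    constructor
    · intro e
      have := congrArg (fun z => Finset.univ \ z) e
      simpa [Finset.sdiff_sdiff_eq_self] using this
    · intro e; rw [e]
  have hmem : ∀ (k : Equiv.Perm GolayPt), k ∈ M24 → ∀ x : Equiv.Perm GolayPt, x ∈ MulAut.conj k • Spor.M11 ↔
      x ∈ M24 ∧ x • k • Spor.squareDodecad = k • Spor.squareDodecad ∧ x (k (some 0)) = k (some 0) := by
    intro k hk x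
    rw [Subgroup.mem_pointwise_smul_iff_inv_smul_mem, ← map_inv, MulAut.smul_def, MulAut.conj_apply, inv_inv]
    constructor
    · rintro ⟨⟨h1, h2⟩, h3⟩
      refine ⟨?_, ?_, ?_⟩
      · have := mul_mem (mul_mem hk h1) (inv_mem hk)
        simpa [mul_assoc] using this
      · have h2' : (k⁻¹ * x * k) • Spor.squareDodecad = Spor.squareDodecad := h2
        rw [mul_smul, mul_smul, inv_smul_eq_iff] at h2'
        exact h2'
      · have h3' : (k⁻¹ * x * k) (some 0) = some 0 := h3
        rw [Equiv.Perm.mul_apply, Equiv.Perm.mul_apply] at h3'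
        have := congrArg k h3'
        simpa using this
    · rintro ⟨h1, h2, h3⟩
      refine ⟨⟨(show k⁻¹ * x * k ∈ M24 from mul_mem (mul_mem (inv_mem hk) h1) hk), ?_⟩, ?_⟩
      · show (k⁻¹ * x * k) • Spor.squareDodecad = Spor.squareDodecad
        rw [mul_smul, mul_smul, h2, inv_smul_smul]
      · show (k⁻¹ * x * k) (some 0) = some 0
        rw [Equiv.Perm.mul_apply, Equiv.Perm.mul_apply, h3]
        simp
  have heq : MulAut.conj g • Spor.M11 = Spor.M12 ⊓ MulAction.stabilizer (Equiv.Perm GolayPt) (none : GolayPt) := by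
    ext x
    rw [hmem g hgM, hgd, hg0, hcompl]
    exact ⟨fun ⟨a, b, c⟩ => ⟨⟨a, b⟩, c⟩, fun ⟨⟨a, b⟩, c⟩ => ⟨a, b, c⟩⟩
  refine ⟨⟨?_⟩, ?_, g, hgM, hgd, heq⟩
  · exact ((Subgroup.equivSMul (MulAut.conj g) Spor.M11).trans (MulEquiv.subgroupCongr heq)).symm
  · rintro ⟨k, ⟨hk, hkd⟩, he⟩
    have hkd' : k • Spor.squareDodecad = Spor.squareDodecad := hkd
    have hp : k (some 0) ∈ Spor.squareDodecad := by
      have := Finset.smul_mem_smul_finset (a := k) h0
      rw [hkd'] at this
      exact this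
    obtain ⟨q, hq, hqp⟩ := Finset.exists_mem_ne (show 1 < Spor.squareDodecad.card by rw [hs.2]; norm_num) (k (some 0))
    obtain ⟨r, hr⟩ := Finset.card_pos.1 (show 0 < ((Spor.squareDodecad.erase (k (some 0))).erase q).card by
      have h1 := Finset.pred_card_le_card_erase (s := Spor.squareDodecad.erase (k (some 0))) (a := q)
      have h2 := Finset.pred_card_le_card_erase (s := Spor.squareDodecad) (a := k (some 0))
      have h3 := hs.2
      omega)
    simp only [Finset.mem_erase] at hr
    obtain ⟨y, hy, hyn⟩ := Finset.exists_mem_ne (show 1 < (Finset.univ \ Spor.squareDodecad).card by rw [hc.2]; norm_num) (none : GolayPt)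
    obtain ⟨x, ⟨⟨⟨hxd, hxp⟩, -⟩, -⟩, hxn⟩ := (Cfsg.Agent.S1600.result _ hs (k (some 0)) q r hp hq hr.2.2 hqp.symm
      (Ne.symm hr.2.1) (Ne.symm hr.1)).2 none (by simpa using hn) y (by simpa using hy)
    have hx : (x : Equiv.Perm GolayPt) ∈ MulAut.conj k • Spor.M11 := by
      rw [hmem k hk, hkd']
      exact ⟨x.2, hxd, hxp⟩
    rw [he] at hx
    exact hyn (hxn.symm.trans hx.2)


end Cfsg.Agent.S5620
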