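import Cfsg.Statements.S5628
import Cfsg.Agent.Lib.Spor.HyperovalCount
import Cfsg.Agent.Lib.Spor.SteinerUnique

set_option autoImplicit false
open Cfsg
open scoped Pointwise

namespace Cfsg.Agent.S5628

/-- In a projective plane of order 4 (a Steiner system S(2, 5, 21)), every permutation of the six points of a hyperoval (a 6-set met by no line in more than two points) is the restriction of exactly one automorphism of the plane. In particular the stabiliser of a hyperoval in the automorphism group is isomorphic to the symmetric group of degree 6 acting faithfully on the hyperoval. -/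
theorem result {α : Type*} [Fintype α] [DecidableEq α] (hα : Fintype.card α = 21) (L : Set (Finset α)) (hL : Cfsg.IsSteinerSystem 2 5 L) (H : Finset α) (hH : (H.card = 6 ∧ ∀ l ∈ L, (l ∩ H).card ≤ 2)) (σ : Equiv.Perm ↥H) : ∃! g : Equiv.Perm α, g ∈ Cfsg.setSystemAut L ∧ ∀ p : ↥H, g p = σ p := by
  classical
  obtain ⟨F, rfl⟩ := Cfsg.Agent.Spor.Steiner.exists_finset L
  obtain ⟨g, ⟨hg, hgσ⟩, hu⟩ := Cfsg.Agent.Spor.PlaneFour.hyperoval_extend hα hL hH.1 hH.2 σ
  refine ⟨g, ⟨Cfsg.Agent.Spor.Code24.mem_setSystemAut fun l hl => (hg l).1 hl, hgσ⟩, fun g' hg' => ?_⟩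
  refine hu g' ⟨fun l => ⟨fun hl => ?_, fun hl => ?_⟩, hg'.2⟩
  · exact Finset.mem_coe.1 ((MulAction.mem_stabilizer_iff.1 hg'.1).le ⟨l, hl, rfl⟩)
  · obtain ⟨m, hm, e⟩ := (MulAction.mem_stabilizer_iff.1 hg'.1).ge (Finset.mem_coe.2 hl)
    rwa [← Finset.image_injective g'.injective e]


end Cfsg.Agent.S5628
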