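import Cfsg.Statements.S5634
import Cfsg.Agent.Lib.Classical.DecompCoords
import Cfsg.Agent.Lib.Classical.LinMonomialOver

set_option autoImplicit false
open Cfsg

namespace Cfsg.Agent.S5634

/-- For a finite field F with q elements and n ≥ 13, let D be a decomposition of F^n into t ≥ 2 independent subspaces of equal dimension m ≥ 1 spanning F^n. Unless m = 1 and q ≤ 4, or m = 2 and q = 2, the elements of SL_n(F) permuting the members of D form a maximal subgroup of SL_n(F). -/
theorem result {F : Type*} [Field F] [Fintype F] (n : ℕ) (hn : 13 ≤ n) {t : ℕ} (m : ℕ) (D : Fin t → Submodule F (Fin n → F)) (hD : Cfsg.Geo.IsMDecomposition m D) (h1 : ¬ (m = 1 ∧ Fintype.card F ≤ 4)) (h2 : ¬ (m = 2 ∧ Fintype.card F = 2)) : Cfsg.Geo.IsMaximalIn (Cfsg.Geo.specialLinear (Fin n) F) (Cfsg.Geo.decompositionStabilizer D ⊓ Cfsg.Geo.specialLinear (Fin n) F) := by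
  classical
  obtain ⟨e, B, he⟩ := Cfsg.Agent.Classical.LImp.exists_coords hD
  have hnt : n = t * m := by simpa using Fintype.card_congr e
  have ht2 := hD.two_le
  have hm0 := hD.pos
  haveI : Nonempty (Fin m) := ⟨⟨0, hm0⟩⟩
  haveI : Nontrivial (Fin n) := Fin.nontrivial_iff_two_le.mpr (by omega)
  have hsl := Cfsg.Agent.Classical.specialLinear_normal (ι := Fin n) (F := F)
  have hconj : ∀ x : Matrix.GeneralLinearGroup (Fin n) F, B⁻¹ * (B * x * B⁻¹) * B = x := fun x => by group
  have hconj' : ∀ x : Matrix.GeneralLinearGroup (Fin n) F, B * (B⁻¹ * x * B) * B⁻¹ = x := fun x => by group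
  refine ⟨lt_of_le_of_ne inf_le_right fun hEq => ?_, fun K hHK hKS => or_iff_not_imp_left.mpr fun hne =>
    le_antisymm hKS fun z hz => ?_⟩
  · -- the stabiliser is proper
    obtain ⟨k, k', hkk⟩ := Fintype.exists_pair_of_one_lt_card (α := Fin t) (by rw [Fintype.card_fin]; omega)
    obtain ⟨p, hp⟩ : ∃ p, (e p).1 = k := ⟨e.symm (k, ⟨0, hm0⟩), by simp⟩
    obtain ⟨q, hq⟩ : ∃ q, (e q).1 = k' := ⟨e.symm (k', ⟨0, hm0⟩), by simp⟩
    have hpq : p ≠ q := by
      rintro rfl
      exact hkk (hp.symm.trans hq)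
    have hx := hsl.conj_mem _ (Cfsg.Agent.Classical.transGL_mem hpq (1 : F)) B
    rw [← hEq] at hx
    have hB := (he _).mp hx.1
    rw [hconj] at hB
    obtain ⟨σ, hσ⟩ := hB
    have h1 : (e q).1 = σ (e q).1 := by_contra fun h => by
      simpa [Cfsg.Agent.Classical.transGL_coe, Matrix.transvection, Matrix.single, hpq, hpq.symm] using hσ q q h
    have h2 : (e p).1 = σ (e q).1 := by_contra fun h => by
      simpa [Cfsg.Agent.Classical.transGL_coe, Matrix.transvection, Matrix.single, hpq, hpq.symm] using hσ p q h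
    exact hkk (hp ▸ hq ▸ h2.trans h1.symm)
  -- an element outside
  obtain ⟨g, hgK, hgH⟩ : ∃ g ∈ K, g ∉ Cfsg.Geo.decompositionStabilizer D ⊓ Cfsg.Geo.specialLinear (Fin n) F := by
    by_contra hcon
    push Not at hcon
    exact hne (le_antisymm hcon hHK)
  have hnb : ¬ Cfsg.Agent.Classical.LImp.BM e ((B⁻¹ * g * B : Matrix.GeneralLinearGroup (Fin n) F) :
      Matrix (Fin n) (Fin n) F) := fun h => hgH ⟨(he g).mpr h, hKS hgK⟩
  let K' := K.comap (MulAut.conj B).toMonoidHom
  have hK' : ∀ x, x ∈ K' ↔ B * x * B⁻¹ ∈ K := fun x => Iff.rfl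
  have hgK' : B⁻¹ * g * B ∈ K' := (hK' _).mpr (by rwa [hconj'])
  have hK'S : K' ≤ Cfsg.Geo.specialLinear (Fin n) F := fun x hx => by
    have := hsl.conj_mem _ (hKS ((hK' x).mp hx)) B⁻¹
    rwa [inv_inv, hconj] at this
  have hblk : ∀ x : Matrix.GeneralLinearGroup (Fin n) F, x ∈ Cfsg.Geo.specialLinear (Fin n) F →
      Cfsg.Agent.Classical.LImp.BM e (x : Matrix (Fin n) (Fin n) F) → x ∈ K' := fun x hx hb =>
    (hK' x).mpr (hHK ⟨(he _).mpr (by rwa [hconj]), hsl.conj_mem _ hx B⟩)
  suffices hle : Cfsg.Geo.specialLinear (Fin n) F ≤ K' by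
    have := hsl.conj_mem _ hz B⁻¹
    rw [inv_inv] at this
    have h' := (hK' _).mp (hle this)
    rwa [hconj'] at h'
  rcases eq_or_ne m 1 with hm | hm
  · -- lines
    subst hm
    let e' : Fin n ≃ Fin t := e.trans (Equiv.prodUnique (Fin t) (Fin 1))
    have he' : ∀ p, (e p).1 = e' p := fun p => rfl
    have bm : ∀ x : Matrix.GeneralLinearGroup (Fin n) F, Cfsg.Agent.Classical.LMon.IsMon (x : Matrix (Fin n) (Fin n) F) →
        Cfsg.Agent.Classical.LImp.BM e (x : Matrix (Fin n) (Fin n) F) := fun x hx => by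
      obtain ⟨σ, hσ⟩ := Cfsg.Agent.Classical.LMon.mon_perm hx
      refine ⟨(e'.symm.trans σ).trans e', fun p q hpq => ((hσ q).2 p ?_).1⟩
      rintro rfl
      exact hpq (by simp [he'])
    refine Cfsg.Agent.Classical.LMon.sl_le ⟨hK'S, fun x hx hmx => hblk x hx (bm x hmx), ?_, ?_⟩ hgK'
      fun h => hnb (bm _ h)
    · rw [Fintype.card_fin]; omega
    · by_contra hF
      exact h1 ⟨rfl, by omega⟩
  · -- subspaces
    refine Cfsg.Agent.Classical.LImp.sl_le (e := e) ⟨hK'S, hblk, fun p => ?_, fun p q hpq hb => ?_⟩ hgK' hnb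
    · haveI : Nontrivial (Fin m) := Fin.nontrivial_iff_two_le.mpr (by omega)
      obtain ⟨j, hj⟩ := exists_ne (e p).2
      exact ⟨e.symm ((e p).1, j), fun h => hj (by rw [← h, Equiv.apply_symm_apply]), by simp⟩
    · rcases Nat.lt_or_ge 2 m with hm3 | hm3
      · obtain ⟨j, hj⟩ := Finset.exists_mem_notMem_of_card_lt_card
          (s := ({(e p).2, (e q).2} : Finset (Fin m))) (t := Finset.univ)
          (lt_of_le_of_lt Finset.card_le_two (by rwa [Finset.card_univ, Fintype.card_fin]))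
        simp only [Finset.mem_insert, Finset.mem_singleton, not_or] at hj
        exact Or.inl ⟨e.symm ((e p).1, j), fun h => hj.2.1 (by rw [← h, Equiv.apply_symm_apply]),
          fun h => hj.2.2 (by rw [← h, Equiv.apply_symm_apply]), by simp⟩
      · have hm2 : m = 2 := by omega
        subst hm2
        refine Or.inr ⟨?_, by rw [Fintype.card_fin]; omega⟩
        by_contra hcon
        push Not at hcon
        refine h2 ⟨rfl, le_antisymm ?_ Fintype.one_lt_card⟩
        refine (Finset.card_le_card (show (Finset.univ : Finset F) ⊆ {0, 1} from fun x _ => ?_)).trans Finset.card_le_two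
        by_cases h0 : x = 0
        · simp [h0]
        · simp [hcon x h0]

end Cfsg.Agent.S5634
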