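import Cfsg.Statements.S5635
import Cfsg.Agent.Lib.Classical.LinSmallField
import Cfsg.Agent.Lib.Classical.SubspaceMaximal
import Cfsg.Agent.Lib.Classical.FixCodim

set_option autoImplicit false
open Cfsg

namespace Cfsg.Agent.S5635

open Cfsg.Geo Matrix Cfsg.Agent.Classical

theorem monomial_case {F : Type*} [Field F] [Fintype F] (hq : Fintype.card F ≤ 4) {ι : Type} [Fintype ι] [DecidableEq ι]
    (h8 : 8 ≤ Fintype.card ι) (D : Fin (Fintype.card ι) → Submodule F (ι → F)) (hD : IsMDecomposition 1 D) :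
    ∃ K : Subgroup (GL ι F), decompositionStabilizer D ⊓ specialLinear ι F < K ∧ K < specialLinear ι F := by
  classical
  obtain ⟨B, ε, -, hmon⟩ := exists_monomial_coords hD
  obtain ⟨σ, hσ, h6, h24⟩ : ∃ σ : F ≃+* F, (∀ a : F, a ≠ 0 → a * σ a = 1) ∧ (6 : F) = 0 ∧ (24 : F) = 0 := by
    have h1 : 1 < Fintype.card F := Fintype.one_lt_card
    have hc := FiniteField.cast_card_eq_zero F
    have hpow := fun a ha => FiniteField.pow_card_sub_one_eq_one (K := F) a ha
    obtain h | h | h : Fintype.card F = 2 ∨ Fintype.card F = 3 ∨ Fintype.card F = 4 := by omega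
    · simp only [h] at hc hpow
      norm_num at hc
      refine ⟨RingEquiv.refl F, fun a ha => ?_, by linear_combination (3 : F) * hc, by linear_combination (12 : F) * hc⟩
      have := hpow a ha
      simp at this ⊢
      rw [this]; exact one_mul 1
    · simp only [h] at hc hpow
      norm_num at hc
      refine ⟨RingEquiv.refl F, fun a ha => ?_, by linear_combination (2 : F) * hc, by linear_combination (8 : F) * hc⟩
      simpa [sq] using hpow a ha
    · simp only [h] at hc hpow
      norm_num at hc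
      have h2 : (2 : F) = 0 := by
        have : (2 : F) * 2 = 0 := by linear_combination hc
        exact mul_self_eq_zero.mp this
      haveI : CharP F 2 := by
        obtain ⟨p, hp⟩ := CharP.exists F
        obtain ⟨_, hpp, -⟩ := FiniteField.card F p
        have : p ∣ 2 := (CharP.cast_eq_zero_iff F p 2).mp (by exact_mod_cast h2)
        rwa [(Nat.prime_dvd_prime_iff_eq hpp Nat.prime_two).mp this] at hp
      haveI : Fact (Nat.Prime 2) := ⟨Nat.prime_two⟩
      refine ⟨frobeniusEquiv F 2, fun a ha => ?_, by linear_combination (3 : F) * h2, by linear_combination (12 : F) * h2⟩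
      change a * a ^ 2 = 1
      rw [← pow_succ']
      exact hpow a ha
  let f : (ι → F) → (ι → F) → F := fun u v => ∑ i, ((B : Matrix ι ι F) *ᵥ u) i * σ (((B : Matrix ι ι F) *ᵥ v) i)
  refine ⟨preserving (Units.coeHom (Matrix ι ι F)) f ⊓ specialLinear ι F, ?_, ?_⟩
  · have hle : decompositionStabilizer D ⊓ specialLinear ι F ≤ preserving (Units.coeHom (Matrix ι ι F)) f ⊓ specialLinear ι F := by
      refine inf_le_inf_right _ fun g hg => ?_
      obtain ⟨π, a, ha, hπ⟩ := hmon g hg
      intro u v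
      change ∑ i, _ = ∑ i, _
      rw [← Equiv.sum_comp π]
      refine Finset.sum_congr rfl fun i _ => ?_
      change ((B : Matrix ι ι F) *ᵥ ((g : Matrix ι ι F) *ᵥ u)) (π i) * σ (((B : Matrix ι ι F) *ᵥ ((g : Matrix ι ι F) *ᵥ v)) (π i)) = _
      rw [hπ, hπ, map_mul]
      linear_combination (((B : Matrix ι ι F) *ᵥ u) i * σ (((B : Matrix ι ι F) *ᵥ v) i)) * hσ (a i) (ha i)
    refine lt_of_le_not_ge hle fun h => ?_
    obtain ⟨emb⟩ := Function.Embedding.nonempty_of_card_le (α := Fin 8) (β := ι) (by simpa using h8)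
    let S : Finset ι := (Finset.univ.filter fun a : Fin 8 => a.1 < 4).map emb
    let T : Finset ι := (Finset.univ.filter fun a : Fin 8 => 4 ≤ a.1).map emb
    let s : ι → F := fun i => if i ∈ S then 1 else 0
    let t : ι → F := fun i => if i ∈ T then 1 else 0
    have hST : ∀ i, i ∈ S → i ∈ T → False := by
      intro i hiS hiT
      obtain ⟨a, ha, rfl⟩ := Finset.mem_map.mp hiS
      obtain ⟨b, hb, hab⟩ := Finset.mem_map.mp hiT
      simp only [Finset.mem_filter, Finset.mem_univ, true_and] at ha hb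
      rw [emb.injective hab] at hb
      omega
    have hts : t ⬝ᵥ s = 0 := Finset.sum_eq_zero fun i _ => by
      by_cases hi : i ∈ S
      · have : i ∉ T := fun h' => hST i hi h'
        simp [t, this]
      · simp [s, hi]
    have hst : s ⬝ᵥ t = 0 := by rw [dotProduct_comm]; exact hts
    have hcS : S.card = 4 := by simp only [S, Finset.card_map]; decide
    have hcT : T.card = 4 := by simp only [T, Finset.card_map]; decide
    have hss : s ⬝ᵥ s = 4 := by simp [dotProduct, s, hcS]
    have htt : t ⬝ᵥ t = 4 := by simp [dotProduct, t, hcT]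
    let M : Matrix ι ι F := (1 + Matrix.vecMulVec s s) * (1 + Matrix.vecMulVec t t)
    have hdet : M.det = 1 := by
      rw [Matrix.det_mul, Matrix.vecMulVec_eq Unit, Matrix.vecMulVec_eq Unit,
        Matrix.det_one_add_replicateCol_mul_replicateRow, Matrix.det_one_add_replicateCol_mul_replicateRow, hss, htt]
      linear_combination h24
    have hMv : ∀ x, M *ᵥ x = x + (s ⬝ᵥ x) • s + (t ⬝ᵥ x) • t := fun x => by
      simp only [M, ← Matrix.mulVec_mulVec, Matrix.add_mulVec, Matrix.one_mulVec, Matrix.vecMulVec_mulVec,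
        dotProduct_add, dotProduct_smul, op_smul_eq_smul, hst, smul_zero, add_zero]
      abel
    let w : GL ι F := B⁻¹ * Matrix.GeneralLinearGroup.mkOfDetNeZero M (by rw [hdet]; exact one_ne_zero) * B
    have hBw : ∀ x, (B : Matrix ι ι F) *ᵥ ((w : Matrix ι ι F) *ᵥ x) = M *ᵥ ((B : Matrix ι ι F) *ᵥ x) := fun x => by
      rw [gl_mul_mulVec, gl_mul_mulVec, gl_mulVec_inv_cancel]; rfl
    have hwSL : w ∈ specialLinear ι F := by
      have h1 : Matrix.GeneralLinearGroup.mkOfDetNeZero M (by rw [hdet]; exact one_ne_zero) ∈ specialLinear ι F :=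
        mem_specialLinear_iff.mpr hdet
      have h2 := (specialLinear_normal (ι := ι) (F := F)).conj_mem _ h1 B⁻¹
      rwa [inv_inv] at h2
    have hwf : w ∈ preserving (Units.coeHom (Matrix ι ι F)) f := by
      intro u v
      change ∑ i, ((B : Matrix ι ι F) *ᵥ ((w : Matrix ι ι F) *ᵥ u)) i * σ (((B : Matrix ι ι F) *ᵥ ((w : Matrix ι ι F) *ᵥ v)) i) = ∑ i, _
      rw [hBw, hBw, hMv, hMv]
      set x := (B : Matrix ι ι F) *ᵥ u
      set y := (B : Matrix ι ι F) *ᵥ v
      have hσs : ∀ i, σ (s i) = s i := fun i => by by_cases h : i ∈ S <;> simp [s, h]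
      have hσt : ∀ i, σ (t i) = t i := fun i => by by_cases h : i ∈ T <;> simp [t, h]
      have e1 : ∑ i, s i * σ (y i) = σ (s ⬝ᵥ y) := by simp [dotProduct, map_sum, hσs]
      have e2 : ∑ i, t i * σ (y i) = σ (t ⬝ᵥ y) := by simp [dotProduct, map_sum, hσt]
      calc ∑ i, (x + (s ⬝ᵥ x) • s + (t ⬝ᵥ x) • t) i * σ ((y + (s ⬝ᵥ y) • s + (t ⬝ᵥ y) • t) i)
          = ∑ i, x i * σ (y i) + σ (s ⬝ᵥ y) * (∑ i, s i * x i) + σ (t ⬝ᵥ y) * (∑ i, t i * x i)
            + (s ⬝ᵥ x) * (∑ i, s i * σ (y i)) + (t ⬝ᵥ x) * (∑ i, t i * σ (y i))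
            + (s ⬝ᵥ x) * σ (s ⬝ᵥ y) * (∑ i, s i * s i) + (t ⬝ᵥ x) * σ (t ⬝ᵥ y) * (∑ i, t i * t i)
            + (s ⬝ᵥ x) * σ (t ⬝ᵥ y) * (∑ i, s i * t i) + (t ⬝ᵥ x) * σ (s ⬝ᵥ y) * (∑ i, t i * s i) := by
            simp only [Finset.mul_sum, ← Finset.sum_add_distrib]
            refine Finset.sum_congr rfl fun i _ => ?_
            simp only [Pi.add_apply, Pi.smul_apply, smul_eq_mul, map_add, map_mul, hσs, hσt]
            ring
        _ = _ := by
            rw [e1, e2]
            change ∑ i, x i * σ (y i) + σ (s ⬝ᵥ y) * (s ⬝ᵥ x) + σ (t ⬝ᵥ y) * (t ⬝ᵥ x)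
              + (s ⬝ᵥ x) * σ (s ⬝ᵥ y) + (t ⬝ᵥ x) * σ (t ⬝ᵥ y) + (s ⬝ᵥ x) * σ (s ⬝ᵥ y) * (s ⬝ᵥ s)
              + (t ⬝ᵥ x) * σ (t ⬝ᵥ y) * (t ⬝ᵥ t) + (s ⬝ᵥ x) * σ (t ⬝ᵥ y) * (s ⬝ᵥ t)
              + (t ⬝ᵥ x) * σ (s ⬝ᵥ y) * (t ⬝ᵥ s) = _
            rw [hss, htt, hst, hts]
            linear_combination ((s ⬝ᵥ x) * σ (s ⬝ᵥ y) + (t ⬝ᵥ x) * σ (t ⬝ᵥ y)) * h6
    obtain ⟨π, a, -, hπ⟩ := hmon w (h ⟨hwf, hwSL⟩).1
    have key := hπ (((B⁻¹ : GL ι F) : Matrix ι ι F) *ᵥ Pi.single (emb 0) 1)
    simp only [hBw, gl_mulVec_inv_cancel, hMv] at key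
    have hk : ∀ b : Fin 8, b.1 < 4 → b ≠ 0 → π.symm (emb b) = emb 0 := by
      intro b hb hb0
      by_contra hne
      have := key (π.symm (emb b))
      rw [Equiv.apply_symm_apply, Pi.single_eq_of_ne hne, mul_zero] at this
      have hbS : emb b ∈ S := Finset.mem_map_of_mem _ (by simp [hb])
      have h0S : emb 0 ∈ S := Finset.mem_map_of_mem _ (by simp)
      have hbT : emb b ∉ T := fun h' => hST _ hbS h'
      have h0T : emb 0 ∉ T := fun h' => hST _ h0S h'
      simp [s, t, dotProduct_single, hbS, h0S, hbT, h0T, Pi.single_eq_of_ne (emb.injective.ne hb0)] at this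
    have := π.symm.injective ((hk 1 (by decide) (by decide)).trans (hk 2 (by decide) (by decide)).symm)
    exact absurd (emb.injective this) (by decide)
  · refine lt_of_le_not_ge inf_le_right fun h => ?_
    obtain ⟨i, j, hij⟩ := Fintype.one_lt_card_iff.mp (show 1 < Fintype.card ι by omega)
    let w : GL ι F := B⁻¹ * transGL hij 1 * B
    have hwSL : w ∈ specialLinear ι F := by
      have h2 := (specialLinear_normal (ι := ι) (F := F)).conj_mem _ (transGL_mem hij (1 : F)) B⁻¹
      rwa [inv_inv] at h2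
    have := (h hwSL).1 (((B⁻¹ : GL ι F) : Matrix ι ι F) *ᵥ Pi.single j 1) (((B⁻¹ : GL ι F) : Matrix ι ι F) *ᵥ Pi.single j 1)
    change ∑ k, _ = ∑ k, _ at this
    simp only [w, Units.coeHom_apply, gl_mul_mulVec, gl_mulVec_inv_cancel, transGL_mulVec, Pi.single_eq_same, one_mul] at this
    rw [Fintype.sum_eq_add i j hij (fun k hk => by simp [hk.1, hk.2]), Finset.sum_eq_single j (fun k _ hk => by simp [hk]) (by simp)] at this
    simp [hij, hij.symm] at this

/-- For a finite field F with q elements and n ≥ 13, let D be a decomposition of F^n into t ≥ 2 independent subspaces of equal dimension m spanning F^n, where m = 1 and q ≤ 4, or m = 2 and q = 2. Then the elements of SL_n(F) permuting the members of D form a subgroup that is not maximal: some subgroup lies strictly between it and SL_n(F). -/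
theorem result {F : Type*} [Field F] [Fintype F] (n : ℕ) (hn : 13 ≤ n) {t : ℕ} (m : ℕ) (D : Fin t → Submodule F (Fin n → F)) (hD : Cfsg.Geo.IsMDecomposition m D) (h : (m = 1 ∧ Fintype.card F ≤ 4) ∨ (m = 2 ∧ Fintype.card F = 2)) : ∃ K : Subgroup (Matrix.GeneralLinearGroup (Fin n) F), Cfsg.Geo.decompositionStabilizer D ⊓ Cfsg.Geo.specialLinear (Fin n) F < K ∧ K < Cfsg.Geo.specialLinear (Fin n) F := by
  classical
  have hcard := IsMDecomposition.card_eq hD
  rw [Fintype.card_fin] at hcard
  rcases h with ⟨rfl, hq⟩ | ⟨rfl, hq⟩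
  · obtain rfl : t = Fintype.card (Fin n) := by rw [Fintype.card_fin]; omega
    exact monomial_case hq (by rw [Fintype.card_fin]; omega) D hD
  · obtain ⟨f, hf, hle⟩ := planes_small hD (Or.inl hq)
    refine ⟨similarityGroup f ⊓ specialLinear (Fin n) F, lt_of_le_not_ge (le_inf hle inf_le_right) fun hge => ?_, ?_⟩
    · obtain ⟨hb, hskew, halt, hnd⟩ := hf
      obtain ⟨i, j, hij⟩ : ∃ i j : Fin t, i ≠ j := ⟨⟨0, by omega⟩, ⟨1, by omega⟩, by simp⟩
      have hne : ∀ l, D l ≠ ⊥ := fun l hl => by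
        have := hD.finrank_eq l
        rw [hl, finrank_bot] at this
        omega
      obtain ⟨a, ha, ha0⟩ := (D i).exists_mem_ne_zero_of_ne_bot (hne i)
      obtain ⟨b, hb', hb0⟩ := (D j).exists_mem_ne_zero_of_ne_bot (hne j)
      have hv : ∀ l, a + b ∉ D l := by
        intro l hl
        by_cases hli : l = i
        · subst hli
          have : b ∈ D l := by simpa using (D l).sub_mem hl ha
          exact hb0 (Submodule.disjoint_def.mp (hD.indep.pairwiseDisjoint hij) b this hb')
        · have h1 : a ∈ ⨆ (k) (_ : k ≠ i), D k := by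
            have := Submodule.sub_mem _ (le_iSup₂ (f := fun k (_ : k ≠ i) => D k) l hli hl)
              (le_iSup₂ (f := fun k (_ : k ≠ i) => D k) j hij.symm hb')
            simpa using this
          exact ha0 (Submodule.disjoint_def.mp (hD.indep i) a ha h1)
      have hv0 : a + b ≠ 0 := fun h0 => hv i (h0 ▸ (D i).zero_mem)
      obtain ⟨x, hx⟩ := (hnd _ hv0).1
      obtain ⟨l, y, hy, hfy⟩ : ∃ l, ∃ y ∈ D l, f y (a + b) ≠ 0 := by
        by_contra hno
        simp only [not_exists, not_and, not_not] at hno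
        apply hx
        have hxm : x ∈ iSup D := hD.iSup_eq_top ▸ Submodule.mem_top
        refine Submodule.iSup_induction D (motive := fun x => f x (a + b) = 0) hxm hno ?_ ?_
        · have := hb.smul_left 0 (0 : Fin n → F) (a + b); simpa using this
        · intro u v hu hv; rw [hb.add_left, hu, hv, add_zero]
      let φ : (Fin n → F) →ₗ[F] F :=
        { toFun := fun u => f u (a + b)
          map_add' := fun u v => hb.add_left u v _
          map_smul' := fun c u => hb.smul_left c u _ }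
      let ax : Fin n → F := fun k => φ (Pi.single k 1)
      have hax : ∀ u, ax ⬝ᵥ u = φ u := fun u => by
        conv_rhs => rw [pi_eq_sum_univ' u]
        simp [ax, dotProduct, mul_comm]
      obtain ⟨g, hgSL, hg⟩ := exists_transvection_gl (a := a + b) (b := ax) (by rw [hax]; exact halt _)
      have hgf : g ∈ similarityGroup f := ⟨1, fun u v => by
        rw [hg, hg, hax, hax, hb.add_left, hb.add_right, hb.add_right, hb.smul_left, hb.smul_left, hb.smul_right,
          hb.smul_right, halt, hskew (a + b) v]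
        change f u v + f v (a + b) * f u (a + b) + (f u (a + b) * -f v (a + b) + f u (a + b) * (f v (a + b) * 0)) = _
        simp; ring⟩
      have hfix : FixCodim 1 g := ⟨LinearMap.pi fun _ => φ, fun u hu => by
        have : φ u = 0 := congrFun hu 0
        rw [hg, hax, this, zero_smul, add_zero]⟩
      have hmem := hfix.fixes_members hD (by norm_num) (hge ⟨hgf, hgSL⟩).1 l y hy
      rw [hg, hax] at hmem
      have := (D l).smul_mem (φ y)⁻¹ ((D l).sub_mem hmem hy)
      rw [add_sub_cancel_left, smul_smul, inv_mul_cancel₀ (show φ y ≠ 0 from hfy), one_smul] at this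
      exact hv l this
    · refine lt_of_le_not_ge inf_le_right fun hge => ?_
      obtain ⟨hb, hskew, halt, hnd⟩ := hf
      refine not_specialLinear_le_similarityGroup (by rw [Fintype.card_fin]; omega) (RingEquiv.refl F) ?_ hnd (hge.trans inf_le_left)
      exact ⟨hb.add_left, hb.smul_left, hb.add_right, fun c v x => hb.smul_right c v x⟩

end Cfsg.Agent.S5635
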