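import Cfsg.Statements.S5638
import Cfsg.Agent.Lib.Classical.LinSmallField

set_option autoImplicit false
open Cfsg

namespace Cfsg.Agent.S5638

open Cfsg.Geo Cfsg.Agent.Classical
open scoped Kronecker

/-- Over the field with 2 elements, for n = 2 n₂ ≥ 13, the stabiliser in SL_n of a tensor decomposition with factors of dimensions 2 and n₂ (the conjugate by any P of the Kronecker-product subgroup transported along any bijection Fin n ≃ Fin 2 × Fin n₂, intersected with SL_n) is not a maximal subgroup: some subgroup lies strictly between it and SL_n. -/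
theorem result {F : Type*} [Field F] [Fintype F] (n : ℕ) (hn : 13 ≤ n) (hq : Fintype.card F = 2) (n₂ : ℕ) (e : Fin n ≃ Fin 2 × Fin n₂) (P : Matrix.GeneralLinearGroup (Fin n) F) : ∃ K : Subgroup (Matrix.GeneralLinearGroup (Fin n) F), Cfsg.Geo.tensorProductSubgroup 2 n₂ e P ⊓ Cfsg.Geo.specialLinear (Fin n) F < K ∧ K < Cfsg.Geo.specialLinear (Fin n) F := by
  classical
  have hn2 : n = 2 * n₂ := by
    have := Fintype.card_congr e
    rw [Fintype.card_fin, Fintype.card_prod, Fintype.card_fin, Fintype.card_fin] at this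
    exact this
  obtain ⟨K, hK, hle, hcomm⟩ := tensor_two_small_strong hq (show 0 < n₂ by omega) e P
  let A : Matrix (Fin 2) (Fin 2) F := !![0, 1; 1, 1]
  let i0 : Fin n₂ := ⟨0, by omega⟩
  let i1 : Fin n₂ := ⟨1, by omega⟩
  have h01 : i0 ≠ i1 := by simp [i0, i1]
  let E : Matrix (Fin n₂) (Fin n₂) F := Matrix.single i0 i1 1
  have hE : E * E = 0 := Matrix.single_mul_single_of_ne (i := i0) (j := i1) (h := h01.symm) ..
  let N : Matrix (Fin 2 × Fin n₂) (Fin 2 × Fin n₂) F := A ⊗ₖ E
  have hN : N * N = 0 := by rw [← Matrix.mul_kronecker_mul, hE, Matrix.kronecker_zero]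
  have h2 : (2 : F) = 0 := by
    have := FiniteField.cast_card_eq_zero F
    rw [hq] at this; exact_mod_cast this
  let u : GL (Fin n) F :=
    ⟨matLift e P (1 + N), matLift e P (1 - N),
      by rw [← matLift_mul, show (1 + N) * (1 - N) = 1 - N * N by noncomm_ring, hN, sub_zero, matLift_one],
      by rw [← matLift_mul, show (1 - N) * (1 + N) = 1 - N * N by noncomm_ring, hN, sub_zero, matLift_one]⟩
  have hu : matCoord e P (u : Matrix (Fin n) (Fin n) F) = 1 + N := matCoord_matLift e P _
  have huSL : u ∈ specialLinear (Fin n) F := by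
    rw [mem_specialLinear_iff]
    have h01' := eq_zero_or_one_of_card_two hq ((u : Matrix (Fin n) (Fin n) F).det)
    exact h01'.resolve_left (Matrix.GeneralLinearGroup.det_ne_zero u)
  have huK : u ∈ subalgebraNormalizer K := by
    have hc : ∀ x ∈ K, Commute (u : Matrix (Fin n) (Fin n) F) x := hcomm _ (by
      change matLift e P (1 + N) * matLift e P (A ⊗ₖ (1 : Matrix (Fin n₂) (Fin n₂) F)) = matLift e P (A ⊗ₖ 1) * matLift e P (1 + N)
      rw [← matLift_mul, ← matLift_mul, Matrix.add_mul, Matrix.mul_add, Matrix.one_mul, Matrix.mul_one,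
        ← Matrix.mul_kronecker_mul, ← Matrix.mul_kronecker_mul, Matrix.one_mul, Matrix.mul_one])
    intro x
    constructor
    · intro hx
      rw [(hc x hx).eq, mul_assoc, Units.mul_inv, mul_one]
      exact hx
    · intro hx
      have h5 := (hc _ hx).eq
      rw [mul_assoc _ _ (u : Matrix (Fin n) (Fin n) F), Units.inv_mul, mul_one] at h5
      have h6 := u.mul_right_inj.mp h5
      rwa [h6] at hx
  refine ⟨subalgebraNormalizer K ⊓ specialLinear (Fin n) F, lt_of_le_not_ge (inf_le_inf_right _ hle) fun hge => ?_,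
    lt_of_le_not_ge inf_le_right fun hge =>
      not_specialLinear_le_subalgebraNormalizer (by rw [Fintype.card_fin]; omega) one_lt_two hK (hge.trans inf_le_left)⟩
  obtain ⟨a, b, hab⟩ := (mem_conj_reindex_iff e P).mp (hge ⟨huK, huSL⟩).1
  rw [coe_glReindex_conj, hu] at hab
  have e00 := congrFun (congrFun hab (0, i0)) (0, i0)
  have e01 := congrFun (congrFun hab (0, i0)) (0, i1)
  have e11 := congrFun (congrFun hab (1, i0)) (1, i1)
  simp [N, A, E, Matrix.kroneckerMap_apply, Matrix.single_apply, h01, h01.symm] at e00 e01 e11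
  have ha : (a : Matrix (Fin 2) (Fin 2) F) 0 0 ≠ 0 := fun h => by simp [h] at e00
  have hb : (b : Matrix (Fin n₂) (Fin n₂) F) i0 i1 = 0 := by
    rcases e01 with h | h
    · exact absurd h ha
    · exact h
  simp [hb] at e11

end Cfsg.Agent.S5638
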