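import Cfsg.Statements.S5646
import Cfsg.Agent.Lib.Classical.RadicalFormSplit
import Cfsg.Agent.Lib.Classical.SpOvergroup
-- import your own Cfsg.Agent.* helpers here

set_option autoImplicit false
open Cfsg

namespace Cfsg.Agent.S5646

/-- For a finite field F and m ≥ 7, in the symplectic group Sp_2m(F) of the standard alternating form on F^(2m), the stabiliser of any non-zero subspace W on which the form is non-degenerate and with dim W < m is a maximal subgroup. -/
theorem result {F : Type*} [Field F] [Fintype F] (m : ℕ) (hm : 7 ≤ m) (W : Submodule F (Fin m ⊕ Fin m → F)) (hW0 : W ≠ ⊥) (hW : Cfsg.Geo.IsNondegenerateOn (Cfsg.sympForm m F) W) (hdim : Module.finrank F W < m) : Cfsg.Geo.IsMaximalIn (Cfsg.spGL m F) (Cfsg.Geo.subspaceStabilizer W ⊓ Cfsg.spGL m F) := by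
  classical
  haveI : Nonempty (Fin m ⊕ Fin m) := ⟨Sum.inl ⟨0, by omega⟩⟩
  have hs := Cfsg.Agent.Classical.sympForm_isSymplectic (m := m) (F := F)
  refine Cfsg.Agent.Classical.Radical.isMaximal_formSplit (G := Cfsg.spGL m F) (σ := RingEquiv.refl F) (ε := -1)
    (Cfsg.Agent.Classical.reflexForm_of_symplectic hs) (fun g hg x y => hg x y) (fun g _ hg x y => hg x y)
    (fun v => ⟨0, by rw [mul_zero, map_zero, add_zero, hs.alternating v]⟩)
    (fun Y hY => by
      obtain ⟨y, hy, hy0⟩ := Submodule.exists_mem_ne_zero_of_ne_bot (p := Y) fun e => by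
        rw [e, finrank_bot] at hY; omega
      exact ⟨y, hy, hy0, hs.alternating y⟩)
    ⟨1, one_ne_zero, by simp⟩ (fun K hK => Cfsg.Agent.Classical.SpOver.spGL_le fun v c g hg => ?_) hW0 hW
    (by rw [Fintype.card_sum, Fintype.card_fin]; omega) (by rw [Fintype.card_sum, Fintype.card_fin]; omega)
  by_cases hv0 : v = 0
  · convert one_mem K
    refine Cfsg.Agent.Classical.gl_ext_mulVec fun x => ?_
    rw [hg x, hv0, Units.val_one, Matrix.one_mulVec, smul_zero, add_zero]
  · exact hK v c (hs.alternating v) hv0 (by simp) g hg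

end Cfsg.Agent.S5646
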