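import Cfsg.Statements.S5648
import Cfsg.Agent.Lib.Classical.LinSmallField
import Cfsg.Agent.Lib.Classical.SubspaceMaximal
import Cfsg.Agent.Lib.Classical.FixCodim
import Cfsg.Agent.Lib.Classical.SpGeneration

set_option autoImplicit false
open Cfsg

namespace Cfsg.Agent.S5648

open Cfsg.Geo Cfsg.Agent.Classical Cfsg.Agent.Small.PSpn
open Cfsg.Agent.Lead.Symp (form_self form_swap)

/-- Over the field with 2 elements and for m ≥ 7, let D be a decomposition of F^(2m) into t pairwise orthogonal non-degenerate 2-dimensional subspaces for the standard alternating form (t = m ≥ 2). Then the elements of Sp_2m(2) permuting the members of D form a subgroup that is not maximal: some subgroup lies strictly between it and Sp_2m(2). -/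
theorem result {F : Type*} [Field F] [Fintype F] (m : ℕ) (hm : 7 ≤ m) (hq : Fintype.card F = 2) {t : ℕ} (D : Fin t → Submodule F (Fin m ⊕ Fin m → F)) (hD : Cfsg.Geo.IsNondegenerateMDecomposition (Cfsg.sympForm m F) 2 D) : ∃ K : Subgroup (Matrix.GeneralLinearGroup (Fin m ⊕ Fin m) F), Cfsg.Geo.decompositionStabilizer D ⊓ Cfsg.spGL m F < K ∧ K < Cfsg.spGL m F := by
  classical
  have h01 := eq_zero_or_one_of_card_two hq
  have h2 : (2 : F) = 0 := by
    have := FiniteField.cast_card_eq_zero F
    rw [hq] at this; exact_mod_cast this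
  have hneg : ∀ x : F, -x = x := fun x => by linear_combination -x * h2
  obtain ⟨hdec, hnd, horth⟩ := hD
  have hcard := IsMDecomposition.card_eq hdec
  rw [Fintype.card_sum, Fintype.card_fin] at hcard
  let S : ((i : Fin t) → D i) →ₗ[F] (Fin m ⊕ Fin m → F) :=
    ∑ i, (D i).subtype ∘ₗ LinearMap.proj i
  have hS : ∀ z, S z = ∑ i, (z i : Fin m ⊕ Fin m → F) := fun z => by simp [S]
  have hsurj : Function.Surjective S := by
    rw [← LinearMap.range_eq_top, eq_top_iff, ← hdec.iSup_eq_top, iSup_le_iff]
    intro i w hw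
    refine ⟨Pi.single i ⟨w, hw⟩, ?_⟩
    rw [hS, Finset.sum_eq_single i (fun j _ hj => by simp [Pi.single_eq_of_ne hj]) (by simp)]
    simp
  have hinj : Function.Injective S := by
    refine (LinearMap.injective_iff_surjective_of_finrank_eq_finrank ?_).mpr hsurj
    rw [Module.finrank_pi_fintype, Module.finrank_fintype_fun_eq_card, Fintype.card_sum, Fintype.card_fin]
    simp [hdec.finrank_eq]
    omega
  let C := (LinearEquiv.ofBijective S ⟨hinj, hsurj⟩).symm
  let c : (Fin m ⊕ Fin m → F) → Fin t → (Fin m ⊕ Fin m → F) := fun v i => (C v i : Fin m ⊕ Fin m → F)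
  have hcmem : ∀ v i, c v i ∈ D i := fun v i => (C v i).2
  have hcsum : ∀ v, ∑ i, c v i = v := fun v => by
    rw [← hS]; exact (LinearEquiv.ofBijective S ⟨hinj, hsurj⟩).apply_symm_apply v
  have hcuniq : ∀ (v : Fin m ⊕ Fin m → F) (z : Fin t → (Fin m ⊕ Fin m → F)), (∀ i, z i ∈ D i) → ∑ i, z i = v → ∀ i, c v i = z i := by
    intro v z hz hsum i
    have : C v = fun i => (⟨z i, hz i⟩ : D i) := hinj (by
      rw [hS, hS]
      exact (hcsum v).trans hsum.symm)
    exact congrArg Subtype.val (congrFun this i)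
  have hcadd : ∀ u v i, c (u + v) i = c u i + c v i := fun u v i => by simp [c]
  let N : (Fin m ⊕ Fin m → F) → F := fun a => if a = 0 then 0 else 1
  let Q : (Fin m ⊕ Fin m → F) → F := fun v => ∑ i, N (c v i)
  have hplane : ∀ i, ∀ a ∈ D i, ∀ b ∈ D i, N (a + b) = N a + N b + sf a b := by
    intro i a ha b hb
    by_cases ha0 : a = 0
    · subst ha0; simp [N, sf_zero_left]
    by_cases hb0 : b = 0
    · subst hb0; simp [N, sf_zero_right, ha0]
    by_cases hab : a = b
    · subst hab
      have : a + a = 0 := funext fun k => by change a k + a k = 0; linear_combination a k * h2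
      simp [N, this, ha0, show sf a a = 0 from form_self a]
      linear_combination -h2
    have hsum : a + b ≠ 0 := fun h => hab (funext fun k => by
      have := congrFun h k
      simp only [Pi.add_apply, Pi.zero_apply] at this
      linear_combination this - b k * h2)
    have hf : sf a b = 1 := by
      refine (h01 _).resolve_left fun h0 => ?_
      obtain ⟨-, x, hx, hfx⟩ := hnd i a ha ha0
      have hspan : Submodule.span F {a} ⊔ Submodule.span F {b} = D i := by
        refine Submodule.eq_of_le_of_finrank_le (sup_le ((Submodule.span_singleton_le_iff_mem _ _).mpr ha)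
          ((Submodule.span_singleton_le_iff_mem _ _).mpr hb)) ?_
        have hlt : Submodule.span F {a} < Submodule.span F {a} ⊔ Submodule.span F {b} := by
          refine lt_of_le_not_ge le_sup_left fun hle => ?_
          obtain ⟨r, hr⟩ := Submodule.mem_span_singleton.mp (hle (Submodule.mem_sup_right (Submodule.mem_span_singleton_self b)))
          rcases h01 r with rfl | rfl
          · exact hb0 (by simpa using hr.symm)
          · exact hab (by simpa using hr)
        have := Submodule.finrank_lt_finrank_of_lt hlt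
        rw [finrank_span_singleton ha0] at this
        rw [hdec.finrank_eq]
        omega
      rw [← hspan] at hx
      obtain ⟨p, hp, r, hr, rfl⟩ := Submodule.mem_sup.mp hx
      obtain ⟨p', rfl⟩ := Submodule.mem_span_singleton.mp hp
      obtain ⟨r', rfl⟩ := Submodule.mem_span_singleton.mp hr
      apply hfx
      change sf a (p' • a + r' • b) = 0
      rw [sf_add_right, sf_smul_right, sf_smul_right, show sf a a = 0 from form_self a, h0, mul_zero, mul_zero, add_zero]
    simp [N, ha0, hb0, hsum, hf]
    linear_combination h2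
  have hform : ∀ u v, sf u v = ∑ i, sf (c u i) (c v i) := by
    intro u v
    have hL : ∀ (s : Finset (Fin t)) (z : Fin t → (Fin m ⊕ Fin m → F)) w, sf (∑ i ∈ s, z i) w = ∑ i ∈ s, sf (z i) w := by
      intro s z w
      induction s using Finset.induction with
      | empty => simp [sf_zero_left]
      | insert j s hj ih => rw [Finset.sum_insert hj, Finset.sum_insert hj, sf_add_left, ih]
    have hR : ∀ (s : Finset (Fin t)) (z : Fin t → (Fin m ⊕ Fin m → F)) w, sf w (∑ i ∈ s, z i) = ∑ i ∈ s, sf w (z i) := by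
      intro s z w
      induction s using Finset.induction with
      | empty => simp [sf_zero_right]
      | insert j s hj ih => rw [Finset.sum_insert hj, Finset.sum_insert hj, sf_add_right, ih]
    conv_lhs => rw [← hcsum u, ← hcsum v, hL]
    refine Finset.sum_congr rfl fun i _ => ?_
    rw [hR]
    exact Finset.sum_eq_single i (fun j _ hj => horth i j (Ne.symm hj) _ (hcmem u i) _ (hcmem v j)) (by simp)
  have hpolar : ∀ u v, Q (u + v) = Q u + Q v + sf u v := fun u v => by
    rw [hform, ← Finset.sum_add_distrib, ← Finset.sum_add_distrib]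
    exact Finset.sum_congr rfl fun i _ => by rw [hcadd]; exact hplane i _ (hcmem u i) _ (hcmem v i)
  have hQ0 : Q 0 = 0 := by simp [Q, N, c]
  let O : Subgroup (GL (Fin m ⊕ Fin m) F) := preserving (Units.coeHom (Matrix (Fin m ⊕ Fin m) (Fin m ⊕ Fin m) F)) (fun u _ => Q u)
  have hle : decompositionStabilizer D ⊓ spGL m F ≤ O ⊓ spGL m F := by
    refine inf_le_inf_right _ fun g hg => ?_
    obtain ⟨σ, hσ⟩ := hg
    intro u _
    change Q ((g : Matrix (Fin m ⊕ Fin m) (Fin m ⊕ Fin m) F).mulVec u) = Q u
    have hgm : ∀ i, (g : Matrix (Fin m ⊕ Fin m) (Fin m ⊕ Fin m) F).mulVec (c u i) ∈ D (σ i) := fun i => by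
      rw [← hσ i]; exact ⟨c u i, hcmem u i, by rw [Matrix.toLin'_apply]⟩
    have hcg : ∀ i, c ((g : Matrix (Fin m ⊕ Fin m) (Fin m ⊕ Fin m) F).mulVec u) (σ i) = (g : Matrix (Fin m ⊕ Fin m) (Fin m ⊕ Fin m) F).mulVec (c u i) := by
      intro i
      have := hcuniq ((g : Matrix (Fin m ⊕ Fin m) (Fin m ⊕ Fin m) F).mulVec u) (fun j => (g : Matrix (Fin m ⊕ Fin m) (Fin m ⊕ Fin m) F).mulVec (c u (σ.symm j)))
        (fun j => by simpa using hgm (σ.symm j))
        (by rw [Equiv.sum_comp σ.symm (fun i => (g : Matrix (Fin m ⊕ Fin m) (Fin m ⊕ Fin m) F).mulVec (c u i)), ← Matrix.mulVec_sum, hcsum]) (σ i)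
      simpa using this
    change ∑ i, _ = ∑ i, _
    rw [← Equiv.sum_comp σ]
    refine Finset.sum_congr rfl fun i _ => ?_
    rw [hcg]
    by_cases h0 : c u i = 0
    · simp [N, h0]
    · have : (g : Matrix (Fin m ⊕ Fin m) (Fin m ⊕ Fin m) F).mulVec (c u i) ≠ 0 := fun h => h0 (gl_mulVec_injective g (by simpa using h))
      simp [N, h0, this]
  have htr : ∀ v : Fin m ⊕ Fin m → F, ∃ g ∈ spGL m F, (∀ x, (g : Matrix (Fin m ⊕ Fin m) (Fin m ⊕ Fin m) F).mulVec x = x + sf x v • v) ∧ FixCodim 1 g := by
    intro v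
    let φ : (Fin m ⊕ Fin m → F) →ₗ[F] F :=
      { toFun := fun u => sf u v
        map_add' := fun u w => sf_add_left u w v
        map_smul' := fun r u => sf_smul_left r u v }
    let ax : (Fin m ⊕ Fin m → F) := fun k => φ (Pi.single k 1)
    have hax : ∀ u, ax ⬝ᵥ u = φ u := fun u => by
      conv_rhs => rw [pi_eq_sum_univ' u]
      simp [ax, dotProduct, mul_comm]
    obtain ⟨g, -, hg⟩ := exists_transvection_gl (a := v) (b := ax) (by rw [hax]; exact form_self v)
    have hg' : ∀ x, (g : Matrix (Fin m ⊕ Fin m) (Fin m ⊕ Fin m) F).mulVec x = x + sf x v • v := fun x => by rw [hg, hax]; rfl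
    refine ⟨g, fun u w => ?_, hg', LinearMap.pi fun _ => φ, fun u hu => ?_⟩
    · change sf ((g : Matrix (Fin m ⊕ Fin m) (Fin m ⊕ Fin m) F).mulVec u) ((g : Matrix (Fin m ⊕ Fin m) (Fin m ⊕ Fin m) F).mulVec w) = sf u w
      rw [hg', hg', sf_add_left, sf_add_right, sf_add_right, sf_smul_left, sf_smul_left, sf_smul_right, sf_smul_right,
        show sf v v = 0 from form_self v, show sf v w = - sf w v from form_swap w v]
      ring
    · have : φ u = 0 := congrFun hu 0
      rw [hg']
      change u + φ u • v = u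
      rw [this, zero_smul, add_zero]
  have hex : ∀ i, ∃ a ∈ D i, a ≠ 0 := fun i => (D i).exists_mem_ne_zero_of_ne_bot fun h => by
    have := hdec.finrank_eq i
    rw [h, finrank_bot] at this
    omega
  choose a ha ha0 using hex
  let vv : Finset (Fin t) → (Fin m ⊕ Fin m → F) := fun s => ∑ i ∈ s, a i
  have hcv : ∀ s i, c (vv s) i = if i ∈ s then a i else 0 := fun s i =>
    hcuniq (vv s) (fun j => if j ∈ s then a j else 0) (fun j => by split_ifs; exacts [ha j, (D j).zero_mem])
      (by simp [vv]) i
  have hQv : ∀ s, Q (vv s) = (s.card : F) := fun s => by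
    simp only [Q, hcv]
    rw [Finset.card_eq_sum_ones, Nat.cast_sum, ← Finset.sum_subset (Finset.subset_univ s) (fun i _ hi => by simp [N, hi])]
    exact Finset.sum_congr rfl fun i hi => by simp [N, hi, ha0]
  have hsq : ∀ x : F, x * x = x := fun x => by rcases h01 x with rfl | rfl <;> simp
  have hQg : ∀ (v x : Fin m ⊕ Fin m → F), Q (x + sf x v • v) = Q x + sf x v * (Q v + 1) := fun v x => by
    rcases h01 (sf x v) with h | h <;> rw [h]
    · simp
    · rw [one_smul, hpolar, h]; ring
  have hwit : ∀ v, Q v = 1 → ∀ g : GL (Fin m ⊕ Fin m) F, (∀ x, (g : Matrix (Fin m ⊕ Fin m) (Fin m ⊕ Fin m) F).mulVec x = x + sf x v • v) → g ∈ O := by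
    intro v hv g hg u _
    change Q ((g : Matrix (Fin m ⊕ Fin m) (Fin m ⊕ Fin m) F).mulVec u) = Q u
    rw [hg, hQg, hv]
    linear_combination sf u v * h2
  have ht3 : 3 ≤ t := by omega
  refine ⟨O ⊓ spGL m F, lt_of_le_not_ge hle fun hge => ?_, lt_of_le_not_ge inf_le_right fun hge => ?_⟩
  · let s : Finset (Fin t) := {⟨0, by omega⟩, ⟨1, by omega⟩, ⟨2, by omega⟩}
    have hsc : s.card = 3 := by simp [s]
    obtain ⟨g, hgsp, hg, hfix⟩ := htr (vv s)
    have hgO : g ∈ O := hwit _ (by rw [hQv, hsc]; push_cast; linear_combination h2) g hg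
    have hne : ∀ l, vv s ∉ D l := fun l hl => by
      obtain ⟨j, hj, hjl⟩ : ∃ j ∈ s, j ≠ l := by
        by_contra hno
        simp only [not_exists, not_and, not_not] at hno
        have := Finset.card_le_one.mpr (fun p hp r hr => (hno p hp).trans (hno r hr).symm)
        omega
      have := hcuniq (vv s) (fun k => if k = l then vv s else 0) (fun k => by
        split_ifs with h
        · rw [h]; exact hl
        · exact (D k).zero_mem) (by simp) j
      rw [hcv, if_pos hj, if_neg hjl] at this
      exact ha0 j this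
    obtain ⟨x, l, hxl, hx⟩ : ∃ x l, x ∈ D l ∧ sf x (vv s) ≠ 0 := by
      obtain ⟨z, hz, hzf⟩ := (hnd ⟨0, by omega⟩ (a _) (ha _) (ha0 _)).1
      refine ⟨z, _, hz, ?_⟩
      rw [hform, Finset.sum_eq_single ⟨0, by omega⟩ ?_ (by simp)]
      · rw [hcv, if_pos (by simp [s]), hcuniq z (fun k => if k = ⟨0, by omega⟩ then z else 0) (fun k => by
          split_ifs with h
          · rw [h]; exact hz
          · exact (D k).zero_mem) (by simp), if_pos rfl]
        exact hzf
      · intro k _ hk
        rw [hcuniq z (fun k => if k = ⟨0, by omega⟩ then z else 0) (fun k => by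
          split_ifs with h
          · rw [h]; exact hz
          · exact (D k).zero_mem) (by simp), if_neg hk, sf_zero_left]
    have hmem := hfix.fixes_members hdec (by norm_num) (hge ⟨hgO, hgsp⟩).1 l x hxl
    rw [hg, (h01 _).resolve_left hx, one_smul] at hmem
    exact hne l (by simpa using (D l).sub_mem hmem hxl)
  · obtain ⟨g, hgsp, hg, -⟩ := htr (vv {⟨0, by omega⟩, ⟨1, by omega⟩})
    obtain ⟨x, hx⟩ : ∃ x, sf x (vv ({⟨0, by omega⟩, ⟨1, by omega⟩} : Finset (Fin t))) ≠ 0 := by
      obtain ⟨z, hz⟩ := Cfsg.Agent.Lead.Symp.exists_form_ne (show vv ({⟨0, by omega⟩, ⟨1, by omega⟩} : Finset (Fin t)) ≠ 0 from fun h => by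
        have := congrArg (fun w => c w ⟨0, by omega⟩) h
        simp only [hcv] at this
        simp [c] at this
        exact ha0 _ this)
      exact ⟨z, Cfsg.Agent.Classical.SpGen.sf_ne_swap hz⟩
    have h1 := (hge hgsp).1 x x
    change Q ((g : Matrix (Fin m ⊕ Fin m) (Fin m ⊕ Fin m) F).mulVec x) = Q x at h1
    rw [hg, hQg, hQv, Finset.card_pair (by simp)] at h1
    apply hx
    push_cast at h1
    linear_combination h1 - sf x (vv ({⟨0, by omega⟩, ⟨1, by omega⟩} : Finset (Fin t))) * h2

end Cfsg.Agent.S5648
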