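import Cfsg.Statements.S5653
import Cfsg.Agent.Lib.Classical.RadicalForm
import Cfsg.Agent.Lib.Classical.UnitaryOvergroup
-- import your own Cfsg.Agent.* helpers here

set_option autoImplicit false
open Cfsg

namespace Cfsg.Agent.S5653

/-- Let F be the field with q² elements and n ≥ 13, and let SU_n(q) be the group of matrices of determinant one preserving the standard unitary form Σ u_i v_i^q on F^n (the intersection of the unitary group GU_n with the kernel of the determinant). The elements of SU_n(q) stabilising a non-zero subspace on which the form vanishes identically form a maximal subgroup of SU_n(q). -/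
theorem result {F : Type*} [Field F] [Fintype F] (n q : ℕ) (hF : Fintype.card F = q ^ 2) (hn : 13 ≤ n) (W : Submodule F (Fin n → F)) (hW0 : W ≠ ⊥) (hW : Cfsg.Geo.IsTotallySingularFor (Cfsg.hermForm n F q) W) : Cfsg.Geo.IsMaximalIn (Cfsg.GU n F q ⊓ Cfsg.Geo.specialLinear (Fin n) F) (Cfsg.Geo.subspaceStabilizer W ⊓ (Cfsg.GU n F q ⊓ Cfsg.Geo.specialLinear (Fin n) F)) := by
  classical
  haveI : Nonempty (Fin n) := ⟨⟨0, by omega⟩⟩
  obtain ⟨p, e, σ, -, -, -, -, hσ⟩ := Cfsg.Agent.Classical.exists_usigma hF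
  have hh := hσ.isUnitaryForm (n := n)
  obtain ⟨θ, hθ⟩ : ∃ θ : F, θ + σ θ ≠ 0 := by
    by_contra hcon
    push Not at hcon
    refine hσ.ne_refl (RingEquiv.ext fun x => ?_)
    have h1 := hcon 1
    rw [map_one] at h1
    show σ x = x
    linear_combination hcon x - x * h1
  obtain ⟨c, hc0, hc⟩ := hσ.exists_skew
  refine Cfsg.Agent.Classical.Radical.isMaximal_form (G := Cfsg.GU n F q ⊓ Cfsg.Geo.specialLinear (Fin n) F) (σ := σ) (ε := 1)
    (Cfsg.Agent.Classical.reflexForm_of_unitary hh) (fun g hg x y => hg.1 x y) (fun g h1 hg => ⟨hg, h1⟩)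
    (fun v => ⟨θ * Cfsg.hermForm n F q v v / (θ + σ θ), ?_⟩) ⟨c, hc0, by rwa [one_mul]⟩
    (fun K hK => Cfsg.Agent.Classical.UOver.suGL_le hσ (by omega) fun v c hv hc g hg => ?_) hW0 hW
  · rw [one_mul, map_div₀, map_mul, map_add, hσ.involutive, ← hh.herm v v, add_comm (σ θ) θ, ← add_div,
      ← add_mul, mul_div_cancel_left₀ _ hθ]
  by_cases hv0 : v = 0
  · convert one_mem K
    refine Cfsg.Agent.Classical.gl_ext_mulVec fun x => ?_
    rw [hg x, hv0, Units.val_one, Matrix.one_mulVec, smul_zero, add_zero]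
  · exact hK v c hv hv0 (by rwa [one_mul]) g hg

end Cfsg.Agent.S5653
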