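import Cfsg.Statements.S5656
import Cfsg.Agent.Lib.Classical.LinBasic

set_option autoImplicit false
open Cfsg

namespace Cfsg.Agent.S5656

open Matrix Module Cfsg.Geo Cfsg.Agent.Classical

section
variable {F : Type*} [Field F] [Fintype F] {n : ℕ}

local notation "hm" => Cfsg.hermForm n F 2

theorem two0 (hF : Fintype.card F = 4) : (2 : F) = 0 := by
  have := FiniteField.cast_card_eq_zero F
  rw [hF] at this
  push_cast at this
  exact (mul_self_eq_zero.1 (by linear_combination this : (2 : F) * 2 = 0))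

theorem pow_four (hF : Fintype.card F = 4) (x : F) : x ^ 4 = x := hF ▸ FiniteField.pow_card x

theorem cube (hF : Fintype.card F = 4) {x : F} (hx : x ≠ 0) : x * x ^ 2 = 1 := by
  have := FiniteField.pow_card_sub_one_eq_one x hx
  rw [hF] at this
  rw [← this]; ring

theorem h_add_left (u v w : Fin n → F) : hm (u + v) w = hm u w + hm v w := by
  simp [Cfsg.hermForm, add_mul, Finset.sum_add_distrib]

theorem h_smul_left (c : F) (u w : Fin n → F) : hm (c • u) w = c * hm u w := by
  simp [Cfsg.hermForm, Finset.mul_sum, mul_assoc]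

theorem h_add_right (hF : Fintype.card F = 4) (u v w : Fin n → F) : hm u (v + w) = hm u v + hm u w := by
  simp only [Cfsg.hermForm, Pi.add_apply, ← Finset.sum_add_distrib]
  refine Finset.sum_congr rfl fun i _ => ?_
  linear_combination (u i * v i * w i) * two0 hF

theorem h_smul_right (c : F) (u w : Fin n → F) : hm u (c • w) = c ^ 2 * hm u w := by
  simp only [Cfsg.hermForm, Pi.smul_apply, smul_eq_mul, Finset.mul_sum]
  exact Finset.sum_congr rfl fun i _ => by ring

theorem h_swap (hF : Fintype.card F = 4) (u w : Fin n → F) : hm w u = hm u w ^ 2 := by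
  haveI : CharP F 2 := CharTwo.of_one_ne_zero_of_two_eq_zero one_ne_zero (two0 hF)
  simp only [Cfsg.hermForm, CharTwo.sum_sq]
  refine Finset.sum_congr rfl fun i _ => ?_
  rw [mul_pow, ← pow_mul, pow_four hF, mul_comm]

theorem h_perp_symm (hF : Fintype.card F = 4) {u w : Fin n → F} (h : hm u w = 0) : hm w u = 0 := by
  rw [h_swap hF, h]; ring

/-- The transvection with isotropic centre. -/
theorem exists_trans (hF : Fintype.card F = 4) {s : Fin n → F} (hs : hm s s = 0) :
    ∃ g : GL (Fin n) F, g ∈ Cfsg.GU n F 2 ⊓ specialLinear (Fin n) F ∧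
      ∀ v, (g : Matrix (Fin n) (Fin n) F) *ᵥ v = v + hm v s • s := by
  obtain ⟨M, hM⟩ : ∃ M : Matrix (Fin n) (Fin n) F, M = 1 + vecMulVec s fun j => s j ^ 2 := ⟨_, rfl⟩
  have hdot : ∀ v : Fin n → F, (fun j => s j ^ 2) ⬝ᵥ v = hm v s := fun v =>
    Finset.sum_congr rfl fun i _ => mul_comm _ _
  have hdet : M.det = 1 := by
    rw [hM, vecMulVec_eq Unit, det_one_add_replicateCol_mul_replicateRow, hdot, hs, add_zero]
  have hx : ∀ v, M *ᵥ v = v + hm v s • s := fun v => by
    rw [hM, add_mulVec, one_mulVec, vecMulVec_mulVec, hdot]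
    ext i; simp [mul_comm]
  refine ⟨GeneralLinearGroup.mkOfDetNeZero M (by rw [hdet]; exact one_ne_zero), ⟨fun u v => ?_, ?_⟩, hx⟩
  · show hm (M *ᵥ u) (M *ᵥ v) = hm u v
    rw [hx, hx, h_add_left, h_add_right hF, h_add_right hF, h_smul_left, h_smul_left, h_smul_right,
      h_smul_right, hs, ← h_swap hF v s]
    linear_combination (hm u s * hm s v) * two0 hF
  · exact MonoidHom.mem_ker.2 (Units.ext hdet)

/-- An orthonormal pair in a non-degenerate plane. -/
theorem exists_frame (hF : Fintype.card F = 4) {W : Submodule F (Fin n → F)} (hdim : finrank F W = 2)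
    (hW : IsNondegenerateOn hm W) :
    ∃ x : Fin 2 → Fin n → F, (∀ j, x j ∈ W) ∧ (∀ j, hm (x j) (x j) = 1) ∧ ∀ j l, j ≠ l → hm (x j) (x l) = 0 := by
  have hone : ∀ v, hm v v ≠ 0 → hm v v = 1 := fun v hv =>
    mul_left_cancel₀ hv (by rw [mul_one, ← _root_.sq, ← h_swap hF])
  obtain ⟨w, hw, hww⟩ : ∃ w ∈ W, hm w w ≠ 0 := by
    by_contra hc
    simp only [not_exists, not_and, not_not] at hc
    obtain ⟨u, hu, hu0⟩ := (Submodule.ne_bot_iff W).1 fun h => by
      rw [h, finrank_bot] at hdim; exact absurd hdim (by norm_num)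
    obtain ⟨v, hv, hne⟩ := (hW u hu hu0).2
    have key : ∀ c : F, c * hm u v + (c * hm u v) ^ 2 = 0 := fun c => by
      have := hc (c • u + v) (W.add_mem (W.smul_mem c hu) hv)
      rw [h_add_left, h_add_right hF, h_add_right hF, h_smul_left, h_smul_left, h_smul_right, h_smul_right,
        hc u hu, hc v hv, h_swap hF u v] at this
      rw [← this]; ring
    obtain ⟨c, hc0, hc1⟩ : ∃ c : F, c ≠ 0 ∧ c * hm u v ≠ 1 := by
      by_contra h
      simp only [not_exists, not_and, not_not] at h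
      classical
      have hsub : (Finset.univ : Finset F) ⊆ {0, (hm u v)⁻¹} := fun c _ => by
        by_cases hc : c = 0
        · simp [hc]
        · simp [eq_inv_of_mul_eq_one_left (h c hc)]
      have h2 := Finset.card_le_card hsub
      rw [Finset.card_univ, hF] at h2
      exact absurd (h2.trans Finset.card_le_two) (by norm_num)
    refine hc1 (mul_left_cancel₀ (mul_ne_zero hc0 hne) ?_)
    linear_combination key c - (c * hm u v) * two0 hF
  have hw1 := hone w hww
  obtain ⟨u, hu, huw⟩ := SetLike.not_le_iff_exists.1 (fun hle : W ≤ Submodule.span F {w} => by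
    have := Submodule.finrank_mono hle
    rw [hdim, finrank_span_singleton (fun h => hww (by rw [h]; simp [Cfsg.hermForm]))] at this
    omega)
  obtain ⟨y, hy⟩ : ∃ y, y = u + hm u w • w := ⟨_, rfl⟩
  have hyW : y ∈ W := hy ▸ W.add_mem hu (W.smul_mem _ hw)
  have hyw : hm y w = 0 := by
    rw [hy, h_add_left, h_smul_left, hw1]; linear_combination (hm u w) * two0 hF
  have hy0 : y ≠ 0 := fun h => huw (Submodule.mem_span_singleton.2 ⟨-hm u w, by
    rw [hy] at h; rw [neg_smul, ← eq_neg_of_add_eq_zero_left h]⟩)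
  have hspan : ∀ v ∈ W, ∃ a b : F, v = a • w + b • y := by
    have hind : LinearIndependent F ![w, y] := LinearIndependent.pair_iff.2 fun s t h => by
      have h1 : hm (s • w + t • y) w = 0 := by rw [h]; simp [Cfsg.hermForm]
      rw [h_add_left, h_smul_left, h_smul_left, hw1, hyw, mul_one, mul_zero, add_zero] at h1
      refine ⟨h1, ?_⟩
      rw [h1, zero_smul, zero_add] at h
      exact (smul_eq_zero.1 h).resolve_right hy0
    have hspan : Submodule.span F (Set.range ![w, y]) = W :=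
      Submodule.eq_of_le_of_finrank_eq (Submodule.span_le.2 (by rintro _ ⟨i, rfl⟩; fin_cases i <;> assumption))
        (by rw [finrank_span_eq_card hind, hdim, Fintype.card_fin])
    intro v hv
    rw [← hspan, Submodule.mem_span_range_iff_exists_fun] at hv
    obtain ⟨a, rfl⟩ := hv
    exact ⟨a 0, a 1, by simp [Fin.sum_univ_two]⟩
  have hyy : hm y y = 1 := hone y fun h => by
    obtain ⟨v, hv, hne⟩ := (hW y hyW hy0).2
    obtain ⟨a, b, rfl⟩ := hspan v hv
    rw [h_add_right hF, h_smul_right, h_smul_right, h, hyw] at hne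
    exact hne (by ring)
  refine ⟨![w, y], fun j => ?_, fun j => ?_, fun j l h => ?_⟩
  · fin_cases j
    exacts [hw, hyW]
  · fin_cases j
    exacts [hw1, hyy]
  · fin_cases j <;> fin_cases l
    exacts [absurd rfl h, h_perp_symm hF hyw, hyw, absurd rfl h]

end

/-- Let F be the field with 4 elements (q = 2) and n ≥ 13. Let D be a decomposition of F^n into t pairwise orthogonal 2-dimensional subspaces, each non-degenerate for the standard unitary form Σ u_i v_i². Then the elements of SU_n(2) permuting the members of D form a subgroup that is not maximal: some subgroup lies strictly between it and SU_n(2). -/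
theorem result {F : Type*} [Field F] [Fintype F] (n : ℕ) (hF : Fintype.card F = 4) (hn : 13 ≤ n) {t : ℕ} (D : Fin t → Submodule F (Fin n → F)) (hD : Cfsg.Geo.IsNondegenerateMDecomposition (Cfsg.hermForm n F 2) 2 D) : ∃ K : Subgroup (Matrix.GeneralLinearGroup (Fin n) F), Cfsg.Geo.decompositionStabilizer D ⊓ (Cfsg.GU n F 2 ⊓ Cfsg.Geo.specialLinear (Fin n) F) < K ∧ K < (Cfsg.GU n F 2 ⊓ Cfsg.Geo.specialLinear (Fin n) F) := by
  classical
  choose x hx hx1 hxp using fun i => exists_frame hF (hD.decomp.finrank_eq i) (hD.nondegenerate i)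
  have hpol : ∀ i j i' j', Cfsg.hermForm n F 2 (x i j) (x i' j') = if i = i' ∧ j = j' then 1 else 0 := by
    intro i j i' j'
    by_cases hi : i = i'
    · subst hi
      by_cases hj : j = j'
      · subst hj; rw [if_pos ⟨rfl, rfl⟩, hx1]
      · rw [if_neg (fun h => hj h.2), hxp i j j' hj]
    · rw [if_neg (fun h => hi h.1)]; exact hD.orthogonal i i' hi _ (hx i j) _ (hx i' j')
  set S : Set (Fin n → F) := {v | ∃ i j, ∃ c : F, c ≠ 0 ∧ v = c • x i j} with hS
  have hchar : ∀ i, ∀ w ∈ D i, Cfsg.hermForm n F 2 w w = 1 → w ∈ S := by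
    intro i w hw h1
    have hind : LinearIndependent F (x i) := by
      refine Fintype.linearIndependent_iff.2 fun a ha l => ?_
      have h := congrArg (fun v => Cfsg.hermForm n F 2 v (x i l)) ha
      simp only [Fin.sum_univ_two, h_add_left, h_smul_left, hpol] at h
      fin_cases l <;> simpa [Cfsg.hermForm] using h
    have hspan : Submodule.span F (Set.range (x i)) = D i :=
      Submodule.eq_of_le_of_finrank_eq (Submodule.span_le.2 (by rintro _ ⟨j, rfl⟩; exact hx i j))
        (by rw [finrank_span_eq_card hind, hD.decomp.finrank_eq, Fintype.card_fin])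
    rw [← hspan, Submodule.mem_span_range_iff_exists_fun] at hw
    obtain ⟨a, rfl⟩ := hw
    simp only [Fin.sum_univ_two, h_add_left, h_add_right hF, h_smul_left, h_smul_right, hpol] at h1 ⊢
    by_cases h0 : a 0 = 0
    · refine ⟨i, 1, a 1, fun h => ?_, by rw [h0, zero_smul, zero_add]⟩
      simp [h0, h] at h1
    by_cases h2 : a 1 = 0
    · exact ⟨i, 0, a 0, h0, by rw [h2, zero_smul, add_zero]⟩
    exfalso
    have h3 : a 0 * a 0 ^ 2 + a 1 * a 1 ^ 2 = 1 := by
      simp at h1
      linear_combination h1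
    exact one_ne_zero (α := F) (by linear_combination h3 - cube hF h0 - cube hF h2)
  have hxS : ∀ i j, x i j ∈ S := fun i j => ⟨i, j, 1, one_ne_zero, (one_smul F _).symm⟩
  have hmaps : ∀ g : GL (Fin n) F, (∀ i j, (g : Matrix (Fin n) (Fin n) F) *ᵥ x i j ∈ S) →
      g ∈ Cfsg.stabilizing (Cfsg.glToMat (Fin n) F) S := by
    intro g hg
    have hfwd : ∀ v ∈ S, (g : Matrix (Fin n) (Fin n) F) *ᵥ v ∈ S := by
      rintro v ⟨i, j, c, hc, rfl⟩
      obtain ⟨i', j', c', hc', h⟩ := hg i j
      exact ⟨i', j', c * c', mul_ne_zero hc hc', by rw [mulVec_smul, h, smul_smul]⟩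
    have heq : (fun v => (g : Matrix (Fin n) (Fin n) F) *ᵥ v) '' S = S :=
      Set.eq_of_subset_of_ncard_le (by rintro _ ⟨v, hv, rfl⟩; exact hfwd v hv)
        (Set.ncard_image_of_injective S (gl_mulVec_injective g)).ge (Set.toFinite _)
    intro v
    refine ⟨hfwd v, fun hv => ?_⟩
    change (g : Matrix (Fin n) (Fin n) F) *ᵥ v ∈ S at hv
    rw [← heq] at hv
    obtain ⟨w, hw, hwv⟩ := hv
    rwa [← gl_mulVec_injective g hwv]
  obtain ⟨i₀, i₁, hi⟩ : ∃ i₀ i₁ : Fin t, i₀ ≠ i₁ :=
    ⟨⟨0, by have := hD.decomp.two_le; omega⟩, ⟨1, by have := hD.decomp.two_le; omega⟩, by simp [Fin.ext_iff]⟩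
  have h20 := two0 hF
  refine ⟨Cfsg.stabilizing (Cfsg.glToMat (Fin n) F) S ⊓ (Cfsg.GU n F 2 ⊓ specialLinear (Fin n) F),
    lt_of_le_of_ne ?_ ?_, lt_of_le_of_ne inf_le_right ?_⟩
  · rintro g ⟨⟨σ, hσ⟩, hg⟩
    refine ⟨hmaps g fun i j => ?_, hg⟩
    exact hchar (σ i) _ (hσ i ▸ ⟨x i j, hx i j, Matrix.toLin'_apply _ _⟩) ((hg.1 _ _).trans (hx1 i j))
  · intro heq
    obtain ⟨g, hg, hgx⟩ := exists_trans hF (s := x i₀ 0 + x i₁ 0) (by
      simp [h_add_left, h_add_right hF, hpol, hi, hi.symm]; linear_combination h20)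
    have hgS : g ∈ Cfsg.stabilizing (Cfsg.glToMat (Fin n) F) S ⊓ (Cfsg.GU n F 2 ⊓ specialLinear (Fin n) F) := by
      refine ⟨hmaps g fun i j => ?_, hg⟩
      rw [hgx, h_add_right hF, hpol, hpol]
      by_cases h0 : i = i₀ ∧ j = 0
      · rw [h0.1, h0.2, if_pos ⟨rfl, rfl⟩, if_neg (fun h => hi h.1), add_zero, one_smul]
        refine ⟨i₁, 0, 1, one_ne_zero, ?_⟩
        have e : x i₀ 0 + x i₀ 0 = 0 := by rw [← two_smul F, h20, zero_smul]
        rw [one_smul, ← add_assoc, e, zero_add]
      by_cases h1 : i = i₁ ∧ j = 0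
      · rw [h1.1, h1.2, if_neg (fun h => hi h.1.symm), if_pos ⟨rfl, rfl⟩, zero_add, one_smul]
        refine ⟨i₀, 0, 1, one_ne_zero, ?_⟩
        have e : x i₁ 0 + x i₁ 0 = 0 := by rw [← two_smul F, h20, zero_smul]
        rw [one_smul, add_comm (x i₀ 0), ← add_assoc, e, zero_add]
      rw [if_neg h0, if_neg h1, add_zero, zero_smul, add_zero]
      exact hxS i j
    rw [← heq] at hgS
    obtain ⟨σ, hσ⟩ := hgS.1
    have huniq : ∀ i j l, x i j ∈ D l → l = i := fun i j l hl => by
      by_contra h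
      have := hD.orthogonal i l (Ne.symm h) _ (hx i j) _ hl
      rw [hx1] at this
      exact one_ne_zero this
    have hb : (g : Matrix (Fin n) (Fin n) F) *ᵥ x i₀ 0 = x i₁ 0 := by
      rw [hgx, h_add_right hF, hpol, hpol, if_pos ⟨rfl, rfl⟩, if_neg (fun h => hi h.1), add_zero, one_smul]
      have e : x i₀ 0 + x i₀ 0 = 0 := by rw [← two_smul F, h20, zero_smul]
      rw [← add_assoc, e, zero_add]
    have hd : (g : Matrix (Fin n) (Fin n) F) *ᵥ x i₀ 1 = x i₀ 1 := by
      rw [hgx, h_add_right hF, hpol, hpol, if_neg (fun h => by simp at h), if_neg (fun h => hi h.1),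
        add_zero, zero_smul, add_zero]
    have e1 := huniq i₁ 0 (σ i₀) (hσ i₀ ▸ ⟨x i₀ 0, hx _ _, by rw [Matrix.toLin'_apply, hb]⟩)
    have e2 := huniq i₀ 1 (σ i₀) (hσ i₀ ▸ ⟨x i₀ 1, hx _ _, by rw [Matrix.toLin'_apply, hd]⟩)
    exact hi (e2.symm.trans e1)
  · intro heq
    obtain ⟨s, hs⟩ : ∃ s, s = x i₀ 0 + x i₀ 1 + x i₁ 0 + x i₁ 1 := ⟨_, rfl⟩
    obtain ⟨g, hg, hgx⟩ := exists_trans hF (s := s) (by
      simp [hs, h_add_left, h_add_right hF, hpol, hi, hi.symm]; linear_combination (2 : F) * h20)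
    rw [← heq] at hg
    obtain ⟨i, j, c, hc, hw⟩ := (hg.1 (x i₀ 0)).1 (hxS i₀ 0)
    change (g : Matrix (Fin n) (Fin n) F) *ᵥ x i₀ 0 = c • x i j at hw
    have htest : ∀ i' j', (i' = i₀ ∨ i' = i₁) → ¬ (i' = i₀ ∧ j' = 0) → i = i' ∧ j = j' := by
      intro i' j' hi' hne
      have h := congrArg (fun v => Cfsg.hermForm n F 2 v (x i' j')) hw
      simp only [hgx, hs, h_add_left, h_add_right hF, h_smul_left, hpol] at h
      by_contra hij
      rw [if_neg hij] at h
      rcases hi' with rfl | rfl <;> fin_cases j' <;> simp [hi, hi.symm] at hne h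
    have h1 := htest i₁ 0 (Or.inr rfl) (fun h => hi h.1.symm)
    have h2 := htest i₁ 1 (Or.inr rfl) (fun h => hi h.1.symm)
    exact absurd (h1.2.symm.trans h2.2) (by decide)

end Cfsg.Agent.S5656
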