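import Cfsg.Statements.S5667
import Cfsg.Agent.Lib.Classical.TensorTrans
import Cfsg.Agent.Lib.Classical.FormSpMember

set_option autoImplicit false
open Cfsg

namespace Cfsg.Agent.S5667

open Matrix in
theorem sesq_symp {F : Type*} [Field F] {m : ℕ} :
    Cfsg.Agent.Classical.TNotMax.Sesq (id : F → F) (Cfsg.sympForm m F) := by
  refine ⟨fun x y v => ?_, fun c x v => ?_, fun v x y => ?_, fun c v x => ?_⟩
  · simp [Cfsg.sympForm, add_dotProduct]
  · simp [Cfsg.sympForm]
  · simp [Cfsg.sympForm, mulVec_add, dotProduct_add]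
  · simp [Cfsg.sympForm, mulVec_smul]

open Matrix in
theorem exists_transvection {F : Type*} [Field F] {m : ℕ} (s : Fin m ⊕ Fin m → F) :
    ∃ g ∈ Cfsg.spGL m F, ∀ x, (g : Matrix (Fin m ⊕ Fin m) (Fin m ⊕ Fin m) F) *ᵥ x =
      x + Cfsg.sympForm m F x s • s := by
  classical
  obtain ⟨hB, hskew, hself, -⟩ := (Cfsg.Agent.Classical.sympForm_isSymplectic (m := m) (F := F))
  obtain ⟨M, hM⟩ : ∃ M : Matrix (Fin m ⊕ Fin m) (Fin m ⊕ Fin m) F,
      M = 1 + vecMulVec s (Matrix.J (Fin m) F *ᵥ s) := ⟨_, rfl⟩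
  have hdot : ∀ x, (Matrix.J (Fin m) F *ᵥ s) ⬝ᵥ x = Cfsg.sympForm m F x s := fun x => dotProduct_comm _ _
  have hdet : M.det = 1 := by
    rw [hM, vecMulVec_eq Unit, det_one_add_replicateCol_mul_replicateRow, hdot, hself, add_zero]
  have hx : ∀ x, M *ᵥ x = x + Cfsg.sympForm m F x s • s := fun x => by
    rw [hM, add_mulVec, one_mulVec, vecMulVec_mulVec, hdot]
    ext i; simp [mul_comm]
  refine ⟨GeneralLinearGroup.mkOfDetNeZero M (by rw [hdet]; exact one_ne_zero), fun u v => ?_, hx⟩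
  show Cfsg.sympForm m F (M *ᵥ u) (M *ᵥ v) = Cfsg.sympForm m F u v
  rw [hx, hx, hB.add_left, hB.add_right, hB.add_right, hB.smul_left, hB.smul_left, hB.smul_right, hB.smul_right,
    hself, hskew s v]
  ring

/-- Over the field with 3 elements and for m ≥ 7, suppose the standard alternating form on F^(2m) is similar, through P and e, to the tensor product of a non-degenerate symplectic form f₁ on F^(n₁) and a non-degenerate symmetric bilinear form f₂ on F^3. Then the elements of Sp_2m(3) in the stabiliser of this tensor decomposition form a subgroup that is not maximal: some subgroup lies strictly between it and Sp_2m(3). -/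
theorem result {F : Type*} [Field F] [Fintype F] (m : ℕ) (hm : 7 ≤ m) (hq : Fintype.card F = 3) (n₁ : ℕ) (e : (Fin m ⊕ Fin m) ≃ Fin n₁ × Fin 3) (P : Matrix.GeneralLinearGroup (Fin m ⊕ Fin m) F) (f₁ : (Fin n₁ → F) → (Fin n₁ → F) → F) (f₂ : (Fin 3 → F) → (Fin 3 → F) → F) (hf₁ : Cfsg.Geo.IsSymplecticForm f₁) (hf₂ : Cfsg.Geo.IsSymmetricForm f₂) (hT : Cfsg.Geo.IsTensorFormStructure id (Cfsg.sympForm m F) f₁ f₂ e P) : ∃ K : Subgroup (Matrix.GeneralLinearGroup (Fin m ⊕ Fin m) F), Cfsg.Geo.tensorProductSubgroup n₁ 3 e P ⊓ Cfsg.spGL m F < K ∧ K < Cfsg.spGL m F := by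
  classical
  have h2 := Cfsg.Agent.Classical.ONotMax.two_ne_zero' hq
  obtain ⟨w, d, hd, hw, hmono⟩ := Cfsg.Agent.Classical.TNotMax.frame_three hq hf₂
  have hn : m + m = n₁ * 3 := by simpa using Fintype.card_congr e
  obtain ⟨v₀, hv₀⟩ : ∃ v : Fin n₁ → F, v ≠ 0 := by
    refine ⟨Pi.single ⟨0, by omega⟩ 1, fun h => one_ne_zero (α := F) ?_⟩
    simpa using congrFun h ⟨0, by omega⟩
  obtain ⟨y₁, hy₁⟩ := (hf₁.nondegenerate v₀ hv₀).1
  rw [← Cfsg.Agent.Classical.TNotMax.tensorProductSubgroup_swap]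
  refine Cfsg.Agent.Classical.TNotMax.trans_not_max (fun _ _ => rfl) sesq_symp
    ⟨hf₂.bilinear.add_left, hf₂.bilinear.smul_left, hf₂.bilinear.add_right, hf₂.bilinear.smul_right⟩
    ⟨hf₁.bilinear.add_left, hf₁.bilinear.smul_left, hf₁.bilinear.add_right, hf₁.bilinear.smul_right⟩
    (fun y hy => (hf₁.nondegenerate y hy).2) (Cfsg.Agent.Classical.TNotMax.structure_swap hT)
    (fun g hg x y => hg x y) (fun s _ => exists_transvection s) hd hw hmono (i₀ := 0) (i₁ := 1) (by decide)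
    (hf₁.alternating v₀) hy₁

end Cfsg.Agent.S5667
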