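import Cfsg.Statements.S5671
import Cfsg.Agent.Lib.Classical.TensorTrans
import Cfsg.Agent.S5656

set_option autoImplicit false
open Cfsg

namespace Cfsg.Agent.S5671

open Matrix Module Cfsg.Geo Cfsg.Agent.Classical Cfsg.Agent.Classical.TNotMax

section
variable {F : Type*} [Field F] [Fintype F] {n : ℕ} {g : (Fin n → F) → (Fin n → F) → F}

theorem sesq (hF : Fintype.card F = 4) (hg : IsUnitaryFormPow 2 g) : Sesq (fun x : F => x ^ 2) g := by
  have h2 := Cfsg.Agent.S5656.two0 hF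
  refine ⟨hg.add_left, hg.smul_left, fun v x y => ?_, fun c v x => ?_⟩
  · rw [hg.herm v (x + y), hg.add_left, hg.herm v x, hg.herm v y]
    linear_combination (g x v * g y v) * h2
  · rw [hg.herm v (c • x), hg.smul_left, hg.herm v x, mul_pow]

theorem self_one (hF : Fintype.card F = 4) (hg : IsUnitaryFormPow 2 g) {v : Fin n → F} (hv : g v v ≠ 0) :
    g v v = 1 := by
  refine mul_left_cancel₀ hv ?_
  conv_rhs => rw [mul_one, hg.herm v v]
  ring

theorem exists_perp (hg : IsUnitaryFormPow 2 g) (hn : 2 ≤ n) (v : Fin n → F) : ∃ u, u ≠ 0 ∧ g u v = 0 := by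
  obtain ⟨L, hL⟩ : ∃ L : (Fin n → F) →ₗ[F] F, ∀ u, L u = g u v :=
    ⟨{ toFun := fun u => g u v, map_add' := fun a b => hg.add_left a b v,
       map_smul' := fun c u => hg.smul_left c u v }, fun _ => rfl⟩
  have h1 := LinearMap.finrank_range_add_finrank_ker L
  have h3 : finrank F (LinearMap.range L) ≤ 1 := (Submodule.finrank_le _).trans_eq (finrank_self F)
  rw [finrank_fin_fun] at h1
  obtain ⟨u, hu, hu0⟩ := (Submodule.ne_bot_iff _).1 (fun h : LinearMap.ker L = ⊥ => by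
    rw [h, finrank_bot] at h1; omega)
  exact ⟨u, hu0, by rw [← hL]; exact hu⟩

theorem exists_aniso (hF : Fintype.card F = 4) (hg : IsUnitaryFormPow 2 g) (hn : 0 < n) :
    ∃ v, g v v = 1 := by
  classical
  by_contra hc
  simp only [not_exists] at hc
  have h0 : ∀ v, g v v = 0 := fun v => by
    by_contra h
    exact hc v (self_one hF hg h)
  obtain ⟨γ, -, hγ⟩ : ∃ γ ∈ (Finset.univ : Finset F), γ ∉ ({0, 1} : Finset F) :=
    Finset.exists_mem_notMem_of_card_lt_card (Finset.card_le_two.trans_lt (by rw [Finset.card_univ, hF]; norm_num))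
  simp only [Finset.mem_insert, Finset.mem_singleton, not_or] at hγ
  obtain ⟨u, hu⟩ : ∃ u : Fin n → F, u ≠ 0 :=
    ⟨Pi.single ⟨0, hn⟩ 1, fun h => one_ne_zero (α := F) (by simpa using congrFun h ⟨0, hn⟩)⟩
  obtain ⟨v, hv⟩ := (hg.nondegenerate u hu).2
  have hs := sesq hF hg
  refine hc ((γ * (g u v)⁻¹) • u + v) ?_
  rw [hs.add_left, hs.add_right, hs.add_right, hs.smul_left, hs.smul_left, hs.smul_right, hs.smul_right, h0, h0,
    hg.herm v u]
  have h3 : γ * γ ^ 2 = 1 := Cfsg.Agent.S5656.cube hF hγ.1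
  have h4 : γ ^ 2 + γ + 1 = 0 := (mul_eq_zero.1 (show (γ - 1) * (γ ^ 2 + γ + 1) = 0 by
    linear_combination h3)).resolve_left (sub_ne_zero.2 hγ.2)
  linear_combination h4 - Cfsg.Agent.S5656.two0 hF +
    (γ + γ ^ 2 * ((g u v)⁻¹ * g u v + 1)) * inv_mul_cancel₀ hv

theorem exists_iso (hF : Fintype.card F = 4) (hg : IsUnitaryFormPow 2 g) (hn : 2 ≤ n) :
    ∃ v₀ y, g v₀ v₀ = 0 ∧ g y v₀ ≠ 0 := by
  have hs := sesq hF hg
  suffices h : ∃ v₀, v₀ ≠ 0 ∧ g v₀ v₀ = 0 by
    obtain ⟨v₀, h0, h1⟩ := h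
    obtain ⟨y, hy⟩ := (hg.nondegenerate v₀ h0).1
    exact ⟨v₀, y, h1, hy⟩
  obtain ⟨v, hv⟩ := exists_aniso hF hg (by omega)
  obtain ⟨u, hu0, hu⟩ := exists_perp hg hn v
  by_cases huu : g u u = 0
  · exact ⟨u, hu0, huu⟩
  refine ⟨u + v, fun h => ?_, ?_⟩
  · have h' := congrArg (fun x => g x v) h
    simp only [hs.add_left, hs.zero_left, hu, hv, zero_add] at h'
    exact one_ne_zero h'
  · rw [hs.add_left, hs.add_right, hs.add_right, hu, hg.herm v u, hu, hv, self_one hF hg huu]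
    linear_combination Cfsg.Agent.S5656.two0 hF

end

theorem frame_two {F : Type*} [Field F] [Fintype F] (hF : Fintype.card F = 4) {g : (Fin 2 → F) → (Fin 2 → F) → F}
    (hg : IsUnitaryFormPow 2 g) :
    ∃ w : Fin 2 → Fin 2 → F, (∀ j l, g (w j) (w l) = if j = l then 1 else 0) ∧
      ∀ (a : GL (Fin 2) F) (lam : F), lam ≠ 0 →
        (∀ u u', g ((a : Matrix (Fin 2) (Fin 2) F) *ᵥ u) ((a : Matrix (Fin 2) (Fin 2) F) *ᵥ u') = lam * g u u') →
        ∀ j, ∃ (l : Fin 2) (μ : F), (a : Matrix (Fin 2) (Fin 2) F) *ᵥ w j = μ • w l := by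
  have hs := sesq hF hg
  have h2 := Cfsg.Agent.S5656.two0 hF
  obtain ⟨v, hv⟩ := exists_aniso hF hg (by norm_num)
  obtain ⟨u, hu0, hu⟩ := exists_perp hg le_rfl v
  have hvu : g v u = 0 := by rw [hg.herm, hu]; ring
  have hind : LinearIndependent F ![v, u] := LinearIndependent.pair_iff.2 fun s t h => by
    have h1 := congrArg (fun x => g x v) h
    simp only [hs.add_left, hs.smul_left, hs.zero_left, hu, hv, mul_zero, add_zero, mul_one] at h1
    refine ⟨h1, ?_⟩
    rw [h1, zero_smul, zero_add] at h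
    exact (smul_eq_zero.1 h).resolve_right hu0
  have hspan := hind.span_eq_top_of_card_eq_finrank' (by simp)
  have hex : ∀ x, ∃ s : Fin 2 → F, s 0 • v + s 1 • u = x := fun x => by
    have hx : x ∈ Submodule.span F (Set.range ![v, u]) := hspan ▸ Submodule.mem_top
    obtain ⟨s, hs⟩ := (Submodule.mem_span_range_iff_exists_fun F).1 hx
    exact ⟨s, by rw [← hs, Fin.sum_univ_two]; rfl⟩
  have huu : g u u = 1 := self_one hF hg fun h => by
    obtain ⟨x, hx⟩ := (hg.nondegenerate u hu0).2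
    obtain ⟨s, rfl⟩ := hex x
    rw [hs.add_right, hs.smul_right, hs.smul_right, hu, h, mul_zero, mul_zero, add_zero] at hx
    exact hx rfl
  refine ⟨![v, u], fun j l => ?_, fun a lam hlam hsim j => ?_⟩
  · fin_cases j <;> fin_cases l <;> simp [hv, hu, hvu, huu]
  obtain ⟨s, hs'⟩ := hex ((a : Matrix (Fin 2) (Fin 2) F) *ᵥ ![v, u] j)
  have hjj : g (![v, u] j) (![v, u] j) = 1 := by fin_cases j <;> simp [hv, huu]
  have h1 := hsim (![v, u] j) (![v, u] j)
  rw [hjj, mul_one, ← hs'] at h1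
  simp only [hs.add_left, hs.add_right, hs.smul_left, hs.smul_right, hu, hvu, hv, huu, mul_zero, add_zero,
    zero_add, mul_one] at h1
  by_cases h0 : s 0 = 0
  · exact ⟨1, s 1, by rw [← hs', h0]; simp⟩
  by_cases h1' : s 1 = 0
  · exact ⟨0, s 0, by rw [← hs', h1']; simp⟩
  rw [Cfsg.Agent.S5656.cube hF h0, Cfsg.Agent.S5656.cube hF h1'] at h1
  exact absurd (h1.symm.trans (by linear_combination h2)) hlam

/-- Let F be the field with 4 elements (q = 2) and n = 2 n₂ ≥ 13. Suppose the standard unitary form Σ u_i v_i² on F^n is similar, through P and e, to the tensor product of non-degenerate unitary forms f₁ on F^2 and f₂ on F^(n₂). Then the elements of SU_n(2) in the stabiliser of this tensor decomposition form a subgroup that is not maximal: some subgroup lies strictly between it and SU_n(2). -/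
theorem result {F : Type*} [Field F] [Fintype F] (n : ℕ) (hF : Fintype.card F = 4) (hn : 13 ≤ n) (n₂ : ℕ) (e : Fin n ≃ Fin 2 × Fin n₂) (P : Matrix.GeneralLinearGroup (Fin n) F) (f₁ : (Fin 2 → F) → (Fin 2 → F) → F) (f₂ : (Fin n₂ → F) → (Fin n₂ → F) → F) (hf₁ : Cfsg.Geo.IsUnitaryFormPow 2 f₁) (hf₂ : Cfsg.Geo.IsUnitaryFormPow 2 f₂) (hT : Cfsg.Geo.IsTensorFormStructure (fun x : F => x ^ 2) (Cfsg.hermForm n F 2) f₁ f₂ e P) : ∃ K : Subgroup (Matrix.GeneralLinearGroup (Fin n) F), Cfsg.Geo.tensorProductSubgroup 2 n₂ e P ⊓ (Cfsg.GU n F 2 ⊓ Cfsg.Geo.specialLinear (Fin n) F) < K ∧ K < (Cfsg.GU n F 2 ⊓ Cfsg.Geo.specialLinear (Fin n) F) := by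
  classical
  obtain ⟨w, hw, hmono⟩ := frame_two hF hf₁
  have hn₂ : n = 2 * n₂ := by simpa using Fintype.card_congr e
  obtain ⟨v₀, y₁, hv₀, hy₁⟩ := exists_iso hF hf₂ (by omega)
  refine Cfsg.Agent.Classical.TNotMax.trans_not_max (fun x y => mul_pow x y 2)
    ⟨Cfsg.Agent.S5656.h_add_left, Cfsg.Agent.S5656.h_smul_left, fun v x y => Cfsg.Agent.S5656.h_add_right hF v x y,
      fun c v x => Cfsg.Agent.S5656.h_smul_right c v x⟩
    (sesq hF hf₁) (sesq hF hf₂) (fun y hy => (hf₂.nondegenerate y hy).2) hT (fun g hg x y => hg.1 x y)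
    (fun s hs => Cfsg.Agent.S5656.exists_trans hF hs) one_ne_zero hw hmono (i₀ := 0) (i₁ := 1) (by decide) hv₀ hy₁

end Cfsg.Agent.S5671
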