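import Cfsg.Statements.S5674
import Cfsg.Agent.Lib.Classical.RadicalQuad
import Cfsg.Agent.Lib.Classical.WittIndex
import Cfsg.Agent.Lib.Classical.OrthogonalOdd
-- import your own Cfsg.Agent.* helpers here

set_option autoImplicit false
open Cfsg

namespace Cfsg.Agent.S5674

/-- Let F be a finite field of odd order, m ≥ 6, Q the standard quadratic form x₀² + Σ x_i y_i on F^(2m+1) and Ω the commutator subgroup of its isometry group inside GL_(2m+1)(F). The elements of Ω stabilising a non-zero subspace on which Q vanishes form a maximal subgroup of Ω. -/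
theorem result {F : Type*} [Field F] [Fintype F] (hodd : Odd (Fintype.card F)) (m : ℕ) (hm : 6 ≤ m) (W : Submodule F (Unit ⊕ (Fin m ⊕ Fin m) → F)) (hW0 : W ≠ ⊥) (hW : Cfsg.Geo.IsTotallySingularQuad (Cfsg.quadFormOdd m F) W) : Cfsg.Geo.IsMaximalIn (Cfsg.Geo.omegaGL (Cfsg.quadFormOdd m F)) (Cfsg.Geo.subspaceStabilizer W ⊓ Cfsg.Geo.omegaGL (Cfsg.quadFormOdd m F)) := by
  have h2 : (2 : F) ≠ 0 := fun h => by
    haveI := ringChar.charP F
    haveI : CharP F 2 := CharTwo.of_one_ne_zero_of_two_eq_zero one_ne_zero h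
    exact (Nat.not_even_iff_odd.mpr hodd) (Nat.even_iff.mpr (FiniteField.even_card_of_char_two (ringChar.eq F 2)))
  classical
  obtain ⟨Qf, hQf, hPND⟩ := Cfsg.Agent.Classical.ONotMax.exists_qform (Cfsg.Agent.Classical.quadFormOdd_nondegenerate (m := m) h2)
  rw [← hQf] at hW ⊢
  refine Cfsg.Agent.Classical.Radical.isMaximal_quad hPND (by simp only [Fintype.card_sum, Fintype.card_fin, Fintype.card_unit]; omega) hW0 hW fun u hu huW huo => ?_
  have hext : ∀ x ∈ W ⊔ Submodule.span F {u}, Qf x = 0 := fun x hx => by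
    obtain ⟨w, hw, z, hz, rfl⟩ := Submodule.mem_sup.mp hx
    obtain ⟨r, rfl⟩ := Submodule.mem_span_singleton.mp hz
    rw [QuadraticMap.map_add ⇑Qf, QuadraticMap.map_smul, hu, hW w hw, QuadraticMap.polar_smul_right,
      QuadraticMap.polar_comm, huo w hw]
    simp
  have hlt : Module.finrank F W < Module.finrank F ↥(W ⊔ Submodule.span F {u}) :=
    Submodule.finrank_lt_finrank_of_lt (lt_of_le_of_ne le_sup_left fun e => huW (e ▸ Submodule.mem_sup_right
      (Submodule.mem_span_singleton_self u)))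
  have hle := Cfsg.Agent.Classical.Witt.finrank_le_half Qf (Cfsg.Agent.Classical.ORefl.nondeg hPND) hext
  rw [Module.finrank_fintype_fun_eq_card] at hle
  simp only [Fintype.card_sum, Fintype.card_fin, Fintype.card_unit] at hle ⊢
  omega

end Cfsg.Agent.S5674
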