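import Cfsg.Statements.S5675
import Cfsg.Agent.Lib.Classical.RadicalQuadCases
import Cfsg.Agent.Lib.Classical.OrthogonalOdd
-- import your own Cfsg.Agent.* helpers here

set_option autoImplicit false
open Cfsg

namespace Cfsg.Agent.S5675

/-- Let F be a finite field of odd order q, m ≥ 6, Q the standard quadratic form on F^(2m+1) and Ω the commutator subgroup of its isometry group. Let W be a non-zero subspace of even dimension on which the polar form of Q is non-degenerate; exclude the case q = 3, dim W = 2 with Q vanishing on some line of W (a plus-type plane). Then the elements of Ω stabilising W (equivalently, stabilising its orthogonal complement, of odd dimension) form a maximal subgroup of Ω. -/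
theorem result {F : Type*} [Field F] [Fintype F] (hodd : Odd (Fintype.card F)) (m : ℕ) (hm : 6 ≤ m) (W : Submodule F (Unit ⊕ (Fin m ⊕ Fin m) → F)) (hW0 : W ≠ ⊥) (hev : Even (Module.finrank F W)) (hW : Cfsg.Geo.IsNondegenerateOn (QuadraticMap.polar (Cfsg.quadFormOdd m F)) W) (hex : ¬ (Fintype.card F = 3 ∧ Module.finrank F W = 2 ∧ Cfsg.Geo.IsPlusTypeOn (Cfsg.quadFormOdd m F) W)) : Cfsg.Geo.IsMaximalIn (Cfsg.Geo.omegaGL (Cfsg.quadFormOdd m F)) (Cfsg.Geo.subspaceStabilizer W ⊓ Cfsg.Geo.omegaGL (Cfsg.quadFormOdd m F)) := by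
  classical
  have h2 : (2 : F) ≠ 0 := fun h => by
    haveI := ringChar.charP F
    haveI : CharP F 2 := CharTwo.of_one_ne_zero_of_two_eq_zero one_ne_zero h
    exact (Nat.not_even_iff_odd.mpr hodd) (Nat.even_iff.mpr (FiniteField.even_card_of_char_two (ringChar.eq F 2)))
  obtain ⟨Qf, hQf, hPND⟩ := Cfsg.Agent.Classical.ONotMax.exists_qform
    (Cfsg.Agent.Classical.quadFormOdd_nondegenerate (m := m) h2)
  rw [← hQf] at hW hex ⊢
  obtain ⟨j, hj⟩ := hev
  refine Cfsg.Agent.Classical.Radical.isMaximal_quadAny hPND
    (by simp only [Fintype.card_sum, Fintype.card_fin, Fintype.card_unit]; omega) hW0 (fun e => ?_) hW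
    (fun h => ?_) (fun hq U hU hUnd hUp hor => ?_)
  · rw [e, finrank_top, Module.finrank_fintype_fun_eq_card] at hj
    simp only [Fintype.card_sum, Fintype.card_fin, Fintype.card_unit] at hj
    omega
  · simp only [Fintype.card_sum, Fintype.card_fin, Fintype.card_unit] at h
    omega
  · rcases hor with rfl | ⟨-, h⟩
    · refine hex ⟨?_, hU, hUp⟩
      have := Fintype.one_lt_card (α := F)
      obtain ⟨k, hk⟩ := hodd
      omega
    · simp only [Fintype.card_sum, Fintype.card_fin, Fintype.card_unit] at h
      omega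

end Cfsg.Agent.S5675
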