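import Cfsg.Statements.S5678
import Cfsg.Agent.Lib.Classical.OrthNotMax
import Cfsg.Agent.Lib.Classical.OrthForms

set_option autoImplicit false
open Cfsg

namespace Cfsg.Agent.S5678

/-- Let F be the field with 3 elements, m ≥ 6, Q the standard quadratic form on F^(2m+1) and Ω the commutator subgroup of its isometry group. Let D be a decomposition of F^(2m+1) into t pairwise orthogonal, pairwise Q-isometric 3-dimensional subspaces on which the polar form is non-degenerate. Then the elements of Ω permuting the members of D form a subgroup that is not maximal: some subgroup lies strictly between it and Ω. -/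
theorem result {F : Type*} [Field F] [Fintype F] (hq : Fintype.card F = 3) (m : ℕ) (hm : 6 ≤ m) {t : ℕ} (D : Fin t → Submodule F (Unit ⊕ (Fin m ⊕ Fin m) → F)) (hD : Cfsg.Geo.IsOrthogonalMDecomposition (Cfsg.quadFormOdd m F) 3 D) : ∃ K : Subgroup (Matrix.GeneralLinearGroup (Unit ⊕ (Fin m ⊕ Fin m)) F), Cfsg.Geo.decompositionStabilizer D ⊓ Cfsg.Geo.omegaGL (Cfsg.quadFormOdd m F) < K ∧ K < Cfsg.Geo.omegaGL (Cfsg.quadFormOdd m F) := by
  rw [← Classical.OOmega.coe_odd] at hD ⊢
  have hQ := Classical.OOmega.formOf_pnd (m := m) (e := Equiv.sumComm Unit (Fin m ⊕ Fin m))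
    (Classical.OOmega.pnd_line (Classical.ONotMax.two_ne_zero' hq))
  obtain ⟨c, y, hc, hy, hval, hperp⟩ := Classical.ONotMax.space_frame hq (hD.decomp.decomp.finrank_eq ⟨0, by
    have := hD.decomp.decomp.two_le; omega⟩) (hD.decomp.nondegenerate _)
  obtain ⟨x, hx, hxv, hxp⟩ := Classical.ONotMax.frame_transport hD.isometric _ y hy hval hperp
  exact Classical.ONotMax.frame_not_max hQ hq hD.decomp.decomp hD.decomp.orthogonal (by norm_num) le_rfl hc x hx hxv hxp

end Cfsg.Agent.S5678
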