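import Cfsg.Statements.S5679
import Cfsg.Agent.Lib.Classical.MonomFrame.Main
import Cfsg.Agent.Lib.Classical.OrthogonalOdd

set_option autoImplicit false
open Cfsg Cfsg.Agent.Classical Cfsg.Agent.Classical.OOmega Module

namespace Cfsg.Agent.S5679

/-- Let F be a field of odd prime order p, m ≥ 6, Q the standard quadratic form on F^(2m+1) and Ω the commutator subgroup of its isometry group. Let D be a decomposition of F^(2m+1) into pairwise orthogonal lines on which Q takes non-zero values lying in one square class (pairwise Q-isometric non-degenerate 1-spaces). Then the elements of Ω permuting these lines form a maximal subgroup of Ω. -/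
theorem result {F : Type*} [Field F] [Fintype F] (hodd : Odd (Fintype.card F)) (m : ℕ) (hm : 6 ≤ m) (hprime : (Fintype.card F).Prime) {t : ℕ} (D : Fin t → Submodule F (Unit ⊕ (Fin m ⊕ Fin m) → F)) (hD : Cfsg.Geo.IsOrthogonalMDecomposition (Cfsg.quadFormOdd m F) 1 D) : Cfsg.Geo.IsMaximalIn (Cfsg.Geo.omegaGL (Cfsg.quadFormOdd m F)) (Cfsg.Geo.decompositionStabilizer D ⊓ Cfsg.Geo.omegaGL (Cfsg.quadFormOdd m F)) := by
  have h2 : (2 : F) ≠ 0 := fun h => by
    have h1 : ringChar F ∣ 2 := (ringChar.spec F 2).mp (by exact_mod_cast h)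
    rcases (Nat.dvd_prime Nat.prime_two).mp h1 with h' | h'
    · exact CharP.ringChar_ne_one h'
    · have := FiniteField.even_card_iff_char_two.mp h'
      exact Nat.not_even_iff_odd.mpr hodd (Nat.even_iff.mpr this)
  have hpn : (Nat.card F).Prime := by rwa [Nat.card_eq_fintype_card]
  obtain ⟨Qf, hQf, hQ⟩ := ONotMax.exists_qform (Cfsg.Agent.Classical.quadFormOdd_nondegenerate (m := m) h2)
  rw [← hQf] at hD ⊢
  refine MFrame.isMaximalIn_of_frame h2 hQ (by simp; omega) hD fun B H hH hM => ?_
  have ht : t = 2 * m + 1 := by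
    rw [← B.finrank_eq, Module.finrank_fintype_fun_eq_card]
    simp; omega
  exact B.mono_or_ge_odd hpn ⟨m, ht⟩ (by omega) hH hM

end Cfsg.Agent.S5679
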