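import Cfsg.Statements.S5680
import Cfsg.Agent.Lib.Classical.FieldExt.Orth.Matrix
import Cfsg.Agent.Lib.Classical.OrthogonalOdd
-- import your own Cfsg.Agent.* helpers here

set_option autoImplicit false
open Cfsg

namespace Cfsg.Agent.S5680

/-- Let F be a finite field of odd order, m ≥ 6, Q the standard quadratic form on F^(2m+1) and Ω the commutator subgroup of its isometry group. Let K be a subfield of the algebra of (2m+1) × (2m+1) matrices over F containing the scalars, of prime degree r over F with r ≠ 2m + 1, whose elements are self-adjoint for the polar form of Q. Then the elements of Ω normalising K form a maximal subgroup of Ω. -/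
theorem result {F : Type*} [Field F] [Fintype F] (hodd : Odd (Fintype.card F)) (m : ℕ) (hm : 6 ≤ m) (r : ℕ) (hr : r.Prime) (hrn : 2 * m + 1 ≠ r) (K : Subalgebra F (Matrix (Unit ⊕ (Fin m ⊕ Fin m)) (Unit ⊕ (Fin m ⊕ Fin m)) F)) (hK : Cfsg.Geo.IsFieldSubalgebra r K) (hsa : Cfsg.Geo.IsSelfAdjointFor (QuadraticMap.polar (Cfsg.quadFormOdd m F)) K) : Cfsg.Geo.IsMaximalIn (Cfsg.Geo.omegaGL (Cfsg.quadFormOdd m F)) (Cfsg.Geo.subalgebraNormalizer K ⊓ Cfsg.Geo.omegaGL (Cfsg.quadFormOdd m F)) := by
  classical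
  have h2 : (2 : F) ≠ 0 := fun h => by
    haveI := ringChar.charP F
    haveI : CharP F 2 := CharTwo.of_one_ne_zero_of_two_eq_zero one_ne_zero h
    exact (Nat.not_even_iff_odd.mpr hodd) (Nat.even_iff.mpr (FiniteField.even_card_of_char_two (ringChar.eq F 2)))
  refine Cfsg.Agent.Classical.FieldExt.Orth.extension_normalizer_maximal _
    (Cfsg.Agent.Classical.quadFormOdd_nondegenerate h2) h2 r hr (fun k hk => ?_) K hK hsa
  simp only [Fintype.card_sum, Fintype.card_fin, Fintype.card_unit] at hk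
  have hko : Odd r ∧ Odd k := Nat.odd_mul.mp ⟨m, by omega⟩
  obtain ⟨⟨i, hi⟩, ⟨j, hj⟩⟩ := hko
  have hk1 : k ≠ 1 := fun e => hrn (by rw [← show r * k = r from by rw [e, mul_one]]; omega)
  have hr2 := hr.two_le
  refine ⟨by omega, Or.inl ?_⟩
  rcases Nat.lt_or_ge k 5 with h | h
  · have hk3 : k = 3 := by omega
    subst hk3
    omega
  · have : (k - 2) * 3 ≤ (k - 2) * r := Nat.mul_le_mul_left _ (by omega)
    omega

end Cfsg.Agent.S5680
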