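import Cfsg.Statements.S5684
import Cfsg.Agent.Lib.Classical.OTPow.Final
import Cfsg.Agent.Lib.Classical.OrthogonalOdd
import Cfsg.Agent.Lib.Classical.FormClassify

set_option autoImplicit false
open Cfsg
open scoped Matrix

namespace Cfsg.Agent.S5684

/-- Let F be a finite field of odd order q, m ≥ 6, Q the standard quadratic form on F^(2m+1) and Ω the commutator subgroup of its isometry group. Suppose the polar form of Q is similar, through a change of basis P and a bijection of index sets e, to the t-fold tensor power (t ≥ 2) of a non-degenerate symmetric bilinear form f₁ on F^k with k ≥ 3 and (q, k) ≠ (3, 3). Then the elements of Ω in the stabiliser of this decomposition form a maximal subgroup of Ω. -/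
theorem result {F : Type*} [Field F] [Fintype F] (hodd : Odd (Fintype.card F)) (m : ℕ) (hm : 6 ≤ m) (k t : ℕ) (hk : 3 ≤ k) (ht : 2 ≤ t) (hex : ¬ (Fintype.card F = 3 ∧ k = 3)) (e : (Unit ⊕ (Fin m ⊕ Fin m)) ≃ (Fin t → Fin k)) (P : Matrix.GeneralLinearGroup (Unit ⊕ (Fin m ⊕ Fin m)) F) (f₁ : (Fin k → F) → (Fin k → F) → F) (hf₁ : Cfsg.Geo.IsSymmetricForm f₁) (hT : Cfsg.Geo.IsTensorPowerFormStructure id (QuadraticMap.polar (Cfsg.quadFormOdd m F)) f₁ e P) : Cfsg.Geo.IsMaximalIn (Cfsg.Geo.omegaGL (Cfsg.quadFormOdd m F)) (Cfsg.Geo.tensorWreathSubgroup k t e P ⊓ Cfsg.Geo.omegaGL (Cfsg.quadFormOdd m F)) := by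
  classical
  have h2 : (2 : F) ≠ 0 := fun h => by
    have hc : ringChar F = 2 := CharP.ringChar_of_prime_eq_zero Nat.prime_two (by exact_mod_cast h)
    exact (Nat.not_even_iff_odd.2 hodd) (Nat.even_iff.2 (FiniteField.even_card_of_char_two hc))
  obtain ⟨Qf, hQf, -⟩ := Cfsg.Agent.Classical.ONotMax.exists_qform
    (Cfsg.Agent.Classical.quadFormOdd_nondegenerate (F := F) (m := m) h2)
  rw [← hQf] at hT ⊢
  have hko : Odd k := by
    have h := Fintype.card_congr e
    simp only [Fintype.card_sum, Fintype.card_unit, Fintype.card_fin, Fintype.card_fun] at h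
    rcases Nat.even_or_odd k with he | ho
    · exact absurd (he.pow_of_ne_zero (show t ≠ 0 by omega)) (Nat.not_even_iff_odd.2 ⟨m, by omega⟩)
    · exact ho
  have hdet : (Cfsg.Geo.gramMatrix f₁).det ≠ 0 :=
    Cfsg.Agent.Classical.det_gram_ne_zero (RingEquiv.refl F)
      (Cfsg.Agent.Classical.reflexForm_of_symmetric hf₁).semi hf₁.nondegenerate
  obtain ⟨c, A, hc, hA⟩ := Cfsg.Agent.Classical.symmetric_congr h2 hko hdet (fun i j => hf₁.symm _ _)
  obtain ⟨c₀, hc₀, hT⟩ := hT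
  refine Cfsg.Agent.Classical.OTPow.isMaximalIn_of_ext (d := fun _ => 1) (c := c₀ * c ^ t / 2) ht Qf e P A
    ⟨h2, hk, fun _ => one_ne_zero, fun _ _ => rfl, fun h4 _ hi => absurd (Or.inr hko) hi, hex⟩
    (div_ne_zero (mul_ne_zero hc₀ (pow_ne_zero _ hc)) h2) (fun x => ?_)
    (fun he => absurd he (Nat.not_even_iff_odd.2 hko))
  obtain ⟨z, hz⟩ : ∃ z, z = ((Cfsg.Agent.Classical.OTPow.pureG (fun _ : Fin t => A) :
      Matrix.GeneralLinearGroup (Fin t → Fin k) F) : Matrix (Fin t → Fin k) (Fin t → Fin k) F) *ᵥ x := ⟨_, rfl⟩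
  have h := hT z z
  rw [QuadraticMap.polar_self, nsmul_eq_mul] at h
  have hsum : (∑ a, ∑ b, z a * (∏ i, Cfsg.Geo.gramMatrix f₁ (a i) (b i)) * id (z b)) =
      z ⬝ᵥ (Cfsg.Agent.Classical.OTPow.pureS (fun _ : Fin t => Cfsg.Geo.gramMatrix f₁) *ᵥ z) := by
    simp only [dotProduct, Matrix.mulVec, Cfsg.Agent.Classical.OTPow.pureS_apply, id, Finset.mul_sum]
    exact Finset.sum_congr rfl fun a _ => Finset.sum_congr rfl fun b _ => by ring
  rw [hsum, hz, Cfsg.Agent.Classical.OTPow.mulVec_gram, Cfsg.Agent.Classical.OTPow.pureG_val,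
    Cfsg.Agent.Classical.OTPow.pureS_transpose, Cfsg.Agent.Classical.OTPow.pureS_mul,
    Cfsg.Agent.Classical.OTPow.pureS_mul, hA, Cfsg.Agent.Classical.OTPow.pureS_smul,
    Cfsg.Agent.Classical.OTPow.pureS_one, Finset.prod_const, Finset.card_univ, Fintype.card_fin,
    Matrix.smul_mulVec, Matrix.one_mulVec, dotProduct_smul, smul_eq_mul, Nat.cast_ofNat] at h
  rw [← hz, Cfsg.Agent.Classical.OTPow.QW_apply, eq_comm, div_mul_eq_mul_div, div_eq_iff h2]
  rw [hz]
  simp only [Cfsg.Agent.Classical.OTPow.wt, Finset.prod_const_one, one_mul]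
  rw [Cfsg.Agent.Classical.OTPow.pureG_val, ← mul_comm (2 : F), h]
  simp only [dotProduct]
  ring

end Cfsg.Agent.S5684
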