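import Cfsg.Statements.S5686
import Cfsg.Agent.Lib.Classical.RadicalQuadSplit
import Cfsg.Agent.Lib.Classical.WittIndex
import Cfsg.Agent.Lib.Small.Orth.Subspaces
-- import your own Cfsg.Agent.* helpers here

set_option autoImplicit false
open Cfsg
open scoped Matrix

namespace Cfsg.Agent.S5686

/-- Let F be a finite field with q elements, n ≥ 13 even, Q a non-degenerate quadratic form on F^n of plus type (some subspace of dimension n/2 is totally singular), and Ω the commutator subgroup of the isometry group of Q, viewed inside GL_n(F). The elements of Ω stabilising a subspace of dimension n/2 − 1 on which Q vanishes form a subgroup that is not maximal: some subgroup lies strictly between it and Ω. -/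
theorem result {F : Type*} [Field F] [Fintype F] {n : ℕ} (hn : 13 ≤ n) (heven : Even n) (Q : (Fin n → F) → F) (hQ : Cfsg.Geo.IsNondegenerateQuadraticForm Q) (hplus : Cfsg.Geo.IsPlusTypeOn Q ⊤) (W : Submodule F (Fin n → F)) (hW : Cfsg.Geo.IsTotallySingularQuad Q W) (hdim : 2 * (Module.finrank F W + 1) = n) : ∃ K : Subgroup (Matrix.GeneralLinearGroup (Fin n) F), Cfsg.Geo.subspaceStabilizer W ⊓ Cfsg.Geo.omegaGL Q < K ∧ K < Cfsg.Geo.omegaGL Q := by
  classical
  obtain ⟨Qf, hQf, hPND⟩ := Cfsg.Agent.Classical.ONotMax.exists_qform hQ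
  rw [← hQf] at hW hplus ⊢
  haveI : Nonempty (Fin n) := ⟨⟨0, by omega⟩⟩
  obtain ⟨L, -, hL, hLd⟩ := hplus
  rw [finrank_top, Module.finrank_fin_fun] at hLd
  obtain ⟨U, hWU, hUd, hU⟩ := Cfsg.Agent.Classical.Witt.exists_extend Qf (Cfsg.Agent.Classical.ORefl.nondeg hPND)
    (U := W) (L := L) hW hL (by omega)
  have hU' : Cfsg.Geo.IsTotallySingularQuad (⇑Qf) U := hU
  have hUo : ∀ a ∈ U, ∀ b ∈ U, QuadraticMap.polar (⇑Qf) a b = 0 := fun a ha b hb => by
    rw [QuadraticMap.polar, hU _ (add_mem ha hb), hU a ha, hU b hb, sub_zero, sub_zero]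
  have hUm : 2 * Module.finrank F U = n := by omega
  -- no element of Ω interchanges the two completions
  have hfix : Cfsg.Geo.subspaceStabilizer W ⊓ Cfsg.Geo.omegaGL ⇑Qf ≤
      Cfsg.Geo.subspaceStabilizer U ⊓ Cfsg.Geo.omegaGL ⇑Qf := by
    rintro g ⟨hgW, hg⟩
    refine ⟨?_, hg⟩
    obtain ⟨x, hx, rfl⟩ := hg
    rw [SetLike.mem_coe, Cfsg.Agent.Classical.OOmega.omega_eq_map] at hx
    obtain ⟨y, hy, rfl⟩ := hx
    obtain ⟨vs, hvs, rfl⟩ := Cfsg.Agent.Small.Orth.exists_list hPND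
      (Or.inr (by rw [Module.finrank_fin_fun]; omega)) y
    have hev := ((Cfsg.Agent.Small.Orth.mem_commutator_iff hPND vs hvs).mp hy).1
    obtain ⟨k, hk⟩ : ∃ k, n = 2 * k := ⟨Module.finrank F U, hUm.symm⟩
    have hVd : Module.finrank F (Fin n → F) = 2 * k := by rw [Module.finrank_fin_fun, hk]
    have hpar := (Cfsg.Agent.Small.Orth.even_inter_iff hPND hVd hU (by omega) vs hvs).mpr hev
    obtain ⟨z, hz⟩ : ∃ z : (Fin n → F) →ₗ[F] (Fin n → F),
        z = ((Cfsg.Agent.Small.Orth.prodRf Qf vs).1 : (Fin n → F) →ₗ[F] Fin n → F) := ⟨_, rfl⟩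
    rw [← hz] at hpar
    have hzmat : ∀ u, (((Cfsg.Agent.Classical.ORefl.toMat Qf (Cfsg.Agent.Small.Orth.prodRf Qf vs)).1 :
        Matrix.GeneralLinearGroup (Fin n) F) : Matrix (Fin n) (Fin n) F) *ᵥ u = z u := fun u => by
      rw [Cfsg.Agent.Classical.ORefl.toMat_apply, hz]; rfl
    have hWz : W ≤ U ⊓ U.map z := by
      intro w hw
      have h1 := Cfsg.Agent.Classical.mem_subspaceStabilizer_iff.mp (inv_mem hgW) w hw
      refine ⟨hWU hw, _, hWU h1, ?_⟩
      rw [← hzmat]
      exact Cfsg.Agent.Classical.gl_mulVec_inv_cancel _ w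
    have h1 := Submodule.finrank_mono hWz
    have h2 := Submodule.finrank_mono (inf_le_left : U ⊓ U.map z ≤ U)
    rw [Nat.even_iff] at hpar
    have h3 : U ⊓ U.map z = U := Submodule.eq_of_le_of_finrank_le inf_le_left (by omega)
    have h4 : U.map z = U := (Submodule.eq_of_le_of_finrank_le (inf_eq_left.mp h3) (Submodule.finrank_map_le z U)).symm
    refine Cfsg.Agent.Classical.mem_subspaceStabilizer_iff.mpr fun u hu => ?_
    have h5 : z u ∈ U.map z := Submodule.mem_map_of_mem hu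
    rw [h4, ← hzmat] at h5
    exact h5
  obtain ⟨v, hvU, hvW⟩ : ∃ v ∈ U, v ∉ W := by
    by_contra hcon
    push Not at hcon
    have := Submodule.finrank_mono (show U ≤ W from hcon)
    omega
  have hv0 : v ≠ 0 := fun e => hvW (e ▸ W.zero_mem)
  obtain ⟨w, hw, hw0⟩ := Submodule.exists_mem_ne_zero_of_ne_bot (p := W) fun e => by
    rw [e, finrank_bot] at hdim; omega
  have hwv : w ∉ Submodule.span F {v} := fun h => by
    obtain ⟨r, hr⟩ := Submodule.mem_span_singleton.mp h
    have hr0 : r ≠ 0 := fun e => hw0 (by rw [← hr, e, zero_smul])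
    exact hvW (by rw [← one_smul F v, ← inv_mul_cancel₀ hr0, mul_smul, hr]; exact W.smul_mem _ hw)
  have hf := Cfsg.Agent.Classical.Radical.reflex_polar hPND
  obtain ⟨y, hy, hyw⟩ : ∃ y ∈ hf.perp (Submodule.span F {v}), QuadraticMap.polar (⇑Qf) w y ≠ 0 := by
    by_contra hcon
    push Not at hcon
    exact hwv (hf.perp_perp (Submodule.span F {v}) ▸
      (show w ∈ hf.perp (hf.perp (Submodule.span F {v})) from hcon))
  have hvy : QuadraticMap.polar (⇑Qf) v y = 0 := by
    rw [QuadraticMap.polar_comm]; exact hy v (Submodule.mem_span_singleton_self v)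
  obtain ⟨g, hg, hgx⟩ := Cfsg.Agent.Classical.ONotMax.exists_siegel hPND (by rw [Fintype.card_fin]; omega) (hU v hvU) hvy
  refine ⟨Cfsg.Geo.subspaceStabilizer U ⊓ Cfsg.Geo.omegaGL ⇑Qf, lt_of_le_of_ne hfix fun e => ?_,
    lt_of_le_of_ne inf_le_right fun e => ?_⟩
  · have h1 : g ∈ Cfsg.Geo.subspaceStabilizer U ⊓ Cfsg.Geo.omegaGL ⇑Qf := ⟨
      Cfsg.Agent.Classical.mem_subspaceStabilizer_iff.mpr fun u hu => by
        rw [hgx, hUo v hvU u hu, zero_smul, add_zero]
        exact U.sub_mem hu (U.smul_mem _ hvU), hg⟩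
    rw [← e] at h1
    have h2 := W.sub_mem hw (Cfsg.Agent.Classical.mem_subspaceStabilizer_iff.mp h1.1 w hw)
    rw [hgx, hUo v hvU w (hWU hw), zero_smul, add_zero, mul_zero, add_zero, sub_sub_cancel,
      W.smul_mem_iff (by rw [QuadraticMap.polar_comm]; exact hyw)] at h2
    exact hvW h2
  · rcases Cfsg.Agent.Classical.OEven.eq_bot_or_top_of_fixCodim hPND (by rw [Fintype.card_fin]; omega) (W := U)
      (fun g hg _ x hx => Cfsg.Agent.Classical.mem_subspaceStabilizer_iff.mp (inf_eq_right.mp e hg) x hx) with h | h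
    · exact hv0 ((Submodule.mem_bot F).mp (h ▸ hvU))
    · rw [h, finrank_top, Module.finrank_fin_fun] at hUm
      omega

end Cfsg.Agent.S5686
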