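import Cfsg.Statements.S5687
import Cfsg.Agent.Lib.Classical.RadicalQuad
import Cfsg.Agent.Lib.Classical.WittIndex
-- import your own Cfsg.Agent.* helpers here

set_option autoImplicit false
open Cfsg

namespace Cfsg.Agent.S5687

/-- Let F be a finite field with q elements, n ≥ 13 even, Q a non-degenerate quadratic form on F^n of minus type (no subspace of dimension n/2 is totally singular), and Ω the commutator subgroup of the isometry group of Q, viewed inside GL_n(F). The elements of Ω stabilising a non-zero subspace on which Q vanishes form a maximal subgroup of Ω. -/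
theorem result {F : Type*} [Field F] [Fintype F] {n : ℕ} (hn : 13 ≤ n) (heven : Even n) (Q : (Fin n → F) → F) (hQ : Cfsg.Geo.IsNondegenerateQuadraticForm Q) (hminus : ¬ Cfsg.Geo.IsPlusTypeOn Q ⊤) (W : Submodule F (Fin n → F)) (hW0 : W ≠ ⊥) (hW : Cfsg.Geo.IsTotallySingularQuad Q W) : Cfsg.Geo.IsMaximalIn (Cfsg.Geo.omegaGL Q) (Cfsg.Geo.subspaceStabilizer W ⊓ Cfsg.Geo.omegaGL Q) := by
  classical
  obtain ⟨Qf, hQf, hPND⟩ := Cfsg.Agent.Classical.ONotMax.exists_qform hQ
  rw [← hQf] at hW ⊢
  refine Cfsg.Agent.Classical.Radical.isMaximal_quad hPND (by rw [Fintype.card_fin]; omega) hW0 hW fun u hu huW huo => ?_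
  have hext : ∀ x ∈ W ⊔ Submodule.span F {u}, Qf x = 0 := fun x hx => by
    obtain ⟨w, hw, z, hz, rfl⟩ := Submodule.mem_sup.mp hx
    obtain ⟨r, rfl⟩ := Submodule.mem_span_singleton.mp hz
    rw [QuadraticMap.map_add ⇑Qf, QuadraticMap.map_smul, hu, hW w hw, QuadraticMap.polar_smul_right,
      QuadraticMap.polar_comm, huo w hw]
    simp
  have hlt : Module.finrank F W < Module.finrank F ↥(W ⊔ Submodule.span F {u}) :=
    Submodule.finrank_lt_finrank_of_lt (lt_of_le_of_ne le_sup_left fun e => huW (e ▸ Submodule.mem_sup_right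
      (Submodule.mem_span_singleton_self u)))
  have hle := Cfsg.Agent.Classical.Witt.finrank_le_half Qf (Cfsg.Agent.Classical.ORefl.nondeg hPND) hext
  rw [Module.finrank_fintype_fun_eq_card] at hle
  rw [Fintype.card_fin] at hle ⊢
  obtain ⟨k, hk⟩ := heven
  have hne : 2 * Module.finrank F ↥(W ⊔ Submodule.span F {u}) ≠ n := fun e => hminus
    ⟨_, le_top, fun x hx => by rw [← hQf]; exact hext x hx, by rw [e, finrank_top, Module.finrank_fin_fun]⟩
  omega

end Cfsg.Agent.S5687
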