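import Cfsg.Statements.S5693
import Cfsg.Agent.Lib.Classical.OrthPlusNotMax
-- import your own Cfsg.Agent.* helpers here

set_option autoImplicit false
open Cfsg

namespace Cfsg.Agent.S5693

/-- Let F be a finite field with q elements, n ≥ 13 even, Q a non-degenerate quadratic form on F^n of plus type (some subspace of dimension n/2 is totally singular), and Ω the commutator subgroup of the isometry group of Q, viewed inside GL_n(F). Let D be a decomposition of F^n into t ≥ 2 pairwise orthogonal, pairwise Q-isometric subspaces of equal dimension k on which the polar form is non-degenerate (with, for even k, all members of plus type or t even; for odd k, q odd and square discriminant), in one of the cases: k = 2 with q = 3; k = 2 with plus-type members and q ∈ {2, 4, 5}; k = 3 with q = 3; k = 4 with plus-type members and q = 2. Then the elements of Ω permuting the members of D form a subgroup that is not maximal: some subgroup lies strictly between it and Ω. -/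
theorem result {F : Type*} [Field F] [Fintype F] {n : ℕ} (hn : 13 ≤ n) (heven : Even n) (Q : (Fin n → F) → F) (hQ : Cfsg.Geo.IsNondegenerateQuadraticForm Q) (hplus : Cfsg.Geo.IsPlusTypeOn Q ⊤) {t : ℕ} (k : ℕ) (D : Fin t → Submodule F (Fin n → F)) (hD : Cfsg.Geo.IsOrthogonalMDecomposition Q k D) (hke : Even k → ((∀ i, Cfsg.Geo.IsPlusTypeOn Q (D i)) ∨ Even t)) (hko : Odd k → (Odd (Fintype.card F) ∧ Cfsg.Geo.HasSquareDiscriminant Q)) (hcase : ((k = 2 ∧ (Fintype.card F = 3 ∨ ((∀ i, Cfsg.Geo.IsPlusTypeOn Q (D i)) ∧ (Fintype.card F = 2 ∨ Fintype.card F = 4 ∨ Fintype.card F = 5)))) ∨ (k = 3 ∧ Fintype.card F = 3) ∨ (k = 4 ∧ Fintype.card F = 2 ∧ ∀ i, Cfsg.Geo.IsPlusTypeOn Q (D i)))) : ∃ K : Subgroup (Matrix.GeneralLinearGroup (Fin n) F), Cfsg.Geo.decompositionStabilizer D ⊓ Cfsg.Geo.omegaGL Q < K ∧ K < Cfsg.Geo.omegaGL Q := by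
  classical
  obtain ⟨Qf, rfl, hpnd⟩ := Classical.ONotMax.exists_qform hQ
  have ht2 := hD.decomp.decomp.two_le
  have h0 : 0 < t := by omega
  have hle := Classical.OPlusNotMax.card_le_mul hD.decomp.decomp.iSup_eq_top hD.decomp.decomp.finrank_eq
  rw [Fintype.card_fin] at hle
  have hn4 : Fintype.card (Fin n) ≠ 4 := by rw [Fintype.card_fin]; omega
  rcases hcase with ⟨rfl, hq⟩ | ⟨rfl, hq⟩ | ⟨rfl, hq, hp⟩
  · by_cases hp : ∀ i, Cfsg.Geo.IsPlusTypeOn (⇑Qf) (D i)
    · obtain ⟨e, f, P⟩ := Classical.OPlusNotMax.exists_planePairs hD.decomp.orthogonal hD.decomp.nondegenerate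
        hD.decomp.decomp.finrank_eq hp
      by_cases h5 : Fintype.card F = 5
      · exact P.five_not_max hpnd hn4 h5 hD.decomp.decomp.finrank_eq (by omega)
      refine P.inv_not_max hpnd hn4 hD.decomp.decomp.iSup_eq_top hD.decomp.decomp.finrank_eq (by omega) ?_
      have hsmall : Fintype.card F = 2 ∨ Fintype.card F = 3 ∨ Fintype.card F = 4 := by
        rcases hq with h | ⟨-, h | h | h⟩
        · exact Or.inr (Or.inl h)
        · exact Or.inl h
        · exact Or.inr (Or.inr h)
        · exact absurd h h5
      rcases hsmall with h | h | h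
      · have hid : ∀ a : F, a⁻¹ = a := fun a => by
          by_cases ha : a = 0
          · simp [ha]
          · have h1 := FiniteField.pow_card_sub_one_eq_one a ha
            rw [h, pow_one] at h1
            rw [h1, inv_one]
        intro a b
        rw [hid, hid, hid]
      · have hid : ∀ a : F, a⁻¹ = a := fun a => by
          by_cases ha : a = 0
          · simp [ha]
          · rcases Classical.ONotMax.eq_one_or_neg h ha with h1 | h1 <;> simp [h1]
        intro a b
        rw [hid, hid, hid]
      · have hid : ∀ a : F, a⁻¹ = a * a := fun a => by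
          by_cases ha : a = 0
          · simp [ha]
          · have h1 := FiniteField.pow_card_sub_one_eq_one a ha
            rw [h] at h1
            exact inv_eq_of_mul_eq_one_right (by rw [← h1]; ring)
        have h2 : (2 : F) = 0 := by
          have h4 := FiniteField.cast_card_eq_zero F
          rw [h] at h4
          exact mul_self_eq_zero.1 (by push_cast at h4; linear_combination h4)
        intro a b
        rw [hid, hid, hid]
        linear_combination (a * b) * h2
    · push Not at hp
      obtain ⟨i₀, hi₀⟩ := hp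
      have hq3 : Fintype.card F = 3 := hq.resolve_right fun h => hi₀ (h.1 i₀)
      obtain ⟨y, hy, hval, hperp⟩ := Classical.ONotMax.plane_frame hq3
        (hD.decomp.decomp.finrank_eq i₀) (hD.decomp.nondegenerate _) hi₀
      obtain ⟨x, hx, hxv, hxp⟩ := Classical.ONotMax.frame_transport hD.isometric _ y hy hval hperp
      exact Classical.ONotMax.frame_not_max hpnd hq3 hD.decomp.decomp hD.decomp.orthogonal le_rfl (by norm_num)
        one_ne_zero x hx hxv hxp
  · obtain ⟨c, y, hc, hy, hval, hperp⟩ := Classical.ONotMax.space_frame hq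
      (hD.decomp.decomp.finrank_eq ⟨0, h0⟩) (hD.decomp.nondegenerate _)
    obtain ⟨x, hx, hxv, hxp⟩ := Classical.ONotMax.frame_transport hD.isometric _ y hy hval hperp
    exact Classical.ONotMax.frame_not_max hpnd hq hD.decomp.decomp hD.decomp.orthogonal (by norm_num) le_rfl
      hc x hx hxv hxp
  · exact Classical.OPlusNotMax.four_not_max hpnd hn4 hq hD.decomp.orthogonal hD.decomp.nondegenerate
      hD.decomp.decomp.finrank_eq hp ht2

end Cfsg.Agent.S5693
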