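import Cfsg.Statements.S5694
import Cfsg.Agent.Lib.Classical.RadicalQuad
import Cfsg.Agent.Lib.Classical.WittIndex
import Cfsg.Agent.Lib.Classical.RadicalQuadCases
import Cfsg.Agent.Lib.Classical.RadicalQuadSplit
import Cfsg.Agent.Lib.Classical.RadicalPoint
import Cfsg.Agent.Lib.Classical.ODecompMaximal
import Cfsg.Agent.Lib.Classical.ODecompEvenMaximal
import Cfsg.Agent.Lib.Classical.OrthEvenSplit
import Cfsg.Agent.Lib.Classical.OPlanes.Plus
import Cfsg.Agent.Lib.Classical.LinMaximalGeneral

set_option autoImplicit false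
open Cfsg

namespace Cfsg.Agent.S5694

/-- Let F be a finite field with q elements, n ≥ 13 even, Q a non-degenerate quadratic form on F^n of minus type (no subspace of dimension n/2 is totally singular), and Ω the commutator subgroup of the isometry group of Q, viewed inside GL_n(F). Let D be a decomposition of F^n into t ≥ 2 pairwise orthogonal, pairwise Q-isometric subspaces of equal dimension k ≥ 2 on which the polar form is non-degenerate, such that: if k is odd, q is odd and the discriminant of Q is a square; if k is even, t is odd and no member is of plus type. Unless q = 3 and k ∈ {2, 3}, the elements of Ω permuting the members of D form a maximal subgroup of Ω. -/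
theorem result {F : Type*} [Field F] [Fintype F] {n : ℕ} (hn : 13 ≤ n) (heven : Even n) (Q : (Fin n → F) → F) (hQ : Cfsg.Geo.IsNondegenerateQuadraticForm Q) (hminus : ¬ Cfsg.Geo.IsPlusTypeOn Q ⊤) {t : ℕ} (k : ℕ) (hk : 2 ≤ k) (D : Fin t → Submodule F (Fin n → F)) (hD : Cfsg.Geo.IsOrthogonalMDecomposition Q k D) (hko : Odd k → (Odd (Fintype.card F) ∧ Cfsg.Geo.HasSquareDiscriminant Q)) (hke : Even k → (Odd t ∧ ∀ i, ¬ Cfsg.Geo.IsPlusTypeOn Q (D i))) (hex : ¬ (Fintype.card F = 3 ∧ (k = 2 ∨ k = 3))) : Cfsg.Geo.IsMaximalIn (Cfsg.Geo.omegaGL Q) (Cfsg.Geo.decompositionStabilizer D ⊓ Cfsg.Geo.omegaGL Q) := by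
  classical
  have h2e : ¬ Odd (Fintype.card F) → (2 : F) = 0 := fun h => by
    have hc : ringChar F = 2 := by
      by_contra hc
      exact h (Nat.odd_iff.mpr (FiniteField.odd_card_of_char_ne_two hc))
    haveI := ringChar.of_eq hc
    exact_mod_cast CharP.cast_eq_zero F 2
  have h2o : Odd (Fintype.card F) → (2 : F) ≠ 0 := fun hodd h => by
    haveI := ringChar.charP F
    haveI : CharP F 2 := CharTwo.of_one_ne_zero_of_two_eq_zero one_ne_zero h
    exact (Nat.not_even_iff_odd.mpr hodd) (Nat.even_iff.mpr (FiniteField.even_card_of_char_two (ringChar.eq F 2)))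
  obtain ⟨Qf, rfl, hPND⟩ := Cfsg.Agent.Classical.ONotMax.exists_qform hQ
  have hc7 : 7 ≤ Fintype.card (Fin n) := by rw [Fintype.card_fin]; omega
  rcases eq_or_lt_of_le hk with rfl | hk3
  · have ht : 5 ≤ t := by
      by_contra hlt
      have h := Cfsg.Agent.Classical.IsMDecomposition.card_eq hD.decomp.decomp
      rw [Fintype.card_fin] at h
      omega
    exact Cfsg.Agent.Classical.OPlanes.isMaximal hPND ht hD (fun h => hex ⟨h, Or.inl rfl⟩) (fun hall => absurd (hall ⟨0, by omega⟩) ((hke (by decide)).2 _))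
  by_cases h2 : (2 : F) = 0
  · have hk4 : 4 ≤ k := by
      by_contra hlt
      exact h2o (hko (by rw [show k = 3 by omega]; decide)).1 h2
    exact Cfsg.Agent.Classical.ODecompEven.isMaximal hQ hPND h2 hc7 hD hk4 fun hq hk4' i hp => (hke (by rw [hk4']; decide)).2 i hp
  · exact Cfsg.Agent.Classical.ODecomp.isMaximal hQ hPND h2 hc7 hD hk3 (fun h => hex ⟨h.1, Or.inr h.2⟩)

end Cfsg.Agent.S5694
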