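import Cfsg.Statements.S5696
import Cfsg.Agent.Lib.Classical.MonomFrame.Main
import Cfsg.Agent.Lib.Classical.OrthogonalOdd

set_option autoImplicit false
open Cfsg Cfsg.Agent.Classical Cfsg.Agent.Classical.OOmega Module

namespace Cfsg.Agent.S5696

/-- Let F be a finite field with q elements, n ≥ 13 even, Q a non-degenerate quadratic form on F^n (of either type), and Ω the commutator subgroup of the isometry group of Q, viewed inside GL_n(F). Suppose q = p is an odd prime and the discriminant of Q is a square, and let D be a decomposition of F^n into pairwise orthogonal lines on which Q takes non-zero values in one square class (pairwise Q-isometric non-degenerate 1-spaces). Then the elements of Ω permuting these lines form a maximal subgroup of Ω. -/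
theorem result {F : Type*} [Field F] [Fintype F] {n : ℕ} (hn : 13 ≤ n) (heven : Even n) (Q : (Fin n → F) → F) (hQ : Cfsg.Geo.IsNondegenerateQuadraticForm Q) (hprime : (Fintype.card F).Prime) (hodd : Odd (Fintype.card F)) (hdisc : Cfsg.Geo.HasSquareDiscriminant Q) {t : ℕ} (D : Fin t → Submodule F (Fin n → F)) (hD : Cfsg.Geo.IsOrthogonalMDecomposition Q 1 D) : Cfsg.Geo.IsMaximalIn (Cfsg.Geo.omegaGL Q) (Cfsg.Geo.decompositionStabilizer D ⊓ Cfsg.Geo.omegaGL Q) := by
  have h2 : (2 : F) ≠ 0 := fun h => by
    have h1 : ringChar F ∣ 2 := (ringChar.spec F 2).mp (by exact_mod_cast h)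
    rcases (Nat.dvd_prime Nat.prime_two).mp h1 with h' | h'
    · exact CharP.ringChar_ne_one h'
    · have := FiniteField.even_card_iff_char_two.mp h'
      exact Nat.not_even_iff_odd.mpr hodd (Nat.even_iff.mpr this)
  have hpn : (Nat.card F).Prime := by rwa [Nat.card_eq_fintype_card]
  obtain ⟨Qf, rfl, hQ'⟩ := ONotMax.exists_qform hQ
  refine MFrame.isMaximalIn_of_frame h2 hQ' (by simp; omega) hD fun B H hH hM => ?_
  have ht : t = n := by rw [← B.finrank_eq, Module.finrank_fin_fun]
  subst ht
  obtain ⟨m, rfl⟩ : ∃ m, t = m + 1 := ⟨t - 1, by omega⟩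
  obtain ⟨r, hr⟩ := heven
  exact B.mono_or_ge_even hpn ⟨r - 1, by omega⟩ (by omega) hH hM

end Cfsg.Agent.S5696
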