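import Cfsg.Statements.S5698
import Cfsg.Agent.Lib.Classical.RadicalQuadSplit
import Cfsg.Agent.Lib.Classical.OmegaParity
-- import your own Cfsg.Agent.* helpers here

set_option autoImplicit false
open Cfsg
open scoped Matrix

namespace Cfsg.Agent.S5698

/-- Let F be a finite field with q elements, n ≥ 13 even, Q a non-degenerate quadratic form on F^n of plus type (some subspace of dimension n/2 is totally singular), and Ω the commutator subgroup of the isometry group of Q, viewed inside GL_n(F). Suppose n/2 is odd and let D be a decomposition of F^n into two complementary subspaces of dimension n/2 on each of which Q vanishes. Then the elements of Ω preserving or interchanging the two subspaces form a subgroup that is not maximal: some subgroup lies strictly between it and Ω. -/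
theorem result {F : Type*} [Field F] [Fintype F] {n : ℕ} (hn : 13 ≤ n) (heven : Even n) (Q : (Fin n → F) → F) (hQ : Cfsg.Geo.IsNondegenerateQuadraticForm Q) (hplus : Cfsg.Geo.IsPlusTypeOn Q ⊤) (k : ℕ) (hk : 2 * k = n) (hko : Odd k) (D : Fin 2 → Submodule F (Fin n → F)) (hD : Cfsg.Geo.IsMDecomposition k D) (hts : ∀ i, Cfsg.Geo.IsTotallySingularQuad Q (D i)) : ∃ K : Subgroup (Matrix.GeneralLinearGroup (Fin n) F), Cfsg.Geo.decompositionStabilizer D ⊓ Cfsg.Geo.omegaGL Q < K ∧ K < Cfsg.Geo.omegaGL Q := by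
  classical
  obtain ⟨Qf, hQf, hPND⟩ := Cfsg.Agent.Classical.ONotMax.exists_qform hQ
  rw [← hQf] at hts ⊢
  haveI : Nonempty (Fin n) := ⟨⟨0, by omega⟩⟩
  have h01 : D 0 ⊓ D 1 = ⊥ := (hD.indep.pairwiseDisjoint (by decide : (0 : Fin 2) ≠ 1)).eq_bot
  have hfix : Cfsg.Geo.decompositionStabilizer D ⊓ Cfsg.Geo.omegaGL ⇑Qf ≤
      Cfsg.Geo.subspaceStabilizer (D 0) ⊓ Cfsg.Geo.omegaGL ⇑Qf := by
    rintro g ⟨hgD, hg⟩
    refine ⟨?_, hg⟩
    obtain ⟨σ, hσ⟩ := hgD
    have hpar := Cfsg.Agent.Classical.Radical.omega_even_inter hPND (m := k) (by rw [Fintype.card_fin, hk])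
      (by rw [Fintype.card_fin]; omega) (hts 0) (hD.finrank_eq 0) hg
    rw [hσ] at hpar
    refine Cfsg.Agent.Classical.mem_subspaceStabilizer_iff.mpr fun u hu => ?_
    have h1 : (g : Matrix (Fin n) (Fin n) F) *ᵥ u ∈ D (σ 0) := by
      rw [← hσ 0, ← Matrix.toLin'_apply]
      exact Submodule.mem_map_of_mem hu
    rcases (by omega : (σ 0 : ℕ) = 0 ∨ (σ 0 : ℕ) = 1) with h | h
    · rwa [show σ 0 = 0 from Fin.ext h] at h1
    · rw [show σ 0 = 1 from Fin.ext h, h01, finrank_bot, Nat.sub_zero] at hpar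
      exact absurd hpar (Nat.not_even_iff_odd.mpr hko)
  have hk0 : 1 < k := by omega
  obtain ⟨w, hw, hw0⟩ := Submodule.exists_mem_ne_zero_of_ne_bot (p := D 1) fun e => by
    have := hD.finrank_eq 1
    rw [e, finrank_bot] at this; omega
  have hD0o : ∀ a ∈ D 0, ∀ b ∈ D 0, QuadraticMap.polar (⇑Qf) a b = 0 := fun a ha b hb => by
    rw [QuadraticMap.polar, hts 0 _ (add_mem ha hb), hts 0 a ha, hts 0 b hb, sub_zero, sub_zero]
  have hf := Cfsg.Agent.Classical.Radical.reflex_polar hPND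
  obtain ⟨v, hv, hvw⟩ : ∃ v ∈ D 0, QuadraticMap.polar (⇑Qf) v w ≠ 0 := by
    by_contra hcon
    push Not at hcon
    have hle : D 0 ≤ hf.perp (D 0) := fun a ha b hb => hD0o a ha b hb
    have h1 := hf.finrank_perp (D 0)
    rw [hD.finrank_eq, Fintype.card_fin] at h1
    have h2 : D 0 = hf.perp (D 0) := Submodule.eq_of_le_of_finrank_le hle (by rw [hD.finrank_eq]; omega)
    have h3 : w ∈ D 0 := by
      rw [h2]
      intro b hb
      rw [QuadraticMap.polar_comm]
      exact hcon b hb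
    exact hw0 ((Submodule.mem_bot F).mp (h01 ▸ ⟨h3, hw⟩))
  obtain ⟨y, hy, hyv⟩ : ∃ y ∈ D 0, y ∉ Submodule.span F {v} := by
    by_contra hcon
    push Not at hcon
    have h1 := Submodule.finrank_mono (show D 0 ≤ Submodule.span F {v} from hcon)
    rw [hD.finrank_eq, finrank_span_singleton (fun e => hvw (by rw [e, QuadraticMap.polar_zero_left]))] at h1
    omega
  obtain ⟨g, hg, hgx⟩ := Cfsg.Agent.Classical.ONotMax.exists_siegel hPND (by rw [Fintype.card_fin]; omega)
    (hts 0 v hv) (hD0o v hv y hy)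
  have hgD0 : g ∈ Cfsg.Geo.subspaceStabilizer (D 0) :=
    Cfsg.Agent.Classical.mem_subspaceStabilizer_iff.mpr fun u hu => by
      rw [hgx, hD0o v hv u hu, zero_smul, add_zero]
      exact Submodule.sub_mem _ hu ((D 0).smul_mem _ hv)
  refine ⟨Cfsg.Geo.subspaceStabilizer (D 0) ⊓ Cfsg.Geo.omegaGL ⇑Qf, lt_of_le_of_ne hfix fun e => ?_,
    lt_of_le_of_ne inf_le_right fun e => ?_⟩
  · obtain ⟨σ, hσ⟩ := (show g ∈ Cfsg.Geo.decompositionStabilizer D ⊓ Cfsg.Geo.omegaGL ⇑Qf from e ▸ ⟨hgD0, hg⟩).1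
    have h1 : (g : Matrix (Fin n) (Fin n) F) *ᵥ w ∈ D (σ 1) := by
      rw [← hσ 1, ← Matrix.toLin'_apply]
      exact Submodule.mem_map_of_mem hw
    rw [hgx, hts 0 y hy, zero_mul, add_zero] at h1
    have hd0 : QuadraticMap.polar (⇑Qf) v w • y - QuadraticMap.polar (⇑Qf) y w • v ∈ D 0 :=
      Submodule.sub_mem _ ((D 0).smul_mem _ hy) ((D 0).smul_mem _ hv)
    rw [add_sub_assoc] at h1
    rcases (by omega : (σ 1 : ℕ) = 0 ∨ (σ 1 : ℕ) = 1) with h | h
    · rw [show σ 1 = 0 from Fin.ext h, (D 0).add_mem_iff_left hd0] at h1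
      exact hw0 ((Submodule.mem_bot F).mp (h01 ▸ ⟨h1, hw⟩))
    · rw [show σ 1 = 1 from Fin.ext h, (D 1).add_mem_iff_right hw] at h1
      have h2 : QuadraticMap.polar (⇑Qf) v w • y - QuadraticMap.polar (⇑Qf) y w • v = 0 :=
        Submodule.disjoint_def.mp (disjoint_iff.mpr h01) _ hd0 h1
      refine hyv (Submodule.mem_span_singleton.mpr
        ⟨(QuadraticMap.polar (⇑Qf) v w)⁻¹ * QuadraticMap.polar (⇑Qf) y w, ?_⟩)
      rw [mul_smul, ← sub_eq_zero.mp h2, smul_smul, inv_mul_cancel₀ hvw, one_smul]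
  · rcases Cfsg.Agent.Classical.OEven.eq_bot_or_top_of_fixCodim hPND (by rw [Fintype.card_fin]; omega) (W := D 0)
      (fun g hg _ x hx => Cfsg.Agent.Classical.mem_subspaceStabilizer_iff.mp (inf_eq_right.mp e hg) x hx) with h | h
    · have := hD.finrank_eq 0
      rw [h, finrank_bot] at this; omega
    · have := hD.finrank_eq 0
      rw [h, finrank_top, Module.finrank_fin_fun] at this; omega

end Cfsg.Agent.S5698
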