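import Cfsg.Statements.S5701
import Cfsg.Agent.Lib.Classical.FieldExt.Orth.Matrix

set_option autoImplicit false
open Cfsg

namespace Cfsg.Agent.S5701

/-- Let F be a finite field with q elements, n ≥ 13 even, Q a non-degenerate quadratic form on F^n (of either type), and Ω the commutator subgroup of the isometry group of Q, viewed inside GL_n(F). Suppose q is odd. Let K be a subfield of the algebra of n × n matrices over F containing the scalars, of prime degree r over F with n/r ≥ 3, whose elements are self-adjoint for the polar form of Q. Then the elements of Ω normalising K form a maximal subgroup of Ω. -/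
theorem result {F : Type*} [Field F] [Fintype F] {n : ℕ} (hn : 13 ≤ n) (heven : Even n) (Q : (Fin n → F) → F) (hQ : Cfsg.Geo.IsNondegenerateQuadraticForm Q) (hodd : Odd (Fintype.card F)) (r : ℕ) (hr : r.Prime) (hnr : 3 * r ≤ n) (K : Subalgebra F (Matrix (Fin n) (Fin n) F)) (hK : Cfsg.Geo.IsFieldSubalgebra r K) (hsa : Cfsg.Geo.IsSelfAdjointFor (QuadraticMap.polar Q) K) : Cfsg.Geo.IsMaximalIn (Cfsg.Geo.omegaGL Q) (Cfsg.Geo.subalgebraNormalizer K ⊓ Cfsg.Geo.omegaGL Q) := by
  have h2 : (2 : F) ≠ 0 := by
    intro h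
    obtain ⟨p, hp⟩ := CharP.exists F
    have hpr : p.Prime := CharP.char_is_prime F p
    have h' : ((2 : ℕ) : F) = 0 := by exact_mod_cast h
    rw [CharP.cast_eq_zero_iff F p] at h'
    have hp2 : p = 2 := (Nat.prime_dvd_prime_iff_eq hpr Nat.prime_two).mp h'
    obtain ⟨k, -, hk⟩ := FiniteField.card F p
    rw [hk, hp2] at hodd
    exact Nat.not_even_iff_odd.mpr hodd ((Nat.even_pow.mpr ⟨even_two, k.ne_zero⟩))
  refine Cfsg.Agent.Classical.FieldExt.Orth.extension_normalizer_maximal Q hQ h2 r hr (fun k hk => ?_) K hK hsa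
  rw [Fintype.card_fin] at hk
  have hr2 := hr.two_le
  have hk3 : 3 ≤ k := by nlinarith
  by_cases h : r = 2
  · subst h
    exact ⟨by omega, Or.inl (by omega)⟩
  · have hke : Even k := by
      have : Even (r * k) := hk ▸ heven
      rcases Nat.even_mul.mp this with h' | h'
      · exact absurd ((hr.even_iff).mp h') h
      · exact h'
    obtain ⟨j, hj⟩ := hke
    have hr3 : 3 ≤ r := by omega
    refine ⟨by omega, Or.inl ?_⟩
    have : (k - 2) * 3 ≤ (k - 2) * r := Nat.mul_le_mul_left _ hr3
    omega

end Cfsg.Agent.S5701
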