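import Cfsg.Statements.S5702
import Cfsg.Agent.Lib.Classical.OSubAllMaximal

set_option autoImplicit false
open Cfsg

namespace Cfsg.Agent.S5702

open QuadraticMap in
theorem scaled_nondeg {F : Type*} [Field F] {n : ℕ} {Q : (Fin n → F) → F}
    (hQ : Cfsg.Geo.IsNondegenerateQuadraticForm Q) {ζ : F} (hζ : ζ ≠ 0) :
    Cfsg.Geo.IsNondegenerateQuadraticForm (fun v => ζ * Q v) := by
  have hp : ∀ x y, polar (fun v => ζ * Q v) x y = ζ * polar Q x y := fun x y => by
    simp only [polar]; ring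
  have hb := hQ.polar_bilinear
  refine ⟨fun c v => by rw [hQ.smul]; ring, ⟨fun x y v => ?_, fun c x v => ?_, fun v x y => ?_, fun c v x => ?_⟩,
    fun v hv => ?_⟩
  · rw [hp, hp, hp, hb.add_left]; ring
  · rw [hp, hp, hb.smul_left]; ring
  · rw [hp, hp, hp, hb.add_right]; ring
  · rw [hp, hp, hb.smul_right]; ring
  · obtain ⟨⟨x, hx⟩, ⟨y, hy⟩⟩ := hQ.nondegenerate v hv
    exact ⟨⟨x, by rw [hp]; exact mul_ne_zero hζ hx⟩, ⟨y, by rw [hp]; exact mul_ne_zero hζ hy⟩⟩

theorem omegaGL_scaled {F : Type*} [Field F] {n : ℕ} (Q : (Fin n → F) → F) {ζ : F} (hζ : ζ ≠ 0) :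
    Cfsg.Geo.omegaGL (fun v => ζ * Q v) = Cfsg.Geo.omegaGL Q := by
  rw [Cfsg.Agent.Classical.omegaGL_eq, Cfsg.Agent.Classical.omegaGL_eq]
  have e : Cfsg.isometryGroup F (fun v => ζ * Q v) = Cfsg.isometryGroup F Q := by
    ext g
    rw [Cfsg.Agent.Classical.mem_isometryGroup_iff, Cfsg.Agent.Classical.mem_isometryGroup_iff]
    exact forall_congr' fun u => ⟨fun h => mul_left_cancel₀ hζ h, fun h => congrArg (ζ * ·) h⟩
  rw [e]

/-- Let F be a finite field with q elements, n ≥ 13 even, Q a non-degenerate quadratic form on F^n (of either type), and Ω the commutator subgroup of the isometry group of Q, viewed inside GL_n(F). Let F₀ be a subfield with |F| = |F₀| ^ r for a prime r, ζ a non-zero scalar and P an invertible matrix such that ζ·Q takes values in F₀ on the F₀-span of the columns of P. Then the elements of Ω lying in the subfield group of P (the conjugate by P of the product of GL_n(F₀) with the scalars) form a maximal subgroup of Ω. -/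
theorem result {F : Type*} [Field F] [Fintype F] {n : ℕ} (hn : 13 ≤ n) (heven : Even n) (Q : (Fin n → F) → F) (hQ : Cfsg.Geo.IsNondegenerateQuadraticForm Q) (F₀ : Subfield F) (r : ℕ) (hr : r.Prime) (hcard : Fintype.card F = Nat.card F₀ ^ r) (P : Matrix.GeneralLinearGroup (Fin n) F) (ζ : F) (hζ : ζ ≠ 0) (hP : Cfsg.Geo.IsQuadFormRationalStructure (fun v : Fin n → F => ζ * Q v) F₀ P) : Cfsg.Geo.IsMaximalIn (Cfsg.Geo.omegaGL Q) (Cfsg.Geo.subfieldSubgroup F₀ P ⊓ Cfsg.Geo.omegaGL Q) := by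
  have h := Cfsg.Agent.Classical.OSubAll.isMaximal (scaled_nondeg hQ hζ)
    (by rw [Fintype.card_fin]; obtain ⟨j, hj⟩ := heven; omega) F₀ hr hcard P hP
  rwa [omegaGL_scaled Q hζ] at h

end Cfsg.Agent.S5702
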