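import Cfsg.Statements.S5705
import Cfsg.Agent.Lib.Classical.OQuadExt
import Cfsg.Agent.Lib.Classical.TensorNotMax
-- import your own Cfsg.Agent.* helpers here

set_option autoImplicit false
open Cfsg
open scoped Matrix Kronecker

namespace Cfsg.Agent.S5705

theorem two_conj {F : Type*} [Field F] (h01 : ∀ x : F, x = 0 ∨ x = 1) (a : Matrix (Fin 2) (Fin 2) F) (ha : a.det ≠ 0) :
    a * !![0, -1; 1, 1] = !![0, -1; 1, 1] * a ∨ a * !![0, -1; 1, 1] = (1 - !![0, -1; 1, 1]) * a := by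
  have hneg : (-1 : F) = 1 := (h01 (-1)).resolve_left (neg_ne_zero.mpr one_ne_zero)
  have h2 : (1 : F) + 1 = 0 := by linear_combination -hneg
  rw [Matrix.eta_fin_two a] at ha ⊢
  rw [Matrix.det_fin_two_of] at ha
  rcases h01 (a 0 0) with h | h <;> rcases h01 (a 0 1) with h' | h' <;> rcases h01 (a 1 0) with h'' | h'' <;>
    rcases h01 (a 1 1) with h''' | h''' <;>
    simp [h, h', h'', h''', hneg, h2, Matrix.one_fin_two] at ha ⊢

/-- Let F be the field with 2 elements, n = 2 n₂ ≥ 13 even, Q a non-degenerate quadratic form on F^n of plus type and Ω the commutator subgroup of its isometry group. Suppose that, through P and e, the polar form of Q is similar to the tensor product of non-degenerate symplectic forms f₁ on F^2 and f₂ on F^(n₂), and Q vanishes on the images of all pure tensors. Then the elements of Ω in the stabiliser of this tensor decomposition form a subgroup that is not maximal: some subgroup lies strictly between it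 and Ω. -/
theorem result {F : Type*} [Field F] [Fintype F] {n : ℕ} (hn : 13 ≤ n) (heven : Even n) (Q : (Fin n → F) → F) (hQ : Cfsg.Geo.IsNondegenerateQuadraticForm Q) (hplus : Cfsg.Geo.IsPlusTypeOn Q ⊤) (hq : Fintype.card F = 2) (n₂ : ℕ) (h2 : 2 < n₂) (e : (Fin n) ≃ Fin 2 × Fin n₂) (P : Matrix.GeneralLinearGroup (Fin n) F) (f₁ : (Fin 2 → F) → (Fin 2 → F) → F) (f₂ : (Fin n₂ → F) → (Fin n₂ → F) → F) (hf₁ : Cfsg.Geo.IsSymplecticForm f₁) (hf₂ : Cfsg.Geo.IsSymplecticForm f₂) (hT : Cfsg.Geo.IsTensorFormStructure id (QuadraticMap.polar Q) f₁ f₂ e P) (hpure : (∀ (x₁ : Fin 2 → F) (x₂ : Fin n₂ → F), Q (Matrix.mulVec (P : Matrix (Fin n) (Fin n) F) ((fun a : Fin 2 × Fin n₂ => x₁ a.1 * x₂ a.2) ∘ e)) = 0)) : ∃ K : Subgroup (Matrix.GeneralLinearGroup (Fin n) F), Cfsg.Geo.tensorProductSubgroup 2 n₂ e P ⊓ Cfsg.Geo.omegaGL Q < K ∧ K < Cfsg.Geo.omegaGL Q := by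
  classical
  obtain ⟨Qf, hQf, hPND⟩ := Cfsg.Agent.Classical.ONotMax.exists_qform hQ
  rw [← hQf] at hT hpure ⊢
  have h01 : ∀ x : F, x = 0 ∨ x = 1 := fun x => by
    by_contra hcon
    push Not at hcon
    have h : Finset.card ({0, 1, x} : Finset F) ≤ Fintype.card F := Finset.card_le_univ _
    rw [hq, Finset.card_insert_of_notMem (by simp [zero_ne_one, hcon.1.symm]),
      Finset.card_pair hcon.2.symm] at h
    omega
  have h1 : ∀ {x : F}, x ≠ 0 → x = 1 := fun hx => (h01 _).resolve_left hx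
  have hneg : (-1 : F) = 1 := h1 (neg_ne_zero.mpr one_ne_zero)
  have hb₁ := hf₁.bilinear
  have hb₂ := hf₂.bilinear
  obtain ⟨c, hc, hpair⟩ := Cfsg.Agent.Classical.TNotMax.exists_pairing (σ := id) (fun _ _ => rfl)
    ⟨hb₁.add_left, hb₁.smul_left, hb₁.add_right, hb₁.smul_right⟩
    ⟨hb₂.add_left, hb₂.smul_left, hb₂.add_right, hb₂.smul_right⟩ hT
  obtain rfl : c = 1 := h1 hc
  -- the two halves
  obtain ⟨T, hTdef⟩ : ∃ T, T = Cfsg.Agent.Classical.TNotMax.tau e P := ⟨_, rfl⟩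
  rw [← hTdef] at hpair
  have hTadd : ∀ (u u' : Fin 2 → F) w, T (u + u') w = T u w + T u' w := fun u u' w => by
    simp only [hTdef, Cfsg.Agent.Classical.TNotMax.tau_apply, ← Matrix.mulVec_add]
    congr 1; funext i; simp [add_mul]
  have hTsmul : ∀ (s : F) (u : Fin 2 → F) w, T (s • u) w = T u (s • w) := fun s u w => by
    rw [hTdef]; exact Cfsg.Agent.Classical.TNotMax.tau_smul e P s u w
  have hT0 : ∀ u w, Qf (T u w) = 0 := fun u w => by rw [hTdef]; exact hpure u w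
  obtain ⟨u₀, hu₀⟩ : ∃ u₀ : Fin 2 → F, u₀ = ![1, 0] := ⟨_, rfl⟩
  obtain ⟨u₁, hu₁⟩ : ∃ u₁ : Fin 2 → F, u₁ = ![0, 1] := ⟨_, rfl⟩
  have hu : ∀ u : Fin 2 → F, u = u 0 • u₀ + u 1 • u₁ := fun u => by
    funext i; fin_cases i <;> simp [hu₀, hu₁]
  have hTu : ∀ u w, T u w = T u₀ (u 0 • w) + T u₁ (u 1 • w) := fun u w => by
    conv_lhs => rw [hu u, hTadd, hTsmul, hTsmul]
  have hdec : ∀ x, ∃ a b, x = T u₀ a + T u₁ b := fun x => by
    obtain ⟨y, rfl⟩ : ∃ y, x = (P : Matrix (Fin n) (Fin n) F) *ᵥ y :=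
      ⟨_, (Cfsg.Agent.Classical.gl_mulVec_inv_cancel P x).symm⟩
    refine ⟨fun j => y (e.symm (0, j)), fun j => y (e.symm (1, j)), ?_⟩
    simp only [hTdef, Cfsg.Agent.Classical.TNotMax.tau_apply, ← Matrix.mulVec_add]
    congr 1
    funext i
    obtain ⟨⟨s, j⟩, rfl⟩ := e.symm.surjective i
    fin_cases s <;> simp [hu₀, hu₁]
  have hinj : ∀ {a b a' b'}, T u₀ a + T u₁ b = T u₀ a' + T u₁ b' → a = a' ∧ b = b' := by
    intro a b a' b' h
    simp only [hTdef, Cfsg.Agent.Classical.TNotMax.tau_apply, ← Matrix.mulVec_add] at h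
    have h' := Cfsg.Agent.Classical.gl_mulVec_injective P h
    exact ⟨funext fun j => by simpa [hu₀, hu₁] using congrFun h' (e.symm (0, j)),
      funext fun j => by simpa [hu₀, hu₁] using congrFun h' (e.symm (1, j))⟩
  have hf01 : f₁ u₀ u₁ = 1 := h1 fun hz => by
    obtain ⟨x, hx⟩ := (hf₁.nondegenerate u₀ (fun h => by simpa [hu₀] using congrFun h 0)).2
    rw [hu x, hb₁.add_right, hb₁.smul_right, hb₁.smul_right, hf₁.alternating, hz] at hx
    simp at hx
  have hf10 : f₁ u₁ u₀ = 1 := by rw [hf₁.skew, hf01, hneg]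
  have hQv : ∀ a b, Qf (T u₀ a + T u₁ b) = f₂ a b := fun a b => by
    rw [QuadraticMap.map_add ⇑Qf, hT0, hT0, hpair, hf01]
    ring
  -- the extension
  obtain ⟨A, hA⟩ : ∃ A : Matrix (Fin 2) (Fin 2) F, A = !![0, -1; 1, 1] := ⟨_, rfl⟩
  obtain ⟨ω, hω⟩ : ∃ ω, ω = (P : Matrix (Fin n) (Fin n) F) * (A ⊗ₖ (1 : Matrix (Fin n₂) (Fin n₂) F)).submatrix e e *
      ((P⁻¹ : Matrix.GeneralLinearGroup (Fin n) F) : Matrix (Fin n) (Fin n) F) := ⟨_, rfl⟩
  have hωT : ∀ u w, ω *ᵥ T u w = T (A *ᵥ u) w := fun u w => by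
    rw [hω, hTdef, Cfsg.Agent.Classical.TNotMax.tau_apply, Cfsg.Agent.Classical.TNotMax.tau_apply,
      ← Matrix.mulVec_mulVec, Cfsg.Agent.Classical.gl_inv_mulVec_cancel, ← Matrix.mulVec_mulVec]
    congr 1
    rw [Matrix.submatrix_mulVec_equiv]
    funext i
    simp only [Function.comp_apply, Matrix.mulVec, dotProduct, Equiv.apply_symm_apply, Matrix.kroneckerMap_apply,
      Fintype.sum_prod_type, Matrix.one_apply, mul_ite, mul_one, mul_zero, ite_mul, zero_mul, Finset.sum_ite_eq,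
      Finset.mem_univ, if_true, Finset.sum_mul, mul_assoc]
  have hωv : ∀ a b, ω *ᵥ (T u₀ a + T u₁ b) = T u₀ (-b) + T u₁ (a + b) := fun a b => by
    rw [Matrix.mulVec_add, hωT, hωT, hTu (A *ᵥ u₀), hTu (A *ᵥ u₁)]
    have e1 : (A *ᵥ u₀) 0 = 0 ∧ (A *ᵥ u₀) 1 = 1 ∧ (A *ᵥ u₁) 0 = -1 ∧ (A *ᵥ u₁) 1 = 1 := by
      simp [hA, hu₀, hu₁, Matrix.mulVec, dotProduct, Fin.sum_univ_two]
    obtain ⟨e1, e2, e3, e4⟩ := e1
    rw [e1, e2, e3, e4, zero_smul, one_smul, neg_one_smul, one_smul, map_zero, map_add]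
    abel
  have hneg2 : ∀ a b, f₂ b a = -f₂ a b := fun a b => hf₂.skew b a
  have hal : ∀ a b b', f₂ a (b + b') = f₂ a b + f₂ a b' := hb₂.add_right
  have hnl : ∀ a b, f₂ (-a) b = -f₂ a b := fun a b => by
    rw [← neg_one_smul F a, hb₂.smul_left, neg_one_mul]
  have hnr : ∀ a b, f₂ a (-b) = -f₂ a b := fun a b => by
    rw [← neg_one_smul F b, hb₂.smul_right, neg_one_mul]
  have E : Cfsg.Agent.Classical.OQExt.Ext Qf ω 1 1 := by
    refine ⟨hPND, ?_, fun x => ?_, fun x => ?_, fun x => ?_, fun l => ?_⟩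
    · rw [Fintype.card_fin]; obtain ⟨r, rfl⟩ := heven; omega
    · obtain ⟨a, b, rfl⟩ := hdec x
      rw [hωv, hωv, one_smul, one_smul, show -b + (a + b) = a by abel]
      simp only [map_neg, map_add]
      abel
    · obtain ⟨a, b, rfl⟩ := hdec x
      rw [hωv, QuadraticMap.polar, show T u₀ (-b) + T u₁ (a + b) + (T u₀ a + T u₁ b) =
        T u₀ (-b + a) + T u₁ (a + b + b) by simp only [map_add]; abel, hQv, hQv, hQv]
      simp only [hal, hb₂.add_left, hnl, hf₂.alternating, hneg2 a b]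
      ring
    · obtain ⟨a, b, rfl⟩ := hdec x
      rw [hωv, hQv, hQv, hal, hnl, hnl, hf₂.alternating, hneg2 a b]
      ring
    · rcases h01 l with rfl | rfl <;> simp
  -- the overgroup
  let N : Subgroup (Matrix.GeneralLinearGroup (Fin n) F) :=
    { carrier := {g | (g : Matrix (Fin n) (Fin n) F) * ω = ω * g ∨ (g : Matrix (Fin n) (Fin n) F) * ω = (1 - ω) * g}
      one_mem' := Or.inl (by simp)
      mul_mem' := fun {g h} hg hh => by
        simp only [Set.mem_setOf_eq, Units.val_mul] at hg hh ⊢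
        rcases hg with hg | hg <;> rcases hh with hh | hh
        · exact Or.inl (by rw [mul_assoc, hh, ← mul_assoc, hg, mul_assoc])
        · exact Or.inr (by rw [mul_assoc, hh, ← mul_assoc, mul_sub, mul_one, hg, sub_mul, sub_mul, one_mul, mul_assoc])
        · exact Or.inr (by rw [mul_assoc, hh, ← mul_assoc, hg, mul_assoc])
        · exact Or.inl (by
            rw [mul_assoc, hh, ← mul_assoc, mul_sub, mul_one, hg]
            noncomm_ring)
      inv_mem' := fun {g} hg => by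
        simp only [Set.mem_setOf_eq] at hg ⊢
        rcases hg with hg | hg
        · refine Or.inl ((Units.mul_right_inj g).mp ?_)
          rw [← mul_assoc, Units.mul_inv, one_mul, ← mul_assoc, hg, mul_assoc, Units.mul_inv, mul_one]
        · refine Or.inr ((Units.mul_right_inj g).mp ?_)
          rw [← mul_assoc, Units.mul_inv, one_mul, ← mul_assoc, mul_sub, mul_one, hg, sub_mul, mul_assoc,
            Units.mul_inv, mul_one]
          noncomm_ring }
  have hext : ∀ {M M' : Matrix (Fin n) (Fin n) F}, (∀ u w, M *ᵥ T u w = M' *ᵥ T u w) → M = M' := fun h =>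
    Matrix.ext_of_mulVec_single fun i => by
      obtain ⟨a, b, e'⟩ := hdec (Pi.single i 1)
      rw [e', Matrix.mulVec_add, Matrix.mulVec_add, h, h]
  refine ⟨N ⊓ Cfsg.Geo.omegaGL ⇑Qf, lt_of_le_of_ne ?_ fun heq => ?_, lt_of_le_of_ne inf_le_right fun heq => ?_⟩
  · rintro g ⟨hgT, hgΩ⟩
    refine ⟨?_, hgΩ⟩
    obtain ⟨a, b, hab⟩ := Cfsg.Agent.Classical.TNotMax.mem_tensor hgT
    rw [← hTdef] at hab
    have ha : (a : Matrix (Fin 2) (Fin 2) F).det ≠ 0 := (a.isUnit.map Matrix.detMonoidHom).ne_zero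
    rcases two_conj h01 _ ha with h | h <;> rw [← hA] at h
    · refine Or.inl (hext fun u w => ?_)
      rw [← Matrix.mulVec_mulVec, ← Matrix.mulVec_mulVec, hωT, hab, hab, hωT, Matrix.mulVec_mulVec,
        Matrix.mulVec_mulVec, h]
    · refine Or.inr (hext fun u w => ?_)
      rw [← Matrix.mulVec_mulVec, ← Matrix.mulVec_mulVec, hωT, hab, hab, Matrix.sub_mulVec, Matrix.one_mulVec, hωT,
        Matrix.mulVec_mulVec, h, ← Matrix.mulVec_mulVec, Matrix.sub_mulVec, Matrix.one_mulVec, sub_eq_add_neg,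
        sub_eq_add_neg, hTadd, ← neg_one_smul F (A *ᵥ _), hTsmul, neg_one_smul, map_neg]
  · -- a root element of a line over the extension
    have hr := Cfsg.Agent.Classical.reflexForm_of_symplectic hf₂
    obtain ⟨a, ha⟩ : ∃ a : Fin n₂ → F, a ≠ 0 :=
      ⟨Pi.single ⟨0, by omega⟩ 1, fun h => one_ne_zero (α := F) (by simpa using congrFun h ⟨0, by omega⟩)⟩
    obtain ⟨b, hb, hba⟩ : ∃ b ∈ hr.perp (Submodule.span F {a}), b ∉ Submodule.span F {a} := by
      by_contra hcon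
      push Not at hcon
      have h3 := Submodule.finrank_mono (show hr.perp (Submodule.span F {a}) ≤ Submodule.span F {a} from hcon)
      have h4 := hr.finrank_perp (Submodule.span F {a})
      rw [finrank_span_singleton ha, Fintype.card_fin] at h4
      rw [finrank_span_singleton ha] at h3
      omega
    obtain ⟨d, hd, hbd⟩ : ∃ d ∈ hr.perp (Submodule.span F {a}), f₂ b d ≠ 0 := by
      by_contra hcon
      push Not at hcon
      refine hba ?_
      rw [← hr.perp_perp (Submodule.span F {a})]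
      exact hcon
    have hba0 : f₂ b a = 0 := hb a (Submodule.mem_span_singleton_self a)
    have hab0 : f₂ a b = 0 := by rw [hneg2 b a, hba0, neg_zero]
    have had : f₂ a d = 0 := by rw [hneg2 d a, hd a (Submodule.mem_span_singleton_self a), neg_zero]
    obtain ⟨g, hg, hgx, hgc⟩ := Cfsg.Agent.Classical.OQExt.base E (v := T u₀ a + T u₁ b) (by rw [hQv, hab0]) 1
    have hgN : g ∈ N ⊓ Cfsg.Geo.omegaGL ⇑Qf := ⟨Or.inl (hext fun u w => by
      rw [← Matrix.mulVec_mulVec, ← Matrix.mulVec_mulVec, hgc]), hg⟩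
    rw [← heq] at hgN
    obtain ⟨α, β, hαβ⟩ := Cfsg.Agent.Classical.TNotMax.mem_tensor (Subgroup.mem_inf.mp hgN).1
    rw [← hTdef] at hαβ
    have h5 := hgx (T u₀ d)
    have e1 : QuadraticMap.polar (⇑Qf) (T u₀ a + T u₁ b) (T u₀ d) = 1 := by
      rw [QuadraticMap.polar_add_left, hpair, hpair, hf₁.alternating, hf10, h1 hbd]; ring
    have e2 : QuadraticMap.polar (⇑Qf) (T u₀ (-b) + T u₁ (a + b)) (T u₀ d) = 1 := by
      rw [QuadraticMap.polar_add_left, hpair, hpair, hf₁.alternating, hf10, hb₂.add_left, had, h1 hbd]; ring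
    rw [Cfsg.Agent.Classical.OQExt.rt, one_smul, hωv, e1, e2, one_smul, one_smul, hαβ,
      show T u₀ d + (T u₀ (-b) + T u₁ (a + b)) - (T u₀ a + T u₁ b) = T u₀ (d - b - a) + T u₁ a by
        simp only [map_add, map_sub, map_neg]; abel, hTu] at h5
    obtain ⟨h6, h7⟩ := hinj h5
    have h8 : ((α : Matrix (Fin 2) (Fin 2) F) *ᵥ u₀) 1 = 1 := h1 fun hz => ha (by
      rw [← h7, hz, zero_smul])
    rw [h8, one_smul] at h7
    rw [h7] at h6
    refine hbd ?_
    rw [show d = ((α : Matrix (Fin 2) (Fin 2) F) *ᵥ u₀) 0 • a + (b + a) by rw [h6]; abel, hal, hal, hb₂.smul_right, hba0,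
      hf₂.alternating]
    ring
  · refine Cfsg.Agent.Classical.OQExt.exists_moving E fun g hg x => ?_
    have h : g ∈ N := inf_eq_right.mp heq hg
    rcases h with h | h
    · rw [Matrix.mulVec_mulVec, h, ← Matrix.mulVec_mulVec]
      exact Cfsg.Agent.Classical.OQExt.omega_mem_L _
    · rw [Matrix.mulVec_mulVec, h, ← Matrix.mulVec_mulVec, Matrix.sub_mulVec, Matrix.one_mulVec]
      exact sub_mem (Cfsg.Agent.Classical.OQExt.self_mem_L _) (Cfsg.Agent.Classical.OQExt.omega_mem_L _)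

end Cfsg.Agent.S5705
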