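import Cfsg.Statements.S5967
import Cfsg.Agent.Lib.Classical.Elusive.InvolPowers
import Cfsg.Agent.Lib.Classical.SymplecticCount
-- import your own Cfsg.Agent.* helpers here

set_option autoImplicit false
open scoped MatrixGroups
open Cfsg

namespace Cfsg.Agent.S5967

open Cfsg.Agent.Classical.Elusive Module Matrix

/-- The bilinear map of a bilinear form given as a function. -/
def toB {F : Type*} [Field F] {n : ℕ} {f : (Fin n → F) → (Fin n → F) → F} (hb : Cfsg.Geo.IsBilinearForm f) :
    (Fin n → F) →ₗ[F] (Fin n → F) →ₗ[F] F :=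
  LinearMap.mk₂ F f hb.add_left (fun c a b => hb.smul_left c a b) (fun a b c => hb.add_right a b c)
    (fun c a b => hb.smul_right c a b)

theorem toB_apply {F : Type*} [Field F] {n : ℕ} {f : (Fin n → F) → (Fin n → F) → F} (hb : Cfsg.Geo.IsBilinearForm f)
    (u v : Fin n → F) : toB hb u v = f u v := rfl

theorem exists_symp_basis {F : Type*} [Field F] {n m : ℕ} (hm : n = 2 * m) {f : (Fin n → F) → (Fin n → F) → F}
    (hf : Cfsg.Geo.IsSymplecticForm f) :
    ∃ b : Basis (Fin 2 × Fin m) F (Fin n → F), ∀ i j, f (b (0, i)) (b (0, j)) = 0 ∧ f (b (1, i)) (b (1, j)) = 0 ∧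
      f (b (0, i)) (b (1, j)) = -(if i = j then 1 else 0) := by
  classical
  have hB : Cfsg.Agent.Classical.SpCount.IsAltND (toB hf.bilinear) := by
    refine ⟨hf.alternating, fun v hv => ?_⟩
    by_contra h
    obtain ⟨w, hw⟩ := (hf.nondegenerate v h).2
    exact hw (hv w)
  obtain ⟨g⟩ := Cfsg.Agent.Classical.SpCount.exists_fam m hB (by rw [finrank_fin_fun, hm])
  let e : Fin m ⊕ Fin m ≃ Fin 2 × Fin m :=
    { toFun := Sum.elim (fun i => (0, i)) (fun i => (1, i))
      invFun := fun l => if l.1 = 0 then Sum.inl l.2 else Sum.inr l.2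
      left_inv := by rintro (i | i) <;> simp
      right_inv := by rintro ⟨k, i⟩; fin_cases k <;> simp }
  refine ⟨(Cfsg.Agent.Classical.SpCount.famBasis hB (by rw [finrank_fin_fun, hm]) g).reindex e, fun i j => ?_⟩
  simp only [Basis.reindex_apply, Cfsg.Agent.Classical.SpCount.famBasis, Basis.coe_mk]
  have h := fun a b => g.2 a b
  simp only [toB_apply] at h
  simp [e, h, Matrix.J, Matrix.one_apply]

theorem similitude_of_basis {F : Type*} [Field F] {n m : ℕ} {f : (Fin n → F) → (Fin n → F) → F}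
    (hf : Cfsg.Geo.IsSymplecticForm f) {b : Basis (Fin 2 × Fin m) F (Fin n → F)}
    (hb : ∀ i j, f (b (0, i)) (b (0, j)) = 0 ∧ f (b (1, i)) (b (1, j)) = 0 ∧
      f (b (0, i)) (b (1, j)) = -(if i = j then 1 else 0))
    {Y : Module.End F (Fin n → F)} {M : Fin m → Matrix (Fin 2) (Fin 2) F}
    (hY : LinearMap.toMatrix b b Y = Matrix.blockDiagonal M) {c : F} (hM : ∀ i, (M i).det = c) :
    ∀ u v, f (Y u) (Y v) = c * f u v := by
  classical
  have key : (toB hf.bilinear).compl₁₂ Y Y = c • toB hf.bilinear := by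
    refine b.ext fun l => b.ext fun l' => ?_
    obtain ⟨k, i⟩ := l
    obtain ⟨k', j⟩ := l'
    rw [LinearMap.compl₁₂_apply, apply_of_toMatrix hY, apply_of_toMatrix hY]
    simp only [map_add, map_smul, LinearMap.add_apply, LinearMap.smul_apply, smul_eq_mul, toB_apply]
    rw [hf.skew (b (1, i)) (b (0, j)), (hb i j).1, (hb i j).2.1, (hb i j).2.2, (hb j i).2.2]
    rw [← hM i, Matrix.det_fin_two]
    by_cases h : i = j
    · subst h
      fin_cases k <;> fin_cases k' <;>
        simp [(hb i i).1, (hb i i).2.1, (hb i i).2.2, hf.skew (b (1, i)) (b (0, i))] <;> ring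
    · fin_cases k <;> fin_cases k' <;>
        simp [h, Ne.symm h, (hb i j).1, (hb i j).2.1, (hb i j).2.2, (hb j i).2.2, hf.skew (b (1, i)) (b (0, j))]
  intro u v
  exact LinearMap.congr_fun (LinearMap.congr_fun key u) v


/-- Involutions of PSL_n(q) and the symplectic-type subgroups. Here `T = PSL_n(F)` for a field `F` with `q` elements, `n ≥ 4` even, `f` is a nondegenerate alternating form on `F^n`, and `H` is the subgroup of matrices of determinant 1 preserving `f` up to a scalar — a maximal subgroup of type Sp_n(q); Ω is the set of `T`-conjugates of `H` (cosets of `H`), so an element of `T` of prime order `r` (a matrix `x` of determinant 1 with `x^r` scalar, `x` not scalar) fixes a point of Ω when some conjugate of `x` by a matrix of determinant 1 preserves `f` up to a scalar. Suppose the index of `H` is even. Then every involution of `T` is conjugate in `T` into `H` if and only if `(q − 1)_2 ≤ (n)_2`. -/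
theorem result {F : Type*} [Field F] [Fintype F] {p : ℕ} [Fact p.Prime] [CharP F p] {q : ℕ} (hq : Fintype.card F = q)
    (n : ℕ) (hn : 4 ≤ n) (he : Even n) (f : (Fin n → F) → (Fin n → F) → F) (hf : Cfsg.Geo.IsSymplecticForm f)
    (hΩ : 2 ∣ ((Cfsg.Geo.similarityGroup f).comap (Matrix.SpecialLinearGroup.toGL : Matrix.SpecialLinearGroup (Fin n) F →* GL (Fin n) F)).index) :
    (∀ x : Matrix.SpecialLinearGroup (Fin n) F,
      (∃ z : F, ((x ^ 2 : Matrix.SpecialLinearGroup (Fin n) F) : Matrix (Fin n) (Fin n) F) = z • (1 : Matrix (Fin n) (Fin n) F)) →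
      (∀ z : F, (x : Matrix (Fin n) (Fin n) F) ≠ z • (1 : Matrix (Fin n) (Fin n) F)) →
      ∃ P : Matrix.SpecialLinearGroup (Fin n) F, P⁻¹ * x * P ∈ ((Cfsg.Geo.similarityGroup f).comap (Matrix.SpecialLinearGroup.toGL : Matrix.SpecialLinearGroup (Fin n) F →* GL (Fin n) F))) ↔
    padicValNat 2 (q - 1) ≤ padicValNat 2 n := by
  classical
  obtain ⟨m, hm'⟩ := he
  have hm : n = 2 * m := by omega
  obtain ⟨b', hb'⟩ := exists_symp_basis hm hf
  have i₀ : Fin m := ⟨0, by omega⟩
  constructor
  · intro h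
    by_contra hlt
    push_neg at hlt
    have h2 : (2 : F) ≠ 0 := Ring.two_ne_zero fun hc => by
      have heven := FiniteField.even_card_of_char_two hc
      rw [hq] at heven
      have h0 : padicValNat 2 (q - 1) = 0 := padicValNat.eq_zero_of_not_dvd (by
        have := Fintype.one_lt_card (α := F); omega)
      omega
    rw [← hq] at hlt
    obtain ⟨μ, hμ⟩ := (exists_pow_eq_neg_one_iff h2 (n := n) (by omega)).mpr hlt
    obtain ⟨x, hx2, hxs, hconj⟩ := exists_reflection (n := n) (by omega) hμ h2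
    obtain ⟨P, hP⟩ := h x ⟨_, hx2⟩ hxs
    rw [Subgroup.mem_comap] at hP
    obtain ⟨c, hc⟩ := hP
    obtain ⟨H, w, hH, hwH, hu, hw⟩ := hconj P
    obtain ⟨y, hy⟩ : ∃ y, y = ((P⁻¹ * x * P : Matrix.SpecialLinearGroup (Fin n) F) : Matrix (Fin n) (Fin n) F) :=
      ⟨_, rfl⟩
    rw [← hy] at hu hw
    replace hc : ∀ u v, f (y *ᵥ u) (y *ᵥ v) = (c : F) * f u v := by rw [hy]; exact hc
    have hμ0 : μ ≠ 0 := fun h0 => by
      rw [h0, zero_pow (by omega)] at hμ
      exact one_ne_zero (neg_eq_zero.mp hμ.symm)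
    obtain ⟨B, hBdef⟩ : ∃ B, B = toB hf.bilinear := ⟨_, rfl⟩
    have hBf : ∀ u v, B u v = f u v := fun u v => by rw [hBdef]; rfl
    have htop : H ⊔ Submodule.span F {w} = ⊤ := by
      apply Submodule.eq_top_of_finrank_eq
      have hlt' : H < H ⊔ Submodule.span F {w} := lt_of_le_of_ne le_sup_left fun h' =>
        hwH (h'.symm ▸ Submodule.mem_sup_right (Submodule.mem_span_singleton_self w))
      have := Submodule.finrank_lt_finrank_of_lt hlt'
      have := Submodule.finrank_le (H ⊔ Submodule.span F {w})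
      rw [finrank_fin_fun] at this ⊢
      omega
    have hperp : ∀ z, (∀ u ∈ H, f z u = 0) → f z w = 0 → z = 0 := by
      intro z h1 h2'
      by_contra hz
      obtain ⟨v, hv⟩ := (hf.nondegenerate z hz).2
      have hle : (⊤ : Submodule F (Fin n → F)) ≤ LinearMap.ker (B z) := by
        rw [← htop, sup_le_iff, Submodule.span_le, Set.singleton_subset_iff]
        exact ⟨fun u hu => (hBf z u).trans (h1 u hu), (hBf z w).trans h2'⟩
      exact hv ((hBf z v).symm.trans (hle Submodule.mem_top))
    have hc' : (c : F) = -(μ * μ) := by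
      by_contra hne
      apply hwH
      have : w = 0 := hperp w (fun u hu' => by
        have := hc w u
        rw [hw, hu u hu', ← hBf, ← hBf] at this
        simp only [map_smul, LinearMap.smul_apply, smul_eq_mul] at this
        rw [← hBf]
        have h0 : ((c : F) + μ * μ) * B w u = 0 := by linear_combination -this
        exact (mul_eq_zero.mp h0).resolve_left fun h' => hne (by linear_combination h')) (hf.alternating w)
      rw [this]; exact H.zero_mem
    have hiso : ∀ u ∈ H, ∀ v ∈ H, f u v = 0 := by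
      intro u hu' v hv'
      have := hc u v
      rw [hu u hu', hu v hv', hc', ← hBf, ← hBf] at this
      simp only [map_smul, LinearMap.smul_apply, smul_eq_mul] at this
      rw [← hBf]
      have h0 : (2 * (μ * μ)) * B u v = 0 := by linear_combination this
      exact (mul_eq_zero.mp h0).resolve_left (mul_ne_zero h2 (mul_ne_zero hμ0 hμ0))
    have hker : LinearMap.ker ((B.flip w).comp H.subtype) ≠ ⊥ := by
      intro h0
      have := LinearMap.finrank_le_finrank_of_injective (LinearMap.ker_eq_bot.mp h0)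
      rw [finrank_self] at this
      omega
    obtain ⟨u, hu', hu0⟩ := Submodule.exists_mem_ne_zero_of_ne_bot hker
    exact hu0 (Subtype.ext (hperp u (hiso u u.2) ((hBf _ _).symm.trans hu')))
  · rintro hle x ⟨z, hz⟩ -
    obtain ⟨hz0, hx⟩ := sl_sq (by omega) x hz
    have hdim : finrank F (Fin n → F) = 2 * m := by rw [finrank_fin_fun, hm]
    suffices key : ∃ (b : Basis (Fin 2 × Fin m) F (Fin n → F)) (M : Fin m → Matrix (Fin 2) (Fin 2) F) (c : F), c ≠ 0 ∧
        LinearMap.toMatrix b b (Matrix.toLin' (x : Matrix (Fin n) (Fin n) F)) = Matrix.blockDiagonal M ∧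
        (∀ i, (M i).det = c) ∧
        ∀ c : F, c ≠ 0 → ∃ (i : Fin m) (Z : Matrix (Fin 2) (Fin 2) F), Z.det = c ∧ Z * M i = M i * Z by
      obtain ⟨b, M, c, hc0, hxb, hMc, hZ⟩ := key
      obtain ⟨Y, hYdef⟩ : ∃ Y, Y = Matrix.toLin b' b' (Matrix.blockDiagonal M) := ⟨_, rfl⟩
      have hY : LinearMap.toMatrix b' b' Y = Matrix.blockDiagonal M := by rw [hYdef, LinearMap.toMatrix_toLin]
      obtain ⟨P, hP⟩ := exists_sl_conj x hxb hY hZ
      refine ⟨P, Units.mk0 c hc0, fun u v => ?_⟩
      show f (((P⁻¹ * x * P : Matrix.SpecialLinearGroup (Fin n) F) : Matrix (Fin n) (Fin n) F) *ᵥ u)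
        (((P⁻¹ * x * P : Matrix.SpecialLinearGroup (Fin n) F) : Matrix (Fin n) (Fin n) F) *ᵥ v) = c * f u v
      rw [hP, LinearMap.toMatrix'_mulVec, LinearMap.toMatrix'_mulVec]
      exact similitude_of_basis hf hb' hY hMc u v
    by_cases h2 : (2 : F) = 0
    · have hring : ringChar F = 2 := by
        haveI : CharP F 2 := CharTwo.of_one_ne_zero_of_two_eq_zero one_ne_zero h2
        exact ringChar.eq F 2
      obtain ⟨μ, hμ⟩ := FiniteField.isSquare_of_char_two hring z
      have hμ0 : μ ≠ 0 := fun h => hz0 (by rw [hμ, h, mul_zero])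
      obtain ⟨t, -, -, b, hb⟩ := exists_jordan_basis hdim h2 hμ0 (fun v => by rw [hx, hμ])
      exact ⟨b, _, μ * μ, mul_ne_zero hμ0 hμ0, hb, fun i => by simp [blockJordan, Matrix.det_fin_two],
        fun c _ => centraliser_jordan hring i₀ μ t c⟩
    by_cases hsq : IsSquare z
    · obtain ⟨μ, hμ⟩ := hsq
      have hμ0 : μ ≠ 0 := fun h => hz0 (by rw [hμ, h, mul_zero])
      obtain ⟨a, hadef⟩ : ∃ a, a = finrank F (LinearMap.ker (Matrix.toLin' (x : Matrix (Fin n) (Fin n) F) - μ • 1)) :=
        ⟨_, rfl⟩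
      have hale : a ≤ 2 * m := by rw [hadef, ← hdim]; exact Submodule.finrank_le _
      obtain ⟨S, -, hS⟩ := Finset.exists_subset_card_eq (s := (Finset.univ : Finset (Fin 2 × Fin m))) (n := a)
        (by simpa using hale)
      obtain ⟨b₁, hb₁⟩ := exists_eigen_basis hdim h2 hμ0 (fun v => by rw [hx, hμ]) S (hS.trans hadef)
      have hdet := card_eigen_even hm x S hb₁
      obtain ⟨a', ha'⟩ : Even a := by
        by_contra ho
        have hc : Sᶜ.card = 2 * m - a := by
          rw [Finset.card_compl, hS, Fintype.card_prod, Fintype.card_fin, Fintype.card_fin]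
        rw [Odd.neg_one_pow (by rw [hc]; rw [Nat.not_even_iff] at ho; rw [Nat.odd_iff]; omega)] at hdet
        have := (exists_pow_eq_neg_one_iff h2 (n := n) (by omega)).mp ⟨μ, by linear_combination -hdet⟩
        rw [hq] at this
        omega
      let S' : Finset (Fin 2 × Fin m) := Finset.univ ×ˢ Finset.univ.filter (fun i : Fin m => (i : ℕ) < a')
      have hS' : S'.card = a := by
        rw [Finset.card_product, Finset.card_univ, Fintype.card_fin, Fin.card_filter_val_lt,
          min_eq_right (by omega)]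
        omega
      obtain ⟨b, hb⟩ := exists_eigen_basis hdim h2 hμ0 (fun v => by rw [hx, hμ]) S' (hS'.trans hadef)
      refine ⟨b, _, μ * μ, mul_ne_zero hμ0 hμ0, hb, fun i => ?_, fun c _ => centraliser_eig i₀ _ c⟩
      by_cases hi : (i : ℕ) < a' <;> simp [blockEig, Matrix.det_diagonal, S', hi] <;> ring
    · obtain ⟨b, hb⟩ := exists_root_basis hdim hsq hx
      exact ⟨b, _, -z, neg_ne_zero.mpr hz0, hb, fun i => by simp [blockRoot, Matrix.det_fin_two],
        fun c _ => by obtain ⟨i, Z, h⟩ := centraliser_root i₀ hz0 c; exact ⟨i, Z, h⟩⟩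

end Cfsg.Agent.S5967
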