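import Cfsg.Statements.S5707
import Cfsg.Agent.Lib.Classical.SpinTensor
import Cfsg.Agent.S5967
-- import your own Cfsg.Agent.* helpers here

set_option autoImplicit false
open Cfsg

namespace Cfsg.Agent.S5707

open Matrix Cfsg.Geo Cfsg.Agent.Classical Cfsg.Agent.Classical.Spin

/-- A symplectic form in dimension two or four has the standard Gram matrix in a suitable basis. -/
theorem normalise {F : Type*} [Field F] (h2 : (2 : F) = 0) {k : ℕ} (hk : k = 2 ∨ k = 4) {f₁ : (Fin k → F) → (Fin k → F) → F}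
    (hf₁ : IsSymplecticForm f₁) :
    ∃ (s : ℕ) (ε : Fin k ≃ (Fin s → Fin 2)) (T : GL (Fin k) F) (a : F), 0 < s ∧ k = 2 ^ s ∧ a ≠ 0 ∧
      (T : Matrix (Fin k) (Fin k) F)ᵀ * gramMatrix f₁ * (T : Matrix (Fin k) (Fin k) F) = a • Jk F ε ∧
      ∀ (A : GL (Fin k) F) (l : F), l ≠ 0 →
        (A : Matrix (Fin k) (Fin k) F)ᵀ * Jk F ε * (A : Matrix (Fin k) (Fin k) F) = l • Jk F ε →
        ∀ M ∈ S F ε, ∃ Y ∈ S F ε, (A : Matrix (Fin k) (Fin k) F) * M = Y * (A : Matrix (Fin k) (Fin k) F) := by
  have hneg : ∀ x : F, -x = x := fun x => by linear_combination (-x) * h2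
  rcases hk with rfl | rfl
  · refine ⟨1, eps2, 1, gramMatrix f₁ 0 1, one_pos, rfl, ?_, ?_, fun A _ _ _ M hM => inv_plane h2 A M hM⟩
    · intro h
      refine det_gram_ne_zero (RingEquiv.refl F) (semiForm_of_bilinear hf₁.bilinear) hf₁.nondegenerate ?_
      rw [Matrix.det_fin_two, h]
      simp [gramMatrix, hf₁.alternating]
    · rw [Units.val_one, Matrix.transpose_one, Matrix.one_mul, Matrix.mul_one]
      ext x y
      fin_cases x <;> fin_cases y <;>
        simp [gramMatrix, hf₁.alternating, Jk, Spin.J, eps2, flipAll, funext_iff]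
      rw [hf₁.skew, hneg]
  · obtain ⟨b, hb⟩ := Cfsg.Agent.S5967.exists_symp_basis (m := 2) rfl hf₁
    let σ : Fin 4 → Fin 2 × Fin 2 := ![(0, 0), (0, 1), (1, 1), (1, 0)]
    have hσ : Function.Bijective σ := by
      refine (Fintype.bijective_iff_injective_and_card σ).mpr ⟨?_, rfl⟩
      decide
    let b' := b.reindex (Equiv.ofBijective σ hσ).symm
    let T : Matrix (Fin 4) (Fin 4) F := (Pi.basisFun F (Fin 4)).toMatrix b'
    have hT : IsUnit T := IsUnit.of_mul_eq_one _ ((Pi.basisFun F (Fin 4)).toMatrix_mul_toMatrix_flip b')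
    refine ⟨2, eps4, hT.unit, 1, two_pos, rfl, one_ne_zero, ?_, fun A l hl hA M hM => inv_four h2 A l hl hA M hM⟩
    have hcol : ∀ x, T *ᵥ Pi.single x 1 = b (σ x) := fun x => by
      rw [Matrix.mulVec_single_one]
      funext z
      simp [T, b', Module.Basis.toMatrix_apply]
    rw [one_smul, IsUnit.unit_spec]
    have h := gram_comp (RingEquiv.refl F) (semiForm_of_bilinear hf₁.bilinear) T
    rw [show T.map (RingEquiv.refl F) = T from Matrix.ext fun _ _ => rfl] at h
    rw [← h]
    ext x y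
    simp only [gramMatrix, hcol]
    have hx := fun i j => hb i j
    have hs : ∀ i j, f₁ (b (1, i)) (b (0, j)) = if i = j then 1 else 0 := fun i j => by
      rw [hf₁.skew, (hb j i).2.2, neg_neg]; simp [eq_comm]
    fin_cases x <;> fin_cases y <;>
      simp +decide [σ, (hx _ _).1, (hx _ _).2.1, (hx _ _).2.2, hs, hneg, Jk, Spin.J, eps4, flipAll, funext_iff,
        Fin.forall_fin_two, hf₁.alternating]


/-- Let F be a finite field with q elements, n ≥ 13 even, Q a non-degenerate quadratic form on F^n of plus type (some subspace of dimension n/2 is totally singular), and Ω the commutator subgroup of the isometry group of Q, viewed inside GL_n(F). Suppose q is even and that, through P and e, the polar form of Q is similar to the t-fold tensor power (t ≥ 2) of a non-degenerate symplectic form f₁ on F^k with k ≤ 4 and (q, k) ≠ (2, 2), Q vanishing on the images of all pure tensors. Then the elements of Ω in the stabiliser of this decomposition form a subgroup that is not maximal: some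 subgroup lies strictly between it and Ω. -/
theorem result {F : Type*} [Field F] [Fintype F] {n : ℕ} (hn : 13 ≤ n) (heven : Even n) (Q : (Fin n → F) → F) (hQ : Cfsg.Geo.IsNondegenerateQuadraticForm Q) (hplus : Cfsg.Geo.IsPlusTypeOn Q ⊤) (hchar : ¬ Odd (Fintype.card F)) (k t : ℕ) (ht : 2 ≤ t) (hk : k ≤ 4) (hex1 : ¬ (Fintype.card F = 2 ∧ k = 2)) (e : (Fin n) ≃ (Fin t → Fin k)) (P : Matrix.GeneralLinearGroup (Fin n) F) (f₁ : (Fin k → F) → (Fin k → F) → F) (hf₁ : Cfsg.Geo.IsSymplecticForm f₁) (hT : Cfsg.Geo.IsTensorPowerFormStructure id (QuadraticMap.polar Q) f₁ e P) (hpure : (∀ xs : Fin t → (Fin k → F), Q (Matrix.mulVec (P : Matrix (Fin n) (Fin n) F) ((fun a : Fin t → Fin k => ∏ i, xs i (a i)) ∘ e)) = 0)) : ∃ K : Subgroup (Matrix.GeneralLinearGroup (Fin n) F), Cfsg.Geo.tensorWreathSubgroup k t e P ⊓ Cfsg.Geo.omegaGL Q < K ∧ K < Cfsg.Geo.omegaGL Q := by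
  classical
  have h2 : (2 : F) = 0 := by
    by_contra h
    refine hchar (Nat.odd_iff.mpr (FiniteField.odd_card_of_char_ne_two fun hc => h ?_))
    have := ringChar.Nat.cast_ringChar (R := F)
    rw [hc] at this
    exact_mod_cast this
  have hcard : n = k ^ t := by
    have := Fintype.card_congr e
    simpa using this
  have hk24 : k = 2 ∨ k = 4 := by
    rcases Nat.even_or_odd k with hev | hodd
    · have hk0 : k ≠ 0 := by
        rintro rfl
        rw [zero_pow (by omega)] at hcard
        omega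
      obtain ⟨r, rfl⟩ := hev
      omega
    · exact absurd hf₁.nondegenerate
        (not_nondegenerate_alternating_of_odd (by simpa using hodd) hf₁.bilinear hf₁.skew hf₁.alternating)
  obtain ⟨s, ε, T, a, hs, hks, ha, hTG, hinv⟩ := normalise h2 hk24 hf₁
  have hts : 4 ≤ t * s := by
    by_contra h
    rw [hks, ← pow_mul, Nat.mul_comm] at hcard
    have : 2 ^ (t * s) ≤ 2 ^ 3 := Nat.pow_le_pow_right (by norm_num) (by omega)
    omega
  obtain ⟨c, hc, hform⟩ := hT
  -- the tensor power of the change of basis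
  let Tm := pureM fun _ : Fin t => (T : Matrix (Fin k) (Fin k) F)
  let Ti := pureM fun _ : Fin t => ((T⁻¹ : GL (Fin k) F) : Matrix (Fin k) (Fin k) F)
  let Tp : GL (Fin t → Fin k) F := ⟨Tm, Ti,
    by simp [Tm, Ti, pureM_mul, pureM_one], by simp [Tm, Ti, pureM_mul, pureM_one]⟩
  let T' : GL (Fin n) F := glReindex e.symm Tp
  have hTp : Tp ∈ tensorWreathStandard k t F := Subgroup.subset_closure (Or.inl ⟨fun _ => T, fun x y => rfl⟩)
  have hX : tensorWreathSubgroup k t e (P * T') = tensorWreathSubgroup k t e P := by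
    ext g
    have e1 : glReindex e ((P * T')⁻¹ * g * (P * T')) = Tp⁻¹ * glReindex e (P⁻¹ * g * P) * Tp := by
      have e0 : glReindex e T' = Tp := Units.ext (by ext x y; simp [T', glReindex])
      rw [← e0, ← map_inv, ← map_mul, ← map_mul]
      congr 1
      group
    rw [tensorWreathSubgroup, mem_conj_reindex_iff, tensorWreathSubgroup, mem_conj_reindex_iff, e1,
      Subgroup.mul_mem_cancel_right _ hTp, Subgroup.mul_mem_cancel_left _ (inv_mem hTp)]
  have hvec : ∀ v : (Fin t → Fin k) → F, ((P * T' : GL (Fin n) F) : Matrix (Fin n) (Fin n) F) *ᵥ (v ∘ e) =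
      (P : Matrix (Fin n) (Fin n) F) *ᵥ ((Tm *ᵥ v) ∘ e) := fun v => by
    rw [Units.val_mul, ← Matrix.mulVec_mulVec]
    congr 1
    change (Tm.submatrix e e) *ᵥ (v ∘ e) = _
    rw [Matrix.submatrix_mulVec_equiv, Function.comp_assoc, Equiv.self_comp_symm, Function.comp_id]
  rw [← hX]
  refine tensor_not_maximal ε h2 hinv hs ht hts e (P * T') (c := c * a ^ t) (mul_ne_zero hc (pow_ne_zero _ ha))
    hQ.smul (fun u v => ?_) (fun x => ?_)
  · rw [hvec, hvec, hform]
    have h1 : ∀ x y : (Fin t → Fin k) → F, (∑ p, ∑ q, x p * (∏ i, gramMatrix f₁ (p i) (q i)) * id (y q)) =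
        x ⬝ᵥ ((pureM fun _ => gramMatrix f₁) *ᵥ y) := fun x y => by
      simp only [dotProduct, Matrix.mulVec, pureM, Matrix.of_apply, Finset.mul_sum, id, mul_assoc]
    rw [h1, ← Matrix.vecMul_transpose, ← Matrix.dotProduct_mulVec, Matrix.mulVec_mulVec, Matrix.mulVec_mulVec,
      show Tmᵀ * (pureM fun _ => gramMatrix f₁) * Tm = a ^ t • pureM fun _ => Jk F ε by
        simp only [Tm, pureM_transpose, pureM_mul, hTG, pureM_smul, Finset.prod_const, Finset.card_univ, Fintype.card_fin],
      Matrix.smul_mulVec, dotProduct_smul, smul_eq_mul, mul_assoc]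
  · rw [hvec, Matrix.mulVec_single_one]
    exact hpure fun i z => (T : Matrix (Fin k) (Fin k) F) z (x i)

end Cfsg.Agent.S5707
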