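import Cfsg.Statements.S5708
import Cfsg.Agent.Lib.Classical.OTPow.Four.Final
import Cfsg.Agent.Lib.Classical.TensorMax.OO.EqualFinal
-- import your own Cfsg.Agent.* helpers here

set_option autoImplicit false
open Cfsg

namespace Cfsg.Agent.S5708

/-- Let F be a finite field with q elements, n ≥ 13 even, Q a non-degenerate quadratic form on F^n of plus type (some subspace of dimension n/2 is totally singular), and Ω the commutator subgroup of the isometry group of Q, viewed inside GL_n(F). Suppose q is odd and that, through a change of basis P and a bijection of index sets e, the polar form of Q is similar to the t-fold tensor power (t ≥ 2) of a non-degenerate symmetric bilinear form f₁ on F^k with k even, where either k ≥ 6 and f₁ has a totally isotropic subspace of dimension k/2 (plus type), or k ≥ 4 and it has none (minus type). Then the elements of Ω in the stabiliser of this decomposition form a maximal subgroup of Ω. -/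
theorem result {F : Type*} [Field F] [Fintype F] {n : ℕ} (hn : 13 ≤ n) (heven : Even n) (Q : (Fin n → F) → F) (hQ : Cfsg.Geo.IsNondegenerateQuadraticForm Q) (hplus : Cfsg.Geo.IsPlusTypeOn Q ⊤) (hodd : Odd (Fintype.card F)) (k t : ℕ) (ht : 2 ≤ t) (hke : Even k) (e : (Fin n) ≃ (Fin t → Fin k)) (P : Matrix.GeneralLinearGroup (Fin n) F) (f₁ : (Fin k → F) → (Fin k → F) → F) (hf₁ : Cfsg.Geo.IsSymmetricForm f₁) (hsize : (6 ≤ k ∧ Cfsg.Geo.IsPlusTypeOn (fun v : Fin k → F => f₁ v v) ⊤) ∨ (4 ≤ k ∧ ¬ Cfsg.Geo.IsPlusTypeOn (fun v : Fin k → F => f₁ v v) ⊤)) (hT : Cfsg.Geo.IsTensorPowerFormStructure id (QuadraticMap.polar Q) f₁ e P) : Cfsg.Geo.IsMaximalIn (Cfsg.Geo.omegaGL Q) (Cfsg.Geo.tensorWreathSubgroup k t e P ⊓ Cfsg.Geo.omegaGL Q) := by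
  classical
  have h2 : (2 : F) ≠ 0 := fun h => by
    have he : ringChar F = 2 :=
      (Nat.prime_dvd_prime_iff_eq (CharP.char_is_prime F (ringChar F)) Nat.prime_two).mp (ringChar.dvd h)
    exact Nat.not_odd_iff_even.2 (Nat.even_iff.2 (FiniteField.even_card_of_char_two he)) hodd
  obtain ⟨Qf, rfl⟩ : ∃ Qf : QuadraticForm F (Fin n → F), ⇑Qf = Q :=
    ⟨QuadraticMap.ofPolar Q (fun a x => by rw [hQ.smul, _root_.sq, smul_eq_mul])
      (fun x y z => hQ.polar_bilinear.add_left x y z)
      (fun a x y => by rw [hQ.polar_bilinear.smul_left, smul_eq_mul]), rfl⟩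
  have hk : 4 ≤ k := by omega
  have h4 : k = 4 → ¬ Cfsg.Geo.IsPlusTypeOn (fun v : Fin k → F => f₁ v v) ⊤ := fun h => by
    rcases hsize with ⟨h6, -⟩ | ⟨-, hm⟩
    · omega
    · exact hm
  rcases eq_or_lt_of_le ht with rfl | ht3
  · rcases eq_or_lt_of_le hk with rfl | hk5
    · exact Cfsg.Agent.Classical.OTPow.Four.isMaximalIn_four h2 Qf e P hf₁ (h4 rfl) hT
    · exact Cfsg.Agent.Classical.TensorMax.OO.isMaximalIn_square h2 ⇑Qf hQ hk5 e P hf₁ hT
  · exact Cfsg.Agent.Classical.OTPow.isMaximalIn_even h2 ht3 hk hke Qf e P hf₁ h4 hT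

end Cfsg.Agent.S5708
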