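import Cfsg.Statements.S5709
import Cfsg.Agent.Lib.Classical.TensorMax.OO.Final
import Cfsg.Agent.Lib.Classical.LinOutcome

set_option autoImplicit false
open Cfsg

namespace Cfsg.Agent.S5709

/-- Let F be a finite field with q elements, n ≥ 13 even, Q a non-degenerate quadratic form on F^n of minus type (no subspace of dimension n/2 is totally singular), and Ω the commutator subgroup of the isometry group of Q, viewed inside GL_n(F). Suppose q is odd and that, through a change of basis P and a bijection of index sets e, the polar form of Q is similar to the tensor product of non-degenerate symmetric bilinear forms f₁ on F^(n₁), n₁ odd and at least 3, and f₂ on F^(n₂), n₂ even and at least 4 with no totally isotropic subspace of dimension n₂/2 (minus type). Unless q = 3 and n₁ = 3, the elements of Ω in the stabiliser of this tensor decomposition form a maximal subgroup of Ω. -/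
theorem result {F : Type*} [Field F] [Fintype F] {n : ℕ} (hn : 13 ≤ n) (heven : Even n) (Q : (Fin n → F) → F) (hQ : Cfsg.Geo.IsNondegenerateQuadraticForm Q) (hminus : ¬ Cfsg.Geo.IsPlusTypeOn Q ⊤) (hodd : Odd (Fintype.card F)) (n₁ n₂ : ℕ) (h1 : 3 ≤ n₁) (h1o : Odd n₁) (h2 : 4 ≤ n₂) (h2e : Even n₂) (hex : ¬ (Fintype.card F = 3 ∧ n₁ = 3)) (e : (Fin n) ≃ Fin n₁ × Fin n₂) (P : Matrix.GeneralLinearGroup (Fin n) F) (f₁ : (Fin n₁ → F) → (Fin n₁ → F) → F) (f₂ : (Fin n₂ → F) → (Fin n₂ → F) → F) (hf₁ : Cfsg.Geo.IsSymmetricForm f₁) (hf₂ : Cfsg.Geo.IsSymmetricForm f₂) (hf₂m : ¬ Cfsg.Geo.IsPlusTypeOn (fun v : Fin n₂ → F => f₂ v v) ⊤) (hT : Cfsg.Geo.IsTensorFormStructure id (QuadraticMap.polar Q) f₁ f₂ e P) : Cfsg.Geo.IsMaximalIn (Cfsg.Geo.omegaGL Q) (Cfsg.Geo.tensorProductSubgroup n₁ n₂ e P ⊓ Cfsg.Geo.omegaGL Q) := by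
  have h2' : (2 : F) ≠ 0 := Cfsg.Agent.Classical.two_ne_zero_of_odd_card hodd
  have hcard : n = n₁ * n₂ := by simpa using Fintype.card_congr e
  obtain ⟨k₁, hk₁⟩ := h1o
  obtain ⟨k₂, hk₂⟩ := h2e
  by_cases h4 : n₂ = 4
  · subst h4
    have h5 : 5 ≤ n₁ := by omega
    rw [← Cfsg.Agent.Classical.TensorMax.OO.product_swap e P]
    refine Cfsg.Agent.Classical.TensorMax.OO.isMaximalIn_omega h2' Q hQ _ P hf₂ hf₁
      (Cfsg.Agent.Classical.TensorMax.OO.structure_swap hT) (by omega) h5 (fun h => ?_) (Or.inr le_rfl) (fun _ => ?_)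
    · exact absurd (Nat.le_of_dvd (by omega) h) (by omega)
    · exact Cfsg.Agent.Classical.TensorMax.OO.no_plane (Cfsg.Agent.Classical.reflexForm_of_symmetric hf₂)
        (Or.inr ⟨rfl, hf₂m⟩)
  refine Cfsg.Agent.Classical.TensorMax.OO.isMaximalIn_omega h2' Q hQ e P hf₁ hf₂ hT h1 (by omega) (fun h => ?_) ?_
    (fun h => ?_)
  · obtain ⟨j, hj⟩ := h
    have : n₁ % 2 = 0 := by rw [hj, hk₂, show k₂ + k₂ = 2 * k₂ by omega, mul_assoc]; omega
    omega
  · by_cases h3 : Fintype.card F = 3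
    · exact Or.inr (by
        have : n₁ ≠ 3 := fun h => hex ⟨h3, h⟩
        omega)
    · exact Or.inl (Cfsg.Agent.Classical.TensorMax.OO.exists_sq_ne hodd h3)
  · exact Cfsg.Agent.Classical.TensorMax.OO.no_plane (Cfsg.Agent.Classical.reflexForm_of_symmetric hf₁)
      (Or.inl (by omega))

end Cfsg.Agent.S5709
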