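import Cfsg.Statements.S5713

set_option autoImplicit false
open Cfsg

namespace Cfsg.Agent.S5713

open scoped Classical Pointwise
open Equiv

section
variable {G Ω : Type*} [Group G] [MulAction G Ω]

/-- The pairs `(a, b)` and `(c, d)` have the same colour. -/
def Rel (G : Type*) {Ω : Type*} [Group G] [MulAction G Ω] (a b c d : Ω) : Prop :=
  ∃ h : G, h • a = c ∧ h • b = d

theorem Rel.refl (a b : Ω) : Rel G a b a b := ⟨1, one_smul _ _, one_smul _ _⟩

theorem Rel.symm {a b c d : Ω} (h : Rel G a b c d) : Rel G c d a b := by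
  obtain ⟨k, rfl, rfl⟩ := h
  exact ⟨k⁻¹, inv_smul_smul _ _, inv_smul_smul _ _⟩

theorem Rel.trans {a b c d e f : Ω} (h : Rel G a b c d) (h' : Rel G c d e f) : Rel G a b e f := by
  obtain ⟨k, rfl, rfl⟩ := h
  obtain ⟨l, rfl, rfl⟩ := h'
  exact ⟨l * k, mul_smul _ _ _, mul_smul _ _ _⟩

theorem Rel.swap {a b c d : Ω} (h : Rel G a b c d) : Rel G b a d c :=
  let ⟨k, h1, h2⟩ := h
  ⟨k, h2, h1⟩

variable [Fintype Ω]

/-- The points telling `u` from `v`. -/
noncomputable def dset (G : Type*) {Ω : Type*} [Group G] [MulAction G Ω] [Fintype Ω] (u v : Ω) : Finset Ω :=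
  Finset.univ.filter fun x => ¬ Rel G u x v x

theorem dist_tri (u v w : Ω) :
    (dset G u w).card ≤ (dset G u v).card + (dset G v w).card := by
  refine (Finset.card_le_card fun x hx => ?_).trans (Finset.card_union_le _ _)
  simp only [dset, Finset.mem_filter, Finset.mem_univ, true_and, Finset.mem_union] at hx ⊢
  by_contra h
  simp only [not_or, not_not] at h
  exact hx (h.1.trans h.2)

theorem dist_comm (u v : Ω) : (dset G u v).card = (dset G v u).card := by
  congr 1
  ext x
  simp only [dset, Finset.mem_filter, Finset.mem_univ, true_and]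
  exact ⟨fun h h' => h h'.symm, fun h h' => h h'.symm⟩

theorem dist_smul (k : G) (u v : Ω) :
    (dset G (k • u) (k • v)).card = (dset G u v).card := by
  refine (Finset.card_bij (fun x _ => k • x) (fun x hx => ?_) (fun x _ y _ h => smul_left_cancel k h)
    fun y hy => ⟨k⁻¹ • y, ?_, smul_inv_smul k y⟩).symm
  · simp only [dset, Finset.mem_filter, Finset.mem_univ, true_and] at hx ⊢
    exact fun h => hx ((Rel.trans ⟨k, rfl, rfl⟩ h).trans (Rel.symm ⟨k, rfl, rfl⟩))
  · simp only [dset, Finset.mem_filter, Finset.mem_univ, true_and] at hy ⊢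
    exact fun h => hy ((Rel.trans (Rel.symm ⟨k, rfl, smul_inv_smul k y⟩) h).trans
      ⟨k, rfl, smul_inv_smul k y⟩)

/-- A non-empty set closed under an invariant relation with an edge is everything. -/
theorem closed_univ (hprim : MulAction.IsPreprimitive G Ω) {E : Ω → Ω → Prop}
    (hE : ∀ k : G, ∀ u v, E u v → E (k • u) (k • v)) {a b : Ω} (hab : a ≠ b) (he : E a b)
    {B : Set Ω} {u : Ω} (hu : u ∈ B) (hB : ∀ x ∈ B, ∀ y, E x y → y ∈ B) (v : Ω) : v ∈ B := by
  haveI := hprim
  set O : Ω → Set Ω := fun x => {y | Relation.ReflTransGen E x y} with hO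
  have hinv : ∀ k : G, ∀ x y, y ∈ O x → k • y ∈ O (k • x) := by
    intro k x y h
    induction h with
    | refl => exact Relation.ReflTransGen.refl
    | tail _ h ih => exact Relation.ReflTransGen.tail ih (hE k _ _ h)
  have hcard : ∀ x y, (O x).ncard = (O y).ncard := by
    have key : ∀ x y, (O x).ncard ≤ (O y).ncard := fun x y => by
      obtain ⟨k, rfl⟩ := MulAction.exists_smul_eq G x y
      exact Set.ncard_le_ncard_of_injOn (fun z => k • z) (fun z hz => hinv k x z hz)
        ((MulAction.injective k).injOn) (Set.toFinite _)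
    exact fun x y => le_antisymm (key x y) (key y x)
  have heq : ∀ x y, y ∈ O x → O y = O x := fun x y h =>
    Set.eq_of_subset_of_ncard_le (fun z hz => Relation.ReflTransGen.trans h hz) (hcard x y).le
      (Set.toFinite _)
  have hsmul : ∀ k : G, k • O a = O (k • a) := by
    intro k
    ext z
    rw [Set.mem_smul_set_iff_inv_smul_mem]
    constructor
    · intro h; simpa only [smul_inv_smul] using hinv k _ _ h
    · intro h; simpa only [inv_smul_smul] using hinv k⁻¹ _ _ h
  have hblock : MulAction.IsBlock G (O a) := by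
    refine MulAction.isBlock_iff_smul_eq_of_nonempty.2 (fun k hs => ?_)
    rw [hsmul]
    obtain ⟨z, hz, hz'⟩ := hs
    rw [hsmul] at hz
    rw [← heq _ _ hz, ← heq _ _ hz']
  rcases hprim.isTrivialBlock_of_isBlock hblock with h | h
  · exact absurd (h Relation.ReflTransGen.refl (Relation.ReflTransGen.single he)) hab
  · have hv : v ∈ O u := by
      obtain ⟨k, rfl⟩ := MulAction.exists_smul_eq G a u
      rw [← hsmul, h, Set.smul_set_univ]
      exact Set.mem_univ _
    change Relation.ReflTransGen E u v at hv
    induction hv with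
    | refl => exact hu
    | tail _ h' ih => exact hB _ ih _ h'

/-- Every other point tells `a` from one of its neighbours. -/
theorem cover (hprim : MulAction.IsPreprimitive G Ω) {E : Ω → Ω → Prop}
    (hE : ∀ k : G, ∀ u v, E u v → E (k • u) (k • v)) {a b : Ω} (hab : a ≠ b) (he : E a b)
    {D : ℕ} (hD : ∀ y, E a y → (dset G a y).card ≤ D) :
    Fintype.card Ω ≤ (Finset.univ.filter fun y => E a y).card * D + 1 := by
  have hsub : Finset.univ.erase a ⊆ (Finset.univ.filter fun y => E a y).biUnion fun y => dset G a y := by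
    intro x hx
    have hxa := Finset.ne_of_mem_erase hx
    simp only [Finset.mem_biUnion, Finset.mem_filter, Finset.mem_univ, true_and, dset]
    by_contra hno
    simp only [not_exists, not_and, not_not] at hno
    have hall := closed_univ hprim hE hab he (B := {u | Rel G u x a x}) (Rel.refl a x) (fun u hu y hy => by
      obtain ⟨k, h1, h2⟩ := hu
      have h3 := hE k u y hy
      rw [h1] at h3
      exact (Rel.trans ⟨k, rfl, h2⟩ (hno _ h3).symm)) x
    obtain ⟨k, h1, h2⟩ := hall
    exact hxa (h2.symm.trans h1)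
  have h := (Finset.card_le_card hsub).trans Finset.card_biUnion_le
  rw [Finset.card_erase_of_mem (Finset.mem_univ a), Finset.card_univ] at h
  have h2 : ∑ y ∈ Finset.univ.filter (fun y => E a y), (dset G a y).card ≤
      (Finset.univ.filter fun y => E a y).card * D := by
    rw [← smul_eq_mul]
    exact Finset.sum_le_card_nsmul _ _ _ fun y hy => hD y (Finset.mem_filter.1 hy).2
  omega

/-- Babai's bound on the number of points telling two points apart. -/
theorem dist_bound (hprim : MulAction.IsPreprimitive G Ω) {a b c₁ c₂ : Ω} (hab : a ≠ b)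
    (h₁ : a ≠ c₁) (h₂ : a ≠ c₂) (hc : ¬ Rel G a c₁ a c₂) :
    Fintype.card Ω ≤ (2 * (dset G a b).card + 1) ^ 2 := by
  haveI := hprim
  set D := (dset G a b).card with hD
  set E : Ω → Ω → Prop := fun u v => Rel G a b u v ∨ Rel G b a u v with hEd
  have hEinv : ∀ k : G, ∀ u v, E u v → E (k • u) (k • v) := fun k u v h =>
    h.imp (fun h => h.trans ⟨k, rfl, rfl⟩) (fun h => h.trans ⟨k, rfl, rfl⟩)
  have hEs : ∀ u v, E u v → E v u := fun u v h => h.elim (fun h => Or.inr h.swap) (fun h => Or.inl h.swap)
  have hEab : E a b := Or.inl (Rel.refl _ _)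
  have hED : ∀ u v, E u v → (dset G u v).card = D := by
    intro u v h
    rcases h with ⟨k, rfl, rfl⟩ | ⟨k, rfl, rfl⟩
    · exact dist_smul k a b
    · exact (dist_smul k b a).trans (dist_comm b a)
  by_cases hfar : ∀ c, c = a ∨ E a c ∨ ∃ y, E a y ∧ E y c
  · -- diameter at most two
    have h2D : ∀ u v : Ω, (dset G u v).card ≤ 2 * D := by
      intro u v
      obtain ⟨k, rfl⟩ := MulAction.exists_smul_eq G a u
      obtain ⟨w, rfl⟩ : ∃ w, k • w = v := ⟨k⁻¹ • v, smul_inv_smul k v⟩
      rw [dist_smul]
      rcases hfar w with rfl | h | ⟨y, hy, hy'⟩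
      · have : dset G w w = ∅ := Finset.filter_eq_empty_iff.2 fun x _ h => h (Rel.refl _ _)
        rw [this]
        simp
      · rw [hED _ _ h]; omega
      · exact (dist_tri a y w).trans (by rw [hED _ _ hy, hED _ _ hy']; omega)
    -- an orbital of valency at most half
    obtain ⟨c, hac, hs⟩ : ∃ c, a ≠ c ∧
        2 * (Finset.univ.filter fun v => Rel G a c a v).card ≤ Fintype.card Ω := by
      have hdis : Disjoint (Finset.univ.filter fun v => Rel G a c₁ a v)
          (Finset.univ.filter fun v => Rel G a c₂ a v) := by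
        rw [Finset.disjoint_filter]
        exact fun v _ h h' => hc (h.trans h'.symm)
      have hle := (Finset.card_union_of_disjoint hdis).symm.le.trans (Finset.card_le_univ _)
      by_contra hno
      simp only [not_exists, not_and, not_le] at hno
      have := hno c₁ h₁
      have := hno c₂ h₂
      omega
    set s := (Finset.univ.filter fun v => Rel G a c a v).card with hsd
    have hconst : ∀ x, (Finset.univ.filter fun v => Rel G a c x v).card = s := by
      intro x
      obtain ⟨k, rfl⟩ := MulAction.exists_smul_eq G a x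
      refine (Finset.card_bij (fun v _ => k • v) (fun v hv => ?_) (fun v _ w _ h => smul_left_cancel k h)
        fun w hw => ⟨k⁻¹ • w, ?_, smul_inv_smul k w⟩).symm
      · simp only [Finset.mem_filter, Finset.mem_univ, true_and] at hv ⊢
        exact hv.trans ⟨k, rfl, rfl⟩
      · simp only [Finset.mem_filter, Finset.mem_univ, true_and] at hw ⊢
        exact hw.trans ⟨k⁻¹, inv_smul_smul _ _, rfl⟩
    -- double counting
    have hcount : 2 * Fintype.card Ω * (s * (Fintype.card Ω - s)) ≤
        2 * D * Fintype.card Ω * Fintype.card Ω := by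
      set P : Ω → Finset (Ω × Ω) := fun x =>
        ((Finset.univ.filter fun v => Rel G a c x v) ×ˢ (Finset.univ.filter fun v => Rel G a c x v)ᶜ) ∪
        ((Finset.univ.filter fun v => Rel G a c x v)ᶜ ×ˢ (Finset.univ.filter fun v => Rel G a c x v)) with hP
      have hPc : ∀ x, (P x).card = 2 * (s * (Fintype.card Ω - s)) := by
        intro x
        rw [hP, Finset.card_union_of_disjoint, Finset.card_product, Finset.card_product,
          Finset.card_compl, hconst]
        · ring
        · rw [Finset.disjoint_left]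
          intro p hp hp'
          rw [Finset.mem_product] at hp hp'
          exact (Finset.mem_compl.1 hp'.1) hp.1
      have hrel : ∀ x, ∀ p ∈ P x, x ∈ dset G p.1 p.2 := by
        intro x p hp
        simp only [dset, Finset.mem_filter, Finset.mem_univ, true_and]
        intro h
        simp only [hP, Finset.mem_union, Finset.mem_product, Finset.mem_compl, Finset.mem_filter,
          Finset.mem_univ, true_and] at hp
        rcases hp with ⟨h1, h2⟩ | ⟨h1, h2⟩
        · exact h2 (h1.trans h.swap)
        · exact h1 (h2.trans h.swap.symm)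
      calc 2 * Fintype.card Ω * (s * (Fintype.card Ω - s))
          = ∑ x : Ω, (P x).card := by
            simp only [hPc, Finset.sum_const, Finset.card_univ, smul_eq_mul]; ring
        _ = ∑ x : Ω, ∑ p : Ω × Ω, if p ∈ P x then 1 else 0 := by
            refine Finset.sum_congr rfl fun x _ => ?_
            simp
        _ ≤ ∑ x : Ω, ∑ p : Ω × Ω, if x ∈ dset G p.1 p.2 then 1 else 0 := by
            refine Finset.sum_le_sum fun x _ => Finset.sum_le_sum fun p _ => ?_
            split_ifs with h1 h2
            · exact le_rfl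
            · exact absurd (hrel x p h1) h2
            · exact Nat.zero_le _
            · exact le_rfl
        _ = ∑ p : Ω × Ω, (dset G p.1 p.2).card := by
            rw [Finset.sum_comm]
            refine Finset.sum_congr rfl fun p _ => ?_
            simp
        _ ≤ ∑ _p : Ω × Ω, 2 * D := Finset.sum_le_sum fun p _ => h2D _ _
        _ = 2 * D * Fintype.card Ω * Fintype.card Ω := by
            simp only [Finset.sum_const, Finset.card_univ, Fintype.card_prod, smul_eq_mul]; ring
    have hn : 0 < Fintype.card Ω := Fintype.card_pos_iff.2 ⟨a⟩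
    have hsD : s ≤ 2 * D := by
      by_contra h
      have h1 : Fintype.card Ω ≤ 2 * (Fintype.card Ω - s) := by omega
      have h2 : (2 * D + 1) * Fintype.card Ω ≤ s * (2 * (Fintype.card Ω - s)) :=
        Nat.mul_le_mul (by omega) h1
      nlinarith [hcount, h2, hn]
    have h3 := cover hprim (E := fun u v => Rel G a c u v)
      (fun k u v h => h.trans ⟨k, rfl, rfl⟩) hac (Rel.refl a c) (D := 2 * D) fun y _ => h2D a y
    replace h3 : Fintype.card Ω ≤ s * (2 * D) + 1 := by convert h3 using 5
    nlinarith [h3, hsD]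
  · -- some point at distance three
    simp only [not_forall] at hfar
    obtain ⟨e, he⟩ := hfar
    obtain ⟨u, c, hu, huc, hc3⟩ : ∃ u c, (u = a ∨ E a u ∨ ∃ y, E a y ∧ E y u) ∧ E u c ∧
        ¬ (c = a ∨ E a c ∨ ∃ y, E a y ∧ E y c) := by
      by_contra hno
      exact he (closed_univ hprim hEinv hab hEab (B := {u | u = a ∨ E a u ∨ ∃ y, E a y ∧ E y u})
        (Or.inl rfl) (fun u hu c huc => by
          by_contra h
          exact hno ⟨u, c, hu, huc, h⟩) e)
    simp only [not_or, not_exists, not_and] at hc3
    obtain ⟨y, hy, hyu⟩ : ∃ y, E a y ∧ E y u := by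
      rcases hu with rfl | hu | hu
      · exact absurd huc hc3.2.1
      · exact absurd huc (hc3.2.2 u hu)
      · exact hu
    have hDc : (dset G a c).card ≤ 3 * D :=
      (dist_tri a y c).trans (by
        have := dist_tri (G := G) y u c
        rw [hED _ _ hyu, hED _ _ huc] at this
        rw [hED _ _ hy]; omega)
    set N := Finset.univ.filter (fun v => E a v) with hN
    set N' := Finset.univ.filter (fun v => E c v) with hN'
    have hrel : ∀ x, Rel G a x c x → (E a x ↔ E c x) := by
      rintro x ⟨k, h1, h2⟩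
      refine ⟨fun h => ?_, fun h => ?_⟩
      · have := hEinv k _ _ h; rwa [h1, h2] at this
      · have := hEinv k⁻¹ _ _ h
        rwa [inv_smul_eq_iff.2 h1.symm, inv_smul_eq_iff.2 h2.symm] at this
    have hNN : Disjoint N N' := by
      rw [hN, hN', Finset.disjoint_filter]
      exact fun v _ h h' => hc3.2.2 v h (hEs _ _ h')
    have hsub : N ∪ N' ⊆ dset G a c := by
      intro x hx
      simp only [dset, Finset.mem_filter, Finset.mem_univ, true_and]
      intro h
      simp only [hN, hN', Finset.mem_union, Finset.mem_filter, Finset.mem_univ, true_and] at hx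
      rcases hx with hx | hx
      · exact Finset.disjoint_left.1 hNN (Finset.mem_filter.2 ⟨Finset.mem_univ _, hx⟩)
          (Finset.mem_filter.2 ⟨Finset.mem_univ _, (hrel x h).1 hx⟩)
      · exact Finset.disjoint_left.1 hNN (Finset.mem_filter.2 ⟨Finset.mem_univ _, (hrel x h).2 hx⟩)
          (Finset.mem_filter.2 ⟨Finset.mem_univ _, hx⟩)
    have hsame : N'.card = N.card := by
      obtain ⟨k, hk⟩ := MulAction.exists_smul_eq G a c
      refine (Finset.card_bij (fun v _ => k • v) (fun v hv => ?_) (fun v _ w _ h => smul_left_cancel k h)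
        fun w hw => ⟨k⁻¹ • w, ?_, smul_inv_smul k w⟩).symm
      · simp only [hN, hN', Finset.mem_filter, Finset.mem_univ, true_and] at hv ⊢
        exact hk ▸ hEinv k _ _ hv
      · simp only [hN, hN', Finset.mem_filter, Finset.mem_univ, true_and] at hw ⊢
        have := hEinv k⁻¹ _ _ hw
        rwa [inv_smul_eq_iff.2 hk.symm] at this
    have h2N : 2 * N.card ≤ 3 * D := by
      have := (Finset.card_le_card hsub).trans hDc
      rw [Finset.card_union_of_disjoint hNN, hsame] at this
      omega
    have h3 := cover hprim hEinv hab hEab (D := D) fun y hy => (hED a y hy).le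
    replace h3 : Fintype.card Ω ≤ N.card * D + 1 := by convert h3 using 5
    nlinarith [h3, h2N]

/-- Two conjugates whose supports meet in one point give a three cycle. -/
theorem threeCycle_of_meet {α : Type*} [Fintype α] [DecidableEq α] {p q : Equiv.Perm α} {a : α}
    (hp : p a ≠ a) (hq : q a ≠ a) (hmeet : ∀ x, p x ≠ x → q x ≠ x → x = a) :
    Equiv.Perm.IsThreeCycle (p * q * p⁻¹ * q⁻¹) := by
  have fixq : ∀ x, p x ≠ x → x ≠ a → q x = x := fun x h1 h2 => by
    by_contra h; exact h2 (hmeet x h1 h)
  have fixp : ∀ x, q x ≠ x → x ≠ a → p x = x := fun x h1 h2 => by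
    by_contra h; exact h2 (hmeet x h h1)
  have mp : p (p a) ≠ p a := fun h => hp (p.injective h)
  have mq : q (q a) ≠ q a := fun h => hq (q.injective h)
  have hpq : q a ≠ p a := fun h => mp (by have := fixp _ mq hq; rwa [h] at this)
  have ip : ∀ x, p (p⁻¹ x) = x := fun x => p.apply_symm_apply x
  have iq : ∀ x, q (q⁻¹ x) = x := fun x => q.apply_symm_apply x
  have invp : ∀ x, p x = x → p⁻¹ x = x := fun x h => p.injective ((ip x).trans h.symm)
  have invq : ∀ x, q x = x → q⁻¹ x = x := fun x h => q.injective ((iq x).trans h.symm)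
  have hpa : p⁻¹ (p a) = a := p.symm_apply_apply a
  have hqa : q⁻¹ (q a) = a := q.symm_apply_apply a
  have hu : q⁻¹ a ≠ a := fun h => hq (by have := iq a; rwa [h] at this)
  have hu' : q (q⁻¹ a) ≠ q⁻¹ a := by rw [iq]; exact hu.symm
  have hw : p⁻¹ a ≠ a := fun h => hp (by have := ip a; rwa [h] at this)
  have hw' : p (p⁻¹ a) ≠ p⁻¹ a := by rw [ip]; exact hw.symm
  have key : p * q * p⁻¹ * q⁻¹ = Equiv.swap a (q a) * Equiv.swap a (p a) := by
    ext x
    simp only [Equiv.Perm.mul_apply]
    by_cases hxa : x = a
    · subst hxa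
      rw [invp _ (fixp _ hu' hu), iq, Equiv.swap_apply_left,
        Equiv.swap_apply_of_ne_of_ne hp hpq.symm]
    by_cases hxp : x = p a
    · subst hxp
      rw [invq _ (fixq _ mp hp), hpa, fixp _ mq hq, Equiv.swap_apply_right, Equiv.swap_apply_left]
    by_cases hxq : x = q a
    · subst hxq
      rw [hqa, fixq _ hw' hw, ip, Equiv.swap_apply_of_ne_of_ne hq hpq, Equiv.swap_apply_right]
    rw [Equiv.swap_apply_of_ne_of_ne hxa hxp, Equiv.swap_apply_of_ne_of_ne hxa hxq]
    by_cases h1 : p x = x
    · by_cases h2 : q x = x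
      · rw [invq _ h2, invp _ h1, h2, h1]
      · have h3 : q⁻¹ x ≠ a := fun h => hxq (by rw [← iq x, h])
        have h4 : q (q⁻¹ x) ≠ q⁻¹ x := by
          rw [iq]; exact fun h => h2 (by conv_lhs => rw [h]
                                         rw [iq])
        rw [invp _ (fixp _ h4 h3), iq, h1]
    · have h2 : q x = x := fixq x h1 hxa
      have h3 : p⁻¹ x ≠ a := fun h => hxp (by rw [← ip x, h])
      have h4 : p (p⁻¹ x) ≠ p⁻¹ x := by
        rw [ip]; exact fun h => h1 (by conv_lhs => rw [h]
                                       rw [ip])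
      rw [invq _ h2, fixq _ h4 h3, ip]
  rw [key]
  exact Equiv.Perm.isThreeCycle_swap_mul_swap_same hq.symm hp.symm hpq

/-- In the two transitive case some conjugate meets the support in one point. -/
theorem exists_meet [Finite G] (hprim : MulAction.IsPreprimitive G Ω) (g : G) {a : Ω} (ha : g • a ≠ a)
    (h2t : ∀ x y, a ≠ x → a ≠ y → Rel G a x a y)
    (hm : ((Finset.univ.filter fun x : Ω => g • x ≠ x).card - 1) ^ 2 < Fintype.card Ω - 1) :
    ∃ k : G, k • a = a ∧ ∀ x, g • x ≠ x → g • (k⁻¹ • x) ≠ k⁻¹ • x → x = a := by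
  haveI := Fintype.ofFinite G
  set M := (Finset.univ.filter fun x => g • x ≠ x).erase a with hM
  set K := Finset.univ.filter (fun k : G => k • a = a) with hK
  by_contra hno
  simp only [not_exists, not_and, not_forall] at hno
  have hsub : K ⊆ (M ×ˢ M).biUnion fun p => K.filter fun k => k • p.1 = p.2 := by
    intro k hk
    obtain ⟨x, h1, h2, h3⟩ := hno k (Finset.mem_filter.1 hk).2
    refine Finset.mem_biUnion.2 ⟨(k⁻¹ • x, x), Finset.mem_product.2 ⟨?_, ?_⟩,
      Finset.mem_filter.2 ⟨hk, smul_inv_smul k x⟩⟩
    · refine Finset.mem_erase.2 ⟨fun h => h3 ?_, by simp [h2]⟩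
      rw [inv_smul_eq_iff] at h
      exact h.trans (Finset.mem_filter.1 hk).2
    · exact Finset.mem_erase.2 ⟨h3, by simp [h1]⟩
  have hfib : ∀ x, a ≠ x → ∀ y, a ≠ y →
      (K.filter fun k => k • x = y).card * (Fintype.card Ω - 1) = K.card := by
    intro x hx y hy
    have hmaps : ∀ k ∈ K, k • x ∈ Finset.univ.erase a := fun k hk =>
      Finset.mem_erase.2 ⟨fun h => hx (smul_left_cancel k ((Finset.mem_filter.1 hk).2.trans h.symm)),
        Finset.mem_univ _⟩
    rw [Finset.card_eq_sum_card_fiberwise hmaps]
    have : ∀ z ∈ Finset.univ.erase a, (K.filter fun k => k • x = z).card = (K.filter fun k => k • x = y).card := by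
      intro z hz
      obtain ⟨l, hl1, hl2⟩ := h2t y z hy (Finset.ne_of_mem_erase hz).symm
      refine (Finset.card_bij (fun k _ => l * k) (fun k hk => ?_) (fun _ _ _ _ h => mul_left_cancel h)
        fun k hk => ⟨l⁻¹ * k, ?_, mul_inv_cancel_left l k⟩).symm
      · simp only [hK, Finset.mem_filter, Finset.mem_univ, true_and, mul_smul] at hk ⊢
        exact ⟨by rw [hk.1, hl1], by rw [hk.2, hl2]⟩
      · simp only [hK, Finset.mem_filter, Finset.mem_univ, true_and, mul_smul] at hk ⊢
        exact ⟨by rw [hk.1]; exact inv_smul_eq_iff.2 hl1.symm, by rw [hk.2]; exact inv_smul_eq_iff.2 hl2.symm⟩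
    rw [Finset.sum_congr rfl this, Finset.sum_const, Finset.card_erase_of_mem (Finset.mem_univ a),
      Finset.card_univ, smul_eq_mul, mul_comm]
  have hpos : 0 < K.card := Finset.card_pos.2 ⟨1, by simp [hK]⟩
  have h1 : K.card * (Fintype.card Ω - 1) ≤ M.card * M.card * K.card := by
    refine (Nat.mul_le_mul_right _ ((Finset.card_le_card hsub).trans Finset.card_biUnion_le)).trans ?_
    rw [Finset.sum_mul, Finset.sum_congr rfl fun p hp => hfib p.1
      (Finset.ne_of_mem_erase (Finset.mem_product.1 hp).1).symm p.2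
      (Finset.ne_of_mem_erase (Finset.mem_product.1 hp).2).symm,
      Finset.sum_const, Finset.card_product, smul_eq_mul]
  have h2 : M.card = (Finset.univ.filter fun x : Ω => g • x ≠ x).card - 1 := by
    rw [hM]; exact Finset.card_erase_of_mem (by simp [ha])
  have h3 : Fintype.card Ω - 1 ≤ M.card * M.card := by
    refine Nat.le_of_mul_le_mul_left ?_ hpos
    rw [mul_comm K.card (M.card * M.card)]
    exact h1
  rw [h2, ← sq] at h3
  omega

end

/-- A classification-free minimal-degree bound. Let G be a finite group acting faithfully and primitively on a finite set Ω with n elements, and suppose that the image of G in the symmetric group on Ω does not contain the alternating group on Ω. Then every non-identity element of G moves at least (√n − 1)/2 points of Ω, that is, it fixes at most n − (√n − 1)/2 points. -/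
theorem result {G Ω : Type*} [Group G] [Finite G] [MulAction G Ω] [FaithfulSMul G Ω] [Fintype Ω] [DecidableEq Ω]
    (hprim : MulAction.IsPreprimitive G Ω)
    (hA : ¬ alternatingGroup Ω ≤ (MulAction.toPermHom G Ω).range)
    (g : G) (hg : g ≠ 1) :
    (Real.sqrt (Fintype.card Ω) - 1) / 2 ≤ (Fintype.card Ω : ℝ) - Nat.card (MulAction.fixedBy Ω g) := by
  classical
  haveI := hprim
  set M := Finset.univ.filter (fun x : Ω => g • x ≠ x) with hM
  obtain ⟨a, ha⟩ : ∃ a : Ω, g • a ≠ a := by
    by_contra h
    simp only [not_exists, not_not] at h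
    exact hg (eq_of_smul_eq_smul fun x : Ω => (h x).trans (one_smul G x).symm)
  have key : Fintype.card Ω ≤ (2 * M.card + 1) ^ 2 := by
    by_cases h2t : ∀ x y, a ≠ x → a ≠ y → Rel G a x a y
    · by_contra hlt
      have hm0 : 1 ≤ M.card := Finset.card_pos.2 ⟨a, by simp [hM, ha]⟩
      have hsm : (M.card - 1) ^ 2 < Fintype.card Ω - 1 := by
        obtain ⟨m, hm⟩ : ∃ m, M.card = m + 1 := ⟨M.card - 1, by omega⟩
        rw [hm] at hlt ⊢
        simp only [add_tsub_cancel_right]
        have : m ^ 2 + 1 < Fintype.card Ω := by nlinarith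
        omega
      obtain ⟨k, hk, hmeet⟩ := exists_meet hprim g ha h2t (by convert hsm using 5)
      set p := MulAction.toPermHom G Ω g with hp
      set q := MulAction.toPermHom G Ω (k * g * k⁻¹) with hq
      have hqx : ∀ x, q x = k • (g • (k⁻¹ • x)) := fun x => by
        show (k * g * k⁻¹) • x = _
        rw [mul_smul, mul_smul]
      have hka : k⁻¹ • a = a := inv_smul_eq_iff.2 hk.symm
      have h3 : Equiv.Perm.IsThreeCycle (p * q * p⁻¹ * q⁻¹) := threeCycle_of_meet (a := a) ha
        (by
          rw [hqx, hka]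
          exact fun h => ha (smul_left_cancel k (h.trans hk.symm)))
        (fun x h1 h2 => hmeet x h1 fun h => h2 (by rw [hqx, h, smul_inv_smul]))
      refine hA (Equiv.Perm.alternatingGroup_le_of_isPreprimitive_of_isThreeCycle_mem ?_ h3
        (mul_mem (mul_mem (mul_mem ⟨g, rfl⟩ ⟨_, rfl⟩) (inv_mem ⟨g, rfl⟩)) (inv_mem ⟨_, rfl⟩)))
      exact MulAction.IsPreprimitive.of_surjective
        (φ := (MulAction.toPermHom G Ω).rangeRestrict)
        (f := ⟨id, fun _ _ => rfl⟩) Function.surjective_id
    · simp only [not_forall] at h2t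
      obtain ⟨c₁, c₂, h₁, h₂, hc⟩ := h2t
      refine (dist_bound hprim (b := g • a) (Ne.symm ha) h₁ h₂ hc).trans
        (Nat.pow_le_pow_left (Nat.add_le_add_right (Nat.mul_le_mul_left 2 ?_) 1) 2)
      refine Finset.card_le_card fun x hx => ?_
      simp only [dset, hM, Finset.mem_filter, Finset.mem_univ, true_and] at hx ⊢
      exact fun h => hx ⟨g, rfl, h⟩
  have hfix : (Fintype.card Ω : ℝ) - Nat.card (MulAction.fixedBy Ω g) = M.card := by
    have h1 : Nat.card (MulAction.fixedBy Ω g) + M.card = Fintype.card Ω := by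
      rw [hM, ← Finset.card_univ, ← Finset.card_filter_add_card_filter_not (s := Finset.univ)
        (fun x : Ω => g • x = x)]
      congr 1
      rw [Nat.card_eq_fintype_card, ← Fintype.card_subtype]
      exact Fintype.card_congr (Equiv.refl _)
    rw [← h1]
    push_cast
    ring
  rw [hfix]
  have h4 : Real.sqrt (Fintype.card Ω) ≤ 2 * (M.card : ℝ) + 1 := by
    rw [Real.sqrt_le_iff]
    exact ⟨by positivity, by exact_mod_cast key⟩
  linarith

end Cfsg.Agent.S5713
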