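import Cfsg.Statements.S5722
import Cfsg.Agent.Lib.Perm.CompositionPrimitive
-- import your own Cfsg.Agent.* helpers here

set_option autoImplicit false
open Cfsg

namespace Cfsg.Agent.S5722

/-- If a finite group G acts faithfully on a finite set with n points and r orbits, then the composition length of G is at most 4(n − r)/3. Here the composition length is expressed through chains: the conclusion bounds the length l of every chain of subgroups 1 = H₀ < H₁ < ⋯ < H_l = G in which each term is normal in the next (the longest such chains are exactly the composition series). -/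
theorem result {G Ω : Type*} [Group G] [Finite G] [MulAction G Ω] [FaithfulSMul G Ω] [Fintype Ω]
    (l : ℕ) (H : Fin (l + 1) → Subgroup G) (h0 : H 0 = ⊥) (hl : H (Fin.last l) = ⊤)
    (hchain : ∀ i : Fin l, H i.castSucc < H i.succ ∧ ((H i.castSucc).subgroupOf (H i.succ)).Normal) :
    3 * l ≤ 4 * (Fintype.card Ω - Nat.card (Quotient (MulAction.orbitRel G Ω))) := by
  classical
  open Cfsg.Agent.Perm.ChainLength in
  have hc : Chain (⊤ : Subgroup G) l := by
    have := chain_of_fun H h0 hchain (Fin.last l)
    rwa [hl, Fin.val_last] at this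
  let e : Ω ≃ Fin (Fintype.card Ω) := Fintype.equivFin Ω
  let φ : G →* Equiv.Perm (Fin (Fintype.card Ω)) := e.permCongrHom.toMonoidHom.comp (MulAction.toPermHom G Ω)
  have hφ : Function.Injective φ := e.permCongrHom.injective.comp MulAction.toPerm_injective
  haveI : FaithfulSMul φ.range (Fin (Fintype.card Ω)) := ⟨fun {x y} h => Subtype.ext (Equiv.ext h)⟩
  have hb := Cfsg.Agent.Perm.ChainLength.bound _ φ.range (Fin (Fintype.card Ω)) (Nat.card_fin _)
  have hl' : l ≤ Cfsg.Agent.Perm.ChainLength.cl φ.range :=
    (Cfsg.Agent.Perm.ChainLength.le_cl hc).trans (Cfsg.Agent.Perm.ChainLength.cl_le_of_injective hφ)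
  have hq : Nat.card (Quotient (MulAction.orbitRel φ.range (Fin (Fintype.card Ω)))) =
      Nat.card (Quotient (MulAction.orbitRel G Ω)) := by
    refine (Nat.card_congr (Quotient.congr e fun x y => ?_)).symm
    simp only [MulAction.orbitRel_apply]
    constructor
    · rintro ⟨g, hg⟩
      refine ⟨⟨φ g, g, rfl⟩, ?_⟩
      show φ g (e y) = e x
      simp [φ, ← hg, Equiv.permCongrHom, Equiv.permCongr_apply]
    · rintro ⟨⟨_, g, rfl⟩, hg⟩
      refine ⟨g, e.injective ?_⟩
      have hg' : φ g (e y) = e x := hg
      simpa [φ, Equiv.permCongrHom, Equiv.permCongr_apply] using hg'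
  omega

end Cfsg.Agent.S5722
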