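import Cfsg.Statements.S5727
import Mathlib

set_option autoImplicit false
open Cfsg

namespace Cfsg.Agent.S5727

/-- If a finite group acts faithfully and transitively on a set with m·p elements, where p is a prime and 1 ≤ m ≤ p, then some element of order p fixes no point. -/
theorem result {G Ω : Type*} [Group G] [Finite G] [MulAction G Ω] [FaithfulSMul G Ω] [Fintype Ω] (htr : MulAction.IsPretransitive G Ω)
    (p m : ℕ) (hp : p.Prime) (hm : 1 ≤ m) (hmp : m ≤ p) (hΩ : Fintype.card Ω = m * p) :
    ∃ g : G, orderOf g = p ∧ ∀ ω : Ω, g • ω ≠ ω := by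
  classical
  haveI := Fact.mk hp
  haveI := htr
  obtain ⟨P⟩ : Nonempty (Sylow p G) := inferInstance
  obtain ⟨n, hn⟩ := P.2.exists_card_eq
  haveI : Fintype P := Fintype.ofFinite _
  have hcop : ¬ p ∣ (P : Subgroup G).index := P.not_dvd_index
  have hidx : ∀ ω : Ω, p ∣ (MulAction.stabilizer P ω).index ∧ (m = p → p ^ 2 ∣ (MulAction.stabilizer P ω).index) := by
    intro ω
    set k := (MulAction.stabilizer P ω).index
    have hle : (MulAction.stabilizer P ω).map (P : Subgroup G).subtype ≤ MulAction.stabilizer G ω := by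
      rintro _ ⟨g, hg, rfl⟩
      exact hg
    obtain ⟨c, hc⟩ := Subgroup.card_dvd_of_le hle
    rw [Subgroup.card_map_of_injective (P : Subgroup G).subtype_injective] at hc
    have h1 := (MulAction.stabilizer G ω).card_mul_index
    rw [MulAction.index_stabilizer_of_transitive, Nat.card_eq_fintype_card (α := Ω), hΩ, hc,
      ← (P : Subgroup G).card_mul_index, ← (MulAction.stabilizer P ω).card_mul_index, mul_assoc, mul_assoc] at h1
    have h2 : c * (m * p) = k * (P : Subgroup G).index := Nat.eq_of_mul_eq_mul_left Nat.card_pos h1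
    refine ⟨(hp.dvd_mul.mp ⟨c * m, by rw [← h2]; ring⟩).resolve_right hcop, fun e => ?_⟩
    exact ((Nat.Prime.coprime_iff_not_dvd hp).mpr hcop).pow_left 2 |>.dvd_of_dvd_mul_right ⟨c, by rw [← h2, e]; ring⟩
  have horb : ∀ ω : Ω, (MulAction.stabilizer P ω).index ≤ m * p := fun ω => by
    rw [MulAction.index_stabilizer, ← hΩ, ← Nat.card_eq_fintype_card]
    exact Set.ncard_le_card _
  rcases hmp.lt_or_eq with hlt | hmp
  swap
  · have hω : Nonempty Ω := Fintype.card_pos_iff.mp (by rw [hΩ]; exact Nat.mul_pos (by omega) hp.pos)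
    obtain ⟨ω₀⟩ := hω
    have hk : (MulAction.stabilizer P ω₀).index = Fintype.card Ω := by
      refine le_antisymm (hΩ ▸ horb ω₀) (Nat.le_of_dvd (Nat.pos_of_ne_zero Subgroup.index_ne_zero_of_finite) ?_)
      rw [hΩ, hmp, ← pow_two]
      exact (hidx ω₀).2 hmp
    have htP : ∀ ω : Ω, ω ∈ MulAction.orbit P ω₀ := fun ω => by
      rw [MulAction.index_stabilizer] at hk
      rw [Set.eq_of_subset_of_ncard_le (Set.subset_univ (MulAction.orbit P ω₀))
        (by rw [Set.ncard_univ, hk, Nat.card_eq_fintype_card])]
      trivial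
    haveI : Nontrivial P := Finite.one_lt_card_iff_nontrivial.mp (by
      have h1 : 1 < p ^ 2 := Nat.one_lt_pow two_ne_zero hp.one_lt
      have h2 := Nat.le_of_dvd Nat.card_pos ((hidx ω₀).2 hmp |>.trans (Subgroup.index_dvd_card _))
      omega)
    haveI : Nontrivial (Subgroup.center P) := P.2.center_nontrivial
    obtain ⟨z, hz⟩ : ∃ z : Subgroup.center P, orderOf z = p := by
      refine exists_prime_orderOf_dvd_card' p ?_
      obtain ⟨e, he⟩ := (P.2.to_subgroup (Subgroup.center P)).exists_card_eq
      rw [he]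
      refine dvd_pow_self p fun e0 => ?_
      rw [e0, pow_zero] at he
      exact (Finite.one_lt_card_iff_nontrivial.mpr ‹_›).ne' he
    refine ⟨((z : P) : G), by rw [Subgroup.orderOf_coe, Subgroup.orderOf_coe, hz], fun ω hfix => ?_⟩
    have hall : ∀ ω' : Ω, ((z : P) : G) • ω' = ω' := fun ω' => by
      obtain ⟨a, ha⟩ := htP ω
      obtain ⟨b, hb⟩ := htP ω'
      have hb' : ω' = (b * a⁻¹ : P) • ω := by
        rw [mul_smul, ← ha]
        simp only
        rw [inv_smul_smul]
        exact hb.symm
      rw [hb']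
      change (z : P) • ((b * a⁻¹ : P) • ω) = _
      rw [← mul_smul, ← Subgroup.mem_center_iff.mp z.2 (b * a⁻¹), mul_smul]
      exact congrArg _ hfix
    have : ((z : P) : G) = 1 := FaithfulSMul.eq_of_smul_eq_smul fun ω' => by rw [hall ω', one_smul]
    rw [OneMemClass.coe_eq_one, OneMemClass.coe_eq_one] at this
    rw [this, orderOf_one] at hz
    exact hp.one_lt.ne hz
  · have hk : ∀ ω : Ω, (MulAction.stabilizer P ω).index = p := fun ω => by
      obtain ⟨e, he, hke⟩ := (Nat.dvd_prime_pow hp).mp (hn ▸ Subgroup.index_dvd_card (MulAction.stabilizer P ω))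
      have h1 := (hidx ω).1
      have h2 := horb ω
      rw [hke] at h1 h2 ⊢
      match e with
      | 0 => rw [pow_zero, Nat.dvd_one] at h1; exact absurd h1 hp.ne_one
      | 1 => exact pow_one p
      | e + 2 =>
        exfalso
        have : p * p ≤ p ^ (e + 2) := by
          rw [← pow_two]; exact Nat.pow_le_pow_right hp.pos (by omega)
        nlinarith [hp.two_le]
    have hnorm : ∀ ω : Ω, (MulAction.stabilizer P ω).Normal := fun ω => by
      refine Subgroup.normal_of_index_eq_minFac_card ?_
      have hd := (hk ω) ▸ Subgroup.index_dvd_card (MulAction.stabilizer P ω)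
      rw [hn] at hd ⊢
      have hn0 : n ≠ 0 := fun e0 => by rw [e0, pow_zero, Nat.dvd_one] at hd; exact hp.ne_one hd
      rw [hk ω, Nat.pow_minFac hn0, hp.minFac_eq]
    set S := Finset.univ.image fun ω : Ω => MulAction.stabilizer P ω
    have hS : S.card * p ≤ Fintype.card Ω := by
      rw [mul_comm]
      refine Finset.mul_card_image_le_card _ p ?_
      intro T hT
      obtain ⟨ω, -, rfl⟩ := Finset.mem_image.mp hT
      have h : MulAction.orbit P ω ⊆ ↑(Finset.univ.filter fun a : Ω => MulAction.stabilizer P a = MulAction.stabilizer P ω) := by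
        rintro _ ⟨g, rfl⟩
        simp only [Finset.coe_filter, Finset.mem_univ, true_and, Set.mem_setOf_eq]
        ext x
        constructor
        · intro hx
          have h1 : g⁻¹ * x * g ∈ MulAction.stabilizer P ω := by
            rw [MulAction.mem_stabilizer_iff, mul_smul, mul_smul, inv_smul_eq_iff]
            exact hx
          simpa [mul_assoc] using (hnorm ω).conj_mem _ h1 g
        · intro hx
          have h1 := (hnorm ω).conj_mem _ hx g⁻¹
          rw [MulAction.mem_stabilizer_iff, mul_smul, mul_smul, inv_smul_eq_iff, inv_inv] at h1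
          exact h1
      have := Set.ncard_le_ncard h
      rwa [Set.ncard_coe_finset, ← MulAction.index_stabilizer, hk ω] at this
    obtain ⟨g, hg⟩ : ∃ g : P, ∀ ω : Ω, g • ω ≠ ω := by
      by_contra hcon
      push Not at hcon
      have hsub : (Finset.univ : Finset P) ⊆ S.biUnion fun T => Finset.univ.filter (· ∈ T) := fun g _ => by
        obtain ⟨ω, hω⟩ := hcon g
        exact Finset.mem_biUnion.mpr ⟨_, Finset.mem_image.mpr ⟨ω, Finset.mem_univ _, rfl⟩, by simp [hω]⟩
      have hcard := (Finset.card_le_card hsub).trans (Finset.card_biUnion_le_card_mul _ _ (Nat.card P / p) fun T hT => by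
        obtain ⟨ω, -, rfl⟩ := Finset.mem_image.mp hT
        rw [← (MulAction.stabilizer P ω).card_mul_index, hk ω, Nat.mul_div_cancel _ hp.pos, Nat.card_eq_fintype_card,
          Fintype.card_subtype]
        exact Finset.card_le_card fun x hx => by simpa using hx)
      rw [Finset.card_univ, ← Nat.card_eq_fintype_card] at hcard
      have hsm : S.card ≤ m := Nat.le_of_mul_le_mul_right (hS.trans hΩ.le) hp.pos
      have h1 : Nat.card P ≤ m * (Nat.card P / p) := hcard.trans (Nat.mul_le_mul_right _ hsm)
      have h2 := Nat.div_mul_le_self (Nat.card P) p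
      have h3 : 0 < Nat.card P := Nat.card_pos
      nlinarith
    have hgp : g ^ p = 1 := by
      refine Subtype.ext (FaithfulSMul.eq_of_smul_eq_smul fun ω : Ω => ?_)
      haveI := hnorm ω
      have hmem : g ^ p ∈ MulAction.stabilizer P ω := by
        have := Subgroup.pow_index_mem (MulAction.stabilizer P ω) g
        rwa [hk ω] at this
      rw [OneMemClass.coe_one, one_smul]
      exact hmem
    refine ⟨(g : G), ?_, fun ω => hg ω⟩
    rw [Subgroup.orderOf_coe]
    refine orderOf_eq_prime hgp fun e => ?_
    obtain ⟨ω⟩ : Nonempty Ω := Fintype.card_pos_iff.mp (by rw [hΩ]; exact Nat.mul_pos (by omega) hp.pos)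
    exact hg ω (by rw [e, one_smul])

end Cfsg.Agent.S5727
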