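import Cfsg.Statements.S5729
import Mathlib

set_option autoImplicit false
open Cfsg

namespace Cfsg.Agent.S5729

/-- Let a finite group G act faithfully and transitively on a set with n ≥ 3 points. Then either G is a Frobenius permutation group (Frobenius as a permutation group: transitive, some non-identity element fixes a point, and no non-identity element fixes two points) of order n(n − 1) and exactly |G|/n of its elements are derangements (fix no point), or the number of derangements is greater than |G|/n. -/
theorem result {G Ω : Type*} [Group G] [Finite G] [MulAction G Ω] [FaithfulSMul G Ω] [Fintype Ω] (htr : MulAction.IsPretransitive G Ω) (hn : 3 ≤ Fintype.card Ω) :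
    ((MulAction.IsPretransitive G Ω ∧ (∃ g : G, g ≠ 1 ∧ ∃ ω : Ω, g • ω = ω) ∧ ∀ g : G, g ≠ 1 → Nat.card (MulAction.fixedBy Ω g) ≤ 1) ∧ Nat.card G = Fintype.card Ω * (Fintype.card Ω - 1) ∧ Fintype.card Ω * Nat.card {g : G // ∀ ω : Ω, g • ω ≠ ω} = Nat.card G) ∨
    Nat.card G < Fintype.card Ω * Nat.card {g : G // ∀ ω : Ω, g • ω ≠ ω} := by
  classical
  haveI := htr
  haveI : Fintype G := Fintype.ofFinite G
  set n := Fintype.card Ω
  haveI : Nonempty Ω := Fintype.card_pos_iff.mp (by omega)
  set fx : G → ℕ := fun g => Fintype.card (MulAction.fixedBy Ω g)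
  have h1 : ∑ g, fx g = Fintype.card G := by
    haveI : Unique (MulAction.orbitRel.Quotient G Ω) :=
      @uniqueOfSubsingleton _ (MulAction.pretransitive_iff_subsingleton_quotient G Ω |>.mp htr)
        (Quotient.mk'' (Classical.arbitrary Ω))
    have := MulAction.sum_card_fixedBy_eq_card_orbits_mul_card_group G Ω
    rwa [Fintype.card_unique, one_mul] at this
  set r := Fintype.card (MulAction.orbitRel.Quotient G (Ω × Ω))
  have h2 : ∑ g, fx g * fx g = r * Fintype.card G := by
    rw [← MulAction.sum_card_fixedBy_eq_card_orbits_mul_card_group G (Ω × Ω)]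
    refine Finset.sum_congr rfl fun g _ => ?_
    simp only [fx, ← Fintype.card_prod]
    exact Fintype.card_congr
      { toFun := fun x => ⟨(x.1.1, x.2.1), Prod.ext x.1.2 x.2.2⟩
        invFun := fun x => (⟨x.1.1, congrArg Prod.fst x.2⟩, ⟨x.1.2, congrArg Prod.snd x.2⟩)
        left_inv := fun x => rfl
        right_inv := fun x => rfl }
  have hr : 2 ≤ r := by
    obtain ⟨a, b, hab⟩ := Fintype.exists_pair_of_one_lt_card (α := Ω) (by omega)
    refine Fintype.one_lt_card_iff.mpr ⟨Quotient.mk'' (a, a), Quotient.mk'' (a, b), fun e => ?_⟩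
    obtain ⟨g, hg⟩ := (Quotient.eq''.mp e : (a, a) ∈ MulAction.orbit G (a, b))
    exact hab (smul_left_cancel g ((congrArg Prod.fst hg).trans (congrArg Prod.snd hg).symm))
  set D := Finset.univ.filter fun g : G => fx g = 0
  have hD : Nat.card {g : G // ∀ ω : Ω, g • ω ≠ ω} = D.card := by
    rw [Nat.card_eq_fintype_card, Fintype.card_subtype]
    refine congrArg Finset.card (Finset.filter_congr fun g _ => ?_)
    simp only [fx, Fintype.card_eq_zero_iff, isEmpty_subtype, MulAction.mem_fixedBy]
  have hle : ∀ g, fx g ≤ n := fun g => Fintype.card_subtype_le _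
  let T : G → ℤ := fun g => ((fx g : ℤ) - 1) * ((fx g : ℤ) - n) - if fx g = 0 then (n : ℤ) else 0
  have hT : ∀ g, T g ≤ 0 := fun g => by
    by_cases h0 : fx g = 0
    · simp [T, h0]
    · simp only [T, if_neg h0, sub_zero]
      have : (fx g : ℤ) ≤ n := by exact_mod_cast hle g
      have : (1 : ℤ) ≤ fx g := by exact_mod_cast Nat.one_le_iff_ne_zero.mpr h0
      nlinarith
  have hsum : ∑ g, T g = ((r : ℤ) - 1) * Fintype.card G - n * D.card := by
    have e1 : ∀ g, T g = ((fx g * fx g : ℕ) : ℤ) - ((n : ℤ) + 1) * (fx g : ℤ) + n - (n : ℤ) * (if fx g = 0 then 1 else 0) :=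
      fun g => by simp only [T, mul_ite, mul_one, mul_zero]; push_cast; ring
    simp only [e1, Finset.sum_sub_distrib, Finset.sum_add_distrib, ← Finset.mul_sum, ← Nat.cast_sum, h1, h2,
      Finset.sum_boole, Finset.sum_const, Finset.card_univ, nsmul_eq_mul]
    push_cast
    ring
  have hsle : ∑ g, T g ≤ 0 := Finset.sum_nonpos fun g _ => hT g
  rw [hD, Nat.card_eq_fintype_card]
  rcases Nat.lt_or_ge (Fintype.card G) (n * D.card) with h | h
  · exact Or.inr h
  left
  have hG0 : (0 : ℤ) < Fintype.card G := by exact_mod_cast Fintype.card_pos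
  have hr' : (2 : ℤ) ≤ r := by exact_mod_cast hr
  have hnD : ((n * D.card : ℕ) : ℤ) ≤ Fintype.card G := by exact_mod_cast h
  push_cast at hnD
  have hzero : ∀ g, T g = 0 := fun g =>
    (Finset.sum_eq_zero_iff_of_nonpos fun g _ => hT g).mp (le_antisymm hsle (by rw [hsum]; nlinarith)) g (Finset.mem_univ g)
  have hr2 : (Fintype.card G : ℤ) = n * D.card := by
    have := Finset.sum_eq_zero fun g (_ : g ∈ Finset.univ) => hzero g
    rw [hsum] at this
    nlinarith
  have hfix : ∀ g : G, g ≠ 1 → fx g ≤ 1 := by
    intro g hg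
    by_contra hlt
    have e := hzero g
    simp only [T, if_neg (show fx g ≠ 0 by omega), sub_zero, mul_eq_zero] at e
    have hn' : fx g = n := by
      rcases e with e | e
      · exfalso; apply hlt; omega
      · omega
    refine hg (FaithfulSMul.eq_of_smul_eq_smul fun ω : Ω => ?_)
    rw [one_smul]
    have hall : MulAction.fixedBy Ω g = Set.univ := by
      by_contra hne
      obtain ⟨x, hx⟩ := (Set.ne_univ_iff_exists_notMem _).mp hne
      exact (Fintype.card_subtype_lt (p := fun y => y ∈ MulAction.fixedBy Ω g) hx).ne hn'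
    exact (hall ▸ Set.mem_univ ω : ω ∈ MulAction.fixedBy Ω g)
  have h1fix : fx (1 : G) = n := by
    simp only [fx]
    exact Fintype.card_congr (Equiv.subtypeUnivEquiv fun ω => one_smul G ω)
  have hDc : D.card = n - 1 := by
    have e : ∀ g : G, fx g + (if fx g = 0 then 1 else 0) = 1 + (if g = 1 then n - 1 else 0) := fun g => by
      rcases eq_or_ne g 1 with rfl | hg
      · rw [h1fix, if_neg (by omega), if_pos rfl]; omega
      · have := hfix g hg
        rw [if_neg hg]
        split_ifs <;> omega
    have := Finset.sum_congr rfl fun g (_ : g ∈ Finset.univ) => e g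
    simp only [Finset.sum_add_distrib, h1, Finset.sum_boole, Finset.sum_const, Finset.card_univ, Finset.sum_ite_eq',
      Finset.mem_univ, if_true, smul_eq_mul, mul_one, Nat.cast_id] at this
    change Fintype.card G + D.card = Fintype.card G + (n - 1) at this
    omega
  have hG : Fintype.card G = n * (n - 1) := by rw [← hDc]; exact_mod_cast hr2
  refine ⟨⟨htr, ?_, fun g hg => by rw [Nat.card_eq_fintype_card]; exact hfix g hg⟩, hG, by rw [hDc, hG]⟩
  by_contra hcon
  push Not at hcon
  have : D.card = Fintype.card G - 1 := by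
    rw [← Finset.card_univ, ← Finset.card_erase_of_mem (Finset.mem_univ (1 : G))]
    refine congrArg Finset.card (Finset.ext fun g => ?_)
    simp only [D, Finset.mem_filter, Finset.mem_univ, true_and, Finset.mem_erase, and_true]
    constructor
    · rintro h0 rfl; omega
    · intro hg
      simp only [fx, Fintype.card_eq_zero_iff, isEmpty_subtype, MulAction.mem_fixedBy]
      exact hcon g hg
  have h6 : n * 2 ≤ n * (n - 1) := Nat.mul_le_mul_left n (by omega)
  omega

end Cfsg.Agent.S5729
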