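import Cfsg.Statements.S5737
import Cfsg.Agent.Lib.Lead.SuzukiBinary
import Cfsg.Agent.Lib.Lie.SuzukiSp4
import Cfsg.Agent.Lib.Small.SuzukiSylowFacts

set_option autoImplicit false
open Cfsg

namespace Cfsg.Agent.S5737

/-- The centre of a subgroup, inside the group. -/
theorem mem_center_sub {X : Type*} [Group X] (P : Subgroup X) (e : X) :
    e ∈ (Subgroup.center P).map P.subtype ↔ e ∈ P ∧ ∀ y ∈ P, y * e = e * y := by
  constructor
  · rintro ⟨z, hz, rfl⟩
    exact ⟨z.2, fun y hy => congrArg Subtype.val (Subgroup.mem_center_iff.1 hz ⟨y, hy⟩)⟩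
  · rintro ⟨he, h⟩
    exact ⟨⟨e, he⟩, Subgroup.mem_center_iff.2 fun y => Subtype.ext (h y y.2), rfl⟩

theorem center_map {X Y : Type*} [Group X] [Group Y] (f : X ≃* Y) (U : Subgroup X) :
    (Subgroup.center ↥(U.map f.toMonoidHom)).map (U.map f.toMonoidHom).subtype =
      ((Subgroup.center U).map U.subtype).map f.toMonoidHom := by
  ext e
  rw [mem_center_sub, Subgroup.mem_map_equiv, Subgroup.mem_map_equiv, mem_center_sub]
  refine and_congr_right fun _ => ⟨fun h y hy => f.injective ?_, fun h y hy => f.symm.injective ?_⟩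
  · simpa using h (f y) (by simpa [Subgroup.mem_map_equiv] using hy)
  · simpa using h (f.symm y) (Subgroup.mem_map_equiv.1 hy)

/-- Let G = Sz(q) be a Suzuki group, q = 2^(2a+1) with a ≥ 1 (realised inside Sp₄ over the field with q elements), and let H be a proper subgroup of G. Then the action of G on the cosets of H is binary if and only if H is trivial or H is the centre of a Sylow 2-subgroup of G. Here an action is binary (relational complexity 2) when, for every n ≥ 2 and all n-tuples I, J of points, if for every pair of positions some group element carries the corresponding pair of entries of I to those of J, then a single group element carries I to J. -/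
theorem result {F : Type*} [Field F] [Fintype F] (a : ℕ) (ha : 1 ≤ a) (hF : Fintype.card F = 2 ^ (2 * a + 1))
    (H : Subgroup (Cfsg.Lie.Sz F (2 ^ (a + 1)))) (hH : H ≠ ⊤) :
    (∀ (n : ℕ) (I J : Fin n → (Cfsg.Lie.Sz F (2 ^ (a + 1))) ⧸ H), 2 ≤ n →
        (∀ i j : Fin n, i ≠ j → ∃ g : (Cfsg.Lie.Sz F (2 ^ (a + 1))), g • I i = J i ∧ g • I j = J j) → ∃ g : (Cfsg.Lie.Sz F (2 ^ (a + 1))), ∀ i, g • I i = J i) ↔
      (H = ⊥ ∨ ∃ P : Sylow 2 (Cfsg.Lie.Sz F (2 ^ (a + 1))), H = (Subgroup.center (P : Subgroup (Cfsg.Lie.Sz F (2 ^ (a + 1))))).map (P : Subgroup (Cfsg.Lie.Sz F (2 ^ (a + 1)))).subtype) := by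
  haveI : Fact (Nat.Prime 2) := ⟨Nat.prime_two⟩
  obtain ⟨e⟩ := Cfsg.Agent.Lie.Suzuki.lie_sz_equiv hF ha
  rw [Cfsg.Agent.Helly.binary_iff, ← Cfsg.Agent.Helly.isHelly_map_iff e.symm H]
  set U := Cfsg.Agent.Lie.Suzuki.uSub (m := a) hF
  set Z := Cfsg.Agent.Lie.Suzuki.zSub (m := a) hF
  have hZ : ∀ f : ↥(Cfsg.Sz F a) ≃* ↥(Cfsg.Lie.Sz F (2 ^ (a + 1))),
      (Subgroup.center ↥(U.map f.toMonoidHom)).map (U.map f.toMonoidHom).subtype = Z.map f.toMonoidHom := fun f => by
    rw [center_map, Cfsg.Agent.Lie.Suzuki.uSub_center hF ha, Subgroup.subgroupOf_map_subtype,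
      inf_eq_left.2 (Cfsg.Agent.SzBinary.zSub_le hF ha)]
  constructor
  · intro h
    have hne : H.map e.symm.toMonoidHom ≠ ⊤ := fun h' => hH (Subgroup.map_injective e.symm.injective
      (h'.trans (Subgroup.map_top_of_surjective _ e.symm.surjective).symm))
    rcases Cfsg.Agent.SzBinary.helly_classification hF ha hne h with h0 | ⟨c, hc⟩
    · exact Or.inl ((Subgroup.map_eq_bot_iff_of_injective H e.symm.injective).1 h0)
    · set f := (MulAut.conj c).trans e with hf
      refine Or.inr ⟨((Cfsg.Agent.Lie.Suzuki.uSub_isPGroup (m := a) hF).map f.toMonoidHom).toSylow ?_, ?_⟩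
      · rw [show (U.map f.toMonoidHom).index = U.index from Subgroup.index_map_equiv _ f]
        exact Cfsg.Agent.Lie.Suzuki.not_two_dvd_index hF ha
      · show H = (Subgroup.center ↥(U.map f.toMonoidHom)).map (U.map f.toMonoidHom).subtype
        rw [hZ]
        refine Subgroup.map_injective (f := e.symm.toMonoidHom) e.symm.injective ?_
        rw [hc, Subgroup.map_map]
        congr 1
        ext x
        simp [hf]
  · rintro (rfl | ⟨P, rfl⟩)
    · rw [Subgroup.map_bot]; exact Cfsg.Agent.Helly.isHelly_bot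
    · obtain ⟨g, hg⟩ := Cfsg.Agent.Small.SuzukiFacts.exists_conj_uSub hF ha
        (P.comapOfInjective e.toMonoidHom e.injective fun x _ => ⟨e.symm x, e.apply_symm_apply x⟩)
      set f := (MulAut.conj g).trans e with hf
      have hP : (P : Subgroup ↥(Cfsg.Lie.Sz F (2 ^ (a + 1)))) = U.map f.toMonoidHom := by
        have h1 : ((P : Subgroup ↥(Cfsg.Lie.Sz F (2 ^ (a + 1)))).comap e.toMonoidHom) = U.map (MulAut.conj g).toMonoidHom := hg
        rw [← Subgroup.map_comap_eq_self_of_surjective (f := e.toMonoidHom) e.surjective (P : Subgroup ↥(Cfsg.Lie.Sz F (2 ^ (a + 1)))),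
          h1, Subgroup.map_map]
        rfl
      rw [hP, hZ, Subgroup.map_map]
      have h2 : e.symm.toMonoidHom.comp f.toMonoidHom = (MulAut.conj g).toMonoidHom := by
        ext x
        simp [hf]
      rw [h2, Cfsg.Agent.Helly.isHelly_map_iff]
      exact Cfsg.Agent.SzBinary.isHelly_zSub hF ha

end Cfsg.Agent.S5737
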