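import Cfsg.Statements.S5739
import Mathlib

set_option autoImplicit false
open Cfsg

namespace Cfsg.Agent.S5739

/-- Let F ⊆ K be finite fields with |F| = q and [K : F] = n ≥ 2, and let M ≤ GL_F(K) be the Singer group of multiplications by non-zero elements of K. If g ∈ GL_F(K) does not normalise M, then the order of M ∩ gMg⁻¹ divides q^r − 1 for some proper divisor r of n. In particular, when n is prime, that order divides q − 1. -/
theorem result {F K : Type*} [Field F] [Fintype F] [Field K] [Fintype K] [Algebra F K] (n : ℕ) (hn : 2 ≤ n) (hdim : Module.finrank F K = n)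
    (g : (Module.End F K)ˣ) (hg : ((Units.map ((Algebra.lmul F K : K →ₐ[F] Module.End F K) : K →* Module.End F K)).range).map (MulAut.conj g).toMonoidHom ≠ (Units.map ((Algebra.lmul F K : K →ₐ[F] Module.End F K) : K →* Module.End F K)).range) :
    ∃ r : ℕ, 1 ≤ r ∧ r ∣ n ∧ r < n ∧ Nat.card ↥(((Units.map ((Algebra.lmul F K : K →ₐ[F] Module.End F K) : K →* Module.End F K)).range).map (MulAut.conj g).toMonoidHom ⊓ (Units.map ((Algebra.lmul F K : K →ₐ[F] Module.End F K) : K →* Module.End F K)).range) ∣ Fintype.card F ^ r - 1 := by
  classical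
  haveI : FiniteDimensional F K := Module.Finite.of_finite
  set L : K →ₐ[F] Module.End F K := Algebra.lmul F K with hL
  set f : Kˣ →* (Module.End F K)ˣ := Units.map (L : K →* Module.End F K) with hf
  have hLinj : Function.Injective L := fun a b h => by simpa [hL] using congrArg (fun T : Module.End F K => T 1) h
  have hfinj : Function.Injective f := fun a b h => Units.ext (hLinj (congrArg Units.val h))
  set M := f.range
  let c : Module.End F K →ₐ[F] Module.End F K :=
    { toFun := fun T => ((g⁻¹ : (Module.End F K)ˣ) : Module.End F K) * T * (g : Module.End F K)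
      map_one' := by simp
      map_mul' := fun S T => by simp [mul_assoc]
      map_zero' := by simp
      map_add' := fun S T => by simp [mul_add, add_mul]
      commutes' := fun r => by rw [mul_assoc, Algebra.commutes, ← mul_assoc, Units.inv_mul, one_mul] }
  let E₀ : Subalgebra F K := (L.range.comap c).comap L
  let E : IntermediateField F K :=
    E₀.toIntermediateField (fun x hx => Subalgebra.inv_mem_of_algebraic E₀ (x := ⟨x, hx⟩) (Algebra.IsAlgebraic.isAlgebraic _))
  have hmem : ∀ u : Kˣ, f u ∈ M.map (MulAut.conj g).toMonoidHom ↔ (u : K) ∈ E := fun u => by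
    constructor
    · rintro ⟨_, ⟨v, rfl⟩, hv⟩
      refine ⟨(v : K), ?_⟩
      have h := congrArg Units.val hv
      change (g : Module.End F K) * L v * ((g⁻¹ : (Module.End F K)ˣ) : Module.End F K) = L u at h
      change L v = ((g⁻¹ : (Module.End F K)ˣ) : Module.End F K) * L u * (g : Module.End F K)
      rw [← h]
      simp [mul_assoc]
    · rintro ⟨v, hv⟩
      change L v = ((g⁻¹ : (Module.End F K)ˣ) : Module.End F K) * L u * (g : Module.End F K) at hv
      have hv0 : v ≠ 0 := by
        rintro rfl
        rw [map_zero] at hv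
        have h := congrArg (fun T => (g : Module.End F K) * T * ((g⁻¹ : (Module.End F K)ˣ) : Module.End F K)) hv
        simp [mul_assoc] at h
        exact u.ne_zero (hLinj (by rw [map_zero]; exact h.symm))
      refine ⟨f (Units.mk0 v hv0), ⟨_, rfl⟩, Units.ext ?_⟩
      change (g : Module.End F K) * L v * ((g⁻¹ : (Module.End F K)ˣ) : Module.End F K) = L u
      rw [hv]
      simp [mul_assoc]
  have hdvd : Module.finrank F E ∣ n := ⟨_, by rw [Module.finrank_mul_finrank F E K, hdim]⟩
  refine ⟨Module.finrank F E, Module.finrank_pos, hdvd, lt_of_le_of_ne (Nat.le_of_dvd (by omega) hdvd) fun h => ?_, ?_⟩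
  · have htop : E = ⊤ := IntermediateField.eq_of_le_of_finrank_eq le_top
      (by rw [IntermediateField.finrank_top', h, hdim])
    haveI : Finite (M.map (MulAut.conj g).toMonoidHom) :=
      Finite.of_surjective _ (MonoidHom.subgroupMap_surjective (MulAut.conj g).toMonoidHom M)
    refine hg (Subgroup.eq_of_le_of_card_ge ?_ ?_).symm
    · rintro _ ⟨u, rfl⟩
      exact (hmem u).mpr (htop ▸ IntermediateField.mem_top)
    · exact (Subgroup.card_map_of_injective (K := M) (f := (MulAut.conj g).toMonoidHom) (MulAut.conj g).injective).le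
  · have hH : M.map (MulAut.conj g).toMonoidHom ⊓ M = ((M.map (MulAut.conj g).toMonoidHom).comap f).map f := by
      rw [Subgroup.map_comap_eq, inf_comm]
    rw [hH, Subgroup.card_map_of_injective hfinj]
    have e : (M.map (MulAut.conj g).toMonoidHom).comap f ≃ {x : E // x ≠ 0} :=
      { toFun := fun u => ⟨⟨(u.1 : K), (hmem u.1).mp u.2⟩, fun h => u.1.ne_zero (congrArg Subtype.val h)⟩
        invFun := fun x => ⟨Units.mk0 (x.1 : K) (fun h => x.2 (Subtype.ext h)), (hmem _).mpr x.1.2⟩
        left_inv := fun u => Subtype.ext (Units.ext rfl)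
        right_inv := fun x => rfl }
    rw [Nat.card_congr e, Nat.card_eq_fintype_card, Fintype.card_subtype_compl, Fintype.card_subtype_eq,
      ← Nat.card_eq_fintype_card, Module.natCard_eq_pow_finrank (K := F), Nat.card_eq_fintype_card]

end Cfsg.Agent.S5739
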