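import Cfsg.Statements.S5747
import Mathlib

set_option autoImplicit false
open Cfsg

namespace Cfsg.Agent.S5747

variable {G Ω : Type*} [Group G] [MulAction G Ω]

/-- A sequence with trivial stabiliser in which each entry is moved by the stabiliser of the earlier ones. -/
def Irr (G : Type*) [Group G] [MulAction G Ω] {t : ℕ} (f : Fin t → Ω) : Prop :=
  (∀ g : G, (∀ i : Fin t, g • f i = f i) → g = 1) ∧ ∀ i : Fin t, ∃ g : G, (∀ j : Fin t, j < i → g • f j = f j) ∧ g • f i ≠ f i

theorem Irr.injective {t : ℕ} {f : Fin t → Ω} (hf : Irr G f) : Function.Injective f := by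
  intro i j hij
  by_contra hne
  wlog hlt : i < j generalizing i j
  · exact this hij.symm (Ne.symm hne) (lt_of_le_of_ne (not_lt.mp hlt) (Ne.symm hne))
  obtain ⟨g, hg, hgj⟩ := hf.2 j
  exact hgj (hij ▸ hg i hlt)

/-- Deleting redundant entries gives an irredundant base. -/
theorem exists_irr : ∀ (t : ℕ) (f : Fin t → Ω), (∀ g : G, (∀ i, g • f i = f i) → g = 1) →
    ∃ (s : ℕ) (h : Fin s → Ω), Irr G h ∧ s ≤ t ∧ (s = t → Irr G f)
  | 0, f, hf => ⟨0, f, ⟨hf, fun i => i.elim0⟩, le_rfl, fun _ => ⟨hf, fun i => i.elim0⟩⟩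
  | t + 1, f, hf => by
    by_cases hs : ∀ i : Fin (t + 1), ∃ g : G, (∀ j, j < i → g • f j = f j) ∧ g • f i ≠ f i
    · exact ⟨t + 1, f, ⟨hf, hs⟩, le_rfl, fun _ => ⟨hf, hs⟩⟩
    push Not at hs
    obtain ⟨i, hi⟩ := hs
    obtain ⟨s, h, hh, hle, -⟩ := exists_irr t (fun k => f (i.succAbove k)) fun g hg => hf g fun j => by
      have hne : ∀ j, j ≠ i → g • f j = f j := fun j hj => by
        obtain ⟨k, rfl⟩ := Fin.exists_succAbove_eq hj
        exact hg k
      rcases eq_or_ne j i with rfl | hj
      · exact hi g fun k hk => hne k hk.ne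
      · exact hne j hj
    exact ⟨s, h, hh, by omega, fun e => absurd e (by omega)⟩

/-- Exchange of one entry. -/
theorem exchange (H : ∀ (t : ℕ) (f : Fin t → Ω) (σ : Equiv.Perm (Fin t)), Irr G f → Irr G (f ∘ σ))
    {t t' : ℕ} {f : Fin t → Ω} {f' : Fin t' → Ω} (hf : Irr G f) (hf' : Irr G f') (i : Fin t) :
    ∃ j, Irr G (Function.update f i (f' j)) := by
  classical
  obtain ⟨t, rfl⟩ : ∃ u, t = u + 1 := ⟨t - 1, by have := i.2; omega⟩
  set σ := Equiv.swap i (Fin.last t)
  have hF : Irr G (f ∘ σ) := H _ f σ hf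
  obtain ⟨g₀, hg₀, hg₀l⟩ := hF.2 (Fin.last t)
  obtain ⟨j, hj⟩ : ∃ j, g₀ • f' j ≠ f' j := by
    by_contra hcon
    push Not at hcon
    exact hg₀l (by rw [hf'.1 g₀ hcon, one_smul])
  refine ⟨j, ?_⟩
  have hU : Irr G (Function.update (f ∘ σ) (Fin.last t) (f' j)) := by
    have hstep : ∀ k : Fin (t + 1), ∃ g : G, (∀ l, l < k → g • Function.update (f ∘ σ) (Fin.last t) (f' j) l =
        Function.update (f ∘ σ) (Fin.last t) (f' j) l) ∧
        g • Function.update (f ∘ σ) (Fin.last t) (f' j) k ≠ Function.update (f ∘ σ) (Fin.last t) (f' j) k := fun k => by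
      rcases eq_or_ne k (Fin.last t) with rfl | hk
      · refine ⟨g₀, fun l hl => ?_, by simpa using hj⟩
        rw [Function.update_of_ne hl.ne]
        exact hg₀ l hl
      · obtain ⟨g, hg, hgk⟩ := hF.2 k
        refine ⟨g, fun l hl => ?_, by rwa [Function.update_of_ne hk]⟩
        rw [Function.update_of_ne (lt_of_lt_of_le hl (Fin.le_last k)).ne]
        exact hg l hl
    refine ⟨fun g hg => ?_, hstep⟩
    by_contra hg1
    have hrest : ∀ l, l ≠ Fin.last t → g • (f ∘ σ) l = (f ∘ σ) l := fun l hl => by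
      simpa [Function.update_of_ne hl] using hg l
    have hmove : g • (f ∘ σ) (Fin.last t) ≠ (f ∘ σ) (Fin.last t) := fun e =>
      hg1 (hF.1 g fun l => (eq_or_ne l (Fin.last t)).elim (fun h => h ▸ e) (hrest l))
    obtain ⟨h, hhc, hhl⟩ : ∃ h : Fin (t + 2) → Ω, (∀ l, h l.castSucc = Function.update (f ∘ σ) (Fin.last t) (f' j) l) ∧
        h (Fin.last (t + 1)) = (f ∘ σ) (Fin.last t) :=
      ⟨Fin.snoc (Function.update (f ∘ σ) (Fin.last t) (f' j)) ((f ∘ σ) (Fin.last t)), fun l => Fin.snoc_castSucc _ _ _,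
        Fin.snoc_last _ _⟩
    have hh : Irr G h := by
      refine ⟨fun k hk => hF.1 k fun l => ?_, fun k => ?_⟩
      · rcases eq_or_ne l (Fin.last t) with rfl | hl
        · have := hk (Fin.last (t + 1))
          rwa [hhl] at this
        · have := hk l.castSucc
          rwa [hhc, Function.update_of_ne hl] at this
      · induction k using Fin.lastCases with
        | last =>
          refine ⟨g, fun l hl => ?_, by rwa [hhl]⟩
          obtain ⟨l, rfl⟩ := Fin.exists_castSucc_eq.mpr hl.ne
          rw [hhc]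
          exact hg l
        | cast k =>
          obtain ⟨g', hg', hg'k⟩ := hstep k
          refine ⟨g', fun l hl => ?_, by rwa [hhc]⟩
          obtain ⟨l, rfl⟩ := Fin.exists_castSucc_eq.mpr (lt_of_lt_of_le hl (Fin.le_last _)).ne
          rw [hhc]
          exact hg' l (by simpa using hl)
    set π := Equiv.swap (Fin.last t).castSucc (Fin.last (t + 1))
    obtain ⟨k, hk, hkm⟩ := (H _ h π hh).2 (Fin.last (t + 1))
    have hk1 : k = 1 := hF.1 k fun l => by
      have := hk l.castSucc (Fin.castSucc_lt_last _)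
      rcases eq_or_ne l (Fin.last t) with rfl | hl
      · rwa [Function.comp_apply, Equiv.swap_apply_left, hhl] at this
      · rwa [Function.comp_apply, Equiv.swap_apply_of_ne_of_ne (fun e => hl (Fin.castSucc_injective _ e))
          (Fin.castSucc_lt_last l).ne, hhc, Function.update_of_ne hl] at this
    exact hkm (by rw [hk1, one_smul])
  have h2 := H _ _ σ hU
  have e : Function.update (f ∘ σ) (Fin.last t) (f' j) ∘ σ = Function.update f i (f' j) := by
    funext l
    rcases eq_or_ne l i with rfl | hl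
    · simp [σ]
    · have : σ l ≠ Fin.last t := fun e => hl (by simpa [σ, Equiv.swap_apply_eq_iff] using e)
      simp [Function.update_of_ne this, Function.update_of_ne hl, σ]
  rwa [e] at h2

open Classical in
/-- If every reordering is irredundant then all irredundant bases have the same length. -/
theorem same_length [Finite Ω] (H : ∀ (t : ℕ) (f : Fin t → Ω) (σ : Equiv.Perm (Fin t)), Irr G f → Irr G (f ∘ σ)) :
    ∀ (n t t' : ℕ) (f : Fin t → Ω) (f' : Fin t' → Ω),
      (Finset.univ.filter fun k => f k ∉ Set.range f').card = n → Irr G f → Irr G f' → t = t' := by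
  intro n
  induction n using Nat.strong_induction_on with
  | _ n ih =>
    intro t t' f f' hn hf hf'
    by_cases hall : ∀ k, f k ∈ Set.range f'
    · choose φ hφ using hall
      have hinj : Function.Injective φ := fun a b hab => hf.injective (by rw [← hφ a, ← hφ b, hab])
      have hsurj : Function.Surjective φ := fun j => by
        by_contra hj
        push Not at hj
        obtain ⟨u, rfl⟩ : ∃ u, t' = u + 1 := ⟨t' - 1, by have := j.2; omega⟩
        obtain ⟨g, hg, hgm⟩ := (H _ f' (Equiv.swap j (Fin.last u)) hf').2 (Fin.last u)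
        refine hgm ?_
        have : g = 1 := hf.1 g fun k => by
          have e := hg (Equiv.swap j (Fin.last u) (φ k)) (lt_of_le_of_ne (Fin.le_last _) fun e =>
            hj k (by simpa [Equiv.swap_apply_eq_iff] using e))
          simpa [hφ] using e
        rw [this, one_smul]
      simpa using Fintype.card_of_bijective ⟨hinj, hsurj⟩
    · push Not at hall
      obtain ⟨i, hi⟩ := hall
      obtain ⟨j, hj⟩ := exchange H hf hf' i
      refine ih _ ?_ t t' _ f' rfl hj hf'
      rw [← hn]
      refine Finset.card_lt_card ?_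
      rw [Finset.ssubset_iff_of_subset]
      · exact ⟨i, by simpa using hi, by simp⟩
      · intro k
        simp only [Finset.mem_filter, Finset.mem_univ, true_and]
        rcases eq_or_ne k i with rfl | hk
        · simp
        · simp [Function.update_of_ne hk]

/-- Let a finite group G act on a finite set Ω. An irredundant base is a sequence of points ω₁, …, ω_t whose pointwise stabiliser is trivial and in which each ω_i is moved by some element fixing ω₁, …, ω_{i−1}. Then all irredundant bases have the same length if and only if every reordering of an irredundant base is again an irredundant base. -/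
theorem result {G Ω : Type*} [Group G] [Finite G] [MulAction G Ω] [Fintype Ω] :
    (∀ (t t' : ℕ) (f : Fin t → Ω) (f' : Fin t' → Ω), ((∀ g : G, (∀ i : Fin t, g • f i = f i) → g = 1) ∧ ∀ i : Fin t, ∃ g : G, (∀ j : Fin t, j < i → g • f j = f j) ∧ g • f i ≠ f i) → ((∀ g : G, (∀ i : Fin t', g • f' i = f' i) → g = 1) ∧ ∀ i : Fin t', ∃ g : G, (∀ j : Fin t', j < i → g • f' j = f' j) ∧ g • f' i ≠ f' i) → t = t') ↔
    (∀ (t : ℕ) (f : Fin t → Ω) (σ : Equiv.Perm (Fin t)), ((∀ g : G, (∀ i : Fin t, g • f i = f i) → g = 1) ∧ ∀ i : Fin t, ∃ g : G, (∀ j : Fin t, j < i → g • f j = f j) ∧ g • f i ≠ f i) → ((∀ g : G, (∀ i : Fin t, g • (f ∘ σ) i = (f ∘ σ) i) → g = 1) ∧ ∀ i : Fin t, ∃ g : G, (∀ j : Fin t, j < i → g • (f ∘ σ) j = (f ∘ σ) j) ∧ g • (f ∘ σ) i ≠ (f ∘ σ) i)) := by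
  constructor
  · intro hsame t f σ hf
    have hbase : ∀ g : G, (∀ i, g • (f ∘ σ) i = (f ∘ σ) i) → g = 1 := fun g hg =>
      hf.1 g fun i => by simpa using hg (σ.symm i)
    obtain ⟨s, h, hh, -, hirr⟩ := exists_irr t (f ∘ σ) hbase
    exact hirr (hsame s t h f hh hf)
  · intro H t t' f f' hf hf'
    exact same_length H _ t t' f f' rfl hf hf' 

end Cfsg.Agent.S5747
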