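import Cfsg.Statements.S5748
import Cfsg.Agent.Lib.Classical.CTMain
import Cfsg.Agent.S1230

set_option autoImplicit false
open Cfsg

namespace Cfsg.Agent.S5748

/-- A finite non-abelian simple group in which commuting is a transitive relation on the non-identity elements (equivalently, every non-identity element has abelian centraliser) is isomorphic to PSL₂ over a field with 2^f elements for some f ≥ 2; conversely these groups have that property. -/
theorem result {G : Type*} [Group G] [Finite G] [IsSimpleGroup G] (hG : ¬ IsMulCommutative G) :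
    (∀ a b c : G, a ≠ 1 → b ≠ 1 → c ≠ 1 → Commute a b → Commute b c → Commute a c) ↔
    ∃ (F : Type) (_ : Field F) (_ : Fintype F) (f : ℕ), 2 ≤ f ∧ Fintype.card F = 2 ^ f ∧ Nonempty (G ≃* Matrix.ProjectiveSpecialLinearGroup (Fin 2) F) := by
  constructor
  · intro hct
    obtain ⟨t, htt, ht1⟩ := Classical.CT.exists_invol hct (by
      by_contra h
      push Not at h
      exact hG ⟨⟨h⟩⟩)
    have hnab : ∃ a b : G, a * b ≠ b * a := by
      by_contra h
      push Not at h
      exact hG ⟨⟨h⟩⟩
    have ctx : ∀ s : G, s * s = 1 → s ≠ 1 → Classical.CT.Ctx (Subgroup.centralizer ({s} : Set G)) := fun s hs hs1 =>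
      ⟨hct, Classical.CT.simple_of, hnab, s, hs, hs1, fun x => by rw [Subgroup.mem_centralizer_singleton_iff]⟩
    set A := Subgroup.centralizer ({t} : Set G) with hA
    have hC : Classical.CT.Ctx A := ctx t htt ht1
    obtain ⟨T, hT⟩ := Classical.CT.exists_sylow_le hC
    have hAp : IsPGroup 2 A := fun c => ⟨1, Subtype.ext (by
      rw [pow_one, Subgroup.coe_pow, sq]
      exact Classical.CT.elementary hC c c.2)⟩
    have hTA : A = (T : Subgroup G) := T.is_maximal' hAp hT
    have htA : t ∈ A := Subgroup.mem_centralizer_singleton_iff.2 rfl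
    have hnn : ¬ (T : Subgroup G).Normal := fun hN => by
      rw [← hTA] at hN
      rcases IsSimpleGroup.eq_bot_or_eq_top_of_normal A hN with h | h
      · exact ht1 (Subgroup.mem_bot.1 (h ▸ htA))
      · exact Classical.CT.A_ne_top hC h
    have h3 : 3 ≤ Nat.card (T : Subgroup G) := by
      rw [← hTA]
      have e : Function.Injective (fun o : Option (Classical.CT.Inv A) =>
          o.elim (1 : A) fun s => ⟨s.1, s.2.1⟩) := by
        rintro (_ | s) (_ | s') h
        · rfl
        · exact absurd (congrArg Subtype.val h).symm s'.2.2.2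
        · exact absurd (congrArg Subtype.val h) s.2.2.2
        · exact congrArg some (Subtype.ext (congrArg (fun z : A => (z : G)) h))
      have h1 := Nat.card_le_card_of_injective _ e
      rw [Finite.card_option] at h1
      have := Classical.CT.two_le_inv hC
      omega
    have hnc : ¬ IsCyclic (T : Subgroup G) := fun hcy => by
      obtain ⟨⟨g, hg⟩, hgen⟩ := hcy.exists_ofOrder_eq_natCard
      have h2 : orderOf (⟨g, hg⟩ : (T : Subgroup G)) ≤ 2 := orderOf_le_of_pow_eq_one two_pos (Subtype.ext (by
        rw [Subgroup.coe_pow, sq]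
        exact Classical.CT.elementary hC g (hTA.ge hg)))
      omega
    obtain ⟨F, instF, instFt, hF, he⟩ := S1230.result T hnc hnn fun s hs => by
      have hss : s * s = 1 := by rw [← sq, ← hs]; exact pow_orderOf_eq_one s
      have hs1 : s ≠ 1 := fun e => by rw [e, orderOf_one] at hs; omega
      refine ⟨⟨⟨fun a b => Subtype.ext (Classical.CT.comm (ctx s hss hs1) a.2 b.2)⟩⟩, fun c hc => ?_⟩
      rw [sq]; exact Classical.CT.elementary (ctx s hss hs1) c hc
    obtain ⟨n, hn⟩ := IsPGroup.iff_card.1 T.isPGroup'
    refine ⟨F, instF, instFt, n, ?_, hF.trans hn, he⟩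
    by_contra h
    have : 2 ^ n ≤ 2 ^ 1 := Nat.pow_le_pow_right two_pos (by omega)
    omega
  · rintro ⟨F, instF, instFt, f, hf, hcard, ⟨e⟩⟩
    have h2 : (2 : F) = 0 := by
      have h := FiniteField.cast_card_eq_zero F
      rw [hcard, Nat.cast_pow, Nat.cast_ofNat] at h
      exact eq_zero_of_pow_eq_zero h
    intro a b c ha hb hc hab hbc
    have key := Classical.CT.isCT_psl h2 (e a) (e b) (e c) (fun h => ha (e.injective (h.trans (map_one e).symm)))
      (fun h => hb (e.injective (h.trans (map_one e).symm))) (fun h => hc (e.injective (h.trans (map_one e).symm)))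
      (hab.map e) (hbc.map e)
    exact e.injective (by rw [map_mul, map_mul]; exact key.eq)

end Cfsg.Agent.S5748
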