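import Cfsg.Statements.S5752
import Cfsg.Agent.Lib.Lie.ThompsonWielandt

set_option autoImplicit false
open Cfsg

namespace Cfsg.Agent.S5752

open Cfsg.Agent.Lie.TW
open scoped Pointwise

universe u
variable {G : Type u} [Group G] [Finite G] {H K A B A₂ B₂ : Subgroup G}

/-- If the second kernel on the side of `H` is no `p`-group then `O_p(K)` is trivial. -/
theorem pc_eq_bot_of_res (c : Cfg H K A B A₂ B₂) {p : ℕ} [Fact p.Prime] (hres : res p A₂ ≠ ⊥) :
    pc p K = ⊥ := by
  by_contra hne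
  have hQH : pc p K ≤ H := c.symm.pc_leK hres
  have hN := c.normK _ hne (pc_le p K) (pc_normal p K)
  have hQP : pc p K ≤ Subgroup.normalizer (pc p H : Set G) := hQH.trans (pc_normal p H)
  have hS := (pc_isPGroup p K).to_sup_of_normal_right' (pc_isPGroup p H) hQP
  have htop : (pc p K).subgroupOf (pc p K ⊔ pc p H) = ⊤ := by
    by_contra hlt
    haveI := hS.isNilpotent
    have h1 := Group.normalizerCondition_of_isNilpotent _ (lt_top_iff_ne_top.2 hlt)
    obtain ⟨⟨x, hxS⟩, hxN, hxQ⟩ := SetLike.exists_of_lt h1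
    apply hxQ
    show x ∈ pc p K
    have hxK : x ∈ K := by
      rw [← hN]
      refine mem_normalizer_of_conj fun y hy => ?_
      exact (Subgroup.mem_normalizer_iff.1 hxN ⟨y, Subgroup.mem_sup_left hy⟩).1 hy
    have hx' : x ∈ ((pc p K : Set G) * (pc p H : Set G)) := by
      rw [← Subgroup.coe_mul_of_left_le_normalizer_right _ _ hQP]
      exact hxS
    obtain ⟨q, hq, w, hw, rfl⟩ := hx'
    have hwK : w ∈ K := by
      have := K.mul_mem (K.inv_mem (pc_le p K hq)) hxK
      simpa using this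
    exact mul_mem hq (c.symm.key hres ⟨hw, hwK⟩)
  have hle : pc p H ≤ pc p K := fun x hx => by
    have : (⟨x, Subgroup.mem_sup_right hx⟩ : (pc p K ⊔ pc p H : Subgroup G)) ∈
        (pc p K).subgroupOf (pc p K ⊔ pc p H) := htop ▸ Subgroup.mem_top _
    exact this
  have hP := pc_eq c hle
  refine hne (Subgroup.eq_bot_of_card_eq _ ?_)
  rw [← c.card_pc p, hP, Subgroup.card_bot]

theorem gfit_red (X : Subgroup G) (hE : ∀ L, ¬ Comp X L) (p : ℕ) (hp : p.Prime)
    (h : ∀ q : Nat.Primes, (q : ℕ) ≠ p → pc (q : ℕ) X = ⊥) :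
    Cfsg.generalizedFittingSubgroup X = Cfsg.pCore p X := by
  have hl : Cfsg.layer X = ⊥ := by
    refine le_bot_iff.1 (sSup_le fun C hC => absurd ?_ (hE (C.map X.subtype)))
    refine ⟨Subgroup.map_subtype_le _, ?_, Local.isQuasisimple_congr (C.equivMapOfInjective _ X.subtype_injective) hC.2⟩
    rw [Subgroup.subgroupOf, Subgroup.comap_map_eq_self_of_injective X.subtype_injective]
    exact hC.1
  rw [Cfsg.generalizedFittingSubgroup, hl, bot_sup_eq, Solv.fitting_eq_iSup_pCore]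
  refine le_antisymm (iSup_le fun q => ?_) (le_iSup (fun q : Nat.Primes => Cfsg.pCore (q : ℕ) X) ⟨p, hp⟩)
  by_cases e : (q : ℕ) = p
  · rw [e]
  · rw [(Subgroup.map_eq_bot_iff_of_injective _ X.subtype_injective).1 (h q e)]
    exact bot_le

/-- Both second kernels are `p`-groups, and `O_p` is the generalised Fitting subgroup of `H` and of `A`. -/
theorem both (c : Cfg H K A B A₂ B₂) (hA : A₂ ≠ ⊥) (hB : B₂ ≠ ⊥) :
    ∃ p : ℕ, p.Prime ∧ IsPGroup p ↥(A₂ ⊔ B₂) ∧
      Cfsg.generalizedFittingSubgroup H = Cfsg.pCore p H ∧ Cfsg.generalizedFittingSubgroup A = Cfsg.pCore p A ∧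
      Cfsg.generalizedFittingSubgroup K = Cfsg.pCore p K ∧ Cfsg.generalizedFittingSubgroup B = Cfsg.pCore p B := by
  obtain ⟨p, hp, -, hF⟩ := main c hA hB
  haveI := Fact.mk hp
  have hHne : H ≠ ⊥ := fun h => hA (le_bot_iff.1 (h ▸ ((c.A₂_le.trans inf_le_left).trans c.A_le).trans inf_le_left))
  have hP : pc p H ≠ ⊥ := by
    intro h
    have h1 := Solv.centralizer_gfit_le (G := H)
    rw [hF, (Subgroup.map_eq_bot_iff_of_injective _ H.subtype_injective).1 h] at h1
    refine hHne ((Subgroup.eq_bot_iff_forall _).2 fun x hx => ?_)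
    have h2 : (⟨x, hx⟩ : H) ∈ Subgroup.centralizer (((⊥ : Subgroup H) : Set H)) :=
      Subgroup.mem_centralizer_iff.2 fun y hy => by rw [(Subgroup.mem_bot.1 hy), one_mul, mul_one]
    exact congrArg Subtype.val (Subgroup.mem_bot.1 (h1 h2))
  have hQ : pc p K ≠ ⊥ := fun h => hP (Subgroup.eq_bot_of_card_eq _ (by rw [c.card_pc, h, Subgroup.card_bot]))
  have hAp : IsPGroup p A₂ := (res_eq_bot_iff _).1 (by_contra fun h => hQ (pc_eq_bot_of_res c h))
  have hBp : IsPGroup p B₂ := (res_eq_bot_iff _).1 (by_contra fun h => hP (pc_eq_bot_of_res c.symm h))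
  have hq : ∀ q : Nat.Primes, (q : ℕ) ≠ p → pc (q : ℕ) H = ⊥ ∧ pc (q : ℕ) K = ⊥ := fun q hq => by
    haveI := Fact.mk q.2
    exact pc_eq_bot_of_pGroup c hA hB hq hBp
  have sn : ∀ {H K A B A₂ B₂ : Subgroup G}, Cfg H K A B A₂ B₂ → A₂ ≠ ⊥ → B₂ ≠ ⊥ →
      (∀ q : Nat.Primes, (q : ℕ) ≠ p → pc (q : ℕ) H = ⊥) →
      Cfsg.generalizedFittingSubgroup H = Cfsg.pCore p H ∧ Cfsg.generalizedFittingSubgroup A = Cfsg.pCore p A := by
    intro H K A B A₂ B₂ c hA hB hq
    have hs : SnIn H A := snIn_of_normal (c.A_le.trans inf_le_left) c.A_norm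
    refine ⟨gfit_red H (no_comp c hA hB) p hp hq, gfit_red A (fun L hL => no_comp c hA hB L ?_) p hp fun q hqp => ?_⟩
    · exact ⟨hL.1.trans hs.1, (hs.trans (⟨hL.1, hL.2.1⟩ : SnIn A L)).2, hL.2.2⟩
    · haveI := Fact.mk q.2
      exact le_bot_iff.1 (hq q hqp ▸ le_pc_of_snIn
        (hs.trans (snIn_of_normal (pc_le _ A) (pc_normal _ A))) (pc_isPGroup _ A))
  refine ⟨p, hp, (pc_isPGroup p H).to_le (sup_le ?_ ?_), (sn c hA hB fun q h => (hq q h).1).1,
    (sn c hA hB fun q h => (hq q h).1).2, (sn c.symm hB hA fun q h => (hq q h).2).1,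
    (sn c.symm hB hA fun q h => (hq q h).2).2⟩
  · exact le_pc_of_normal ((c.A₂_le.trans inf_le_left).trans (c.A_le.trans inf_le_left)) c.A₂_norm hAp
  · exact le_pc_of_snIn c.B₂_snH hBp

omit [Finite G] in
theorem core_le {M Y : Subgroup G} : (Y.subgroupOf M).normalCore.map M.subtype ≤ Y ⊓ M := by
  rintro _ ⟨x, hx, rfl⟩
  exact ⟨Subgroup.normalCore_le (Y.subgroupOf M) hx, x.2⟩

theorem core_norm (M Y : Subgroup G) :
    M ≤ Subgroup.normalizer ((Y.subgroupOf M).normalCore.map M.subtype : Set G) := by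
  intro m hm
  refine mem_normalizer_of_conj fun x hx => ?_
  obtain ⟨x, hx, rfl⟩ := hx
  exact ⟨_, Subgroup.Normal.conj_mem inferInstance x hx ⟨m, hm⟩, rfl⟩

omit [Finite G] in
theorem core_max {M Y Z : Subgroup G} (hZM : Z ≤ M) (hZY : Z ≤ Y) (hn : M ≤ Subgroup.normalizer (Z : Set G)) :
    Z ≤ (Y.subgroupOf M).normalCore.map M.subtype := by
  haveI := (Subgroup.normal_subgroupOf_iff_le_normalizer hZM).2 hn
  intro z hz
  exact ⟨⟨z, hZM hz⟩, Subgroup.normal_le_normalCore.2 (fun w (hw : w ∈ Z.subgroupOf M) => hZY hw) hz, rfl⟩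

theorem norm_eq {M Y : Subgroup G} (hmax : IsCoatom M) (hcore : M.normalCore = ⊥) (hne : Y ≠ ⊥)
    (hle : Y ≤ M) (hn : M ≤ Subgroup.normalizer (Y : Set G)) : Subgroup.normalizer (Y : Set G) = M := by
  rcases hmax.le_iff.1 hn with h | h
  · haveI : Y.Normal := Subgroup.normalizer_eq_top_iff.1 h
    exact absurd (le_bot_iff.1 (hcore ▸ Subgroup.normal_le_normalCore.2 hle)) hne
  · exact h

theorem pc_card_conj (M : Subgroup G) (g : G) (r : ℕ) :
    Nat.card (pc r M) = Nat.card (pc r (M.map (MulAut.conj g).toMonoidHom)) := by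
  have hf := fun X : Subgroup G => Nat.card_congr
    ((Cfsg.pCore r X).equivMapOfInjective X.subtype X.subtype_injective).toEquiv
  rw [pc, pc, ← hf, ← hf]
  have e := M.equivMapOfInjective (MulAut.conj g).toMonoidHom (MulAut.conj g).injective
  have hmap : (Cfsg.pCore r M).map e.toMonoidHom = Cfsg.pCore r (M.map (MulAut.conj g).toMonoidHom) := by
    have key : ∀ {X Y : Subgroup G} (e : X ≃* Y), (Cfsg.pCore r X).map e.toMonoidHom ≤ Cfsg.pCore r Y := by
      intro X Y e
      rw [Cfsg.pCore, sSup_eq_iSup, Subgroup.map_iSup]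
      refine iSup_le fun N => ?_
      rw [Subgroup.map_iSup]
      exact iSup_le fun hN => le_sSup ⟨hN.1.map _ e.surjective, hN.2.map _⟩
    refine le_antisymm (key e) fun y hy => ⟨e.symm y, key e.symm ⟨y, hy, rfl⟩, e.apply_symm_apply y⟩
  rw [← hmap]
  exact Nat.card_congr ((Cfsg.pCore r M).equivMapOfInjective _ e.injective).toEquiv

/-- A form of the Thompson–Wielandt Theorem on primitive permutation groups. Let G be a finite group and M₁, M₂ two distinct conjugate maximal subgroups of G with trivial core in G; define two descending sequences of subgroups by A₀ = M₁, B₀ = M₂ and, for every i, A_{i+1} = the core in M₁ of A_i ∩ B_i and B_{i+1} = the core in M₂ of A_i ∩ B_i (the core in M of a subgroup Y ≤ M is the largest normal subgroup of M contained in Y). If A₂ and B₂ are both non-trivial, then for some prime p the subgroup generated by A₂ and B₂ is a p-group, and for each j the generalized Fitting subgroups of M_j and of its first core (A₁, resp.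 B₁) are their largest normal p-subgroups. -/
theorem result {G : Type*} [Group G] [Finite G] (M₁ M₂ : Subgroup G) (hmax : IsCoatom M₁) (g : G)
    (hconj : M₂ = M₁.map (MulAut.conj g).toMonoidHom) (hne : M₁ ≠ M₂) (hcore : M₁.normalCore = ⊥)
    (A B : ℕ → Subgroup G) (hA0 : A 0 = M₁) (hB0 : B 0 = M₂)
    (hA : ∀ i, A (i + 1) = ((A i ⊓ B i).subgroupOf M₁).normalCore.map M₁.subtype)
    (hB : ∀ i, B (i + 1) = ((A i ⊓ B i).subgroupOf M₂).normalCore.map M₂.subtype) (hA2 : A 2 ≠ ⊥) (hB2 : B 2 ≠ ⊥) :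
    ∃ p : ℕ, p.Prime ∧ IsPGroup p ↥(A 2 ⊔ B 2) ∧
      Cfsg.generalizedFittingSubgroup ↥M₁ = Cfsg.pCore p ↥M₁ ∧ Cfsg.generalizedFittingSubgroup ↥(A 1) = Cfsg.pCore p ↥(A 1) ∧
      Cfsg.generalizedFittingSubgroup ↥M₂ = Cfsg.pCore p ↥M₂ ∧ Cfsg.generalizedFittingSubgroup ↥(B 1) = Cfsg.pCore p ↥(B 1) := by
  have hmax₂ : IsCoatom M₂ := by
    rw [hconj]
    exact (OrderIso.isCoatom_iff (MulAut.conj g).mapSubgroup M₁).2 hmax
  have hcore₂ : M₂.normalCore = ⊥ := by
    refine le_bot_iff.1 fun y hy => ?_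
    have h1 : g⁻¹ * y * g⁻¹⁻¹ ∈ M₂.normalCore := Subgroup.Normal.conj_mem inferInstance y hy _
    have h2 : M₂.normalCore ≤ M₁ := by
      intro z hz
      have h3 := M₂.normalCore_le (Subgroup.Normal.conj_mem inferInstance z hz g)
      rw [hconj] at h3
      obtain ⟨w, hw, he⟩ := h3
      have : w = z := (MulAut.conj g).injective (he.trans (by simp))
      exact this ▸ hw
    exact hcore ▸ (Subgroup.normal_le_normalCore.2 h2) hy
  have a0 : (A 0 ⊓ B 0) = M₁ ⊓ M₂ := by rw [hA0, hB0]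
  have a1 : A 1 ≤ M₁ ⊓ M₂ := (hA 0).le.trans (core_le.trans (inf_le_left.trans a0.le))
  have b1 : B 1 ≤ M₁ ⊓ M₂ := (hB 0).le.trans (core_le.trans (inf_le_left.trans a0.le))
  refine both (H := M₁) (K := M₂) (A := A 1) (B := B 1) (A₂ := A 2) (B₂ := B 2) ?_ hA2 hB2
  exact
    { normH := fun Y h1 h2 h3 => norm_eq hmax hcore h1 h2 h3
      normK := fun Y h1 h2 h3 => norm_eq hmax₂ hcore₂ h1 h2 h3
      ne := hne
      A_le := a1
      B_le := b1
      A_norm := by rw [hA 0]; exact core_norm _ _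
      B_norm := by rw [hB 0]; exact core_norm _ _
      A_max := fun Y h1 h2 => by rw [hA 0, a0]; exact core_max (h1.trans inf_le_left) h1 h2
      B_max := fun Y h1 h2 => by rw [hB 0, a0]; exact core_max (h1.trans inf_le_right) h1 h2
      A₂_le := (hA 1).le.trans (core_le.trans inf_le_left)
      B₂_le := (hB 1).le.trans (core_le.trans inf_le_left)
      A₂_norm := by rw [hA 1]; exact core_norm _ _
      B₂_norm := by rw [hB 1]; exact core_norm _ _
      card_pc := fun r => hconj ▸ pc_card_conj M₁ g r }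

end Cfsg.Agent.S5752
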