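import Cfsg.Statements.S5754
import Mathlib

set_option autoImplicit false
open Cfsg

namespace Cfsg.Agent.S5754

variable {F V : Type*} [Field F] [AddCommGroup V] [Module F V]

theorem polar_eq (Q : QuadraticForm F V) (a b : V) : QuadraticMap.polar Q a b = Q a + Q b - Q (a - b) := by
  have h : QuadraticMap.polar Q a (-b) = -QuadraticMap.polar Q a b := QuadraticMap.polar_neg_right _ _ _
  rw [QuadraticMap.polar, ← sub_eq_add_neg, QuadraticMap.map_neg] at h
  linear_combination h

theorem polar_self (Q : QuadraticForm F V) (a : V) : QuadraticMap.polar Q a a = 2 * Q a := by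
  rw [QuadraticMap.polar_self]
  simp

theorem polar_comm_sub (Q : QuadraticForm F V) (a b : V) :
    Q (a - b) = Q a + Q b - QuadraticMap.polar Q b a := by
  rw [QuadraticMap.polar_comm Q b a, polar_eq Q]; ring

/-- A reflection. -/
noncomputable def refl_iso (Q : QuadraticForm F V) (v : V) (hv : Q v ≠ 0) : Q.IsometryEquiv Q where
  toFun x := x - (QuadraticMap.polar Q v x / Q v) • v
  invFun x := x - (QuadraticMap.polar Q v x / Q v) • v
  map_add' x y := by rw [QuadraticMap.polar_add_right, add_div, add_smul]; abel
  map_smul' c x := by rw [QuadraticMap.polar_smul_right, smul_eq_mul, mul_div_assoc, RingHom.id_apply, smul_sub, smul_smul]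
  left_inv x := by
    simp only [QuadraticMap.polar_sub_right, QuadraticMap.polar_smul_right, smul_eq_mul, polar_self]
    rw [sub_sub, ← add_smul]
    have : QuadraticMap.polar Q v x / Q v + (QuadraticMap.polar Q v x - QuadraticMap.polar Q v x / Q v * (2 * Q v)) / Q v = 0 := by
      field_simp; ring
    rw [this, zero_smul, sub_zero]
  right_inv x := by
    simp only [QuadraticMap.polar_sub_right, QuadraticMap.polar_smul_right, smul_eq_mul, polar_self]
    rw [sub_sub, ← add_smul]
    have : QuadraticMap.polar Q v x / Q v + (QuadraticMap.polar Q v x - QuadraticMap.polar Q v x / Q v * (2 * Q v)) / Q v = 0 := by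
      field_simp; ring
    rw [this, zero_smul, sub_zero]
  map_app' x := by
    change Q (x - (QuadraticMap.polar Q v x / Q v) • v) = Q x
    rw [polar_comm_sub, QuadraticMap.map_smul, QuadraticMap.polar_smul_left, smul_eq_mul, smul_eq_mul]
    field_simp
    ring

theorem refl_iso_apply (Q : QuadraticForm F V) (v : V) (hv : Q v ≠ 0) (x : V) :
    refl_iso Q v hv x = x - (QuadraticMap.polar Q v x / Q v) • v := rfl

/-- Let V be a finite-dimensional vector space over a finite field F carrying an anisotropic quadratic form Q (Q(v) = 0 only for v = 0). Then the group of all maps v ↦ φ(v) + c, with φ an isometry of Q and c ∈ V, acts on V as a binary permutation group: given n ≥ 2 and two n-tuples u, u' of vectors such that every pair of corresponding entries of u is carried to that of u' by such a map, one such map carries u to u'. -/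
theorem result {F V : Type*} [Field F] [Finite F] [AddCommGroup V] [Module F V] [Module.Finite F V]
    (Q : QuadraticForm F V) (hQ : Q.Anisotropic) (n : ℕ) (hn : 2 ≤ n) (u u' : Fin n → V)
    (h2 : ∀ i j : Fin n, i ≠ j → ∃ (φ : Q.IsometryEquiv Q) (c : V), φ (u i) + c = u' i ∧ φ (u j) + c = u' j) :
    ∃ (φ : Q.IsometryEquiv Q) (c : V), ∀ i, φ (u i) + c = u' i := by
  classical
  have hd : ∀ i j, Q (u i - u j) = Q (u' i - u' j) := by
    intro i j
    rcases eq_or_ne i j with rfl | hij
    · simp
    obtain ⟨φ, c, h1, h2⟩ := h2 i j hij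
    rw [← h1, ← h2, add_sub_add_right_eq_sub, ← φ.map_app (u i - u j)]
    congr 1
    exact map_sub φ.toLinearEquiv _ _
  let i₀ : Fin n := ⟨0, by omega⟩
  set x : Fin n → V := fun i => u i - u i₀
  set x' : Fin n → V := fun i => u' i - u' i₀
  have hp : ∀ i j, QuadraticMap.polar Q (x i) (x j) = QuadraticMap.polar Q (x' i) (x' j) := fun i j => by
    rw [polar_eq Q, polar_eq Q, show x i - x j = u i - u j by simp [x], show x' i - x' j = u' i - u' j by simp [x'],
      hd, hd, hd]
  have key : ∀ s : Finset (Fin n), ∃ φ : Q.IsometryEquiv Q, ∀ i ∈ s, φ (x i) = x' i := by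
    intro s
    induction s using Finset.induction with
    | empty => exact ⟨QuadraticMap.IsometryEquiv.refl Q, by simp⟩
    | insert k s _ ih =>
      obtain ⟨φ, hφ⟩ := ih
      by_cases he : φ (x k) = x' k
      · exact ⟨φ, fun i hi => (Finset.mem_insert.mp hi).elim (fun e => e ▸ he) (hφ i)⟩
      have hv : Q (φ (x k) - x' k) ≠ 0 := fun e => he (sub_eq_zero.mp (hQ _ e))
      have hpφ : ∀ a b, QuadraticMap.polar Q (φ a) (φ b) = QuadraticMap.polar Q a b := fun a b => by
        have e : φ (a + b) = φ a + φ b := map_add φ.toLinearEquiv a b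
        simp only [QuadraticMap.polar, ← e, φ.map_app]
      refine ⟨φ.trans (refl_iso Q _ hv), fun i hi => ?_⟩
      change (refl_iso Q _ hv) (φ (x i)) = x' i
      rw [refl_iso_apply]
      rcases Finset.mem_insert.mp hi with rfl | hi
      · have e1 : QuadraticMap.polar Q (φ (x i) - x' i) (φ (x i)) = Q (φ (x i) - x' i) := by
          rw [QuadraticMap.polar_sub_left, polar_self, polar_comm_sub Q (φ (x i)) (x' i), φ.map_app,
            show Q (x' i) = Q (x i) from (hd i i₀).symm]
          ring
        rw [e1, div_self hv, one_smul, sub_sub_cancel]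
      · rw [hφ i hi, QuadraticMap.polar_sub_left, ← hp k i]
        have e1 : QuadraticMap.polar Q (φ (x k)) (x' i) = QuadraticMap.polar Q (x k) (x i) := by
          rw [← hφ i hi, hpφ]
        rw [e1, sub_self, zero_div, zero_smul, sub_zero]
  obtain ⟨φ, hφ⟩ := key Finset.univ
  refine ⟨φ, u' i₀ - φ (u i₀), fun i => ?_⟩
  have h : φ (u i) - φ (u i₀) = u' i - u' i₀ := by
    rw [show φ (u i) - φ (u i₀) = φ (u i - u i₀) from (map_sub φ.toLinearEquiv _ _).symm]
    exact hφ i (Finset.mem_univ i)
  rw [add_sub_left_comm, h]
  abel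

end Cfsg.Agent.S5754
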