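import Cfsg.Statements.S5763
import Mathlib
import Cfsg.Agent.Lib.Classical.SylowEightData

set_option autoImplicit false
open Cfsg

namespace Cfsg.Agent.S5763

open Agent.Classical.SylowEight

/-- Decode. -/
def app (n a : ℕ) : ℕ := n / 8 ^ a % 8

/-- The decidable condition for membership in the tree stabiliser. -/
def good (e : ℕ → ℕ) : Bool :=
  Nat.beq (e 1) (e 0 ^^^ 1) && Nat.beq (e 3) (e 2 ^^^ 1) && Nat.beq (e 5) (e 4 ^^^ 1) &&
    Nat.beq (e 7) (e 6 ^^^ 1) && Nat.beq (e 0 / 4) (e 2 / 4) && Nat.beq (e 4 / 4) (e 6 / 4)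

/-- The adjacent swap. -/
def sw (k a : ℕ) : ℕ := if Nat.beq a k then k + 1 else if Nat.beq a (k + 1) then k else a

/-- Injectivity of a code. -/
def injCode (n : ℕ) : Bool :=
  (List.range 8).all fun a => (List.range 8).all fun b => Nat.beq a b || !Nat.beq (app n a) (app n b)

/-- The check on one row. -/
def checkRow (t : Row) : Bool :=
  (List.range 8).all (fun a => Nat.beq (app t.2.1 (app t.1 a)) a) &&
    injCode t.2.2.1 && good (app t.2.2.1) && good (fun a => app t.2.1 (app t.2.2.1 (app t.1 a))) &&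
    !((List.range 8).all fun a => Nat.beq (app t.2.2.1 a) a) &&
    (List.range 7).all (fun k =>
      match table[t.2.2.2.getD k 1000]? with
      | none => false
      | some u => good (fun a => app u.2.1 (sw k (app t.1 a))))

set_option maxRecDepth 20000 in
theorem check_all : table.all checkRow = true := by decide +kernel

/-- The condition on a permutation. -/
def Good (h : Equiv.Perm (Fin 8)) : Prop := good (fun a => if ha : a < 8 then (h ⟨a, ha⟩ : ℕ) else 0) = true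

theorem good_congr {e e' : ℕ → ℕ} (h : ∀ a < 8, e a = e' a) : good e = good e' := by
  simp [good, h]

theorem good_iff (h : Equiv.Perm (Fin 8)) : Good h ↔
    ((h 1 : ℕ) = (h 0 : ℕ) ^^^ 1 ∧ (h 3 : ℕ) = (h 2 : ℕ) ^^^ 1 ∧ (h 5 : ℕ) = (h 4 : ℕ) ^^^ 1 ∧
      (h 7 : ℕ) = (h 6 : ℕ) ^^^ 1 ∧ (h 0 : ℕ) / 4 = (h 2 : ℕ) / 4 ∧ (h 4 : ℕ) / 4 = (h 6 : ℕ) / 4) := by
  have hb : ∀ a b : ℕ, Nat.beq a b = true ↔ a = b := fun a b =>
    ⟨Nat.eq_of_beq_eq_true, fun h => h ▸ Nat.beq_refl a⟩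
  simp only [Good, good, Bool.and_eq_true, hb, and_assoc]
  rfl

/-- The action on the four pairs. -/
def top (h : Equiv.Perm (Fin 8)) (p : Fin 4) : Fin 4 := ⟨(h ⟨2 * p.1, by omega⟩ : ℕ) / 2, by omega⟩

theorem xor_facts : ∀ a : Fin 8, ((a : ℕ) ^^^ 1) / 2 = (a : ℕ) / 2 ∧ ((a : ℕ) ^^^ 1) ^^^ 1 = (a : ℕ) ∧
    ((a : ℕ) ^^^ 1) < 8 := by decide

theorem good_spec {h : Equiv.Perm (Fin 8)} (hh : Good h) (a : Fin 8) :
    (h ⟨(a : ℕ) ^^^ 1, (xor_facts a).2.2⟩ : ℕ) = (h a : ℕ) ^^^ 1 ∧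
      (h a : ℕ) / 2 = (top h ⟨(a : ℕ) / 2, by omega⟩ : ℕ) := by
  obtain ⟨h1, h3, h5, h7, -, -⟩ := (good_iff h).mp hh
  have hx := fun b : Fin 8 => xor_facts (h b)
  fin_cases a <;> simp [top, h1, h3, h5, h7, (hx 0).1, (hx 2).1, (hx 4).1, (hx 6).1, (hx 0).2.1, (hx 2).2.1,
    (hx 4).2.1, (hx 6).2.1]

theorem good_quad {h : Equiv.Perm (Fin 8)} (hh : Good h) :
    (top h 0 : ℕ) / 2 = (top h 1 : ℕ) / 2 ∧ (top h 2 : ℕ) / 2 = (top h 3 : ℕ) / 2 := by
  obtain ⟨-, -, -, -, h02, h46⟩ := (good_iff h).mp hh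
  simp [top, Nat.div_div_eq_div_mul]
  exact ⟨h02, h46⟩

theorem good_mul {g h : Equiv.Perm (Fin 8)} (hg : Good g) (hh : Good h) : Good (g * h) := by
  have hsucc : ∀ a b : Fin 8, (b : ℕ) = (a : ℕ) ^^^ 1 → ((g * h) b : ℕ) = ((g * h) a : ℕ) ^^^ 1 := by
    intro a b hb
    have e : b = ⟨(a : ℕ) ^^^ 1, (xor_facts a).2.2⟩ := Fin.ext hb
    have e1 : h b = ⟨(h a : ℕ) ^^^ 1, (xor_facts (h a)).2.2⟩ := Fin.ext (by rw [e]; exact (good_spec hh a).1)
    rw [Equiv.Perm.mul_apply, Equiv.Perm.mul_apply, e1]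
    exact (good_spec hg (h a)).1
  have hquad : ∀ a b : Fin 8, (h a : ℕ) / 4 = (h b : ℕ) / 4 → ((g * h) a : ℕ) / 4 = ((g * h) b : ℕ) / 4 := by
    intro a b hab
    rw [Equiv.Perm.mul_apply, Equiv.Perm.mul_apply]
    generalize h a = x, h b = y at hab
    have hq := good_quad hg
    rw [show (g x : ℕ) / 4 = (g x : ℕ) / 2 / 2 by omega, show (g y : ℕ) / 4 = (g y : ℕ) / 2 / 2 by omega,
      (good_spec hg x).2, (good_spec hg y).2]
    have hcl : ∀ u v : Fin 4, (u : ℕ) / 2 = (v : ℕ) / 2 → (top g u : ℕ) / 2 = (top g v : ℕ) / 2 := by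
      intro u v huv
      fin_cases u <;> fin_cases v <;> first | rfl | exact hq.1 | exact hq.2 | exact hq.1.symm | exact hq.2.symm | simp at huv
    exact hcl _ _ (by simp only; omega)
  obtain ⟨-, -, -, -, h02, h46⟩ := (good_iff h).mp hh
  exact (good_iff _).mpr ⟨hsucc 0 1 (by decide), hsucc 2 3 (by decide), hsucc 4 5 (by decide), hsucc 6 7 (by decide),
    hquad 0 2 h02, hquad 4 6 h46⟩

theorem good_one : Good 1 := (good_iff 1).mpr (by decide)

theorem fourth : ∀ a b c d : Fin 4, (a : ℕ) / 2 = (b : ℕ) / 2 → (c : ℕ) / 2 = (d : ℕ) / 2 →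
    a ≠ b → a ≠ c → a ≠ d → b ≠ c → b ≠ d → c ≠ d →
    ∀ p, (![a, b, c, d] : Fin 4 → Fin 4) (![a, b, c, d] (![a, b, c, d] (![a, b, c, d] p))) = p := by
  decide

theorem flip_cases : ∀ a x : Fin 8, (a : ℕ) / 2 = (x : ℕ) / 2 → x = a ∨ (x : ℕ) = (a : ℕ) ^^^ 1 := by
  decide

theorem good_pow_eight {h : Equiv.Perm (Fin 8)} (hh : Good h) : h ^ 8 = 1 := by
  have hinj : Function.Injective (top h) := by
    intro u v huv
    have e := congrArg Fin.val huv
    have hu : (h ⟨2 * u.1, by omega⟩ : ℕ) / 2 = (h ⟨2 * v.1, by omega⟩ : ℕ) / 2 := e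
    rcases flip_cases _ _ hu with e1 | e1
    · have h1 := congrArg Fin.val (h.injective e1)
      exact Fin.ext (by simpa using h1.symm)
    · rw [← (good_spec hh ⟨2 * u.1, by omega⟩).1] at e1
      have h1 := congrArg Fin.val (h.injective (Fin.ext e1))
      have : ((2 * u.1) ^^^ 1) / 2 = (2 * u.1) / 2 := (xor_facts ⟨2 * u.1, by omega⟩).1
      exact Fin.ext (by simp only at h1; rw [← h1] at this; omega)
  have hp4 : ∀ p, top h (top h (top h (top h p))) = p := by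
    intro p
    have hq := good_quad hh
    have hne : ∀ u v : Fin 4, u ≠ v → top h u ≠ top h v := fun u v huv e => huv (hinj e)
    have := fourth (top h 0) (top h 1) (top h 2) (top h 3) hq.1 hq.2 (hne _ _ (by decide)) (hne _ _ (by decide))
      (hne _ _ (by decide)) (hne _ _ (by decide)) (hne _ _ (by decide)) (hne _ _ (by decide)) p
    have e : (![top h 0, top h 1, top h 2, top h 3] : Fin 4 → Fin 4) = top h := by
      funext u; fin_cases u <;> rfl
    rwa [e] at this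
  have hpow : ∀ n, Good (h ^ n) := fun n => by
    induction n with
    | zero => exact good_one
    | succ n ih => rw [pow_succ]; exact good_mul ih hh
  refine Equiv.ext fun a => ?_
  have key : ∀ b : Fin 8, ((h ^ 4) b : ℕ) / 2 = (b : ℕ) / 2 := by
    intro b
    have hs : ∀ c : Fin 8, (⟨(h c : ℕ) / 2, by omega⟩ : Fin 4) = top h ⟨(c : ℕ) / 2, by omega⟩ := fun c =>
      Fin.ext (good_spec hh c).2
    have := hp4 ⟨(b : ℕ) / 2, by omega⟩
    rw [← hs b, ← hs (h b), ← hs (h (h b)), ← hs (h (h (h b)))] at this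
    exact congrArg Fin.val this
  have h4 := key a
  rw [show h ^ 8 = h ^ 4 * h ^ 4 from by rw [← pow_add]]
  rcases flip_cases a ((h ^ 4) a) h4.symm with e | e
  · rw [Equiv.Perm.mul_apply, e, e]; rfl
  · have e2 : (h ^ 4) a = ⟨(a : ℕ) ^^^ 1, (xor_facts a).2.2⟩ := Fin.ext e
    rw [Equiv.Perm.mul_apply, e2]
    refine Fin.ext ?_
    rw [(good_spec (hpow 4) a).1, e]
    exact (xor_facts a).2.1

/-- The tree stabiliser, a 2-group. -/
def D : Subgroup (Equiv.Perm (Fin 8)) where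
  carrier := {h | Good h}
  mul_mem' := good_mul
  one_mem' := good_one
  inv_mem' {h} hh := by
    have e : h⁻¹ = h ^ 7 := inv_eq_of_mul_eq_one_right (by rw [← pow_succ']; exact good_pow_eight hh)
    have : ∀ n, Good (h ^ n) := fun n => by
      induction n with
      | zero => exact good_one
      | succ n ih => rw [pow_succ]; exact good_mul ih hh
    rw [e]
    exact this 7

theorem isPGroup_D : IsPGroup 2 D := fun g => ⟨3, Subtype.ext (good_pow_eight g.2)⟩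

/-- The permutation of a code. -/
theorem exists_perm {n m : ℕ} (h : ((List.range 8).all fun a => Nat.beq (app m (app n a)) a) = true) :
    ∃ σ : Equiv.Perm (Fin 8), ∀ a : Fin 8, (σ a : ℕ) = app n a ∧ (σ⁻¹ a : ℕ) = app m a := by
  have hlt : ∀ x y, app x y < 8 := fun x y => Nat.mod_lt _ (by norm_num)
  have hl : Function.LeftInverse (fun a : Fin 8 => (⟨app m a, hlt _ _⟩ : Fin 8))
      (fun a : Fin 8 => (⟨app n a, hlt _ _⟩ : Fin 8)) := fun a => Fin.ext (by
    have := List.all_eq_true.mp h a (List.mem_range.mpr a.2)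
    simpa using this)
  refine ⟨⟨_, _, hl, ?_⟩, fun a => ⟨rfl, rfl⟩⟩
  exact (Finite.injective_iff_surjective.mp hl.injective).forall.mpr fun a => by rw [hl a]

theorem row_data {t : Row} (ht : t ∈ table) : ∃ r w : Equiv.Perm (Fin 8),
    (∀ a : Fin 8, (r a : ℕ) = app t.1 a ∧ (r⁻¹ a : ℕ) = app t.2.1 a) ∧
      w ∈ D ∧ r⁻¹ * w * r ∈ D ∧ w ≠ 1 := by
  have h := List.all_eq_true.mp check_all t ht
  simp only [checkRow, Bool.and_eq_true, Bool.not_eq_true'] at h
  obtain ⟨⟨⟨⟨⟨h1, hi⟩, h2⟩, h3⟩, h4⟩, -⟩ := h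
  obtain ⟨r, hr⟩ := exists_perm h1
  have hlt : ∀ a : Fin 8, app t.2.2.1 a < 8 := fun a => Nat.mod_lt _ (by norm_num)
  obtain ⟨w, hw⟩ : ∃ w : Equiv.Perm (Fin 8), ∀ a : Fin 8, (w a : ℕ) = app t.2.2.1 a := by
    refine ⟨Equiv.ofBijective (fun a : Fin 8 => ⟨app t.2.2.1 a, hlt a⟩) (Finite.injective_iff_bijective.mp ?_), fun a => rfl⟩
    intro a b hab
    have h5 := List.all_eq_true.mp (List.all_eq_true.mp hi a (List.mem_range.mpr a.2)) b (List.mem_range.mpr b.2)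
    have hab' : app t.2.2.1 a = app t.2.2.1 b := congrArg Fin.val hab
    simpa [hab', Fin.val_inj] using h5
  refine ⟨r, w, hr, ?_, ?_, ?_⟩
  · change Good w
    rw [Good, ← h2]
    exact good_congr fun a ha => by simp only [ha, dite_true]; exact hw _
  · change Good _
    rw [Good, ← h3]
    refine good_congr fun a ha => ?_
    simp only [ha, dite_true, Equiv.Perm.mul_apply]
    rw [(hr _).2, hw, (hr _).1]
  · intro e
    rw [List.all_eq_false] at h4
    obtain ⟨a, ha, hne⟩ := h4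
    apply hne
    rw [List.mem_range] at ha
    have := hw ⟨a, ha⟩
    rw [e] at this
    simp [← this]

theorem cover (x : Equiv.Perm (Fin 8)) : ∃ t ∈ table, ∃ r : Equiv.Perm (Fin 8),
    (∀ a : Fin 8, (r a : ℕ) = app t.1 a ∧ (r⁻¹ a : ℕ) = app t.2.1 a) ∧ r⁻¹ * x ∈ D := by
  have hx : x ∈ Submonoid.closure (Set.range fun i : Fin 7 ↦ Equiv.swap i.castSucc i.succ) := by
    rw [Equiv.Perm.mclosure_swap_castSucc_succ]; trivial
  have step : ∀ (k : Fin 7) (y : Equiv.Perm (Fin 8)), (∃ t ∈ table, ∃ r : Equiv.Perm (Fin 8),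
      (∀ a : Fin 8, (r a : ℕ) = app t.1 a ∧ (r⁻¹ a : ℕ) = app t.2.1 a) ∧ r⁻¹ * y ∈ D) →
      ∃ t ∈ table, ∃ r : Equiv.Perm (Fin 8),
        (∀ a : Fin 8, (r a : ℕ) = app t.1 a ∧ (r⁻¹ a : ℕ) = app t.2.1 a) ∧
          r⁻¹ * (Equiv.swap k.castSucc k.succ * y) ∈ D := by
    rintro k y ⟨t, ht, r, hr, hy⟩
    have h := List.all_eq_true.mp check_all t ht
    simp only [checkRow, Bool.and_eq_true] at h
    have hk := List.all_eq_true.mp h.2 k (List.mem_range.mpr k.2)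
    obtain ⟨u, hu, hgood⟩ : ∃ u, table[t.2.2.2.getD k 1000]? = some u ∧
        good (fun a => app u.2.1 (sw k (app t.1 a))) = true := by
      cases hget : table[t.2.2.2.getD k 1000]? with
      | none => rw [hget] at hk; simp at hk
      | some u => rw [hget] at hk; exact ⟨u, rfl, hk⟩
    have hmem : u ∈ table := List.mem_of_getElem? hu
    obtain ⟨r', -, hr', -⟩ := row_data hmem
    refine ⟨u, hmem, r', hr', ?_⟩
    have hm : r'⁻¹ * Equiv.swap k.castSucc k.succ * r ∈ D := by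
      change Good _
      rw [Good, ← hgood]
      refine good_congr fun a ha => ?_
      have hs : ∀ b : Fin 8, (Equiv.swap k.castSucc k.succ b : ℕ) = sw k b := fun b => by
        fin_cases k <;> fin_cases b <;> rfl
      simp only [ha, dite_true, Equiv.Perm.mul_apply]
      rw [(hr' _).2, hs, (hr _).1]
    have := D.mul_mem hm hy
    simpa [mul_assoc] using this
  have main : ∀ y, (∃ t ∈ table, ∃ r : Equiv.Perm (Fin 8),
      (∀ a : Fin 8, (r a : ℕ) = app t.1 a ∧ (r⁻¹ a : ℕ) = app t.2.1 a) ∧ r⁻¹ * y ∈ D) →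
      ∃ t ∈ table, ∃ r : Equiv.Perm (Fin 8),
        (∀ a : Fin 8, (r a : ℕ) = app t.1 a ∧ (r⁻¹ a : ℕ) = app t.2.1 a) ∧ r⁻¹ * (x * y) ∈ D := by
    induction hx using Submonoid.closure_induction with
    | mem z hz => obtain ⟨k, rfl⟩ := hz; exact step k
    | one => intro y hy; simpa using hy
    | mul z w _ _ hz hw => intro y hy; rw [mul_assoc]; exact hz _ (hw y hy)
  obtain ⟨t₀, ht₀⟩ : ∃ t₀, table[0]? = some t₀ := ⟨_, rfl⟩
  have hid : t₀.1 = 16434824 := by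
    have : (table[0]?).map (fun t => t.1) = some 16434824 := rfl
    rw [ht₀] at this
    exact Option.some.inj this
  obtain ⟨r, -, hr, -⟩ := row_data (List.mem_of_getElem? ht₀)
  have hr1 : r = 1 := Equiv.ext fun a => Fin.ext (by
    rw [(hr a).1, hid]; revert a; decide)
  have := main 1 ⟨t₀, List.mem_of_getElem? ht₀, r, hr, by rw [hr1]; simpa using D.one_mem⟩
  simpa using this

/-- In the symmetric group on 8 letters any two Sylow 2-subgroups have non-trivial intersection: for a Sylow 2-subgroup H and every element x, H ∩ xHx⁻¹ ≠ 1. -/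
theorem result (H : Sylow 2 (Equiv.Perm (Fin 8))) (x : Equiv.Perm (Fin 8)) :
    (H : Subgroup (Equiv.Perm (Fin 8))) ⊓ (H : Subgroup (Equiv.Perm (Fin 8))).map (MulAut.conj x).toMonoidHom ≠ ⊥ := by
  obtain ⟨P, hP⟩ := isPGroup_D.exists_le_sylow
  obtain ⟨g, rfl⟩ := MulAction.exists_smul_eq (Equiv.Perm (Fin 8)) P H
  obtain ⟨t, ht, r, hr, hrx⟩ := cover (g⁻¹ * x * g)
  obtain ⟨r', w, hr', hwD, hwr, hw1⟩ := row_data ht
  have hrr : r' = r := Equiv.ext fun a => Fin.ext ((hr' a).1.trans (hr a).1.symm)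
  subst hrr
  set d := r'⁻¹ * (g⁻¹ * x * g) with hd
  have hwy : (g⁻¹ * x * g)⁻¹ * w * (g⁻¹ * x * g) ∈ D := by
    have h := D.mul_mem (D.mul_mem (D.inv_mem hrx) hwr) hrx
    have e : (g⁻¹ * x * g)⁻¹ * w * (g⁻¹ * x * g) = (r'⁻¹ * (g⁻¹ * x * g))⁻¹ * (r'⁻¹ * w * r') * (r'⁻¹ * (g⁻¹ * x * g)) := by
      group
    rw [e]; exact h
  intro hbot
  have hsmul : ∀ y, y ∈ ((g • P : Sylow 2 (Equiv.Perm (Fin 8))) : Subgroup (Equiv.Perm (Fin 8))) ↔ g⁻¹ * y * g ∈ (P : Subgroup (Equiv.Perm (Fin 8))) := fun y => by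
    rw [Sylow.coe_subgroup_smul, Subgroup.mem_pointwise_smul_iff_inv_smul_mem]
    simp [MulAut.smul_def]
  have hmem : g * w * g⁻¹ ∈ (⊥ : Subgroup (Equiv.Perm (Fin 8))) := by
    rw [← hbot]
    refine ⟨(hsmul _).mpr (by simpa [mul_assoc] using hP hwD), ⟨x⁻¹ * (g * w * g⁻¹) * x, (hsmul _).mpr ?_, ?_⟩⟩
    · have e : g⁻¹ * (x⁻¹ * (g * w * g⁻¹) * x) * g = (g⁻¹ * x * g)⁻¹ * w * (g⁻¹ * x * g) := by group
      rw [e]; exact hP hwy
    · simp only [MulEquiv.coe_toMonoidHom, MulAut.conj_apply]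
      group
  rw [Subgroup.mem_bot, conj_eq_one_iff] at hmem
  exact hw1 hmem

end Cfsg.Agent.S5763
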