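import Cfsg.Statements.S5778
import Cfsg.Agent.Lib.Classical.UnitarySmallCases
import Cfsg.Agent.Lib.Classical.SUThreeSmall.SymType
-- import your own Cfsg.Agent.* helpers here

set_option autoImplicit false
open Cfsg

namespace Cfsg.Agent.S5778

/-- Every maximal subgroup of SU_3(q), q ≥ 3, is of one of the listed geometric types or lies in the residual class. Let F be the field with q² elements, f the standard unitary form Σ u_i v_i^q on F^3, and H a maximal subgroup of SU_3(q) (the determinant-one isometries of f, inside GL_3(F)). Then H is the intersection with SU_3(q) of one of: the stabiliser of a non-zero subspace on which f vanishes; the stabiliser of a non-degenerate 1-space; for q ≠ 5, the stabiliser of a decomposition into three mutually orthogonal non-degenerate 1-spaces; for q ≠ 3, 5, the normaliser of an adjoint-closed degree-3 subfield of the matrix algebra; a subfield group of odd prime index whose F₀-structure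 carries f; for q odd, q ≥ 7, a subfield group of index 2 whose F₀-structure carries f; for q = p ≡ 2 mod 3 prime with p ≥ 11, the normaliser of an absolutely irreducible subgroup of order 27 with centre of order 3, exponent 3 and all characteristic abelian subgroups cyclic, contained in the similarity group of f — or else H lies in the residual class of the unitary case. -/
theorem result {F : Type*} [Field F] [Fintype F] (q : ℕ) (hF : Fintype.card F = q ^ 2) (hq : 3 ≤ q) (H : Subgroup (Matrix.GeneralLinearGroup (Fin 3) F)) (hH : Cfsg.Geo.IsMaximalIn (Cfsg.GU 3 F q ⊓ Cfsg.Geo.specialLinear (Fin 3) F) H) :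
    (∃ W : Submodule F (Fin 3 → F), W ≠ ⊥ ∧ Cfsg.Geo.IsTotallySingularFor (Cfsg.hermForm 3 F q) W ∧ H = Cfsg.Geo.subspaceStabilizer W ⊓ (Cfsg.GU 3 F q ⊓ Cfsg.Geo.specialLinear (Fin 3) F)) ∨
    (∃ W : Submodule F (Fin 3 → F), W ≠ ⊥ ∧ Cfsg.Geo.IsNondegenerateOn (Cfsg.hermForm 3 F q) W ∧ 2 * Module.finrank F W < 3 ∧ H = Cfsg.Geo.subspaceStabilizer W ⊓ (Cfsg.GU 3 F q ⊓ Cfsg.Geo.specialLinear (Fin 3) F)) ∨
    (q ≠ 5 ∧ ∃ D : Fin 3 → Submodule F (Fin 3 → F), Cfsg.Geo.IsNondegenerateMDecomposition (Cfsg.hermForm 3 F q) 1 D ∧ H = Cfsg.Geo.decompositionStabilizer D ⊓ (Cfsg.GU 3 F q ⊓ Cfsg.Geo.specialLinear (Fin 3) F)) ∨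
    (q ≠ 3 ∧ q ≠ 5 ∧ ∃ K : Subalgebra F (Matrix (Fin 3) (Fin 3) F), Cfsg.Geo.IsFieldSubalgebra 3 K ∧ Cfsg.Geo.IsAdjointClosedFor (Cfsg.hermForm 3 F q) K ∧ H = Cfsg.Geo.subalgebraNormalizer K ⊓ (Cfsg.GU 3 F q ⊓ Cfsg.Geo.specialLinear (Fin 3) F)) ∨
    (∃ (F₀ : Subfield F) (r : ℕ) (P : Matrix.GeneralLinearGroup (Fin 3) F), r.Prime ∧ Odd r ∧ Fintype.card F = Nat.card F₀ ^ r ∧ Cfsg.Geo.IsFormRationalStructure (Cfsg.hermForm 3 F q) F₀ 1 P ∧ H = Cfsg.Geo.subfieldSubgroup F₀ P ⊓ (Cfsg.GU 3 F q ⊓ Cfsg.Geo.specialLinear (Fin 3) F)) ∨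
    (Odd q ∧ 7 ≤ q ∧ ∃ (F₀ : Subfield F) (P : Matrix.GeneralLinearGroup (Fin 3) F), Fintype.card F = Nat.card F₀ ^ 2 ∧ Cfsg.Geo.IsFormRationalStructure (Cfsg.hermForm 3 F q) F₀ 1 P ∧ H = Cfsg.Geo.subfieldSubgroup F₀ P ⊓ (Cfsg.GU 3 F q ⊓ Cfsg.Geo.specialLinear (Fin 3) F)) ∨
    (∃ (p : ℕ) (R : Subgroup (Matrix.GeneralLinearGroup (Fin 3) F)), p.Prime ∧ q = p ∧ p % 3 = 2 ∧ 11 ≤ p ∧ Cfsg.Geo.IsSymplecticTypeGroup 3 R ∧ Cfsg.Geo.ActsAbsolutelyIrreducibly (Cfsg.Geo.matrixSet R) ∧ R ≤ Cfsg.Geo.similarityGroup (Cfsg.hermForm 3 F q) ∧ Nat.card R = 27 ∧ Nat.card (Subgroup.center R) = 3 ∧ H = Cfsg.Geo.subgroupNormalizer R ⊓ (Cfsg.GU 3 F q ⊓ Cfsg.Geo.specialLinear (Fin 3) F)) ∨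
    Cfsg.Geo.InUnitaryResidualClass H := by
  classical
  obtain ⟨p₀, b, σ, -, -, -, -, hσ⟩ := Cfsg.Agent.Classical.exists_usigma hF
  by_contra hgoal
  rcases hσ.u_cases_small le_rfl (by norm_num) (by rintro ⟨-, h2⟩; omega) hH with h | h | ⟨t, k, D, ht, hk, htk, hD, h⟩ |
    ⟨k, D, hk, -, -, -⟩ | h | ⟨F₀, P, hqo, hc2, hrat, h⟩ | ⟨F₀, P, ζ, hev, -⟩ |
    ⟨r, R, p, k, hR, hRa, hsim, hp, hdata, h⟩ | ⟨r, K, hr, hro, hrn, hK, hKadj, h⟩ | h
  · exact hgoal <| Or.inl h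
  · exact hgoal <| Or.inr (Or.inl h)
  · obtain ⟨rfl, rfl⟩ : t = 3 ∧ k = 1 := by
      have htn : t ≤ 3 := by nlinarith
      interval_cases t <;> omega
    by_cases hq5 : q = 5
    · subst hq5
      exact Cfsg.Agent.Classical.SUThree.lines_five hσ hH hD h
    · exact hgoal <| Or.inr (Or.inr (Or.inl ⟨hq5, D, hD, h⟩))
  · omega
  · exact hgoal <| Or.inr (Or.inr (Or.inr (Or.inr (Or.inl h))))
  · by_cases hq7 : 7 ≤ q
    · exact hgoal <| Or.inr (Or.inr (Or.inr (Or.inr (Or.inr (Or.inl ⟨hqo, hq7, F₀, P, hc2, hrat, h⟩)))))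
    · obtain rfl | rfl : q = 3 ∨ q = 5 := by
        obtain ⟨j, rfl⟩ := hqo
        omega
      · obtain ⟨D, hD, hH'⟩ := Cfsg.Agent.Classical.SUThree.subfield_three hσ hH hc2 hrat h
        exact hgoal <| Or.inr (Or.inr (Or.inl ⟨by norm_num, D, hD, hH'⟩))
      · exact Cfsg.Agent.Classical.SUThree.subfield_five hσ hH hc2 hrat h
  · exact absurd hev (by decide)
  · rcases hdata with ⟨hro, hz, hk1, hc, hn, hrp, e, hmin⟩ | ⟨rfl, -, -, -, -, hn⟩
    · obtain rfl : r = 3 :=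
        (Nat.prime_dvd_prime_iff_eq hR.prime Nat.prime_three).mp (hn ▸ dvd_pow_self r (by omega))
      obtain rfl : k = 1 := (Nat.pow_right_injective (by norm_num) (show 3 ^ k = 3 ^ 1 by rw [← hn, pow_one]))
      obtain ⟨-, hchar, hcard, hdvd, hleast⟩ := hmin
      have hpe : p ^ e = q ^ 2 := hcard.symm.trans hF
      obtain ⟨j, -, hqj⟩ : ∃ j ≤ e, q = p ^ j := (Nat.dvd_prime_pow hp).mp (hpe ▸ dvd_pow_self q two_ne_zero)
      have he2j : e = j * 2 := Nat.pow_right_injective hp.two_le (show p ^ e = p ^ (j * 2) by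
        rw [pow_mul, ← hqj, hpe])
      have hj0 : 0 < j := Nat.pos_of_ne_zero fun h0 => by subst h0; simp at hqj; omega
      have hp3 : p % 3 ≠ 0 := fun h0 => hrp ((Nat.prime_dvd_prime_iff_eq Nat.prime_three hp).mp (Nat.dvd_of_mod_eq_zero h0))
      have h1 := hleast 1 one_pos (by omega)
      rw [pow_one] at h1
      have hp2 : p % 3 = 2 := by have := hp.two_le; omega
      obtain rfl : j = 1 := by
        by_contra hj
        refine hleast 2 two_pos (by omega) ?_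
        have : p ^ 2 % 3 = 1 := by rw [Nat.pow_mod, hp2]
        omega
      rw [pow_one] at hqj
      subst hqj
      by_cases hq5 : q = 5
      · subst hq5
        exact Cfsg.Agent.Classical.SUThree.symType_five hσ hH hR hRa hsim hz (by rw [hc]; norm_num) h
      · refine hgoal <| Or.inr (Or.inr (Or.inr (Or.inr (Or.inr (Or.inr (Or.inl
          ⟨q, R, hp, rfl, hp2, ?_, hR, hRa, hsim, by rw [hc]; norm_num, hz, h⟩))))))
        by_contra h11
        interval_cases q <;> first | omega | norm_num at hp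
    · have h2 : 2 ∣ 3 := hn ▸ dvd_pow_self 2 (fun h0 => by subst h0; omega)
      omega
  · obtain rfl : r = 3 := (Nat.prime_dvd_prime_iff_eq hr Nat.prime_three).mp hrn
    by_cases hq : q = 3 ∨ q = 5
    · exact Cfsg.Agent.Classical.SUThree.field_small hq hσ hH hK hKadj h
    · exact hgoal <| Or.inr (Or.inr (Or.inr (Or.inl ⟨fun e => hq (Or.inl e), fun e => hq (Or.inr e), K, hK, hKadj, h⟩)))
  · exact hgoal <| Or.inr (Or.inr (Or.inr (Or.inr (Or.inr (Or.inr (Or.inr h))))))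

end Cfsg.Agent.S5778
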