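import Cfsg.Statements.S5783
import Cfsg.Agent.Lib.Classical.SULists
import Cfsg.Agent.Lib.Classical.UFour.Point
import Cfsg.Agent.Lib.Classical.UFour.FrameFour
import Cfsg.Agent.Lib.Classical.UDecompMaximal
import Cfsg.Agent.Lib.Classical.UFour.Pair
import Cfsg.Agent.Lib.Classical.USubfieldMaximal
import Cfsg.Agent.Lib.Classical.SpInUMaximal
import Cfsg.Agent.Lib.Classical.UOFour.Main
import Cfsg.Agent.Lib.Classical.Frame.FourMaxU

set_option autoImplicit false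
open Cfsg

namespace Cfsg.Agent.S5783

/-- Maximal subgroups of SU_4(q) of geometric type (any prime power q). Let F be the field with q² elements, f the standard unitary form Σ u_i v_i^q on F^4 and SU_4(q) its determinant-one isometry group inside GL_4(F). Each of the following, intersected with SU_4(q), is a maximal subgroup of SU_4(q): (1) the stabiliser of any non-zero subspace on which f vanishes identically (totally isotropic 1-spaces and 2-spaces); (2) the stabiliser of any non-degenerate 1-space; (3) for q ≠ 3, the stabiliser of any decomposition of F^4 into four mutually orthogonal non-degenerate 1-spaces; (4) for q ≥ 3, the stabiliser of any decomposition into two mutually orthogonal non-degenerate 2-spaces; (5) for q ≥ 4, the stabiliser of any decomposition into two totally isotropic 2-spaces; (6) every subfield group for a subfield F₀ of odd prime index in F whose F₀-structure carries f; (7) every subfield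 group for the subfield F₀ of index 2 whose F₀-structure carries ζ f for a non-zero ζ with ζ + ζ^q = 0, vanishing on pairs (u, u) (the symplectic type); (8) for q odd with q ≥ 5, every subfield group for the subfield F₀ of index 2 whose F₀-structure carries f (the orthogonal types, either sign); (9) for q = p prime with p ≡ 3 mod 4, the normaliser of any absolutely irreducible 2-group R of symplectic type and exponent 4 with |R| = 64 and centre of order 4, consisting of isometries of f. -/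
theorem result {F : Type*} [Field F] [Fintype F] (q : ℕ) (hF : Fintype.card F = q ^ 2) :
    (∀ W : Submodule F (Fin 4 → F), W ≠ ⊥ → Cfsg.Geo.IsTotallySingularFor (Cfsg.hermForm 4 F q) W → Cfsg.Geo.IsMaximalIn (Cfsg.GU 4 F q ⊓ Cfsg.Geo.specialLinear (Fin 4) F) (Cfsg.Geo.subspaceStabilizer W ⊓ (Cfsg.GU 4 F q ⊓ Cfsg.Geo.specialLinear (Fin 4) F))) ∧
    (∀ W : Submodule F (Fin 4 → F), W ≠ ⊥ → Cfsg.Geo.IsNondegenerateOn (Cfsg.hermForm 4 F q) W → 2 * Module.finrank F W < 4 → Cfsg.Geo.IsMaximalIn (Cfsg.GU 4 F q ⊓ Cfsg.Geo.specialLinear (Fin 4) F) (Cfsg.Geo.subspaceStabilizer W ⊓ (Cfsg.GU 4 F q ⊓ Cfsg.Geo.specialLinear (Fin 4) F))) ∧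
    (q ≠ 3 → ∀ D : Fin 4 → Submodule F (Fin 4 → F), Cfsg.Geo.IsNondegenerateMDecomposition (Cfsg.hermForm 4 F q) 1 D → Cfsg.Geo.IsMaximalIn (Cfsg.GU 4 F q ⊓ Cfsg.Geo.specialLinear (Fin 4) F) (Cfsg.Geo.decompositionStabilizer D ⊓ (Cfsg.GU 4 F q ⊓ Cfsg.Geo.specialLinear (Fin 4) F))) ∧
    (3 ≤ q → ∀ D : Fin 2 → Submodule F (Fin 4 → F), Cfsg.Geo.IsNondegenerateMDecomposition (Cfsg.hermForm 4 F q) 2 D → Cfsg.Geo.IsMaximalIn (Cfsg.GU 4 F q ⊓ Cfsg.Geo.specialLinear (Fin 4) F) (Cfsg.Geo.decompositionStabilizer D ⊓ (Cfsg.GU 4 F q ⊓ Cfsg.Geo.specialLinear (Fin 4) F))) ∧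
    (4 ≤ q → ∀ D : Fin 2 → Submodule F (Fin 4 → F), Cfsg.Geo.IsMDecomposition 2 D → (∀ i, Cfsg.Geo.IsTotallySingularFor (Cfsg.hermForm 4 F q) (D i)) → Cfsg.Geo.IsMaximalIn (Cfsg.GU 4 F q ⊓ Cfsg.Geo.specialLinear (Fin 4) F) (Cfsg.Geo.decompositionStabilizer D ⊓ (Cfsg.GU 4 F q ⊓ Cfsg.Geo.specialLinear (Fin 4) F))) ∧
    (∀ (F₀ : Subfield F) (r : ℕ) (P : Matrix.GeneralLinearGroup (Fin 4) F), r.Prime → Odd r → Fintype.card F = Nat.card F₀ ^ r → Cfsg.Geo.IsFormRationalStructure (Cfsg.hermForm 4 F q) F₀ 1 P → Cfsg.Geo.IsMaximalIn (Cfsg.GU 4 F q ⊓ Cfsg.Geo.specialLinear (Fin 4) F) (Cfsg.Geo.subfieldSubgroup F₀ P ⊓ (Cfsg.GU 4 F q ⊓ Cfsg.Geo.specialLinear (Fin 4) F))) ∧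
    (∀ (F₀ : Subfield F) (P : Matrix.GeneralLinearGroup (Fin 4) F) (ζ : F), Fintype.card F = Nat.card F₀ ^ 2 → ζ ≠ 0 → ζ + ζ ^ q = 0 → Cfsg.Geo.IsFormRationalStructure (Cfsg.hermForm 4 F q) F₀ ζ P → (∀ u : Fin 4 → F, (∀ i, u i ∈ F₀) → (Cfsg.hermForm 4 F q) (Matrix.mulVec (P : Matrix (Fin 4) (Fin 4) F) u) (Matrix.mulVec (P : Matrix (Fin 4) (Fin 4) F) u) = 0) → Cfsg.Geo.IsMaximalIn (Cfsg.GU 4 F q ⊓ Cfsg.Geo.specialLinear (Fin 4) F) (Cfsg.Geo.subfieldSubgroup F₀ P ⊓ (Cfsg.GU 4 F q ⊓ Cfsg.Geo.specialLinear (Fin 4) F))) ∧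
    (Odd q → 5 ≤ q → ∀ (F₀ : Subfield F) (P : Matrix.GeneralLinearGroup (Fin 4) F), Fintype.card F = Nat.card F₀ ^ 2 → Cfsg.Geo.IsFormRationalStructure (Cfsg.hermForm 4 F q) F₀ 1 P → Cfsg.Geo.IsMaximalIn (Cfsg.GU 4 F q ⊓ Cfsg.Geo.specialLinear (Fin 4) F) (Cfsg.Geo.subfieldSubgroup F₀ P ⊓ (Cfsg.GU 4 F q ⊓ Cfsg.Geo.specialLinear (Fin 4) F))) ∧
    (∀ (p : ℕ) (R : Subgroup (Matrix.GeneralLinearGroup (Fin 4) F)), p.Prime → q = p → p % 4 = 3 → Cfsg.Geo.IsSymplecticTypeGroup 2 R → Cfsg.Geo.ActsAbsolutelyIrreducibly (Cfsg.Geo.matrixSet R) → R ≤ Cfsg.GU 4 F q → Nat.card R = 64 → Nat.card (Subgroup.center R) = 4 → Cfsg.Geo.IsMaximalIn (Cfsg.GU 4 F q ⊓ Cfsg.Geo.specialLinear (Fin 4) F) (Cfsg.Geo.subgroupNormalizer R ⊓ (Cfsg.GU 4 F q ⊓ Cfsg.Geo.specialLinear (Fin 4) F))) := by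
  obtain ⟨-, -, σ, -, -, -, -, hσ⟩ := Cfsg.Agent.Classical.exists_usigma hF
  refine ⟨?_, ?_,
    fun hq D hD => Cfsg.Agent.Classical.UFour.frame_isMaximal hσ hq hD,
    fun hq D hD => Cfsg.Agent.Classical.UDecomp.isMaximal
      { sig := hσ, decomp := hD, npos := by norm_num, two := by norm_num, excl := fun h => by omega },
    fun hq D hD hts => Cfsg.Agent.Classical.UFour.pair_isMaximal hσ rfl hq le_rfl D hD hts,
    fun F₀ r P hr hro hcard hP => Cfsg.Agent.Classical.USub.isMaximal hσ le_rfl hr hro hcard P hP,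
    fun F₀ P ζ hcard hζ0 hζ hP halt =>
      Cfsg.Agent.Classical.SpInU.isMaximal hσ (by norm_num) hcard hζ0 hζ P hP halt,
    fun hodd hq F₀ P hcard hP => Cfsg.Agent.Classical.UOFour.isMaximal hσ hq hcard
      (Cfsg.Agent.Classical.two_ne_zero_of_odd_card (by rw [hF]; exact hodd.pow)) P hP,
    fun p R hp hqp h4 hR hirr hU hcard hcen => ?_⟩
  · clear hσ σ
    intro W hW0 hW
    classical
    haveI : Nonempty (Fin 4) := ⟨0⟩
    obtain ⟨p, e, σ, -, -, -, -, hσ⟩ := Cfsg.Agent.Classical.exists_usigma hF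
    have hh := hσ.isUnitaryForm (n := 4)
    obtain ⟨θ, hθ⟩ : ∃ θ : F, θ + σ θ ≠ 0 := by
      by_contra hcon
      push Not at hcon
      refine hσ.ne_refl (RingEquiv.ext fun x => ?_)
      have h1 := hcon 1
      rw [map_one] at h1
      show σ x = x
      linear_combination hcon x - x * h1
    obtain ⟨c, hc0, hc⟩ := hσ.exists_skew
    refine Cfsg.Agent.Classical.Radical.isMaximal_form (G := Cfsg.GU 4 F q ⊓ Cfsg.Geo.specialLinear (Fin 4) F) (σ := σ) (ε := 1)
      (Cfsg.Agent.Classical.reflexForm_of_unitary hh) (fun g hg x y => hg.1 x y) (fun g h1 hg => ⟨hg, h1⟩)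
      (fun v => ⟨θ * Cfsg.hermForm 4 F q v v / (θ + σ θ), ?_⟩) ⟨c, hc0, by rwa [one_mul]⟩
      (fun K hK => Cfsg.Agent.Classical.UOver.suGL_le hσ (by norm_num) fun v c hv hc g hg => ?_) hW0 hW
    · rw [one_mul, map_div₀, map_mul, map_add, hσ.involutive, ← hh.herm v v, add_comm (σ θ) θ, ← add_div,
        ← add_mul, mul_div_cancel_left₀ _ hθ]
    by_cases hv0 : v = 0
    · convert one_mem K
      refine Cfsg.Agent.Classical.gl_ext_mulVec fun x => ?_
      rw [hg x, hv0, Units.val_one, Matrix.one_mulVec, smul_zero, add_zero]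
    · exact hK v c hv hv0 (by rwa [one_mul]) g hg
  · intro W hW0 hW hdim
    exact Cfsg.Agent.Classical.UFour.point_maximal hσ le_rfl hW0 hW (by
      have : Module.finrank F W ≠ 0 := fun e => hW0 (Submodule.finrank_eq_zero.mp e)
      omega)
  · subst hqp
    exact Cfsg.Agent.Classical.Frame.isMaximal_su_four hp hF h4 hR hirr hU hcen

end Cfsg.Agent.S5783
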