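import Cfsg.Statements.S5784
import Cfsg.Agent.Lib.Classical.UnitarySmallCases
import Cfsg.Agent.Lib.Classical.FormUFourSmall

set_option autoImplicit false
open Cfsg

namespace Cfsg.Agent.S5784

/-- Every maximal subgroup of SU_4(q) is of one of the listed geometric types or lies in the residual class. Let F be the field with q² elements, f the standard unitary form Σ u_i v_i^q on F^4, and H a maximal subgroup of SU_4(q) (inside GL_4(F)). Then H is the intersection with SU_4(q) of one of: the stabiliser of a non-zero subspace on which f vanishes; the stabiliser of a non-degenerate 1-space; for q ≠ 3, the stabiliser of a decomposition into four mutually orthogonal non-degenerate 1-spaces; for q ≥ 3, of a decomposition into two orthogonal non-degenerate 2-spaces; for q ≥ 4, of a decomposition into two totally isotropic 2-spaces; a subfield group of odd prime index whose F₀-structure carries f;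 a subfield group of index 2 whose F₀-structure carries ζ f, vanishing on pairs (u, u), for some non-zero ζ with ζ + ζ^q = 0; for q odd, a subfield group of index 2 whose F₀-structure carries f; for q = p ≡ 3 mod 4 prime, the normaliser of an absolutely irreducible symplectic-type 2-group of exponent 4, order 64 and centre of order 4 inside the similarity group of f — or else H lies in the residual class of the unitary case. -/
theorem result {F : Type*} [Field F] [Fintype F] (q : ℕ) (hF : Fintype.card F = q ^ 2) (H : Subgroup (Matrix.GeneralLinearGroup (Fin 4) F)) (hH : Cfsg.Geo.IsMaximalIn (Cfsg.GU 4 F q ⊓ Cfsg.Geo.specialLinear (Fin 4) F) H) :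
    (∃ W : Submodule F (Fin 4 → F), W ≠ ⊥ ∧ Cfsg.Geo.IsTotallySingularFor (Cfsg.hermForm 4 F q) W ∧ H = Cfsg.Geo.subspaceStabilizer W ⊓ (Cfsg.GU 4 F q ⊓ Cfsg.Geo.specialLinear (Fin 4) F)) ∨
    (∃ W : Submodule F (Fin 4 → F), W ≠ ⊥ ∧ Cfsg.Geo.IsNondegenerateOn (Cfsg.hermForm 4 F q) W ∧ 2 * Module.finrank F W < 4 ∧ H = Cfsg.Geo.subspaceStabilizer W ⊓ (Cfsg.GU 4 F q ⊓ Cfsg.Geo.specialLinear (Fin 4) F)) ∨
    (q ≠ 3 ∧ ∃ D : Fin 4 → Submodule F (Fin 4 → F), Cfsg.Geo.IsNondegenerateMDecomposition (Cfsg.hermForm 4 F q) 1 D ∧ H = Cfsg.Geo.decompositionStabilizer D ⊓ (Cfsg.GU 4 F q ⊓ Cfsg.Geo.specialLinear (Fin 4) F)) ∨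
    (3 ≤ q ∧ ∃ D : Fin 2 → Submodule F (Fin 4 → F), Cfsg.Geo.IsNondegenerateMDecomposition (Cfsg.hermForm 4 F q) 2 D ∧ H = Cfsg.Geo.decompositionStabilizer D ⊓ (Cfsg.GU 4 F q ⊓ Cfsg.Geo.specialLinear (Fin 4) F)) ∨
    (4 ≤ q ∧ ∃ D : Fin 2 → Submodule F (Fin 4 → F), Cfsg.Geo.IsMDecomposition 2 D ∧ (∀ i, Cfsg.Geo.IsTotallySingularFor (Cfsg.hermForm 4 F q) (D i)) ∧ H = Cfsg.Geo.decompositionStabilizer D ⊓ (Cfsg.GU 4 F q ⊓ Cfsg.Geo.specialLinear (Fin 4) F)) ∨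
    (∃ (F₀ : Subfield F) (r : ℕ) (P : Matrix.GeneralLinearGroup (Fin 4) F), r.Prime ∧ Odd r ∧ Fintype.card F = Nat.card F₀ ^ r ∧ Cfsg.Geo.IsFormRationalStructure (Cfsg.hermForm 4 F q) F₀ 1 P ∧ H = Cfsg.Geo.subfieldSubgroup F₀ P ⊓ (Cfsg.GU 4 F q ⊓ Cfsg.Geo.specialLinear (Fin 4) F)) ∨
    (∃ (F₀ : Subfield F) (P : Matrix.GeneralLinearGroup (Fin 4) F) (ζ : F), Fintype.card F = Nat.card F₀ ^ 2 ∧ ζ ≠ 0 ∧ ζ + ζ ^ q = 0 ∧ Cfsg.Geo.IsFormRationalStructure (Cfsg.hermForm 4 F q) F₀ ζ P ∧ (∀ u : Fin 4 → F, (∀ i, u i ∈ F₀) → (Cfsg.hermForm 4 F q) (Matrix.mulVec (P : Matrix (Fin 4) (Fin 4) F) u) (Matrix.mulVec (P : Matrix (Fin 4) (Fin 4) F) u) = 0) ∧ H = Cfsg.Geo.subfieldSubgroup F₀ P ⊓ (Cfsg.GU 4 F q ⊓ Cfsg.Geo.specialLinear (Fin 4) F)) ∨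
    (Odd q ∧ ∃ (F₀ : Subfield F) (P : Matrix.GeneralLinearGroup (Fin 4) F), Fintype.card F = Nat.card F₀ ^ 2 ∧ Cfsg.Geo.IsFormRationalStructure (Cfsg.hermForm 4 F q) F₀ 1 P ∧ H = Cfsg.Geo.subfieldSubgroup F₀ P ⊓ (Cfsg.GU 4 F q ⊓ Cfsg.Geo.specialLinear (Fin 4) F)) ∨
    (∃ (p : ℕ) (R : Subgroup (Matrix.GeneralLinearGroup (Fin 4) F)), p.Prime ∧ q = p ∧ p % 4 = 3 ∧ Cfsg.Geo.IsSymplecticTypeGroup 2 R ∧ Cfsg.Geo.ActsAbsolutelyIrreducibly (Cfsg.Geo.matrixSet R) ∧ R ≤ Cfsg.Geo.similarityGroup (Cfsg.hermForm 4 F q) ∧ Nat.card R = 64 ∧ Nat.card (Subgroup.center R) = 4 ∧ H = Cfsg.Geo.subgroupNormalizer R ⊓ (Cfsg.GU 4 F q ⊓ Cfsg.Geo.specialLinear (Fin 4) F)) ∨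
    Cfsg.Geo.InUnitaryResidualClass H := by
  classical
  obtain ⟨p₀, b, σ, -, -, -, -, hσ⟩ := Cfsg.Agent.Classical.exists_usigma hF
  have h2q := hσ.two_le
  by_contra hgoal
  have lines : ∀ D : Fin 4 → Submodule F (Fin 4 → F), Cfsg.Geo.IsNondegenerateMDecomposition (Cfsg.hermForm 4 F q) 1 D →
      H = Cfsg.Geo.decompositionStabilizer D ⊓ (Cfsg.GU 4 F q ⊓ Cfsg.Geo.specialLinear (Fin 4) F) → False := fun D hD h => by
    by_cases hq : q = 3
    · subst hq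
      obtain ⟨R, hR, hRa, hsim, hc, hz, hH'⟩ := Cfsg.Agent.Classical.four_frame_normalizer hσ hH hD h
      exact hgoal <| Or.inr (Or.inr (Or.inr (Or.inr (Or.inr (Or.inr (Or.inr (Or.inr (Or.inl
        ⟨3, R, Nat.prime_three, rfl, rfl, hR, hRa, hsim, hc, hz, hH'⟩))))))))
    · exact hgoal <| Or.inr (Or.inr (Or.inl ⟨hq, D, hD, h⟩))
  rcases hσ.u_cases_small (by norm_num) le_rfl (by norm_num) hH with h | h | ⟨t, k, D, ht, hk, htk, hD, h⟩ |
    ⟨k, D, hk, hD, hts, h⟩ | h | ⟨F₀, P, h⟩ | ⟨F₀, P, ζ, -, h⟩ | ⟨r, R, p, k, hR, hRa, hsim, hp, hdata, h⟩ |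
    ⟨r, K, hr, hro, hrn, -⟩ | h
  · exact hgoal <| Or.inl h
  · exact hgoal <| Or.inr (Or.inl h)
  · have hkn : k ≤ 2 := by nlinarith
    have htn : t ≤ 4 := by nlinarith
    interval_cases k <;> interval_cases t <;> simp only [Nat.reduceMul] at htk <;> try omega
    · exact lines D hD h
    · rcases h2q.lt_or_eq with hq | rfl
      · exact hgoal <| Or.inr (Or.inr (Or.inr (Or.inl ⟨hq, D, hD, h⟩)))
      · obtain ⟨D', hD', hst⟩ := Cfsg.Agent.Classical.lines_of_planes hσ hD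
        exact lines D' hD' (Cfsg.Agent.Classical.eq_inf_of_maximal' hH
          (fun g hg => hst g (h ▸ hg : g ∈ Cfsg.Geo.decompositionStabilizer D ⊓ _).1 (hH.1.le hg).1)
          (hσ.not_su_le_decomp_small (by norm_num) (by norm_num) le_rfl hD'.decomp))
  · obtain rfl : k = 2 := by omega
    by_cases hq : 4 ≤ q
    · exact hgoal <| Or.inr (Or.inr (Or.inr (Or.inr (Or.inl ⟨hq, D, hD, hts, h⟩))))
    · exact hgoal <| Or.inr (Or.inr (Or.inr (Or.inr (Or.inr (Or.inr (Or.inl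
        (Cfsg.Agent.Classical.four_pair_subfield hσ (by omega) hH hD hts h)))))))
  · exact hgoal <| Or.inr (Or.inr (Or.inr (Or.inr (Or.inr (Or.inl h)))))
  · exact hgoal <| Or.inr (Or.inr (Or.inr (Or.inr (Or.inr (Or.inr (Or.inr (Or.inl ⟨h.1, F₀, P, h.2⟩)))))))
  · exact hgoal <| Or.inr (Or.inr (Or.inr (Or.inr (Or.inr (Or.inr (Or.inl ⟨F₀, P, ζ, h⟩))))))
  · rcases hdata with ⟨hro, -, -, -, hn, -⟩ | ⟨hr2, hqp, hp4, hz, hc, hn⟩
    · exfalso
      have h2 : 2 ∣ r ^ k := hn ▸ (by norm_num : 2 ∣ 4)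
      have := (Nat.prime_two.eq_one_or_self_of_dvd _ dvd_rfl)
      exact (Nat.not_even_iff_odd.mpr hro) (even_iff_two_dvd.mpr (Nat.prime_two.dvd_of_dvd_pow h2))
    · obtain rfl : k = 2 := Nat.pow_right_injective le_rfl (show 2 ^ k = 2 ^ 2 by rw [← hn])
      subst hr2
      exact hgoal <| Or.inr (Or.inr (Or.inr (Or.inr (Or.inr (Or.inr (Or.inr (Or.inr (Or.inl
        ⟨p, R, hp, hqp, hp4, hR, hRa, hsim, hc, hz, h⟩))))))))
  · exfalso
    have hle := Nat.le_of_dvd (by norm_num) hrn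
    interval_cases r <;> revert hr hro hrn <;> decide
  · exact hgoal <| Or.inr (Or.inr (Or.inr (Or.inr (Or.inr (Or.inr (Or.inr (Or.inr (Or.inr h))))))))

end Cfsg.Agent.S5784
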