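import Cfsg.Statements.S5786
import Cfsg.Agent.Lib.Classical.RadicalForm
import Cfsg.Agent.Lib.Classical.SpOvergroup
import Cfsg.Agent.Lib.Classical.SpDecompMaximal
import Cfsg.Agent.Lib.Classical.SpFourOdd.SkewMax
import Cfsg.Agent.Lib.Classical.SpFourOdd.SelfAdj
import Cfsg.Agent.Lib.Classical.SpFourOdd.Subfield
import Cfsg.Agent.Lib.Classical.SpFourOdd.KleinMax
-- import your own Cfsg.Agent.* helpers here

set_option autoImplicit false
open Cfsg

namespace Cfsg.Agent.S5786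

/-- Maximal subgroups of Sp_4(q) of geometric type, q odd. Let F be a finite field of odd order q, f the standard alternating form on F^4 (coordinates Fin 2 ⊕ Fin 2) and Sp_4(F) its isometry group inside GL_4(F). Each of the following, intersected with Sp_4(F), is a maximal subgroup of Sp_4(F): (1) the stabiliser of any non-zero totally isotropic subspace (totally isotropic 1-spaces and 2-spaces); (2) the stabiliser of any decomposition of F^4 into two mutually orthogonal non-degenerate 2-spaces; (3) for q ≥ 5, the stabiliser of any decomposition of F^4 into two totally isotropic 2-spaces; (4) the normaliser of any degree-2 subfield K of the matrix algebra whose elements are self-adjoint for f with f(k v, v) = 0 for all k in K and all v (f is the trace of an alternating form over K); (5) for q ≥ 5, the normaliser of any degree-2 subfield of the matrix algebra that is closed under adjoints but not self-adjoint (f is the trace of a multiple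 of a unitary form over K); (6) every subfield group for a subfield F₀ with |F| = |F₀|^r, r prime, whose F₀-structure carries a non-zero scalar multiple of f; (7) for q = p prime, the normaliser of any absolutely irreducible 2-group R of symplectic type and exponent 4, of order 32 with centre of order 2 and of minus type, consisting of isometries of f. -/
theorem result {F : Type*} [Field F] [Fintype F] (hodd : Odd (Fintype.card F)) :
    (∀ W : Submodule F (Fin 2 ⊕ Fin 2 → F), W ≠ ⊥ → Cfsg.Geo.IsTotallySingularFor (Cfsg.sympForm 2 F) W → Cfsg.Geo.IsMaximalIn (Cfsg.spGL 2 F) (Cfsg.Geo.subspaceStabilizer W ⊓ Cfsg.spGL 2 F)) ∧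
    (∀ D : Fin 2 → Submodule F (Fin 2 ⊕ Fin 2 → F), Cfsg.Geo.IsNondegenerateMDecomposition (Cfsg.sympForm 2 F) 2 D → Cfsg.Geo.IsMaximalIn (Cfsg.spGL 2 F) (Cfsg.Geo.decompositionStabilizer D ⊓ Cfsg.spGL 2 F)) ∧
    (5 ≤ Fintype.card F → ∀ D : Fin 2 → Submodule F (Fin 2 ⊕ Fin 2 → F), Cfsg.Geo.IsMDecomposition 2 D → (∀ i, Cfsg.Geo.IsTotallySingularFor (Cfsg.sympForm 2 F) (D i)) → Cfsg.Geo.IsMaximalIn (Cfsg.spGL 2 F) (Cfsg.Geo.decompositionStabilizer D ⊓ Cfsg.spGL 2 F)) ∧
    (∀ K : Subalgebra F (Matrix (Fin 2 ⊕ Fin 2) (Fin 2 ⊕ Fin 2) F), Cfsg.Geo.IsFieldSubalgebra 2 K → Cfsg.Geo.IsSelfAdjointFor (Cfsg.sympForm 2 F) K → (∀ k ∈ K, ∀ v : (Fin 2 ⊕ Fin 2 → F), (Cfsg.sympForm 2 F) (Matrix.mulVec k v) v = 0) → Cfsg.Geo.IsMaximalIn (Cfsg.spGL 2 F) (Cfsg.Geo.subalgebraNormalizer K ⊓ Cfsg.spGL 2 F)) ∧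
    (5 ≤ Fintype.card F → ∀ K : Subalgebra F (Matrix (Fin 2 ⊕ Fin 2) (Fin 2 ⊕ Fin 2) F), Cfsg.Geo.IsFieldSubalgebra 2 K → Cfsg.Geo.IsAdjointClosedFor (Cfsg.sympForm 2 F) K → ¬ Cfsg.Geo.IsSelfAdjointFor (Cfsg.sympForm 2 F) K → Cfsg.Geo.IsMaximalIn (Cfsg.spGL 2 F) (Cfsg.Geo.subalgebraNormalizer K ⊓ Cfsg.spGL 2 F)) ∧
    (∀ (F₀ : Subfield F) (r : ℕ) (P : Matrix.GeneralLinearGroup (Fin 2 ⊕ Fin 2) F) (ζ : F), r.Prime → Fintype.card F = Nat.card F₀ ^ r → ζ ≠ 0 → Cfsg.Geo.IsFormRationalStructure (Cfsg.sympForm 2 F) F₀ ζ P → Cfsg.Geo.IsMaximalIn (Cfsg.spGL 2 F) (Cfsg.Geo.subfieldSubgroup F₀ P ⊓ Cfsg.spGL 2 F)) ∧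
    (∀ (p : ℕ) (R : Subgroup (Matrix.GeneralLinearGroup (Fin 2 ⊕ Fin 2) F)), p.Prime → Fintype.card F = p → Cfsg.Geo.IsSymplecticTypeGroup 2 R → Cfsg.Geo.ActsAbsolutelyIrreducibly (Cfsg.Geo.matrixSet R) → R ≤ Cfsg.spGL 2 F → Nat.card R = 32 → Nat.card (Subgroup.center R) = 2 → Cfsg.Geo.IsOfMinusType 2 R → Cfsg.Geo.IsMaximalIn (Cfsg.spGL 2 F) (Cfsg.Geo.subgroupNormalizer R ⊓ Cfsg.spGL 2 F)) := by
  classical
  have h2 : (2 : F) ≠ 0 := Cfsg.Agent.Classical.two_ne_zero_of_odd_card hodd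
  refine ⟨fun W hW0 hW => ?_,
    fun D hD => Cfsg.Agent.Classical.SpDecompMax.isMaximal (by omega) hD (fun h => ?_),
    fun h5 D hD hts => Cfsg.Agent.Classical.SpFourOdd.pair_isMaximal h5 hodd D hD hts,
    fun K hK hsa _ => Cfsg.Agent.Classical.SpFourOdd.symp_isMaximal hodd K hK hsa,
    fun h5 K hK hac hnsa => Cfsg.Agent.Classical.SpFourOdd.unitary_isMaximal h5 hodd K hK hac hnsa,
    fun F₀ r P ζ hr hc hζ hP => Cfsg.Agent.Classical.SpFourOdd.subfield_isMaximal h2 hr hc P hζ hP,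
    fun p R hp hF hR hirr hRD hcard hZ hminus =>
      Cfsg.Agent.Classical.SpFourOdd.Klein.klein_isMaximal hp hodd hF R hR hirr hRD hcard hZ hminus⟩
  · haveI : Nonempty (Fin 2 ⊕ Fin 2) := ⟨Sum.inl 0⟩
    have hs := Cfsg.Agent.Classical.sympForm_isSymplectic (m := 2) (F := F)
    refine Cfsg.Agent.Classical.Radical.isMaximal_form (G := Cfsg.spGL 2 F) (σ := RingEquiv.refl F) (ε := -1)
      (Cfsg.Agent.Classical.reflexForm_of_symplectic hs) (fun g hg x y => hg x y) (fun g _ hg x y => hg x y)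
      (fun v => ⟨0, by rw [mul_zero, map_zero, add_zero, hs.alternating v]⟩)
      ⟨1, one_ne_zero, by simp⟩ (fun K hK => Cfsg.Agent.Classical.SpOver.spGL_le fun v c g hg => ?_) hW0 hW
    by_cases hv0 : v = 0
    · convert one_mem K
      refine Cfsg.Agent.Classical.gl_ext_mulVec fun x => ?_
      rw [hg x, hv0, Units.val_one, Matrix.one_mulVec, smul_zero, add_zero]
    · exact hK v c (hs.alternating v) hv0 (by simp) g hg
  · rw [h.2] at hodd
    exact absurd hodd (by decide)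

end Cfsg.Agent.S5786
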