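import Cfsg.Statements.S5787
import Cfsg.Agent.Lib.Classical.SpFourExceptions

set_option autoImplicit false
open Cfsg Cfsg.Geo

namespace Cfsg.Agent.S5787

/-- Every maximal subgroup of Sp_4(q), q odd, is of one of the listed geometric types or lies in the residual class. Let F be a finite field of odd order q, f the standard alternating form on F^4 (coordinates Fin 2 ⊕ Fin 2), and H a maximal subgroup of the isometry group Sp_4(F) (inside GL_4(F)). Then H is the intersection with Sp_4(F) of one of: the stabiliser of a non-zero totally isotropic subspace; the stabiliser of a decomposition into two orthogonal non-degenerate 2-spaces; for q ≥ 5, of a decomposition into two totally isotropic 2-spaces; the normaliser of a degree-2 subfield K of the matrix algebra, self-adjoint with f(k v, v) = 0; for q ≥ 5, the normaliser of a degree-2 subfield closed under adjoints but not self-adjoint; a subfield group whose F₀-structure carries a non-zero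 multiple of f, |F| = |F₀|^r with r prime; for q = p prime, the normaliser of an absolutely irreducible symplectic-type 2-group of exponent 4, order 32, centre of order 2 and minus type inside the similarity group of f — or else H lies in the residual class of the symplectic case. -/
theorem result {F : Type*} [Field F] [Fintype F] (hodd : Odd (Fintype.card F)) (H : Subgroup (Matrix.GeneralLinearGroup (Fin 2 ⊕ Fin 2) F)) (hH : Cfsg.Geo.IsMaximalIn (Cfsg.spGL 2 F) H) :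
    (∃ W : Submodule F (Fin 2 ⊕ Fin 2 → F), W ≠ ⊥ ∧ Cfsg.Geo.IsTotallySingularFor (Cfsg.sympForm 2 F) W ∧ H = Cfsg.Geo.subspaceStabilizer W ⊓ Cfsg.spGL 2 F) ∨
    (∃ D : Fin 2 → Submodule F (Fin 2 ⊕ Fin 2 → F), Cfsg.Geo.IsNondegenerateMDecomposition (Cfsg.sympForm 2 F) 2 D ∧ H = Cfsg.Geo.decompositionStabilizer D ⊓ Cfsg.spGL 2 F) ∨
    (5 ≤ Fintype.card F ∧ ∃ D : Fin 2 → Submodule F (Fin 2 ⊕ Fin 2 → F), Cfsg.Geo.IsMDecomposition 2 D ∧ (∀ i, Cfsg.Geo.IsTotallySingularFor (Cfsg.sympForm 2 F) (D i)) ∧ H = Cfsg.Geo.decompositionStabilizer D ⊓ Cfsg.spGL 2 F) ∨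
    (∃ K : Subalgebra F (Matrix (Fin 2 ⊕ Fin 2) (Fin 2 ⊕ Fin 2) F), Cfsg.Geo.IsFieldSubalgebra 2 K ∧ Cfsg.Geo.IsSelfAdjointFor (Cfsg.sympForm 2 F) K ∧ (∀ k ∈ K, ∀ v : (Fin 2 ⊕ Fin 2 → F), (Cfsg.sympForm 2 F) (Matrix.mulVec k v) v = 0) ∧ H = Cfsg.Geo.subalgebraNormalizer K ⊓ Cfsg.spGL 2 F) ∨
    (5 ≤ Fintype.card F ∧ ∃ K : Subalgebra F (Matrix (Fin 2 ⊕ Fin 2) (Fin 2 ⊕ Fin 2) F), Cfsg.Geo.IsFieldSubalgebra 2 K ∧ Cfsg.Geo.IsAdjointClosedFor (Cfsg.sympForm 2 F) K ∧ ¬ Cfsg.Geo.IsSelfAdjointFor (Cfsg.sympForm 2 F) K ∧ H = Cfsg.Geo.subalgebraNormalizer K ⊓ Cfsg.spGL 2 F) ∨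
    (∃ (F₀ : Subfield F) (r : ℕ) (P : Matrix.GeneralLinearGroup (Fin 2 ⊕ Fin 2) F) (ζ : F), r.Prime ∧ Fintype.card F = Nat.card F₀ ^ r ∧ ζ ≠ 0 ∧ Cfsg.Geo.IsFormRationalStructure (Cfsg.sympForm 2 F) F₀ ζ P ∧ H = Cfsg.Geo.subfieldSubgroup F₀ P ⊓ Cfsg.spGL 2 F) ∨
    (∃ (p : ℕ) (R : Subgroup (Matrix.GeneralLinearGroup (Fin 2 ⊕ Fin 2) F)), p.Prime ∧ Fintype.card F = p ∧ Cfsg.Geo.IsSymplecticTypeGroup 2 R ∧ Cfsg.Geo.ActsAbsolutelyIrreducibly (Cfsg.Geo.matrixSet R) ∧ R ≤ Cfsg.Geo.similarityGroup (Cfsg.sympForm 2 F) ∧ Nat.card R = 32 ∧ Nat.card (Subgroup.center R) = 2 ∧ Cfsg.Geo.IsOfMinusType 2 R ∧ H = Cfsg.Geo.subgroupNormalizer R ⊓ Cfsg.spGL 2 F) ∨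
    Cfsg.Geo.InSymplecticResidualClass H := by
  classical
  have h2 : (2 : F) ≠ 0 := Cfsg.Agent.Classical.two_ne_zero_of_odd_card hodd
  have hfs := Cfsg.Agent.Classical.sympForm_isSymplectic (m := 2) (F := F)
  haveI : Nonempty (Fin 2 ⊕ Fin 2) := ⟨.inl 0⟩
  have key : ∀ X, H ≤ X → ¬ spGL 2 F ≤ X → H = X ⊓ spGL 2 F := fun X hle hX => Cfsg.Agent.Classical.eq_inf_of_maximalIn hH hle hX
  have hq : Fintype.card F = 3 ∨ 5 ≤ Fintype.card F := by
    have := Fintype.one_lt_card (α := F)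
    obtain ⟨u, hu⟩ := hodd
    omega
  rcases Cfsg.Agent.Classical.sp_structure (by norm_num) hH.1.le with ⟨M, hM, hHM⟩ | hres
  swap
  · exact Or.inr (Or.inr (Or.inr (Or.inr (Or.inr (Or.inr (Or.inr hres))))))
  rcases hM with hM | hM | hM | hM | hM
  · rcases hM with ⟨W, h0, hts, rfl⟩ | ⟨W, h0, hnd, hlt, rfl⟩ | ⟨t, k, D, hD, rfl⟩ | ⟨D, -, hD, hts, rfl⟩ |
      ⟨F₀, r, P, ζ, hr, hc, hζ, hrat, rfl⟩ | ⟨R, p, k, hR, hRa, hsim, hp, -, hcp, hRc, hZ, hmt, rfl⟩ | ⟨Q, hq', -⟩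
    · refine Or.inl ⟨W, h0, hts, key _ (hHM.trans inf_le_left) (Cfsg.Agent.Classical.not_sp_le_subspace h0 fun e => ?_)⟩
      subst e
      obtain ⟨⟨x, hx⟩, -⟩ := hfs.nondegenerate (Pi.single (.inl 0) 1) (by simp)
      exact hx (hts x trivial _ trivial)
    · exfalso
      obtain ⟨j, hj⟩ := Cfsg.Agent.Classical.even_finrank_of_alternating hfs hnd
      have := (Submodule.one_le_finrank_iff (S := W)).mpr h0
      omega
    · have hk : Even k := hD.decomp.finrank_eq ⟨0, by have := hD.decomp.two_le; omega⟩ ▸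
        Cfsg.Agent.Classical.even_finrank_of_alternating hfs (hD.nondegenerate _)
      have hk2 : 2 ≤ k := by obtain ⟨j, rfl⟩ := hk; have := hD.decomp.pos; omega
      have htk : t * k = 4 := (Cfsg.Agent.Classical.IsMDecomposition.card_eq hD.decomp).trans (by simp)
      have ht := hD.decomp.two_le
      obtain ⟨rfl, rfl⟩ : t = 2 ∧ k = 2 := by constructor <;> nlinarith
      exact Or.inr (Or.inl ⟨D, hD, key _ (hHM.trans inf_le_left)
        (Cfsg.Agent.Classical.not_sp_le_decomp (by norm_num) hD.decomp (by norm_num))⟩)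
    · rcases hq with hq | hq
      · obtain ⟨D', hD', hle⟩ := Cfsg.Agent.Classical.SpFour.planes_of_ts_pair hq hD hts
        exact Or.inr (Or.inl ⟨D', hD', key _ (hHM.trans hle)
          (Cfsg.Agent.Classical.not_sp_le_decomp (by norm_num) hD'.decomp (by norm_num))⟩)
      · exact Or.inr (Or.inr (Or.inl ⟨hq, D, hD, hts, key _ (hHM.trans inf_le_left)
          (Cfsg.Agent.Classical.not_sp_le_decomp (by norm_num) hD (by norm_num))⟩))
    · exact Or.inr (Or.inr (Or.inr (Or.inr (Or.inr (Or.inl ⟨F₀, r, P, ζ, hr, hc, hζ, hrat, key _ (hHM.trans inf_le_left)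
        ((Cfsg.Agent.Classical.sp_hasUnipotentFamily (by norm_num)).not_le_subfield hr hc P)⟩)))))
    · have hn := Cfsg.Agent.Classical.card_sq_of_scalar_commutators hRa
        (Cfsg.Agent.Classical.symplecticTypeGroup_comm hR hRa)
      rw [hZ, hRc, show 2 ^ (1 + 2 * k) = (2 ^ k) ^ 2 * 2 by ring] at hn
      have hk4 : 2 ^ k = 4 := by
        have := Nat.pow_left_injective two_ne_zero (Nat.eq_of_mul_eq_mul_right two_pos hn)
        simp at this; exact this.symm
      obtain rfl : k = 2 := Nat.pow_right_injective (le_refl 2) (show 2 ^ k = 2 ^ 2 from hk4)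
      exact Or.inr (Or.inr (Or.inr (Or.inr (Or.inr (Or.inr (Or.inl ⟨p, R, hp, hcp, hR, hRa, hsim, by rw [hRc]; norm_num, hZ, hmt,
        key _ (hHM.trans inf_le_left)
          (Cfsg.Agent.Classical.SpFour.not_sp_le_normalizer h2 hR hRa hsim (by rw [hRc]; norm_num) hZ)⟩))))))
    · exact absurd hodd hq'
  · obtain ⟨r, K, hr, hK, hsa, halt, rfl⟩ := hM
    obtain rfl : r = 2 := by
      have := Cfsg.Agent.Classical.two_mul_dvd_finrank_of_alternating hfs hK hsa halt ⊤ (fun w _ h0 =>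
        ⟨(hfs.nondegenerate w h0).1.imp fun x hx => ⟨trivial, hx⟩, (hfs.nondegenerate w h0).2.imp fun x hx => ⟨trivial, hx⟩⟩)
        fun _ _ _ _ => trivial
      rw [finrank_top, Module.finrank_fintype_fun_eq_card] at this
      simp at this
      have := Nat.le_of_dvd (by norm_num) this
      have := hr.two_le
      omega
    obtain ⟨v, hv⟩ : ∃ v : Fin 2 ⊕ Fin 2 → F, v ≠ 0 := ⟨Pi.single (.inl 0) 1, by simp⟩
    obtain ⟨g, hg, hgm⟩ := Cfsg.Agent.Classical.exists_sp_transvection (m := 2) v 1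
    have hg1 : g ≠ 1 := fun e => by
      obtain ⟨⟨u, hu⟩, -⟩ := hfs.nondegenerate v hv
      have h := hgm u
      rw [e, Units.val_one, Matrix.one_mulVec, eq_comm, add_eq_left, one_mul] at h
      exact hu ((smul_eq_zero.mp h).resolve_right hv)
    exact Or.inr (Or.inr (Or.inr (Or.inl ⟨K, hK, hsa, halt, key _ (hHM.trans inf_le_left) fun h =>
      (Cfsg.Agent.Classical.sp_transvection_fixCodim hgm).not_mem_subalgebraNormalizer hg1 (by simp) (by norm_num) hK (h hg)⟩)))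
  · obtain ⟨K, -, hK, hadj, hns, rfl⟩ := hM
    rcases hq with hq | hq
    · obtain ⟨R, hR, hRa, hsim, hRc, hZ, hmt, hle⟩ :=
        Cfsg.Agent.Classical.SpFour.normalizer_of_field_three hq hK hadj hns
      exact Or.inr (Or.inr (Or.inr (Or.inr (Or.inr (Or.inr (Or.inl ⟨3, R, Nat.prime_three, hq, hR, hRa, hsim, hRc, hZ, hmt,
        key _ (hHM.trans hle) (Cfsg.Agent.Classical.SpFour.not_sp_le_normalizer h2 hR hRa hsim hRc hZ)⟩))))))
    · obtain ⟨v, hv⟩ : ∃ v : Fin 2 ⊕ Fin 2 → F, v ≠ 0 := ⟨Pi.single (.inl 0) 1, by simp⟩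
      obtain ⟨g, hg, hgm⟩ := Cfsg.Agent.Classical.exists_sp_transvection (m := 2) v 1
      have hg1 : g ≠ 1 := fun e => by
        obtain ⟨⟨u, hu⟩, -⟩ := hfs.nondegenerate v hv
        have h := hgm u
        rw [e, Units.val_one, Matrix.one_mulVec, eq_comm, add_eq_left, one_mul] at h
        exact hu ((smul_eq_zero.mp h).resolve_right hv)
      exact Or.inr (Or.inr (Or.inr (Or.inr (Or.inl ⟨hq, K, hK, hadj, hns, key _ (hHM.trans inf_le_left) fun h =>
        (Cfsg.Agent.Classical.sp_transvection_fixCodim hgm).not_mem_subalgebraNormalizer hg1 (by simp) (by norm_num) hK (h hg)⟩))))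
  · obtain ⟨n₁, n₂, e, P, f₁, f₂, -, h3, hf₁, hf₂, -⟩ := hM
    exfalso
    have hc : 4 = n₁ * n₂ := by simpa using Fintype.card_congr e
    obtain ⟨j, hj⟩ : Even n₁ := by simpa using Cfsg.Agent.Classical.even_card_of_symplectic hf₁
    have : 0 < j := by
      rcases Nat.eq_zero_or_pos j with rfl | h
      · subst hj; simp at hc
      · exact h
    nlinarith
  · obtain ⟨k, t, e, P, f₁, -, -, ht, -, hf₁, -⟩ := hM
    exfalso
    have hc : 4 = k ^ t := by simpa using Fintype.card_congr e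
    have hk : 2 ≤ k := by
      by_contra hk
      interval_cases k
      · rw [zero_pow (by omega)] at hc; omega
      · rw [one_pow] at hc; omega
    have : 2 ^ 3 ≤ k ^ t := (Nat.pow_le_pow_left hk 3).trans (Nat.pow_le_pow_right (by omega) ht)
    omega

end Cfsg.Agent.S5787
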