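import Cfsg.Statements.S5789
import Cfsg.Agent.Lib.Classical.RadicalForm
import Cfsg.Agent.Lib.Classical.SpOvergroup
import Cfsg.Agent.Lib.Classical.SpDecompMaximal
import Cfsg.Agent.Lib.Classical.SpFour.Field
import Cfsg.Agent.Lib.Classical.SpFour.Subfield
-- import your own Cfsg.Agent.* helpers here

set_option autoImplicit false
open Cfsg

namespace Cfsg.Agent.S5789

/-- Maximal subgroups of Sp_4(q) of geometric type, q ≥ 4 even. Let F be a finite field of even order q ≥ 4, f the standard alternating form on F^4 (coordinates Fin 2 ⊕ Fin 2) and Sp_4(F) its isometry group inside GL_4(F). Each of the following, intersected with Sp_4(F), is a maximal subgroup of Sp_4(F): (1) the stabiliser of any non-zero totally isotropic subspace (totally isotropic 1-spaces and 2-spaces); (2) the stabiliser of any decomposition of F^4 into two mutually orthogonal non-degenerate 2-spaces; (3) the normaliser of any degree-2 subfield K of the matrix algebra whose elements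 are self-adjoint for f with f(k v, v) = 0 for all k in K and all v; (4) every subfield group for a subfield F₀ with |F| = |F₀|^r, r prime, whose F₀-structure carries a non-zero scalar multiple of f; (5) the similarity group of any non-degenerate quadratic form whose polar form is f (either Witt type); its intersection with Sp_4(F) is the orthogonal group of that form. -/
theorem result {F : Type*} [Field F] [Fintype F] (heven : ¬ Odd (Fintype.card F)) (h4 : 4 ≤ Fintype.card F) :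
    (∀ W : Submodule F (Fin 2 ⊕ Fin 2 → F), W ≠ ⊥ → Cfsg.Geo.IsTotallySingularFor (Cfsg.sympForm 2 F) W → Cfsg.Geo.IsMaximalIn (Cfsg.spGL 2 F) (Cfsg.Geo.subspaceStabilizer W ⊓ Cfsg.spGL 2 F)) ∧
    (∀ D : Fin 2 → Submodule F (Fin 2 ⊕ Fin 2 → F), Cfsg.Geo.IsNondegenerateMDecomposition (Cfsg.sympForm 2 F) 2 D → Cfsg.Geo.IsMaximalIn (Cfsg.spGL 2 F) (Cfsg.Geo.decompositionStabilizer D ⊓ Cfsg.spGL 2 F)) ∧
    (∀ K : Subalgebra F (Matrix (Fin 2 ⊕ Fin 2) (Fin 2 ⊕ Fin 2) F), Cfsg.Geo.IsFieldSubalgebra 2 K → Cfsg.Geo.IsSelfAdjointFor (Cfsg.sympForm 2 F) K → (∀ k ∈ K, ∀ v : (Fin 2 ⊕ Fin 2 → F), (Cfsg.sympForm 2 F) (Matrix.mulVec k v) v = 0) → Cfsg.Geo.IsMaximalIn (Cfsg.spGL 2 F) (Cfsg.Geo.subalgebraNormalizer K ⊓ Cfsg.spGL 2 F)) ∧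
    (∀ (F₀ : Subfield F) (r : ℕ) (P : Matrix.GeneralLinearGroup (Fin 2 ⊕ Fin 2) F) (ζ : F), r.Prime → Fintype.card F = Nat.card F₀ ^ r → ζ ≠ 0 → Cfsg.Geo.IsFormRationalStructure (Cfsg.sympForm 2 F) F₀ ζ P → Cfsg.Geo.IsMaximalIn (Cfsg.spGL 2 F) (Cfsg.Geo.subfieldSubgroup F₀ P ⊓ Cfsg.spGL 2 F)) ∧
    (∀ Q : (Fin 2 ⊕ Fin 2 → F) → F, Cfsg.Geo.IsNondegenerateQuadraticForm Q → (∀ u v : (Fin 2 ⊕ Fin 2 → F), QuadraticMap.polar Q u v = (Cfsg.sympForm 2 F) u v) → Cfsg.Geo.IsMaximalIn (Cfsg.spGL 2 F) (Cfsg.Geo.quadSimilarityGroup Q ⊓ Cfsg.spGL 2 F)) := by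
  classical
  have h2 : (2 : F) = 0 := by
    by_contra h
    exact heven ((Nat.odd_iff).mpr (FiniteField.odd_card_of_char_ne_two fun hc => h (by
      haveI := ringChar.of_eq hc
      exact CharTwo.two_eq_zero)))
  refine ⟨fun W hW0 hW => ?_, fun D hD => ?_, fun K hK hsa halt => ?_,
    fun F₀ r P ζ hr hc hζ hP => Cfsg.Agent.Classical.SpFour.subfield_isMaximal h2 hr hc P hζ hP, fun Q hQ hpol => ?_⟩
  · haveI : Nonempty (Fin 2 ⊕ Fin 2) := ⟨Sum.inl 0⟩
    have hs := Cfsg.Agent.Classical.sympForm_isSymplectic (m := 2) (F := F)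
    refine Cfsg.Agent.Classical.Radical.isMaximal_form (G := Cfsg.spGL 2 F) (σ := RingEquiv.refl F) (ε := -1)
      (Cfsg.Agent.Classical.reflexForm_of_symplectic hs) (fun g hg x y => hg x y) (fun g _ hg x y => hg x y)
      (fun v => ⟨0, by rw [mul_zero, map_zero, add_zero, hs.alternating v]⟩)
      ⟨1, one_ne_zero, by simp⟩ (fun K hK => Cfsg.Agent.Classical.SpOver.spGL_le fun v c g hg => ?_) hW0 hW
    by_cases hv0 : v = 0
    · convert one_mem K
      refine Cfsg.Agent.Classical.gl_ext_mulVec fun x => ?_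
      rw [hg x, hv0, Units.val_one, Matrix.one_mulVec, smul_zero, add_zero]
    · exact hK v c (hs.alternating v) hv0 (by simp) g hg
  · exact Cfsg.Agent.Classical.SpDecompMax.isMaximal (by omega) hD (fun h => by omega)
  · exact Cfsg.Agent.Classical.SpFour.extension_normalizer_maximal h2 2 rfl K hK hsa halt
  · obtain ⟨Qf, rfl, hQf⟩ := Cfsg.Agent.Classical.ONotMax.exists_qform hQ
    exact Cfsg.Agent.Classical.SpOver.orth_maximal le_rfl h2 hQf hQ hpol

end Cfsg.Agent.S5789
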