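import Cfsg.Statements.S5790
import Cfsg.Agent.Lib.Classical.FormSpMaximal

set_option autoImplicit false
open Cfsg Cfsg.Geo

namespace Cfsg.Agent.S5790

/-- Every maximal subgroup of Sp_4(q), q ≥ 4 even, is of one of the listed geometric types or lies in the residual class. Let F be a finite field of even order q ≥ 4, f the standard alternating form on F^4 (coordinates Fin 2 ⊕ Fin 2), and H a maximal subgroup of Sp_4(F) (inside GL_4(F)). Then H is the intersection with Sp_4(F) of one of: the stabiliser of a non-zero totally isotropic subspace; the stabiliser of a decomposition into two orthogonal non-degenerate 2-spaces; the normaliser of a degree-2 subfield K of the matrix algebra, self-adjoint with f(k v, v) = 0; a subfield group whose F₀-structure carries a non-zero multiple of f, |F| = |F₀|^r with r prime; the similarity group of a non-degenerate quadratic form whose polar form is f — or else H lies in the residual class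 of the symplectic case. -/
theorem result {F : Type*} [Field F] [Fintype F] (heven : ¬ Odd (Fintype.card F)) (h4 : 4 ≤ Fintype.card F) (H : Subgroup (Matrix.GeneralLinearGroup (Fin 2 ⊕ Fin 2) F)) (hH : Cfsg.Geo.IsMaximalIn (Cfsg.spGL 2 F) H) :
    (∃ W : Submodule F (Fin 2 ⊕ Fin 2 → F), W ≠ ⊥ ∧ Cfsg.Geo.IsTotallySingularFor (Cfsg.sympForm 2 F) W ∧ H = Cfsg.Geo.subspaceStabilizer W ⊓ Cfsg.spGL 2 F) ∨
    (∃ D : Fin 2 → Submodule F (Fin 2 ⊕ Fin 2 → F), Cfsg.Geo.IsNondegenerateMDecomposition (Cfsg.sympForm 2 F) 2 D ∧ H = Cfsg.Geo.decompositionStabilizer D ⊓ Cfsg.spGL 2 F) ∨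
    (∃ K : Subalgebra F (Matrix (Fin 2 ⊕ Fin 2) (Fin 2 ⊕ Fin 2) F), Cfsg.Geo.IsFieldSubalgebra 2 K ∧ Cfsg.Geo.IsSelfAdjointFor (Cfsg.sympForm 2 F) K ∧ (∀ k ∈ K, ∀ v : (Fin 2 ⊕ Fin 2 → F), (Cfsg.sympForm 2 F) (Matrix.mulVec k v) v = 0) ∧ H = Cfsg.Geo.subalgebraNormalizer K ⊓ Cfsg.spGL 2 F) ∨
    (∃ (F₀ : Subfield F) (r : ℕ) (P : Matrix.GeneralLinearGroup (Fin 2 ⊕ Fin 2) F) (ζ : F), r.Prime ∧ Fintype.card F = Nat.card F₀ ^ r ∧ ζ ≠ 0 ∧ Cfsg.Geo.IsFormRationalStructure (Cfsg.sympForm 2 F) F₀ ζ P ∧ H = Cfsg.Geo.subfieldSubgroup F₀ P ⊓ Cfsg.spGL 2 F) ∨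
    (∃ Q : (Fin 2 ⊕ Fin 2 → F) → F, Cfsg.Geo.IsNondegenerateQuadraticForm Q ∧ (∀ u v : (Fin 2 ⊕ Fin 2 → F), QuadraticMap.polar Q u v = (Cfsg.sympForm 2 F) u v) ∧ H = Cfsg.Geo.quadSimilarityGroup Q ⊓ Cfsg.spGL 2 F) ∨
    Cfsg.Geo.InSymplecticResidualClass H := by
  classical
  have h2 : (2 : F) = 0 := by
    by_contra h
    exact heven (Cfsg.Agent.Classical.odd_card_of_two_ne_zero h)
  have hfs := Cfsg.Agent.Classical.sympForm_isSymplectic (m := 2) (F := F)
  haveI : Nonempty (Fin 2 ⊕ Fin 2) := ⟨.inl 0⟩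
  have key : ∀ X, H ≤ X → ¬ spGL 2 F ≤ X → H = X ⊓ spGL 2 F := fun X hle hX => Cfsg.Agent.Classical.eq_inf_of_maximalIn hH hle hX
  rcases Cfsg.Agent.Classical.sp_structure (by norm_num) hH.1.le with ⟨M, hM, hHM⟩ | hres
  swap
  · exact Or.inr (Or.inr (Or.inr (Or.inr (Or.inr hres))))
  rcases hM with hM | hM | hM | hM | hM
  · rcases hM with ⟨W, h0, hts, rfl⟩ | ⟨W, h0, hnd, hlt, rfl⟩ | ⟨t, k, D, hD, rfl⟩ | ⟨D, hq, -⟩ |
      ⟨F₀, r, P, ζ, hr, hc, hζ, hrat, rfl⟩ | ⟨R, p, k, -, -, -, hp, hpo, hcp, -⟩ | ⟨Q, hq, hQ, hpol, rfl⟩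
    · refine Or.inl ⟨W, h0, hts, key _ (hHM.trans inf_le_left) (Cfsg.Agent.Classical.not_sp_le_subspace h0 fun e => ?_)⟩
      subst e
      obtain ⟨⟨x, hx⟩, -⟩ := hfs.nondegenerate (Pi.single (.inl 0) 1) (by simp)
      exact hx (hts x trivial _ trivial)
    · exfalso
      obtain ⟨j, hj⟩ := Cfsg.Agent.Classical.even_finrank_of_alternating hfs hnd
      have := (Submodule.one_le_finrank_iff (S := W)).mpr h0
      omega
    · have hk : Even k := hD.decomp.finrank_eq ⟨0, by have := hD.decomp.two_le; omega⟩ ▸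
        Cfsg.Agent.Classical.even_finrank_of_alternating hfs (hD.nondegenerate _)
      have hk2 : 2 ≤ k := by obtain ⟨j, rfl⟩ := hk; have := hD.decomp.pos; omega
      have htk : t * k = 4 := (Cfsg.Agent.Classical.IsMDecomposition.card_eq hD.decomp).trans (by simp)
      have ht := hD.decomp.two_le
      obtain ⟨rfl, rfl⟩ : t = 2 ∧ k = 2 := by constructor <;> nlinarith
      exact Or.inr (Or.inl ⟨D, hD, key _ (hHM.trans inf_le_left)
        (Cfsg.Agent.Classical.not_sp_le_decomp (by norm_num) hD.decomp (by norm_num))⟩)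
    · exact absurd hq heven
    · exact Or.inr (Or.inr (Or.inr (Or.inl ⟨F₀, r, P, ζ, hr, hc, hζ, hrat, key _ (hHM.trans inf_le_left)
        ((Cfsg.Agent.Classical.sp_hasUnipotentFamily (by norm_num)).not_le_subfield hr hc P)⟩)))
    · exact absurd (hcp ▸ hpo) heven
    · exact Or.inr (Or.inr (Or.inr (Or.inr (Or.inl ⟨Q, hQ, hpol, key _ (hHM.trans inf_le_left)
        (Cfsg.Agent.Classical.not_sp_le_quad le_rfl h2 hQ hpol)⟩))))
  · obtain ⟨r, K, hr, hK, hsa, halt, rfl⟩ := hM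
    obtain rfl : r = 2 := by
      have := Cfsg.Agent.Classical.two_mul_dvd_finrank_of_alternating hfs hK hsa halt ⊤ (fun w _ h0 =>
        ⟨(hfs.nondegenerate w h0).1.imp fun x hx => ⟨trivial, hx⟩, (hfs.nondegenerate w h0).2.imp fun x hx => ⟨trivial, hx⟩⟩)
        fun _ _ _ _ => trivial
      rw [finrank_top, Module.finrank_fintype_fun_eq_card] at this
      simp at this
      have := Nat.le_of_dvd (by norm_num) this
      have := hr.two_le
      omega
    obtain ⟨v, hv⟩ : ∃ v : Fin 2 ⊕ Fin 2 → F, v ≠ 0 := ⟨Pi.single (.inl 0) 1, by simp⟩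
    obtain ⟨g, hg, hgm⟩ := Cfsg.Agent.Classical.exists_sp_transvection (m := 2) v 1
    have hg1 : g ≠ 1 := fun e => by
      obtain ⟨⟨u, hu⟩, -⟩ := hfs.nondegenerate v hv
      have h := hgm u
      rw [e, Units.val_one, Matrix.one_mulVec, eq_comm, add_eq_left, one_mul] at h
      exact hu ((smul_eq_zero.mp h).resolve_right hv)
    exact Or.inr (Or.inr (Or.inl ⟨K, hK, hsa, halt, key _ (hHM.trans inf_le_left) fun h =>
      (Cfsg.Agent.Classical.sp_transvection_fixCodim hgm).not_mem_subalgebraNormalizer hg1 (by simp) (by norm_num) hK (h hg)⟩))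
  · obtain ⟨K, hq, -⟩ := hM
    exact absurd hq heven
  · obtain ⟨n₁, n₂, e, P, f₁, f₂, hq, -⟩ := hM
    exact absurd hq heven
  · obtain ⟨k, t, e, P, f₁, hq, -⟩ := hM
    exact absurd hq heven

end Cfsg.Agent.S5790
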