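import Cfsg.Statements.S5791
import Cfsg.Agent.Lib.Classical.SpFourEven.Transfer
import Cfsg.Agent.Lib.Classical.SpFourEven.CitMain
import Cfsg.Agent.Lib.Classical.SpFourEven.AltSix
import Cfsg.Agent.S0205

set_option autoImplicit false
open Cfsg

namespace Cfsg.Agent.S5791

/-- The maximal subgroups of Sp_4(q), q ≥ 4 even, in the residual class. Let F be a finite field of even order q ≥ 4 and H a maximal subgroup of Sp_4(F) (isometries of the standard alternating form on F^4) lying in the residual class of the symplectic case. Then q = 2^(2m+1) with m ≥ 1 and the perfect socle preimage P of H is, modulo scalars, isomorphic to the Suzuki group over F (the subgroup Sz(F, θ) of the four-dimensional symplectic group with θ(x) = x^(2^(m+1))). -/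
theorem result {F : Type*} [Field F] [Fintype F] (heven : ¬ Odd (Fintype.card F)) (h4 : 4 ≤ Fintype.card F) (H : Subgroup (Matrix.GeneralLinearGroup (Fin 2 ⊕ Fin 2) F)) (hH : Cfsg.Geo.IsMaximalIn (Cfsg.spGL 2 F) H) (hS : Cfsg.Geo.InSymplecticResidualClass H) :
    ∃ (P : Subgroup (Matrix.GeneralLinearGroup (Fin 2 ⊕ Fin 2) F)) (m : ℕ), Cfsg.Geo.IsResidualCore H P ∧ 1 ≤ m ∧ Fintype.card F = 2 ^ (2 * m + 1) ∧
    Nonempty ((P ⧸ (Cfsg.Geo.scalars (Fin 2 ⊕ Fin 2) F).subgroupOf P) ≃* Cfsg.Lie.Sz F (2 ^ (m + 1))) := by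
  classical
  obtain ⟨P, hP, hQ, -⟩ := hS
  have h2 : (2 : F) = 0 := by
    by_contra hne
    refine heven (Nat.odd_iff.2 (FiniteField.odd_card_of_char_ne_two fun hc => hne ?_))
    haveI := ringChar.of_eq hc
    exact CharTwo.two_eq_zero
  have hle : P ≤ Cfsg.spGL 2 F := hP.le.trans hH.1.le
  have hsc : (Cfsg.Geo.scalars (Fin 2 ⊕ Fin 2) F).subgroupOf P = ⊥ := by
    rw [eq_bot_iff]
    intro g hg
    obtain ⟨c, hc⟩ := (Cfsg.Geo.mem_scalars_iff _).1 (Subgroup.mem_subgroupOf.1 hg)
    have e := hle g.2 (Pi.single (Sum.inr 0) 1) (Pi.single (Sum.inl 0) 1)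
    simp [Cfsg.glToMat, hc, Cfsg.sympForm, Matrix.J, Matrix.mulVec, dotProduct, Matrix.one_apply] at e
    have hc1 : (c : F) = 1 := sub_eq_zero.1 (mul_self_eq_zero.1 (by
      linear_combination e + (1 - (c : F)) * h2))
    exact Subgroup.mem_bot.2 (Subtype.ext (Units.ext (by rw [hc, hc1, one_smul]; rfl)))
  let q : P ⧸ (Cfsg.Geo.scalars (Fin 2 ⊕ Fin 2) F).subgroupOf P ≃* P :=
    (QuotientGroup.quotientMulEquivOfEq hsc).trans QuotientGroup.quotientBot
  haveI := hP.simple
  haveI : IsSimpleGroup P := q.symm.isSimpleGroup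
  have hnc : ∃ a b : P, a * b ≠ b * a := by
    by_contra hcon
    push Not at hcon
    exact hP.nonabelian ⟨⟨fun a b => q.injective (by rw [map_mul, map_mul, hcon])⟩⟩
  have h : SpFourEven.Ctx (SpFourEven.std F) P := by
    refine ⟨rfl, h2, fun v => ?_, fun v hv => ?_, SpFourEven.pres_of_le hle, inferInstance, ?_, hP.absIrred.1⟩
    · simp [SpFourEven.std_apply, Cfsg.sympForm, Matrix.J, Matrix.mulVec, dotProduct, Matrix.one_apply,
        Fintype.sum_sum_type, Fin.sum_univ_two]
      ring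
    · funext i
      rcases i with i | i
      · have e := hv (Pi.single (Sum.inr i) 1)
        simp [SpFourEven.std_apply, Cfsg.sympForm, Matrix.J, Matrix.mulVec, dotProduct, Matrix.one_apply,
          Pi.single_apply] at e
        simpa using e
      · have e := hv (Pi.single (Sum.inl i) 1)
        simp [SpFourEven.std_apply, Cfsg.sympForm, Matrix.J, Matrix.mulVec, dotProduct, Matrix.one_apply,
          Pi.single_apply] at e
        simpa using e
    · obtain ⟨a, b, hab⟩ := hnc
      exact ⟨a, a.2, b, b.2, fun e => hab (Subtype.ext e)⟩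
  have hlt : Nat.card P < Nat.card (Cfsg.spGL 2 F) :=
    (Subgroup.card_le_of_le hP.le).trans_lt (Set.ncard_lt_ncard hH.1 (Set.toFinite _))
  have hc := SpFourEven.all_nonAlt h4 h hP.absIrred hP.no_subfield hlt
  have heP : 2 ∣ Nat.card P := by
    by_contra hodd
    haveI := Cfsg.Agent.S0205.result (G := P) (Nat.odd_iff.2 (by omega))
    obtain ⟨a, b, hab⟩ := hnc
    exact hab ((IsSimpleGroup.comm_iff_isSolvable.2 inferInstance) a b)
  rcases h.cit_outcome hP.absIrred hQ hP.no_subfield hc heP with ⟨m, hm, hF, ⟨e⟩⟩ | ⟨⟨e⟩⟩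
  · exact ⟨P, m, hP, hm, hF, ⟨q.trans e⟩⟩
  · exact (h.false_of_alt_six hP.absIrred hP.no_subfield h4 e).elim

end Cfsg.Agent.S5791
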