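import Cfsg.Statements.S5822
import Cfsg.Agent.Lib.Classical.SpLists
import Cfsg.Agent.Lib.Classical.Frame.Bil.MaximalSp
import Cfsg.Agent.Lib.Classical.STPow.Final

set_option autoImplicit false
open Cfsg

namespace Cfsg.Agent.S5822

theorem aniso_of_not_plus {F : Type*} [Field F] (f : (Fin 4 → F) → (Fin 4 → F) → F)
    (h : ¬ Cfsg.Geo.IsPlusTypeOn (fun v : Fin 4 → F => f v v) ⊤) :
    Cfsg.Agent.Classical.TensorMax.SpO.Aniso f := by
  intro U hU
  by_contra hd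
  obtain ⟨b, hb⟩ := exists_linearIndependent_of_le_finrank (R := F) (M := U) (n := 2) (by omega)
  refine h ⟨Submodule.span F (Set.range fun i => (b i : Fin 4 → F)), le_top, fun w hw => hU w ?_ w ?_, ?_⟩
  · exact Submodule.span_le.mpr (by rintro _ ⟨i, rfl⟩; exact (b i).2) hw
  · exact Submodule.span_le.mpr (by rintro _ ⟨i, rfl⟩; exact (b i).2) hw
  · have hb' : LinearIndependent F fun i => (b i : Fin 4 → F) := hb.map' U.subtype (Submodule.ker_subtype U)
    rw [finrank_span_eq_card hb', finrank_top, Module.finrank_fintype_fun_eq_card, Fintype.card_fin,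
      Fintype.card_fin]

/-- Maximal subgroups of Sp_8(q) of geometric type (any q). Let F be a finite field with q elements, f the standard alternating form on F^8 (coordinates Fin 4 ⊕ Fin 4) and Sp_8(F) its isometry group inside GL_8(F). Each of the following, intersected with Sp_8(F), is a maximal subgroup of Sp_8(F): (1) the stabiliser of any non-zero totally isotropic subspace (dimensions 1 to 4); (2) the stabiliser of any non-degenerate 2-space; (3) for q ≥ 3, the stabiliser of any decomposition of F^8 into four mutually orthogonal non-degenerate 2-spaces; (4) the stabiliser of any decomposition into two mutually orthogonal non-degenerate 4-spaces; (5) for q odd, the stabiliser of any decomposition into two totally isotropic 4-spaces; (6) the normaliser of any degree-2 subfield K of the matrix algebra whose elements are self-adjoint for f with f(k v, v) = 0; (7) for q odd, the normaliser of any degree-2 subfield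 of the matrix algebra closed under adjoints but not self-adjoint; (8) for q odd, the stabiliser of any tensor decomposition of f as (alternating form on F^2) ⊗ (non-degenerate symmetric bilinear form on F^4 of minus type, i.e. whose quadratic form v ↦ f₂(v, v) vanishes on no 2-space) up to a scalar; (9) every subfield group for a subfield F₀ with |F| = |F₀|^r, r prime, whose F₀-structure carries a non-zero scalar multiple of f; (10) for q = p an odd prime, the normaliser of any absolutely irreducible 2-group R of symplectic type and exponent 4, of order 2^7 with centre of order 2 and of minus type, consisting of isometries of f; (11) for q odd with q ≥ 5, the stabiliser of any decomposition of f as the third tensor power of an alternating form on F^2 up to a scalar (tensor-wreath subgroup); (12) for q even, the similarity group of any non-degenerate quadratic form whose polar form is f (either Witt type); its intersection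 with Sp_8(F) is the orthogonal group of that form. -/
theorem result {F : Type*} [Field F] [Fintype F] :
    (∀ W : Submodule F (Fin 4 ⊕ Fin 4 → F), W ≠ ⊥ → Cfsg.Geo.IsTotallySingularFor (Cfsg.sympForm 4 F) W → Cfsg.Geo.IsMaximalIn (Cfsg.spGL 4 F) (Cfsg.Geo.subspaceStabilizer W ⊓ Cfsg.spGL 4 F)) ∧
    (∀ W : Submodule F (Fin 4 ⊕ Fin 4 → F), W ≠ ⊥ → Cfsg.Geo.IsNondegenerateOn (Cfsg.sympForm 4 F) W → Module.finrank F W < 4 → Cfsg.Geo.IsMaximalIn (Cfsg.spGL 4 F) (Cfsg.Geo.subspaceStabilizer W ⊓ Cfsg.spGL 4 F)) ∧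
    (3 ≤ Fintype.card F → ∀ D : Fin 4 → Submodule F (Fin 4 ⊕ Fin 4 → F), Cfsg.Geo.IsNondegenerateMDecomposition (Cfsg.sympForm 4 F) 2 D → Cfsg.Geo.IsMaximalIn (Cfsg.spGL 4 F) (Cfsg.Geo.decompositionStabilizer D ⊓ Cfsg.spGL 4 F)) ∧
    (∀ D : Fin 2 → Submodule F (Fin 4 ⊕ Fin 4 → F), Cfsg.Geo.IsNondegenerateMDecomposition (Cfsg.sympForm 4 F) 4 D → Cfsg.Geo.IsMaximalIn (Cfsg.spGL 4 F) (Cfsg.Geo.decompositionStabilizer D ⊓ Cfsg.spGL 4 F)) ∧
    (Odd (Fintype.card F) → ∀ D : Fin 2 → Submodule F (Fin 4 ⊕ Fin 4 → F), Cfsg.Geo.IsMDecomposition 4 D → (∀ i, Cfsg.Geo.IsTotallySingularFor (Cfsg.sympForm 4 F) (D i)) → Cfsg.Geo.IsMaximalIn (Cfsg.spGL 4 F) (Cfsg.Geo.decompositionStabilizer D ⊓ Cfsg.spGL 4 F)) ∧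
    (∀ K : Subalgebra F (Matrix (Fin 4 ⊕ Fin 4) (Fin 4 ⊕ Fin 4) F), Cfsg.Geo.IsFieldSubalgebra 2 K → Cfsg.Geo.IsSelfAdjointFor (Cfsg.sympForm 4 F) K → (∀ k ∈ K, ∀ v : (Fin 4 ⊕ Fin 4 → F), (Cfsg.sympForm 4 F) (Matrix.mulVec k v) v = 0) → Cfsg.Geo.IsMaximalIn (Cfsg.spGL 4 F) (Cfsg.Geo.subalgebraNormalizer K ⊓ Cfsg.spGL 4 F)) ∧
    (Odd (Fintype.card F) → ∀ K : Subalgebra F (Matrix (Fin 4 ⊕ Fin 4) (Fin 4 ⊕ Fin 4) F), Cfsg.Geo.IsFieldSubalgebra 2 K → Cfsg.Geo.IsAdjointClosedFor (Cfsg.sympForm 4 F) K → ¬ Cfsg.Geo.IsSelfAdjointFor (Cfsg.sympForm 4 F) K → Cfsg.Geo.IsMaximalIn (Cfsg.spGL 4 F) (Cfsg.Geo.subalgebraNormalizer K ⊓ Cfsg.spGL 4 F)) ∧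
    (Odd (Fintype.card F) → ∀ (e : (Fin 4 ⊕ Fin 4) ≃ Fin 2 × Fin 4) (P : Matrix.GeneralLinearGroup (Fin 4 ⊕ Fin 4) F) (f₁ : (Fin 2 → F) → (Fin 2 → F) → F) (f₂ : (Fin 4 → F) → (Fin 4 → F) → F), Cfsg.Geo.IsSymplecticForm f₁ → Cfsg.Geo.IsSymmetricForm f₂ → ¬ Cfsg.Geo.IsPlusTypeOn (fun v : Fin 4 → F => f₂ v v) ⊤ → Cfsg.Geo.IsTensorFormStructure id (Cfsg.sympForm 4 F) f₁ f₂ e P → Cfsg.Geo.IsMaximalIn (Cfsg.spGL 4 F) (Cfsg.Geo.tensorProductSubgroup 2 4 e P ⊓ Cfsg.spGL 4 F)) ∧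
    (∀ (F₀ : Subfield F) (r : ℕ) (P : Matrix.GeneralLinearGroup (Fin 4 ⊕ Fin 4) F) (ζ : F), r.Prime → Fintype.card F = Nat.card F₀ ^ r → ζ ≠ 0 → Cfsg.Geo.IsFormRationalStructure (Cfsg.sympForm 4 F) F₀ ζ P → Cfsg.Geo.IsMaximalIn (Cfsg.spGL 4 F) (Cfsg.Geo.subfieldSubgroup F₀ P ⊓ Cfsg.spGL 4 F)) ∧
    (∀ (p : ℕ) (R : Subgroup (Matrix.GeneralLinearGroup (Fin 4 ⊕ Fin 4) F)), p.Prime → Odd p → Fintype.card F = p → Cfsg.Geo.IsSymplecticTypeGroup 2 R → Cfsg.Geo.ActsAbsolutelyIrreducibly (Cfsg.Geo.matrixSet R) → R ≤ Cfsg.spGL 4 F → Nat.card R = 128 → Nat.card (Subgroup.center R) = 2 → Cfsg.Geo.IsOfMinusType 3 R → Cfsg.Geo.IsMaximalIn (Cfsg.spGL 4 F) (Cfsg.Geo.subgroupNormalizer R ⊓ Cfsg.spGL 4 F)) ∧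
    (Odd (Fintype.card F) → 5 ≤ Fintype.card F → ∀ (e : (Fin 4 ⊕ Fin 4) ≃ (Fin 3 → Fin 2)) (P : Matrix.GeneralLinearGroup (Fin 4 ⊕ Fin 4) F) (f₁ : (Fin 2 → F) → (Fin 2 → F) → F), Cfsg.Geo.IsSymplecticForm f₁ → Cfsg.Geo.IsTensorPowerFormStructure id (Cfsg.sympForm 4 F) f₁ e P → Cfsg.Geo.IsMaximalIn (Cfsg.spGL 4 F) (Cfsg.Geo.tensorWreathSubgroup 2 3 e P ⊓ Cfsg.spGL 4 F)) ∧
    (¬ Odd (Fintype.card F) → ∀ Q : (Fin 4 ⊕ Fin 4 → F) → F, Cfsg.Geo.IsNondegenerateQuadraticForm Q → (∀ u v : (Fin 4 ⊕ Fin 4 → F), QuadraticMap.polar Q u v = (Cfsg.sympForm 4 F) u v) → Cfsg.Geo.IsMaximalIn (Cfsg.spGL 4 F) (Cfsg.Geo.quadSimilarityGroup Q ⊓ Cfsg.spGL 4 F)) := by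
  refine ⟨fun W hW0 hW => Cfsg.Agent.Classical.SpList.parabolic (by decide) W hW0 hW,
    fun W hW0 hW hd => Cfsg.Agent.Classical.SpSplit.isMaximal W hW0 hW hd,
    fun hq D hD => Cfsg.Agent.Classical.SpDecompMax.isMaximal (by decide) hD (fun h => by omega),
    fun D hD => Cfsg.Agent.Classical.SpDecompMax.isMaximal (by decide) hD (fun h => by omega),
    fun hodd D hD hts => Cfsg.Agent.Classical.TSPair.sp_isMaximal (by decide) hodd D hD hts,
    fun K hK hsa halt => Cfsg.Agent.Classical.FieldExt.Symp.extension_normalizer_maximal _ (by decide) 2 Nat.prime_two K hK hsa halt,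
    fun hodd K hK hac hnsa => Cfsg.Agent.Classical.UInSp.isMaximal (by decide) hodd K hK hac hnsa,
    fun hodd e P f₁ f₂ hf₁ hf₂ hnp hT => Cfsg.Agent.Classical.TensorMax.SpO.isMaximalIn_sp_of hodd (by decide)
      (Or.inr le_rfl) e P f₁ f₂ (Or.inl ⟨rfl, fun _ => aniso_of_not_plus f₂ hnp⟩) hf₁ hf₂ hT,
    fun F₀ r P ζ hr hcard hζ hP => Cfsg.Agent.Classical.SpSubMax.isMaximal (by decide) hr hcard P hζ hP,
    fun p R hp hpo hF hR hirr hRS hcard hZ hminus => Cfsg.Agent.Classical.Frame.Bil.isMaximal_sp_of le_rfl (k := 3)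
      hp hpo hF R hR hirr hRS hcard hZ (Or.inr hminus),
    fun hodd h5 e P f₁ hf₁ hT => Cfsg.Agent.Classical.TensorPowerMax.Symplectic.isMaximalIn le_rfl hodd (by decide)
      le_rfl (fun h => by omega) e P f₁ hf₁ hT,
    fun heven Q hQ hpol => Cfsg.Agent.Classical.SpList.orthogonal (by decide) heven Q hQ hpol⟩

end Cfsg.Agent.S5822
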