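import Cfsg.Statements.S5823
import Cfsg.Agent.Lib.Classical.FormSpSmall
import Cfsg.Agent.Lib.Classical.FormPlaneCube

set_option autoImplicit false
open Cfsg Matrix

namespace Cfsg.Agent.S5823

/-- Every maximal subgroup of Sp_8(q) is of one of the listed geometric types or lies in the residual class. Let F be a finite field with q elements, f the standard alternating form on F^8 (coordinates Fin 4 ⊕ Fin 4), and H a maximal subgroup of Sp_8(F) (inside GL_8(F)). Then H is the intersection with Sp_8(F) of one of: the stabiliser of a non-zero totally isotropic subspace; the stabiliser of a non-degenerate 2-space; for q ≥ 3, the stabiliser of a decomposition into four mutually orthogonal non-degenerate 2-spaces; of a decomposition into two orthogonal non-degenerate 4-spaces; for q odd, of a decomposition into two totally isotropic 4-spaces; the normaliser of a degree-2 subfield K, self-adjoint with f(k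 v, v) = 0; for q odd, the normaliser of a degree-2 subfield closed under adjoints but not self-adjoint; for q odd, the stabiliser of a tensor decomposition of f into an alternating form on F^2 and a minus-type symmetric form on F^4; a subfield group (|F| = |F₀|^r, r prime) whose F₀-structure carries a non-zero multiple of f; for q = p an odd prime, the normaliser of an absolutely irreducible extraspecial group 2_-^(1+6) of exponent 4 inside the similarity group of f; for q odd, q ≥ 5, the stabiliser of a tensor decomposition of f as a third tensor power of an alternating form on F^2; for q even, the similarity group of a non-degenerate quadratic form polarising to f — or else H lies in the residual class of the symplectic case. -/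
theorem result {F : Type*} [Field F] [Fintype F] (H : Subgroup (Matrix.GeneralLinearGroup (Fin 4 ⊕ Fin 4) F)) (hH : Cfsg.Geo.IsMaximalIn (Cfsg.spGL 4 F) H) :
    (∃ W : Submodule F (Fin 4 ⊕ Fin 4 → F), W ≠ ⊥ ∧ Cfsg.Geo.IsTotallySingularFor (Cfsg.sympForm 4 F) W ∧ H = Cfsg.Geo.subspaceStabilizer W ⊓ Cfsg.spGL 4 F) ∨
    (∃ W : Submodule F (Fin 4 ⊕ Fin 4 → F), W ≠ ⊥ ∧ Cfsg.Geo.IsNondegenerateOn (Cfsg.sympForm 4 F) W ∧ Module.finrank F W < 4 ∧ H = Cfsg.Geo.subspaceStabilizer W ⊓ Cfsg.spGL 4 F) ∨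
    (3 ≤ Fintype.card F ∧ ∃ D : Fin 4 → Submodule F (Fin 4 ⊕ Fin 4 → F), Cfsg.Geo.IsNondegenerateMDecomposition (Cfsg.sympForm 4 F) 2 D ∧ H = Cfsg.Geo.decompositionStabilizer D ⊓ Cfsg.spGL 4 F) ∨
    (∃ D : Fin 2 → Submodule F (Fin 4 ⊕ Fin 4 → F), Cfsg.Geo.IsNondegenerateMDecomposition (Cfsg.sympForm 4 F) 4 D ∧ H = Cfsg.Geo.decompositionStabilizer D ⊓ Cfsg.spGL 4 F) ∨
    (Odd (Fintype.card F) ∧ ∃ D : Fin 2 → Submodule F (Fin 4 ⊕ Fin 4 → F), Cfsg.Geo.IsMDecomposition 4 D ∧ (∀ i, Cfsg.Geo.IsTotallySingularFor (Cfsg.sympForm 4 F) (D i)) ∧ H = Cfsg.Geo.decompositionStabilizer D ⊓ Cfsg.spGL 4 F) ∨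
    (∃ K : Subalgebra F (Matrix (Fin 4 ⊕ Fin 4) (Fin 4 ⊕ Fin 4) F), Cfsg.Geo.IsFieldSubalgebra 2 K ∧ Cfsg.Geo.IsSelfAdjointFor (Cfsg.sympForm 4 F) K ∧ (∀ k ∈ K, ∀ v : (Fin 4 ⊕ Fin 4 → F), (Cfsg.sympForm 4 F) (Matrix.mulVec k v) v = 0) ∧ H = Cfsg.Geo.subalgebraNormalizer K ⊓ Cfsg.spGL 4 F) ∨
    (Odd (Fintype.card F) ∧ ∃ K : Subalgebra F (Matrix (Fin 4 ⊕ Fin 4) (Fin 4 ⊕ Fin 4) F), Cfsg.Geo.IsFieldSubalgebra 2 K ∧ Cfsg.Geo.IsAdjointClosedFor (Cfsg.sympForm 4 F) K ∧ ¬ Cfsg.Geo.IsSelfAdjointFor (Cfsg.sympForm 4 F) K ∧ H = Cfsg.Geo.subalgebraNormalizer K ⊓ Cfsg.spGL 4 F) ∨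
    (Odd (Fintype.card F) ∧ ∃ (e : (Fin 4 ⊕ Fin 4) ≃ Fin 2 × Fin 4) (P : Matrix.GeneralLinearGroup (Fin 4 ⊕ Fin 4) F) (f₁ : (Fin 2 → F) → (Fin 2 → F) → F) (f₂ : (Fin 4 → F) → (Fin 4 → F) → F), Cfsg.Geo.IsSymplecticForm f₁ ∧ Cfsg.Geo.IsSymmetricForm f₂ ∧ ¬ Cfsg.Geo.IsPlusTypeOn (fun v : Fin 4 → F => f₂ v v) ⊤ ∧ Cfsg.Geo.IsTensorFormStructure id (Cfsg.sympForm 4 F) f₁ f₂ e P ∧ H = Cfsg.Geo.tensorProductSubgroup 2 4 e P ⊓ Cfsg.spGL 4 F) ∨
    (∃ (F₀ : Subfield F) (r : ℕ) (P : Matrix.GeneralLinearGroup (Fin 4 ⊕ Fin 4) F) (ζ : F), r.Prime ∧ Fintype.card F = Nat.card F₀ ^ r ∧ ζ ≠ 0 ∧ Cfsg.Geo.IsFormRationalStructure (Cfsg.sympForm 4 F) F₀ ζ P ∧ H = Cfsg.Geo.subfieldSubgroup F₀ P ⊓ Cfsg.spGL 4 F) ∨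
    (∃ (p : ℕ) (R : Subgroup (Matrix.GeneralLinearGroup (Fin 4 ⊕ Fin 4) F)), p.Prime ∧ Odd p ∧ Fintype.card F = p ∧ Cfsg.Geo.IsSymplecticTypeGroup 2 R ∧ Cfsg.Geo.ActsAbsolutelyIrreducibly (Cfsg.Geo.matrixSet R) ∧ R ≤ Cfsg.Geo.similarityGroup (Cfsg.sympForm 4 F) ∧ Nat.card R = 128 ∧ Nat.card (Subgroup.center R) = 2 ∧ Cfsg.Geo.IsOfMinusType 3 R ∧ H = Cfsg.Geo.subgroupNormalizer R ⊓ Cfsg.spGL 4 F) ∨
    (Odd (Fintype.card F) ∧ 5 ≤ Fintype.card F ∧ ∃ (e : (Fin 4 ⊕ Fin 4) ≃ (Fin 3 → Fin 2)) (P : Matrix.GeneralLinearGroup (Fin 4 ⊕ Fin 4) F) (f₁ : (Fin 2 → F) → (Fin 2 → F) → F), Cfsg.Geo.IsSymplecticForm f₁ ∧ Cfsg.Geo.IsTensorPowerFormStructure id (Cfsg.sympForm 4 F) f₁ e P ∧ H = Cfsg.Geo.tensorWreathSubgroup 2 3 e P ⊓ Cfsg.spGL 4 F) ∨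
    (¬ Odd (Fintype.card F) ∧ ∃ Q : (Fin 4 ⊕ Fin 4 → F) → F, Cfsg.Geo.IsNondegenerateQuadraticForm Q ∧ (∀ u v : (Fin 4 ⊕ Fin 4 → F), QuadraticMap.polar Q u v = (Cfsg.sympForm 4 F) u v) ∧ H = Cfsg.Geo.quadSimilarityGroup Q ⊓ Cfsg.spGL 4 F) ∨
    Cfsg.Geo.InSymplecticResidualClass H := by
  have h2q : 2 ≤ Fintype.card F := Fintype.one_lt_card
  rcases Cfsg.Agent.Classical.sp_cases (m := 4) (by norm_num) hH with h | h | ⟨t, k, D, ht, hk, hev, htk, hD, h⟩ | h | h |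
    ⟨R, p, k, hR, habs, hRs, hp, hpo, hcard, hRc, hRz, hmin, hn, h⟩ | h | ⟨r, K, hr, hrm, hK, hsa, halt, h⟩ | h |
    ⟨hq, n₁, n₂, e, P, f₁, f₂, h1, hev, h2, hn, hf₁, hf₂, hT, h⟩ | ⟨k, t, e, P, f₁, hk, hev, hq, hto, ht, hn, hne, hf₁, hT, h⟩ | h
  · exact Or.inl h
  · exact Or.inr (Or.inl h)
  · have : k ≤ 4 := by nlinarith
    have : t ≤ 4 := by nlinarith
    interval_cases k <;> first | exact absurd hev (by decide) | interval_cases t <;> simp only [Nat.reduceMul] at htk <;> try omega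
    · rcases h2q.lt_or_eq with hq | hq
      · exact Or.inr (Or.inr (Or.inl ⟨hq, D, hD, h⟩))
      · exact Or.inr (Or.inr (Or.inr (Or.inr (Or.inr (Or.inr (Or.inr (Or.inr (Or.inr (Or.inr (Or.inr (Or.inl (Cfsg.Agent.Classical.maximal_quad_of_planes (by norm_num) hq.symm hH hD h))))))))))))
    · exact Or.inr (Or.inr (Or.inr (Or.inl ⟨D, hD, h⟩)))
  · exact Or.inr (Or.inr (Or.inr (Or.inr (Or.inl h))))
  · exact Or.inr (Or.inr (Or.inr (Or.inr (Or.inr (Or.inr (Or.inr (Or.inr (Or.inl h))))))))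
  · obtain rfl : k = 3 := Nat.pow_right_injective (le_refl 2) (show 2 ^ k = 2 ^ 3 by omega)
    exact Or.inr (Or.inr (Or.inr (Or.inr (Or.inr (Or.inr (Or.inr (Or.inr (Or.inr (Or.inl ⟨p, R, hp, hpo, hcard, hR, habs, hRs, by rw [hRc]; norm_num, hRz, hmin, h⟩)))))))))
  · exact Or.inr (Or.inr (Or.inr (Or.inr (Or.inr (Or.inr (Or.inr (Or.inr (Or.inr (Or.inr (Or.inr (Or.inl h)))))))))))
  · have := Nat.le_of_dvd (by norm_num) hrm
    interval_cases r <;> first | (exfalso; revert hr hrm; decide) | skip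
    exact Or.inr (Or.inr (Or.inr (Or.inr (Or.inr (Or.inl ⟨K, hK, hsa, halt, h⟩)))))
  · exact Or.inr (Or.inr (Or.inr (Or.inr (Or.inr (Or.inr (Or.inl h))))))
  · have : n₁ ≤ 2 := by
      rcases hev with ⟨u, rfl⟩
      nlinarith
    obtain rfl : n₁ = 2 := by omega
    obtain rfl : n₂ = 4 := by omega
    by_cases hplus : Cfsg.Geo.IsPlusTypeOn (fun v : Fin 4 → F => f₂ v v) ⊤
    swap
    · exact Or.inr (Or.inr (Or.inr (Or.inr (Or.inr (Or.inr (Or.inr (Or.inl ⟨hq, e, P, f₁, f₂, hf₁, hf₂, hplus, hT, h⟩)))))))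
    have h20 : (2 : F) ≠ 0 := Cfsg.Agent.Classical.two_ne_zero_of_odd_card hq
    have hfs := Cfsg.Agent.Classical.sympForm_isSymplectic (m := 4) (F := F)
    obtain ⟨e', P', κ, hκ, hG, hle⟩ := Cfsg.Agent.Classical.wreath_of_tensor_plus h20 hfs hf₁ hf₂ hplus hT
      (h.trans_le inf_le_left) (Cfsg.Agent.Classical.spGL_fixes hH.1.le)
    obtain ⟨g, hgs, hg⟩ := Cfsg.Agent.Classical.exists_sp_transvection (Pi.single (Sum.inl 0) (1 : F) : Fin 4 ⊕ Fin 4 → F) 1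
    have hfix := Cfsg.Agent.Classical.sp_transvection_fixCodim hg
    obtain ⟨x, hx⟩ := (hfs.nondegenerate (Pi.single (Sum.inl 0) (1 : F)) (fun e0 => one_ne_zero (α := F) (by
      simpa using congrFun e0 (Sum.inl 0)))).1
    have hgx : ∀ j : ℕ, ((g : Matrix (Fin 4 ⊕ Fin 4) (Fin 4 ⊕ Fin 4) F) ^ j) *ᵥ x =
        x + ((j : F) * Cfsg.sympForm 4 F x (Pi.single (Sum.inl 0) 1)) • Pi.single (Sum.inl 0) 1 := by
      intro j
      induction j with
      | zero => simp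
      | succ j ih =>
        rw [pow_succ', ← Matrix.mulVec_mulVec, ih, hg, hfs.bilinear.add_left, hfs.bilinear.smul_left, hfs.alternating,
          mul_zero, add_zero, one_mul, add_assoc, ← add_smul, Nat.cast_succ, add_mul, one_mul]
    have hne : ∀ j : ℕ, (j : F) ≠ 0 → g ^ j ≠ 1 := fun j hj e1 => by
      have e2 := hgx j
      rw [← Units.val_pow_eq_pow_val, e1, Units.val_one, Matrix.one_mulVec] at e2
      have e3 := congrFun e2 (Sum.inl 0)
      simp [hj] at e3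
      exact hx e3
    have hg1 : g ≠ 1 := fun e1 => hne 1 (by simp) (by rw [e1, one_pow])
    by_cases h5 : 5 ≤ Fintype.card F
    · refine Or.inr (Or.inr (Or.inr (Or.inr (Or.inr (Or.inr (Or.inr (Or.inr (Or.inr (Or.inr (Or.inl ⟨hq, h5, e', P', _, Cfsg.Agent.Classical.gram_symplectic h20 ?_ ?_, Cfsg.Agent.Classical.tensor_power_structure P' (Cfsg.Agent.Classical.reflexForm_of_symplectic hfs).semi e' hκ hG, ?_⟩))))))))))
      · rw [Cfsg.Agent.Classical.J2_det]; exact one_ne_zero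
      · intro i j; fin_cases i <;> fin_cases j <;> simp [Cfsg.Agent.Classical.J2]
      · exact Cfsg.Agent.Classical.eq_inf_of_maximalIn hH hle fun hall =>
          hfix.not_mem_wreath hg1 (by norm_num) (by norm_num)
            (Or.inr (by rw [← pow_two]; exact hne 2 (by exact_mod_cast h20))) e' P' (hall hgs)
    have hc3 : Fintype.card F = 3 := by obtain ⟨u, hu⟩ := hq; omega
    set R := Cfsg.Agent.Classical.cubeGroup hc3 e' P'
    have hfixR := Cfsg.Agent.Classical.cube_fixes (hF := hc3) hfs hG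
    refine Or.inr (Or.inr (Or.inr (Or.inr (Or.inr (Or.inr (Or.inr (Or.inr (Or.inr (Or.inl ⟨3, R, Nat.prime_three, by decide, hc3, Cfsg.Agent.Classical.cube_symplecticType, Cfsg.Agent.Classical.cube_absIrr, fun g hg => ⟨1, fun u v => by rw [Units.val_one, one_mul]; exact hfixR _ (Cfsg.Agent.Classical.coe_mem_matrixSet hg) u v⟩, Cfsg.Agent.Classical.card_cubeGroup, Cfsg.Agent.Classical.card_center_cube, Cfsg.Agent.Classical.cube_minusType hfs hG, ?_⟩)))))))))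
    refine Cfsg.Agent.Classical.eq_inf_of_maximalIn hH (hle.trans Cfsg.Agent.Classical.wreath_le_normalizer_cube) fun hall =>
      hfix.not_mem_normalizer hg1 (by simp) Cfsg.Agent.Classical.cube_absIrr ?_ (hall hgs)
    intro a ha b hb
    have h9 := Cfsg.Agent.Classical.cube_comm (⟨a, ha⟩ : R) ⟨b, hb⟩
    rcases h9 with h9 | h9
    · have e1 : a * b = b * a := Units.ext h9
      rw [e1]
      group
      exact one_mem _
    · have e1 : a * b = -1 * (b * a) := Units.ext (by rw [Units.val_mul (-1 : GL (Fin 4 ⊕ Fin 4) F), Units.val_neg, Units.val_one, Matrix.neg_mul, Matrix.one_mul]; exact h9)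
      rw [e1, show -1 * (b * a) * a⁻¹ * b⁻¹ = (-1 : GL (Fin 4 ⊕ Fin 4) F) by group]
      exact ⟨-1, Units.ext (by simp)⟩
  · obtain rfl : k = 2 := by
      by_contra hne
      have : 4 ^ 3 ≤ k ^ t := by
        rcases hev with ⟨u, rfl⟩
        exact (Nat.pow_le_pow_left (by omega) 3).trans (Nat.pow_le_pow_right (by omega) ht)
      omega
    obtain rfl : t = 3 := Nat.pow_right_injective (le_refl 2) (show 2 ^ t = 2 ^ 3 by omega)
    have h5 : 5 ≤ Fintype.card F := by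
      have h3 : Fintype.card F ≠ 3 := fun e => hne ⟨e, rfl⟩
      obtain ⟨u, hu⟩ := hq; omega
    exact Or.inr (Or.inr (Or.inr (Or.inr (Or.inr (Or.inr (Or.inr (Or.inr (Or.inr (Or.inr (Or.inl ⟨hq, h5, e, P, f₁, hf₁, hT, h⟩))))))))))
  · exact Or.inr (Or.inr (Or.inr (Or.inr (Or.inr (Or.inr (Or.inr (Or.inr (Or.inr (Or.inr (Or.inr (Or.inr (h))))))))))))


end Cfsg.Agent.S5823
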