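import Cfsg.Statements.S5825
import Cfsg.Agent.Lib.Classical.RadicalQuad
import Cfsg.Agent.Lib.Classical.WittIndex
import Cfsg.Agent.Lib.Classical.RadicalQuadCases
import Cfsg.Agent.Lib.Classical.RadicalQuadFour
import Cfsg.Agent.Lib.Classical.RadicalPoint
import Cfsg.Agent.Lib.Classical.FieldExt.Orth.Matrix
import Cfsg.Agent.Lib.Classical.OSubAllEight
import Cfsg.Agent.Lib.Classical.OSubSmall.Maximal
import Cfsg.Agent.S5702

set_option autoImplicit false
open Cfsg

namespace Cfsg.Agent.S5825

/-- Maximal subgroups of Ω_8^-(q) of geometric type (any q). Let F be a finite field with q elements, Q a non-degenerate quadratic form on F^8 (non-degenerate polar form) of minus type (Witt index 3: no totally singular 4-space), and Ω = Ω_8^-(q) the commutator subgroup of the isometry group of Q, inside GL_8(F). Each of the following, intersected with Ω, is a maximal subgroup of Ω: (1) the stabiliser of any non-zero subspace on which Q vanishes identically (totally singular 1-, 2- and 3-spaces);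 (2) for q odd, the stabiliser of any proper subspace of odd dimension (1, 3, 5 or 7) on which the polar form of Q is non-degenerate; (3) the stabiliser of any non-degenerate 2-space of minus type (containing no non-zero singular vector); (4) for q ≥ 4, the stabiliser of any non-degenerate 2-space of plus type (containing a non-zero singular vector); (5) the stabiliser of any non-degenerate 4-space (its orthogonal complement is then a non-degenerate 4-space of the opposite type); (6) for q even, the stabiliser of the 1-space spanned by any non-singular vector v (Q(v) ≠ 0); (7) for q odd, the normaliser of any degree-2 subfield K of the matrix algebra whose elements are self-adjoint for the polar form of Q (Q is then the trace of a quadratic form over K); (8) every subfield group for a subfield F₀ of odd prime index r in F whose F₀-structure carries a non-zero scalar multiple of Q. -/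
theorem result {F : Type*} [Field F] [Fintype F] (Q : (Fin 8 → F) → F) (hQ : Cfsg.Geo.IsNondegenerateQuadraticForm Q) (hminus : ¬ Cfsg.Geo.IsPlusTypeOn Q ⊤) :
    (∀ W : Submodule F (Fin 8 → F), W ≠ ⊥ → Cfsg.Geo.IsTotallySingularQuad Q W → Cfsg.Geo.IsMaximalIn (Cfsg.Geo.omegaGL Q) (Cfsg.Geo.subspaceStabilizer W ⊓ Cfsg.Geo.omegaGL Q)) ∧
    (Odd (Fintype.card F) → ∀ W : Submodule F (Fin 8 → F), W ≠ ⊥ → W ≠ ⊤ → Odd (Module.finrank F W) → Cfsg.Geo.IsNondegenerateOn (QuadraticMap.polar Q) W → Cfsg.Geo.IsMaximalIn (Cfsg.Geo.omegaGL Q) (Cfsg.Geo.subspaceStabilizer W ⊓ Cfsg.Geo.omegaGL Q)) ∧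
    (∀ W : Submodule F (Fin 8 → F), Module.finrank F W = 2 → Cfsg.Geo.IsNondegenerateOn (QuadraticMap.polar Q) W → ¬ Cfsg.Geo.IsPlusTypeOn Q W → Cfsg.Geo.IsMaximalIn (Cfsg.Geo.omegaGL Q) (Cfsg.Geo.subspaceStabilizer W ⊓ Cfsg.Geo.omegaGL Q)) ∧
    (4 ≤ Fintype.card F → ∀ W : Submodule F (Fin 8 → F), Module.finrank F W = 2 → Cfsg.Geo.IsNondegenerateOn (QuadraticMap.polar Q) W → Cfsg.Geo.IsPlusTypeOn Q W → Cfsg.Geo.IsMaximalIn (Cfsg.Geo.omegaGL Q) (Cfsg.Geo.subspaceStabilizer W ⊓ Cfsg.Geo.omegaGL Q)) ∧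
    (∀ W : Submodule F (Fin 8 → F), Module.finrank F W = 4 → Cfsg.Geo.IsNondegenerateOn (QuadraticMap.polar Q) W → Cfsg.Geo.IsMaximalIn (Cfsg.Geo.omegaGL Q) (Cfsg.Geo.subspaceStabilizer W ⊓ Cfsg.Geo.omegaGL Q)) ∧
    (¬ Odd (Fintype.card F) → ∀ v : (Fin 8 → F), Q v ≠ 0 → Cfsg.Geo.IsMaximalIn (Cfsg.Geo.omegaGL Q) (Cfsg.Geo.subspaceStabilizer (Submodule.span F {v}) ⊓ Cfsg.Geo.omegaGL Q)) ∧
    (Odd (Fintype.card F) → ∀ K : Subalgebra F (Matrix (Fin 8) (Fin 8) F), Cfsg.Geo.IsFieldSubalgebra 2 K → Cfsg.Geo.IsSelfAdjointFor (QuadraticMap.polar Q) K → Cfsg.Geo.IsMaximalIn (Cfsg.Geo.omegaGL Q) (Cfsg.Geo.subalgebraNormalizer K ⊓ Cfsg.Geo.omegaGL Q)) ∧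
    (∀ (F₀ : Subfield F) (r : ℕ) (P : Matrix.GeneralLinearGroup (Fin 8) F) (ζ : F), r.Prime → Odd r → Fintype.card F = Nat.card F₀ ^ r → ζ ≠ 0 → Cfsg.Geo.IsQuadFormRationalStructure (fun v : Fin 8 → F => ζ * Q v) F₀ P → Cfsg.Geo.IsMaximalIn (Cfsg.Geo.omegaGL Q) (Cfsg.Geo.subfieldSubgroup F₀ P ⊓ Cfsg.Geo.omegaGL Q)) := by
  classical
  have h2e : ¬ Odd (Fintype.card F) → (2 : F) = 0 := fun h => by
    have hc : ringChar F = 2 := by
      by_contra hc
      exact h (Nat.odd_iff.mpr (FiniteField.odd_card_of_char_ne_two hc))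
    haveI := ringChar.of_eq hc
    exact_mod_cast CharP.cast_eq_zero F 2
  have h2o : Odd (Fintype.card F) → (2 : F) ≠ 0 := fun hodd h => by
    haveI := ringChar.charP F
    haveI : CharP F 2 := CharTwo.of_one_ne_zero_of_two_eq_zero one_ne_zero h
    exact (Nat.not_even_iff_odd.mpr hodd) (Nat.even_iff.mpr (FiniteField.even_card_of_char_two (ringChar.eq F 2)))
  obtain ⟨Qf, rfl, hPND⟩ := Cfsg.Agent.Classical.ONotMax.exists_qform hQ
  have hno : ∀ U : Submodule F (Fin 8 → F), (∀ x ∈ U, Qf x = 0) → 2 * Module.finrank F U < 8 := fun U hU => by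
    have hle := Cfsg.Agent.Classical.Witt.finrank_le_half Qf (Cfsg.Agent.Classical.ORefl.nondeg hPND) hU
    rw [Module.finrank_fin_fun] at hle
    refine lt_of_le_of_ne hle fun e => hminus ⟨U, le_top, hU, ?_⟩
    rw [e, finrank_top, Module.finrank_fin_fun]
  refine ⟨fun W hW0 hW => ?_, fun hodd W hW0 hW1 hWo hWn => ?_, fun W hW2 hWn hWm => ?_,
    fun hq W hW2 hWn _ => ?_, fun W hW4 hWn => ?_, fun he v hv => ?_, fun hodd K hK hsa => ?_,
    fun F₀ r P ζ hr hro hcard hζ hP => ?_⟩
  · refine Cfsg.Agent.Classical.Radical.isMaximal_quad hPND (by rw [Fintype.card_fin]; omega) hW0 hW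
      fun u hu huW huo => ?_
    have hext : ∀ x ∈ W ⊔ Submodule.span F {u}, Qf x = 0 := fun x hx => by
      obtain ⟨w, hw, z, hz, rfl⟩ := Submodule.mem_sup.mp hx
      obtain ⟨c, rfl⟩ := Submodule.mem_span_singleton.mp hz
      rw [QuadraticMap.map_add ⇑Qf, QuadraticMap.map_smul, hu, hW w hw, QuadraticMap.polar_smul_right,
        QuadraticMap.polar_comm, huo w hw]
      simp
    have hlt : Module.finrank F W < Module.finrank F ↥(W ⊔ Submodule.span F {u}) :=
      Submodule.finrank_lt_finrank_of_lt (lt_of_le_of_ne le_sup_left fun e => huW (e ▸ Submodule.mem_sup_right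
        (Submodule.mem_span_singleton_self u)))
    have := hno _ hext
    rw [Fintype.card_fin]
    omega
  · obtain ⟨j, hj⟩ := hWo
    have hk := Submodule.finrank_lt hW1
    rw [Module.finrank_fin_fun] at hk
    refine Cfsg.Agent.Classical.Radical.isMaximal_quadAny_five hPND (by rw [Fintype.card_fin]; omega) hW0 hW1 hWn
      (fun h => by rw [Fintype.card_fin] at h; omega) (fun _ U hU _ _ h => ?_) (by rw [Fintype.card_fin]; omega)
    rw [Fintype.card_fin] at h
    rcases h with rfl | ⟨-, h⟩ <;> omega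
  · refine Cfsg.Agent.Classical.Radical.isMaximal_quadAny_five hPND (by rw [Fintype.card_fin]; omega)
      (fun e => by rw [e, finrank_bot] at hW2; omega)
      (fun e => by rw [e, finrank_top, Module.finrank_fin_fun] at hW2; omega) hWn
      (fun h => by rw [Fintype.card_fin] at h; omega) (fun _ U hU _ hUp h => ?_) (by rw [Fintype.card_fin]; omega)
    rw [Fintype.card_fin] at h
    rcases h with rfl | ⟨-, h⟩
    · exact hWm hUp
    · omega
  · exact Cfsg.Agent.Classical.Radical.isMaximal_quadAny_five hPND (by rw [Fintype.card_fin]; omega)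
      (fun e => by rw [e, finrank_bot] at hW2; omega)
      (fun e => by rw [e, finrank_top, Module.finrank_fin_fun] at hW2; omega) hWn
      (fun h => by rw [Fintype.card_fin] at h; omega) (fun h => by omega) (by rw [Fintype.card_fin]; omega)
  · exact Cfsg.Agent.Classical.Radical.isMaximal_four hPND hQ (Fintype.card_fin 8) hminus hWn hW4
  · exact Cfsg.Agent.Classical.Radical.isMaximal_point hPND (by rw [Fintype.card_fin]) (h2e he) hv
  · refine Cfsg.Agent.Classical.FieldExt.Orth.extension_normalizer_maximal _ hQ (h2o hodd) 2 Nat.prime_two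
      (fun k hk => ?_) K hK hsa
    rw [Fintype.card_fin] at hk
    exact ⟨by omega, Or.inr ⟨by omega, rfl, hminus⟩⟩
  · have hQ' := Cfsg.Agent.S5702.scaled_nondeg hQ hζ
    rw [← Cfsg.Agent.S5702.omegaGL_scaled (⇑Qf) hζ]
    by_cases h2 : (2 : F) = 0
    · exact Cfsg.Agent.Classical.OSubAll.isMaximal_two hQ' (by rw [Fintype.card_fin]) h2
        (fun U hU => by
          rw [Fintype.card_fin]
          exact hno U fun x hx => (mul_eq_zero.mp (hU x hx)).resolve_left hζ)
        F₀ hr hcard P hP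
    · exact Cfsg.Agent.Classical.OSub7.isMaximal hQ' h2 (by rw [Fintype.card_fin]; omega) hr (Or.inr hro) hcard P hP

end Cfsg.Agent.S5825
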