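import Cfsg.Statements.S5826
import Cfsg.Agent.Lib.Classical.OrthEvenCases
import Cfsg.Agent.Lib.Classical.OrthEvenSubfield
import Cfsg.Agent.Lib.Classical.FormSpMaximal

set_option autoImplicit false
open Cfsg

namespace Cfsg.Agent.S5826

/-- Every maximal subgroup of Ω_8^-(q) is of one of the listed geometric types or lies in the residual class. Let F be a finite field with q elements, Q a non-degenerate quadratic form on F^8 of minus type (no totally singular 4-space), Ω the commutator subgroup of its isometry group, and H a maximal subgroup of Ω (inside GL_8(F)). Then H is the intersection with Ω of one of: the stabiliser of a non-zero totally singular subspace; for q odd, the stabiliser of a non-degenerate subspace of odd dimension; the stabiliser of a non-degenerate 2-space of minus type; for q ≥ 4, the stabiliser of a non-degenerate 2-space of plus type; the stabiliser of a non-degenerate 4-space; for q even, the stabiliser of the span of a non-singular vector;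 the normaliser of a degree-2 subfield of the matrix algebra; a subfield group of odd prime index whose F₀-structure carries a non-zero multiple of Q — or else H lies in the residual class of the orthogonal case (modulo scalars H is almost simple, with absolutely irreducible perfect socle preimage realisable over no proper subfield and fixing no non-degenerate unitary form). -/
theorem result {F : Type*} [Field F] [Fintype F] (Q : (Fin 8 → F) → F) (hQ : Cfsg.Geo.IsNondegenerateQuadraticForm Q) (hminus : ¬ Cfsg.Geo.IsPlusTypeOn Q ⊤) (H : Subgroup (Matrix.GeneralLinearGroup (Fin 8) F)) (hH : Cfsg.Geo.IsMaximalIn (Cfsg.Geo.omegaGL Q) H) :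
    (∃ W : Submodule F (Fin 8 → F), W ≠ ⊥ ∧ Cfsg.Geo.IsTotallySingularQuad Q W ∧ H = Cfsg.Geo.subspaceStabilizer W ⊓ Cfsg.Geo.omegaGL Q) ∨
    (Odd (Fintype.card F) ∧ ∃ W : Submodule F (Fin 8 → F), W ≠ ⊥ ∧ W ≠ ⊤ ∧ Odd (Module.finrank F W) ∧ Cfsg.Geo.IsNondegenerateOn (QuadraticMap.polar Q) W ∧ H = Cfsg.Geo.subspaceStabilizer W ⊓ Cfsg.Geo.omegaGL Q) ∨
    (∃ W : Submodule F (Fin 8 → F), Module.finrank F W = 2 ∧ Cfsg.Geo.IsNondegenerateOn (QuadraticMap.polar Q) W ∧ ¬ Cfsg.Geo.IsPlusTypeOn Q W ∧ H = Cfsg.Geo.subspaceStabilizer W ⊓ Cfsg.Geo.omegaGL Q) ∨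
    (4 ≤ Fintype.card F ∧ ∃ W : Submodule F (Fin 8 → F), Module.finrank F W = 2 ∧ Cfsg.Geo.IsNondegenerateOn (QuadraticMap.polar Q) W ∧ Cfsg.Geo.IsPlusTypeOn Q W ∧ H = Cfsg.Geo.subspaceStabilizer W ⊓ Cfsg.Geo.omegaGL Q) ∨
    (∃ W : Submodule F (Fin 8 → F), Module.finrank F W = 4 ∧ Cfsg.Geo.IsNondegenerateOn (QuadraticMap.polar Q) W ∧ H = Cfsg.Geo.subspaceStabilizer W ⊓ Cfsg.Geo.omegaGL Q) ∨
    (¬ Odd (Fintype.card F) ∧ ∃ v : (Fin 8 → F), Q v ≠ 0 ∧ H = Cfsg.Geo.subspaceStabilizer (Submodule.span F {v}) ⊓ Cfsg.Geo.omegaGL Q) ∨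
    (∃ K : Subalgebra F (Matrix (Fin 8) (Fin 8) F), Cfsg.Geo.IsFieldSubalgebra 2 K ∧ H = Cfsg.Geo.subalgebraNormalizer K ⊓ Cfsg.Geo.omegaGL Q) ∨
    (∃ (F₀ : Subfield F) (r : ℕ) (P : Matrix.GeneralLinearGroup (Fin 8) F) (ζ : F), r.Prime ∧ Odd r ∧ Fintype.card F = Nat.card F₀ ^ r ∧ ζ ≠ 0 ∧ Cfsg.Geo.IsQuadFormRationalStructure (fun v : Fin 8 → F => ζ * Q v) F₀ P ∧ H = Cfsg.Geo.subfieldSubgroup F₀ P ⊓ Cfsg.Geo.omegaGL Q) ∨
    Cfsg.Geo.InOrthogonalResidualClass H := by
  classical
  have hn : Fintype.card (Fin 8) = 8 := Fintype.card_fin 8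
  obtain ⟨Qf, hQf, hP⟩ := Cfsg.Agent.Classical.ONotMax.exists_qform hQ
  subst hQf
  have hHI : H ≤ Cfsg.isometryGroup F ⇑Qf := hH.1.le.trans (Subgroup.map_subtype_le _)
  have cut : ∀ X, H ≤ X → ¬ Cfsg.Geo.omegaGL ⇑Qf ≤ X → H = X ⊓ Cfsg.Geo.omegaGL ⇑Qf := fun X h1 h2 =>
    Cfsg.Agent.Classical.eq_inf_of_maximalIn hH h1 h2
  have hirr := Cfsg.Agent.Classical.OEven.omega_irreducible hP (by omega)
  have cutW : ∀ W : Submodule F (Fin 8 → F), W ≠ ⊥ → Module.finrank F W < 8 → H ≤ Cfsg.Geo.subspaceStabilizer W →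
      H = Cfsg.Geo.subspaceStabilizer W ⊓ Cfsg.Geo.omegaGL ⇑Qf := fun W h0 hlt hle => cut _ hle fun hG => by
    rcases hirr W (fun s ⟨x, hx, e⟩ => e ▸ Cfsg.Agent.Classical.map_toLin'_le.mpr
      (Cfsg.Agent.Classical.mem_subspaceStabilizer_iff.mp (hG hx))) with h | h
    · exact h0 h
    · rw [h, finrank_top, Module.finrank_pi] at hlt; omega
  have hodd : Odd (Fintype.card F) ↔ (2 : F) ≠ 0 := by
    constructor
    · intro ho h
      haveI : CharP F 2 := CharTwo.of_one_ne_zero_of_two_eq_zero one_ne_zero h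
      exact Nat.not_even_iff_odd.mpr ho (Nat.even_iff.mpr (FiniteField.even_card_of_char_two (ringChar.eq F 2)))
    · intro h
      rw [Nat.odd_iff]
      refine FiniteField.odd_card_of_char_ne_two fun e => h ?_
      have := ringChar.Nat.cast_ringChar (R := F)
      rw [e] at this
      exact_mod_cast this
  have hm4 : (2 : F) = 0 ∨ IsSquare ((-1 : F) ^ 4) := Or.inr ⟨1, by norm_num⟩
  rcases Cfsg.Agent.Classical.even_structure hQ (by omega) hHI with hout | hres
  swap
  · exact Or.inr (Or.inr (Or.inr (Or.inr (Or.inr (Or.inr (Or.inr (Or.inr hres)))))))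
  cases hout with
  | ts W h0 hW hle =>
    refine Or.inl ⟨W, h0, hW, cutW W h0 ?_ hle⟩
    have h1 := Cfsg.Agent.Classical.Witt.finrank_le_half Qf (Cfsg.Agent.Classical.ORefl.nondeg hP) (W := W) hW
    rw [Module.finrank_pi, hn] at h1
    omega
  | line v h2 hv hle =>
    have hv0 : v ≠ 0 := fun e => hv (by rw [e]; exact QuadraticMap.map_zero Qf)
    refine Or.inr (Or.inr (Or.inr (Or.inr (Or.inr (Or.inl ⟨fun h => hodd.mp h h2, v, hv,
      cutW _ (by simpa using hv0) ?_ hle⟩)))))
    rw [finrank_span_singleton hv0]; norm_num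
  | nondeg W h0 hW hd hle =>
    rw [hn] at hd
    have hpos : 0 < Module.finrank F W := Nat.pos_of_ne_zero fun e => h0 (Submodule.finrank_eq_zero.mp e)
    have hcut := cutW W h0 (by omega) hle
    by_cases ho : Odd (Module.finrank F W)
    · refine Or.inr (Or.inl ⟨hodd.mpr (Cfsg.Agent.Classical.OEven.odd_dim_two_ne_zero hQ hW ho), W, h0, fun e => ?_,
        ho, hW, hcut⟩)
      rw [e, finrank_top, Module.finrank_pi, hn] at hd; omega
    have h2 : Module.finrank F W = 2 := by
      obtain ⟨r, hr⟩ := Nat.not_odd_iff_even.mp ho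
      omega
    by_cases hp : Cfsg.Geo.IsPlusTypeOn (⇑Qf) W
    · by_cases h4 : 4 ≤ Fintype.card F
      · exact Or.inr (Or.inr (Or.inr (Or.inl ⟨h4, W, h2, hW, hp, hcut⟩)))
      exfalso
      obtain ⟨K, hK1, hK2⟩ := Cfsg.Agent.Classical.ONotMax.plane_not_max hP (by omega) (by omega) h2 hW hp
      rw [← hcut] at hK1
      rcases hH.2 K hK1.le hK2.le with h | h
      exacts [hK1.ne h.symm, hK2.ne h]
    · exact Or.inr (Or.inr (Or.inl ⟨W, h2, hW, hp, hcut⟩))
  | halves k D hk hD hle =>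
    rw [hn] at hk
    obtain rfl : k = 4 := by omega
    rcases Cfsg.Agent.Classical.OEven.fixed_or_isometric hHI hD hle with h | h
    · refine Or.inr (Or.inr (Or.inr (Or.inr (Or.inl ⟨D 0, hD.decomp.finrank_eq 0, hD.nondegenerate 0,
        cutW _ (fun e => ?_) (by rw [hD.decomp.finrank_eq 0]; norm_num) (h 0)⟩))))
      have := hD.decomp.finrank_eq 0
      rw [e, finrank_bot] at this
      omega
    · exact absurd (Cfsg.Agent.Classical.OEven.plus_of_isometric hQ (m := 4) (by rw [hn]) h even_two hm4) hminus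
  | decomp t k D hirrH hD hle =>
    have htk := Cfsg.Agent.Classical.IsMDecomposition.card_eq hD.decomp.decomp
    rw [hn] at htk
    have ht := hD.decomp.decomp.two_le
    have hte : Even t := by
      have : t ≤ 8 := Nat.le_of_dvd (by norm_num) ⟨k, htk.symm⟩
      interval_cases t <;> first | decide | omega
    exact absurd (Cfsg.Agent.Classical.OEven.plus_of_isometric hQ (m := 4) (by rw [hn]) hD hte hm4) hminus
  | tspair k D hirrH hk hD hts hle =>
    rw [hn] at hk
    exact absurd ⟨D 0, le_top, hts 0, by rw [finrank_top, Module.finrank_pi, hn, hD.finrank_eq 0, hk]⟩ hminus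
  | field r K hr hdvd hK hirrH hadj hle =>
    rw [hn] at hdvd
    obtain rfl : r = 2 := (Nat.prime_dvd_prime_iff_eq hr Nat.prime_two).mp (hr.dvd_of_dvd_pow (n := 3) hdvd)
    exact Or.inr (Or.inr (Or.inr (Or.inr (Or.inr (Or.inr (Or.inl ⟨K, hK, cut _ hle
      (Cfsg.Agent.Classical.OEven.omega_not_field hP (by omega) le_rfl hK)⟩))))))
  | tensor d k e P G₁ G₂ l hd hk hirrH hT hkr =>
    exfalso
    apply hminus
    have h := Fintype.card_congr e
    rw [hn, Fintype.card_prod, Fintype.card_fin, Fintype.card_fin] at h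
    obtain ⟨rfl, rfl⟩ | ⟨rfl, rfl⟩ : (d = 2 ∧ k = 4) ∨ (d = 4 ∧ k = 2) := by
      have : d ≤ 4 := by nlinarith
      have : k ≤ 4 := by nlinarith
      interval_cases d <;> interval_cases k <;> simp at h ⊢
    · exact Cfsg.Agent.Classical.OEven.plus_of_tensor_two hQ hk hirrH hHI hT hkr (Or.inr (Or.inr (by decide)))
    · refine Cfsg.Agent.Classical.OEven.plus_of_tensor_two hQ hd hirrH hHI (hT.prodComm (by simp) (fun _ => rfl))
        (fun g hg => ?_) (Or.inr (Or.inr (by decide)))
      obtain ⟨a, b, hab⟩ := hkr g hg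
      refine ⟨b, a, ?_⟩
      ext ⟨i, x⟩ ⟨j, y⟩
      have := congrFun (congrFun hab (x, i)) (y, j)
      rw [Matrix.kronecker_apply] at this ⊢
      rw [mul_comm]
      exact this
  | symp M hM hn' ha hne hc =>
    exfalso
    obtain ⟨-, k, D, -, hD⟩ :=
      Cfsg.Agent.Classical.OEven.halves_of_symplectic hQ (by omega) (hM.trans hHI) ha hne hc
    exact hminus (Cfsg.Agent.Classical.OEven.plus_of_isometric hQ (m := 4) (by rw [hn]) hD even_two hm4)
  | subfield F₁ r P ζ hr hc hζ hrat hle =>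
    rcases hr.eq_two_or_odd' with rfl | ho
    · exact absurd (Cfsg.Agent.Classical.OEven.plus_of_rational hQ (m := 4) (by rw [hn]) (by norm_num) hc hζ hrat) hminus
    · obtain ⟨N, hN, hNN, hfam⟩ := Cfsg.Agent.Classical.OEven.exists_family hP (by omega)
      exact Or.inr (Or.inr (Or.inr (Or.inr (Or.inr (Or.inr (Or.inr (Or.inl ⟨F₁, r, P, ζ, hr, ho, hc, hζ, hrat,
        cut _ hle (Cfsg.Agent.Classical.OEven.not_le_subfield_of_family hN hNN (fun t => by
          obtain ⟨g, hg, hgm, -⟩ := hfam t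
          exact ⟨g, hg, hgm⟩) (Cfsg.Agent.Classical.OEven.subfield_ne_top_of_card hr hc) P)⟩)))))))
  | power k t e B c G₀ l hk ht hirrH hG hle =>
    exfalso
    apply hminus
    have h := Fintype.card_congr e
    rw [hn, Fintype.card_fun, Fintype.card_fin, Fintype.card_fin] at h
    obtain rfl : k = 2 := by
      by_contra hne
      have hd : k ∣ 8 := h ▸ dvd_pow_self k (by omega)
      have h2 : k ^ 2 ≤ 8 := h ▸ Nat.pow_le_pow_right (by omega) ht
      have h3 : k ≤ 2 := by nlinarith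
      omega
    exact Cfsg.Agent.Classical.OEven.plus_of_power_two hQ ht hirrH hHI hG hle

end Cfsg.Agent.S5826
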