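import Cfsg.Statements.S5835
import Cfsg.Agent.Lib.Classical.FormOrthMaximal
import Cfsg.Agent.Lib.Classical.FormSpMaximal

set_option autoImplicit false
open Cfsg Cfsg.Geo

namespace Cfsg.Agent.S5835

/-- Every maximal subgroup of Ω_9(q), q odd, is of one of the listed geometric types or lies in the residual class. Let F be a finite field of odd order q, Q the standard quadratic form x₀² + Σ x_i y_i on F^9 (coordinates Unit ⊕ (Fin 4 ⊕ Fin 4)), Ω the commutator subgroup of its isometry group, and H a maximal subgroup of Ω (inside GL_9(F)). Then H is the intersection with Ω of one of: the stabiliser of a non-zero totally singular subspace; the stabiliser of a non-zero non-degenerate subspace of even dimension (not a plus-type plane when q = 3); for q prime, the stabiliser of a decomposition into nine pairwise orthogonal, pairwise isometric non-degenerate 1-spaces; for q ≥ 5, the stabiliser of a decomposition into three pairwise orthogonal,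 pairwise isometric non-degenerate 3-spaces; the normaliser of a degree-3 subfield of the matrix algebra, self-adjoint for the polar form; a subfield group (|F| = |F₀|^r, r prime) whose F₀-structure carries Q; for q ≥ 5, the stabiliser of a tensor decomposition of the polar form as a tensor square of a symmetric form on F^3 — or else H lies in the residual class of the orthogonal case (modulo scalars H is almost simple, with absolutely irreducible perfect socle preimage realisable over no proper subfield and fixing no non-degenerate unitary form). -/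
theorem result {F : Type*} [Field F] [Fintype F] (hodd : Odd (Fintype.card F)) (H : Subgroup (Matrix.GeneralLinearGroup (Unit ⊕ (Fin 4 ⊕ Fin 4)) F)) (hH : Cfsg.Geo.IsMaximalIn (Cfsg.Geo.omegaGL (Cfsg.quadFormOdd 4 F)) H) :
    (∃ W : Submodule F (Unit ⊕ (Fin 4 ⊕ Fin 4) → F), W ≠ ⊥ ∧ Cfsg.Geo.IsTotallySingularQuad (Cfsg.quadFormOdd 4 F) W ∧ H = Cfsg.Geo.subspaceStabilizer W ⊓ Cfsg.Geo.omegaGL (Cfsg.quadFormOdd 4 F)) ∨
    (∃ W : Submodule F (Unit ⊕ (Fin 4 ⊕ Fin 4) → F), W ≠ ⊥ ∧ Even (Module.finrank F W) ∧ Cfsg.Geo.IsNondegenerateOn (QuadraticMap.polar (Cfsg.quadFormOdd 4 F)) W ∧ ¬ (Fintype.card F = 3 ∧ Module.finrank F W = 2 ∧ Cfsg.Geo.IsPlusTypeOn (Cfsg.quadFormOdd 4 F) W) ∧ H = Cfsg.Geo.subspaceStabilizer W ⊓ Cfsg.Geo.omegaGL (Cfsg.quadFormOdd 4 F)) ∨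
    ((Fintype.card F).Prime ∧ ∃ D : Fin 9 → Submodule F (Unit ⊕ (Fin 4 ⊕ Fin 4) → F), Cfsg.Geo.IsOrthogonalMDecomposition (Cfsg.quadFormOdd 4 F) 1 D ∧ H = Cfsg.Geo.decompositionStabilizer D ⊓ Cfsg.Geo.omegaGL (Cfsg.quadFormOdd 4 F)) ∨
    (5 ≤ Fintype.card F ∧ ∃ D : Fin 3 → Submodule F (Unit ⊕ (Fin 4 ⊕ Fin 4) → F), Cfsg.Geo.IsOrthogonalMDecomposition (Cfsg.quadFormOdd 4 F) 3 D ∧ H = Cfsg.Geo.decompositionStabilizer D ⊓ Cfsg.Geo.omegaGL (Cfsg.quadFormOdd 4 F)) ∨
    (∃ K : Subalgebra F (Matrix (Unit ⊕ (Fin 4 ⊕ Fin 4)) (Unit ⊕ (Fin 4 ⊕ Fin 4)) F), Cfsg.Geo.IsFieldSubalgebra 3 K ∧ Cfsg.Geo.IsSelfAdjointFor (QuadraticMap.polar (Cfsg.quadFormOdd 4 F)) K ∧ H = Cfsg.Geo.subalgebraNormalizer K ⊓ Cfsg.Geo.omegaGL (Cfsg.quadFormOdd 4 F)) ∨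
    (∃ (F₀ : Subfield F) (r : ℕ) (P : Matrix.GeneralLinearGroup (Unit ⊕ (Fin 4 ⊕ Fin 4)) F), r.Prime ∧ Fintype.card F = Nat.card F₀ ^ r ∧ Cfsg.Geo.IsQuadFormRationalStructure (Cfsg.quadFormOdd 4 F) F₀ P ∧ H = Cfsg.Geo.subfieldSubgroup F₀ P ⊓ Cfsg.Geo.omegaGL (Cfsg.quadFormOdd 4 F)) ∨
    (5 ≤ Fintype.card F ∧ ∃ (e : (Unit ⊕ (Fin 4 ⊕ Fin 4)) ≃ (Fin 2 → Fin 3)) (P : Matrix.GeneralLinearGroup (Unit ⊕ (Fin 4 ⊕ Fin 4)) F) (f₁ : (Fin 3 → F) → (Fin 3 → F) → F), Cfsg.Geo.IsSymmetricForm f₁ ∧ Cfsg.Geo.IsTensorPowerFormStructure id (QuadraticMap.polar (Cfsg.quadFormOdd 4 F)) f₁ e P ∧ H = Cfsg.Geo.tensorWreathSubgroup 3 2 e P ⊓ Cfsg.Geo.omegaGL (Cfsg.quadFormOdd 4 F)) ∨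
    Cfsg.Geo.InOrthogonalResidualClass H := by
  classical
  have h2 : (2 : F) ≠ 0 := Cfsg.Agent.Classical.two_ne_zero_of_odd_card hodd
  have hcard : Fintype.card (Unit ⊕ (Fin 4 ⊕ Fin 4)) = 9 := by simp
  have hQ := Cfsg.Agent.Classical.quadFormOdd_nondegenerate (m := 4) h2
  have hoddι : Odd (Fintype.card (Unit ⊕ (Fin 4 ⊕ Fin 4))) := by rw [hcard]; decide
  have hGI := Cfsg.Agent.Classical.omegaGL_le_isometry (Q := quadFormOdd 4 F)
  have hHI : H ≤ isometryGroup F (quadFormOdd 4 F) := hH.1.le.trans hGI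
  have hirr := Cfsg.Agent.Classical.omega_odd_irreducible (m := 4) h2 (by norm_num)
  have huni : Cfsg.Agent.Classical.HasUnipotentFamily (omegaGL (quadFormOdd 4 F)) :=
    Cfsg.Agent.Classical.omega_odd_unipotent h2 (by norm_num)
  have cut : ∀ X, H ≤ X → ¬ omegaGL (quadFormOdd 4 F) ≤ X → H = X ⊓ omegaGL (quadFormOdd 4 F) := fun X hle hX =>
    Cfsg.Agent.Classical.eq_inf_of_maximalIn hH hle hX
  obtain ⟨g, hg, hg1, hgg, hgd⟩ := Cfsg.Agent.Classical.exists_eichler_fixCodim (F := F) (m := 4) h2 (by norm_num)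
  have hred : ∀ W : Submodule F (Unit ⊕ (Fin 4 ⊕ Fin 4) → F), W ≠ ⊥ → W ≠ ⊤ → H ≤ subspaceStabilizer W →
      H = subspaceStabilizer W ⊓ omegaGL (quadFormOdd 4 F) := fun W h0 h1 hle => cut _ hle fun hG => by
    rcases hirr W (fun s ⟨x, hx, e⟩ => e ▸ Cfsg.Agent.Classical.map_toLin'_le.mpr
      (Cfsg.Agent.Classical.mem_subspaceStabilizer_iff.mp (hG hx))) with h | h
    exacts [h0 h, h1 h]
  by_cases hHirr : ActsIrreducibly (matrixSet H)
  swap
  · obtain ⟨W, h0, h1, hW, hT | ⟨he, hN, hexc⟩⟩ :=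
      Cfsg.Agent.Classical.orth_reducible_cases hQ h2 hoddι (by rw [hcard]; norm_num) hHI hHirr
    · exact Or.inl ⟨W, h0, hT, hred W h0 h1 hW⟩
    · exact Or.inr (Or.inl ⟨W, h0, he, hN, hexc, hred W h0 h1 hW⟩)
  have hlines : ∀ {t : ℕ} {D : Fin t → Submodule F (Unit ⊕ (Fin 4 ⊕ Fin 4) → F)}, (Fintype.card F).Prime →
      IsOrthogonalMDecomposition (quadFormOdd 4 F) 1 D → H ≤ decompositionStabilizer D →
      (Fintype.card F).Prime ∧ ∃ D : Fin 9 → Submodule F (Unit ⊕ (Fin 4 ⊕ Fin 4) → F),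
        IsOrthogonalMDecomposition (quadFormOdd 4 F) 1 D ∧ H = decompositionStabilizer D ⊓ omegaGL (quadFormOdd 4 F) := by
    intro t D hp hD hle
    have ht : t = 9 := by
      have := Cfsg.Agent.Classical.IsMDecomposition.card_eq hD.decomp.decomp
      omega
    subst ht
    refine ⟨hp, D, hD, cut _ hle ?_⟩
    have := huni.not_le_decomposition h2 (D := D ∘ Fin.cast hcard)
      (Cfsg.Agent.Classical.IsOrthogonalMDecomposition.finCast hcard hD).decomp.decomp
    rwa [Cfsg.Agent.Classical.decompositionStabilizer_finCast] at this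
  rcases Cfsg.Agent.Classical.orth_structure h2 (by norm_num) hHI with ⟨M, hM, hHM⟩ | hres
  swap
  · exact Or.inr (Or.inr (Or.inr (Or.inr (Or.inr (Or.inr (Or.inr hres))))))
  have hno : ∀ W : Submodule F (Unit ⊕ (Fin 4 ⊕ Fin 4) → F), W ≠ ⊥ → W ≠ ⊤ → ¬ H ≤ subspaceStabilizer W :=
    fun W h0 h1 hle => by
      rcases hHirr W (fun s ⟨x, hx, e⟩ => e ▸ Cfsg.Agent.Classical.map_toLin'_le.mpr
        (Cfsg.Agent.Classical.mem_subspaceStabilizer_iff.mp (hle hx))) with h | h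
      exacts [h0 h, h1 h]
  rcases hM with ⟨W, h0, hts, rfl⟩ | ⟨W, h0, h1, hnd, rfl⟩ | ⟨t, k, D, hk, hD, rfl⟩ | ⟨t, D, hp, hD, rfl⟩ |
    ⟨r, K, hr, hr9, hK, hsa, rfl⟩ | ⟨n₁, n₂, e, P, f₁, f₂, h31, h12, -, -, -, rfl⟩ | ⟨F₀, r, P, hr, hc, hrat, rfl⟩ |
    ⟨k, t, e, P, f₁, hk, ht, hex, hf₁, hT, rfl⟩
  · refine (hno W h0 (fun e => ?_) (hHM.trans inf_le_left)).elim
    subst e
    obtain ⟨⟨x, hx⟩, -⟩ := hQ.nondegenerate (Pi.single (Sum.inl ()) 1) (by simp)
    apply hx
    simp only [QuadraticMap.polar]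
    rw [hts _ trivial, hts _ trivial, hts _ trivial, sub_zero, sub_zero]
  · exact (hno W h0 h1 (hHM.trans inf_le_left)).elim
  · have hle : H ≤ decompositionStabilizer D := hHM.trans inf_le_left
    have htk := Cfsg.Agent.Classical.IsMDecomposition.card_eq hD.decomp.decomp
    rw [hcard] at htk
    have ht := hD.decomp.decomp.two_le
    obtain ⟨rfl, rfl⟩ : t = 3 ∧ k = 3 := by
      have : k ≤ 4 := by nlinarith
      have : t ≤ 4 := by nlinarith
      interval_cases k <;> interval_cases t <;> simp at htk ⊢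
    by_cases h5 : 5 ≤ Fintype.card F
    · refine Or.inr (Or.inr (Or.inr (Or.inl ⟨h5, D, hD, cut _ hle fun hG => ?_⟩)))
      exact Cfsg.Agent.Classical.not_decomposition_of_centralizer (d := 2)
        (S := {x | x ∈ omegaGL (quadFormOdd 4 F) ∧ Cfsg.Agent.Classical.FixCodim 2 x}) (fun x hx => hx.2)
        (fun M hM => Cfsg.Agent.Classical.eichler_centralizer h2 (by norm_num) fun x hx hd => hM x ⟨hx, hd⟩)
        hD.decomp.decomp (by norm_num) fun x hx => hG hx.1
    · have hc3 : Fintype.card F = 3 := by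
        have := Fintype.one_lt_card (α := F)
        obtain ⟨u, hu⟩ := hodd
        omega
      obtain ⟨v, c, hc, hgram, hmove⟩ := Cfsg.Agent.Classical.three_spaces_lines hQ hc3 hD
      rcases Cfsg.Agent.Classical.orth_lines hQ h2 hoddι (by rw [hcard]; norm_num)
          (Cfsg.Agent.Classical.gram_quadFormOdd_mem (m := 4)) v hc hgram (H := H)
          (fun x hx => hmove x ⟨hle hx, hHI hx⟩) with
        ⟨hp, t', D', hD', hle'⟩ | ⟨F₁, r, P, hr, hcF, hrat, hle'⟩
      · exact Or.inr (Or.inr (Or.inl (hlines hp hD' hle')))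
      · exact Or.inr (Or.inr (Or.inr (Or.inr (Or.inr (Or.inl ⟨F₁, r, P, hr, hcF, hrat,
          cut _ hle' (huni.not_le_subfield hr hcF P)⟩)))))
  · exact Or.inr (Or.inr (Or.inl (hlines hp hD (hHM.trans inf_le_left))))
  · have hr3 : r = 3 := (Nat.prime_dvd_prime_iff_eq hr Nat.prime_three).mp (hr.dvd_of_dvd_pow (n := 2)
      (by have := Cfsg.Agent.Classical.fieldSubalgebra_finrank_dvd hK; rw [hcard] at this; simpa using this))
    subst hr3
    refine Or.inr (Or.inr (Or.inr (Or.inr (Or.inl ⟨K, hK, hsa, cut _ (hHM.trans inf_le_left) fun hG => ?_⟩))))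
    exact hgd.not_mem_subalgebraNormalizer hg1 (by rw [hcard]; norm_num) (by norm_num) hK (hG hg)
  · exfalso
    have := Fintype.card_congr e
    simp only [Fintype.card_prod, Fintype.card_fin, hcard] at this
    nlinarith
  · exact Or.inr (Or.inr (Or.inr (Or.inr (Or.inr (Or.inl ⟨F₀, r, P, hr, hc, hrat,
      cut _ (hHM.trans inf_le_left) (huni.not_le_subfield hr hc P)⟩)))))
  · have hn : k ^ t = 9 := by
      have := Fintype.card_congr e
      simp only [Fintype.card_fun, Fintype.card_fin, hcard] at this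
      exact this.symm
    have ht2 : t = 2 := by
      by_contra hne
      have : 3 ^ 3 ≤ k ^ t := (Nat.pow_le_pow_left hk 3).trans (Nat.pow_le_pow_right (by omega) (by omega))
      omega
    subst ht2
    obtain rfl : k = 3 := by nlinarith
    have h5 : 5 ≤ Fintype.card F := by
      have := Fintype.one_lt_card (α := F)
      obtain ⟨u, hu⟩ := hodd
      simp at hex
      omega
    exact Or.inr (Or.inr (Or.inr (Or.inr (Or.inr (Or.inr (Or.inl ⟨h5, e, P, f₁, hf₁, hT,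
      cut _ (hHM.trans inf_le_left) fun hG =>
        hgd.not_mem_wreath hg1 (by norm_num) le_rfl (Or.inr hgg) e P (hG hg)⟩))))))

end Cfsg.Agent.S5835
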