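import Cfsg.Statements.S5870
import Cfsg.Agent.Lib.Classical.RadicalQuad
import Cfsg.Agent.Lib.Classical.WittIndex
import Cfsg.Agent.Lib.Classical.RadicalQuadCases
import Cfsg.Agent.Lib.Classical.RadicalQuadSplit
import Cfsg.Agent.Lib.Classical.RadicalPoint
import Cfsg.Agent.Lib.Classical.ODecompMaximal
import Cfsg.Agent.Lib.Classical.ODecompEvenMaximal
import Cfsg.Agent.Lib.Classical.OrthEvenSplit
import Cfsg.Agent.Lib.Classical.OPlanes.Plus
import Cfsg.Agent.Lib.Classical.LinMaximalGeneral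
import Cfsg.Agent.Lib.Classical.FieldExt.Orth.Matrix
import Cfsg.Agent.Lib.Classical.MonomFrame.GeoFrame
import Cfsg.Agent.Lib.Classical.OQuadExtMax
import Cfsg.Agent.Lib.Classical.OSubAllTen
import Cfsg.Agent.S5702
import Cfsg.Agent.Lib.Classical.OrthTSPair
import Cfsg.Agent.Lib.Classical.TensorMax.Form.OFinal

set_option autoImplicit false
open Cfsg

namespace Cfsg.Agent.S5870

/-- Maximal subgroups of Ω_12^+(q) of geometric type (any q). Let F be a finite field with q elements (characteristic p), Q a non-degenerate quadratic form on F^12 (non-degenerate polar form) of plus type (Witt index 6: some totally singular 6-space), and Ω = Ω_12^+(q) the commutator subgroup of the isometry group of Q, inside GL_12(F). Each of the following, intersected with Ω, is a maximal subgroup of Ω: (1) the stabiliser of any non-zero subspace on which Q vanishes identically other than those of dimension 5 (totally singular subspaces, dimensions 1, 2, 3, 4 and 6); (2) for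 q odd, the stabiliser of any subspace of odd dimension on which the polar form of Q is non-degenerate; (3) the stabiliser of any non-degenerate 2-space of minus type (containing no non-zero singular vector); (4) for q ≥ 4, the stabiliser of any non-degenerate 2-space of plus type (containing a non-zero singular vector); (5) the stabiliser of any non-degenerate 4-space (either type); (6) for q even, the stabiliser of the 1-space spanned by any non-singular vector v (Q(v) ≠ 0); (7) for q = p an odd prime, the stabiliser of any decomposition of F^12 into 12 pairwise orthogonal, pairwise Q-isometric non-degenerate 1-spaces; (8) for q ≥ 7, the stabiliser of any decomposition of F^12 into 6 pairwise orthogonal, pairwise Q-isometric non-degenerate 2-spaces of plus type; (9) for q ≠ 3, the stabiliser of any decomposition of F^12 into 6 pairwise orthogonal, pairwise Q-isometric non-degenerate 2-spaces of minus type; (10) for q odd with q ≥ 5, the stabiliser of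 any decomposition of F^12 into 4 pairwise orthogonal, pairwise Q-isometric non-degenerate 3-spaces; (11) for q ≥ 3, the stabiliser of any decomposition of F^12 into 3 pairwise orthogonal, pairwise Q-isometric non-degenerate 4-spaces; (12) the stabiliser of any decomposition of F^12 into 2 pairwise orthogonal, pairwise Q-isometric non-degenerate 6-spaces; (13) the stabiliser of any decomposition into two totally singular 6-spaces; (14) for q odd, the normaliser of any degree-2 subfield K of the matrix algebra whose elements are self-adjoint for the polar form of Q (Q is then the trace of a quadratic form over K); (15) for q odd, the normaliser of any degree-3 subfield K of the matrix algebra whose elements are self-adjoint for the polar form of Q (Q is then the trace of a quadratic form over K); (16) the normaliser of any degree-2 subfield K of the matrix algebra, closed under adjoints for the polar form but not self-adjoint, whose elements act as similarities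 of Q (so F^12 becomes a 6-dimensional space over K with a hermitian form, and the subgroup is of the type of the unitary group GU_6(q)); (17) for q ≥ 3, the stabiliser of any tensor decomposition F^12 = F^2 ⊗ F^6 in which the polar form of Q is (alternating form) ⊗ (alternating form) up to a scalar and Q vanishes on all pure tensors; (18) every subfield group for a subfield F₀ with |F| = |F₀|^r, r prime, whose F₀-structure carries a non-zero scalar multiple of Q. -/
theorem result {F : Type*} [Field F] [Fintype F] (Q : (Fin 12 → F) → F) (hQ : Cfsg.Geo.IsNondegenerateQuadraticForm Q) (hplus : Cfsg.Geo.IsPlusTypeOn Q ⊤) :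
    (∀ W : Submodule F (Fin 12 → F), W ≠ ⊥ → Cfsg.Geo.IsTotallySingularQuad Q W → Module.finrank F W ≠ 5 → Cfsg.Geo.IsMaximalIn (Cfsg.Geo.omegaGL Q) (Cfsg.Geo.subspaceStabilizer W ⊓ Cfsg.Geo.omegaGL Q)) ∧
    (Odd (Fintype.card F) → ∀ W : Submodule F (Fin 12 → F), W ≠ ⊥ → W ≠ ⊤ → Odd (Module.finrank F W) → 2 * Module.finrank F W ≠ 12 → Cfsg.Geo.IsNondegenerateOn (QuadraticMap.polar Q) W → Cfsg.Geo.IsMaximalIn (Cfsg.Geo.omegaGL Q) (Cfsg.Geo.subspaceStabilizer W ⊓ Cfsg.Geo.omegaGL Q)) ∧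
    (∀ W : Submodule F (Fin 12 → F), Module.finrank F W = 2 → Cfsg.Geo.IsNondegenerateOn (QuadraticMap.polar Q) W → ¬ Cfsg.Geo.IsPlusTypeOn Q W → Cfsg.Geo.IsMaximalIn (Cfsg.Geo.omegaGL Q) (Cfsg.Geo.subspaceStabilizer W ⊓ Cfsg.Geo.omegaGL Q)) ∧
    (4 ≤ Fintype.card F → ∀ W : Submodule F (Fin 12 → F), Module.finrank F W = 2 → Cfsg.Geo.IsNondegenerateOn (QuadraticMap.polar Q) W → Cfsg.Geo.IsPlusTypeOn Q W → Cfsg.Geo.IsMaximalIn (Cfsg.Geo.omegaGL Q) (Cfsg.Geo.subspaceStabilizer W ⊓ Cfsg.Geo.omegaGL Q)) ∧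
    (∀ W : Submodule F (Fin 12 → F), Module.finrank F W = 4 → Cfsg.Geo.IsNondegenerateOn (QuadraticMap.polar Q) W → Cfsg.Geo.IsMaximalIn (Cfsg.Geo.omegaGL Q) (Cfsg.Geo.subspaceStabilizer W ⊓ Cfsg.Geo.omegaGL Q)) ∧
    (¬ Odd (Fintype.card F) → ∀ v : (Fin 12 → F), Q v ≠ 0 → Cfsg.Geo.IsMaximalIn (Cfsg.Geo.omegaGL Q) (Cfsg.Geo.subspaceStabilizer (Submodule.span F {v}) ⊓ Cfsg.Geo.omegaGL Q)) ∧
    ((∃ p : ℕ, p.Prime ∧ Odd p ∧ Fintype.card F = p) → ∀ D : Fin 12 → Submodule F (Fin 12 → F), Cfsg.Geo.IsOrthogonalMDecomposition Q 1 D → Cfsg.Geo.IsMaximalIn (Cfsg.Geo.omegaGL Q) (Cfsg.Geo.decompositionStabilizer D ⊓ Cfsg.Geo.omegaGL Q)) ∧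
    (7 ≤ Fintype.card F → ∀ D : Fin 6 → Submodule F (Fin 12 → F), Cfsg.Geo.IsOrthogonalMDecomposition Q 2 D → (∀ i, Cfsg.Geo.IsPlusTypeOn Q (D i)) → Cfsg.Geo.IsMaximalIn (Cfsg.Geo.omegaGL Q) (Cfsg.Geo.decompositionStabilizer D ⊓ Cfsg.Geo.omegaGL Q)) ∧
    (Fintype.card F ≠ 3 → ∀ D : Fin 6 → Submodule F (Fin 12 → F), Cfsg.Geo.IsOrthogonalMDecomposition Q 2 D → (∀ i, ¬ Cfsg.Geo.IsPlusTypeOn Q (D i)) → Cfsg.Geo.IsMaximalIn (Cfsg.Geo.omegaGL Q) (Cfsg.Geo.decompositionStabilizer D ⊓ Cfsg.Geo.omegaGL Q)) ∧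
    (Odd (Fintype.card F) ∧ 5 ≤ Fintype.card F → ∀ D : Fin 4 → Submodule F (Fin 12 → F), Cfsg.Geo.IsOrthogonalMDecomposition Q 3 D → Cfsg.Geo.IsMaximalIn (Cfsg.Geo.omegaGL Q) (Cfsg.Geo.decompositionStabilizer D ⊓ Cfsg.Geo.omegaGL Q)) ∧
    (3 ≤ Fintype.card F → ∀ D : Fin 3 → Submodule F (Fin 12 → F), Cfsg.Geo.IsOrthogonalMDecomposition Q 4 D → Cfsg.Geo.IsMaximalIn (Cfsg.Geo.omegaGL Q) (Cfsg.Geo.decompositionStabilizer D ⊓ Cfsg.Geo.omegaGL Q)) ∧
    (∀ D : Fin 2 → Submodule F (Fin 12 → F), Cfsg.Geo.IsOrthogonalMDecomposition Q 6 D → Cfsg.Geo.IsMaximalIn (Cfsg.Geo.omegaGL Q) (Cfsg.Geo.decompositionStabilizer D ⊓ Cfsg.Geo.omegaGL Q)) ∧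
    (∀ D : Fin 2 → Submodule F (Fin 12 → F), Cfsg.Geo.IsMDecomposition 6 D → (∀ i, Cfsg.Geo.IsTotallySingularQuad Q (D i)) → Cfsg.Geo.IsMaximalIn (Cfsg.Geo.omegaGL Q) (Cfsg.Geo.decompositionStabilizer D ⊓ Cfsg.Geo.omegaGL Q)) ∧
    (Odd (Fintype.card F) → ∀ K : Subalgebra F (Matrix (Fin 12) (Fin 12) F), Cfsg.Geo.IsFieldSubalgebra 2 K → Cfsg.Geo.IsSelfAdjointFor (QuadraticMap.polar Q) K → Cfsg.Geo.IsMaximalIn (Cfsg.Geo.omegaGL Q) (Cfsg.Geo.subalgebraNormalizer K ⊓ Cfsg.Geo.omegaGL Q)) ∧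
    (Odd (Fintype.card F) → ∀ K : Subalgebra F (Matrix (Fin 12) (Fin 12) F), Cfsg.Geo.IsFieldSubalgebra 3 K → Cfsg.Geo.IsSelfAdjointFor (QuadraticMap.polar Q) K → Cfsg.Geo.IsMaximalIn (Cfsg.Geo.omegaGL Q) (Cfsg.Geo.subalgebraNormalizer K ⊓ Cfsg.Geo.omegaGL Q)) ∧
    (∀ K : Subalgebra F (Matrix (Fin 12) (Fin 12) F), Cfsg.Geo.IsFieldSubalgebra 2 K → Cfsg.Geo.IsAdjointClosedFor (QuadraticMap.polar Q) K → ¬ Cfsg.Geo.IsSelfAdjointFor (QuadraticMap.polar Q) K → (∀ k ∈ K, ∃ c : F, ∀ v : (Fin 12 → F), Q (Matrix.mulVec k v) = c * Q v) → Cfsg.Geo.IsMaximalIn (Cfsg.Geo.omegaGL Q) (Cfsg.Geo.subalgebraNormalizer K ⊓ Cfsg.Geo.omegaGL Q)) ∧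
    (3 ≤ Fintype.card F → ∀ (e : Fin 12 ≃ Fin 2 × Fin 6) (P : Matrix.GeneralLinearGroup (Fin 12) F) (f₁ : (Fin 2 → F) → (Fin 2 → F) → F) (f₂ : (Fin 6 → F) → (Fin 6 → F) → F), Cfsg.Geo.IsSymplecticForm f₁ → Cfsg.Geo.IsSymplecticForm f₂ → Cfsg.Geo.IsTensorFormStructure id (QuadraticMap.polar Q) f₁ f₂ e P → (∀ (x₁ : Fin 2 → F) (x₂ : Fin 6 → F), Q (Matrix.mulVec (P : Matrix (Fin 12) (Fin 12) F) ((fun a : Fin 2 × Fin 6 => x₁ a.1 * x₂ a.2) ∘ e)) = 0) → Cfsg.Geo.IsMaximalIn (Cfsg.Geo.omegaGL Q) (Cfsg.Geo.tensorProductSubgroup 2 6 e P ⊓ Cfsg.Geo.omegaGL Q)) ∧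
    (∀ (F₀ : Subfield F) (r : ℕ) (P : Matrix.GeneralLinearGroup (Fin 12) F) (ζ : F), r.Prime → Fintype.card F = Nat.card F₀ ^ r → ζ ≠ 0 → Cfsg.Geo.IsQuadFormRationalStructure (fun v : Fin 12 → F => ζ * Q v) F₀ P → Cfsg.Geo.IsMaximalIn (Cfsg.Geo.omegaGL Q) (Cfsg.Geo.subfieldSubgroup F₀ P ⊓ Cfsg.Geo.omegaGL Q)) := by
  classical
  have h2e : ¬ Odd (Fintype.card F) → (2 : F) = 0 := fun h => by
    have hc : ringChar F = 2 := by
      by_contra hc
      exact h (Nat.odd_iff.mpr (FiniteField.odd_card_of_char_ne_two hc))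
    haveI := ringChar.of_eq hc
    exact_mod_cast CharP.cast_eq_zero F 2
  have h2o : Odd (Fintype.card F) → (2 : F) ≠ 0 := fun hodd h => by
    haveI := ringChar.charP F
    haveI : CharP F 2 := CharTwo.of_one_ne_zero_of_two_eq_zero one_ne_zero h
    exact (Nat.not_even_iff_odd.mpr hodd) (Nat.even_iff.mpr (FiniteField.even_card_of_char_two (ringChar.eq F 2)))
  obtain ⟨Qf, rfl, hPND⟩ := Cfsg.Agent.Classical.ONotMax.exists_qform hQ
  have hc7 : 7 ≤ Fintype.card (Fin 12) := by rw [Fintype.card_fin]; omega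
  have hc9 : 9 ≤ Fintype.card (Fin 12) := by rw [Fintype.card_fin]; omega
  have hle : ∀ U : Submodule F (Fin 12 → F), (∀ x ∈ U, Qf x = 0) → 2 * Module.finrank F U ≤ 12 := fun U hU => by
    have hle := Cfsg.Agent.Classical.Witt.finrank_le_half Qf (Cfsg.Agent.Classical.ORefl.nondeg hPND) hU
    rwa [Module.finrank_fin_fun] at hle
  have hext : ∀ (W : Submodule F (Fin 12 → F)), (∀ x ∈ W, Qf x = 0) → ∀ u, Qf u = 0 → u ∉ W →
      (∀ w ∈ W, QuadraticMap.polar (⇑Qf) u w = 0) →
      ∃ U : Submodule F (Fin 12 → F), (∀ x ∈ U, Qf x = 0) ∧ Module.finrank F W + 1 ≤ Module.finrank F U := by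
    intro W hW u hu huW huo
    refine ⟨W ⊔ Submodule.span F {u}, fun x hx => ?_, Submodule.finrank_lt_finrank_of_lt
      (lt_of_le_of_ne le_sup_left fun e => huW (e ▸ Submodule.mem_sup_right (Submodule.mem_span_singleton_self u)))⟩
    obtain ⟨w, hw, z, hz, rfl⟩ := Submodule.mem_sup.mp hx
    obtain ⟨c, rfl⟩ := Submodule.mem_span_singleton.mp hz
    rw [QuadraticMap.map_add ⇑Qf, QuadraticMap.map_smul, hu, hW w hw, QuadraticMap.polar_smul_right,
      QuadraticMap.polar_comm, huo w hw]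
    simp
  refine ⟨fun W hW0 hW hW5 => ?_, fun hodd W hW0 hW1 hWo hW6 hWn => ?_, fun W hW2 hWn hWm => ?_,
    fun hq W hW2 hWn _ => ?_, fun W hW4 hWn => ?_, fun he v hv => ?_, fun hp D hD => ?_,
    fun hq D hD _ => ?_, fun hq D hD hDm => ?_, fun hq D hD => ?_, fun hq D hD => ?_, fun D hD => ?_,
    fun D hD hts => ?_, fun hodd K hK hsa => ?_, fun hodd K hK hsa => ?_, fun K hK hac hnsa hsc => ?_,
    fun hq e P f₁ f₂ hA hB hT hpure => ?_, fun F₀ r P ζ hr hcard hζ hP => ?_⟩
  · refine Cfsg.Agent.Classical.Radical.isMaximal_quad hPND hc7 hW0 hW fun u hu huW huo => ?_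
    obtain ⟨U, hU, hlt⟩ := hext W hW u hu huW huo
    have := hle U hU
    rw [Fintype.card_fin]
    omega
  · obtain ⟨j, hj⟩ := hWo
    refine Cfsg.Agent.Classical.Radical.isMaximal_quadAny_five hPND hc7 hW0 hW1 hWn
      (fun h => by rw [Fintype.card_fin] at h; omega) (fun _ U hU _ _ h => ?_) (Or.inr (Or.inr hc9))
    rw [Fintype.card_fin] at h
    rcases h with rfl | ⟨-, h⟩ <;> omega
  · refine Cfsg.Agent.Classical.Radical.isMaximal_quadAny_five hPND hc7
      (fun e => by rw [e, finrank_bot] at hW2; omega)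
      (fun e => by rw [e, finrank_top, Module.finrank_fin_fun] at hW2; omega) hWn
      (fun h => by rw [Fintype.card_fin] at h; omega) (fun _ U hU _ hUp h => ?_) (Or.inr (Or.inr hc9))
    rw [Fintype.card_fin] at h
    rcases h with rfl | ⟨-, h⟩
    · exact hWm hUp
    · omega
  · exact Cfsg.Agent.Classical.Radical.isMaximal_quadAny_five hPND hc7
      (fun e => by rw [e, finrank_bot] at hW2; omega)
      (fun e => by rw [e, finrank_top, Module.finrank_fin_fun] at hW2; omega) hWn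
      (fun h => by rw [Fintype.card_fin] at h; omega) (fun h => by omega) (Or.inr (Or.inr hc9))
  · refine Cfsg.Agent.Classical.Radical.isMaximal_quadAny_five hPND hc7
      (fun e => by rw [e, finrank_bot] at hW4; omega)
      (fun e => by rw [e, finrank_top, Module.finrank_fin_fun] at hW4; omega) hWn
      (fun h => by rw [Fintype.card_fin] at h; omega) (fun _ U hU _ _ h => ?_) (Or.inr (Or.inr hc9))
    rw [Fintype.card_fin] at h
    rcases h with rfl | ⟨-, h⟩ <;> omega
  · exact Cfsg.Agent.Classical.Radical.isMaximal_point hPND (by rw [Fintype.card_fin]; omega) (h2e he) hv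
  · refine Cfsg.Agent.Classical.MFrame.geo_frame_stabilizer_maximal (by omega) (by decide) _ hQ ?_ D hD
    obtain ⟨p, hp, hp'⟩ := hp
    exact ⟨p, hp, hp'⟩
  · exact Cfsg.Agent.Classical.OPlanes.isMaximal hPND (by omega) hD (by omega) (fun _ => hq)
  · exact Cfsg.Agent.Classical.OPlanes.isMaximal hPND (by omega) hD hq
      (fun hall => absurd (hall ⟨0, by omega⟩) (hDm _))
  · exact Cfsg.Agent.Classical.ODecomp.isMaximal hQ hPND (h2o hq.1) hc7 hD le_rfl (fun h => by omega)
  · by_cases h2 : (2 : F) = 0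
    · exact Cfsg.Agent.Classical.ODecompEven.isMaximal hQ hPND h2 hc7 hD le_rfl (fun h => absurd h (by omega))
    · exact Cfsg.Agent.Classical.ODecomp.isMaximal hQ hPND h2 hc7 hD (by omega) (fun h => by omega)
  · by_cases h2 : (2 : F) = 0
    · exact Cfsg.Agent.Classical.ODecompEven.isMaximal hQ hPND h2 hc7 hD (by omega) (fun _ h => absurd h (by omega))
    · exact Cfsg.Agent.Classical.ODecomp.isMaximal hQ hPND h2 hc7 hD (by omega) (fun h => by omega)
  · exact Cfsg.Agent.Classical.OTSPair.isMaximal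
      (⟨hPND, hD, hts, le_rfl, by rw [Fintype.card_fin]⟩ : Cfsg.Agent.Classical.OTSPair.PairData Qf 6 D) (by decide)
  · refine Cfsg.Agent.Classical.FieldExt.Orth.extension_normalizer_maximal' _ hQ (h2o hodd) 2 Nat.prime_two
      (fun k hk => ?_) K hK hsa
    rw [Fintype.card_fin] at hk
    exact ⟨by omega, Or.inl (by omega)⟩
  · refine Cfsg.Agent.Classical.FieldExt.Orth.extension_normalizer_maximal' _ hQ (h2o hodd) 3 Nat.prime_three
      (fun k hk => ?_) K hK hsa
    rw [Fintype.card_fin] at hk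
    exact ⟨by omega, Or.inl (by omega)⟩
  · exact Cfsg.Agent.Classical.OQExt.isMaximal_normalizer (by omega) (by decide) _ hQ K hK hac hnsa hsc
  · exact Cfsg.Agent.Classical.TensorMax.Form.isMaximalIn_omega' le_rfl _ hQ (by omega) (fun h => by omega) e P hA hB hT hpure
  · rw [← Cfsg.Agent.S5702.omegaGL_scaled (⇑Qf) hζ]
    exact Cfsg.Agent.Classical.OSubAll.isMaximal_ten (Cfsg.Agent.S5702.scaled_nondeg hQ hζ)
      (by rw [Fintype.card_fin]; omega) F₀ hr hcard P hP

end Cfsg.Agent.S5870
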