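import Cfsg.Statements.S5873
import Cfsg.Agent.Lib.Classical.RadicalQuad
import Cfsg.Agent.Lib.Classical.WittIndex
import Cfsg.Agent.Lib.Classical.RadicalQuadCases
import Cfsg.Agent.Lib.Classical.RadicalPoint
import Cfsg.Agent.Lib.Classical.ODecompMaximal
import Cfsg.Agent.Lib.Classical.ODecompEvenMaximal
import Cfsg.Agent.Lib.Classical.FieldExt.Orth.Matrix
import Cfsg.Agent.Lib.Classical.TensorThreeFour.Final
import Cfsg.Agent.Lib.Classical.OSubAllEight
import Cfsg.Agent.Lib.Classical.OSubSmall.Maximal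
import Cfsg.Agent.S5702

set_option autoImplicit false
open Cfsg

namespace Cfsg.Agent.S5873

/-- Maximal subgroups of Ω_12^-(q) of geometric type (any q). Let F be a finite field with q elements (characteristic p), Q a non-degenerate quadratic form on F^12 (non-degenerate polar form) of minus type (Witt index 5: no totally singular 6-space), and Ω = Ω_12^-(q) the commutator subgroup of the isometry group of Q, inside GL_12(F). Each of the following, intersected with Ω, is a maximal subgroup of Ω: (1) the stabiliser of any non-zero subspace on which Q vanishes identically (totally singular subspaces, dimensions 1 to 5); (2) for q odd, the stabiliser of any subspace of odd dimension on which the polar form of Q is non-degenerate; (3) the stabiliser of any non-degenerate 2-space of minus type (containing no non-zero singular vector); (4) for q ≥ 4, the stabiliser of any non-degenerate 2-space of plus type (containing a non-zero singular vector); (5) the stabiliser of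 any non-degenerate 4-space (either type); (6) the stabiliser of any non-degenerate 6-space (either type); (7) for q even, the stabiliser of the 1-space spanned by any non-singular vector v (Q(v) ≠ 0); (8) the stabiliser of any decomposition of F^12 into 3 pairwise orthogonal, pairwise Q-isometric non-degenerate 4-spaces of minus type; (9) for q odd, the normaliser of any degree-2 subfield K of the matrix algebra whose elements are self-adjoint for the polar form of Q (Q is then the trace of a quadratic form over K); (10) for q odd, the normaliser of any degree-3 subfield K of the matrix algebra whose elements are self-adjoint for the polar form of Q (Q is then the trace of a quadratic form over K); (11) for q odd with q ≥ 5, the stabiliser of any tensor decomposition F^12 = F^3 ⊗ F^4 in which the polar form of Q is the product of non-degenerate symmetric bilinear forms, the second of minus type, up to a scalar; (12) every subfield group for a subfield F₀ with |F| =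 |F₀|^r, r an odd prime, whose F₀-structure carries a non-zero scalar multiple of Q. -/
theorem result {F : Type*} [Field F] [Fintype F] (Q : (Fin 12 → F) → F) (hQ : Cfsg.Geo.IsNondegenerateQuadraticForm Q) (hminus : ¬ Cfsg.Geo.IsPlusTypeOn Q ⊤) :
    (∀ W : Submodule F (Fin 12 → F), W ≠ ⊥ → Cfsg.Geo.IsTotallySingularQuad Q W → Cfsg.Geo.IsMaximalIn (Cfsg.Geo.omegaGL Q) (Cfsg.Geo.subspaceStabilizer W ⊓ Cfsg.Geo.omegaGL Q)) ∧
    (Odd (Fintype.card F) → ∀ W : Submodule F (Fin 12 → F), W ≠ ⊥ → W ≠ ⊤ → Odd (Module.finrank F W) → 2 * Module.finrank F W ≠ 12 → Cfsg.Geo.IsNondegenerateOn (QuadraticMap.polar Q) W → Cfsg.Geo.IsMaximalIn (Cfsg.Geo.omegaGL Q) (Cfsg.Geo.subspaceStabilizer W ⊓ Cfsg.Geo.omegaGL Q)) ∧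
    (∀ W : Submodule F (Fin 12 → F), Module.finrank F W = 2 → Cfsg.Geo.IsNondegenerateOn (QuadraticMap.polar Q) W → ¬ Cfsg.Geo.IsPlusTypeOn Q W → Cfsg.Geo.IsMaximalIn (Cfsg.Geo.omegaGL Q) (Cfsg.Geo.subspaceStabilizer W ⊓ Cfsg.Geo.omegaGL Q)) ∧
    (4 ≤ Fintype.card F → ∀ W : Submodule F (Fin 12 → F), Module.finrank F W = 2 → Cfsg.Geo.IsNondegenerateOn (QuadraticMap.polar Q) W → Cfsg.Geo.IsPlusTypeOn Q W → Cfsg.Geo.IsMaximalIn (Cfsg.Geo.omegaGL Q) (Cfsg.Geo.subspaceStabilizer W ⊓ Cfsg.Geo.omegaGL Q)) ∧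
    (∀ W : Submodule F (Fin 12 → F), Module.finrank F W = 4 → Cfsg.Geo.IsNondegenerateOn (QuadraticMap.polar Q) W → Cfsg.Geo.IsMaximalIn (Cfsg.Geo.omegaGL Q) (Cfsg.Geo.subspaceStabilizer W ⊓ Cfsg.Geo.omegaGL Q)) ∧
    (∀ W : Submodule F (Fin 12 → F), Module.finrank F W = 6 → Cfsg.Geo.IsNondegenerateOn (QuadraticMap.polar Q) W → Cfsg.Geo.IsMaximalIn (Cfsg.Geo.omegaGL Q) (Cfsg.Geo.subspaceStabilizer W ⊓ Cfsg.Geo.omegaGL Q)) ∧
    (¬ Odd (Fintype.card F) → ∀ v : (Fin 12 → F), Q v ≠ 0 → Cfsg.Geo.IsMaximalIn (Cfsg.Geo.omegaGL Q) (Cfsg.Geo.subspaceStabilizer (Submodule.span F {v}) ⊓ Cfsg.Geo.omegaGL Q)) ∧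
    (∀ D : Fin 3 → Submodule F (Fin 12 → F), Cfsg.Geo.IsOrthogonalMDecomposition Q 4 D → (∀ i, ¬ Cfsg.Geo.IsPlusTypeOn Q (D i)) → Cfsg.Geo.IsMaximalIn (Cfsg.Geo.omegaGL Q) (Cfsg.Geo.decompositionStabilizer D ⊓ Cfsg.Geo.omegaGL Q)) ∧
    (Odd (Fintype.card F) → ∀ K : Subalgebra F (Matrix (Fin 12) (Fin 12) F), Cfsg.Geo.IsFieldSubalgebra 2 K → Cfsg.Geo.IsSelfAdjointFor (QuadraticMap.polar Q) K → Cfsg.Geo.IsMaximalIn (Cfsg.Geo.omegaGL Q) (Cfsg.Geo.subalgebraNormalizer K ⊓ Cfsg.Geo.omegaGL Q)) ∧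
    (Odd (Fintype.card F) → ∀ K : Subalgebra F (Matrix (Fin 12) (Fin 12) F), Cfsg.Geo.IsFieldSubalgebra 3 K → Cfsg.Geo.IsSelfAdjointFor (QuadraticMap.polar Q) K → Cfsg.Geo.IsMaximalIn (Cfsg.Geo.omegaGL Q) (Cfsg.Geo.subalgebraNormalizer K ⊓ Cfsg.Geo.omegaGL Q)) ∧
    (Odd (Fintype.card F) ∧ 5 ≤ Fintype.card F → ∀ (e : Fin 12 ≃ Fin 3 × Fin 4) (P : Matrix.GeneralLinearGroup (Fin 12) F) (f₁ : (Fin 3 → F) → (Fin 3 → F) → F) (f₂ : (Fin 4 → F) → (Fin 4 → F) → F), Cfsg.Geo.IsSymmetricForm f₁ → Cfsg.Geo.IsSymmetricForm f₂ → ¬ Cfsg.Geo.IsPlusTypeOn (fun v : Fin 4 → F => f₂ v v) ⊤ → Cfsg.Geo.IsTensorFormStructure id (QuadraticMap.polar Q) f₁ f₂ e P → Cfsg.Geo.IsMaximalIn (Cfsg.Geo.omegaGL Q) (Cfsg.Geo.tensorProductSubgroup 3 4 e P ⊓ Cfsg.Geo.omegaGL Q)) ∧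
    (∀ (F₀ : Subfield F) (r : ℕ) (P : Matrix.GeneralLinearGroup (Fin 12) F) (ζ : F), r.Prime → Odd r → Fintype.card F = Nat.card F₀ ^ r → ζ ≠ 0 → Cfsg.Geo.IsQuadFormRationalStructure (fun v : Fin 12 → F => ζ * Q v) F₀ P → Cfsg.Geo.IsMaximalIn (Cfsg.Geo.omegaGL Q) (Cfsg.Geo.subfieldSubgroup F₀ P ⊓ Cfsg.Geo.omegaGL Q)) := by
  classical
  have h2e : ¬ Odd (Fintype.card F) → (2 : F) = 0 := fun h => by
    have hc : ringChar F = 2 := by
      by_contra hc
      exact h (Nat.odd_iff.mpr (FiniteField.odd_card_of_char_ne_two hc))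
    haveI := ringChar.of_eq hc
    exact_mod_cast CharP.cast_eq_zero F 2
  have h2o : Odd (Fintype.card F) → (2 : F) ≠ 0 := fun hodd h => by
    haveI := ringChar.charP F
    haveI : CharP F 2 := CharTwo.of_one_ne_zero_of_two_eq_zero one_ne_zero h
    exact (Nat.not_even_iff_odd.mpr hodd) (Nat.even_iff.mpr (FiniteField.even_card_of_char_two (ringChar.eq F 2)))
  obtain ⟨Qf, rfl, hPND⟩ := Cfsg.Agent.Classical.ONotMax.exists_qform hQ
  have hno : ∀ U : Submodule F (Fin 12 → F), (∀ x ∈ U, Qf x = 0) → 2 * Module.finrank F U < 12 := fun U hU => by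
    have hle := Cfsg.Agent.Classical.Witt.finrank_le_half Qf (Cfsg.Agent.Classical.ORefl.nondeg hPND) hU
    rw [Module.finrank_fin_fun] at hle
    refine lt_of_le_of_ne hle fun e => hminus ⟨U, le_top, hU, ?_⟩
    rw [e, finrank_top, Module.finrank_fin_fun]
  have hc7 : 7 ≤ Fintype.card (Fin 12) := by rw [Fintype.card_fin]; omega
  have hc9 : 9 ≤ Fintype.card (Fin 12) := by rw [Fintype.card_fin]; omega
  refine ⟨fun W hW0 hW => ?_, fun hodd W hW0 hW1 hWo hW6 hWn => ?_, fun W hW2 hWn hWm => ?_,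
    fun hq W hW2 hWn _ => ?_, fun W hW4 hWn => ?_, fun W hW6 hWn => ?_, fun he v hv => ?_, fun D hD hDm => ?_,
    fun hodd K hK hsa => ?_, fun hodd K hK hsa => ?_, fun hq e P f₁ f₂ hA hB hm hT => ?_,
    fun F₀ r P ζ hr hro hcard hζ hP => ?_⟩
  · refine Cfsg.Agent.Classical.Radical.isMaximal_quad hPND hc7 hW0 hW fun u hu huW huo => ?_
    have hext : ∀ x ∈ W ⊔ Submodule.span F {u}, Qf x = 0 := fun x hx => by
      obtain ⟨w, hw, z, hz, rfl⟩ := Submodule.mem_sup.mp hx
      obtain ⟨c, rfl⟩ := Submodule.mem_span_singleton.mp hz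
      rw [QuadraticMap.map_add ⇑Qf, QuadraticMap.map_smul, hu, hW w hw, QuadraticMap.polar_smul_right,
        QuadraticMap.polar_comm, huo w hw]
      simp
    have hlt : Module.finrank F W < Module.finrank F ↥(W ⊔ Submodule.span F {u}) :=
      Submodule.finrank_lt_finrank_of_lt (lt_of_le_of_ne le_sup_left fun e => huW (e ▸ Submodule.mem_sup_right
        (Submodule.mem_span_singleton_self u)))
    have := hno _ hext
    rw [Fintype.card_fin]
    omega
  · obtain ⟨j, hj⟩ := hWo
    refine Cfsg.Agent.Classical.Radical.isMaximal_quadAny_five hPND hc7 hW0 hW1 hWn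
      (fun h => by rw [Fintype.card_fin] at h; omega) (fun _ U hU _ _ h => ?_) (Or.inr (Or.inr hc9))
    rw [Fintype.card_fin] at h
    rcases h with rfl | ⟨-, h⟩ <;> omega
  · refine Cfsg.Agent.Classical.Radical.isMaximal_quadAny_five hPND hc7
      (fun e => by rw [e, finrank_bot] at hW2; omega)
      (fun e => by rw [e, finrank_top, Module.finrank_fin_fun] at hW2; omega) hWn
      (fun h => by rw [Fintype.card_fin] at h; omega) (fun _ U hU _ hUp h => ?_) (Or.inr (Or.inr hc9))
    rw [Fintype.card_fin] at h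
    rcases h with rfl | ⟨-, h⟩
    · exact hWm hUp
    · omega
  · exact Cfsg.Agent.Classical.Radical.isMaximal_quadAny_five hPND hc7
      (fun e => by rw [e, finrank_bot] at hW2; omega)
      (fun e => by rw [e, finrank_top, Module.finrank_fin_fun] at hW2; omega) hWn
      (fun h => by rw [Fintype.card_fin] at h; omega) (fun h => by omega) (Or.inr (Or.inr hc9))
  · refine Cfsg.Agent.Classical.Radical.isMaximal_quadAny_five hPND hc7
      (fun e => by rw [e, finrank_bot] at hW4; omega)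
      (fun e => by rw [e, finrank_top, Module.finrank_fin_fun] at hW4; omega) hWn
      (fun h => by rw [Fintype.card_fin] at h; omega) (fun _ U hU _ _ h => ?_) (Or.inr (Or.inr hc9))
    rw [Fintype.card_fin] at h
    rcases h with rfl | ⟨-, h⟩ <;> omega
  · refine Cfsg.Agent.Classical.Radical.isMaximal_quadAny_five hPND hc7
      (fun e => by rw [e, finrank_bot] at hW6; omega)
      (fun e => by rw [e, finrank_top, Module.finrank_fin_fun] at hW6; omega) hWn
      (fun _ => ⟨by rw [hW6]; exact ⟨3, rfl⟩, hminus⟩) (fun _ U hU _ _ h => ?_) (Or.inr (Or.inr hc9))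
    rw [Fintype.card_fin] at h
    rcases h with rfl | ⟨-, h⟩ <;> omega
  · exact Cfsg.Agent.Classical.Radical.isMaximal_point hPND (by rw [Fintype.card_fin]; omega) (h2e he) hv
  · by_cases h2 : (2 : F) = 0
    · exact Cfsg.Agent.Classical.ODecompEven.isMaximal hQ hPND h2 hc7 hD le_rfl (fun _ _ i => hDm i)
    · exact Cfsg.Agent.Classical.ODecomp.isMaximal hQ hPND h2 hc7 hD (by omega) (fun h => by omega)
  · refine Cfsg.Agent.Classical.FieldExt.Orth.extension_normalizer_maximal' _ hQ (h2o hodd) 2 Nat.prime_two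
      (fun k hk => ?_) K hK hsa
    rw [Fintype.card_fin] at hk
    exact ⟨by omega, Or.inl (by omega)⟩
  · refine Cfsg.Agent.Classical.FieldExt.Orth.extension_normalizer_maximal' _ hQ (h2o hodd) 3 Nat.prime_three
      (fun k hk => ?_) K hK hsa
    rw [Fintype.card_fin] at hk
    exact ⟨by omega, Or.inl (by omega)⟩
  · exact Cfsg.Agent.Classical.TThreeFour.isMaximalIn_omega (h2o hq.1) hq.2 _ hQ e P hA hB hm hT
  · have hQ' := Cfsg.Agent.S5702.scaled_nondeg hQ hζ
    rw [← Cfsg.Agent.S5702.omegaGL_scaled (⇑Qf) hζ]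
    by_cases h2 : (2 : F) = 0
    · exact Cfsg.Agent.Classical.OSubAll.isMaximal_two hQ' (by rw [Fintype.card_fin]; omega) h2
        (fun U hU => by
          rw [Fintype.card_fin]
          exact hno U fun x hx => (mul_eq_zero.mp (hU x hx)).resolve_left hζ)
        F₀ hr hcard P hP
    · exact Cfsg.Agent.Classical.OSub7.isMaximal hQ' h2 hc7 hr (Or.inr hro) hcard P hP

end Cfsg.Agent.S5873
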