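import Cfsg.Statements.S5877
import Cfsg.Agent.Lib.Classical.ExtraspecialEigen
import Cfsg.Agent.Lib.Classical.SymplecticClassTwo
import Cfsg.Agent.Lib.Classical.LinBasic
import Mathlib.FieldTheory.IsAlgClosed.AlgebraicClosure

set_option autoImplicit false
open Cfsg

namespace Cfsg.Agent.S5877

open Cfsg.Geo Cfsg.Agent.Classical

variable {F : Type*} [Field F] {n : ℕ}

/-- Matrices over `F` as invertible operators over the algebraic closure. -/
noncomputable def rho (F : Type*) [Field F] (n : ℕ) :
    GL (Fin n) F →* (Module.End (AlgebraicClosure F) (Fin n → AlgebraicClosure F))ˣ :=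
  Units.map ((Matrix.toLinAlgEquiv' (R := AlgebraicClosure F) (n := Fin n)).toMonoidHom.comp
    (algebraMap F (AlgebraicClosure F)).mapMatrix.toMonoidHom)

theorem rho_coe (x : GL (Fin n) F) :
    ((rho F n x : (Module.End (AlgebraicClosure F) (Fin n → AlgebraicClosure F))ˣ) :
      Module.End (AlgebraicClosure F) (Fin n → AlgebraicClosure F)) =
      Matrix.toLinAlgEquiv' ((x : Matrix (Fin n) (Fin n) F).map (algebraMap F (AlgebraicClosure F))) := rfl

theorem rho_injective : Function.Injective (rho F n) := fun x y h => by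
  have h1 := congrArg Units.val h
  rw [rho_coe, rho_coe] at h1
  exact Units.ext (Matrix.map_injective (algebraMap F (AlgebraicClosure F)).injective
    ((Matrix.toLinAlgEquiv').injective h1))

theorem rho_scalar {z : GL (Fin n) F} (hz : z ∈ scalars (Fin n) F) : ∃ c : AlgebraicClosure F, c ≠ 0 ∧
    (rho F n z : Module.End (AlgebraicClosure F) (Fin n → AlgebraicClosure F)) = c • 1 := by
  obtain ⟨c, hc⟩ := (mem_scalars_iff z).mp hz
  refine ⟨algebraMap F _ c, by simp, ?_⟩
  have e : (z : Matrix (Fin n) (Fin n) F).map (algebraMap F (AlgebraicClosure F)) =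
      algebraMap F (AlgebraicClosure F) c • 1 := by
    ext i j
    rw [hc]
    simp [Matrix.one_apply, apply_ite (algebraMap F (AlgebraicClosure F))]
  rw [rho_coe, e, map_smul, map_one]

/-- The eigenspace does not shrink in the algebraic closure. -/
theorem eigen_le (g : GL (Fin n) F) (c : F) :
    Module.finrank F (Module.End.eigenspace (Matrix.toLin' (g : Matrix (Fin n) (Fin n) F)) c) ≤
      Module.finrank (AlgebraicClosure F) (Module.End.eigenspace
        (rho F n g : Module.End (AlgebraicClosure F) (Fin n → AlgebraicClosure F))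
        (algebraMap F (AlgebraicClosure F) c)) := by
  set W := Module.End.eigenspace (Matrix.toLin' (g : Matrix (Fin n) (Fin n) F)) c
  set w := Module.finrank F W
  let b := Module.finBasis F W
  let ι : (Fin w → F) →ₗ[F] (Fin n → F) := W.subtype.comp b.equivFun.symm.toLinearMap
  have hι : Function.Injective ι := W.injective_subtype.comp b.equivFun.symm.injective
  obtain ⟨π, hπ⟩ := LinearMap.exists_leftInverse_of_injective ι (LinearMap.ker_eq_bot.mpr hι)
  set B := LinearMap.toMatrix' ι
  set A := LinearMap.toMatrix' π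
  have hAB : A * B = 1 := by rw [← LinearMap.toMatrix'_comp, hπ, LinearMap.toMatrix'_id]
  have hgB : (g : Matrix (Fin n) (Fin n) F) * B = c • B := by
    apply Matrix.toLin'.injective
    rw [Matrix.toLin'_mul, map_smul, Matrix.toLin'_toMatrix']
    refine LinearMap.ext fun x => ?_
    exact Module.End.mem_eigenspace_iff.mp (b.equivFun.symm x).2
  set φ := algebraMap F (AlgebraicClosure F)
  have h1 : A.map φ * B.map φ = 1 := by rw [← Matrix.map_mul, hAB, Matrix.map_one φ (map_zero φ) (map_one φ)]
  have h2 : (g : Matrix (Fin n) (Fin n) F).map φ * B.map φ = φ c • B.map φ := by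
    rw [← Matrix.map_mul, hgB]
    ext i j
    simp
  let ι' := LinearMap.codRestrict (Module.End.eigenspace
      (rho F n g : Module.End (AlgebraicClosure F) (Fin n → AlgebraicClosure F)) (φ c))
    (Matrix.toLin' (B.map φ)) (fun x => by
      rw [Module.End.mem_eigenspace_iff, rho_coe, Matrix.toLinAlgEquiv'_apply, Matrix.toLin'_apply,
        Matrix.mulVec_mulVec, h2, Matrix.smul_mulVec])
  have hinj : Function.Injective ι' := by
    intro x y h
    have h' := congrArg Subtype.val h
    simp only [ι', LinearMap.codRestrict_apply, Matrix.toLin'_apply] at h'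
    have h3 := congrArg (Matrix.mulVec (A.map φ)) h'
    rwa [Matrix.mulVec_mulVec, Matrix.mulVec_mulVec, h1, Matrix.one_mulVec, Matrix.one_mulVec] at h3
  have := LinearMap.finrank_le_finrank_of_injective hinj
  rwa [Module.finrank_fintype_fun_eq_card, Fintype.card_fin] at this

/-- Eigenspaces of elements normalising an absolutely irreducible extraspecial group. Let F be a finite field, r a prime, and R ≤ GL_n(F) an absolutely irreducible extraspecial r-group (an r-group whose centre equals its derived subgroup and has order r) of exponent r or 4. Let g ∈ GL_n(F) normalise the product of R with the scalar matrices, have prime order ϖ and not be scalar, and let W be the eigenspace of g for any c ∈ F (W may be the zero subspace). Then dim W ≤ 3n/4 if ϖ = 2, dim W ≤ 2n/3 if ϖ = 3, and dim W ≤ n/2 if ϖ > 3; moreover if ϖ = 3 and 3 does not divide n then dim W ≤ n/2. -/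
theorem result {F : Type*} [Field F] [Fintype F] {n r ϖ : ℕ} (R : Subgroup (Matrix.GeneralLinearGroup (Fin n) F)) (hr : r.Prime) (hR : IsPGroup r R) (hZ : Nat.card (Subgroup.center R) = r) (hext : commutator R = Subgroup.center R) (hexp : Monoid.exponent R = r ∨ Monoid.exponent R = 4) (hirr : Cfsg.Geo.ActsAbsolutelyIrreducibly (Cfsg.Geo.matrixSet R)) (g : Matrix.GeneralLinearGroup (Fin n) F) (hg : g ∈ Cfsg.Geo.subgroupNormalizer (R ⊔ Cfsg.Geo.scalars (Fin n) F)) (hϖ : ϖ.Prime) (hord : orderOf g = ϖ) (hns : g ∉ Cfsg.Geo.scalars (Fin n) F) (c : F) :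
    (ϖ = 2 → 4 * Module.finrank F (Module.End.eigenspace (Matrix.toLin' (g : Matrix (Fin n) (Fin n) F)) c) ≤ 3 * n) ∧
    (ϖ = 3 → 3 * Module.finrank F (Module.End.eigenspace (Matrix.toLin' (g : Matrix (Fin n) (Fin n) F)) c) ≤ 2 * n) ∧
    (3 < ϖ → 2 * Module.finrank F (Module.End.eigenspace (Matrix.toLin' (g : Matrix (Fin n) (Fin n) F)) c) ≤ n) ∧
    (ϖ = 3 → ¬ 3 ∣ n → 2 * Module.finrank F (Module.End.eigenspace (Matrix.toLin' (g : Matrix (Fin n) (Fin n) F)) c) ≤ n) := by
  classical
  haveI : Fact r.Prime := ⟨hr⟩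
  have hirr' : ActsAbsolutelyIrreducibly (matrixSet R) := hirr
  have hn : 0 < n := by
    rcases Nat.eq_zero_or_pos n with rfl | h
    · exfalso
      haveI : Subsingleton (GL (Fin 0) F) := inferInstance
      rw [Nat.card_unique] at hZ
      exact hr.ne_one hZ.symm
    · exact h
  haveI : Nonempty (Fin n) := ⟨⟨0, hn⟩⟩
  let Z : Subgroup R := Subgroup.center R
  have hZs : ∀ x : R, (x : GL (Fin n) F) ∈ scalars (Fin n) F ↔ x ∈ Z := fun x =>
    ⟨fun h => Subgroup.mem_center_iff.mpr fun w => Subtype.ext (scalars_commute h w).symm,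
      fun h => mem_scalars_of_absIrr hirr' fun w hw =>
        (congrArg Subtype.val (Subgroup.mem_center_iff.mp h ⟨w, hw⟩)).symm⟩
  have hcomm : ∀ x y : R, x * y * x⁻¹ * y⁻¹ ∈ Z := fun x y => by
    show _ ∈ Subgroup.center R
    rw [← hext, ← commutatorElement_def]
    exact Subgroup.commutator_mem_commutator (Subgroup.mem_top x) (Subgroup.mem_top y)
  have hpowZ : ∀ x : R, x ^ r ∈ Z := fun x => Subgroup.mem_center_iff.mpr fun y => by
    set t := x * y * x⁻¹ * y⁻¹ with ht
    have htc := Subgroup.mem_center_iff.mp (hcomm x y)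
    have hk : ∀ k : ℕ, x ^ k * y = t ^ k * y * x ^ k := by
      intro k
      induction k with
      | zero => simp
      | succ k ih =>
        calc x ^ (k + 1) * y = x * (x ^ k * y) := by rw [pow_succ']; group
          _ = (x * t ^ k) * y * x ^ k := by rw [ih]; group
          _ = (t ^ k * x) * y * x ^ k := by rw [(Commute.pow_right (htc x) k).eq]
          _ = t ^ k * (t * y * x) * x ^ k := by rw [ht]; group
          _ = _ := by rw [pow_succ t, pow_succ' x]; group
    have ht1 : t ^ r = 1 := by
      have h1 : (⟨t, hcomm x y⟩ : Z) ^ r = 1 := by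
        have := pow_card_eq_one' (x := (⟨t, hcomm x y⟩ : Z))
        rwa [show Nat.card Z = r from hZ] at this
      simpa using congrArg Subtype.val h1
    rw [hk r, ht1, one_mul]
  let Q := R ⧸ Z
  haveI : Fintype Q := Fintype.ofFinite Q
  have hQcomm : ∀ a b : Q, a * b = b * a := by
    intro a b
    obtain ⟨x, rfl⟩ := QuotientGroup.mk_surjective a
    obtain ⟨y, rfl⟩ := QuotientGroup.mk_surjective b
    rw [← QuotientGroup.mk_mul, ← QuotientGroup.mk_mul, QuotientGroup.eq]
    have := hcomm y⁻¹ x⁻¹
    simpa [mul_assoc] using this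
  letI : CommGroup Q := { (inferInstance : Group Q) with mul_comm := hQcomm }
  have hcard : Fintype.card Q = n ^ 2 := by
    have h := card_sq_of_scalar_commutators hirr' (fun x hx y hy => by
      have := (hZs _).mpr (hcomm ⟨x, hx⟩ ⟨y, hy⟩)
      simpa using this)
    have h' := Subgroup.card_eq_card_quotient_mul_card_subgroup Z
    rw [Fintype.card_fin] at h
    rw [← Nat.card_eq_fintype_card]
    exact (Nat.eq_of_mul_eq_mul_right Nat.card_pos (h.trans h')).symm
  let ρ := rho F n
  let K := AlgebraicClosure F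
  have hsame : ∀ x y : R, (x : Q) = (y : Q) → ∃ d : K, d ≠ 0 ∧
      (ρ x : Module.End K (Fin n → K)) = d • (ρ y : Module.End K (Fin n → K)) := fun x y h => by
    have hz : y⁻¹ * x ∈ Z := QuotientGroup.eq.mp h.symm
    obtain ⟨d, hd0, hd⟩ := rho_scalar ((hZs _).mpr hz)
    refine ⟨d, hd0, ?_⟩
    rw [show (x : GL (Fin n) F) = (y : GL (Fin n) F) * ((y⁻¹ * x : R) : GL (Fin n) F) by
      rw [Subgroup.coe_mul, Subgroup.coe_inv, mul_inv_cancel_left], map_mul, Units.val_mul, hd, mul_smul_comm, mul_one]
  let M : Q → (Module.End K (Fin n → K))ˣ := fun q => ρ ((Quotient.out q : R) : GL (Fin n) F)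
  have hout : ∀ q : Q, ((Quotient.out q : R) : Q) = q := QuotientGroup.out_eq'
  have hmul : ∀ a b : Q, ∃ d : K, (M (a * b) : Module.End K (Fin n → K)) =
      d • ((M a : Module.End K (Fin n → K)) * M b) := fun a b => by
    obtain ⟨d, -, hd⟩ := hsame (Quotient.out (a * b)) (Quotient.out a * Quotient.out b)
      (by rw [hout, QuotientGroup.mk_mul, hout, hout])
    exact ⟨d, by rw [Subgroup.coe_mul, map_mul, Units.val_mul] at hd; exact hd⟩
  have htw : ∀ a b : Q, ∃ d : K, (M a : Module.End K (Fin n → K)) * M b =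
      d • ((M b : Module.End K (Fin n → K)) * M a) := fun a b => by
    obtain ⟨d, -, hd⟩ := rho_scalar ((hZs _).mpr (hcomm (Quotient.out a) (Quotient.out b)))
    refine ⟨d, ?_⟩
    set x : GL (Fin n) F := ((Quotient.out a : R) : GL (Fin n) F)
    set y : GL (Fin n) F := ((Quotient.out b : R) : GL (Fin n) F)
    rw [← Units.val_mul, ← Units.val_mul, ← map_mul, ← map_mul,
      show x * y = (x * y * x⁻¹ * y⁻¹) * (y * x) by group, map_mul, Units.val_mul,
      show (ρ (x * y * x⁻¹ * y⁻¹) : Module.End K (Fin n → K)) = d • 1 from hd, smul_mul_assoc, one_mul]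
  choose ee hee using htw
  have hrel : ∀ q : Q, ∃ (q' : Q) (d : K), (ρ g : Module.End K (Fin n → K)) * M q =
      d • ((M q' : Module.End K (Fin n → K)) * ρ g) := fun q => by
    set x : R := Quotient.out q
    have hmem : g * (x : GL (Fin n) F) * g⁻¹ ∈ R ⊔ scalars (Fin n) F :=
      (Subgroup.mem_normalizer_iff.mp hg _).mp (Subgroup.mem_sup_left x.2)
    haveI : (scalars (Fin n) F).Normal := ⟨fun z hz h => by
      rw [← scalars_commute hz h, mul_inv_cancel_right]; exact hz⟩
    obtain ⟨x', hx', z, hz, he⟩ := Subgroup.mem_sup_of_normal_right.mp hmem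
    obtain ⟨d₁, -, h1⟩ := rho_scalar hz
    obtain ⟨d₂, -, h2⟩ := hsame ⟨x', hx'⟩ (Quotient.out ((⟨x', hx'⟩ : R) : Q)) (hout _).symm
    refine ⟨((⟨x', hx'⟩ : R) : Q), d₁ * d₂, ?_⟩
    show (ρ g : Module.End K (Fin n → K)) * (ρ x : Module.End K (Fin n → K)) = _
    rw [← Units.val_mul, ← map_mul, show g * (x : GL (Fin n) F) = x' * z * g by rw [he]; group, map_mul, map_mul,
      Units.val_mul, Units.val_mul, h1, h2, mul_smul_comm, mul_one, smul_smul, smul_mul_assoc]
  choose φ sφ hφ using hrel
  have hns' : ∀ d : K, (ρ g : Module.End K (Fin n → K)) ≠ d • 1 := fun d hd => by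
    refine hns (mem_scalars_of_absIrr hirr' fun x hx => rho_injective ?_)
    rw [map_mul, map_mul]
    exact Units.ext (by rw [Units.val_mul, Units.val_mul, hd, smul_mul_assoc, mul_smul_comm, one_mul, mul_one])
  let D : EigenBound.Setup Q r ϖ (ρ g) :=
    { M := M
      hmul := hmul
      hr := hr
      hexp := fun a => by
        obtain ⟨x, rfl⟩ := QuotientGroup.mk_surjective a
        exact (QuotientGroup.mk_pow Z x r).symm.trans ((QuotientGroup.eq_one_iff _).mpr (hpowZ x))
      hcard := by rw [hcard, Module.finrank_fintype_fun_eq_card, Fintype.card_fin]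
      e := ee
      he := hee
      sep := fun a ha => by
        obtain ⟨w, hw⟩ : ∃ w : R, w * Quotient.out a ≠ Quotient.out a * w := by
          by_contra hcon
          push Not at hcon
          exact ha ((hout a).symm.trans ((QuotientGroup.eq_one_iff _).mpr (Subgroup.mem_center_iff.mpr hcon)))
        refine ⟨(w : Q), fun h1 => hw ?_⟩
        have h := hee a (w : Q)
        rw [h1, one_smul] at h
        have h' : Quotient.out a * Quotient.out (w : Q) = Quotient.out (w : Q) * Quotient.out a :=
          Subtype.ext (rho_injective (by rw [Subgroup.coe_mul, Subgroup.coe_mul, map_mul, map_mul]; exact Units.ext h))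
        have hz : (Quotient.out (w : Q))⁻¹ * w ∈ Z := QuotientGroup.eq.mp (hout _)
        have hc := Subgroup.mem_center_iff.mp hz (Quotient.out a)
        calc w * Quotient.out a = Quotient.out (w : Q) * ((Quotient.out (w : Q))⁻¹ * w * Quotient.out a) := by group
          _ = Quotient.out (w : Q) * (Quotient.out a * ((Quotient.out (w : Q))⁻¹ * w)) := by rw [hc]
          _ = (Quotient.out (w : Q) * Quotient.out a) * ((Quotient.out (w : Q))⁻¹ * w) := by group
          _ = _ := by rw [← h']; group
      φ := φ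
      s := sφ
      hg := hφ
      hϖ := hϖ
      hgpow := by rw [← map_pow, ← hord, pow_orderOf_eq_one, map_one]
      hns := hns'
      hV := inferInstance }
  have hle := eigen_le g c
  have hfin : Module.finrank K (Fin n → K) = n := by rw [Module.finrank_fintype_fun_eq_card, Fintype.card_fin]
  rcases eq_or_ne c 0 with rfl | hc
  · have h0 : Module.End.eigenspace (Matrix.toLin' (g : Matrix (Fin n) (Fin n) F)) 0 = ⊥ := by
      rw [Submodule.eq_bot_iff]
      intro v hv
      have hv' := Module.End.mem_eigenspace_iff.mp hv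
      rw [zero_smul, Matrix.toLin'_apply] at hv'
      have := congrArg (Matrix.mulVec ((g⁻¹ : GL (Fin n) F) : Matrix (Fin n) (Fin n) F)) hv'
      rwa [Matrix.mulVec_mulVec, ← Units.val_mul, inv_mul_cancel, Units.val_one, Matrix.one_mulVec,
        Matrix.mulVec_zero] at this
    rw [h0, finrank_bot]
    simp
  · obtain ⟨b1, b2, b3, b4⟩ := D.bounds (algebraMap F K c) (by simpa using hc)
    rw [hfin] at b1 b2 b3 b4
    refine ⟨fun h => ?_, fun h => ?_, fun h => ?_, fun h h' => ?_⟩
    · exact (Nat.mul_le_mul le_rfl hle).trans (b1 h)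
    · exact (Nat.mul_le_mul le_rfl hle).trans (b2 h)
    · exact (Nat.mul_le_mul le_rfl hle).trans (b3 h)
    · exact (Nat.mul_le_mul le_rfl hle).trans (b4 h h')

end Cfsg.Agent.S5877
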