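import Cfsg.Statements.S5885
-- import your own Cfsg.Agent.* helpers here

set_option autoImplicit false
set_option linter.style.haveILetI false
open Cfsg

namespace Cfsg.Agent.S5885

open MulAction
open scoped Pointwise

private theorem three_cycle {Ω : Type*} [DecidableEq Ω] [Fintype Ω] (x y z : Ω) (hxy : x ≠ y) (hxz : x ≠ z) (hyz : y ≠ z) :
    ∃ σ : Equiv.Perm Ω, σ ∈ alternatingGroup Ω ∧ σ x = y ∧ σ y = z ∧ σ z = x ∧
      ∀ w, w ≠ x → w ≠ y → w ≠ z → σ w = w := by
  refine ⟨Equiv.swap x y * Equiv.swap y z, ?_, ?_, ?_, ?_, ?_⟩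
  · simp [Equiv.Perm.mem_alternatingGroup, Equiv.Perm.sign_swap hxy, Equiv.Perm.sign_swap hyz]
  · simp [Equiv.swap_apply_of_ne_of_ne hxy hxz]
  · simp [Equiv.swap_apply_of_ne_of_ne hxz.symm hyz.symm]
  · simp
  · intro w h1 h2 h3
    simp [Equiv.swap_apply_of_ne_of_ne h2 h3, Equiv.swap_apply_of_ne_of_ne h1 h2]

private theorem realize {G Ω : Type*} [Group G] [MulAction G Ω] [Fintype Ω] [DecidableEq Ω] (n : ℕ)
    (hA : ∀ P : Subgroup (Equiv.Perm (Fin n)), IsPreprimitive P (Fin n) → alternatingGroup (Fin n) ≤ P)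
    (hn : Fintype.card Ω = n) (hprim : IsPreprimitive G Ω) (σ : Equiv.Perm Ω) (hσ : σ ∈ alternatingGroup Ω) :
    ∃ g : G, ∀ x : Ω, g • x = σ x := by
  let e := Fintype.equivFinOfCardEq hn
  let φ : G →* Equiv.Perm (Fin n) := (e.permCongrHom.toMonoidHom).comp (toPermHom G Ω)
  have hP : IsPreprimitive φ.range (Fin n) := by
    let f : Ω →ₑ[φ.rangeRestrict] Fin n :=
      { toFun := e
        map_smul' := fun g x => by
          change e (g • x) = e (g • e.symm (e x))
          simp }
    exact IsPreprimitive.of_surjective (f := f) e.surjective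
  have hs : e.permCongrHom σ ∈ alternatingGroup (Fin n) := by
    rw [Equiv.Perm.mem_alternatingGroup] at hσ ⊢
    rw [Equiv.permCongrHom_coe, Equiv.Perm.sign_permCongr, hσ]
  obtain ⟨g, hg⟩ := hA _ hP hs
  refine ⟨g, fun x => ?_⟩
  have := congrArg (fun τ : Equiv.Perm (Fin n) => e.symm (τ (e x))) hg
  simpa [φ] using this

private theorem core {G Ω : Type*} [Group G] [MulAction G Ω] [Fintype Ω] [DecidableEq Ω] [IsPretransitive G Ω]
    (hodd : Odd (Fintype.card Ω))
    (hR : ∀ σ : Equiv.Perm Ω, σ ∈ alternatingGroup Ω → ∃ g : G, ∀ x : Ω, g • x = σ x)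
    (a : Ω) (K H : Subgroup G) (hK : IsCoatom K) (hHK : H ≤ K)
    (hH : IsCoatom (H.subgroupOf (stabilizer G a))) (hHe : H = K ⊓ stabilizer G a)
    (hne : ∃ k ∈ K, k • a ≠ a) :
    IsCoatom (H.subgroupOf K) := by
  classical
  set O : Set Ω := orbit K a with hO
  have haO : a ∈ O := mem_orbit_self a
  by_cases htr : O = Set.univ
  · -- K is transitive
    have : IsPretransitive K Ω := (isPretransitive_iff_orbit_eq_univ (G := K) a).mpr htr
    by_cases hp : IsPreprimitive K Ω
    · haveI : Nontrivial Ω := by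
        obtain ⟨k, _, hk⟩ := hne
        exact ⟨⟨_, _, hk⟩⟩
      have := (IsPreprimitive.isCoatom_stabilizer_of_isPreprimitive (G := K) a)
      convert this using 1
      ext k
      simp only [Subgroup.mem_subgroupOf, hHe, Subgroup.mem_inf, k.2, true_and, mem_stabilizer_iff]
      rfl
    · exfalso
      have : ∃ B : Set Ω, a ∈ B ∧ IsBlock K B ∧ ¬ IsTrivialBlock B := by
        by_contra hB
        simp only [not_exists, not_and, not_not] at hB
        exact hp (IsPreprimitive.of_isTrivialBlock_base a (fun h => hB _ h))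
      obtain ⟨B, haB, hB, hBt⟩ := this
      rw [IsTrivialBlock, not_or] at hBt
      obtain ⟨hB1, hB2⟩ := hBt
      obtain ⟨u, huB, hua⟩ := (Set.not_subsingleton_iff.mp hB1).exists_ne a
      obtain ⟨x, hxB⟩ := (Set.ne_univ_iff_exists_notMem B).mp hB2
      obtain ⟨k, hk⟩ := exists_smul_eq K a x
      set B' : Set Ω := k • B
      have hxB' : x ∈ B' := hk ▸ Set.smul_mem_smul_set haB
      have hdisj : Disjoint B B' := by
        rcases isBlock_iff_smul_eq_or_disjoint.mp hB k with h | h
        · exact absurd (h ▸ hxB' : x ∈ B) hxB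
        · exact h.symm
      obtain ⟨y, hy⟩ : ∃ y, y ∉ B ∪ B' := by
        by_contra hc
        simp only [not_exists, not_not] at hc
        have hu : B ∪ B' = Set.univ := Set.eq_univ_of_forall hc
        have := congrArg Set.ncard hu
        rw [Set.ncard_union_eq hdisj, Set.ncard_smul_set, Set.ncard_univ, Nat.card_eq_fintype_card] at this
        obtain ⟨j, hj⟩ := hodd
        omega
      rw [Set.mem_union, not_or] at hy
      obtain ⟨x', hx'B', hx'x⟩ : ∃ x' ∈ B', x' ≠ x := by
        refine Set.Nontrivial.exists_ne ?_ x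
        rw [← Set.not_subsingleton_iff]
        intro h
        exact hB1 ((Set.ncard_le_one_iff_subsingleton).mp
          (by rw [← Set.ncard_smul_set k B]; exact (Set.ncard_le_one_iff_subsingleton).mpr h))
      have hd := Set.disjoint_left.mp hdisj
      have hxy : x ≠ y := fun h => hy.2 (h ▸ hxB')
      have hx'y : x' ≠ y := fun h => hy.2 (h ▸ hx'B')
      have hux : u ≠ x := fun h => hxB (h ▸ huB)
      have huy : u ≠ y := fun h => hy.1 (h ▸ huB)
      have hax : a ≠ x := fun h => hxB (h ▸ haB)
      have hay : a ≠ y := fun h => hy.1 (h ▸ haB)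
      have hax' : a ≠ x' := fun h => hd haB (h ▸ hx'B')
      let H1 : Subgroup G := stabilizer G a ⊓ stabilizer G B
      have hle : H.subgroupOf (stabilizer G a) ≤ H1.subgroupOf (stabilizer G a) := by
        intro g hg
        simp only [Subgroup.mem_subgroupOf, hHe, Subgroup.mem_inf] at hg
        simp only [Subgroup.mem_subgroupOf, H1, Subgroup.mem_inf, mem_stabilizer_iff]
        refine ⟨g.2, ?_⟩
        rcases isBlock_iff_smul_eq_or_disjoint.mp hB ⟨(g : G), hg.1⟩ with h | h
        · exact h
        · exfalso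
          exact Set.disjoint_left.mp h (Set.smul_mem_smul_set haB) (by
            have : (g : G) • a = a := g.2
            exact (show (⟨(g : G), hg.1⟩ : K) • a ∈ B from by
              change (g : G) • a ∈ B
              rw [this]; exact haB))
      -- an element of H1 outside K
      obtain ⟨σ, hσ, s1, s2, s3, s4⟩ := three_cycle x y x' hxy hx'x.symm hx'y.symm
      obtain ⟨g, hg⟩ := hR σ hσ
      have hga : g • a = a := by rw [hg]; exact s4 a hax hay hax'
      have hgB : g • B = B := by
        have hfix : ∀ z ∈ B, g • z = z := fun z hz => by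
          rw [hg]
          exact s4 z (fun h => hxB (h ▸ hz)) (fun h => hy.1 (h ▸ hz)) (fun h => hd hz (h ▸ hx'B'))
        ext z
        constructor
        · rintro ⟨w, hw, rfl⟩
          change g • w ∈ B
          rw [hfix w hw]; exact hw
        · intro hz
          exact ⟨z, hz, hfix z hz⟩
      have hgK : g ∉ K := by
        intro hgK
        have hb : IsBlock K B' := hB.translate k
        rcases isBlock_iff_smul_eq_or_disjoint.mp hb ⟨g, hgK⟩ with h | h
        · exact hy.2 (h ▸ (⟨x, hxB', by change g • x = y; rw [hg, s1]⟩ : y ∈ (⟨g, hgK⟩ : K) • B'))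
        · exact Set.disjoint_left.mp h ⟨x', hx'B', by change g • x' = x; rw [hg, s3]⟩ hxB'
      have hlt : H.subgroupOf (stabilizer G a) < H1.subgroupOf (stabilizer G a) := by
        refine lt_of_le_of_ne hle fun h => hgK ?_
        have h1 : (⟨g, hga⟩ : stabilizer G a) ∈ H1.subgroupOf (stabilizer G a) :=
          ⟨hga, hgB⟩
        rw [← h] at h1
        exact hHK h1
      -- an element of the stabilizer outside H1
      obtain ⟨τ, hτ, t1, -, -, t4⟩ := three_cycle u x y hux huy hxy
      obtain ⟨g', hg'⟩ := hR τ hτ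
      have hg'a : g' • a = a := by rw [hg']; exact t4 a hua.symm hax hay
      have htop := hH.2 _ hlt
      have h2 : (⟨g', hg'a⟩ : stabilizer G a) ∈ H1.subgroupOf (stabilizer G a) := by
        rw [htop]; exact Subgroup.mem_top _
      have h3 : g' • B = B := h2.2
      exact hxB (h3 ▸ (⟨u, huB, by change g' • u = x; rw [hg', t1]⟩ : x ∈ g' • B))
  · -- K is intransitive, hence the full set stabiliser of its orbit
    have hKO : ∀ g : G, g • O = O → g ∈ K := by
      have hle : K ≤ stabilizer G O := fun k hk => smul_orbit (⟨k, hk⟩ : K) a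
      have hne' : stabilizer G O ≠ ⊤ := by
        intro h
        apply htr
        apply Set.eq_univ_of_forall
        intro z
        obtain ⟨g, hg⟩ := exists_smul_eq G a z
        have : g • O = O := (h ▸ Subgroup.mem_top g : g ∈ stabilizer G O)
        rw [← this, ← hg]
        exact Set.smul_mem_smul_set haO
      intro g hg
      rcases hle.lt_or_eq with h | h
      · exact absurd (hK.2 _ h) hne'
      · exact h ▸ hg
    have htwo : ∀ b ∈ O, ∀ c ∈ O, b ≠ a → c ≠ a → ∃ h ∈ H, h • b = c := by
      intro b hb c hc hba hca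
      suffices ∃ σ : Equiv.Perm Ω, σ ∈ alternatingGroup Ω ∧ σ a = a ∧ σ b = c ∧ ∀ z ∈ O, σ z ∈ O by
        obtain ⟨σ, hσ, h1, h2, h3⟩ := this
        obtain ⟨g, hg⟩ := hR σ hσ
        refine ⟨g, ?_, by rw [hg, h2]⟩
        rw [hHe]
        refine ⟨hKO g ?_, by change g • a = a; rw [hg, h1]⟩
        refine Set.eq_of_subset_of_ncard_le ?_ (by rw [Set.ncard_smul_set]) (Set.toFinite _)
        rintro _ ⟨z, hz, rfl⟩
        change g • z ∈ O
        rw [hg]; exact h3 z hz
      by_cases hbc : b = c
      · exact ⟨1, one_mem _, rfl, hbc, fun z hz => hz⟩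
      by_cases hd : ∃ d ∈ O, d ≠ a ∧ d ≠ b ∧ d ≠ c
      · obtain ⟨d, hdO, hda, hdb, hdc⟩ := hd
        obtain ⟨σ, hσ, s1, s2, s3, s4⟩ := three_cycle b c d hbc hdb.symm hdc.symm
        refine ⟨σ, hσ, s4 a hba.symm hca.symm hda.symm, s1, fun z hz => ?_⟩
        by_cases z1 : z = b
        · rw [z1, s1]; exact hc
        by_cases z2 : z = c
        · rw [z2, s2]; exact hdO
        by_cases z3 : z = d
        · rw [z3, s3]; exact hb
        rw [s4 z z1 z2 z3]; exact hz
      · -- O = {a, b, c}
        have hO3 : O = {a, b, c} := by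
          ext z
          constructor
          · intro hz
            by_contra hzn
            simp only [Set.mem_insert_iff, Set.mem_singleton_iff, not_or] at hzn
            exact hd ⟨z, hz, hzn.1, hzn.2.1, hzn.2.2⟩
          · rintro (rfl | rfl | rfl) <;> assumption
        have hcard : O.ncard = 3 := by
          rw [hO3, Set.ncard_eq_three]; exact ⟨a, b, c, hba.symm, hca.symm, hbc, rfl⟩
        have h5 : 2 ≤ Oᶜ.ncard := by
          have h := Set.ncard_add_ncard_compl O
          rw [hcard, Nat.card_eq_fintype_card] at h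
          have : Oᶜ.ncard ≠ 0 := fun h0 => htr (Set.compl_empty_iff.mp ((Set.ncard_eq_zero).mp h0))
          obtain ⟨j, hj⟩ := hodd
          omega
        obtain ⟨d, e, hd', he', hde⟩ := (Set.one_lt_ncard_iff).mp (show 1 < Oᶜ.ncard by omega)
        have nb : ∀ z ∈ O, z ≠ d ∧ z ≠ e := fun z hz => ⟨fun h => hd' (h ▸ hz), fun h => he' (h ▸ hz)⟩
        refine ⟨Equiv.swap b c * Equiv.swap d e, ?_, ?_, ?_, ?_⟩
        · simp [Equiv.Perm.mem_alternatingGroup, Equiv.Perm.sign_swap hbc, Equiv.Perm.sign_swap hde]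
        · simp [Equiv.swap_apply_of_ne_of_ne (nb a haO).1 (nb a haO).2,
            Equiv.swap_apply_of_ne_of_ne hba.symm hca.symm]
        · simp [Equiv.swap_apply_of_ne_of_ne (nb b hb).1 (nb b hb).2]
        · intro z hz
          rw [Equiv.Perm.mul_apply, Equiv.swap_apply_of_ne_of_ne (nb z hz).1 (nb z hz).2, Equiv.swap_apply_def]
          split_ifs <;> assumption
    refine ⟨?_, fun L hL => ?_⟩
    · intro htop
      obtain ⟨k, hk, hka⟩ := hne
      have : k ∈ H := (htop ▸ Subgroup.mem_top (⟨k, hk⟩ : K) : (⟨k, hk⟩ : K) ∈ H.subgroupOf K)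
      rw [hHe] at this
      exact hka this.2
    · obtain ⟨l, hl, hln⟩ := SetLike.exists_of_lt hL
      have hla : (l : G) • a ≠ a := fun h => hln (by
        change (l : G) ∈ H
        rw [hHe]; exact ⟨l.2, h⟩)
      rw [eq_top_iff]
      intro k _
      by_cases hka : (k : G) • a = a
      · exact hL.le (by
          change (k : G) ∈ H
          rw [hHe]; exact ⟨k.2, hka⟩)
      obtain ⟨h, hh, hhb⟩ := htwo ((l : G) • a) (mem_orbit a l) ((k : G) • a) (mem_orbit a k) hla hka
      let h' : K := ⟨h, hHK hh⟩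
      have h1 : h' ∈ L := hL.le (show (h' : G) ∈ H from hh)
      have h2 : (h' * l)⁻¹ * k ∈ L := hL.le (by
        change (h * (l : G))⁻¹ * (k : G) ∈ H
        rw [hHe]
        refine ⟨K.mul_mem (K.inv_mem (K.mul_mem (hHK hh) l.2)) k.2, ?_⟩
        change ((h * (l : G))⁻¹ * (k : G)) • a = a
        rw [mul_smul, inv_smul_eq_iff, mul_smul, hhb])
      have := mul_mem (mul_mem h1 hl) h2
      rwa [mul_inv_cancel_left] at this


/-- Let n be an odd positive integer such that every primitive permutation group of degree n contains the alternating group (so the symmetric and alternating groups are the only primitive groups of degree n). Let G be a finite group, M a maximal subgroup of G of index n, and H a maximal subgroup of M. Then H is a second maximal subgroup of G: H is maximal in every maximal subgroup K of G containing H. -/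
theorem result {G : Type*} [Group G]
    [Finite G] (n : ℕ) (hodd : Odd n)
    (hA : ∀ P : Subgroup (Equiv.Perm (Fin n)), MulAction.IsPreprimitive P (Fin n) → alternatingGroup (Fin n) ≤ P)
    (M : Subgroup G) (hM : IsCoatom M) (hn : M.index = n) (H : Subgroup G) (hHM : H ≤ M)
    (hmax : IsCoatom (H.subgroupOf M)) (K : Subgroup G) (hK : IsCoatom K) (hHK : H ≤ K) :
    IsCoatom (H.subgroupOf K) := by
  classical
  by_cases hKM : K = M
  · subst hKM; exact hmax
  haveI := Fintype.ofFinite (G ⧸ M)
  have hst : MulAction.stabilizer G ((1 : G) : G ⧸ M) = M := by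
    ext g
    simp [MulAction.mem_stabilizer_iff, QuotientGroup.eq_iff_div_mem]
  have hcard : Fintype.card (G ⧸ M) = n := by
    rw [← hn, Subgroup.index_eq_card, Nat.card_eq_fintype_card]
  haveI : Nontrivial (G ⧸ M) := by
    rw [← Fintype.one_lt_card_iff_nontrivial, hcard, ← hn]
    exact Subgroup.one_lt_index_of_ne_top hM.1
  have hprim : MulAction.IsPreprimitive G (G ⧸ M) :=
    (MulAction.isCoatom_stabilizer_iff_preprimitive (G := G) ((1 : G) : G ⧸ M)).mp (hst.symm ▸ hM)
  have hMK : ¬ M ≤ K := fun h => hKM ((hM.le_iff.mp h).resolve_left hK.1)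
  have hHe : H = K ⊓ M := by
    have hle : H.subgroupOf M ≤ (K ⊓ M).subgroupOf M := fun x hx => ⟨hHK hx, x.2⟩
    rcases hle.lt_or_eq with h | h
    · exfalso
      have := hmax.2 _ h
      rw [Subgroup.subgroupOf_eq_top] at this
      exact hMK (this.trans inf_le_left)
    · rw [Subgroup.subgroupOf_inj] at h
      rwa [inf_of_le_left hHM, inf_of_le_left inf_le_right] at h
  refine core (Ω := G ⧸ M) (hcard.symm ▸ hodd) (realize n hA hcard hprim) ((1 : G) : G ⧸ M) K H hK hHK ?_ ?_ ?_
  · rw [hst]; exact hmax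
  · rw [hst]; exact hHe
  · by_contra hc
    simp only [not_exists, not_and, not_not] at hc
    refine hKM ((hK.le_iff.mp fun k hk => ?_).resolve_left hM.1).symm
    rw [← hst]; exact hc k hk


end Cfsg.Agent.S5885
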