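import Cfsg.Statements.S5887
import Mathlib
import Cfsg.Agent.Lib.Classical.CommAlgebra
import Cfsg.Agent.Lib.Classical.LinMaximal
import Cfsg.Agent.Lib.Classical.FixCodim

set_option autoImplicit false
open Cfsg

namespace Cfsg.Agent.S5887

open Cfsg.Geo

open Matrix in
theorem exists_witness {F : Type*} [Field F] [Fintype F] {n d : ℕ} (hn : d < n)
    {K : Subalgebra F (Matrix (Fin n) (Fin n) F)} (hK : IsFieldSubalgebra d K) :
    ∃ g : GL (Fin n) F, g ≠ 1 ∧ g ∈ specialLinear (Fin n) F ∧ g ∈ subalgebraNormalizer K ∧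
      Agent.Classical.FixCodim d g := by
  classical
  haveI : Nonempty (Fin n) := ⟨⟨0, by omega⟩⟩
  haveI : Finite K := Finite.of_injective _ Subtype.val_injective
  haveI : Nontrivial K := ⟨⟨0, 1, fun h => zero_ne_one (congrArg Subtype.val h)⟩⟩
  letI : CommRing K := { K.toRing with mul_comm := fun a b => Subtype.ext (hK.comm a a.2 b b.2) }
  have hfield : IsField K := by
    refine ⟨exists_pair_ne K, mul_comm, fun {a} ha => ?_⟩
    obtain ⟨y, hy, hay⟩ := hK.inv a a.2 (fun e => ha (Subtype.ext e))
    exact ⟨⟨y, hy⟩, Subtype.ext hay⟩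
  letI : Field K := hfield.toField
  let φ : K →+* Module.End F (Fin n → F) :=
    (Matrix.toLinAlgEquiv' (R := F) (n := Fin n)).toAlgHom.toRingHom.comp K.val.toRingHom
  letI : Module K (Fin n → F) := Module.compHom _ φ
  haveI hT : IsScalarTower F K (Fin n → F) := ⟨fun c k v => by
    change φ (c • k) v = c • φ k v
    simp [φ]⟩
  have hsmul : ∀ (x : K) (v : Fin n → F), x • v = (x : Matrix (Fin n) (Fin n) F) *ᵥ v := fun x v => by
    change φ x v = _
    simp [φ]
  obtain ⟨a, ha⟩ := exists_ne (0 : Fin n → F)
  obtain ⟨b, hb⟩ : ∃ b, b ∉ Submodule.span K {a} := by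
    by_contra h
    simp only [not_exists, not_not] at h
    let L : K →ₗ[F] (Fin n → F) :=
      { toFun := fun c => c • a
        map_add' := fun x y => add_smul x y a
        map_smul' := fun c x => smul_assoc c x a }
    have hsurj : Function.Surjective L := fun v => by
      obtain ⟨c, hc⟩ := Submodule.mem_span_singleton.mp (h v)
      exact ⟨c, hc⟩
    have := LinearMap.finrank_le_finrank_of_surjective hsurj
    rw [hK.finrank_eq, Module.finrank_fintype_fun_eq_card, Fintype.card_fin] at this
    omega
  obtain ⟨ψ, hψb, hψa⟩ := (Submodule.span K {a}).exists_dual_map_eq_bot_of_notMem hb inferInstance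
  have hψa0 : ψ a = 0 := by
    have hmem : ψ a ∈ (Submodule.span K {a}).map ψ := Submodule.mem_map_of_mem (Submodule.mem_span_singleton_self a)
    rw [hψa] at hmem
    exact (Submodule.mem_bot K).mp hmem
  haveI : IsScalarTower F K K := ⟨fun c x y => Subtype.ext (smul_mul_assoc c (x : Matrix (Fin n) (Fin n) F) y)⟩
  let ψF : (Fin n → F) →ₗ[F] K :=
    { toFun := fun v => ψ v
      map_add' := fun v w => map_add ψ v w
      map_smul' := fun c v => by
        change ψ (c • v) = c • ψ v
        rw [← IsScalarTower.algebraMap_smul K c v, map_smul, IsScalarTower.algebraMap_smul] }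
  let T : (Fin n → F) →ₗ[F] (Fin n → F) :=
    { toFun := fun v => ψ v • a
      map_add' := fun v w => by rw [map_add]; exact add_smul _ _ _
      map_smul' := fun c v => by
        change ψF (c • v) • a = c • (ψF v • a)
        rw [map_smul, smul_assoc] }
  set M := LinearMap.toMatrix' T
  have hMv : ∀ v, M *ᵥ v = ψ v • a := fun v => by
    rw [← Matrix.toLin'_apply, Matrix.toLin'_toMatrix']; rfl
  have hM2 : M * M = 0 := Matrix.ext_of_mulVec_single fun i => by
    rw [← Matrix.mulVec_mulVec, hMv, hMv, map_smul, hψa0, smul_zero, zero_smul, Matrix.zero_mulVec]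
  let u : (Matrix (Fin n) (Fin n) F)ˣ :=
    ⟨1 + M, 1 - M, by rw [show (1 + M) * (1 - M) = 1 - M * M by noncomm_ring, hM2, sub_zero],
      by rw [show (1 - M) * (1 + M) = 1 - M * M by noncomm_ring, hM2, sub_zero]⟩
  refine ⟨u, fun h => ?_, ?_, ?_, ?_⟩
  · have hM0 : M = 0 := add_left_cancel (a := (1 : Matrix (Fin n) (Fin n) F))
      ((congrArg Units.val h).trans (add_zero _).symm)
    have hb' := hMv b
    rw [hM0, Matrix.zero_mulVec] at hb'
    rcases smul_eq_zero.mp hb'.symm with h0 | h0
    · exact hψb h0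
    · exact ha h0
  · rw [Agent.Classical.mem_specialLinear_iff]
    change (1 + M).det = 1
    obtain ⟨p, hchar⟩ := CharP.exists F
    obtain ⟨_, hp, -⟩ := FiniteField.card F p
    haveI := Fact.mk hp
    have hpow : ∀ k : ℕ, (1 + M) ^ k = 1 + (k : F) • M := fun k => by
      induction k with
      | zero => simp
      | succ k ih =>
        rw [pow_succ, ih, add_mul, one_mul, mul_add, mul_one, smul_mul_assoc, hM2, smul_zero, add_zero,
          Nat.cast_succ, add_smul, one_smul]
        abel
    have h1 : (1 + M).det ^ p = 1 := by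
      rw [← Matrix.det_pow, hpow, CharP.cast_eq_zero, zero_smul, add_zero, Matrix.det_one]
    apply frobenius_inj F p
    rw [frobenius_def, frobenius_def, h1, one_pow]
  · have hc : ∀ x ∈ K, (u : Matrix (Fin n) (Fin n) F) * x = x * (u : Matrix (Fin n) (Fin n) F) := fun x hx => by
      refine Matrix.ext_of_mulVec_single fun i => ?_
      rw [← Matrix.mulVec_mulVec, ← Matrix.mulVec_mulVec]
      change (1 + M) *ᵥ (x *ᵥ _) = x *ᵥ ((1 + M) *ᵥ _)
      rw [Matrix.add_mulVec, Matrix.add_mulVec, Matrix.one_mulVec, Matrix.one_mulVec, hMv, hMv,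
        Matrix.mulVec_add]
      simp only [← hsmul ⟨x, hx⟩]
      rw [map_smul, smul_eq_mul, mul_smul]
    intro k
    constructor
    · intro hk
      rw [hc k hk, mul_assoc, Units.mul_inv, mul_one]
      exact hk
    · intro hk
      have h5 := hc _ hk
      rw [mul_assoc _ _ (u : Matrix (Fin n) (Fin n) F), Units.inv_mul, mul_one] at h5
      have h2 : (u : Matrix (Fin n) (Fin n) F) * k * ((u⁻¹ : GL (Fin n) F) : Matrix (Fin n) (Fin n) F) = k :=
        u.mul_right_inj.mp h5
      rwa [h2] at hk
  · let e := (Module.finBasisOfFinrankEq F K hK.finrank_eq).equivFun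
    refine ⟨e.toLinearMap ∘ₗ ψF, fun v hv => ?_⟩
    have hv0 : ψF v = 0 := e.injective (by simpa using hv)
    have hv' : ψ v = 0 := hv0
    change (1 + M) *ᵥ v = v
    rw [Matrix.add_mulVec, Matrix.one_mulVec, hMv, hv', zero_smul, add_zero]

/-- Let F be a finite field, n a positive integer and r a composite number (r > 1, not prime) that divides n with r < n. Let K be a subalgebra of the algebra of n × n matrices over F which is a field of degree r over F (commutative, every non-zero element invertible, of dimension r over F). Then the normaliser N of K in GL_n(F) (a group of type ΓL_{n/r}(F_{q^r})) is not a maximal subgroup of GL_n(F), and N ∩ SL_n(F) is not a maximal subgroup of SL_n(F): both lie properly inside the normaliser of an intermediate subfield of prime degree over F. -/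
theorem result {F : Type*} [Field F]
    [Fintype F] (n r : ℕ) (hr1 : 1 < r) (hrp : ¬ r.Prime) (hrn : r ∣ n) (hlt : r < n)
    (K : Subalgebra F (Matrix (Fin n) (Fin n) F)) (hK : Cfsg.Geo.IsFieldSubalgebra r K) :
    ¬ IsCoatom (Cfsg.Geo.subalgebraNormalizer K) ∧
      ¬ Cfsg.Geo.IsMaximalIn (Cfsg.Geo.specialLinear (Fin n) F)
        (Cfsg.Geo.subalgebraNormalizer K ⊓ Cfsg.Geo.specialLinear (Fin n) F) := by
  classical
  haveI : Nonempty (Fin n) := ⟨⟨0, by omega⟩⟩
  obtain ⟨d, K', hd, hK', hle, N, hN⟩ := Agent.Classical.exists_prime_degree_subalgebra hr1 hK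
  have hKK : K' ≤ K := fun x hx => ((hN x).mp hx).1
  have hdr : d ∣ r := by
    have h := Module.natCard_eq_pow_finrank (K := F) (V := K)
    haveI : Finite K := Finite.of_injective _ Subtype.val_injective
    haveI : Nontrivial K' := ⟨⟨0, 1, fun e => zero_ne_one (congrArg Subtype.val e)⟩⟩
    letI : CommRing K' := { K'.toRing with mul_comm := fun a b => Subtype.ext (hK'.comm a a.2 b b.2) }
    have hfield : IsField K' := by
      refine ⟨exists_pair_ne K', mul_comm, fun {a} ha => ?_⟩
      obtain ⟨y, hy, hay⟩ := hK'.inv a a.2 (fun e => ha (Subtype.ext e))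
      exact ⟨⟨y, hy⟩, Subtype.ext hay⟩
    letI : Field K' := hfield.toField
    letI : Module K' K := Module.compHom _ (Subalgebra.inclusion hKK).toRingHom
    haveI : IsScalarTower F K' K := ⟨fun c a b => by
      change (Subalgebra.inclusion hKK (c • a)) * b = c • ((Subalgebra.inclusion hKK a) * b)
      rw [map_smul, smul_mul_assoc]⟩
    have h := Module.finrank_mul_finrank F K' K
    rw [hK'.finrank_eq, hK.finrank_eq] at h
    exact Dvd.intro _ h
  have hne : d ≠ r := fun h => hrp (h ▸ hd)
  obtain ⟨s, hs⟩ := hdr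
  have hs2 : 2 ≤ s := by
    rcases s with _ | _ | s
    · omega
    · omega
    · omega
  have h2d : 2 * d ≤ r := by rw [hs, mul_comm]; exact Nat.mul_le_mul_left d hs2
  obtain ⟨g, hg1, hgSL, hgN', hfix⟩ := exists_witness (show d < n by omega) hK'
  have hgN : g ∉ subalgebraNormalizer K :=
    hfix.not_mem_subalgebraNormalizer hg1 (by rw [Fintype.card_fin]; omega)
      (show d < r by omega) hK
  have hnot : ¬ specialLinear (Fin n) F ≤ subalgebraNormalizer K' :=
    Agent.Classical.not_specialLinear_le_subalgebraNormalizer (by rw [Fintype.card_fin]; have := hd.two_le; omega) hd.one_lt hK'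
  refine ⟨fun h => ?_, fun h => ?_⟩
  · exact hnot ((h.2 _ (lt_of_le_not_ge hle fun h' => hgN (h' hgN'))) ▸ le_top)
  · rcases h.2 (subalgebraNormalizer K' ⊓ specialLinear (Fin n) F) (inf_le_inf_right _ hle) inf_le_right with e | e
    · exact hgN (e.le ⟨hgN', hgSL⟩).1
    · exact hnot (e ▸ inf_le_left)

end Cfsg.Agent.S5887
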