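import Cfsg.Statements.S5890
import Cfsg.Agent.Lib.Classical.Dickson.PGLMax
import Cfsg.Agent.Lib.Classical.Dickson.CoatomTypes

set_option autoImplicit false
open Cfsg

namespace Cfsg.Agent.S5890

/-- Dihedral groups of equal degree. -/
def eqd {a b : ℕ} (h : a = b) : DihedralGroup a ≃* DihedralGroup b := h ▸ MulEquiv.refl _

/-- Let F be a finite field with q ≥ 4 elements, let L ≤ PGL₂(F) be the image of SL₂(F) (a copy of PSL₂(F), of index gcd(2, q − 1)), and let M be a maximal subgroup of PGL₂(F) that does not contain L. Suppose q ∉ {7, 9, 11} and that q is not a prime congruent to ±11 or ±19 modulo 40. Then M ∩ L is a maximal subgroup of L. (For the excluded q there are maximal subgroups of PGL₂(q) — dihedral groups of order 12 and 16 at q = 7, of order 20 and 16 at q = 9, of order 20 at q = 11, and S₄ at the excluded primes — whose intersection with L is not maximal in L.) -/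
theorem result {F : Type*} [Field F]
    [Fintype F] (h4 : 4 ≤ Fintype.card F) (h7 : Fintype.card F ≠ 7) (h9 : Fintype.card F ≠ 9) (h11 : Fintype.card F ≠ 11)
    (h40 : (Fintype.card F).Prime → Fintype.card F % 40 ∉ ({11, 19, 21, 29} : Finset ℕ))
    (M : Subgroup (Matrix.ProjGenLinGroup (Fin 2) F)) (hM : IsCoatom M)
    (hML : ¬ (Matrix.ProjGenLinGroup.mk.comp Matrix.SpecialLinearGroup.toGL).range ≤ M) :
    IsCoatom ((M ⊓ (Matrix.ProjGenLinGroup.mk.comp Matrix.SpecialLinearGroup.toGL).range).subgroupOf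
      (Matrix.ProjGenLinGroup.mk.comp Matrix.SpecialLinearGroup.toGL).range) := by
  classical
  haveI := Cfsg.Agent.Classical.Dickson.finite_pgl F
  rw [Cfsg.Agent.Classical.Dickson.range_eq] at hML ⊢
  let t : Matrix.ProjectiveSpecialLinearGroup (Fin 2) F →* Matrix.ProjGenLinGroup (Fin 2) F :=
    Matrix.ProjectiveSpecialLinearGroup.toPGL
  have hinj : Function.Injective t := Matrix.ProjectiveSpecialLinearGroup.toPGL_injective
  suffices hN : IsCoatom (M.comap t) by
    let e : Matrix.ProjectiveSpecialLinearGroup (Fin 2) F ≃* t.range := MonoidHom.ofInjective hinj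
    have heq : (M ⊓ t.range).subgroupOf t.range = e.mapSubgroup (M.comap t) := by
      ext x
      obtain ⟨y, rfl⟩ := e.surjective x
      constructor
      · intro h; exact ⟨y, h.1, rfl⟩
      · rintro ⟨y', hy', he⟩
        obtain rfl := e.injective he
        exact ⟨hy', y', rfl⟩
    show IsCoatom ((M ⊓ t.range).subgroupOf t.range)
    rw [heq]
    exact (e.mapSubgroup.isCoatom_iff _).mpr hN
  by_cases h2 : (2 : F) = 0
  · have hcard : Nat.card (Matrix.ProjectiveSpecialLinearGroup (Fin 2) F) =
        Nat.card (Matrix.ProjGenLinGroup (Fin 2) F) := by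
      have := Cfsg.Agent.Classical.Dickson.card_P2 (F := F)
      rw [Cfsg.Agent.Classical.Dickson.gcd_eq_one_of_even h2, mul_one] at this
      rw [Cfsg.Agent.Classical.Dickson.card_pgl, this]
    let e : Matrix.ProjectiveSpecialLinearGroup (Fin 2) F ≃* Matrix.ProjGenLinGroup (Fin 2) F :=
      MulEquiv.ofBijective t ((Nat.bijective_iff_injective_and_card t).mpr ⟨hinj, hcard⟩)
    have heq : M.comap t = e.symm.mapSubgroup M := by
      ext x
      constructor
      · intro h; exact ⟨e x, h, e.symm_apply_apply x⟩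
      · rintro ⟨y, hy, rfl⟩
        show e (e.symm y) ∈ M
        rwa [e.apply_symm_apply]
    rw [heq]
    exact (e.symm.mapSubgroup.isCoatom_iff _).mpr hM
  have hd := Cfsg.Agent.Classical.Dickson.two_dvd_pred h2
  have hodd := Cfsg.Agent.Small.SL2C.not_two_dvd_iff.mpr h2
  rcases Cfsg.Agent.Classical.Dickson.pgl_cases h2 h4 hM hML with
    ⟨-, hc⟩ | ⟨s, hs, -, ⟨f⟩⟩ | ⟨hp, h8, -, ⟨f⟩⟩ | ⟨K, r, hr, ho, hKr, -, hc⟩
  · exact Cfsg.Agent.Classical.Dickson.borel_card_max h2 h4 h7 h9 h11 _ hc
  · rcases hs with ⟨rfl, h5⟩ | rfl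
    · exact Cfsg.Agent.Classical.Dickson.dihedral_minus_max rfl (by omega) _
        (f.trans (eqd (by rw [hd])))
    · exact Cfsg.Agent.Classical.Dickson.dihedral_plus_max rfl (by omega) _
        (f.trans (eqd (by rw [hd])))
  · exact Cfsg.Agent.Classical.Dickson.a4_max hp h8 h4 (h40 hp) _ f
  · haveI : Fintype K := Fintype.ofFinite K
    have hQ : Odd (Nat.card K) := (Nat.odd_pow_iff hr.ne_zero).mp (hKr ▸ Nat.odd_iff.mpr (by omega))
    exact Cfsg.Agent.Classical.Dickson.subfield_card_max h2 hKr.symm hQ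
      (Nat.card_eq_fintype_card (α := K) ▸ FiniteField.isPrimePow_card K) hr ho _ (by rw [mul_comm]; exact hc)

end Cfsg.Agent.S5890
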