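import Cfsg.Statements.S5892
import Cfsg.Agent.Lib.Classical.Dickson.SmallMax
import Cfsg.Agent.S0803
import Cfsg.Agent.S0804

set_option autoImplicit false
open Cfsg

namespace Cfsg.Agent.S5892

open Cfsg.Agent.Small Cfsg.Agent.Small.SL2C
open Cfsg.Agent.Classical.Dickson

universe u

variable {F : Type u} [Field F] [Fintype F]

local notation "P2" => Matrix.ProjectiveSpecialLinearGroup (Fin 2) F

def FieldCases (M : Subgroup (Matrix.ProjectiveSpecialLinearGroup (Fin 2) F)) : Prop :=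
  (∃ (F₀ : Type) (_ : Field F₀) (_ : Fintype F₀), Fintype.card F = Fintype.card F₀ ^ 2 ∧
        Nonempty (M ≃* Matrix.ProjGenLinGroup (Fin 2) F₀)) ∨
  (∃ (F₀ : Type) (_ : Field F₀) (_ : Fintype F₀) (r : ℕ), r.Prime ∧ Odd r ∧ Fintype.card F = Fintype.card F₀ ^ r ∧
        Nonempty (M ≃* Matrix.ProjectiveSpecialLinearGroup (Fin 2) F₀))

theorem field_cases {M : Subgroup P2} (hM : IsCoatom M) (g : GL (Fin 2) F) {L : Subfield F} (hL : L ≠ ⊤)
    (hle : M.map (PSL2.conjP g).toMonoidHom ≤ scaledP L) : FieldCases M := by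
  obtain ⟨r, hr, hLr, h⟩ := field_max hM g hL hle
  haveI : Fintype L := Fintype.ofFinite L
  rw [Nat.card_eq_fintype_card] at hLr
  obtain ⟨F₀, i1, i2, hc, ⟨ε⟩⟩ := exists_small_field L
  rcases h with ⟨rfl, ⟨f⟩⟩ | ⟨ho, ⟨f⟩⟩
  · exact Or.inl ⟨F₀, i1, i2, by rw [hc, hLr], ⟨f.trans (pglCongr ε)⟩⟩
  · exact Or.inr ⟨F₀, i1, i2, r, hr, ho, by rw [hc, hLr], ⟨f.trans (pslCongr ε)⟩⟩

theorem sqrt_five_frob {p : ℕ} [Fact p.Prime] [CharP F p] (hp2 : p ≠ 2) (h5 : (5 : F) ≠ 0) {s : F} (hs : s ^ 2 = 5) :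
    s ^ (p ^ 2) = s := by
  have hp : p.Prime := Fact.out
  obtain ⟨j, hj⟩ := hp.odd_of_ne_two hp2
  have hf : ((5 : F)) ^ p = 5 := by
    have := iterateFrobenius_def (R := F) p 1 (5 : F)
    rw [pow_one] at this
    rw [← this, map_ofNat]
  have he : ((5 : F) ^ j) * ((5 : F) ^ j) = 1 := by
    rw [hj, pow_succ, two_mul, pow_add] at hf
    exact mul_right_cancel₀ h5 (by rw [hf, one_mul])
  have hsp : s ^ p = s * 5 ^ j := by rw [hj, pow_succ, pow_mul, hs, mul_comm]
  rw [pow_two, pow_mul, hsp, mul_pow, hsp, ← pow_mul, mul_comm j, pow_mul, hf, mul_assoc, he, mul_one]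

theorem roots_mem {p k : ℕ} [Fact p.Prime] [CharP F p] (h2 : (2 : F) ≠ 0) (hs : ∀ s : F, s ^ 2 = 5 → s ∈ frobSub F p k)
    (t : F) (ht : t ^ 4 - 3 * t ^ 2 + 1 = 0) : t ∈ frobSub F p k := by
  have hfac : (t ^ 2 - t - 1) * (t ^ 2 + t - 1) = 0 := by linear_combination ht
  rcases mul_eq_zero.mp hfac with h | h
  · have := hs (2 * t - 1) (by linear_combination 4 * h)
    have e : t = ((2 * t - 1) + 1) / 2 := by field_simp; ring
    rw [e]
    exact (frobSub F p k).div_mem ((frobSub F p k).add_mem this (frobSub F p k).one_mem) (ofNat_mem _ 2)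
  · have := hs (2 * t + 1) (by linear_combination 4 * h)
    have e : t = ((2 * t + 1) - 1) / 2 := by field_simp; ring
    rw [e]
    exact (frobSub F p k).div_mem ((frobSub F p k).sub_mem this (frobSub F p k).one_mem) (ofNat_mem _ 2)

theorem five_mem_prime {p : ℕ} [Fact p.Prime] [CharP F p] (h : p = 5 ∨ p % 5 = 1 ∨ p % 5 = 4) (s : F) (hs : s ^ 2 = 5) :
    s ∈ frobSub F p 1 := by
  have hp : p.Prime := Fact.out
  rcases h with rfl | h
  · have : s = 0 := by
      have h5 : (5 : F) = 0 := by exact_mod_cast CharP.cast_eq_zero F 5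
      exact pow_eq_zero_iff two_ne_zero |>.mp (hs.trans h5)
    rw [this]; exact (frobSub F 5 1).zero_mem
  · haveI : Fact (Nat.Prime 5) := ⟨by norm_num⟩
    have hp2 : p ≠ 2 := by rintro rfl; omega
    haveI : NeZero p := ⟨hp.ne_zero⟩
    have hsq : IsSquare ((5 : ℕ) : ZMod p) := by
      rw [← ZMod.exists_sq_eq_prime_iff_of_mod_four_eq_one (p := 5) (q := p) rfl hp2, ← ZMod.natCast_mod]
      rcases h with h | h <;> rw [h]
      · exact ⟨1, by simp⟩
      · exact ⟨2, by norm_num⟩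
    obtain ⟨a, ha⟩ := hsq
    have hA : (ZMod.castHom dvd_rfl F a) ^ 2 = 5 := by rw [← map_pow, pow_two, ← ha, map_natCast]; norm_num
    have hmem : ZMod.castHom dvd_rfl F a ∈ frobSub F p 1 := by
      rw [mem_frobSub, pow_one, ← map_pow, ZMod.pow_card]
    rcases sq_eq_sq_iff_eq_or_eq_neg.mp (hs.trans hA.symm) with e | e <;> rw [e]
    · exact hmem
    · exact (frobSub F p 1).neg_mem hmem

theorem psl_simple' (h : 5 ≤ Fintype.card F) : IsSimpleGroup P2 :=
  Matrix.ProjectiveSpecialLinearGroup.rank_two_simple (by rw [Nat.card_eq_fintype_card]; omega)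

/-- In `A₄` type maximal subgroups exclude a subgroup `A₅`. -/
theorem no_a5_of_max_a4 (h2 : (2 : F) ≠ 0) (h5 : 5 ≤ Fintype.card F) {M : Subgroup P2} (hM : IsCoatom M)
    (f : M ≃* alternatingGroup (Fin 4)) {H : Subgroup P2} (e : H ≃* alternatingGroup (Fin 5)) (hH : H ≠ ⊤) : False := by
  have hN := eq_normalizer h2 h5 dA4 hM f dA4_normal
  have hc : Nat.card M = 12 := by rw [Nat.card_congr f.toEquiv, nat_card_alternatingGroup, Nat.card_fin]; rfl
  have h8 : Fintype.card F % 8 = 3 ∨ Fintype.card F % 8 = 5 := by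
    rcases card_normalizer_klein h2 (dA4.isPair f) with ⟨-, h⟩ | ⟨h, -⟩
    · exact h
    · rw [show Cfsg.Agent.Classical.SL2Four.pairGroup (dA4.isPair f) = dA4.grp f from rfl, hN, hc] at h; omega
  have hN' := coatom_normalizer h2 (dA4.isPair f) (dA5.isPair e) (hN.symm ▸ hM)
  have hc' : Nat.card (Subgroup.normalizer (dA5.grp e : Set P2)) = 12 := by
    rcases card_normalizer_klein h2 (dA5.isPair e) with ⟨h, -⟩ | ⟨-, h⟩
    · exact h
    · omega
  obtain ⟨z, hz, hzo⟩ : ∃ z : H, (z : P2) ∈ Subgroup.normalizer (dA5.grp e : Set P2) ∧ orderOf (z : P2) = 3 := by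
    haveI : Fact (Nat.Prime 3) := ⟨Nat.prime_three⟩
    refine ⟨e.symm _, dA5.mem_normalizer e _ dA5_three, ?_⟩
    rw [Subgroup.orderOf_coe, e.symm.orderOf_eq]
    exact orderOf_eq_prime (by decide) (by decide)
  have hgH : dA5.grp e ≤ H := by
    intro u hu
    rcases hu with rfl | rfl | rfl | rfl
    · exact one_mem H
    · exact (e.symm dA5.x).2
    · exact (e.symm dA5.y).2
    · exact mul_mem (e.symm dA5.x).2 (e.symm dA5.y).2
  have hd : 3 * 4 ∣ Nat.card ↥(Subgroup.normalizer (dA5.grp e : Set P2) ⊓ H) := by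
    refine Nat.Coprime.mul_dvd_of_dvd_of_dvd (by decide) ?_ ?_
    · rw [← hzo, ← Subgroup.orderOf_mk _ (Subgroup.mem_inf.mpr ⟨hz, z.2⟩)]
      exact orderOf_dvd_natCard _
    · haveI := Cfsg.Agent.Classical.SL2Four.pairGroup_isKleinFour (dA5.isPair e)
      rw [← (IsKleinFour.card_four : Nat.card (Cfsg.Agent.Classical.SL2Four.pairGroup (dA5.isPair e)) = 4)]
      exact Subgroup.card_dvd_of_le (le_inf Subgroup.le_normalizer hgH)
  have heq := Subgroup.eq_of_le_of_card_ge (inf_le_left : Subgroup.normalizer (dA5.grp e : Set P2) ⊓ H ≤ _)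
    (by rw [hc']; exact Nat.le_of_dvd Nat.card_pos hd)
  rcases hN'.le_iff.mp (heq ▸ inf_le_right : Subgroup.normalizer (dA5.grp e : Set P2) ≤ H) with h | h
  · exact hH h
  · have := Nat.card_congr e.toEquiv
    rw [h] at this
    rw [show Cfsg.Agent.Classical.SL2Four.pairGroup (dA5.isPair e) = dA5.grp e from rfl, hc', nat_card_alternatingGroup, Nat.card_fin] at this
    norm_num [Nat.factorial] at this

/-- Let F be a finite field of odd order q ≥ 5 and characteristic p, and let M be a maximal subgroup of PSL₂(F). Then one of the following holds: |M| = q(q − 1)/2 (the stabiliser of a point of the projective line); q ≥ 13 and M is dihedral of order q − 1; q ∉ {7, 9} and M is dihedral of order q + 1; q = q₀² and M ≅ PGL₂(F₀) with |F₀| = q₀; q = q₀^r for an odd prime r and M ≅ PSL₂(F₀) with |F₀| = q₀; q ≡ ±1 (mod 10) with q = p or q = p², p ≡ ±3 (mod 10), and M ≅ A₅; q = p ≡ ±3 (mod 8), q ≢ ±1 (mod 10), and M ≅ A₄; or q = p ≡ ±1 (mod 8) and M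 ≅ S₄. -/
theorem result {F : Type*} [Field F] [Fintype F] (p : ℕ)
    [Fact p.Prime] [CharP F p] (hodd : Odd (Fintype.card F)) (h5 : 5 ≤ Fintype.card F)
    (M : Subgroup (Matrix.ProjectiveSpecialLinearGroup (Fin 2) F)) (hM : IsCoatom M) :
    2 * Nat.card M = Fintype.card F * (Fintype.card F - 1) ∨
    (13 ≤ Fintype.card F ∧ (∃ k : ℕ, 2 * k = Fintype.card F - 1 ∧ Nonempty (M ≃* DihedralGroup k))) ∨
    (Fintype.card F ≠ 7 ∧ Fintype.card F ≠ 9 ∧ (∃ k : ℕ, 2 * k = Fintype.card F + 1 ∧ Nonempty (M ≃* DihedralGroup k))) ∨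
    (∃ (F₀ : Type) (_ : Field F₀) (_ : Fintype F₀), Fintype.card F = Fintype.card F₀ ^ 2 ∧
        Nonempty (M ≃* Matrix.ProjGenLinGroup (Fin 2) F₀)) ∨
    (∃ (F₀ : Type) (_ : Field F₀) (_ : Fintype F₀) (r : ℕ), r.Prime ∧ Odd r ∧ Fintype.card F = Fintype.card F₀ ^ r ∧
        Nonempty (M ≃* Matrix.ProjectiveSpecialLinearGroup (Fin 2) F₀)) ∨
    ((Fintype.card F % 10 = 1 ∨ Fintype.card F % 10 = 9) ∧
        (Fintype.card F = p ∨ (Fintype.card F = p ^ 2 ∧ (p % 10 = 3 ∨ p % 10 = 7))) ∧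
        Nonempty (M ≃* alternatingGroup (Fin 5))) ∨
    (Fintype.card F = p ∧ (p % 8 = 3 ∨ p % 8 = 5) ∧ ¬ (p % 10 = 1 ∨ p % 10 = 9) ∧
        Nonempty (M ≃* alternatingGroup (Fin 4))) ∨
    (Fintype.card F = p ∧ (p % 8 = 1 ∨ p % 8 = 7) ∧ Nonempty (M ≃* Equiv.Perm (Fin 4))) := by
  classical
  have hp : p.Prime := Fact.out
  have h2 : (2 : F) ≠ 0 := fun h => hodd.not_two_dvd_nat (two_dvd_iff.mpr h)
  have hd := two_dvd_pred h2
  have hP := card_P2 (F := F)
  rw [hd] at hP
  obtain ⟨n, -, hn⟩ := FiniteField.card F p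
  have hn1 : 1 ≤ (n : ℕ) := n.pos
  have hp2 : p ≠ 2 := fun h => hodd.not_two_dvd_nat (by rw [hn, h]; exact dvd_pow_self 2 n.ne_zero)
  by_cases hfcase : FieldCases M
  · rcases hfcase with h | h
    · exact Or.inr (Or.inr (Or.inr (Or.inl h)))
    · exact Or.inr (Or.inr (Or.inr (Or.inr (Or.inl h))))
  have hlt : ∀ k, k < (n : ℕ) → p ^ k < Fintype.card F := fun k hk => hn ▸ Nat.pow_lt_pow_right hp.one_lt hk
  rcases coatom_cases hM (by omega) with ⟨k, hk, hcM, ⟨e⟩⟩ | h | ⟨-, ⟨f⟩⟩ | ⟨-, ⟨f⟩⟩ | ⟨-, ⟨f⟩⟩ | ⟨g, L, hL, hle⟩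
  · rw [hd] at hk
    haveI := psl_simple' h5
    have hev : Fintype.card F % 2 = 1 := Nat.odd_iff.mp hodd
    have hexS4 : Fintype.card F = 7 ∨ Fintype.card F = 9 → ∃ H : Subgroup (Matrix.ProjectiveSpecialLinearGroup (Fin 2) F),
        H ≠ ⊤ ∧ Nat.card H = 24 ∧ Nonempty (H ≃* Equiv.Perm (Fin 4)) := fun hq => by
      obtain ⟨H, ⟨f⟩⟩ := (Cfsg.Agent.S0803.result (F := F) rfl).mpr (by rcases hq with h | h <;> rw [h] <;> rfl)
      have hc : Nat.card H = 24 := by rw [Nat.card_congr f.toEquiv, Nat.card_perm, Nat.card_fin]; rfl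
      refine ⟨H, fun h => ?_, hc, ⟨f⟩⟩
      rw [h, Subgroup.card_top] at hc
      rcases hq with h | h <;> rw [hc, h] at hP <;> norm_num at hP
    have hexA5 : Fintype.card F = 9 ∨ Fintype.card F = 11 → ∃ H : Subgroup (Matrix.ProjectiveSpecialLinearGroup (Fin 2) F),
        H ≠ ⊤ ∧ Nonempty (H ≃* alternatingGroup (Fin 5)) := fun hq => by
      obtain ⟨H, ⟨f⟩⟩ := (Cfsg.Agent.S0804.result (F := F) rfl).mpr (by rcases hq with h | h <;> rw [h] <;> decide)
      refine ⟨H, fun h => ?_, ⟨f⟩⟩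
      have hc := Nat.card_congr f.toEquiv
      rw [h, Subgroup.card_top, nat_card_alternatingGroup, Nat.card_fin] at hc
      rcases hq with h | h <;> rw [hc, h] at hP <;> norm_num [Nat.factorial] at hP
    have hsyl8 : Fintype.card F = 7 ∨ Fintype.card F = 9 → Nat.card M ≠ 2 ^ 3 := fun hq hc => by
      haveI : Fact (Nat.Prime 2) := ⟨Nat.prime_two⟩
      obtain ⟨H, hH, hcH, -⟩ := hexS4 hq
      refine no_sylow_max hM (p := 2) (a := 3) hc (fun h => ?_) hH (by rw [hcH]; norm_num) (by rw [hcH]; norm_num)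
      have := Nat.mul_dvd_mul_right h 2
      rw [hP] at this
      rcases hq with e | e <;> rw [e] at this <;> norm_num at this
    have h5dec : ∀ z : alternatingGroup (Fin 5), z * z * z * z * z = 1 → z ≠ 1 → orderOf z = 5 := fun z h h' => by
      haveI : Fact (Nat.Prime 5) := ⟨by norm_num⟩
      exact orderOf_eq_prime (by rw [pow_succ, pow_succ, pow_succ, pow_two]; exact h) h'
    have hno5 : Fintype.card F = 9 ∨ Fintype.card F = 11 → Nat.card M ≠ 2 * 5 := fun hq hc => by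
      haveI : Fact (Nat.Prime 5) := ⟨by norm_num⟩
      haveI : Fact (Nat.Prime 2) := ⟨Nat.prime_two⟩
      obtain ⟨H, hH, ⟨f⟩⟩ := hexA5 hq
      obtain ⟨z, t, ⟨hz, hz1⟩, ⟨ht, ht1⟩, hzt⟩ := a5_five_inv
      refine no_prime_max hM (r := 5) (by norm_num) hc (fun h => ?_) hH f (h5dec z hz hz1)
        (orderOf_eq_prime (by rw [pow_two]; exact ht) ht1) hzt
        (by rw [nat_card_alternatingGroup, Nat.card_fin]; decide)
      have := Nat.mul_dvd_mul_right h 2
      rw [hP] at this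
      rcases hq with e | e <;> rw [e] at this <;> norm_num at this
    have hno3 : Fintype.card F = 7 → Nat.card M ≠ 2 * 3 := fun hq hc => by
      haveI : Fact (Nat.Prime 3) := ⟨Nat.prime_three⟩
      haveI : Fact (Nat.Prime 2) := ⟨Nat.prime_two⟩
      obtain ⟨H, hH, -, ⟨f⟩⟩ := hexS4 (Or.inl hq)
      obtain ⟨z, t, ⟨hz, hz1⟩, ⟨ht, ht1⟩, hzt⟩ := s4_three_inv
      refine no_prime_max hM (r := 3) (by norm_num) hc (fun h => ?_) hH f
        (orderOf_eq_prime (by rw [pow_succ, pow_two]; exact hz) hz1)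
        (orderOf_eq_prime (by rw [pow_two]; exact ht) ht1) hzt
        (by rw [Nat.card_perm, Nat.card_fin]; decide)
      have := Nat.mul_dvd_mul_right h 2
      rw [hP, hq] at this
      norm_num at this
    rcases hk with rfl | rfl
    · refine Or.inr (Or.inl ⟨?_, _, by omega, ⟨e⟩⟩)
      by_contra hlt13
      have hq : Fintype.card F = 5 ∨ Fintype.card F = 7 ∨ Fintype.card F = 9 ∨ Fintype.card F = 11 := by omega
      rcases hq with hq | hq | hq | hq
      · have e2 : (Fintype.card F - 1) / 2 = 2 := by omega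
        revert e
        rw [e2]
        intro e
        have hN := eq_normalizer h2 h5 dD2 hM e dD2_normal
        rcases card_normalizer_klein h2 (dD2.isPair e) with ⟨h, -⟩ | ⟨h, -⟩ <;>
          rw [show Cfsg.Agent.Classical.SL2Four.pairGroup (dD2.isPair e) = dD2.grp e from rfl, hN, hcM] at h <;> omega
      · exact hno3 hq (by omega)
      · exact hsyl8 (Or.inr hq) (by omega)
      · exact hno5 (Or.inr hq) (by omega)
    · exact Or.inr (Or.inr (Or.inl ⟨fun hq => hsyl8 (Or.inl hq) (by omega), fun hq => hno5 (Or.inl hq) (by omega),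
        _, by omega, ⟨e⟩⟩))
  · rw [hd, mul_comm (Fintype.card F - 1), mul_comm] at h
    exact Or.inl h
  · rcases Nat.lt_or_ge 1 (n : ℕ) with hn2 | hn2
    · obtain ⟨g, hg⟩ := descend_a4 h2 f (frobSub F p 1)
      exact absurd (field_cases hM g (frobSub_ne_top le_rfl (hlt 1 hn2)) hg) hfcase
    · have hq : Fintype.card F = p := by rw [hn, show (n : ℕ) = 1 by omega, pow_one]
      have hN := eq_normalizer h2 h5 dA4 hM f dA4_normal
      have hc : Nat.card M = 12 := by rw [Nat.card_congr f.toEquiv, nat_card_alternatingGroup, Nat.card_fin]; rfl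
      refine Or.inr (Or.inr (Or.inr (Or.inr (Or.inr (Or.inr (Or.inl ⟨hq, ?_, fun h10 => ?_, ⟨f⟩⟩))))))
      · rcases card_normalizer_klein h2 (dA4.isPair f) with ⟨-, h⟩ | ⟨h, -⟩
        · rw [← hq]; exact h
        · rw [show Cfsg.Agent.Classical.SL2Four.pairGroup (dA4.isPair f) = dA4.grp f from rfl, hN, hc] at h; omega
      · obtain ⟨H, ⟨e⟩⟩ := (Cfsg.Agent.S0804.result (F := F) rfl).mpr (by
          refine Dvd.dvd.mul_left ?_ _
          rw [hq]
          have h' : p ^ 2 % 10 = (p % 10) ^ 2 % 10 := Nat.pow_mod _ _ _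
          rcases h10 with h | h <;> rw [h] at h' <;> omega)
        refine no_a5_of_max_a4 h2 h5 hM f e fun h => ?_
        have hcH := Nat.card_congr e.toEquiv
        rw [h, Subgroup.card_top, nat_card_alternatingGroup, Nat.card_fin] at hcH
        rw [hcH, hq] at hP
        have : p ≠ 9 := by rintro rfl; norm_num at hp
        have : 11 ≤ p := by omega
        have : 11 * 120 ≤ p * (p ^ 2 - 1) := Nat.mul_le_mul this (Nat.le_sub_of_add_le (Nat.pow_le_pow_left this 2))
        norm_num [Nat.factorial] at hP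
        omega
  · rcases Nat.lt_or_ge 1 (n : ℕ) with hn2 | hn2
    · obtain ⟨g, hg⟩ := descend_s4 h2 f (frobSub F p 1)
      exact absurd (field_cases hM g (frobSub_ne_top le_rfl (hlt 1 hn2)) hg) hfcase
    · have hq : Fintype.card F = p := by rw [hn, show (n : ℕ) = 1 by omega, pow_one]
      have hN := eq_normalizer h2 h5 dS4 hM f dS4_normal
      have hc : Nat.card M = 24 := by rw [Nat.card_congr f.toEquiv, Nat.card_perm, Nat.card_fin]; rfl
      refine Or.inr (Or.inr (Or.inr (Or.inr (Or.inr (Or.inr (Or.inr ⟨hq, ?_, ⟨f⟩⟩))))))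
      rcases card_normalizer_klein h2 (dS4.isPair f) with ⟨h, -⟩ | ⟨-, h⟩
      · rw [show Cfsg.Agent.Classical.SL2Four.pairGroup (dS4.isPair f) = dS4.grp f from rfl, hN, hc] at h; omega
      · rw [← hq]; exact h
  · have hdvd : 5 ∣ Fintype.card F * (Fintype.card F ^ 2 - 1) := by
      rw [← hP]
      refine Dvd.dvd.mul_right ?_ 2
      refine Dvd.dvd.trans ?_ (Subgroup.card_subgroup_dvd_card M)
      rw [Nat.card_congr f.toEquiv, nat_card_alternatingGroup, Nat.card_fin]; decide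
    by_cases h15 : p = 5 ∨ p % 5 = 1 ∨ p % 5 = 4
    · rcases Nat.lt_or_ge 1 (n : ℕ) with hn2 | hn2
      · obtain ⟨g, hg⟩ := descend_a5 h2 f (frobSub F p 1) (roots_mem h2 (five_mem_prime h15))
        exact absurd (field_cases hM g (frobSub_ne_top le_rfl (hlt 1 hn2)) hg) hfcase
      · have hq : Fintype.card F = p := by rw [hn, show (n : ℕ) = 1 by omega, pow_one]
        refine Or.inr (Or.inr (Or.inr (Or.inr (Or.inr (Or.inl ⟨?_, Or.inl hq, ⟨f⟩⟩)))))
        rcases h15 with h | h | h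
        · exfalso
          refine hM.1 (Subgroup.eq_top_of_card_eq _ ?_)
          rw [hq, h] at hP
          rw [Nat.card_congr f.toEquiv, nat_card_alternatingGroup, Nat.card_fin]
          norm_num [Nat.factorial, -Nat.card_eq_fintype_card] at hP ⊢
          omega
        · have := Nat.odd_iff.mp hodd; omega
        · have := Nat.odd_iff.mp hodd; omega
    · push Not at h15
      have hp5 : ¬ 5 ∣ p := fun h => h15.1 ((Nat.prime_dvd_prime_iff_eq (by norm_num) hp).mp h).symm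
      have hmod : p % 5 = 2 ∨ p % 5 = 3 := by omega
      have hsq4 : p ^ 2 % 5 = 4 := by rw [Nat.pow_mod]; rcases hmod with h | h <;> rw [h]
      have hev : Even (n : ℕ) := by
        by_contra ho
        obtain ⟨j, hj⟩ := Nat.not_even_iff_odd.mp ho
        have hq2 : Fintype.card F ^ 2 % 5 = 4 := by
          rw [hn, ← pow_mul, mul_comm, pow_mul, hj, pow_succ, pow_mul, Nat.mul_mod, Nat.pow_mod, Nat.pow_mod (p ^ 2) 2 5, hsq4]
          norm_num
        rcases (Nat.Prime.dvd_mul (by norm_num)).mp hdvd with h | h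
        · rw [hn] at h; exact hp5 ((Nat.Prime.dvd_of_dvd_pow (by norm_num) h))
        · omega
      rcases Nat.lt_or_ge 2 (n : ℕ) with hn3 | hn3
      · obtain ⟨g, hg⟩ := descend_a5 h2 f (frobSub F p 2) (roots_mem h2 (fun s hs => mem_frobSub.mpr
          (sqrt_five_frob hp2 (fun h => hp5 ((CharP.cast_eq_zero_iff F p 5).mp (by exact_mod_cast h) |> fun h' => by
            rw [(Nat.prime_dvd_prime_iff_eq hp (by norm_num)).mp h'])) hs)))
        exact absurd (field_cases hM g (frobSub_ne_top (by norm_num) (hlt 2 hn3)) hg) hfcase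
      · have hn2 : (n : ℕ) = 2 := by rcases hev with ⟨j, hj⟩; omega
        have hpodd : p % 2 = 1 := Nat.odd_iff.mp (hp.odd_of_ne_two hp2)
        refine Or.inr (Or.inr (Or.inr (Or.inr (Or.inr (Or.inl ⟨?_, Or.inr ⟨by rw [hn, hn2], by omega⟩, ⟨f⟩⟩)))))
        rw [hn, hn2]
        have hp10 : p ^ 2 % 10 = (p % 10) ^ 2 % 10 := Nat.pow_mod _ _ _
        rcases (show p % 10 = 3 ∨ p % 10 = 7 by omega) with h | h <;> rw [h] at hp10 <;> omega
  · exact absurd (field_cases hM g hL hle) hfcase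

end Cfsg.Agent.S5892
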