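import Cfsg.Statements.S5893
import Cfsg.Agent.Lib.Classical.Dickson.MaxList

set_option autoImplicit false
open Cfsg

namespace Cfsg.Agent.S5893

/-- Let F be a finite field of even order q ≥ 4 and let M be a maximal subgroup of PSL₂(F) (= SL₂(F) = PGL₂(F)). Then one of the following holds: |M| = q(q − 1) (the stabiliser of a point of the projective line, elementary abelian of order q extended by a cyclic group of order q − 1); M is dihedral of order 2(q − 1); M is dihedral of order 2(q + 1); or q = q₀^r for a prime r with q₀ ≠ 2 and M ≅ PSL₂(F₀) with |F₀| = q₀. -/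
theorem result {F : Type*} [Field F] [Fintype F]
    (heven : Even (Fintype.card F)) (h4 : 4 ≤ Fintype.card F) (M : Subgroup (Matrix.ProjectiveSpecialLinearGroup (Fin 2) F)) (hM : IsCoatom M) :
    Nat.card M = Fintype.card F * (Fintype.card F - 1) ∨
    Nonempty (M ≃* DihedralGroup (Fintype.card F - 1)) ∨
    Nonempty (M ≃* DihedralGroup (Fintype.card F + 1)) ∨
    (∃ (F₀ : Type) (_ : Field F₀) (_ : Fintype F₀) (r : ℕ), r.Prime ∧ Fintype.card F₀ ≠ 2 ∧
        Fintype.card F = Fintype.card F₀ ^ r ∧ Nonempty (M ≃* Matrix.ProjectiveSpecialLinearGroup (Fin 2) F₀)) := by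
  classical
  have h2 : (2 : F) = 0 := Cfsg.Agent.Small.SL2C.two_dvd_iff.mp heven.two_dvd
  have hd := Cfsg.Agent.Classical.Dickson.gcd_eq_one_of_even h2
  have hdih : (∃ k, (k = (Fintype.card F - 1) / Nat.gcd 2 (Fintype.card F - 1) ∨
      k = (Fintype.card F + 1) / Nat.gcd 2 (Fintype.card F - 1)) ∧
      Nat.card M = 2 * k ∧ Nonempty (M ≃* DihedralGroup k)) →
      (Nonempty (M ≃* DihedralGroup (Fintype.card F - 1)) ∨ Nonempty (M ≃* DihedralGroup (Fintype.card F + 1))) := by
    rintro ⟨k, hk, -, he⟩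
    rw [hd, Nat.div_one, Nat.div_one] at hk
    rcases hk with rfl | rfl
    · exact Or.inl he
    · exact Or.inr he
  rcases Cfsg.Agent.Classical.Dickson.coatom_cases hM h4 with h | h | ⟨h', -⟩ | ⟨h', -⟩ | ⟨h', -⟩ | ⟨g, L, hL, hle⟩
  · exact Or.inr ((hdih h).imp id Or.inl)
  · rw [hd, mul_one, mul_comm (Fintype.card F - 1)] at h
    exact Or.inl h
  · exact absurd h2 h'
  · exact absurd h2 h'
  · exact absurd h2 h'
  obtain ⟨r, hr, hLr, hiso⟩ := Cfsg.Agent.Classical.Dickson.field_max hM g hL hle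
  haveI : Fintype L := Fintype.ofFinite L
  have h2L : (2 : L) = 0 := Subtype.ext h2
  have hdL := Cfsg.Agent.Classical.Dickson.gcd_eq_one_of_even h2L
  have hcP := Cfsg.Agent.Classical.Dickson.card_psl L
  rw [hdL, mul_one] at hcP
  haveI := Cfsg.Agent.Classical.Dickson.finite_pgl L
  have e : Nonempty (M ≃* Matrix.ProjectiveSpecialLinearGroup (Fin 2) L) := by
    rcases hiso with ⟨-, ⟨f⟩⟩ | ⟨-, h⟩
    · exact ⟨f.trans (MulEquiv.ofBijective (Matrix.ProjectiveSpecialLinearGroup.toPGL (n := Fin 2) (R := L))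
        ((Nat.bijective_iff_injective_and_card _).mpr ⟨Matrix.ProjectiveSpecialLinearGroup.toPGL_injective,
          by rw [hcP, Cfsg.Agent.Classical.Dickson.card_pgl]⟩)).symm⟩
    · exact h
  obtain ⟨e⟩ := e
  rw [Nat.card_eq_fintype_card] at hLr
  by_cases hL2 : Fintype.card L = 2
  · have h6 : Nat.card M = 6 := by rw [Nat.card_congr e.toEquiv, hcP, hL2]; rfl
    haveI : Fact (Nat.Prime 3) := ⟨Nat.prime_three⟩
    obtain ⟨z, hz⟩ := exists_prime_orderOf_dvd_card' (G := M) 3 (by rw [h6]; norm_num)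
    have hn : (Subgroup.zpowers z).Normal := Subgroup.normal_of_index_eq_two (by
      have := (Subgroup.zpowers z).card_mul_index
      rw [Nat.card_zpowers, hz, h6] at this; omega)
    have hco : Nat.Coprime (orderOf (z : Matrix.ProjectiveSpecialLinearGroup (Fin 2) F)) (Fintype.card F) := by
      rw [Subgroup.orderOf_coe, hz, ← hLr, hL2]
      exact Nat.Coprime.pow_right _ (by norm_num)
    have := Cfsg.Agent.Classical.Dickson.torus_max hM h4 (z := (z : Matrix.ProjectiveSpecialLinearGroup (Fin 2) F))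
      (fun h => by
        have := congrArg orderOf h
        rw [Subgroup.orderOf_coe, hz, orderOf_one] at this
        omega) hco (fun x hx => by
        obtain ⟨i, hi⟩ := Subgroup.mem_zpowers_iff.mp (hn.conj_mem z (Subgroup.mem_zpowers z) ⟨x, hx⟩)
        exact ⟨i, by simpa using congrArg Subtype.val hi⟩)
    exact Or.inr ((hdih this).imp id Or.inl)
  · obtain ⟨F₀, i1, i2, hc, ⟨ε⟩⟩ := Cfsg.Agent.Classical.Dickson.exists_small_field L
    exact Or.inr (Or.inr (Or.inr ⟨F₀, i1, i2, r, hr, by rw [hc]; exact hL2, by rw [hc, hLr],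
      ⟨e.trans (Cfsg.Agent.Classical.Dickson.pslCongr ε)⟩⟩))

end Cfsg.Agent.S5893
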