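import Cfsg.Statements.S5895
import Mathlib
import Cfsg.Agent.Lib.Classical.SubspaceMaximal

set_option autoImplicit false
open Cfsg

namespace Cfsg.Agent.S5895

open Cfsg.Geo

variable (p d : ℕ) [Fact p.Prime]

/-- The natural action. -/
def act : GL (Fin d) (ZMod p) →* MulAut (Multiplicative (Fin d → ZMod p)) where
  toFun g :=
    { toFun := fun v => Multiplicative.ofAdd ((g : Matrix (Fin d) (Fin d) (ZMod p)).mulVec v.toAdd)
      invFun := fun v => Multiplicative.ofAdd (((g⁻¹ : GL (Fin d) (ZMod p)) : Matrix (Fin d) (Fin d) (ZMod p)).mulVec v.toAdd)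
      left_inv := fun v => congrArg Multiplicative.ofAdd (Agent.Classical.gl_inv_mulVec_cancel g v.toAdd)
      right_inv := fun v => congrArg Multiplicative.ofAdd (Agent.Classical.gl_mulVec_inv_cancel g v.toAdd)
      map_mul' := fun v w => congrArg Multiplicative.ofAdd (Matrix.mulVec_add _ v.toAdd w.toAdd) }
  map_one' := MulEquiv.ext fun v => congrArg Multiplicative.ofAdd (Matrix.one_mulVec v.toAdd)
  map_mul' g h := MulEquiv.ext fun v => congrArg Multiplicative.ofAdd (Agent.Classical.gl_mul_mulVec g h v.toAdd)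

/-- The affine group. -/
abbrev Aff := Multiplicative (Fin d → ZMod p) ⋊[act p d] GL (Fin d) (ZMod p)

theorem conj_inl (x : Aff p d) (v : Fin d → ZMod p) :
    x * SemidirectProduct.inl (Multiplicative.ofAdd v) * x⁻¹ = SemidirectProduct.inl (Multiplicative.ofAdd ((x.right : Matrix (Fin d) (Fin d) (ZMod p)).mulVec v)) := by
  have h : (SemidirectProduct.inl (Multiplicative.ofAdd ((x.right : Matrix (Fin d) (Fin d) (ZMod p)).mulVec v)) : Aff p d) =
      SemidirectProduct.inr x.right * SemidirectProduct.inl (Multiplicative.ofAdd v) * (SemidirectProduct.inr x.right)⁻¹ := by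
    rw [← map_inv]
    exact SemidirectProduct.inl_aut x.right (Multiplicative.ofAdd v)
  conv_lhs => rw [← SemidirectProduct.inl_left_mul_inr_right x]
  rw [mul_inv_rev, show ∀ a b c : Aff p d, a * b * c * (b⁻¹ * a⁻¹) = a * (b * c * b⁻¹) * a⁻¹ from
    fun a b c => by group, ← h, ← map_mul, ← map_inv, ← map_mul, mul_comm x.left, mul_inv_cancel_right]

/-- For every prime p and every d ≥ 2 there is a finite group G with a maximal subgroup M of index p^d and a maximal subgroup H of M that is not second maximal in G: some maximal subgroup K of G contains H without H being maximal in K. (One may take G the affine group V ⋊ GL(V) of V = 𝔽_p^d, M = GL(V), H the stabiliser in M of a line W of V, and K = V ⋊ H, with H < W ⋊ H < K.) So the prime-index hypothesis in the second-maximality criterion cannot be relaxed to prime-power index. -/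
theorem result (p d : ℕ) (hp : p.Prime)
    (hd : 2 ≤ d) :
    ∃ (G : Type) (_ : Group G) (_ : Finite G) (M H K : Subgroup G), IsCoatom M ∧ M.index = p ^ d ∧ H ≤ M ∧
      IsCoatom (H.subgroupOf M) ∧ IsCoatom K ∧ H ≤ K ∧ ¬ IsCoatom (H.subgroupOf K) := by
  classical
  haveI := Fact.mk hp
  haveI : NeZero p := ⟨hp.ne_zero⟩
  haveI : Nontrivial (Fin d) := Fin.nontrivial_iff_two_le.mpr hd
  haveI : Finite (Aff p d) := Finite.of_equiv _ SemidirectProduct.equivProd.symm
  let i0 : Fin d := ⟨0, by omega⟩
  let W : Submodule (ZMod p) (Fin d → ZMod p) := Submodule.span (ZMod p) {Pi.single i0 1}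
  have hW0 : W ≠ ⊥ := fun h => by
    have := Submodule.span_singleton_eq_bot.mp h
    simpa using congrFun this i0
  have hW1 : W ≠ ⊤ := fun h => by
    obtain ⟨j, hj⟩ := exists_ne i0
    obtain ⟨c, hc⟩ := Submodule.mem_span_singleton.mp (h ▸ Submodule.mem_top : (Pi.single j 1 : Fin d → ZMod p) ∈ W)
    simpa [Pi.single_apply, hj] using congrFun hc j
  set P := subspaceStabilizer W with hP
  have hPco : IsCoatom P := by
    obtain ⟨t, -, htP⟩ := Agent.Classical.exists_not_mem_stabilizer hW0 hW1
    refine ⟨fun h => htP (by rw [← hP, h]; exact Subgroup.mem_top t), fun K hK => ?_⟩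
    obtain ⟨g, hgK, hgP⟩ := SetLike.exists_of_lt hK
    have hSL := Agent.Classical.specialLinear_le_of_stabilizer (K := K) (inf_le_left.trans hK.le) hgK hgP
    refine eq_top_iff.mpr fun x _ => ?_
    let D : Matrix (Fin d) (Fin d) (ZMod p) := Matrix.diagonal fun i => if i = i0 then (x : Matrix (Fin d) (Fin d) (ZMod p)).det else 1
    have hD : D.det = (x : Matrix (Fin d) (Fin d) (ZMod p)).det := by
      simp [D, Matrix.det_diagonal]
    let u := Matrix.GeneralLinearGroup.mkOfDetNeZero D (by rw [hD]; exact Matrix.GeneralLinearGroup.det_ne_zero x)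
    have huP : u ∈ P := Agent.Classical.mem_subspaceStabilizer_iff.mpr fun w hw => by
      obtain ⟨c, rfl⟩ := Submodule.mem_span_singleton.mp hw
      change D.mulVec (c • Pi.single i0 1) ∈ W
      have e : D.mulVec (c • Pi.single i0 1) = (c * (x : Matrix (Fin d) (Fin d) (ZMod p)).det) • Pi.single i0 1 := by
        funext j
        rw [Matrix.mulVec_diagonal]
        by_cases hj : j = i0 <;> simp [hj, mul_comm]
      rw [e]
      exact Submodule.smul_mem _ _ (Submodule.mem_span_singleton_self _)
    have hxu : x * u⁻¹ ∈ specialLinear (Fin d) (ZMod p) := by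
      rw [Agent.Classical.mem_specialLinear_iff, Units.val_mul, Matrix.det_mul, ← hD]
      change (u : Matrix (Fin d) (Fin d) (ZMod p)).det * ((u⁻¹ : GL (Fin d) (ZMod p)) : Matrix (Fin d) (Fin d) (ZMod p)).det = 1
      rw [← Matrix.det_mul, Units.mul_inv, Matrix.det_one]
    simpa using K.mul_mem (hSL hxu) (hK.le huP)
  let M : Subgroup (Aff p d) := (SemidirectProduct.inr : _ →* Aff p d).range
  let H : Subgroup (Aff p d) := P.map SemidirectProduct.inr
  let K : Subgroup (Aff p d) := P.comap SemidirectProduct.rightHom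
  have hcard : Nat.card (Fin d → ZMod p) = p ^ d := by rw [Nat.card_fun, Nat.card_zmod, Nat.card_fin]
  have hM : ∀ x : Aff p d, x ∈ M ↔ x.left = 1 := fun x => by
    refine ⟨?_, fun h => ⟨x.right, SemidirectProduct.ext (by simp [h]) (by simp)⟩⟩
    rintro ⟨g, rfl⟩; simp
  refine ⟨Aff p d, inferInstance, inferInstance, M, H, K, ⟨?_, ?_⟩, ?_, ?_, ?_,
    Subgroup.isCoatom_comap_of_surjective (φ := SemidirectProduct.rightHom) SemidirectProduct.rightHom_surjective hPco, ?_, ?_⟩
  · intro h
    have := (hM (SemidirectProduct.inl (Multiplicative.ofAdd (Pi.single i0 1)))).mp (h ▸ Subgroup.mem_top _)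
    simp at this
  · intro N hN
    obtain ⟨x, hxN, hxM⟩ := SetLike.exists_of_lt hN
    rw [hM] at hxM
    have hl : (SemidirectProduct.inl x.left : Aff p d) ∈ N := by
      have := N.mul_mem hxN (N.inv_mem (hN.le ((hM (SemidirectProduct.inr x.right)).mpr (by simp))))
      convert this using 1
      apply SemidirectProduct.ext <;> simp
    let S : AddSubgroup (Fin d → ZMod p) :=
      { carrier := {v | (SemidirectProduct.inl (Multiplicative.ofAdd v) : Aff p d) ∈ N}
        add_mem' := fun {a b} ha hb => by
          change SemidirectProduct.inl (Multiplicative.ofAdd (a + b)) ∈ N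
          rw [ofAdd_add, map_mul]; exact N.mul_mem ha hb
        zero_mem' := by
          change SemidirectProduct.inl (Multiplicative.ofAdd 0) ∈ N
          rw [ofAdd_zero, map_one]; exact N.one_mem
        neg_mem' := fun {a} ha => by
          change SemidirectProduct.inl (Multiplicative.ofAdd (-a)) ∈ N
          rw [ofAdd_neg, map_inv]; exact N.inv_mem ha }
    have hSg : ∀ g : GL (Fin d) (ZMod p), ∀ v ∈ S, (g : Matrix (Fin d) (Fin d) (ZMod p)).mulVec v ∈ S := by
      intro g v hv
      have hg : (SemidirectProduct.inr g : Aff p d) ∈ N := hN.le ⟨g, rfl⟩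
      have := N.mul_mem (N.mul_mem hg hv) (N.inv_mem hg)
      rw [conj_inl] at this
      exact this
    let U : Submodule (ZMod p) (Fin d → ZMod p) :=
      { S with
        smul_mem' := fun c v hv => by
          rw [← ZMod.natCast_zmod_val c, Nat.cast_smul_eq_nsmul]
          exact S.nsmul_mem hv _ }
    have hUtop : U = ⊤ := by
      by_contra h
      have hU0 : U ≠ ⊥ := fun h0 => by
        have hmem : x.left.toAdd ∈ U := hl
        rw [h0, Submodule.mem_bot] at hmem
        exact hxM (toAdd_eq_zero.mp hmem)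
      obtain ⟨g, -, hg⟩ := Agent.Classical.exists_not_mem_stabilizer hU0 h
      exact hg (Agent.Classical.mem_subspaceStabilizer_iff.mpr fun w hw => hSg g w hw)
    refine eq_top_iff.mpr fun y _ => ?_
    rw [← SemidirectProduct.inl_left_mul_inr_right y]
    refine N.mul_mem ?_ (hN.le ⟨y.right, rfl⟩)
    exact (hUtop ▸ Submodule.mem_top : y.left.toAdd ∈ U)
  · have h1 := Subgroup.index_mul_card M
    rw [Nat.card_congr (SemidirectProduct.equivProd (φ := act p d)), Nat.card_prod,
      ← Nat.card_congr (MonoidHom.ofInjective (f := (SemidirectProduct.inr : _ →* Aff p d)) SemidirectProduct.inr_injective).toEquiv,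
      Nat.card_congr (Multiplicative.toAdd (α := Fin d → ZMod p)), hcard] at h1
    exact Nat.eq_of_mul_eq_mul_right Nat.card_pos h1
  · exact Subgroup.map_le_range _ _
  · let e := MonoidHom.ofInjective (f := (SemidirectProduct.inr : _ →* Aff p d)) SemidirectProduct.inr_injective
    have he : H.subgroupOf M = P.comap e.symm.toMonoidHom := by
      ext ⟨y, g, rfl⟩
      rw [Subgroup.mem_subgroupOf, Subgroup.mem_comap]
      change SemidirectProduct.inr g ∈ H ↔ e.symm (e g) ∈ P
      rw [e.symm_apply_apply]
      exact Subgroup.mem_map_iff_mem SemidirectProduct.inr_injective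
    rw [he]
    exact Subgroup.isCoatom_comap_of_surjective (φ := e.symm.toMonoidHom) e.symm.surjective hPco
  · rintro _ ⟨g, hg, rfl⟩
    simpa [K] using hg
  · intro hco
    let L : Subgroup (Aff p d) :=
      { carrier := {y | y.left.toAdd ∈ W ∧ y.right ∈ P}
        one_mem' := ⟨W.zero_mem, P.one_mem⟩
        mul_mem' := fun {a b} ha hb => ⟨W.add_mem ha.1 (Agent.Classical.mem_subspaceStabilizer_iff.mp ha.2 _ hb.1), P.mul_mem ha.2 hb.2⟩
        inv_mem' := fun {a} ha => ⟨Agent.Classical.mem_subspaceStabilizer_iff.mp (P.inv_mem ha.2) _ (W.neg_mem ha.1), P.inv_mem ha.2⟩ }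
    have hLK : L ≤ K := fun y hy => hy.2
    have hHL : H ≤ L := by rintro _ ⟨g, hg, rfl⟩; exact ⟨W.zero_mem, hg⟩
    have hlt : H.subgroupOf K < L.subgroupOf K := by
      refine lt_of_le_not_ge (fun y hy => hHL hy) fun h => ?_
      have hmem : (SemidirectProduct.inl (Multiplicative.ofAdd (Pi.single i0 1)) : Aff p d) ∈ L :=
        ⟨Submodule.mem_span_singleton_self _, P.one_mem⟩
      have := h (x := ⟨_, hLK hmem⟩) hmem
      obtain ⟨g, -, hg⟩ := this
      have h1 := congrArg (fun y : Aff p d => (y.left.toAdd) i0) hg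
      simp at h1
    have htop := hco.2 _ hlt
    obtain ⟨v, -, hv⟩ := SetLike.exists_of_lt (lt_top_iff_ne_top.mpr hW1)
    have hvK : (SemidirectProduct.inl (Multiplicative.ofAdd v) : Aff p d) ∈ K := by
      simp [K]
    exact hv ((htop ▸ Subgroup.mem_top (⟨_, hvK⟩ : K) : (⟨_, hvK⟩ : K) ∈ L.subgroupOf K)).1

end Cfsg.Agent.S5895
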