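import Cfsg.Statements.S5896

set_option autoImplicit false
open Cfsg
open scoped commutatorElement

namespace Cfsg.Agent.S5896

section CommRing

variable {R : Type} [CommRing R]

local notation "S2" => Matrix.SpecialLinearGroup (Fin 2) R

/-- Upper elementary matrix. -/
def eu (x : R) : S2 := ⟨!![1, x; 0, 1], by simp [Matrix.det_fin_two]⟩

/-- Lower elementary matrix. -/
def ev (x : R) : S2 := ⟨!![1, 0; x, 1], by simp [Matrix.det_fin_two]⟩

/-- Diagonal matrix. -/
def eh (t : Rˣ) : S2 := ⟨!![(t : R), 0; 0, (↑t⁻¹ : R)], by simp [Matrix.det_fin_two]⟩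

@[simp] theorem eu_coe (x : R) : (eu x).1 = !![1, x; 0, 1] := rfl
@[simp] theorem ev_coe (x : R) : (ev x).1 = !![1, 0; x, 1] := rfl
@[simp] theorem eh_coe (t : Rˣ) : (eh t).1 = !![(t : R), 0; 0, (↑t⁻¹ : R)] := rfl

theorem eu_mul (x y : R) : eu x * eu y = eu (x + y) := Subtype.ext (by simp [Matrix.mul_fin_two, add_comm])
theorem ev_mul (x y : R) : ev x * ev y = ev (x + y) := Subtype.ext (by simp [Matrix.mul_fin_two])
theorem eu_zero : eu (0 : R) = 1 := Subtype.ext (by simp [Matrix.one_fin_two])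
theorem ev_zero : ev (0 : R) = 1 := Subtype.ext (by simp [Matrix.one_fin_two])
theorem eh_mul (s t : Rˣ) : eh s * eh t = eh (s * t) :=
  Subtype.ext (by simp [Matrix.mul_fin_two, mul_comm])
theorem eh_one : eh (1 : Rˣ) = 1 := Subtype.ext (by simp [Matrix.one_fin_two])
theorem eu_inv (x : R) : (eu x)⁻¹ = eu (-x) := inv_eq_of_mul_eq_one_right (by rw [eu_mul, add_neg_cancel, eu_zero])
theorem ev_inv (x : R) : (ev x)⁻¹ = ev (-x) := inv_eq_of_mul_eq_one_right (by rw [ev_mul, add_neg_cancel, ev_zero])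
theorem eh_inv (t : Rˣ) : (eh t)⁻¹ = eh t⁻¹ := inv_eq_of_mul_eq_one_right (by rw [eh_mul, mul_inv_cancel, eh_one])

theorem comm_hu (t : Rˣ) (x : R) : ⁅eh t, eu x⁆ = eu (((t : R) * t - 1) * x) := by
  rw [commutatorElement_def, eh_inv, eu_inv]
  refine Subtype.ext ?_
  simp [Matrix.mul_fin_two]
  ring

theorem comm_hv (t : Rˣ) (x : R) : ⁅eh t, ev x⁆ = ev (((↑t⁻¹ : R) * ↑t⁻¹ - 1) * x) := by
  rw [commutatorElement_def, eh_inv, ev_inv]
  refine Subtype.ext ?_
  simp [Matrix.mul_fin_two]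
  ring

theorem comm_uv (a b : R) (s : Rˣ) (hs : (↑s⁻¹ : R) = 1 - a * b) :
    ⁅eu a, ev b⁆ = eu (-(a * a * b) * s) * eh s * ev (a * b * b * s) := by
  rw [commutatorElement_def, eu_inv, ev_inv]
  refine Subtype.ext ?_
  have h1 : (s : R) * (1 - a * b) = 1 := by rw [← hs, Units.mul_inv]
  ext i j
  fin_cases i <;> fin_cases j <;> simp [Matrix.mul_fin_two, hs] <;> grind

theorem decompose (M : S2) (c : Rˣ) (hc : M.1 1 0 = c) :
    M = eu ((M.1 0 0 - 1) * ↑c⁻¹) * ev (c : R) * eu ((M.1 1 1 - 1) * ↑c⁻¹) := by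
  have hd := M.2
  rw [Matrix.det_fin_two] at hd
  refine Subtype.ext ?_
  have h1 : (↑c⁻¹ : R) * c = 1 := c.inv_mul
  ext i j
  fin_cases i <;> fin_cases j <;> simp [Matrix.mul_fin_two] <;> grind

theorem eu_sub_mem {K : Subgroup S2} {x : R} (h : eu x ∈ K) (k : ℕ) : eu ((k : R) * x) ∈ K := by
  induction k with
  | zero => simp [eu_zero]
  | succ k ih => rw [Nat.cast_succ, add_one_mul, ← eu_mul]; exact mul_mem ih h

theorem ev_sub_mem {K : Subgroup S2} {x : R} (h : ev x ∈ K) (k : ℕ) : ev ((k : R) * x) ∈ K := by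
  induction k with
  | zero => simp [ev_zero]
  | succ k ih => rw [Nat.cast_succ, add_one_mul, ← ev_mul]; exact mul_mem ih h

/-- The reduction map modulo `c`. -/
def red (c : R) : S2 →* Matrix.SpecialLinearGroup (Fin 2) (R ⧸ Ideal.span {c}) :=
  Matrix.SpecialLinearGroup.map (Ideal.Quotient.mk _)

/-- The congruence subgroup. -/
def congr (c : R) : Subgroup S2 := (red c).ker

theorem mem_congr {c : R} {M : S2} : M ∈ congr c ↔ ∃ A : Matrix (Fin 2) (Fin 2) R, M.1 = 1 + c • A := by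
  constructor
  · intro h
    have h' : ∀ i j, ∃ a, M.1 i j - (1 : Matrix (Fin 2) (Fin 2) R) i j = c * a := fun i j => by
      have := congrArg (fun N : Matrix.SpecialLinearGroup (Fin 2) (R ⧸ Ideal.span {c}) => N.1 i j)
        (MonoidHom.mem_ker.mp h)
      refine Ideal.mem_span_singleton.mp ((Ideal.Quotient.eq).mp ?_)
      refine this.trans ?_
      by_cases hij : i = j <;> simp [Matrix.one_apply, hij]
    choose A hA using h'
    exact ⟨Matrix.of A, Matrix.ext fun i j => by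
      rw [Matrix.add_apply, Matrix.smul_apply, smul_eq_mul, Matrix.of_apply, ← hA]; ring⟩
  · rintro ⟨A, hA⟩
    refine MonoidHom.mem_ker.mpr (Subtype.ext (Matrix.ext fun i j => ?_))
    show Ideal.Quotient.mk _ (M.1 i j) = (1 : Matrix (Fin 2) (Fin 2) (R ⧸ Ideal.span {c})) i j
    rw [hA, Matrix.add_apply, Matrix.smul_apply, smul_eq_mul, map_add, map_mul,
      Ideal.Quotient.eq_zero_iff_mem.mpr (Ideal.mem_span_singleton_self c), zero_mul, add_zero]
    by_cases hij : i = j <;> simp [Matrix.one_apply, hij]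

theorem congr_commutator (c : R) : ⁅congr c, congr c⁆ ≤ congr (c * c) := by
  rw [Subgroup.commutator_le]
  intro M hM N hN
  obtain ⟨A, hA⟩ := mem_congr.mp hM
  obtain ⟨B, hB⟩ := mem_congr.mp hN
  refine MonoidHom.mem_ker.mpr ?_
  rw [map_commutatorElement, commutatorElement_eq_one_iff_commute]
  refine Subtype.ext ?_
  have e : (M * N).1 = (N * M).1 + (c * c) • (A * B - B * A) := by
    rw [Matrix.SpecialLinearGroup.coe_mul, Matrix.SpecialLinearGroup.coe_mul, hA, hB]
    simp only [mul_add, add_mul, Matrix.mul_one, Matrix.one_mul, Matrix.smul_mul, Matrix.mul_smul, smul_smul, smul_sub]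
    abel
  rw [← map_mul, ← map_mul]
  refine Matrix.ext fun i j => ?_
  show Ideal.Quotient.mk _ ((M * N).1 i j) = Ideal.Quotient.mk _ ((N * M).1 i j)
  rw [e, Matrix.add_apply, Matrix.smul_apply, smul_eq_mul, map_add, map_mul,
    Ideal.Quotient.eq_zero_iff_mem.mpr (Ideal.mem_span_singleton_self _), zero_mul, add_zero]

/-- Preimage of the upper triangular group. -/
def tri (c : R) : Subgroup S2 where
  carrier := {M | c ∣ M.1 1 0}
  one_mem' := ⟨0, by simp⟩
  mul_mem' {M N} hM hN := by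
    show c ∣ (M * N).1 1 0
    rw [Matrix.SpecialLinearGroup.coe_mul, Matrix.mul_apply, Fin.sum_univ_two]
    exact dvd_add (hM.mul_right _) (Dvd.dvd.mul_left hN _)
  inv_mem' {M} hM := by
    show c ∣ (M⁻¹).1 1 0
    rw [Matrix.SpecialLinearGroup.coe_inv, Matrix.adjugate_fin_two]
    simpa using hM

theorem tri_map {c : R} {M : S2} (hM : M ∈ tri c) : (red c M).1 1 0 = 0 :=
  Ideal.Quotient.eq_zero_iff_mem.mpr (Ideal.mem_span_singleton.mpr hM)

theorem tri_derived (c : R) : (⁅⁅tri c, tri c⁆, ⁅tri c, tri c⁆⁆ : Subgroup S2) ≤ congr c := by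
  have h1 : ∀ M ∈ ⁅tri c, tri c⁆, (red c M).1 1 0 = 0 ∧ (red c M).1 0 0 = 1 ∧ (red c M).1 1 1 = 1 := by
    let χ : tri c →* (R ⧸ Ideal.span {c}) :=
      { toFun := fun M => (red c M.1).1 0 0
        map_one' := by simp
        map_mul' := fun M N => by
          rw [Subgroup.coe_mul, map_mul, Matrix.SpecialLinearGroup.coe_mul, Matrix.mul_apply, Fin.sum_univ_two,
            tri_map N.2, mul_zero, add_zero] }
    have hle : ⁅tri c, tri c⁆ ≤ tri c := (tri c).commutator_le_self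
    have hker : ⁅tri c, tri c⁆ ≤ χ.toHomUnits.ker.map (tri c).subtype := by
      rw [Subgroup.commutator_le]
      intro M hM N hN
      exact ⟨⁅(⟨M, hM⟩ : tri c), (⟨N, hN⟩ : tri c)⁆, MonoidHom.mem_ker.mpr (by
        rw [map_commutatorElement, commutatorElement_eq_one_iff_commute]; exact mul_comm _ _), rfl⟩
    intro M hM
    obtain ⟨w, hw, rfl⟩ := hker hM
    have h00 : (red c w.1).1 0 0 = 1 := congrArg Units.val (MonoidHom.mem_ker.mp hw)
    refine ⟨tri_map w.2, h00, ?_⟩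
    have hd := (red c w.1).2
    rw [Matrix.det_fin_two, tri_map w.2, h00] at hd
    simpa using hd
  rw [Subgroup.commutator_le]
  intro M hM N hN
  refine MonoidHom.mem_ker.mpr ?_
  rw [map_commutatorElement, commutatorElement_eq_one_iff_commute]
  obtain ⟨a1, a2, a3⟩ := h1 M hM
  obtain ⟨b1, b2, b3⟩ := h1 N hN
  refine Subtype.ext ?_
  ext i j
  fin_cases i <;> fin_cases j <;> simp [Matrix.mul_apply, Fin.sum_univ_two, a1, a2, a3, b1, b2, b3, add_comm]

theorem derived_le (c : R) (k : ℕ) : (derivedSeries (tri c) (k + 2)).map (tri c).subtype ≤ congr (c ^ (2 ^ k)) := by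
  induction k with
  | zero =>
    rw [pow_zero, pow_one, derivedSeries_succ, derivedSeries_succ, derivedSeries_zero, Subgroup.map_commutator,
      Subgroup.map_commutator, ← MonoidHom.range_eq_map, Subgroup.range_subtype]
    exact tri_derived c
  | succ k ih =>
    rw [show k + 1 + 2 = (k + 2) + 1 by omega, derivedSeries_succ, Subgroup.map_commutator, pow_succ, pow_mul, pow_two]
    exact (Subgroup.commutator_mono ih ih).trans (congr_commutator _)

theorem tri_solvable (c : R) (n : ℕ) (hn : c ^ n = 0) : Group.IsSolvable (tri c) := by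
  refine ⟨⟨n + 2, (Subgroup.map_eq_bot_iff_of_injective _ (tri c).subtype_injective).mp (le_bot_iff.mp ?_)⟩⟩
  refine (derived_le c n).trans fun M hM => ?_
  obtain ⟨A, hA⟩ := mem_congr.mp hM
  rw [pow_eq_zero_of_le Nat.lt_two_pow_self.le hn, zero_smul, add_zero] at hA
  exact Subgroup.mem_bot.mpr (Subtype.ext hA)

/-- Elements that survive in the derived series. -/
theorem survive (c : R) (hu : ∀ y : R, IsUnit (1 - c * y)) (h2 : ∀ y : R, IsUnit (2 - c * y)) (d : ℕ) :
    ∀ y : R, eu (c ^ (2 ^ d) * y) ∈ (derivedSeries (tri c) d).map (tri c).subtype ∧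
      ev (c ^ (2 ^ d) * y) ∈ (derivedSeries (tri c) d).map (tri c).subtype ∧
      ∀ s : Rˣ, (↑s⁻¹ : R) = 1 - c ^ (2 ^ d) * y → eh s ∈ (derivedSeries (tri c) d).map (tri c).subtype := by
  induction d with
  | zero =>
    rw [derivedSeries_zero, ← MonoidHom.range_eq_map, Subgroup.range_subtype, pow_zero, pow_one]
    exact fun y => ⟨⟨0, by simp⟩, ⟨y, by simp⟩, fun s _ => ⟨0, by simp⟩⟩
  | succ d ih =>
    obtain ⟨D, hD⟩ : ∃ D, D = (derivedSeries (tri c) d).map (tri c).subtype := ⟨_, rfl⟩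
    rw [← hD] at ih
    have hE : (derivedSeries (tri c) (d + 1)).map (tri c).subtype = ⁅D, D⁆ := by
      rw [derivedSeries_succ, Subgroup.map_commutator, hD]
    rw [hE]
    obtain ⟨m, hm⟩ : ∃ m, m = c ^ (2 ^ d) := ⟨_, rfl⟩
    rw [← hm] at ih
    rw [pow_succ, pow_mul, ← hm, pow_two]
    obtain ⟨m', hm'⟩ : c ∣ m := hm ▸ dvd_pow_self c (by positivity)
    obtain ⟨s, hs⟩ : ∃ s : Rˣ, (↑s⁻¹ : R) = 1 - m := ⟨(hu m').unit⁻¹, by rw [inv_inv, IsUnit.unit_spec, hm']⟩
    obtain ⟨w, hw⟩ : IsUnit (2 - m) := hm' ▸ h2 m'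
    have hh := (ih 1).2.2 s (by rw [hs, mul_one])
    have hsq : (s : R) * s - 1 = m * ((w : R) * (s * s)) := by
      have h1 : (s : R) * (1 - m) = 1 := by rw [← hs, Units.mul_inv]
      rw [hw]; linear_combination ((s : R) * (1 - m) + 1) * h1
    have hsq' : (↑s⁻¹ : R) * ↑s⁻¹ - 1 = m * (-(w : R)) := by rw [hs, hw]; ring
    have hU : ∀ y, eu (m * m * y) ∈ ⁅D, D⁆ := fun y => by
      have := Subgroup.commutator_mem_commutator hh (ih (↑(w * (s * s))⁻¹ * y)).1
      rwa [comm_hu, hsq, ← Units.val_mul, ← Units.val_mul, show m * ↑(w * (s * s)) * (m * (↑(w * (s * s))⁻¹ * y)) =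
        m * m * y * (↑(w * (s * s)) * ↑(w * (s * s))⁻¹) by ring, Units.mul_inv, mul_one] at this
    have hV : ∀ y, ev (m * m * y) ∈ ⁅D, D⁆ := fun y => by
      have := Subgroup.commutator_mem_commutator hh (ih (↑(-w)⁻¹ * y)).2.1
      rwa [comm_hv, hsq', ← Units.val_neg, show m * ↑(-w) * (m * (↑(-w)⁻¹ * y)) =
        m * m * y * (↑(-w) * ↑(-w)⁻¹) by ring, Units.mul_inv, mul_one] at this
    intro y
    refine ⟨hU y, hV y, fun t ht => ?_⟩
    have h := Subgroup.commutator_mem_commutator (ih y).1 (ih 1).2.1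
    rw [comm_uv _ _ t (by rw [ht]; ring)] at h
    have hu1 := hU (-(m * y * y * t))
    have hv1 := hV (m * y * t)
    rw [show -(m * y * (m * y) * (m * 1)) * (t : R) = m * m * -(m * y * y * t) by ring,
      show m * y * (m * 1) * (m * 1) * (t : R) = m * m * (m * y * t) by ring] at h
    exact (Subgroup.mul_mem_cancel_left _ hu1).mp ((Subgroup.mul_mem_cancel_right _ hv1).mp h)

end CommRing

/-- Units of `ZMod (5 ^ n)`. -/
theorem unit_or_dvd (n : ℕ) (x : ZMod (5 ^ n)) : IsUnit x ∨ (5 : ZMod (5 ^ n)) ∣ x := by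
  haveI : NeZero (5 ^ n) := ⟨by positivity⟩
  rcases Nat.coprime_or_dvd_of_prime (show Nat.Prime 5 by norm_num) x.val with h | ⟨k, hk⟩
  · left
    rw [← ZMod.natCast_zmod_val x, ZMod.isUnit_iff_coprime]
    exact Nat.Coprime.pow_right n h.symm
  · right
    exact ⟨k, by rw [← ZMod.natCast_zmod_val x, hk, Nat.cast_mul, Nat.cast_ofNat]⟩

theorem unit_sub (n : ℕ) (k : ℕ) (hk : Nat.Coprime k 5) (y : ZMod (5 ^ n)) : IsUnit ((k : ZMod (5 ^ n)) - 5 * y) := by
  have h5 : IsNilpotent ((5 : ZMod (5 ^ n)) * y) :=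
    ⟨n, by rw [mul_pow, show (5 : ZMod (5 ^ n)) ^ n = ((5 ^ n : ℕ) : ZMod (5 ^ n)) by push_cast; rfl,
      ZMod.natCast_self, zero_mul]⟩
  exact h5.neg.isUnit_add_left_of_commute ((ZMod.isUnit_iff_coprime k _).mpr (hk.pow_right n)) (Commute.all _ _) |>
    fun h => by rwa [← sub_eq_add_neg] at h

/-- Finite perfect groups have solvable maximal subgroups of unbounded derived length: for every d there is a finite perfect group G (equal to its commutator subgroup) with a solvable maximal subgroup H whose derived length exceeds d, i.e. the d-th term of the derived series of H is non-trivial. (Take the derived subgroup of a wreath product S ≀ A₅ with S solvable of large derived length, and H the preimage of a maximal subgroup of A₅.) -/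
theorem result (d : ℕ) :
    ∃ (G : Type) (_ : Group G) (_ : Finite G) (H : Subgroup G), commutator G = ⊤ ∧ IsCoatom H ∧ Group.IsSolvable H ∧
      derivedSeries H d ≠ ⊥ := by
  obtain ⟨n, hn⟩ : ∃ n, n = 2 ^ d + 1 := ⟨_, rfl⟩
  haveI : NeZero (5 ^ n) := ⟨by positivity⟩
  have hn0 : 0 < n := hn ▸ Nat.succ_pos _
  obtain ⟨c, hc⟩ : ∃ c : ZMod (5 ^ n), c = 5 := ⟨_, rfl⟩
  have hnil : c ^ n = 0 := by
    rw [hc, show (5 : ZMod (5 ^ n)) ^ n = ((5 ^ n : ℕ) : ZMod (5 ^ n)) by push_cast; rfl, ZMod.natCast_self]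
  have hgen : ∀ K : Subgroup (Matrix.SpecialLinearGroup (Fin 2) (ZMod (5 ^ n))),
      (∀ x, eu x ∈ K) → (∀ x, ev x ∈ K) → K = ⊤ := fun K hu hv => by
    have hc' : ∀ M : Matrix.SpecialLinearGroup (Fin 2) (ZMod (5 ^ n)), IsUnit (M.1 1 0) → M ∈ K := fun M ⟨t, ht⟩ => by
      rw [decompose M t ht.symm]; exact mul_mem (mul_mem (hu _) (hv _)) (hu _)
    refine eq_top_iff.mpr fun M _ => ?_
    rcases unit_or_dvd n (M.1 1 0) with h | ⟨k, hk⟩
    · exact hc' M h
    · refine (Subgroup.mul_mem_cancel_left _ (hv 1)).mp (hc' _ ?_)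
      rcases unit_or_dvd n ((ev 1 * M).1 1 0) with h | ⟨l, hl⟩
      · exact h
      exfalso
      have hl' : M.1 0 0 + M.1 1 0 = 5 * l := by
        rw [← hl]; simp [Matrix.mul_apply, Fin.sum_univ_two]
      have hd := M.2
      rw [Matrix.det_fin_two] at hd
      have h1 : (5 : ZMod (5 ^ n)) * ((l - k) * M.1 1 1 - M.1 0 1 * k) = 1 := by
        linear_combination hd - M.1 1 1 * hl' + (M.1 1 1 + M.1 0 1) * hk
      have h51 : IsUnit (5 : ZMod (5 ^ n)) := .of_mul_eq_one _ h1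
      rw [show (5 : ZMod (5 ^ n)) = ((5 : ℕ) : ZMod (5 ^ n)) by push_cast; rfl, ZMod.isUnit_iff_coprime,
        Nat.coprime_pow_right_iff hn0] at h51
      norm_num at h51
  have hlt : ∀ m, m < n → c ^ m ≠ 0 := fun m hm h => by
    rw [hc, show (5 : ZMod (5 ^ n)) ^ m = ((5 ^ m : ℕ) : ZMod (5 ^ n)) by push_cast; rfl,
      ZMod.natCast_eq_zero_iff, Nat.pow_dvd_pow_iff_le_right (by norm_num)] at h
    omega
  refine ⟨Matrix.SpecialLinearGroup (Fin 2) (ZMod (5 ^ n)), inferInstance, inferInstance, tri c,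
    ?_, ⟨fun h => ?_, fun K hK => ?_⟩, tri_solvable c n hnil, fun h => ?_⟩
  · obtain ⟨t, ht⟩ : IsUnit ((2 : ℕ) : ZMod (5 ^ n)) := (ZMod.isUnit_iff_coprime _ _).mpr ((by norm_num : Nat.Coprime 2 5).pow_right n)
    obtain ⟨w, hw⟩ : IsUnit ((3 : ℕ) : ZMod (5 ^ n)) := (ZMod.isUnit_iff_coprime _ _).mpr ((by norm_num : Nat.Coprime 3 5).pow_right n)
    refine hgen _ (fun x => ?_) (fun x => ?_)
    · have e : ((t : ZMod (5 ^ n)) * t - 1) * (↑w⁻¹ * x) = x := by
        have : (t : ZMod (5 ^ n)) * t - 1 = w := by rw [ht, hw]; push_cast; norm_num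
        rw [this, Units.mul_inv_cancel_left]
      rw [← e, ← comm_hu]
      exact Subgroup.commutator_mem_commutator trivial trivial
    · have e : ((↑(t⁻¹)⁻¹ : ZMod (5 ^ n)) * ↑(t⁻¹)⁻¹ - 1) * (↑w⁻¹ * x) = x := by
        have : (t : ZMod (5 ^ n)) * t - 1 = w := by rw [ht, hw]; push_cast; norm_num
        rw [inv_inv, this, Units.mul_inv_cancel_left]
      rw [← e, ← comm_hv]
      exact Subgroup.commutator_mem_commutator trivial trivial
  · have h1 : ev 1 ∈ tri c := h ▸ Subgroup.mem_top _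
    obtain ⟨k, hk⟩ := h1
    refine hlt 0 hn0 ?_
    rw [pow_zero]
    simp at hk
    calc (1 : ZMod (5 ^ n)) = (c * k) ^ n := by rw [← hk, one_pow]
      _ = 0 := by rw [mul_pow, hnil, zero_mul]
  · obtain ⟨M, hMK, hMH⟩ := SetLike.exists_of_lt hK
    have hu : ∀ x, eu x ∈ K := fun x => hK.le ⟨0, by simp⟩
    obtain ⟨t, ht⟩ := (unit_or_dvd n (M.1 1 0)).resolve_right (fun h => hMH (by rw [← hc] at h; exact h))
    have hvt : ev (t : ZMod (5 ^ n)) ∈ K := by
      have := decompose M t ht.symm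
      rw [this] at hMK
      exact (Subgroup.mul_mem_cancel_left _ (hu _)).mp ((Subgroup.mul_mem_cancel_right _ (hu _)).mp hMK)
    refine hgen K hu fun x => ?_
    have := ev_sub_mem hvt (x * ↑t⁻¹).val
    rwa [ZMod.natCast_zmod_val, Units.inv_mul_cancel_right] at this
  · have h1 := (survive c (fun y => by simpa [hc] using unit_sub n 1 (by norm_num) y)
      (fun y => by simpa [hc] using unit_sub n 2 (by norm_num) y) d 1).1
    rw [h, Subgroup.map_bot, Subgroup.mem_bot, mul_one] at h1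
    refine hlt (2 ^ d) (by omega) ?_
    have := congrArg (fun M : Matrix.SpecialLinearGroup (Fin 2) (ZMod (5 ^ n)) => M.1 0 1) h1
    simpa using this

end Cfsg.Agent.S5896
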