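import Cfsg.Statements.S5908
import Cfsg.Agent.Lib.Classical.PSUThreeTwo

set_option autoImplicit false
open Cfsg

namespace Cfsg.Agent.S5908

/-- The subgroup lattice of PSU₃(2) (the solvable group of order 72, realised over the field with 4 elements) is not complemented: some subgroup H has no subgroup X with H ⊔ X = ⊤ and H ⊓ X = ⊥. -/
theorem result {F : Type*} [Field F] [Fintype F] (hF : Fintype.card F = 4) :
    ¬ ComplementedLattice (Subgroup (Cfsg.PSU 3 F 2)) := by
  intro hcomp
  obtain ⟨N, hN, hc, hexp, ⟨e⟩⟩ := Cfsg.Agent.Classical.PSUThreeTwo.exists_structure hF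
  haveI := hN
  let π : Cfsg.PSU 3 F 2 →* QuaternionGroup 2 := e.toMonoidHom.comp (QuotientGroup.mk' N)
  have hπ : Function.Surjective π := e.surjective.comp (QuotientGroup.mk'_surjective N)
  let H : Subgroup (Cfsg.PSU 3 F 2) := Subgroup.comap π (Subgroup.zpowers (QuaternionGroup.a 2))
  have hmem : ∀ g, g ∈ H ↔ π g = 1 ∨ π g = QuaternionGroup.a 2 := fun g => by
    rw [show (g ∈ H ↔ π g ∈ Subgroup.zpowers (QuaternionGroup.a 2)) from Iff.rfl]
    constructor
    · rintro ⟨k, hk⟩
      simp only at hk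
      rcases Int.emod_two_eq_zero_or_one k with h | h <;>
        rw [← zpow_mod_orderOf, show orderOf (QuaternionGroup.a 2 : QuaternionGroup 2) = 2 from
          orderOf_eq_prime (by decide) (by decide), Nat.cast_ofNat, h] at hk <;>
        simp at hk <;> simp [← hk]
    · rintro (h | h) <;> rw [h]
      · exact one_mem _
      · exact Subgroup.mem_zpowers _
  have hinv : ∀ y : QuaternionGroup 2, y ^ 2 = 1 → y = 1 ∨ y = QuaternionGroup.a 2 := by decide
  have hodd : ∀ y : QuaternionGroup 2, ∀ p, Nat.Prime p → p ≠ 2 → y ^ p = 1 → y = 1 := fun y p hp hp2 hy => by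
    have h8 : y ^ 8 = 1 := (by decide : ∀ z : QuaternionGroup 2, z ^ 8 = 1) y
    have hco : Nat.Coprime p 8 := by
      rw [show (8 : ℕ) = 2 ^ 3 from rfl]
      exact Nat.Coprime.pow_right 3 ((Nat.coprime_primes hp Nat.prime_two).mpr hp2)
    exact orderOf_eq_one_iff.mp
      (Nat.eq_one_of_dvd_coprimes hco (orderOf_dvd_of_pow_eq_one hy) (orderOf_dvd_of_pow_eq_one h8))
  obtain ⟨X, hX⟩ := hcomp.exists_isCompl H
  have hX1 : X = ⊥ := by
    rw [Subgroup.eq_bot_iff_forall]
    intro g hg
    by_contra hne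
    obtain ⟨p, hp, hd⟩ := Nat.exists_prime_and_dvd (show orderOf g ≠ 1 by simpa using hne)
    have hy : orderOf (g ^ (orderOf g / p)) = p := orderOf_pow_orderOf_div (orderOf_pos g).ne' hd
    have hyH : g ^ (orderOf g / p) ∈ H := by
      rw [hmem]
      have h1 : π (g ^ (orderOf g / p)) ^ p = 1 := by
        rw [← map_pow]
        conv_lhs => arg 2; arg 2; rw [← hy]
        rw [pow_orderOf_eq_one, map_one]
      rcases eq_or_ne p 2 with rfl | hp2
      · exact hinv _ h1
      · exact Or.inl (hodd _ p hp hp2 h1)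
    have := (hX.disjoint.le_bot) ⟨hyH, X.pow_mem hg _⟩
    rw [Subgroup.mem_bot] at this
    rw [this, orderOf_one] at hy
    exact hp.one_lt.ne hy
  have hH : H = ⊤ := by simpa [hX1] using hX.sup_eq_top
  obtain ⟨g, hg⟩ := hπ (QuaternionGroup.a 1)
  have := (hmem g).mp (by rw [hH]; trivial)
  rw [hg] at this
  revert this; decide

end Cfsg.Agent.S5908
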