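import Cfsg.Statements.S5909
import Cfsg.Agent.Lib.Classical.PartitionAlt

set_option autoImplicit false
open Cfsg

namespace Cfsg.Agent.S5909

open Equiv Equiv.Perm MulAction Cfsg.Agent.Classical

theorem exists_bad {Ω : Type*} [Fintype Ω] {a b : ℕ} {f : Ω → Fin b}
    (hf : ∀ i : Fin b, Nat.card {x : Ω // f x = i} = a) (ha : 1 ≤ a) {g : Perm Ω}
    (hg : g ∉ PartStab.H f) : ∃ u v, f u = f v ∧ f (g u) ≠ f (g v) := by
  classical
  by_contra h
  simp only [not_exists, not_and, not_not] at h
  choose pick hpick using fun i => PartAlt.exists_label hf ha i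
  have key : ∀ x, f (g x) = f (g (pick (f x))) := fun x => h _ _ (hpick _).symm
  have hsurj : Function.Surjective fun i => f (g (pick i)) := fun j =>
    ⟨f (g⁻¹ (pick j)), by
      show f (g (pick (f (g⁻¹ (pick j))))) = j
      rw [← key, Perm.inv_def, Equiv.apply_symm_apply, hpick]⟩
  have hinj := Finite.injective_iff_surjective.mpr hsurj
  refine hg fun x y => ⟨h x y, fun hxy => hinj ?_⟩
  show f (g (pick (f x))) = f (g (pick (f y)))
  rw [← key, ← key, hxy]

/-- The order of the even stabiliser, moved to the standard partition. -/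
theorem card_M {Ω : Type*} [Fintype Ω] [DecidableEq Ω] {a b : ℕ} {f : Ω → Fin b}
    (hf : ∀ i : Fin b, Nat.card {x : Ω // f x = i} = a) :
    Nat.card (PartAlt.M f) = (Finset.univ.filter fun g : Perm (Fin b × Fin a) =>
      (∀ x y, x.1 = y.1 ↔ (g x).1 = (g y).1) ∧ sign g = 1).card := by
  classical
  obtain ⟨e, he⟩ := PartStab.exists_equiv f hf
  rw [← Fintype.card_subtype, ← Nat.card_eq_fintype_card]
  refine Nat.card_congr (Equiv.subtypeEquiv e.permCongr fun g => ?_)
  rw [Subgroup.mem_inf, sign_permCongr]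
  refine and_congr ⟨fun h x y => ?_, fun h x y => ?_⟩ mem_alternatingGroup
  · have h1 := h (e.symm x) (e.symm y)
    simp only [← he, Equiv.apply_symm_apply] at h1
    simpa [Equiv.permCongr_apply] using h1
  · have h1 := h (e x) (e y)
    simp only [Equiv.permCongr_apply, Equiv.symm_apply_apply, he] at h1
    exact h1

theorem count22 : (Finset.univ.filter fun g : Perm (Fin 2 × Fin 2) =>
      (∀ x y, x.1 = y.1 ↔ (g x).1 = (g y).1) ∧ sign g = 1).card = 4 := by decide +kernel

theorem count32 : (Finset.univ.filter fun g : Perm (Fin 3 × Fin 2) =>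
      (∀ x y, x.1 = y.1 ↔ (g x).1 = (g y).1) ∧ sign g = 1).card = 24 := by decide +kernel

theorem alt_index {Ω : Type*} [Fintype Ω] [DecidableEq Ω] (h5 : 5 ≤ Nat.card Ω)
    (K : Subgroup (alternatingGroup Ω)) (hK : K ≠ ⊤) :
    Nat.card (alternatingGroup Ω) ∣ (K.index).factorial := by
  have := alternatingGroup.isSimpleGroup h5
  have hcore : K.normalCore = ⊥ :=
    (IsSimpleGroup.eq_bot_or_eq_top_of_normal _ inferInstance).resolve_right
      fun h => hK (top_le_iff.mp (h.symm.le.trans K.normalCore_le))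
  rw [Subgroup.normalCore_eq_ker] at hcore
  have := Subgroup.card_dvd_of_injective _ ((MonoidHom.ker_eq_bot_iff _).mp hcore)
  rwa [Nat.card_perm] at this
/-- Let Ω be a finite set whose size is not 8, and f : Ω → Fin b a labelling with b ≥ 2 whose fibres all have the same size a ≥ 2 (a partition into b blocks of size a). Then the even permutations preserving the partition — the intersection of the imprimitive wreath product S_a ≀ S_b with the alternating group — form a maximal subgroup of the alternating group on Ω. -/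
theorem result {Ω : Type*} [Fintype Ω] [DecidableEq Ω] (h8 : Fintype.card Ω ≠ 8) (a b : ℕ) (ha : 2 ≤ a) (hb : 2 ≤ b)
    (f : Ω → Fin b) (hf : ∀ i : Fin b, Nat.card {x : Ω // f x = i} = a) :
    IsCoatom ((Subgroup.closure {g : Equiv.Perm Ω | ∀ x y : Ω, f x = f y ↔ f (g x) = f (g y)} ⊓ alternatingGroup Ω).subgroupOf (alternatingGroup Ω)) := by
  classical
  rw [PartStab.closure_eq]
  have hcardΩ : Fintype.card Ω = b * a := by
    obtain ⟨e, -⟩ := PartStab.exists_equiv f hf
    rw [Fintype.card_congr e, Fintype.card_prod, Fintype.card_fin, Fintype.card_fin]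
  have : Nontrivial (Fin b) := Fin.nontrivial_iff_two_le.mpr hb
  have hnt : (PartAlt.M f).subgroupOf (alternatingGroup Ω) ≠ ⊤ := by
    intro h
    obtain ⟨x, hx⟩ := PartAlt.exists_label hf (by omega) (⟨0, by omega⟩ : Fin b)
    obtain ⟨x', hx'x, hx'⟩ := PartAlt.exists_other hf ha x
    obtain ⟨i, hi⟩ := exists_ne (f x)
    obtain ⟨y, hy⟩ := PartAlt.exists_label hf (by omega) i
    have hxy : x ≠ y := fun h => hi (by rw [← hy, h])
    have hx'y : x' ≠ y := fun h => hi (by rw [← hy, ← hx', h])
    have h3 := (isThreeCycle_swap_mul_swap_same hxy hx'x.symm hx'y.symm).mem_alternatingGroup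
    have hm : (⟨_, h3⟩ : alternatingGroup Ω) ∈ (PartAlt.M f).subgroupOf (alternatingGroup Ω) :=
      h ▸ trivial
    have h4 := ((Subgroup.mem_subgroupOf.mp hm).1 x x').mp hx'.symm
    rw [Perm.mul_apply, Perm.mul_apply, swap_apply_left, swap_apply_right, swap_apply_left,
      swap_apply_of_ne_of_ne hx'x hx'y, hy, hx'] at h4
    exact hi h4.symm
  refine ⟨hnt, fun L hL => ?_⟩
  obtain ⟨hle, hne⟩ := lt_iff_le_and_ne.mp hL
  obtain ⟨g₀, hg₀L, hg₀⟩ := SetLike.not_le_iff_exists.mp fun h => hne (le_antisymm hle h)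
  set g : Perm Ω := (g₀ : Perm Ω) with hgdef
  have hgH : g ∉ PartStab.H f := fun h => hg₀ (Subgroup.mem_subgroupOf.mpr ⟨h, g₀.2⟩)
  obtain ⟨u, v, huv, hguv⟩ := exists_bad hf (by omega) hgH
  set K : Subgroup (Perm Ω) := L.map (alternatingGroup Ω).subtype with hK
  have hMK : PartAlt.M f ≤ K := fun m hm =>
    ⟨⟨m, hm.2⟩, hle (Subgroup.mem_subgroupOf.mpr hm), rfl⟩
  have hgK : g ∈ K := ⟨g₀, hg₀L, rfl⟩
  by_cases hsmall : a = 2 ∧ b ≤ 3
  · obtain ⟨rfl, hb3⟩ := hsmall
    have hA : 2 * Nat.card (alternatingGroup Ω) = (b * 2).factorial := by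
      have : Nontrivial Ω := Fintype.one_lt_card_iff_nontrivial.mp (by omega)
      rw [two_mul_nat_card_alternatingGroup, Nat.card_perm, Nat.card_eq_fintype_card, hcardΩ]
    have hM : Nat.card ((PartAlt.M f).subgroupOf (alternatingGroup Ω)) = Nat.card (PartAlt.M f) :=
      Nat.card_congr (Subgroup.subgroupOfEquivOfLe inf_le_right).toEquiv
    rw [card_M hf] at hM
    have hdvd := Subgroup.card_dvd_of_le hle
    have hlt : Nat.card ((PartAlt.M f).subgroupOf (alternatingGroup Ω)) < Nat.card L :=
      lt_of_le_of_ne (Nat.le_of_dvd Nat.card_pos hdvd)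
        fun h => hne (Subgroup.eq_of_le_of_card_ge hle h.ge)
    by_contra hLtop
    have hmul := L.index_mul_card
    have hindex : 1 < L.index := Subgroup.one_lt_index_of_ne_top hLtop
    rcases (by omega : b = 2 ∨ b = 3) with rfl | rfl
    · rw [count22] at hM
      rw [hM] at hdvd hlt
      rw [show Nat.factorial (2 * 2) = 2 * 12 by decide] at hA
      obtain ⟨c, hc⟩ := hdvd
      rw [hc] at hmul
      obtain ⟨hc2, hi2⟩ : 2 ≤ c ∧ 2 ≤ L.index := ⟨by omega, hindex⟩
      have : L.index * c = 3 := by nlinarith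
      nlinarith
    · rw [count32] at hM
      rw [hM] at hdvd hlt
      rw [show Nat.factorial (3 * 2) = 2 * 360 by decide] at hA
      have hfac := alt_index (by rw [Nat.card_eq_fintype_card, hcardΩ]; omega) L hLtop
      obtain ⟨c, hc⟩ := hdvd
      rw [hc] at hmul
      have hA' : Nat.card (alternatingGroup Ω) = 360 := by omega
      rw [hA'] at hfac hmul
      have h15 : L.index * c = 15 := by nlinarith
      have hc2 : 2 ≤ c := by omega
      have hile : L.index ≤ 7 := by nlinarith
      interval_cases L.index <;> first | omega | exact absurd hfac (by decide)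
  have h6 : 3 ≤ a ∨ 3 ≤ b := by omega
  have hprim := PartAlt.isPreprimitive hf ha hb h6 K hMK hgK huv hguv
  obtain ⟨t, htK, ht⟩ : ∃ t ∈ K, IsThreeCycle t := by
    rcases lt_or_ge a 3 with ha3 | ha3
    · have ha2 : a = 2 := by omega
      subst ha2
      exact PartAlt.threeCycle_of_two hf ha (by omega) K hMK hgK huv hguv
    · obtain ⟨x, -⟩ := PartAlt.exists_label hf (by omega) (⟨0, by omega⟩ : Fin b)
      have hc : ((Finset.univ.filter fun z => f z = f x).erase x).card = a - 1 := by
        rw [Finset.card_erase_of_mem (by simp), ← Fintype.card_subtype, ← Nat.card_eq_fintype_card, hf]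
      obtain ⟨c, hc', d, hd', hcd⟩ := Finset.one_lt_card.mp
        (show 1 < ((Finset.univ.filter fun z => f z = f x).erase x).card by omega)
      simp only [Finset.mem_erase, Finset.mem_filter, Finset.mem_univ, true_and] at hc' hd'
      have h3 := isThreeCycle_swap_mul_swap_same hc'.1.symm hd'.1.symm hcd
      exact ⟨_, hMK ⟨mul_mem (PartStab.swap_mem f hc'.2.symm) (PartStab.swap_mem f hd'.2.symm),
        h3.mem_alternatingGroup⟩, h3⟩
  have hAK := alternatingGroup_le_of_isPreprimitive_of_isThreeCycle_mem hprim ht htK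
  rw [eq_top_iff]
  intro z _
  obtain ⟨z', hz', he⟩ := hAK z.2
  exact Subtype.ext he ▸ hz'

end Cfsg.Agent.S5909
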