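import Cfsg.Statements.S5910
import Mathlib
import Cfsg.Agent.Lib.Classical.PartitionStab

set_option autoImplicit false
open Cfsg

namespace Cfsg.Agent.S5910

/-- The two-bit XOR-sum of four labels is zero. -/
def Z4 (i j k l : Fin 4) : Prop := (((i : ℕ) ^^^ (j : ℕ)) ^^^ (k : ℕ)) ^^^ (l : ℕ) = 0

/-- The affine planes. -/
def Pl (x y z w : Fin 4 × Fin 2) : Prop := Z4 x.1 y.1 z.1 w.1 ∧ x.2 + y.2 + z.2 + w.2 = 0

instance (i j k l : Fin 4) : Decidable (Z4 i j k l) := inferInstanceAs (Decidable (_ = _))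
instance (x y z w : Fin 4 × Fin 2) : Decidable (Pl x y z w) := inferInstanceAs (Decidable (_ ∧ _))

theorem z4_iff : ∀ i j k l : Fin 4, Z4 i j k l ↔
    (i = j ∧ k = l) ∨ (i = k ∧ j = l) ∨ (i = l ∧ j = k) ∨ (i ≠ j ∧ i ≠ k ∧ i ≠ l ∧ j ≠ k ∧ j ≠ l ∧ k ≠ l) := by
  decide

theorem sum_four : ∀ (c : Fin 4 → Fin 2), (∑ i, c i = 0) → ∀ i j k l : Fin 4, Z4 i j k l →
    c i + c j + c k + c l = 0 := by
  decide

theorem pl_map (σ : Equiv.Perm (Fin 4)) (c : Fin 4 → Fin 2) (hc : ∑ i, c i = 0) {x y z w : Fin 4 × Fin 2}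
    (h : Pl x y z w) : Pl (σ x.1, x.2 + c x.1) (σ y.1, y.2 + c y.1) (σ z.1, z.2 + c z.1) (σ w.1, w.2 + c w.1) := by
  refine ⟨(z4_iff _ _ _ _).mpr ?_, ?_⟩
  · simpa [σ.injective.eq_iff] using (z4_iff _ _ _ _).mp h.1
  · have := sum_four c hc _ _ _ _ h.1
    have := h.2
    change x.2 + c x.1 + (y.2 + c y.1) + (z.2 + c z.1) + (w.2 + c w.1) = 0
    rw [show x.2 + c x.1 + (y.2 + c y.1) + (z.2 + c z.1) + (w.2 + c w.1) =
      (x.2 + y.2 + z.2 + w.2) + (c x.1 + c y.1 + c z.1 + c w.1) by abel]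
    simp_all

/-- The affine group on the eight points. -/
def Aff : Subgroup (Equiv.Perm (Fin 4 × Fin 2)) where
  carrier := {g | ∀ x y z w, Pl x y z w ↔ Pl (g x) (g y) (g z) (g w)}
  one_mem' _ _ _ _ := Iff.rfl
  mul_mem' {g h} hg hh x y z w := (hh x y z w).trans (hg _ _ _ _)
  inv_mem' {g} hg x y z w := by
    have h := hg (g⁻¹ x) (g⁻¹ y) (g⁻¹ z) (g⁻¹ w)
    simpa using h.symm

theorem sign_flip : ∀ c : Fin 4 → Fin 2,
    (∏ i, if c i = 0 then (1 : ℤˣ) else -1) = 1 → ∑ i, c i = 0 := by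
  decide

theorem le_aff {g : Equiv.Perm (Fin 4 × Fin 2)} (hg : ∀ x y, x.1 = y.1 ↔ (g x).1 = (g y).1)
    (hs : Equiv.Perm.sign g = 1) : g ∈ Aff := by
  have hinj : Function.Injective fun i => (g (i, 0)).1 := fun i j h => (hg (i, 0) (j, 0)).mpr h
  let σ : Equiv.Perm (Fin 4) := Equiv.ofBijective _ hinj.bijective_of_finite
  let c : Fin 4 → Fin 2 := fun i => (g (i, 0)).2
  have hσ : ∀ x, (g x).1 = σ x.1 := fun x => ((hg x (x.1, 0)).mp rfl)
  have two : ∀ a b d : Fin 2, d ≠ 0 → a ≠ b → a = d + b := by decide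
  have hform : ∀ x, g x = (σ x.1, x.2 + c x.1) := by
    rintro ⟨i, t⟩
    refine Prod.ext (hσ _) ?_
    by_cases ht : t = 0
    · subst ht; simp [c]
    · exact two _ _ _ ht fun h => ht (by
        have := g.injective (Prod.ext ((hσ (i, t)).trans (hσ (i, 0)).symm) h)
        exact congrArg Prod.snd this)
  have hg' : g = (Equiv.prodCongrLeft fun _ : Fin 2 => σ) * Equiv.prodCongrRight fun i => Equiv.addRight (c i) := by
    ext x : 1
    rw [hform]
    rfl
  have hc : ∑ i, c i = 0 := by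
    refine sign_flip c ?_
    rw [hg', map_mul, Equiv.Perm.sign_prodCongrLeft, Equiv.Perm.sign_prodCongrRight, Fin.prod_univ_two,
      Int.units_mul_self, one_mul] at hs
    refine (Finset.prod_congr rfl fun i _ => ?_).trans hs
    generalize c i = d
    revert d
    decide
  have hz : ∀ x y z w, Pl x y z w → Pl (g x) (g y) (g z) (g w) := fun x y z w h => by
    simpa only [hform] using pl_map σ c hc h
  intro x y z w
  refine ⟨hz x y z w, fun h => ?_⟩
  have hback := pl_map σ⁻¹ (fun i => c (σ⁻¹ i)) (by rw [Equiv.sum_comp σ⁻¹ c]; exact hc) h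
  have key : ∀ u, ((σ⁻¹ (g u).1, (g u).2 + c (σ⁻¹ (g u).1)) : Fin 4 × Fin 2) = u := fun u => by
    rw [hform]
    simp only [Equiv.Perm.coe_inv, Equiv.symm_apply_apply]
    have : ∀ a b : Fin 2, a + b + b = a := by decide
    rw [this]
  simpa only [key] using hback

/-- An affine map moving the pairs. -/
def gM : Equiv.Perm (Fin 4 × Fin 2) :=
  Equiv.swap ((0, 1) : Fin 4 × Fin 2) (1, 0) * Equiv.swap ((2, 1) : Fin 4 × Fin 2) (3, 0)

/-- An even permutation that is not affine. -/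
def gB : Equiv.Perm (Fin 4 × Fin 2) :=
  Equiv.swap ((0, 0) : Fin 4 × Fin 2) (0, 1) * Equiv.swap ((0, 1) : Fin 4 × Fin 2) (1, 0)

/-- The linear action behind `gM`. -/
theorem gM_aff_aux : ∀ x : Fin 4 × Fin 2, (((gM x).1 : ℕ) % 2 = (x.2 : ℕ)) ∧ (((gM x).1 : ℕ) / 2 = (x.1 : ℕ) / 2) ∧
    ((gM x).2 : ℕ) = (x.1 : ℕ) % 2 := by
  decide

theorem pl_bits : ∀ i j k l : Fin 4, (((i : ℕ) ^^^ (j : ℕ)) ^^^ (k : ℕ)) ^^^ (l : ℕ) = 0 ↔
    ((i : ℕ) % 2 + (j : ℕ) % 2 + (k : ℕ) % 2 + (l : ℕ) % 2) % 2 = 0 ∧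
    ((i : ℕ) / 2 + (j : ℕ) / 2 + (k : ℕ) / 2 + (l : ℕ) / 2) % 2 = 0 := by
  decide

theorem gM_aff : gM ∈ Aff := by
  intro x y z w
  have hfin : ∀ s t u v : Fin 2, s + t + u + v = 0 ↔ ((s : ℕ) + t + u + v) % 2 = 0 := by decide
  simp only [Pl, Z4, pl_bits, hfin, gM_aff_aux]
  omega

/-- Let Ω be a set with 8 elements and f : Ω → Fin 4 a labelling whose four fibres all have size 2 (a partition of the 8 points into 4 pairs). Then the group of even permutations preserving this partition, (S₂ ≀ S₄) ∩ A₈, is not a maximal subgroup of the alternating group A₈ (it lies in a subgroup isomorphic to the affine group AGL₃(2)). -/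
theorem result {Ω : Type*} [Fintype Ω] [DecidableEq Ω] (h8 : Fintype.card Ω = 8)
    (f : Ω → Fin 4) (hf : ∀ i : Fin 4, Nat.card {x : Ω // f x = i} = 2) :
    ¬ IsCoatom ((Subgroup.closure {g : Equiv.Perm Ω | ∀ x y : Ω, f x = f y ↔ f (g x) = f (g y)} ⊓ alternatingGroup Ω).subgroupOf (alternatingGroup Ω)) := by
  classical
  rw [Cfsg.Agent.Classical.PartStab.closure_eq]
  obtain ⟨e, he⟩ := Cfsg.Agent.Classical.PartStab.exists_equiv f hf
  let φ : Equiv.Perm Ω ≃* Equiv.Perm (Fin 4 × Fin 2) := e.permCongrHom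
  have hsign : ∀ g : Equiv.Perm Ω, Equiv.Perm.sign (φ g) = Equiv.Perm.sign g := fun g =>
    Equiv.Perm.sign_permCongr e g
  let K : Subgroup (alternatingGroup Ω) := (Aff.comap φ.toMonoidHom).subgroupOf (alternatingGroup Ω)
  intro hco
  have hle : ((Cfsg.Agent.Classical.PartStab.H f ⊓ alternatingGroup Ω).subgroupOf (alternatingGroup Ω)) ≤ K := by
    rintro ⟨g, hgA⟩ hg
    rw [Subgroup.mem_subgroupOf] at hg ⊢
    refine le_aff (fun x y => ?_) ((hsign g).trans hgA)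
    have := hg.1 (e.symm x) (e.symm y)
    simpa [φ, ← he, Equiv.permCongr_apply] using this
  have hgMA : φ.symm gM ∈ alternatingGroup Ω := by
    rw [Equiv.Perm.mem_alternatingGroup, ← hsign, MulEquiv.apply_symm_apply]; decide
  have hgBA : φ.symm gB ∈ alternatingGroup Ω := by
    rw [Equiv.Perm.mem_alternatingGroup, ← hsign, MulEquiv.apply_symm_apply]; decide
  rcases hle.eq_or_lt with h | h
  · have hM : (⟨_, hgMA⟩ : alternatingGroup Ω) ∈ K := by
      rw [Subgroup.mem_subgroupOf, Subgroup.mem_comap]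
      change φ (φ.symm gM) ∈ Aff
      rw [MulEquiv.apply_symm_apply]; exact gM_aff
    rw [← h, Subgroup.mem_subgroupOf] at hM
    have := (hM.1 (e.symm (0, 0)) (e.symm (0, 1))).mp (by rw [← he, ← he]; simp)
    rw [← he, ← he] at this
    simp [φ, Equiv.permCongr_apply, Equiv.permCongrHom] at this
    exact absurd this (by decide)
  · have hB : (⟨_, hgBA⟩ : alternatingGroup Ω) ∈ K := (hco.2 K h) ▸ trivial
    rw [Subgroup.mem_subgroupOf, Subgroup.mem_comap] at hB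
    change φ (φ.symm gB) ∈ Aff at hB
    rw [MulEquiv.apply_symm_apply] at hB
    exact absurd ((hB (0, 0) (1, 0) (2, 0) (3, 0)).mp (by decide)) (by decide)

end Cfsg.Agent.S5910
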