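import Cfsg.Statements.S5911
import Mathlib

set_option autoImplicit false
open Cfsg

namespace Cfsg.Agent.S5911

open Equiv

theorem swap_mul_swap_pow {α : Type*} [DecidableEq α] [Fintype α] {s t : Perm α} (hs : s.IsSwap) (ht : t.IsSwap) :
    ∃ k : ℕ, 1 ≤ k ∧ k ≤ 3 ∧ (s * t) ^ k = 1 := by
  have h3 : ∀ a b c : α, a ≠ b → a ≠ c → b ≠ c → (swap a b * swap a c) ^ 3 = 1 := fun a b c hab hac hbc => by
    have := (Equiv.Perm.isThreeCycle_swap_mul_swap_same hab hac hbc).orderOf
    rw [← this, pow_orderOf_eq_one]
  obtain ⟨a, b, hab, rfl⟩ := hs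
  obtain ⟨c, d, hcd, rfl⟩ := ht
  by_cases hac : a = c
  · subst hac
    by_cases hbd : b = d
    · subst hbd; exact ⟨1, le_rfl, by omega, by simp⟩
    · exact ⟨3, by omega, le_rfl, h3 a b d hab hcd hbd⟩
  by_cases had : a = d
  · subst had
    rw [swap_comm c a]
    by_cases hbc : b = c
    · subst hbc; exact ⟨1, le_rfl, by omega, by simp⟩
    · exact ⟨3, by omega, le_rfl, h3 a b c hab hac hbc⟩
  by_cases hbc : b = c
  · subst hbc
    rw [swap_comm a b]
    exact ⟨3, by omega, le_rfl, h3 b a d hab.symm hcd had⟩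
  by_cases hbd : b = d
  · subst hbd
    rw [swap_comm a b, swap_comm c b]
    exact ⟨3, by omega, le_rfl, h3 b a c hab.symm hbc hac⟩
  refine ⟨2, by omega, by omega, ?_⟩
  have hc : Commute (swap a b) (swap c d) :=
    Equiv.Perm.Disjoint.commute fun x => by
      by_cases hx : x = a ∨ x = b
      · exact Or.inr (by rcases hx with rfl | rfl <;> exact swap_apply_of_ne_of_ne (by assumption) (by assumption))
      · push Not at hx
        exact Or.inl (swap_apply_of_ne_of_ne hx.1 hx.2)
  rw [hc.mul_pow, pow_two, pow_two, swap_mul_self, swap_mul_self, one_mul]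

theorem isSwap_of_conj_products {α : Type*} [DecidableEq α] [Fintype α] (h6 : Fintype.card α ≠ 6)
    (h5 : 5 ≤ Fintype.card α) {w : Perm α} (hw2 : w * w = 1) (hw1 : w ≠ 1)
    (h : ∀ τ : Perm α, ∃ k : ℕ, 1 ≤ k ∧ k ≤ 3 ∧ (w * (τ * w * τ⁻¹)) ^ k = 1) : w.IsSwap := by
  have hinv : ∀ x, w (w x) = x := fun x => by rw [← Perm.mul_apply, hw2, Perm.one_apply]
  obtain ⟨a, ha⟩ : ∃ a, w a ≠ a := by
    by_contra hcon; push Not at hcon; exact hw1 (Equiv.ext hcon)
  by_contra hns
  obtain ⟨c, hca, hcb, hc⟩ : ∃ c, c ≠ a ∧ c ≠ w a ∧ w c ≠ c := by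
    by_contra hcon
    push Not at hcon
    refine hns ⟨a, w a, ha.symm, Equiv.ext fun x => ?_⟩
    by_cases h1 : x = a
    · rw [h1, swap_apply_left]
    by_cases h2 : x = w a
    · rw [h2, hinv, swap_apply_right]
    rw [swap_apply_of_ne_of_ne h1 h2, hcon x h1 h2]
  set b := w a with hb
  set d := w c with hd
  have hwb : w b = a := hinv a
  have hwd : w d = c := hinv c
  have hab : a ≠ b := ha.symm
  have hcd : c ≠ d := hc.symm
  have had : a ≠ d := fun e => hcb (w.injective (show w c = w b by rw [hwb, ← hd]; exact e.symm))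
  have hbd : b ≠ d := fun e => hca (w.injective (show w c = w a by rw [← hd, ← hb]; exact e.symm))
  have key : ∀ (τ : Perm α) (p q r : α), (∀ y, τ y = a → τ (w y) = w p) →
      (∀ y, τ y = p → τ (w y) = w q) → (∀ y, τ y = q → τ (w y) = w r) → p ≠ a → q ≠ a → r ≠ a → False := by
    intro τ p q r hp hq hr hpa hqa hra
    obtain ⟨k, hk1, hk3, hk⟩ := h τ
    set g := w * (τ * w * τ⁻¹)
    have hg : ∀ x y z, (∀ u, τ u = x → τ (w u) = w z) → y = z → g x = y := fun x y z hu e => by
      have := hu (τ⁻¹ x) (by simp)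
      simp only [g, Perm.mul_apply, this, hinv, e]
    have e1 : g a = p := hg a p p hp rfl
    have e2 : g p = q := hg p q q hq rfl
    have e3 : g q = r := hg q r r hr rfl
    have hka := congrArg (fun u : Perm α => u a) hk
    interval_cases k
    · exact hpa (by simpa [e1] using hka)
    · exact hqa (by simpa [pow_two, e1, e2] using hka)
    · exact hra (by simpa [pow_succ, e1, e2, e3] using hka)
  by_cases hfix : ∃ e, w e = e
  · obtain ⟨e, he⟩ := hfix
    have hea : e ≠ a := fun h0 => ha (by rw [hb, ← h0, he])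
    have heb : e ≠ b := fun h0 => hab (by rw [h0, hwb] at he; exact he)
    have hec : e ≠ c := fun h0 => hc (by rw [hd, ← h0, he])
    have hed : e ≠ d := fun h0 => hcd (by rw [h0, hwd] at he; exact he)
    set τ := swap a b * swap b c * swap c d * swap d e
    have t1 : τ a = b := by simp only [τ, Perm.mul_apply]; grind [Equiv.swap_apply_def]
    have t2 : τ b = c := by simp only [τ, Perm.mul_apply]; grind [Equiv.swap_apply_def]
    have t3 : τ c = d := by simp only [τ, Perm.mul_apply]; grind [Equiv.swap_apply_def]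
    have t4 : τ d = e := by simp only [τ, Perm.mul_apply]; grind [Equiv.swap_apply_def]
    have t5 : τ e = a := by simp only [τ, Perm.mul_apply]; grind [Equiv.swap_apply_def]
    refine key τ b d e ?_ ?_ ?_ hab.symm had.symm hea
    · intro y hy
      rw [← t5] at hy
      rw [τ.injective hy, he, t5, hwb]
    · intro y hy
      rw [← t1] at hy
      rw [τ.injective hy, ← hb, t2, hwd]
    · intro y hy
      rw [← t3] at hy
      rw [τ.injective hy, ← hd, t4, he]
  · push Not at hfix
    obtain ⟨e, he⟩ : ∃ e, e ∉ ({a, b, c, d} : Finset α) := by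
      by_contra hcon
      push Not at hcon
      have := Finset.card_le_card (fun x _ => hcon x : (Finset.univ : Finset α) ⊆ {a, b, c, d})
      rw [Finset.card_univ] at this
      have := this.trans Finset.card_le_four
      omega
    set f := w e with hf
    have hwf : w f = e := hinv e
    have hfe : f ≠ e := hfix e
    simp only [Finset.mem_insert, Finset.mem_singleton, not_or] at he
    obtain ⟨hea, heb, hec, hed⟩ := he
    have hfa : f ≠ a := fun h0 => heb (w.injective (by rw [← hf, h0, hwb]))
    have hfb : f ≠ b := fun h0 => hea (w.injective (h0.trans hb))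
    have hfc : f ≠ c := fun h0 => hed (w.injective (by rw [← hf, h0, hwd]))
    have hfd : f ≠ d := fun h0 => hec (w.injective (h0.trans hd))
    obtain ⟨g, hg⟩ : ∃ g, g ∉ ({a, b, c, d, e, f} : Finset α) := by
      by_contra hcon
      push Not at hcon
      have := Finset.card_le_card (fun x _ => hcon x : (Finset.univ : Finset α) ⊆ {a, b, c, d, e, f})
      rw [Finset.card_univ] at this
      have := this.trans Finset.card_le_six
      have h5' : Fintype.card α ≠ 5 := fun h0 => by
        have hodd : ∃ x, w x = x := Equiv.Perm.exists_fixed_point_of_prime (p := 2) (n := 1)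
          (by rw [h0]; decide) (by rw [pow_one, pow_two, hw2])
        obtain ⟨x, hx⟩ := hodd
        exact hfix x hx
      omega
    set i := w g with hi
    have hwi : w i = g := hinv g
    simp only [Finset.mem_insert, Finset.mem_singleton, not_or] at hg
    obtain ⟨hga, hgb, hgc, hgd, hge, hgf⟩ := hg
    have hig : i ≠ g := hfix g
    have hia : i ≠ a := fun h0 => hgb (w.injective (by rw [← hi, h0, hwb]))
    have hib : i ≠ b := fun h0 => hga (w.injective (h0.trans hb))
    have hic : i ≠ c := fun h0 => hgd (w.injective (by rw [← hi, h0, hwd]))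
    have hid : i ≠ d := fun h0 => hgc (w.injective (h0.trans hd))
    have hie : i ≠ e := fun h0 => hgf (w.injective (by rw [← hi, h0, hwf]))
    have hif : i ≠ f := fun h0 => hge (w.injective (h0.trans hf))
    set τ := swap a b * swap b c * swap c d * swap d e * swap e f * swap f g * swap g i
    have t3 : τ c = d := by simp only [τ, Perm.mul_apply]; grind [Equiv.swap_apply_def]
    have t4 : τ d = e := by simp only [τ, Perm.mul_apply]; grind [Equiv.swap_apply_def]
    have t5 : τ e = f := by simp only [τ, Perm.mul_apply]; grind [Equiv.swap_apply_def]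
    have t6 : τ f = g := by simp only [τ, Perm.mul_apply]; grind [Equiv.swap_apply_def]
    have t7 : τ g = i := by simp only [τ, Perm.mul_apply]; grind [Equiv.swap_apply_def]
    have t8 : τ i = a := by simp only [τ, Perm.mul_apply]; grind [Equiv.swap_apply_def]
    refine key τ g e c ?_ ?_ ?_ hga hea hca
    · intro y hy
      rw [← t8] at hy
      rw [τ.injective hy, hwi, t7]
    · intro y hy
      rw [← t6] at hy
      rw [τ.injective hy, hwf, t5]
    · intro y hy
      rw [← t4] at hy
      rw [τ.injective hy, hwd, t3]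

/-- Let Ω be a finite set whose size n is not 6. Then every subgroup of the symmetric group on Ω of index n is the stabilizer of a point. -/
theorem result {Ω : Type*} [Fintype Ω] [DecidableEq Ω] (h6 : Fintype.card Ω ≠ 6)
    (H : Subgroup (Equiv.Perm Ω)) (hH : H.index = Fintype.card Ω) :
    ∃ x : Ω, H = MulAction.stabilizer (Equiv.Perm Ω) x := by
  classical
  set n := Fintype.card Ω with hn
  have hn0 : n ≠ 0 := hH ▸ Subgroup.index_ne_zero_of_finite
  rcases Nat.lt_or_ge n 3 with hn3 | hn3
  · obtain ⟨x⟩ : Nonempty Ω := Fintype.card_pos_iff.mp (by omega)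
    refine ⟨x, ?_⟩
    interval_cases n
    · exact absurd rfl hn0
    · have hsub : Subsingleton Ω := Fintype.card_le_one_iff_subsingleton.mp hn.symm.le
      exact Subsingleton.elim _ _
    · have hbot : ∀ K : Subgroup (Equiv.Perm Ω), K.index = 2 → K = ⊥ := fun K hK => by
        refine Subgroup.eq_bot_of_card_eq K ?_
        have h := K.card_mul_index
        rw [hK, Nat.card_perm, Nat.card_eq_fintype_card (α := Ω), ← hn, show Nat.factorial 2 = 2 from rfl] at h
        omega
      rw [hbot H hH, hbot (MulAction.stabilizer (Equiv.Perm Ω) x)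
        (by rw [MulAction.index_stabilizer_of_transitive, Nat.card_eq_fintype_card, ← hn])]
  -- a point fixed by `H` is enough
  suffices hfix : ∃ x : Ω, ∀ g ∈ H, g x = x by
    obtain ⟨x, hx⟩ := hfix
    refine ⟨x, Subgroup.eq_of_le_of_card_ge (fun g hg => hx g hg) (le_of_eq ?_)⟩
    have h1 := H.card_mul_index
    have h2 := (MulAction.stabilizer (Equiv.Perm Ω) x).card_mul_index
    rw [MulAction.index_stabilizer_of_transitive, Nat.card_eq_fintype_card (α := Ω)] at h2
    rw [hH] at h1
    exact Nat.eq_of_mul_eq_mul_right (by omega) (h2.trans h1.symm)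
  -- no intransitive exception
  have hintrans : ¬ MulAction.IsPretransitive H Ω → ∃ x : Ω, ∀ g ∈ H, g x = x := by
    intro hnt
    obtain ⟨x⟩ : Nonempty Ω := Fintype.card_pos_iff.mp (by omega)
    set p : Ω → Prop := fun y => y ∈ MulAction.orbit H x
    have hstab : ∀ g : H, ∀ y, p y ↔ p ((g : Equiv.Perm Ω) y) := fun g y =>
      ⟨fun h => MulAction.mem_orbit_of_mem_orbit g h, fun h => by
        simpa [Subgroup.smul_def] using MulAction.mem_orbit_of_mem_orbit g⁻¹ h⟩
    let f : H → Equiv.Perm {y // p y} × Equiv.Perm {y // ¬ p y} := fun g =>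
      ((g : Equiv.Perm Ω).subtypePerm fun y => (hstab g y).symm, (g : Equiv.Perm Ω).subtypePerm fun y => not_congr (hstab g y).symm)
    have hf : Function.Injective f := fun g h e => Subtype.ext (Equiv.ext fun y => by
      by_cases hy : p y
      · exact congrArg Subtype.val (congrArg (fun u => u ⟨y, hy⟩) (congrArg Prod.fst e))
      · exact congrArg Subtype.val (congrArg (fun u => u ⟨y, hy⟩) (congrArg Prod.snd e)))
    have hle := Nat.card_le_card_of_injective f hf
    rw [Nat.card_prod, Nat.card_perm, Nat.card_perm, Nat.card_eq_fintype_card (α := {y // p y}),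
      Nat.card_eq_fintype_card (α := {y // ¬ p y})] at hle
    set k := Fintype.card {y // p y} with hk
    have hkc : Fintype.card {y // ¬ p y} = n - k := Fintype.card_subtype_compl _
    rw [hkc] at hle
    have hk1 : 1 ≤ k := Fintype.card_pos_iff.mpr ⟨⟨x, MulAction.mem_orbit_self x⟩⟩
    have hkn : k < n := by
      refine lt_of_le_of_ne (Fintype.card_subtype_le _) fun e => hnt ⟨fun a b => ?_⟩
      have hall : ∀ y, p y := fun y => by
        by_contra hy
        exact (Fintype.card_subtype_lt (p := p) hy).ne e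
      exact MulAction.mem_orbit_iff.mp (MulAction.orbit_eq_iff.mpr (hall a) ▸ hall b)
    have hchoose : ∀ m j, 2 ≤ j → j + 2 ≤ m → m < m.choose j := by
      intro m
      induction m with
      | zero => omega
      | succ m ih =>
        intro j h1 h2
        obtain ⟨i, rfl⟩ : ∃ i, j = i + 1 := ⟨j - 1, by omega⟩
        rw [Nat.choose_succ_succ']
        have hpos : 0 < m.choose (i + 1) := Nat.choose_pos (by omega)
        have hpos' : 0 < m.choose i := Nat.choose_pos (by omega)
        rcases Nat.lt_or_ge i 2 with hi | hi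
        · obtain rfl : i = 1 := by omega
          rw [Nat.choose_one_right, show (1 : ℕ) + 1 = 2 from rfl]
          have : 1 < m.choose 2 := by
            rw [Nat.choose_two_right]
            have : 3 * 2 ≤ m * (m - 1) := Nat.mul_le_mul (by omega) (by omega)
            omega
          omega
        · have := ih i hi (by omega)
          omega
    have hcardH : n * Nat.card H = n.factorial := by
      have h := H.card_mul_index
      rw [hH, Nat.card_perm, Nat.card_eq_fintype_card (α := Ω), ← hn] at h
      rw [mul_comm]; exact h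
    have hk2 : k = 1 ∨ k = n - 1 := by
      by_contra hcon
      push Not at hcon
      have h1 := hchoose n k (by omega) (by omega)
      have h2 := Nat.choose_mul_factorial_mul_factorial hkn.le
      have h3 : n * Nat.card H ≤ n * (k.factorial * (n - k).factorial) := Nat.mul_le_mul_left n hle
      rw [hcardH, ← h2, mul_assoc] at h3
      exact absurd (Nat.le_of_mul_le_mul_right h3 (Nat.mul_pos (Nat.factorial_pos _) (Nat.factorial_pos _))) (by omega)
    rcases hk2 with hk2 | hk2
    · refine ⟨x, fun g hg => ?_⟩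
      have hsub : Subsingleton {y // p y} := Fintype.card_le_one_iff_subsingleton.mp (by omega)
      exact congrArg Subtype.val (Subsingleton.elim (⟨g x, ⟨⟨g, hg⟩, rfl⟩⟩ : {y // p y}) ⟨x, MulAction.mem_orbit_self x⟩)
    · have hone : Fintype.card {y // ¬ p y} = 1 := by omega
      obtain ⟨⟨z, hz⟩, huniq⟩ := Fintype.card_eq_one_iff.mp hone
      exact ⟨z, fun g hg => congrArg Subtype.val (huniq ⟨g z, fun h => hz ((hstab ⟨g, hg⟩ z).mpr h)⟩)⟩
  refine hintrans fun htr => ?_
  obtain ⟨x₀⟩ : Nonempty Ω := Fintype.card_pos_iff.mp (by omega)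
  have hdvd : n ∣ Nat.card H := by
    have := (MulAction.stabilizer H x₀).index_dvd_card
    rwa [MulAction.index_stabilizer_of_transitive, Nat.card_eq_fintype_card, ← hn] at this
  rcases Nat.lt_or_ge n 5 with hn5 | hn5
  · have h := H.card_mul_index
    rw [hH, Nat.card_perm, Nat.card_eq_fintype_card (α := Ω), ← hn] at h
    obtain ⟨c, hc⟩ := hdvd
    rw [hc] at h
    interval_cases n <;> simp [Nat.factorial] at h <;> omega
  -- the automorphism
  set θ := MulAction.toPermHom (Equiv.Perm Ω) (Equiv.Perm Ω ⧸ H)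
  let e : (Equiv.Perm Ω ⧸ H) ≃ Ω := Nat.equivFinOfCardPos (by rw [← Subgroup.index]; omega) |>.trans
    ((finCongr (by rw [← Subgroup.index, hH, hn])).trans (Fintype.equivFin Ω).symm)
  let Φ : Equiv.Perm Ω →* Equiv.Perm Ω := e.permCongrHom.toMonoidHom.comp θ
  have hΦinj : Function.Injective Φ := by
    refine e.permCongrHom.injective.comp ?_
    rw [← MonoidHom.ker_eq_bot_iff]
    by_contra hker
    rw [← Subgroup.normalCore_eq_ker] at hker
    replace hker := (Subgroup.nontrivial_iff_ne_bot _).mpr hker
    have hle := Equiv.Perm.alternatingGroup_le_of_normal (by rw [Nat.card_eq_fintype_card]; omega) hker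
    have h2 := Nat.le_of_dvd two_pos
      ((Subgroup.index_dvd_of_le (hle.trans (Subgroup.normalCore_le H))).trans (by
        haveI : Nontrivial Ω := Fintype.one_lt_card_iff_nontrivial.mp (by omega)
        rw [alternatingGroup.index_eq_two]))
    omega
  let φ : Equiv.Perm Ω ≃* Equiv.Perm Ω := MulEquiv.ofBijective Φ ⟨hΦinj, Finite.injective_iff_surjective.mp hΦinj⟩
  have hφH : ∀ g, g ∈ H ↔ φ g (e (1 : Equiv.Perm Ω)) = e (1 : Equiv.Perm Ω) := fun g => by
    change _ ↔ e (θ g (e.symm (e (1 : Equiv.Perm Ω)))) = _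
    rw [Equiv.symm_apply_apply, e.injective.eq_iff]
    change _ ↔ g • ((1 : Equiv.Perm Ω) : Equiv.Perm Ω ⧸ H) = _
    rw [MulAction.Quotient.smul_coe, smul_eq_mul, mul_one, QuotientGroup.eq, mul_one, inv_mem_iff]
  have hswap : ∀ t : Equiv.Perm Ω, t.IsSwap → (φ.symm t).IsSwap := fun t ht => by
    obtain ⟨a, b, hab, rfl⟩ := id ht
    refine isSwap_of_conj_products h6 hn5 (by rw [← map_mul, Equiv.swap_mul_self, map_one]) (fun h1 => hab ?_) fun τ => ?_
    · have := congrArg φ h1
      rw [MulEquiv.apply_symm_apply, map_one] at this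
      exact Equiv.swap_eq_one_iff.mp this
    · obtain ⟨k, hk1, hk3, hk⟩ := swap_mul_swap_pow ht (t := φ τ * Equiv.swap a b * (φ τ)⁻¹)
        ⟨φ τ a, φ τ b, fun h => hab ((φ τ).injective h), (Equiv.swap_apply_apply (φ τ) a b).symm⟩
      refine ⟨k, hk1, hk3, φ.injective ?_⟩
      simpa using hk
  set S := {t : Equiv.Perm Ω | t.IsSwap ∧ t ∈ H}
  have hHS : H ≤ Subgroup.closure S := by
    intro g hg
    set c := e (1 : Equiv.Perm Ω)
    have hgen : φ g ∈ Subgroup.closure {t : Equiv.Perm Ω | t.IsSwap ∧ t c = c} := by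
      rw [mem_closure_isSwap (fun t ht => ht.1)]
      refine ⟨Set.toFinite _, fun y => ?_⟩
      by_cases hy : φ g y = y
      · rw [hy]; exact MulAction.mem_orbit_self y
      · have hyc : y ≠ c := fun h => hy (h ▸ (hφH g).mp hg)
        have hyc' : φ g y ≠ c := fun h => hyc ((φ g).injective (h.trans ((hφH g).mp hg).symm))
        exact ⟨⟨Equiv.swap y (φ g y), Subgroup.subset_closure ⟨⟨y, φ g y, Ne.symm hy, rfl⟩,
          Equiv.swap_apply_of_ne_of_ne hyc.symm hyc'.symm⟩⟩, Equiv.swap_apply_left _ _⟩
    have hle : Subgroup.closure {t : Equiv.Perm Ω | t.IsSwap ∧ t c = c} ≤ (Subgroup.closure S).comap φ.symm.toMonoidHom := by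
      refine (Subgroup.closure_le _).mpr fun t ht => Subgroup.subset_closure ⟨hswap t ht.1, ?_⟩
      rw [hφH]
      change φ (φ.symm t) c = c
      rw [MulEquiv.apply_symm_apply]
      exact ht.2
    simpa using hle hgen
  have htr' : MulAction.IsPretransitive (Subgroup.closure S) Ω := ⟨fun a b => by
    obtain ⟨g, hg⟩ := htr.exists_smul_eq a b
    exact ⟨⟨g, hHS g.2⟩, hg⟩⟩
  have htop := closure_of_isSwap_of_isPretransitive (S := S) (fun t ht => ht.1)
  have : H = ⊤ := eq_top_iff.mpr (htop ▸ (Subgroup.closure_le _).mpr fun t ht => ht.2)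
  rw [this, Subgroup.index_top] at hH
  omega

end Cfsg.Agent.S5911
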