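import Cfsg.Statements.S5912
import Cfsg.Agent.Lib.Classical.SymSix

set_option autoImplicit false
open Cfsg

namespace Cfsg.Agent.S5912

/-- The symmetric group on a 6-element set Ω has exactly two conjugacy classes of subgroups of index 6: there are two non-conjugate subgroups of index 6 (a point stabilizer and a transitive subgroup isomorphic to S₅), and every subgroup of index 6 is conjugate to one of them. -/
theorem result {Ω : Type*} [Fintype Ω] [DecidableEq Ω] (h6 : Fintype.card Ω = 6) :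
    ∃ H₁ H₂ : Subgroup (Equiv.Perm Ω), H₁.index = 6 ∧ H₂.index = 6 ∧
      (¬ ∃ g : Equiv.Perm Ω, Subgroup.map (MulAut.conj g).toMonoidHom H₁ = H₂) ∧
      ∀ H : Subgroup (Equiv.Perm Ω), H.index = 6 →
        ∃ g : Equiv.Perm Ω, Subgroup.map (MulAut.conj g).toMonoidHom H₁ = H ∨ Subgroup.map (MulAut.conj g).toMonoidHom H₂ = H := by
  classical
  open Cfsg.Agent.Classical.SymSix in
  obtain ⟨ψ, hψ⟩ := exists_outer
  let E : Equiv.Perm Ω ≃* G6 := (Fintype.equivFinOfCardEq h6).permCongrHom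
  let Ψ : Equiv.Perm Ω ≃* G6 := E.trans ψ
  have hidx : ∀ (f : Equiv.Perm Ω ≃* G6) (a : Fin 6), ((MulAction.stabilizer G6 a).comap f.toMonoidHom).index = 6 :=
    fun f a => by rw [Subgroup.index_comap_of_surjective _ f.surjective, card_stab]
  have hconj : ∀ (f : Equiv.Perm Ω ≃* G6) (g : Equiv.Perm Ω),
      ((MulAction.stabilizer G6 (0 : Fin 6)).comap f.toMonoidHom).map (MulAut.conj g).toMonoidHom =
        (MulAction.stabilizer G6 (f g 0)).comap f.toMonoidHom := fun f g => by
    ext x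
    have h1 : ∀ (u : G6) (y : G6), u * y * u⁻¹ ∈ MulAction.stabilizer G6 (u 0) ↔ y ∈ MulAction.stabilizer G6 (0 : Fin 6) :=
      fun u y => by
        simp only [MulAction.mem_stabilizer_iff, Equiv.Perm.smul_def, Equiv.Perm.mul_apply]
        rw [show u⁻¹ (u 0) = 0 from u.symm_apply_apply 0]
        exact u.apply_eq_iff_eq
    constructor
    · rintro ⟨y, hy, rfl⟩
      show f (g * y * g⁻¹) ∈ MulAction.stabilizer G6 (f g 0)
      rw [map_mul, map_mul, map_inv]
      exact (h1 _ _).mpr hy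
    · intro hx
      refine ⟨g⁻¹ * x * g, (h1 (f g) _).mp ?_, by show g * (g⁻¹ * x * g) * g⁻¹ = x; group⟩
      show f g * f (g⁻¹ * x * g) * (f g)⁻¹ ∈ _
      rw [← map_inv, ← map_mul, ← map_mul]
      rwa [show g * (g⁻¹ * x * g) * g⁻¹ = x by group]
  have hsurj : ∀ (f : Equiv.Perm Ω ≃* G6) (a : Fin 6), ∃ g, f g 0 = a := fun f a =>
    ⟨f.symm (Equiv.swap 0 a), by rw [f.apply_symm_apply, Equiv.swap_apply_left]⟩
  refine ⟨(MulAction.stabilizer G6 (0 : Fin 6)).comap E.toMonoidHom,
    (MulAction.stabilizer G6 (0 : Fin 6)).comap Ψ.toMonoidHom, hidx E 0, hidx Ψ 0, ?_, fun H hH => ?_⟩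
  · rintro ⟨g, hg⟩
    rw [hconj] at hg
    refine stab_ne_comap hψ (E g 0) 0 (Subgroup.comap_injective (f := E.toMonoidHom) E.surjective ?_)
    rw [Subgroup.comap_comap]
    exact hg
  · have hH' : (H.map E.toMonoidHom).index = 6 := by
      rw [Subgroup.index_map_of_bijective E.bijective, hH]
    have hback : (H.map E.toMonoidHom).comap E.toMonoidHom = H := Subgroup.comap_map_eq_self_of_injective E.injective H
    rcases classify hψ _ hH' with ⟨a, ha⟩ | ⟨a, ha⟩
    · obtain ⟨g, hg⟩ := hsurj E a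
      refine ⟨g, Or.inl ?_⟩
      rw [hconj, hg, ← ha, hback]
    · obtain ⟨g, hg⟩ := hsurj Ψ a
      refine ⟨g, Or.inr ?_⟩
      rw [hconj, hg]
      exact ((congrArg (Subgroup.comap E.toMonoidHom) ha).symm.trans hback)

end Cfsg.Agent.S5912
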