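import Cfsg.Statements.S5914
import Cfsg.Agent.Lib.Perm.CharSimple

set_option autoImplicit false
open Cfsg

namespace Cfsg.Agent.S5914

/-- A non-trivial finite group G is characteristically simple (its only characteristic subgroups are 1 and G) if and only if G is isomorphic to a direct power S^n (n ≥ 1) of some simple group S (possibly cyclic of prime order). -/
theorem result {G : Type*} [Group G] [Finite G] [Nontrivial G] :
    (∀ H : Subgroup G, H.Characteristic → H = ⊥ ∨ H = ⊤) ↔
    ∃ (S : Type) (_ : Group S) (_ : IsSimpleGroup S) (n : ℕ), 1 ≤ n ∧ Nonempty (G ≃* (Fin n → S)) := by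
  constructor
  · intro h
    obtain ⟨T, -, hT, m, hm, ⟨e⟩⟩ := Cfsg.Agent.Perm.exists_power_of_simple (K := G) ⊤ fun J hJ hinv =>
      h J (Subgroup.characteristic_iff_map_le.mpr fun φ => hinv φ trivial)
    obtain ⟨S, hS, ⟨e₀⟩⟩ := Cfsg.Agent.Perm.exists_small_group (K := T)
    haveI := hT
    haveI : Nontrivial S := e₀.symm.toEquiv.nontrivial
    exact ⟨S, hS, IsSimpleGroup.isSimpleGroup_of_surjective e₀.toMonoidHom e₀.surjective, m, hm,
      ⟨e.trans (MulEquiv.piCongrRight fun _ => e₀)⟩⟩
  · rintro ⟨S, hS, hSs, n, hn, ⟨e⟩⟩ H hH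
    classical
    set K := H.map e.toMonoidHom
    rcases eq_or_ne H ⊥ with hH0 | hH0
    · exact Or.inl hH0
    right
    suffices hK : K = ⊤ by
      rw [← Subgroup.comap_map_eq_self_of_injective (f := e.toMonoidHom) e.injective H, show H.map e.toMonoidHom = ⊤ from hK,
        Subgroup.comap_top]
    have hinv : ∀ φ : (Fin n → S) ≃* (Fin n → S), ∀ y ∈ K, φ y ∈ K := by
      rintro φ _ ⟨x, hx, rfl⟩
      refine ⟨(e.trans φ).trans e.symm x, ?_, by simp⟩
      exact Subgroup.characteristic_iff_map_le.mp hH _ ⟨x, hx, rfl⟩
    obtain ⟨y, hy, hy1⟩ : ∃ y ∈ K, y ≠ 1 := by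
      obtain ⟨⟨x, hx⟩, hx1⟩ := (Subgroup.ne_bot_iff_exists_ne_one.mp hH0)
      exact ⟨e x, ⟨x, hx, rfl⟩, fun h => hx1 (Subtype.ext (e.injective (h.trans (map_one e).symm)))⟩
    obtain ⟨i, hi⟩ := Function.ne_iff.mp hy1
    replace hi : y i ≠ 1 := hi
    have hconj : ∀ g, ∀ x ∈ K, g * x * g⁻¹ ∈ K := fun g x hx => hinv (MulAut.conj g) x hx
    obtain ⟨c, hc1, hc⟩ : ∃ c : S, c ≠ 1 ∧ Pi.mulSingle i c ∈ K := by
      by_cases hcen : ∀ s, s * y i = y i * s
      · have hgen : ∀ t : S, t ∈ Subgroup.zpowers (y i) := by
          have hn : (Subgroup.zpowers (y i)).Normal := ⟨fun x hx g => by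
            obtain ⟨k, rfl⟩ := hx
            have hcg : Commute g (y i ^ k) := (show Commute g (y i) from hcen g).zpow_right k
            rw [hcg.eq, mul_inv_cancel_right]
            exact ⟨k, rfl⟩⟩
          rcases hn.eq_bot_or_eq_top with h | h
          · exact absurd (Subgroup.zpowers_eq_bot.mp h) hi
          · exact fun t => h ▸ Subgroup.mem_top t
        have hcomm : ∀ a b : S, a * b = b * a := fun a b => by
          obtain ⟨u, rfl⟩ := hgen a
          obtain ⟨v, rfl⟩ := hgen b
          exact (Commute.refl (y i)).zpow_zpow u v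
        choose k hk using fun j => hgen (y j)
        let shear : (Fin n → ℤ) → (Fin n → S) → (Fin n → S) := fun k x j => if j = i then x j else x j * x i ^ k j
        let φ : (Fin n → S) ≃* (Fin n → S) :=
          { toFun := shear fun j => -k j
            invFun := shear k
            left_inv := fun x => funext fun j => by
              by_cases hj : j = i
              · simp [shear, hj]
              · simp only [shear, if_neg hj, if_pos rfl, if_true, mul_assoc, ← zpow_add, neg_add_cancel, zpow_zero, mul_one]
            right_inv := fun x => funext fun j => by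
              by_cases hj : j = i
              · simp [shear, hj]
              · simp only [shear, if_neg hj, if_pos rfl, if_true, mul_assoc, ← zpow_add, add_neg_cancel, zpow_zero, mul_one]
            map_mul' := fun x z => funext fun j => by
              by_cases hj : j = i
              · simp [shear, hj]
              · have hc : Commute (x i) (z i) := hcomm _ _
                simp only [shear, if_neg hj, Pi.mul_apply, hc.mul_zpow]
                rw [mul_assoc, mul_assoc]
                congr 1
                rw [← mul_assoc, ← mul_assoc, hcomm (x i ^ _) (z j)] }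
        refine ⟨y i, hi, ?_⟩
        have he : φ y = Pi.mulSingle i (y i) := funext fun j => by
          rcases eq_or_ne j i with rfl | hj
          · simp [φ, shear]
          · rw [Pi.mulSingle_eq_of_ne hj]
            change (if j = i then y j else y j * y i ^ (-k j)) = 1
            rw [if_neg hj, ← hk j, ← zpow_add, add_neg_cancel, zpow_zero]
        exact he ▸ hinv φ y hy
      · push Not at hcen
        obtain ⟨s, hs⟩ := hcen
        refine ⟨s * y i * s⁻¹ * (y i)⁻¹, fun h => hs ?_, ?_⟩
        · exact mul_inv_eq_iff_eq_mul.mp (mul_inv_eq_one.mp h)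
        · have he : Pi.mulSingle i s * y * (Pi.mulSingle i s)⁻¹ * y⁻¹ = Pi.mulSingle i (s * y i * s⁻¹ * (y i)⁻¹) :=
            funext fun j => by
              rcases eq_or_ne j i with rfl | hj
              · simp
              · simp [Pi.mulSingle_eq_of_ne hj]
          exact he ▸ mul_mem (hconj _ y hy) (inv_mem hy)
    have hall : ∀ t : S, Pi.mulSingle i t ∈ K := by
      let N : Subgroup S := K.comap (MonoidHom.mulSingle (fun _ : Fin n => S) i)
      have hn : N.Normal := ⟨fun x hx g => by
        change Pi.mulSingle i (g * x * g⁻¹) ∈ K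
        rw [Pi.mulSingle_mul, Pi.mulSingle_mul, Pi.mulSingle_inv]
        exact hconj _ _ hx⟩
      rcases hn.eq_bot_or_eq_top with h | h
      · exact absurd ((Subgroup.mem_bot).mp (h ▸ (show c ∈ N from hc))) hc1
      · exact fun t => (h ▸ Subgroup.mem_top t : t ∈ N)
    refine eq_top_iff.mpr fun z _ => ?_
    refine Subgroup.pi_mem_of_mulSingle_mem z fun j => ?_
    let φ : (Fin n → S) ≃* (Fin n → S) :=
      { toFun := fun x l => x (Equiv.swap i j l)
        invFun := fun x l => x (Equiv.swap i j l)
        left_inv := fun x => funext fun l => by simp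
        right_inv := fun x => funext fun l => by simp
        map_mul' := fun _ _ => rfl }
    have he : φ (Pi.mulSingle i (z j)) = Pi.mulSingle j (z j) := funext fun l => by
      change (Pi.mulSingle i (z j) : Fin n → S) (Equiv.swap i j l) = _
      simp [Pi.mulSingle_apply, Equiv.swap_apply_eq_iff]
    exact he ▸ hinv φ _ (hall (z j))

end Cfsg.Agent.S5914
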