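import Cfsg.Statements.S5938
import Cfsg.Agent.Lib.Classical.Dickson.Overgroup
import Cfsg.Agent.S0803

set_option autoImplicit false
open Cfsg

namespace Cfsg.Agent.S5938

/-- Let p be a prime with p ≡ ±1 (mod 8) and F a field with p elements. Then PSL_2(F) has a maximal subgroup isomorphic to the symmetric group S_4. -/
theorem result {F : Type*} [Field F] [Fintype F] (p : ℕ) [Fact p.Prime] (hF : Fintype.card F = p) (hp : p % 8 = 1 ∨ p % 8 = 7) : ∃ H : Subgroup (Matrix.ProjectiveSpecialLinearGroup (Fin 2) F), IsCoatom H ∧ Nonempty (H ≃* Equiv.Perm (Fin 4)) := by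
  classical
  have hp7 : 7 ≤ p := by
    have := (Fact.out : p.Prime).two_le
    omega
  have h2 : (2 : F) ≠ 0 := fun h => by
    have := Cfsg.Agent.Small.SL2C.two_dvd_iff.mpr h
    rw [hF] at this
    omega
  obtain ⟨H, ⟨e⟩⟩ := (Cfsg.Agent.S0803.result (F := F) hF).mpr (by
    rcases hp with h | h <;> rw [Nat.pow_mod] <;> (have h16 : p % 16 < 16 := Nat.mod_lt _ (by norm_num)) <;>
      (have : p % 16 % 8 = p % 8 := by omega) <;> interval_cases hh : p % 16 <;> omega)
  have hcH : Nat.card H = 24 := by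
    rw [Nat.card_congr e.toEquiv, Nat.card_perm, Nat.card_fin]; rfl
  have hP := Cfsg.Agent.Classical.Dickson.card_P2 (F := F)
  rw [Cfsg.Agent.Classical.Dickson.two_dvd_pred h2, hF] at hP
  have hbig : 24 < Nat.card (Matrix.ProjectiveSpecialLinearGroup (Fin 2) F) := by
    have h48 : 48 ≤ p ^ 2 - 1 := Nat.le_sub_of_add_le (by nlinarith)
    nlinarith [Nat.mul_le_mul hp7 h48]
  refine ⟨H, ⟨fun h => ?_, fun M hM => ?_⟩, ⟨e⟩⟩
  · rw [h, Subgroup.card_top] at hcH; omega
  by_contra hne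
  have hd := Subgroup.card_dvd_of_le hM.le
  rw [hcH] at hd
  rcases Cfsg.Agent.Classical.Dickson.rich_overgroup h2 hM.le
      (Cfsg.Agent.Classical.Dickson.rich_s4.map e.symm.toMonoidHom e.symm.injective) with
    ⟨⟨f⟩⟩ | ⟨⟨f⟩⟩ | ⟨⟨f⟩⟩ | ⟨K, m, hm, hKm, hK⟩
  · rw [Nat.card_congr f.toEquiv, nat_card_alternatingGroup, Nat.card_fin] at hd
    revert hd; decide
  · refine hM.ne (Subgroup.eq_of_le_of_card_ge hM.le ?_)
    rw [hcH, Nat.card_congr f.toEquiv, Nat.card_perm, Nat.card_fin]; rfl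
  · rw [Nat.card_congr f.toEquiv, nat_card_alternatingGroup, Nat.card_fin] at hd
    revert hd; decide
  · have := Cfsg.Agent.Classical.Dickson.two_le_degree hne hm hKm (hK.imp id fun h => ⟨h, h2⟩)
    have := Cfsg.Agent.Classical.Dickson.degree_one_of_prime Fact.out (hKm.trans hF)
    omega

end Cfsg.Agent.S5938
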