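import Cfsg.Statements.S5939
import Cfsg.Agent.Lib.Classical.Dickson.Overgroup
import Cfsg.Agent.S0804

set_option autoImplicit false
open Cfsg

namespace Cfsg.Agent.S5939

/-- Let p be a prime and F a finite field of characteristic p such that either F has p elements and p ≡ ±1 (mod 10), or F has p² elements and p ≡ ±3 (mod 10). Then PSL_2(F) has a maximal subgroup isomorphic to the alternating group A_5. -/
theorem result {F : Type*} [Field F] [Fintype F] (p : ℕ) [Fact p.Prime] [CharP F p] (h : (Fintype.card F = p ∧ (p % 10 = 1 ∨ p % 10 = 9)) ∨ (Fintype.card F = p ^ 2 ∧ (p % 10 = 3 ∨ p % 10 = 7))) : ∃ H : Subgroup (Matrix.ProjectiveSpecialLinearGroup (Fin 2) F), IsCoatom H ∧ Nonempty (H ≃* alternatingGroup (Fin 5)) := by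
  classical
  have hp : p.Prime := Fact.out
  have hp3 : 3 ≤ p := by
    have := hp.two_le
    rcases h with ⟨-, h⟩ | ⟨-, h⟩ <;> omega
  have h2 : (2 : F) ≠ 0 := Cfsg.Agent.Small.SL2C.two_ne_zero_of_char p (by omega)
  obtain ⟨q, hq⟩ : ∃ q, Fintype.card F = q := ⟨_, rfl⟩
  obtain ⟨H, ⟨e⟩⟩ := (Cfsg.Agent.S0804.result (F := F) hq).mpr (by
    refine Dvd.dvd.mul_left ?_ _
    rw [← hq]
    have hlt : p % 10 < 10 := Nat.mod_lt _ (by norm_num)
    rcases h with ⟨e, h⟩ | ⟨e, h⟩ <;> rw [e]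
    · have h10' : p ^ 2 % 10 = (p % 10) ^ 2 % 10 := Nat.pow_mod _ _ _
      rcases h with h | h <;> rw [h] at h10' <;> omega
    · have h10' : (p ^ 2) ^ 2 % 10 = (p % 10) ^ 4 % 10 := by rw [← pow_mul]; exact Nat.pow_mod _ _ _
      rcases h with h | h <;> rw [h] at h10' <;> omega)
  have hcH : Nat.card H = 60 := by
    rw [Nat.card_congr e.toEquiv, nat_card_alternatingGroup, Nat.card_fin]; rfl
  have hP := Cfsg.Agent.Classical.Dickson.card_P2 (F := F)
  rw [Cfsg.Agent.Classical.Dickson.two_dvd_pred h2, hq] at hP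
  have h9 : 9 ≤ q := by
    rw [← hq]
    rcases h with ⟨e, h⟩ | ⟨e, h⟩ <;> rw [e]
    · omega
    · nlinarith
  refine ⟨H, ⟨fun h' => ?_, fun M hM => ?_⟩, ⟨e⟩⟩
  · rw [h', Subgroup.card_top] at hcH
    have h80 : 80 ≤ q ^ 2 - 1 := Nat.le_sub_of_add_le (by nlinarith)
    nlinarith [Nat.mul_le_mul h9 h80]
  by_contra hne
  have hd := Subgroup.card_dvd_of_le hM.le
  rw [hcH] at hd
  rcases Cfsg.Agent.Classical.Dickson.rich_overgroup h2 hM.le
      (Cfsg.Agent.Classical.Dickson.rich_a5.map e.symm.toMonoidHom e.symm.injective) with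
    ⟨⟨f⟩⟩ | ⟨⟨f⟩⟩ | ⟨⟨f⟩⟩ | ⟨K, m, hm, hKm, hK⟩
  · rw [Nat.card_congr f.toEquiv, nat_card_alternatingGroup, Nat.card_fin] at hd
    revert hd; decide
  · rw [Nat.card_congr f.toEquiv, Nat.card_perm, Nat.card_fin] at hd
    revert hd; decide
  · refine hM.ne (Subgroup.eq_of_le_of_card_ge hM.le ?_)
    rw [hcH, Nat.card_congr f.toEquiv, nat_card_alternatingGroup, Nat.card_fin]; rfl
  · have hm2 := Cfsg.Agent.Classical.Dickson.two_le_degree hne hm hKm (hK.imp id fun h => ⟨h, h2⟩)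
    rcases h with ⟨hc, -⟩ | ⟨hc, hmod⟩
    · have := Cfsg.Agent.Classical.Dickson.degree_one_of_prime hp (hKm.trans hc)
      omega
    rw [hc] at hKm
    obtain ⟨f, -, hf⟩ := (Nat.dvd_prime_pow hp).mp ((dvd_pow_self (Nat.card K) (by omega : m ≠ 0)).trans (dvd_of_eq hKm))
    rw [hf, ← pow_mul] at hKm
    have hfm := Nat.pow_right_injective hp.two_le hKm
    have hf1 : f = 1 := by
      have : f ≠ 0 := by rintro rfl; omega
      nlinarith
    rw [hf, hf1, pow_one] at hK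
    have h5 : 5 ∣ p * (p ^ 2 - 1) := by
      rcases hK with hK | hK <;> rw [← hK]
      · exact (dvd_trans (by norm_num) hd)
      · exact Dvd.dvd.mul_left (dvd_trans (by norm_num) hd) 2
    rcases (Nat.Prime.dvd_mul (by norm_num)).mp h5 with h' | h'
    · have := (Nat.prime_dvd_prime_iff_eq (by norm_num) hp).mp h'
      omega
    · have h10' : p ^ 2 % 10 = (p % 10) ^ 2 % 10 := Nat.pow_mod _ _ _
      have : 1 ≤ p ^ 2 := Nat.one_le_pow _ _ (by omega)
      rcases hmod with h | h <;> rw [h] at h10' <;> omega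

end Cfsg.Agent.S5939
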