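import Cfsg.Statements.S5940
import Cfsg.Agent.Lib.Classical.Dickson.Overgroup
import Cfsg.Agent.S0802
import Cfsg.Agent.S0803
import Cfsg.Agent.S0804

set_option autoImplicit false
open Cfsg

namespace Cfsg.Agent.S5940

/-- Let p ≥ 5 be a prime with p ≡ ±3 (mod 8) and p ≢ ±1 (mod 10), and F a field with p elements. Then PSL_2(F) has a maximal subgroup isomorphic to the alternating group A_4. -/
theorem result {F : Type*} [Field F] [Fintype F] (p : ℕ) [Fact p.Prime] (hF : Fintype.card F = p) (h5 : 5 ≤ p) (h8 : p % 8 = 3 ∨ p % 8 = 5) (h10 : p % 10 ≠ 1 ∧ p % 10 ≠ 9) : ∃ H : Subgroup (Matrix.ProjectiveSpecialLinearGroup (Fin 2) F), IsCoatom H ∧ Nonempty (H ≃* alternatingGroup (Fin 4)) := by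
  classical
  have h2 : (2 : F) ≠ 0 := fun h => by
    have := Cfsg.Agent.Small.SL2C.two_dvd_iff.mpr h
    rw [hF] at this
    omega
  have h2p : p ≠ 2 := by omega
  haveI : CharP F p := charP_of_card_eq_prime hF
  obtain ⟨H, ⟨e⟩⟩ := (Cfsg.Agent.S0802.result (F := F) p 1 (by rw [hF, pow_one])).mpr (fun h => h2p h.1)
  have hcH : Nat.card H = 12 := by
    rw [Nat.card_congr e.toEquiv, nat_card_alternatingGroup, Nat.card_fin]; rfl
  have hP := Cfsg.Agent.Classical.Dickson.card_P2 (F := F)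
  rw [Cfsg.Agent.Classical.Dickson.two_dvd_pred h2, hF] at hP
  have h24 : 24 ≤ p ^ 2 - 1 := Nat.le_sub_of_add_le (by nlinarith)
  refine ⟨H, ⟨fun h => ?_, fun M hM => ?_⟩, ⟨e⟩⟩
  · rw [h, Subgroup.card_top] at hcH
    nlinarith [Nat.mul_le_mul h5 h24]
  by_contra hne
  rcases Cfsg.Agent.Classical.Dickson.rich_overgroup h2 hM.le
      (Cfsg.Agent.Classical.Dickson.rich_a4.map e.symm.toMonoidHom e.symm.injective) with
    ⟨⟨f⟩⟩ | h | h | ⟨K, m, hm, hKm, hK⟩
  · refine hM.ne (Subgroup.eq_of_le_of_card_ge hM.le ?_)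
    rw [hcH, Nat.card_congr f.toEquiv, nat_card_alternatingGroup, Nat.card_fin]; rfl
  · have h16 := (Cfsg.Agent.S0803.result (F := F) hF).mp ⟨M, h⟩
    rw [Nat.pow_mod] at h16
    have : p % 16 % 8 = p % 8 := by omega
    have hlt : p % 16 < 16 := Nat.mod_lt _ (by norm_num)
    interval_cases hh : p % 16 <;> omega
  · have hdvd := (Cfsg.Agent.S0804.result (F := F) hF).mp ⟨M, h⟩
    obtain ⟨f⟩ := h
    rcases (Nat.Prime.dvd_mul (by norm_num)).mp hdvd with h' | h'
    · have hp5 : p = 5 := ((Nat.prime_dvd_prime_iff_eq (by norm_num) Fact.out).mp h').symm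
      subst hp5
      refine hne (Subgroup.eq_top_of_card_eq M ?_)
      rw [Nat.card_congr f.toEquiv, nat_card_alternatingGroup, Nat.card_fin]
      norm_num [Nat.factorial] at hP ⊢
      omega
    · have : p % 2 = 1 := (Nat.Prime.eq_two_or_odd (Fact.out : p.Prime)).resolve_left h2p
      have hlt : p % 10 < 10 := Nat.mod_lt _ (by norm_num)
      have h10' : p ^ 2 % 10 = (p % 10) ^ 2 % 10 := Nat.pow_mod _ _ _
      have : 1 ≤ p ^ 2 := Nat.one_le_pow _ _ (by omega)
      have : p % 10 = 5 → p = 5 := fun h =>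
        ((Nat.prime_dvd_prime_iff_eq (by norm_num) Fact.out).mp (by omega : 5 ∣ p)).symm
      interval_cases hh : p % 10 <;> omega
  · have := Cfsg.Agent.Classical.Dickson.two_le_degree hne hm hKm (hK.imp id fun h => ⟨h, h2⟩)
    have := Cfsg.Agent.Classical.Dickson.degree_one_of_prime Fact.out (hKm.trans hF)
    omega

end Cfsg.Agent.S5940
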