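import Cfsg.Statements.S5941
import Cfsg.Agent.Lib.Classical.Dickson.SubfieldMax

set_option autoImplicit false
open Cfsg

namespace Cfsg.Agent.S5941

/-- Let K and F be finite fields of odd characteristic with #F = (#K)². Then PSL_2(F) has a maximal subgroup isomorphic to PGL_2(K). -/
theorem result {F K : Type*} [Field F] [Fintype F] [Field K] [Fintype K] (q : ℕ) (hK : Fintype.card K = q) (hF : Fintype.card F = q ^ 2) (hq : Odd q) : ∃ H : Subgroup (Matrix.ProjectiveSpecialLinearGroup (Fin 2) F), IsCoatom H ∧ Nonempty (H ≃* Matrix.ProjGenLinGroup (Fin 2) K) := by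
  classical
  haveI := Cfsg.Agent.Classical.Dickson.finite_pgl K
  have hq1 : 2 ≤ q := hK ▸ Fintype.one_lt_card
  have hq3 : 3 ≤ q := by have := Nat.odd_iff.mp hq; omega
  have h2 : (2 : F) ≠ 0 := fun h => by
    have := Cfsg.Agent.Small.SL2C.two_dvd_iff.mpr h
    rw [hF] at this
    exact hq.not_two_dvd_nat (Nat.prime_two.dvd_of_dvd_pow this)
  obtain ⟨ι⟩ := Cfsg.Agent.Classical.Dickson.exists_embedding (F := F) (K := K) 2 (by norm_num) (by rw [hK, hF])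
  obtain ⟨H, ⟨e⟩⟩ := Cfsg.Agent.Classical.Dickson.exists_pgl ι
    (Cfsg.Agent.Classical.Dickson.isSquare_of_even_degree ι even_two (by rw [hK, hF]))
  have hcH : Nat.card H = q * (q ^ 2 - 1) := by
    rw [Nat.card_congr e.toEquiv, Cfsg.Agent.Classical.Dickson.card_pgl, hK]
  have hP := Cfsg.Agent.Classical.Dickson.card_P2 (F := F)
  have hd := Cfsg.Agent.Classical.Dickson.two_dvd_pred h2
  rw [hd, hF] at hP
  have h8 : 8 ≤ q ^ 2 - 1 := Nat.le_sub_of_add_le (by nlinarith)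
  refine ⟨H, ⟨fun h => ?_, fun M hM => ?_⟩, ⟨e⟩⟩
  · rw [h, Subgroup.card_top] at hcH
    have h9 : q ^ 2 - 1 < (q ^ 2) ^ 2 - 1 := by
      have : q ^ 2 * 2 ≤ (q ^ 2) ^ 2 := by rw [pow_two (q ^ 2)]; exact Nat.mul_le_mul_left _ (by nlinarith)
      omega
    have h10 : q * (q ^ 2 - 1) * 2 < q ^ 2 * ((q ^ 2) ^ 2 - 1) := by
      have : q * 2 ≤ q ^ 2 := by rw [pow_two]; exact Nat.mul_le_mul_left q hq1
      calc q * (q ^ 2 - 1) * 2 = q * 2 * (q ^ 2 - 1) := by ring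
        _ < _ := Nat.mul_lt_mul_of_le_of_lt this h9 (by positivity)
    rw [← hP, hcH] at h10
    omega
  by_contra hne
  have hdvd := Subgroup.card_dvd_of_le hM.le
  rw [hcH] at hdvd
  suffices hle : Nat.card M ≤ q * (q ^ 2 - 1) by
    exact hM.ne (Subgroup.eq_of_le_of_card_ge hM.le (hcH ▸ hle))
  have hqq : q * 2 ≤ q * (q ^ 2 - 1) := Nat.mul_le_mul_left q (by omega)
  rcases Cfsg.Agent.Classical.Dickson.cases_on M with
    ⟨k, hk, hc⟩ | ⟨g, hg, -⟩ | ⟨-, ⟨f⟩⟩ | ⟨-, ⟨f⟩⟩ | ⟨-, ⟨f⟩⟩ | ⟨K', m, hm, hKm, hK'⟩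
  · have h24 : q ^ 2 + 1 ≤ q * (q ^ 2 - 1) := by
      have h3 : 3 * (q ^ 2 - 1) ≤ q * (q ^ 2 - 1) := Nat.mul_le_mul_right _ hq3
      omega
    rcases Cfsg.Agent.Classical.Dickson.card_dvd_torus hk hc with h | h <;> rw [hd, hF] at h <;>
      have := Nat.le_of_dvd (by omega) h <;> omega
  · exfalso
    have h := Cfsg.Agent.Classical.Dickson.card_dvd_borel hg
    rw [hd, hF] at h
    have h' := (Nat.mul_dvd_mul_right hdvd 2).trans h
    rw [show q * (q ^ 2 - 1) * 2 = q * (q ^ 2 - 1) * 2 from rfl,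
      show (q ^ 2 - 1) * q ^ 2 = q * (q ^ 2 - 1) * q by ring] at h'
    exact hq.not_two_dvd_nat (Nat.dvd_of_mul_dvd_mul_left (by positivity) h')
  · rw [Nat.card_congr f.toEquiv, nat_card_alternatingGroup, Nat.card_fin] at hdvd ⊢
    have := Nat.mul_le_mul hq3 h8
    norm_num [Nat.factorial] at hdvd ⊢
    have := Nat.le_of_dvd (by norm_num) hdvd
    omega
  · rw [Nat.card_congr f.toEquiv, Nat.card_perm, Nat.card_fin]
    have := Nat.mul_le_mul hq3 h8
    norm_num [Nat.factorial] at *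
    omega
  · rw [Nat.card_congr f.toEquiv, nat_card_alternatingGroup, Nat.card_fin] at hdvd ⊢
    norm_num [Nat.factorial] at hdvd ⊢
    by_cases hq5 : 5 ≤ q
    · have := Nat.mul_le_mul hq5 (Nat.le_sub_of_add_le (show 24 + 1 ≤ q ^ 2 by nlinarith))
      omega
    · have : q = 3 := by have := Nat.odd_iff.mp hq; omega
      subst this
      norm_num at hdvd
  · have hm2 := Cfsg.Agent.Classical.Dickson.two_le_degree hne hm hKm
      (hK'.imp (fun h => h.2) fun h => ⟨h.2.2, h2⟩)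
    rw [hF] at hKm
    obtain ⟨Q, hQ⟩ : ∃ Q, Q = Nat.card K' := ⟨_, rfl⟩
    rw [← hQ] at hKm hK'
    have hQ0 : 0 < Q := hQ ▸ Nat.card_pos
    have hQq : Q ≤ q := (Nat.pow_le_pow_iff_left two_ne_zero).mp (hKm ▸ Nat.pow_le_pow_right hQ0 hm2)
    have : Q * (Q ^ 2 - 1) ≤ q * (q ^ 2 - 1) :=
      Nat.mul_le_mul hQq (Nat.sub_le_sub_right (Nat.pow_le_pow_left hQq 2) 1)
    rcases hK' with ⟨-, h⟩ | ⟨-, -, h⟩ <;> omega

end Cfsg.Agent.S5941
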