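import Cfsg.Statements.S5942
import Cfsg.Agent.Lib.Classical.Dickson.SubfieldMax
import Cfsg.Agent.S0803
import Cfsg.Agent.S0804

set_option autoImplicit false
open Cfsg

namespace Cfsg.Agent.S5942

/-- Let K and F be finite fields of odd characteristic with #F = (#K)^r for an odd prime r. Then PSL_2(F) has a maximal subgroup isomorphic to PSL_2(K). -/
theorem result {F K : Type*} [Field F] [Fintype F] [Field K] [Fintype K] (q r : ℕ) (hK : Fintype.card K = q) (hF : Fintype.card F = q ^ r) (hq : Odd q) (hr : r.Prime) (hr2 : r ≠ 2) : ∃ H : Subgroup (Matrix.ProjectiveSpecialLinearGroup (Fin 2) F), IsCoatom H ∧ Nonempty (H ≃* Matrix.ProjectiveSpecialLinearGroup (Fin 2) K) := by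
  classical
  have hr0 : Odd r := hr.odd_of_ne_two hr2
  have hr3 : 3 ≤ r := by have := hr.two_le; omega
  have hq1 : 2 ≤ q := hK ▸ Fintype.one_lt_card
  have hq3 : 3 ≤ q := by have := Nat.odd_iff.mp hq; omega
  have h2 : (2 : F) ≠ 0 := fun h => by
    have := Cfsg.Agent.Small.SL2C.two_dvd_iff.mpr h
    rw [hF] at this
    exact hq.not_two_dvd_nat (Nat.prime_two.dvd_of_dvd_pow this)
  have h2K : (2 : K) ≠ 0 := fun h => by
    have := Cfsg.Agent.Small.SL2C.two_dvd_iff.mpr h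
    rw [hK] at this
    exact hq.not_two_dvd_nat this
  obtain ⟨ι⟩ := Cfsg.Agent.Classical.Dickson.exists_embedding (F := F) (K := K) r (by omega) (by rw [hK, hF])
  obtain ⟨H, ⟨e⟩⟩ := Cfsg.Agent.Classical.Dickson.exists_psl ι
  have hcH : Nat.card H * 2 = q * (q ^ 2 - 1) := by
    have := Cfsg.Agent.Classical.Dickson.card_psl K
    rwa [Cfsg.Agent.Classical.Dickson.two_dvd_pred h2K, hK, ← Nat.card_congr e.toEquiv] at this
  have hP := Cfsg.Agent.Classical.Dickson.card_P2 (F := F)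
  have hd := Cfsg.Agent.Classical.Dickson.two_dvd_pred h2
  rw [hd, hF] at hP
  have hqr : q < q ^ r := by
    calc q = q ^ 1 := (pow_one q).symm
      _ < q ^ r := Nat.pow_lt_pow_right (by omega) (by omega)
  refine ⟨H, ⟨fun h => ?_, fun M hM => ?_⟩, ⟨e⟩⟩
  · rw [h, Subgroup.card_top, hP] at hcH
    have h9 : q ^ 2 - 1 < (q ^ r) ^ 2 - 1 := by
      have := Nat.pow_lt_pow_left hqr (two_ne_zero)
      have : 1 ≤ q ^ 2 := Nat.one_le_pow _ _ (by omega)
      omega
    have := Nat.mul_lt_mul_of_le_of_lt hqr.le h9 (by omega)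
    omega
  by_contra hne
  have hdvd := Subgroup.card_dvd_of_le hM.le
  have hdvd2 : q * (q ^ 2 - 1) ∣ Nat.card M * 2 := hcH ▸ Nat.mul_dvd_mul_right hdvd 2
  suffices hle : Nat.card M * 2 ≤ q * (q ^ 2 - 1) by
    exact hM.ne (Subgroup.eq_of_le_of_card_ge hM.le (by omega))
  rcases Cfsg.Agent.Classical.Dickson.cases_on M with
    ⟨k, hk, hc⟩ | ⟨g, hg, -⟩ | ⟨-, ⟨f⟩⟩ | ⟨-, hS⟩ | ⟨-, hA⟩ | ⟨K', m, hm, hKm, hK'⟩
  · exfalso
    obtain ⟨p, hp, hpq⟩ := Nat.exists_prime_and_dvd (show q ≠ 1 by omega)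
    have hp2 : p ≠ 2 := fun h => hq.not_two_dvd_nat (h ▸ hpq)
    have hpM : p ∣ Nat.card M := ((Nat.coprime_primes hp Nat.prime_two).mpr hp2).dvd_of_dvd_mul_right
      ((hpq.trans (dvd_mul_right _ _)).trans hdvd2)
    have hpF : p ∣ q ^ r := hpq.trans (dvd_pow_self q (by omega))
    have hev : 2 ∣ q ^ r - 1 ∧ 2 ∣ q ^ r + 1 := by
      have := Nat.odd_iff.mp (hq.pow (n := r))
      omega
    rcases Cfsg.Agent.Classical.Dickson.card_dvd_torus hk hc with h | h <;> rw [hd, hF] at h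
    · have h' := hpM.trans h
      rw [Nat.mul_div_cancel' hev.1] at h'
      have := Nat.dvd_sub hpF h'
      rw [Nat.sub_sub_self (by omega)] at this
      exact hp.one_lt.ne' (Nat.dvd_one.mp this)
    · have h' := hpM.trans h
      rw [Nat.mul_div_cancel' hev.2] at h'
      have := Nat.dvd_sub h' hpF
      rw [Nat.add_sub_cancel_left] at this
      exact hp.one_lt.ne' (Nat.dvd_one.mp this)
  · exfalso
    have h := Cfsg.Agent.Classical.Dickson.card_dvd_borel hg
    rw [hd, hF] at h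
    have h1 : q + 1 ∣ (q ^ r - 1) * q ^ r := by
      refine Dvd.dvd.trans ?_ (hdvd2.trans h)
      exact Dvd.dvd.mul_left ⟨q - 1, by rw [← Nat.sq_sub_sq, one_pow]⟩ q
    have h2' : q + 1 ∣ q ^ r - 1 := (Nat.Coprime.pow_right r (by
      simp)).dvd_of_dvd_mul_right h1
    have h3 : q + 1 ∣ q ^ r + 1 := by
      have := hr0.nat_add_dvd_pow_add_pow q 1
      rwa [one_pow] at this
    have := Nat.le_of_dvd (by omega) (Nat.dvd_sub h3 h2')
    omega
  · have hb : 24 ≤ q * (q ^ 2 - 1) := le_trans (by norm_num) (Nat.mul_le_mul hq3 (show 8 ≤ q ^ 2 - 1 from Nat.le_sub_of_add_le (by nlinarith)))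
    rw [Nat.card_congr f.toEquiv, nat_card_alternatingGroup, Nat.card_fin]
    norm_num [Nat.factorial]
    omega
  · obtain ⟨f⟩ := hS
    by_cases hq5 : 5 ≤ q
    · have hb : 120 ≤ q * (q ^ 2 - 1) := le_trans (by norm_num) (Nat.mul_le_mul hq5 (show 24 ≤ q ^ 2 - 1 from Nat.le_sub_of_add_le (by nlinarith)))
      rw [Nat.card_congr f.toEquiv, Nat.card_perm, Nat.card_fin]
      norm_num [Nat.factorial]
      omega
    · exfalso
      obtain rfl : q = 3 := by have := Nat.odd_iff.mp hq; omega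
      have h16 := (Cfsg.Agent.S0803.result (F := F) hF).mp ⟨M, ⟨f⟩⟩
      obtain ⟨j, rfl⟩ := hr0
      rw [← pow_mul, Nat.mul_comm, pow_mul, pow_succ, pow_mul, Nat.mul_mod, Nat.pow_mod] at h16
      norm_num at h16
  · obtain ⟨f⟩ := hA
    by_cases hq5 : 5 ≤ q
    · have hb : 120 ≤ q * (q ^ 2 - 1) := le_trans (by norm_num) (Nat.mul_le_mul hq5 (show 24 ≤ q ^ 2 - 1 from Nat.le_sub_of_add_le (by nlinarith)))
      rw [Nat.card_congr f.toEquiv, nat_card_alternatingGroup, Nat.card_fin]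
      norm_num [Nat.factorial]
      omega
    · exfalso
      obtain rfl : q = 3 := by have := Nat.odd_iff.mp hq; omega
      have h5 := (Cfsg.Agent.S0804.result (F := F) hF).mp ⟨M, ⟨f⟩⟩
      rcases (Nat.Prime.dvd_mul (by norm_num)).mp h5 with h' | h'
      · exact absurd ((Nat.prime_dvd_prime_iff_eq (by norm_num) Nat.prime_three).mp
          ((Nat.Prime.dvd_of_dvd_pow (by norm_num) h'))) (by norm_num)
      · obtain ⟨j, rfl⟩ := hr0
        have h1 : (3 ^ (2 * j + 1)) ^ 2 % 5 = 4 := by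
          rw [← pow_mul, Nat.mul_comm, pow_mul, pow_succ, pow_mul, Nat.mul_mod, Nat.pow_mod]
          norm_num
        omega
  · have hm2 := Cfsg.Agent.Classical.Dickson.two_le_degree hne hm hKm
      (hK'.imp (fun h => h.2) fun h => ⟨h.2.2, h2⟩)
    rw [hF] at hKm
    have hM2 : Nat.card M * 2 ∣ 2 * (Nat.card K' * (Nat.card K' ^ 2 - 1)) := by
      rcases hK' with ⟨-, h⟩ | ⟨-, -, h⟩
      · rw [h, mul_comm]
      · rw [mul_comm (Nat.card M), h]; exact dvd_mul_left _ _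
    obtain ⟨hQ, hmr⟩ := Cfsg.Agent.Classical.Dickson.subfield_eq hr hq3 (hK ▸ FiniteField.isPrimePow_card K)
      hm2 hKm (hdvd2.trans hM2)
    rcases hK' with ⟨-, h⟩ | ⟨-, -, h⟩
    · exfalso
      rw [hQ] at h
      have h1 := Nat.mul_dvd_mul_right (Subgroup.card_subgroup_dvd_card M) 2
      rw [h, hP] at h1
      exact Cfsg.Agent.Classical.Dickson.pgl_not_dvd hq hq1 hr0 h1
    · rw [hQ] at h; omega

end Cfsg.Agent.S5942
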