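import Cfsg.Statements.S5943
import Cfsg.Agent.Lib.Classical.Dickson.SubfieldMax

set_option autoImplicit false
open Cfsg

namespace Cfsg.Agent.S5943

/-- Let K and F be finite fields of characteristic 2 with #K = q > 2 and #F = q^r for a prime r. Then PSL_2(F) has a maximal subgroup isomorphic to PSL_2(K) (which equals PGL_2(K) in characteristic 2). -/
theorem result {F K : Type*} [Field F] [Fintype F] [Field K] [Fintype K] (q r : ℕ) (hK : Fintype.card K = q) (hF : Fintype.card F = q ^ r) (hq : Even q) (hq2 : q ≠ 2) (hr : r.Prime) : ∃ H : Subgroup (Matrix.ProjectiveSpecialLinearGroup (Fin 2) F), IsCoatom H ∧ Nonempty (H ≃* Matrix.ProjectiveSpecialLinearGroup (Fin 2) K) := by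
  classical
  have hq1 : 2 ≤ q := hK ▸ Fintype.one_lt_card
  have hq3 : 3 ≤ q := by omega
  have hr2 := hr.two_le
  have h2 : (2 : F) = 0 := Cfsg.Agent.Small.SL2C.two_dvd_iff.mp (by
    rw [hF]; exact dvd_pow (even_iff_two_dvd.mp hq) (by omega))
  have h2K : (2 : K) = 0 := Cfsg.Agent.Small.SL2C.two_dvd_iff.mp (by rw [hK]; exact even_iff_two_dvd.mp hq)
  obtain ⟨ι⟩ := Cfsg.Agent.Classical.Dickson.exists_embedding (F := F) (K := K) r (by omega) (by rw [hK, hF])
  obtain ⟨H, ⟨e⟩⟩ := Cfsg.Agent.Classical.Dickson.exists_psl ι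
  have hcH : Nat.card H = q * (q ^ 2 - 1) := by
    have := Cfsg.Agent.Classical.Dickson.card_psl K
    rwa [Cfsg.Agent.Classical.Dickson.gcd_eq_one_of_even h2K, mul_one, hK, ← Nat.card_congr e.toEquiv] at this
  have hP := Cfsg.Agent.Classical.Dickson.card_P2 (F := F)
  have hd := Cfsg.Agent.Classical.Dickson.gcd_eq_one_of_even h2
  rw [hd, hF, mul_one] at hP
  have hqr : q < q ^ r := by
    calc q = q ^ 1 := (pow_one q).symm
      _ < q ^ r := Nat.pow_lt_pow_right (by omega) (by omega)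
  refine ⟨H, ⟨fun h => ?_, fun M hM => ?_⟩, ⟨e⟩⟩
  · rw [h, Subgroup.card_top, hP] at hcH
    have h9 : q ^ 2 - 1 < (q ^ r) ^ 2 - 1 := by
      have := Nat.pow_lt_pow_left hqr (two_ne_zero)
      have : 1 ≤ q ^ 2 := Nat.one_le_pow _ _ (by omega)
      omega
    have := Nat.mul_lt_mul_of_le_of_lt hqr.le h9 (by omega)
    omega
  by_contra hne
  have hdvd := Subgroup.card_dvd_of_le hM.le
  rw [hcH] at hdvd
  obtain ⟨x, y, hxx, hyy, hxy⟩ := Cfsg.Agent.Classical.Dickson.psl_has_involutions K h2K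
  rcases Cfsg.Agent.Classical.Dickson.cases_on M with
    ⟨k, hk, hc⟩ | ⟨g, hg, -⟩ | ⟨h, -⟩ | ⟨h, -⟩ | ⟨h, -⟩ | ⟨K', m, hm, hKm, hK'⟩
  · have h4 : 4 ∣ Nat.card M := by
      obtain ⟨p, n, hp, hn, hpn⟩ := (isPrimePow_nat_iff q).mp (hK ▸ FiniteField.isPrimePow_card K)
      have h2q : 2 ∣ q := even_iff_two_dvd.mp hq
      obtain rfl : p = 2 := ((Nat.prime_dvd_prime_iff_eq Nat.prime_two hp).mp
        (Nat.prime_two.dvd_of_dvd_pow (hpn.symm ▸ h2q))).symm
      have hn2 : 2 ≤ n := by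
        by_contra hc
        obtain rfl : n = 1 := by omega
        omega
      exact ((show 4 ∣ q from hpn ▸ (Nat.pow_dvd_pow 2 hn2)).trans (dvd_mul_right _ _)).trans hdvd
    have hev : 2 ∣ q ^ r := dvd_pow (even_iff_two_dvd.mp hq) (by omega)
    rcases Cfsg.Agent.Classical.Dickson.card_dvd_torus hk hc with h | h <;> rw [hd, hF, Nat.div_one] at h <;>
      have := h4.trans h <;> omega
  · let f : Matrix.ProjectiveSpecialLinearGroup (Fin 2) K →* Matrix.ProjectiveSpecialLinearGroup (Fin 2) F :=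
      (Cfsg.Agent.Small.PSL2.conjP g).toMonoidHom.comp (H.subtype.comp e.symm.toMonoidHom)
    have hfm : ∀ z, f z ∈ Cfsg.Agent.Classical.Dickson.borelP F := fun z =>
      hg ⟨_, hM.le (e.symm z).2, rfl⟩
    have hf : Function.Injective f :=
      (Cfsg.Agent.Small.PSL2.conjP g).injective.comp (Subtype.val_injective.comp e.symm.injective)
    refine hxy (hf ?_)
    rw [map_mul, map_mul]
    exact Cfsg.Agent.Classical.Dickson.borel_involutions h2 (hfm x) (hfm y)
      (by rw [← map_mul, hxx, map_one]) (by rw [← map_mul, hyy, map_one])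
  · exact h h2
  · exact h h2
  · exact h h2
  · have hm2 := Cfsg.Agent.Classical.Dickson.two_le_degree hne hm hKm
      (hK'.imp (fun h => h.2) fun h => ⟨h.2.2, h.1⟩)
    rw [hF] at hKm
    rcases hK' with ⟨-, h⟩ | ⟨h, -⟩
    swap; · exact h h2
    obtain ⟨hQ, -⟩ := Cfsg.Agent.Classical.Dickson.subfield_eq hr hq3 (hK ▸ FiniteField.isPrimePow_card K)
      hm2 hKm (hdvd.trans (h ▸ dvd_mul_left _ _))
    exact hM.ne (Subgroup.eq_of_le_of_card_ge hM.le (by rw [hcH, h, hQ]))

end Cfsg.Agent.S5943
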