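import Cfsg.Statements.S5944
import Mathlib

set_option autoImplicit false
open Cfsg

namespace Cfsg.Agent.S5944

/-- For n ≠ 4, every proper subgroup of the symmetric group S_n other than the alternating group A_n has index at least n. -/
theorem result (n : ℕ) (hn : n ≠ 4) (H : Subgroup (Equiv.Perm (Fin n))) (hH : H ≠ ⊤) (hA : H ≠ alternatingGroup (Fin n)) : n ≤ H.index := by
  classical
  by_contra hlt
  push Not at hlt
  have hk0 : H.index ≠ 0 := Subgroup.index_ne_zero_of_finite
  have hk1 : H.index ≠ 1 := fun h => hH (Subgroup.index_eq_one.mp h)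
  have : Nontrivial (Fin n) := Fin.nontrivial_iff_two_le.mpr (by omega)
  have key : alternatingGroup (Fin n) ≤ H → False := fun hle => by
    have h2 : (alternatingGroup (Fin n)).index = 2 := alternatingGroup.index_eq_two
    have hd := Subgroup.index_dvd_of_le hle
    rw [h2] at hd
    have hk : H.index = 2 := ((Nat.dvd_prime Nat.prime_two).mp hd).resolve_left hk1
    refine hA (le_antisymm ?_ hle)
    have hr : (alternatingGroup (Fin n)).relIndex H = 1 := by
      have h := Subgroup.relIndex_mul_index hle
      rw [hk, h2] at h
      omega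
    exact Subgroup.relIndex_eq_one.mp hr
  by_cases h2 : H.index ≤ 2
  · exact key (Equiv.Perm.alternatingGroup_le_of_index_le_two (by omega) )
  · have h5 : 5 ≤ n := by omega
    refine key (le_trans ?_ (Subgroup.normalCore_le H))
    refine Equiv.Perm.alternatingGroup_le_of_normal (by simpa using h5) ?_
    rw [Subgroup.nontrivial_iff_ne_bot, Subgroup.normalCore_eq_ker]
    intro hker
    have hinj := Nat.card_le_card_of_injective _ ((MonoidHom.ker_eq_bot_iff _).mp hker)
    rw [Nat.card_perm, Nat.card_perm, Nat.card_fin, ← Subgroup.index] at hinj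
    exact absurd ((Nat.factorial_lt (by omega)).mpr hlt) (not_lt.mpr hinj)

end Cfsg.Agent.S5944
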