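import Cfsg.Statements.S5945
import Cfsg.Agent.Lib.Classical.SymSix

set_option autoImplicit false
open Cfsg

namespace Cfsg.Agent.S5945

/-- A point stabiliser is a symmetric group of degree five. -/
def stab_iso : MulAction.stabilizer (Equiv.Perm (Fin 6)) (0 : Fin 6) ≃* Equiv.Perm (Fin 5) :=
  MulEquiv.symm <| MulEquiv.trans
    ((finSuccAboveEquiv (0 : Fin 6)).permCongrHom)
    { toFun := fun f => ⟨Equiv.Perm.ofSubtype f, Equiv.Perm.ofSubtype_apply_of_not_mem f (fun h => h rfl)⟩
      invFun := fun g => Equiv.Perm.subtypePerm g.1 (fun x => not_congr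
        ⟨fun h => g.1.injective (h.trans g.2.symm), fun h => (congrArg g.1 h).trans g.2⟩)
      left_inv := fun f => Equiv.Perm.subtypePerm_ofSubtype f
      right_inv := fun g => Subtype.ext (Equiv.Perm.ofSubtype_subtypePerm _ fun x hx h => hx (by rw [h]; exact g.2))
      map_mul' := fun f g => Subtype.ext (map_mul Equiv.Perm.ofSubtype f g) }

/-- The symmetric group S_6 has exactly 12 subgroups of index 6; each of them is isomorphic to S_5, and at least one of them is not the stabilizer of any point. -/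
theorem result : Nat.card {H : Subgroup (Equiv.Perm (Fin 6)) // H.index = 6} = 12 ∧ (∀ H : Subgroup (Equiv.Perm (Fin 6)), H.index = 6 → Nonempty (H ≃* Equiv.Perm (Fin 5))) ∧ ∃ H : Subgroup (Equiv.Perm (Fin 6)), H.index = 6 ∧ ∀ a : Fin 6, H ≠ MulAction.stabilizer (Equiv.Perm (Fin 6)) a := by
  open Cfsg.Agent.Classical.SymSix in
  obtain ⟨ψ, hψ⟩ := exists_outer
  have hbij : Function.Bijective
      (fun s : Fin 6 ⊕ Fin 6 => (⟨s.elim (fun a => MulAction.stabilizer G6 a)
        (fun a => (MulAction.stabilizer G6 a).comap ψ.toMonoidHom), by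
          rcases s with a | a
          · exact card_stab a
          · exact comap_index a⟩ : {H : Subgroup G6 // H.index = 6})) := by
    refine ⟨?_, fun ⟨H, hH⟩ => ?_⟩
    · rintro (a | a) (b | b) h <;> simp only [Subtype.mk.injEq, Sum.elim_inl, Sum.elim_inr] at h
      · exact congrArg _ (stab_injective h)
      · exact (stab_ne_comap hψ a b h).elim
      · exact (stab_ne_comap hψ b a h.symm).elim
      · exact congrArg _ (stab_injective (Subgroup.comap_injective ψ.surjective h))
    · rcases classify hψ H hH with ⟨a, rfl⟩ | ⟨a, rfl⟩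
      · exact ⟨Sum.inl a, rfl⟩
      · exact ⟨Sum.inr a, rfl⟩
  refine ⟨?_, fun H hH => ?_, exotic, index_exotic, exotic_ne⟩
  · rw [← Nat.card_eq_of_bijective _ hbij, Nat.card_sum, Nat.card_fin]
  · obtain ⟨φ, hφ⟩ := exists_auto H hH
    subst hφ
    have h1 : (MulAction.stabilizer G6 (0 : Fin 6)).comap φ.toMonoidHom =
        (MulAction.stabilizer G6 (0 : Fin 6)).map φ.symm.toMonoidHom := Subgroup.comap_equiv_eq_map_symm' _ _
    exact ⟨((MulEquiv.subgroupCongr h1).trans
      ((MulAction.stabilizer G6 (0 : Fin 6)).equivMapOfInjective φ.symm.toMonoidHom φ.symm.injective).symm).trans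
        stab_iso⟩

end Cfsg.Agent.S5945
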