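import Cfsg.Statements.S5947

set_option autoImplicit false
open Cfsg

namespace Cfsg.Agent.S5947

/-- A semisimple commutative algebra acting faithfully has no larger dimension than the module. -/
theorem exists_free_vector {F V : Type*} [Field F] [AddCommGroup V] [Module F V] [FiniteDimensional F V]
    (A : Subalgebra F (Module.End F V)) (hc : ∀ a b : A, a * b = b * a) [IsSemisimpleRing A] :
    ∃ v : V, ∀ a : A, (a : Module.End F V) v = 0 → a = 0 := by
  classical
  have step : ∀ s : Finset V, ∃ u : V, ∀ a : A, (a : Module.End F V) u = 0 → ∀ w ∈ s, (a : Module.End F V) w = 0 := by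
    intro s
    induction s using Finset.induction with
    | empty => exact ⟨0, fun a _ w hw => absurd hw (Finset.notMem_empty w)⟩
    | @insert w s _ ih =>
      obtain ⟨v, hv⟩ := ih
      let I : Ideal A :=
        { carrier := {a | (a : Module.End F V) v = 0}
          add_mem' := fun {a b} ha hb => by
            show ((a + b : A) : Module.End F V) v = 0
            rw [AddMemClass.coe_add, LinearMap.add_apply, show (a : Module.End F V) v = 0 from ha,
              show (b : Module.End F V) v = 0 from hb, add_zero]
          zero_mem' := by show ((0 : A) : Module.End F V) v = 0; simp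
          smul_mem' := fun c a ha => by
            show ((c * a : A) : Module.End F V) v = 0
            rw [MulMemClass.coe_mul, Module.End.mul_apply, show (a : Module.End F V) v = 0 from ha, map_zero] }
      obtain ⟨e, he, hI⟩ := IsSemisimpleRing.ideal_eq_span_idempotent I
      have hev : (e : Module.End F V) v = 0 := by
        show e ∈ I
        rw [hI]; exact Ideal.mem_span_singleton_self e
      refine ⟨v + (e : Module.End F V) w, fun a ha => ?_⟩
      rw [map_add] at ha
      have h1 : (a : Module.End F V) v = 0 := by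
        have hcomm := congrArg (fun x : A => (x : Module.End F V)) (hc e a)
        simp only [MulMemClass.coe_mul] at hcomm
        have hz : ((1 - e : A) : Module.End F V) ((a : Module.End F V) v + (a : Module.End F V) ((e : Module.End F V) w)) = 0 := by
          rw [ha, map_zero]
        have hee : ∀ x, (e : Module.End F V) ((e : Module.End F V) x) = (e : Module.End F V) x := fun x => by
          rw [← Module.End.mul_apply, ← MulMemClass.coe_mul, he.eq]
        have hca : ∀ x, (e : Module.End F V) ((a : Module.End F V) x) = (a : Module.End F V) ((e : Module.End F V) x) :=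
          fun x => LinearMap.congr_fun hcomm x
        simp only [AddSubgroupClass.coe_sub, OneMemClass.coe_one, LinearMap.sub_apply, Module.End.one_apply, map_add,
          hca, hev, map_zero, hee] at hz
        simpa using hz
      have h2 : (a : Module.End F V) w = 0 := by
        obtain ⟨b, hb⟩ : ∃ b, a = b * e := by
          have : a ∈ I := h1
          rw [hI, Ideal.mem_span_singleton'] at this
          obtain ⟨b, hb⟩ := this
          exact ⟨b, hb.symm⟩
        rw [h1, zero_add] at ha
        have : a * e = a := by rw [hb, mul_assoc, he.eq]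
        rw [← this, MulMemClass.coe_mul, Module.End.mul_apply, ha]
      intro x hx
      rcases Finset.mem_insert.mp hx with rfl | hx
      · exact h2
      · exact hv a h1 x hx
  obtain ⟨u, hu⟩ := step (Finset.univ.image (Module.finBasis F V))
  exact ⟨u, fun a ha => Subtype.ext ((Module.finBasis F V).ext fun i => by
    rw [hu a ha _ (Finset.mem_image_of_mem _ (Finset.mem_univ i))]; rfl)⟩

/-- Let F ⊆ K be finite fields with |F| = q and [K : F] = n ≥ 2, regard K as an n-dimensional F-vector space, and let M ≤ GL_F(K) be the Singer group of multiplications by non-zero elements of K (cyclic of order q^n − 1). Assume (n, q) ≠ (6, 2), and that it is not the case that n = 2 with q a prime such that q + 1 is a power of 2. Then every abelian subgroup of GL_F(K) of order q^n − 1 is conjugate to M. -/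
theorem result {F K : Type*} [Field F] [Fintype F] [Field K] [Fintype K] [Algebra F K] (n : ℕ) (hn : 2 ≤ n) (hdim : Module.finrank F K = n)
    (hex1 : ¬ (n = 6 ∧ Fintype.card F = 2))
    (hex2 : ¬ (n = 2 ∧ (Fintype.card F).Prime ∧ ∃ a : ℕ, Fintype.card F + 1 = 2 ^ a))
    (U : Subgroup (Module.End F K)ˣ) (hU : IsMulCommutative U) (hcard : Nat.card U = Fintype.card K - 1) :
    ∃ g : (Module.End F K)ˣ, U.map (MulAut.conj g).toMonoidHom = (Units.map ((Algebra.lmul F K : K →ₐ[F] Module.End F K) : K →* Module.End F K)).range := by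
  classical
  haveI : FiniteDimensional F K := Module.finite_of_finrank_pos (by omega)
  haveI : Finite (Module.End F K) := Module.finite_of_finite F
  have hKc : Fintype.card K = Fintype.card F ^ n := by rw [Module.card_eq_pow_finrank (K := F), hdim]
  have hK4 : 4 ≤ Fintype.card K := by
    rw [hKc]
    exact le_trans (Nat.pow_le_pow_right (by norm_num) hn : 2 ^ 2 ≤ 2 ^ n) (Nat.pow_le_pow_left Fintype.one_lt_card n)
  haveI : NeZero (Nat.card U : F) := ⟨fun h => by
    rw [hcard, Nat.cast_sub (by omega), hKc, Nat.cast_pow, FiniteField.cast_card_eq_zero, zero_pow (by omega)] at h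
    simp at h⟩
  let f : MonoidAlgebra F U →ₐ[F] Module.End F K :=
    MonoidAlgebra.lift F (Module.End F K) U ((Units.coeHom (Module.End F K)).comp U.subtype)
  let A := f.range
  have hf : Function.Surjective f.rangeRestrict := f.rangeRestrict_surjective
  haveI : IsSemisimpleRing A := RingHom.isSemisimpleRing_of_surjective f.rangeRestrict.toRingHom hf
  letI : CommGroup U := { mul_comm := fun a b => hU.is_comm.comm a b }
  have hc : ∀ a b : A, a * b = b * a := fun a b => by
    obtain ⟨x, rfl⟩ := hf a
    obtain ⟨y, rfl⟩ := hf b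
    rw [← map_mul, ← map_mul, mul_comm x y]
  obtain ⟨v, hv⟩ := exists_free_vector A hc
  let ev : A →ₗ[F] K :=
    { toFun := fun a => (a : Module.End F K) v
      map_add' := fun a b => rfl
      map_smul' := fun c a => rfl }
  have hev : Function.Injective ev := fun a b h => sub_eq_zero.mp (hv _ (by rw [AddSubgroupClass.coe_sub, LinearMap.sub_apply]; exact sub_eq_zero.mpr h))
  haveI : Fintype A := Fintype.ofFinite A
  have hUmem : ∀ u : U, ((u : (Module.End F K)ˣ) : Module.End F K) ∈ A := fun u =>
    ⟨MonoidAlgebra.of F U u, by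
      show f (MonoidAlgebra.of F U u) = _
      rw [MonoidAlgebra.lift_of]; rfl⟩
  have hne : ∀ u : U, (⟨_, hUmem u⟩ : A) ≠ 0 := fun u h => by
    have := congrArg (fun a : A => (a : Module.End F K)) h
    exact (u : (Module.End F K)ˣ).ne_zero this
  let jU : U → {a : A // a ≠ 0} := fun u => ⟨⟨_, hUmem u⟩, hne u⟩
  have hjU : Function.Injective jU := fun a b h =>
    Subtype.ext (Units.ext (congrArg (fun x : {a : A // a ≠ 0} => ((x : A) : Module.End F K)) h))
  have hA0 : Nat.card {a : A // a ≠ 0} = Nat.card A - 1 := by
    rw [Nat.card_eq_fintype_card, Fintype.card_subtype_compl, Fintype.card_subtype_eq, Nat.card_eq_fintype_card]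
  have hAK : Nat.card A ≤ Fintype.card K := by
    rw [← Nat.card_eq_fintype_card]; exact Nat.card_le_card_of_injective ev hev
  have hle := Nat.card_le_card_of_injective jU hjU
  have hbij : Function.Bijective jU :=
    (Nat.bijective_iff_injective_and_card jU).mpr ⟨hjU, by omega⟩
  have hunit : ∀ a : A, a ≠ 0 → IsUnit a := fun a ha => by
    obtain ⟨u, hu⟩ := hbij.2 ⟨a, ha⟩
    have hu' : (⟨_, hUmem u⟩ : A) = a := congrArg Subtype.val hu
    rw [← hu']
    exact IsUnit.of_mul_eq_one ⟨_, hUmem u⁻¹⟩ (Subtype.ext (by simp [← Units.val_mul]))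
  haveI : Nontrivial A := ⟨⟨_, 0, hne 1⟩⟩
  letI : CommRing A := { (inferInstance : Ring A) with mul_comm := hc }
  have hA : IsField A := ⟨exists_pair_ne A, hc, fun {a} ha => (hunit a ha).exists_right_inv⟩
  letI : Field A := hA.toField
  have hcardA : Nat.card A = Fintype.card K := by omega
  have hevb : Function.Bijective ev :=
    (Nat.bijective_iff_injective_and_card ev).mpr ⟨hev, by rw [hcardA, Nat.card_eq_fintype_card]⟩
  obtain ⟨ψ⟩ := FiniteField.nonempty_algHom_of_finrank_dvd (F := F) (K := K) (L := A)
    (dvd_of_eq (LinearEquiv.ofBijective ev hevb).finrank_eq.symm)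
  have hψ : Function.Bijective ψ := (Nat.bijective_iff_injective_and_card ψ).mpr
    ⟨ψ.injective, by rw [hcardA, Nat.card_eq_fintype_card]⟩
  let g : K ≃ₗ[F] K := (LinearEquiv.ofBijective ψ.toLinearMap hψ).trans (LinearEquiv.ofBijective ev hevb)
  let gu : (Module.End F K)ˣ :=
    ⟨g.toLinearMap, g.symm.toLinearMap, LinearMap.ext g.apply_symm_apply, LinearMap.ext g.symm_apply_apply⟩
  refine ⟨gu⁻¹, le_antisymm ?_ ?_⟩
  · rintro _ ⟨u, hu, rfl⟩
    obtain ⟨k, hk⟩ := hψ.2 ⟨_, hUmem ⟨u, hu⟩⟩
    have hk0 : k ≠ 0 := fun h => hne ⟨u, hu⟩ (by rw [← hk, h, map_zero])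
    refine ⟨Units.mk0 k hk0, Units.ext (LinearMap.ext fun x => ?_)⟩
    show k * x = g.symm ((u : Module.End F K) (g x))
    refine (g.eq_symm_apply).mpr ?_
    show (ψ (k * x) : A).1 v = (u : Module.End F K) ((ψ x : A).1 v)
    rw [map_mul, hk]; rfl
  · rintro _ ⟨k, rfl⟩
    obtain ⟨u, hu⟩ := hbij.2 ⟨ψ (k : K), fun h => k.ne_zero (ψ.injective (h.trans (map_zero ψ).symm))⟩
    have hu' : ((u : (Module.End F K)ˣ) : Module.End F K) = (ψ (k : K) : A).1 :=
      congrArg (fun x : {a : A // a ≠ 0} => ((x : A) : Module.End F K)) hu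
    refine ⟨u, u.2, Units.ext (LinearMap.ext fun x => ?_)⟩
    show g.symm (((u : (Module.End F K)ˣ) : Module.End F K) (g x)) = (k : K) * x
    refine (g.symm_apply_eq).mpr ?_
    show ((u : (Module.End F K)ˣ) : Module.End F K) ((ψ x : A).1 v) = (ψ ((k : K) * x) : A).1 v
    rw [map_mul, hu']; rfl

end Cfsg.Agent.S5947
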