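import Cfsg.Statements.S5950
import Cfsg.Agent.Lib.Classical.Elusive.Cases
import Cfsg.Agent.Lib.Classical.Elusive.Unipotent

set_option autoImplicit false
open scoped MatrixGroups
open Cfsg

namespace Cfsg.Agent.S5950

open Cfsg.Agent.Classical.Elusive Polynomial in
/-- A map with an irreducible factor of degree at least two is not scalar. -/
theorem not_scalar {F : Type*} [Field F] {n : ℕ} {x : Matrix.SpecialLinearGroup (Fin n) F} {q : F[X]}
    (hq : Irreducible q) (hdeg : 2 ≤ q.natDegree)
    (hd : q ∣ (Matrix.toLin' (x : Matrix (Fin n) (Fin n) F)).charpoly) (z : F) :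
    (x : Matrix (Fin n) (Fin n) F) ≠ z • (1 : Matrix (Fin n) (Fin n) F) := fun h => by
  rw [h, Matrix.charpoly_toLin', Matrix.smul_one_eq_diagonal, Matrix.charpoly_diagonal, Finset.prod_const] at hd
  have := Polynomial.natDegree_le_of_dvd (hq.prime.dvd_of_dvd_pow hd) (X_sub_C_ne_zero z)
  rw [natDegree_X_sub_C] at this
  omega

/-- Elements of prime order of PSL_n(q) fixing no decomposition `F^n = U ⊕ W` with `dim U = m`. Here `T = PSL_n(F)` for a field `F` with `q = p^f` elements (`n ≥ 2`, `(n, q) ≠ (2, 2), (2, 3)`); an element of `T` of prime order `r` is represented by a matrix `x` of determinant 1 with `x^r` scalar and `x` not scalar; `i` denotes the multiplicative order of `q` modulo `r` (when `r ≠ p`), and `(a)_r` the `r`-part of `a`. Let `n ≥ 3`, `1 ≤ m < n/2`, and let `r` be a prime dividing the number of such decompositions (unordered pairs `{U, W}` of complementary subspaces with `dim U = m`; since `m ≠ n − m` these are the ordered pairs with `dim U = m`). Then every element of `T` of order `r` fixes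 such a pair (fixes both `U` and `W` for some complementary `U, W` with `dim U = m`) if and only if one of: (i) `r = p > 2` and every partition of `n` into parts of size at most `p` contains, as a sub-multiset, a partition of `m`; (ii) `r = p = 2` and `n` is odd or `m` is even; (iii) `r ≠ p`, `i = 1`, and `r ∣ m` or `(q−1)_r ≥ (n)_r` (with `q ≡ 1 (mod 4)` required when `r = 2` and `n` is even); (iv) `r ≠ p`, `2 ≤ i ≤ m` and `n mod i ≥ m mod i`. -/
theorem result {F : Type*} [Field F] [Fintype F] {p : ℕ} [Fact p.Prime] [CharP F p] {q : ℕ} (hq : Fintype.card F = q)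
    (n m : ℕ) (hn : 3 ≤ n) (hm : 1 ≤ m) (hmn : 2 * m < n)
    (r : ℕ) [Fact r.Prime]
    (hrΩ : r ∣ Nat.card {P : Submodule F (Fin n → F) × Submodule F (Fin n → F) // IsCompl P.1 P.2 ∧ Module.finrank F ↥P.1 = m}) :
    (∀ x : Matrix.SpecialLinearGroup (Fin n) F,
      (∃ c : F, ((x ^ r : Matrix.SpecialLinearGroup (Fin n) F) : Matrix (Fin n) (Fin n) F) = c • (1 : Matrix (Fin n) (Fin n) F)) →
      (∀ c : F, (x : Matrix (Fin n) (Fin n) F) ≠ c • (1 : Matrix (Fin n) (Fin n) F)) →
      ∃ U W : Submodule F (Fin n → F), IsCompl U W ∧ Module.finrank F ↥U = m ∧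
        U.map (Matrix.toLin' (x : Matrix (Fin n) (Fin n) F)) ≤ U ∧ W.map (Matrix.toLin' (x : Matrix (Fin n) (Fin n) F)) ≤ W) ↔
    ((r = p ∧ 2 < p ∧ (∀ μ : Multiset ℕ, (∀ a ∈ μ, 0 < a ∧ a ≤ p) → μ.sum = n → ∃ ν : Multiset ℕ, ν ≤ μ ∧ ν.sum = m)) ∨
     (r = p ∧ p = 2 ∧ (Odd n ∨ Even m)) ∨
     (r ≠ p ∧
      ((orderOf (q : ZMod r) = 1 ∧ (r ∣ m ∨ (padicValNat r n ≤ padicValNat r (q - 1) ∧ (r = 2 → Even n → q % 4 = 1)))) ∨
       (2 ≤ orderOf (q : ZMod r) ∧ orderOf (q : ZMod r) ≤ m ∧ m % orderOf (q : ZMod r) ≤ n % orderOf (q : ZMod r))))) := by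
  classical
  open Cfsg.Agent.Classical.Elusive Polynomial in
  subst hq
  by_cases hrp : r = p
  · subst hrp
    have hn0 : n ≠ 0 := by omega
    constructor
    · intro h
      have key : ∀ μ : Multiset ℕ, (∀ a ∈ μ, 0 < a ∧ a ≤ r) → μ.sum = n → ∃ ν : Multiset ℕ, ν ≤ μ ∧ ν.sum = m := by
        intro μ hμ hsum
        by_cases h1 : ∀ a ∈ μ, a = 1
        · refine ⟨Multiset.replicate m 1, ?_, by simp⟩
          have hμ' := Multiset.eq_replicate_card.mpr h1
          rw [hμ', Multiset.sum_replicate, smul_eq_mul, mul_one] at hsum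
          rw [hμ', hsum]
          exact Multiset.le_iff_count.mpr fun a => by
            rw [Multiset.count_replicate, Multiset.count_replicate]; split_ifs <;> omega
        push Not at h1
        obtain ⟨a, ha, ha1⟩ := h1
        obtain ⟨x, N, t, k, b, hb, hk, hN, hxp, hxN⟩ := exists_unipotent (F := F) (p := r) μ hμ hsum hn0
        obtain ⟨U, W, hc, hU, hUi, hWi⟩ := h x ⟨1, hxp⟩ (fun z hz => by
          have ha' : a ∈ Cfsg.Agent.Small.JordanType.parts k := hk ▸ ha
          obtain ⟨i, -, rfl⟩ := Multiset.mem_map.mp (Multiset.mem_filter.mp ha').1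
          have hki : 2 ≤ k i := by
            have := (hμ _ ha).1
            omega
          have h2 := hb ⟨i, ⟨0, by omega⟩⟩
          rw [dif_pos (show (0 : ℕ) + 1 < k i by omega)] at h2
          have h3 : N = (z - 1) • 1 := by
            have h4 : Matrix.toLin' (x : Matrix (Fin n) (Fin n) F) = z • 1 := by
              rw [hz, map_smul, Matrix.toLin'_one]; rfl
            rw [hxN] at h4
            rw [eq_sub_of_add_eq' h4]
            exact LinearMap.ext fun v => funext fun l => by simp [sub_mul]
          rw [h3, LinearMap.smul_apply, Module.End.one_apply] at h2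
          have h5 := congrArg (fun v => b.repr v ⟨i, ⟨0 + 1, by omega⟩⟩) h2
          simp [Finsupp.single_apply] at h5)
        have hres : ∀ S : Submodule F (Fin n → F), S.map (Matrix.toLin' (x : Matrix (Fin n) (Fin n) F)) ≤ S →
            S.map N ≤ S := fun S hS => by
          rintro _ ⟨v, hv, rfl⟩
          have h1 := S.sub_mem (hS ⟨v, hv, rfl⟩) hv
          rw [hxN] at h1
          simpa using h1
        obtain ⟨ν, ν', hadd, hν⟩ := parts_add hc (hres U hUi) (hres W hWi) hN hb
        exact ⟨ν, hk ▸ hadd ▸ Multiset.le_add_right ν ν', hν.trans hU⟩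
      rcases (Fact.out : r.Prime).eq_two_or_odd with h2 | ho
      · refine Or.inr (Or.inl ⟨rfl, h2, ?_⟩)
        by_contra hc
        rw [not_or, Nat.not_odd_iff_even, Nat.not_even_iff_odd] at hc
        obtain ⟨⟨l, hl⟩, hmo⟩ := hc
        obtain ⟨ν, hν, hνs⟩ := key (Multiset.replicate l 2)
          (fun a ha => by rw [Multiset.eq_of_mem_replicate ha]; omega) (by simp; omega)
        obtain ⟨j, -, rfl⟩ := Multiset.le_replicate_iff.mp hν
        rw [Multiset.sum_replicate, smul_eq_mul] at hνs
        exact (Nat.not_even_iff_odd.mpr hmo) ⟨j, by omega⟩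
      · exact Or.inl ⟨rfl, by have := (Fact.out : r.Prime).two_le; omega, key⟩
    · intro hR x hx _
      obtain ⟨N, hN, hinv⟩ := exists_nil_part hn0 x hx
      obtain ⟨t, k, b, hb⟩ := Cfsg.Agent.Small.JordanType.exists_chain N ⟨r, hN⟩
      have hsum : (Cfsg.Agent.Small.JordanType.parts k).sum = n := by
        rw [Cfsg.Agent.Small.JordanType.sum_parts, hb.sum_eq, Module.finrank_fin_fun]
      have hle : ∀ a ∈ Cfsg.Agent.Small.JordanType.parts k, 0 < a ∧ a ≤ r := fun a ha =>
        ⟨Nat.pos_of_ne_zero (Multiset.mem_filter.mp ha).2,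
          (Cfsg.Agent.Small.JordanType.forall_parts k r).mpr ((hb.pow_eq_zero_iff r).mp hN) a ha⟩
      obtain ⟨ν, hν, hνs⟩ : ∃ ν : Multiset ℕ, ν ≤ Cfsg.Agent.Small.JordanType.parts k ∧ ν.sum = m := by
        generalize Cfsg.Agent.Small.JordanType.parts k = μ at hsum hle
        rcases hR with ⟨-, -, h⟩ | ⟨-, h2, h⟩ | ⟨h, -⟩
        · exact h μ hle hsum
        · subst h2
          have hμ : μ = Multiset.replicate (μ.count 1) 1 + Multiset.replicate (μ.count 2) 2 := by
            refine Multiset.ext.mpr fun a => ?_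
            rw [Multiset.count_add, Multiset.count_replicate, Multiset.count_replicate]
            by_cases ha : a ∈ μ
            · obtain rfl | rfl : a = 1 ∨ a = 2 := by have := hle a ha; omega
              · simp
              · simp
            · have h0 := Multiset.count_eq_zero.mpr ha
              split_ifs <;> subst_vars <;> omega
          have hs : μ.count 1 + 2 * μ.count 2 = n := by
            have := hsum
            rw [hμ, Multiset.sum_add, Multiset.sum_replicate, Multiset.sum_replicate, smul_eq_mul, smul_eq_mul] at this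
            omega
          have hsel : ∃ α β, α ≤ μ.count 1 ∧ β ≤ μ.count 2 ∧ α + 2 * β = m := by
            by_cases hb : m / 2 ≤ μ.count 2
            · refine ⟨m % 2, m / 2, ?_, hb, by omega⟩
              rcases h with ⟨l, hl⟩ | ⟨l, hl⟩ <;> omega
            · exact ⟨m - 2 * μ.count 2, μ.count 2, by omega, le_rfl, by omega⟩
          obtain ⟨α, β, hα, hβ, hαβ⟩ := hsel
          refine ⟨Multiset.replicate α 1 + Multiset.replicate β 2, ?_, by simp; omega⟩
          rw [hμ]
          refine Multiset.le_iff_count.mpr fun a => ?_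
          simp only [Multiset.count_add, Multiset.count_replicate]
          split_ifs <;> omega
        · exact absurd rfl h
      obtain ⟨U, W, hc, hU, hUi, hWi⟩ := exists_of_le_parts hb hν
      exact ⟨U, W, hc, hU.trans hνs, hinv U hUi, hinv W hWi⟩
  · have hd : r ∣ Nat.card {W : Submodule F (Fin n → F) // Module.finrank F W = m} := by
      haveI : Fintype {W : Submodule F (Fin n → F) // Module.finrank F W = m} := Fintype.ofFinite _
      have h1 := hrΩ
      rw [Nat.card_congr (β := Σ U : {W : Submodule F (Fin n → F) // Module.finrank F W = m},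
          {W : Submodule F (Fin n → F) // IsCompl U.1 W})
        { toFun := fun P => ⟨⟨P.1.1, P.2.2⟩, ⟨P.1.2, P.2.1⟩⟩
          invFun := fun x => ⟨(x.1.1, x.2.1), x.2.2, x.1.2⟩
          left_inv := fun P => rfl
          right_inv := fun x => rfl }, Nat.card_sigma] at h1
      by_contra hnd
      have hcop : ∀ U : Submodule F (Fin n → F), Module.finrank F U = m →
          Nat.card {W : Submodule F (Fin n → F) // IsCompl U W} = Fintype.card F ^ (m * (n - m)) := by
        intro U hU
        obtain ⟨W0, hW0⟩ := exists_isCompl U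
        rw [Nat.card_congr U.isComplEquivProj]
        have e : {f : (Fin n → F) →ₗ[F] U // ∀ x : U, f x = x} ≃ (W0 →ₗ[F] U) :=
          { toFun := fun f => f.1 ∘ₗ W0.subtype
            invFun := fun g => ⟨LinearMap.ofIsCompl hW0 LinearMap.id g, fun x => by
              rw [LinearMap.ofIsCompl_left_apply]; rfl⟩
            left_inv := fun f => Subtype.ext (LinearMap.ofIsCompl_eq hW0 (fun u => (f.2 u).symm) (fun w => rfl))
            right_inv := fun g => LinearMap.ext fun w => LinearMap.ofIsCompl_right_apply hW0 w }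
        have hW : Module.finrank F W0 = n - m := by
          have := Submodule.finrank_add_eq_of_isCompl hW0
          rw [hU, Module.finrank_fin_fun] at this
          omega
        rw [Nat.card_congr e, Module.natCard_eq_pow_finrank (K := F) (V := W0 →ₗ[F] U), Nat.card_eq_fintype_card,
          Module.finrank_linearMap, hU, hW, mul_comm]
      rw [Finset.sum_congr rfl (fun U _ => hcop U.1 U.2), Finset.sum_const, smul_eq_mul, Finset.card_univ,
        ← Nat.card_eq_fintype_card] at h1
      rcases (Nat.Prime.dvd_mul Fact.out).mp h1 with h | h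
      · exact hnd h
      · obtain ⟨f, -, hf⟩ := FiniteField.card F p
        have h3 := (Fact.out : r.Prime).dvd_of_dvd_pow h
        rw [hf] at h3
        exact hrp ((Nat.prime_dvd_prime_iff_eq Fact.out Fact.out).mp ((Fact.out : r.Prime).dvd_of_dvd_pow h3))
    obtain ⟨-, j, hj, hdvd⟩ := prime_dvd_subspaces (p := p) (by omega : m ≤ n) hd
    rw [orderOf_dvd_iff'] at hdvd
    have hi0 := orderOf_pos' (F := F) (p := p) hrp
    obtain ⟨i, hi⟩ : ∃ i, i = orderOf (Fintype.card F : ZMod r) := ⟨_, rfl⟩
    rw [← hi] at hdvd hi0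
    simp only [← hi]
    have hin : i ≤ n := (Nat.le_of_dvd (by omega) hdvd).trans (Nat.sub_le _ _)
    constructor
    · intro h
      refine Or.inr (Or.inr ⟨hrp, ?_⟩)
      by_cases hi1 : i = 1
      · refine Or.inl ⟨hi1, ?_⟩
        by_contra hc
        push Not at hc
        obtain ⟨hrm, hcond⟩ := hc
        have hcond' : ¬ Cond n r (Fintype.card F) := fun hC => by
          obtain ⟨a, b, c⟩ := hcond hC.1
          exact c (hC.2 a b)
        have hrn : r ∣ n := by
          by_contra hrn
          refine hcond' ⟨by rw [padicValNat.eq_zero_of_not_dvd hrn]; exact Nat.zero_le _, fun h2 he => ?_⟩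
          exact absurd (h2 ▸ he.two_dvd) hrn
        obtain ⟨x, hx, hs, q, hq, hqd, hch⟩ := exists_scaled (F := F) (p := p) hrp (hi ▸ hi1) hrn hcond'
        have ht : n / r ≠ 0 := (Nat.div_pos (Nat.le_of_dvd (by omega) hrn) (Fact.out : r.Prime).pos).ne'
        obtain ⟨U, W, -, hU, hUi, -⟩ :=
          h x hx (not_scalar hq (hqd ▸ (Fact.out : r.Prime).two_le) (hch ▸ dvd_pow_self q ht))
        obtain ⟨g, hg, hgd⟩ := exists_dvd_of_invariant hs hUi
        obtain ⟨b, -, hb⟩ := degree_divisor_pow hq (hch ▸ hg)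
        exact hrm ⟨b, by rw [← hU, ← hgd, hb, hqd]⟩
      · have hi2 : 2 ≤ i := by omega
        obtain ⟨x, hx, hs, q, hq, hqd, hch⟩ :=
          exists_mixed (F := F) (p := p) hrp (hi ▸ hi2) (hi ▸ Nat.mod_add_div n i)
        rw [← hi] at hqd hch
        have ht : n / i ≠ 0 := (Nat.div_pos hin (by omega)).ne'
        obtain ⟨U, W, -, hU, hUi, -⟩ :=
          h x hx (not_scalar hq (hqd ▸ hi2) (hch ▸ (dvd_pow_self q ht).mul_left _))
        obtain ⟨g, hg, hgd⟩ := exists_dvd_of_invariant hs hUi
        obtain ⟨a, b, ha, -, hab⟩ := degree_divisor hq (hch ▸ hg)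
        rw [hgd, hU, hqd] at hab
        have hnj : n % i ≤ j := by
          obtain ⟨s, hs'⟩ := hdvd
          rw [show n = j + i * s by omega, Nat.add_mul_mod_self_left]
          exact Nat.mod_le _ _
        refine Or.inr ⟨hi2, ?_, ?_⟩
        · by_contra hlt
          rcases Nat.eq_zero_or_pos b with rfl | hb
          · omega
          · have : i * 1 ≤ i * b := Nat.mul_le_mul_left i hb
            omega
        · rw [hab, Nat.add_mul_mod_self_left]
          exact (Nat.mod_le _ _).trans ha
    · intro hR0 x hx _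
      obtain ⟨-, hR⟩ := (hR0.resolve_left fun h => hrp h.1).resolve_left fun h => hrp h.1
      obtain ⟨k, d, ⟨B⟩, hcase⟩ := element_blocks (p := p) hrp (by omega) x hx
      have fin : ∀ D, D ≠ 1 → (∀ j, d j = 1 ∨ d j = D) →
          (∀ a₀ b₀, a₀ + D * b₀ = n → (a₀ = (Finset.univ.filter fun j => d j = 1).card) →
            ∃ a b, a ≤ a₀ ∧ b ≤ b₀ ∧ a + D * b = m) →
          ∃ U W : Submodule F (Fin n → F), IsCompl U W ∧ Module.finrank F U = m ∧
            U.map (Matrix.toLin' (x : Matrix (Fin n) (Fin n) F)) ≤ U ∧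
            W.map (Matrix.toLin' (x : Matrix (Fin n) (Fin n) F)) ≤ W := fun D hD hd hsel => by
        have hc := B.counts hD hd
        rw [Module.finrank_fin_fun] at hc
        obtain ⟨a, b, ha, hb, hab⟩ := hsel _ _ hc rfl
        obtain ⟨s, -, -, hs, -⟩ := B.exists_pair hD hd (a₁ := a) (b₁ := b) (a₂ := 0) (b₂ := 0) (by omega) (by omega)
        exact ⟨B.sub s, B.sub sᶜ, B.compl s, hs.trans hab, B.inv _, B.inv _⟩
      rcases hcase with ⟨h2, hd⟩ | ⟨h1, hd⟩ | ⟨h1, hd, hnc⟩
      · rw [← hi] at h2 hd
        obtain ⟨-, him, hmod⟩ : 2 ≤ i ∧ i ≤ m ∧ m % i ≤ n % i := hR.resolve_left fun h => by omega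
        refine fin i (by omega) hd fun a₀ b₀ hab _ => ?_
        by_cases hb : m / i ≤ b₀
        · refine ⟨m % i, m / i, hmod.trans ?_, hb, Nat.mod_add_div m i⟩
          rw [← hab, Nat.add_mul_mod_self_left]
          exact Nat.mod_le _ _
        · have h' : i * b₀ ≤ i * (m / i) := Nat.mul_le_mul_left i (by omega)
          have := Nat.mul_div_le m i
          exact ⟨m - i * b₀, b₀, by omega, le_rfl, by omega⟩
      · exact fin 0 (by omega) (fun j => Or.inl (hd j)) fun a₀ b₀ hab _ => ⟨m, 0, by omega, Nat.zero_le _, by omega⟩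
      · rw [← hi] at h1
        obtain ⟨-, hm'⟩ : i = 1 ∧ (r ∣ m ∨ Cond n r (Fintype.card F)) := hR.resolve_right fun h => by omega
        obtain ⟨b, hb⟩ := hm'.resolve_right hnc
        refine fin r (Fact.out : r.Prime).ne_one (fun j => Or.inr (hd j)) fun a₀ b₀ hab h1' => ?_
        have ha0 : a₀ = 0 := by
          rw [h1', Finset.card_eq_zero, Finset.filter_eq_empty_iff]
          exact fun j _ => by rw [hd j]; exact (Fact.out : r.Prime).ne_one
        refine ⟨0, b, Nat.zero_le _, ?_, by omega⟩
        refine Nat.le_of_mul_le_mul_left ?_ (Fact.out : r.Prime).pos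
        omega

end Cfsg.Agent.S5950
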