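import Cfsg.Statements.S5951
import Cfsg.Agent.Lib.Classical.Elusive.Pairs

set_option autoImplicit false
open scoped MatrixGroups
open Cfsg

namespace Cfsg.Agent.S5951

open Cfsg.Agent.Classical.Elusive Polynomial in
/-- A map with an irreducible factor of degree at least two is not scalar. -/
theorem not_scalar {F : Type*} [Field F] {n : ℕ} {x : Matrix.SpecialLinearGroup (Fin n) F} {q : F[X]}
    (hq : Irreducible q) (hdeg : 2 ≤ q.natDegree)
    (hd : q ∣ (Matrix.toLin' (x : Matrix (Fin n) (Fin n) F)).charpoly) (z : F) :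
    (x : Matrix (Fin n) (Fin n) F) ≠ z • (1 : Matrix (Fin n) (Fin n) F) := fun h => by
  rw [h, Matrix.charpoly_toLin', Matrix.smul_one_eq_diagonal, Matrix.charpoly_diagonal, Finset.prod_const] at hd
  have := Polynomial.natDegree_le_of_dvd (hq.prime.dvd_of_dvd_pow hd) (X_sub_C_ne_zero z)
  rw [natDegree_X_sub_C] at this
  omega

/-- Elements of prime order of PSL_n(q) fixing no pair of subspaces `U < W` with `dim U = m`, `dim W = n − m`. Here `T = PSL_n(F)` for a field `F` with `q = p^f` elements (`n ≥ 2`, `(n, q) ≠ (2, 2), (2, 3)`); an element of `T` of prime order `r` is represented by a matrix `x` of determinant 1 with `x^r` scalar and `x` not scalar; `i` denotes the multiplicative order of `q` modulo `r` (when `r ≠ p`), and `(a)_r` the `r`-part of `a`. Let `1 ≤ m < n/2` and let `r` be a prime dividing the number of such pairs. Then every element of `T` of order `r` fixes such a pair (both `U` and `W`) if and only if `r ≠ p` and either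 (i) `i = 1` and (`r ∣ m`, or `(q−1)_r ≥ (n)_r` with `q ≡ 1 (mod 4)` required when `r = 2` and `n` is even), or (ii) `2 ≤ i ≤ m` and `n mod i ≥ 2 (m mod i)`. -/
theorem result {F : Type*} [Field F] [Fintype F] {p : ℕ} [Fact p.Prime] [CharP F p] {q : ℕ} (hq : Fintype.card F = q)
    (n m : ℕ) (hn : 2 ≤ n) (hT : (n, q) ≠ (2, 2) ∧ (n, q) ≠ (2, 3)) (hm : 1 ≤ m) (hmn : 2 * m < n)
    (r : ℕ) [Fact r.Prime]
    (hrΩ : r ∣ Nat.card {P : Submodule F (Fin n → F) × Submodule F (Fin n → F) //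
        P.1 ≤ P.2 ∧ Module.finrank F ↥P.1 = m ∧ Module.finrank F ↥P.2 = n - m}) :
    (∀ x : Matrix.SpecialLinearGroup (Fin n) F,
      (∃ c : F, ((x ^ r : Matrix.SpecialLinearGroup (Fin n) F) : Matrix (Fin n) (Fin n) F) = c • (1 : Matrix (Fin n) (Fin n) F)) →
      (∀ c : F, (x : Matrix (Fin n) (Fin n) F) ≠ c • (1 : Matrix (Fin n) (Fin n) F)) →
      ∃ U W : Submodule F (Fin n → F), U ≤ W ∧ Module.finrank F ↥U = m ∧ Module.finrank F ↥W = n - m ∧
        U.map (Matrix.toLin' (x : Matrix (Fin n) (Fin n) F)) ≤ U ∧ W.map (Matrix.toLin' (x : Matrix (Fin n) (Fin n) F)) ≤ W) ↔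
    (r ≠ p ∧
      ((orderOf (q : ZMod r) = 1 ∧ (r ∣ m ∨ (padicValNat r n ≤ padicValNat r (q - 1) ∧ (r = 2 → Even n → q % 4 = 1)))) ∨
       (2 ≤ orderOf (q : ZMod r) ∧ orderOf (q : ZMod r) ≤ m ∧ 2 * (m % orderOf (q : ZMod r)) ≤ n % orderOf (q : ZMod r)))) := by
  classical
  open Cfsg.Agent.Classical.Elusive Polynomial in
  subst hq
  obtain ⟨hrp, e, he1, he2, hdvd⟩ := prime_dvd_flags (p := p) (by omega : 2 * m ≤ n) hrΩ
  have hi0 := orderOf_pos' (F := F) (p := p) hrp
  obtain ⟨i, hi⟩ : ∃ i, i = orderOf (Fintype.card F : ZMod r) := ⟨_, rfl⟩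
  rw [← hi] at hdvd hi0
  simp only [← hi]
  have hin : i ≤ n := (Nat.le_of_dvd (by omega) hdvd).trans he2
  constructor
  · intro h
    refine ⟨hrp, ?_⟩
    by_cases hi1 : i = 1
    · refine Or.inl ⟨hi1, ?_⟩
      by_contra hc
      push Not at hc
      obtain ⟨hrm, hcond⟩ := hc
      have hcond' : ¬ Cond n r (Fintype.card F) := fun hC => by
        obtain ⟨a, b, c⟩ := hcond hC.1
        exact c (hC.2 a b)
      have hrn : r ∣ n := by
        by_contra hrn
        refine hcond' ⟨by rw [padicValNat.eq_zero_of_not_dvd hrn]; exact Nat.zero_le _, fun h2 he => ?_⟩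
        exact absurd (h2 ▸ he.two_dvd) hrn
      obtain ⟨x, hx, hs, q, hq, hqd, hch⟩ := exists_scaled (F := F) (p := p) hrp (hi ▸ hi1) hrn hcond'
      have ht : n / r ≠ 0 := (Nat.div_pos (Nat.le_of_dvd (by omega) hrn) (Fact.out : r.Prime).pos).ne'
      obtain ⟨U, W, -, hU, -, hUi, -⟩ :=
        h x hx (not_scalar hq (hqd ▸ (Fact.out : r.Prime).two_le) (hch ▸ dvd_pow_self q ht))
      obtain ⟨g, hg, hgd⟩ := exists_dvd_of_invariant hs hUi
      obtain ⟨b, -, hb⟩ := degree_divisor_pow hq (hch ▸ hg)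
      exact hrm ⟨b, by rw [← hU, ← hgd, hb, hqd]⟩
    · have hi2 : 2 ≤ i := by omega
      obtain ⟨x, hx, hs, q, hq, hqd, hch⟩ := exists_mixed (F := F) (p := p) hrp (hi ▸ hi2) (hi ▸ Nat.mod_add_div n i)
      rw [← hi] at hqd hch
      have ht : n / i ≠ 0 := (Nat.div_pos hin (by omega)).ne'
      obtain ⟨U, W, hle, hU, hW, hUi, hWi⟩ := h x hx (not_scalar hq (hqd ▸ hi2) (hch ▸ (dvd_pow_self q ht).mul_left _))
      obtain ⟨g₁, g₂, hg, hg1, hg2⟩ := exists_dvd_pair hs hUi hWi hle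
      rw [hW, Module.finrank_fin_fun] at hg2
      obtain ⟨a₁, b₁, a₂, b₂, ha, d₁, d₂⟩ := degree_pair hq (hqd ▸ hi2) (hch ▸ hg)
      rw [hg1, hU, hqd] at d₁
      rw [hqd] at d₂
      have h2m : n % i < 2 * m := by
        obtain ⟨s, hs'⟩ := hdvd
        rw [show n = (n - e) + i * s by omega, Nat.add_mul_mod_self_left]
        exact lt_of_le_of_lt (Nat.mod_le _ _) (by omega)
      refine Or.inr ⟨hi2, ?_, ?_⟩
      · by_contra hlt
        rcases Nat.eq_zero_or_pos b₁ with rfl | hb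
        · rcases Nat.eq_zero_or_pos b₂ with rfl | hb'
          · omega
          · have : i * 1 ≤ i * b₂ := Nat.mul_le_mul_left i hb'
            omega
        · have : i * 1 ≤ i * b₁ := Nat.mul_le_mul_left i hb
          omega
      · have e1 : m % i ≤ a₁ := by
          rw [d₁, Nat.add_mul_mod_self_left]; exact Nat.mod_le _ _
        have e2 : m % i ≤ a₂ := by
          rw [show m = a₂ + i * b₂ by omega, Nat.add_mul_mod_self_left]; exact Nat.mod_le _ _
        omega
  · rintro ⟨-, hR⟩ x hx -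
    obtain ⟨k, d, ⟨B⟩, hcase⟩ := element_blocks (p := p) hrp (by omega) x hx
    have fin : ∀ D, D ≠ 1 → (∀ j, d j = 1 ∨ d j = D) →
        (∀ a₀ b₀, a₀ + D * b₀ = n →
          (a₀ = (Finset.univ.filter fun j => d j = 1).card) →
          ∃ a₁ b₁ a₂ b₂, a₁ + a₂ ≤ a₀ ∧ b₁ + b₂ ≤ b₀ ∧ a₁ + D * b₁ = m ∧ a₂ + D * b₂ = m) →
        ∃ U W : Submodule F (Fin n → F), U ≤ W ∧ Module.finrank F U = m ∧ Module.finrank F W = n - m ∧
          U.map (Matrix.toLin' (x : Matrix (Fin n) (Fin n) F)) ≤ U ∧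
          W.map (Matrix.toLin' (x : Matrix (Fin n) (Fin n) F)) ≤ W := fun D hD hd hsel => by
      have hc := B.counts hD hd
      rw [Module.finrank_fin_fun] at hc
      obtain ⟨a₁, b₁, a₂, b₂, ha, hb, h1, h2⟩ := hsel _ _ hc rfl
      obtain ⟨s₁, s₂, hs, hd1, hd2⟩ := B.exists_pair hD hd ha hb
      refine ⟨B.sub s₁, B.sub s₂ᶜ, B.mono hs, hd1.trans h1, ?_, B.inv _, B.inv _⟩
      have h3 := Submodule.finrank_add_eq_of_isCompl (B.compl s₂)
      rw [hd2, h2, Module.finrank_fin_fun] at h3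
      omega
    rcases hcase with ⟨h2, hd⟩ | ⟨h1, hd⟩ | ⟨h1, hd, hnc⟩
    · rw [← hi] at h2 hd
      obtain ⟨-, him, hmod⟩ : 2 ≤ i ∧ i ≤ m ∧ 2 * (m % i) ≤ n % i := hR.resolve_left fun h => by omega
      refine fin i (by omega) hd fun a₀ b₀ hab _ => ?_
      by_cases hb : 2 * (m / i) ≤ b₀
      · refine ⟨m % i, m / i, m % i, m / i, ?_, by omega, Nat.mod_add_div m i, Nat.mod_add_div m i⟩
        have : n % i ≤ a₀ := by
          rw [← hab, Nat.add_mul_mod_self_left]; exact Nat.mod_le _ _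
        omega
      · obtain ⟨b₁, b₂, rfl, hb1, hb2⟩ : ∃ b₁ b₂, b₀ = b₁ + b₂ ∧ b₁ ≤ m / i ∧ b₂ ≤ m / i :=
          ⟨min b₀ (m / i), b₀ - min b₀ (m / i), by omega, min_le_right _ _, by omega⟩
        have h1 := Nat.mul_le_mul_left i hb1
        have h2' := Nat.mul_le_mul_left i hb2
        have := Nat.mul_div_le m i
        rw [mul_add] at hab
        exact ⟨m - i * b₁, b₁, m - i * b₂, b₂, by omega, le_rfl, by omega, by omega⟩
    · exact fin 0 (by omega) (fun j => Or.inl (hd j)) fun a₀ b₀ hab _ =>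
        ⟨m, 0, m, 0, by omega, Nat.zero_le _, by omega, by omega⟩
    · rw [← hi] at h1
      obtain ⟨-, hm'⟩ : i = 1 ∧ (r ∣ m ∨ Cond n r (Fintype.card F)) := hR.resolve_right fun h => by omega
      obtain ⟨b, hb⟩ := hm'.resolve_right hnc
      refine fin r (Fact.out : r.Prime).ne_one (fun j => Or.inr (hd j)) fun a₀ b₀ hab h1' => ?_
      have ha0 : a₀ = 0 := by
        rw [h1', Finset.card_eq_zero, Finset.filter_eq_empty_iff]
        exact fun j _ => by rw [hd j]; exact (Fact.out : r.Prime).ne_one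
      refine ⟨0, b, 0, b, Nat.zero_le _, ?_, by omega, by omega⟩
      refine Nat.le_of_mul_le_mul_left ?_ (Fact.out : r.Prime).pos
      rw [mul_add]
      omega

end Cfsg.Agent.S5951
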