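import Cfsg.Statements.S5952
import Cfsg.Agent.Lib.Classical.LinBasic
-- import your own Cfsg.Agent.* helpers here

set_option autoImplicit false
set_option maxHeartbeats 200000
open Cfsg

namespace Cfsg.Agent.S5952

/-- Which dimensions of invariant subspaces a semisimple linear map has. Let `V` be a finite-dimensional vector space over a field `F` and `f` an invertible semisimple linear map of `V`. Suppose `V` is the internal direct sum of the fixed space `C_V(f)` (the eigenspace for 1) and subspaces `U_1, …, U_s`, each `f`-invariant of dimension `a ≥ 1` on which `f` acts irreducibly (no `f`-invariant subspaces other than 0 and `U_j`). Let `0 < m < dim V` and `ℓ = m mod a`. Then `f` leaves some `m`-dimensional subspace invariant if and only if `dim C_V(f) ≥ m`, or `a ≤ m` and `dim C_V(f) ≥ ℓ`. -/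
theorem result {F V : Type*} [Field F] [AddCommGroup V] [Module F V]
    [FiniteDimensional F V] (f : V →ₗ[F] V) (hf : Function.Bijective f) (hss : Module.End.IsSemisimple f)
    {s a : ℕ} (ha : 1 ≤ a) (U : Fin s → Submodule F V)
    (hUinv : ∀ j, (U j).map f ≤ U j) (hUdim : ∀ j, Module.finrank F ↥(U j) = a)
    (hUirr : ∀ j, ∀ W : Submodule F V, W ≤ U j → W.map f ≤ W → W = ⊥ ∨ W = U j)
    (hdec : DirectSum.IsInternal (fun o : Option (Fin s) => o.elim (Module.End.eigenspace f 1) U))
    (m : ℕ) (hm : 0 < m) (hmV : m < Module.finrank F V) :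
    (∃ W : Submodule F V, Module.finrank F ↥W = m ∧ W.map f ≤ W) ↔
    (m ≤ Module.finrank F ↥(Module.End.eigenspace f 1) ∨
      (a ≤ m ∧ m % a ≤ Module.finrank F ↥(Module.End.eigenspace f 1))) := by
  classical
  have _ := hss
  set E := Module.End.eigenspace f 1 with hE
  have hind := hdec.submodule_iSupIndep
  have htop := hdec.submodule_iSup_eq_top
  let D : Option (Fin s) → Submodule F V := fun o => o.elim E U
  have hdimsum : Module.finrank F V = Module.finrank F E + s * a := by
    have e := Cfsg.Agent.Classical.finrank_iSup_of_indep D hind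
    rw [show (⨆ o, D o) = ⊤ from htop, finrank_top, Fintype.sum_option] at e
    rw [e, show (∑ i, Module.finrank F (D (some i))) = ∑ _i : Fin s, a from Finset.sum_congr rfl fun i _ => hUdim i]
    simp [D]
    rfl
  have hfE : ∀ W : Submodule F V, W ≤ E → W.map f ≤ W := by
    rintro W hW _ ⟨w, hw, rfl⟩
    have : f w = w := by simpa using Module.End.mem_eigenspace_iff.1 (hW hw)
    rwa [this]
  -- the filtration
  let Fl : ℕ → Submodule F V := fun t => E ⊔ ⨆ j : {j : Fin s // (j : ℕ) < t}, U j.1
  have hFl : ∀ t, (Fl t).map f ≤ Fl t := by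
    intro t
    simp only [Fl, Submodule.map_sup, Submodule.map_iSup]
    exact sup_le_sup (hfE E le_rfl) (iSup_mono fun j => hUinv j.1)
  have hUle : ∀ t (j : Fin s), (j : ℕ) < t → U j ≤ Fl t := fun t j hj =>
    le_sup_of_le_right (le_iSup_of_le (⟨j, hj⟩ : {j : Fin s // (j : ℕ) < t}) le_rfl)
  have hEle : ∀ t, E ≤ Fl t := fun t => le_sup_left
  have hFmono : ∀ t t', t ≤ t' → Fl t ≤ Fl t' := fun t t' h =>
    sup_le (hEle t') (iSup_le fun j => hUle t' j.1 (j.2.trans_le h))
  have hFsucc : ∀ t (ht : t < s), Fl (t + 1) = Fl t ⊔ U ⟨t, ht⟩ := by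
    intro t ht
    refine le_antisymm (sup_le ((hEle t).trans le_sup_left) (iSup_le ?_))
      (sup_le (hFmono t _ t.le_succ) (hUle _ _ t.lt_succ_self))
    rintro ⟨j, hj⟩
    rcases Nat.lt_succ_iff_lt_or_eq.1 hj with h | h
    · exact (hUle t j h).trans le_sup_left
    · obtain rfl : j = ⟨t, ht⟩ := Fin.ext h
      exact le_sup_right
  have hdis : ∀ t (ht : t < s), Fl t ⊓ U ⟨t, ht⟩ = ⊥ := by
    intro t ht
    have h := hind (some ⟨t, ht⟩)
    rw [disjoint_comm, disjoint_iff] at h
    refine le_bot_iff.1 ((inf_le_inf_right _ ?_).trans_eq h)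
    refine sup_le (le_iSup₂_of_le (f := fun o _ => D o) none (by simp) le_rfl) (iSup_le ?_)
    rintro ⟨j, hj⟩
    exact le_iSup₂_of_le (f := fun o _ => D o) (some j) (fun he => by
      have := congrArg Fin.val (Option.some_injective _ he); simp at this; omega) le_rfl
  constructor
  · rintro ⟨W, hWm, hW⟩
    have hstep : ∀ t ≤ s, ∃ j, Module.finrank F ↥(W ⊓ Fl t) = Module.finrank F ↥(W ⊓ E) + j * a := by
      intro t
      induction t with
      | zero =>
        intro _
        have : Fl 0 = E := by
          refine le_antisymm (sup_le le_rfl (iSup_le ?_)) le_sup_left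
          rintro ⟨j, hj⟩; exact absurd hj (Nat.not_lt_zero _)
        exact ⟨0, by rw [this, zero_mul, add_zero]⟩
      | succ t ih =>
        intro ht
        obtain ⟨j, hj⟩ := ih (by omega)
        have hts : t < s := ht
        let U' := ((W ⊓ Fl (t + 1)) ⊔ Fl t) ⊓ U ⟨t, hts⟩
        have hsum : (W ⊓ Fl (t + 1)) ⊔ Fl t = Fl t ⊔ U' := by
          refine le_antisymm ?_ (sup_le le_sup_right inf_le_left)
          intro x hx
          have hx' : x ∈ Fl t ⊔ U ⟨t, hts⟩ := by
            rw [← hFsucc t hts]
            exact (sup_le inf_le_right (hFmono t _ t.le_succ) : (W ⊓ Fl (t + 1)) ⊔ Fl t ≤ Fl (t + 1)) hx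
          obtain ⟨p, hp, q, hq, rfl⟩ := Submodule.mem_sup.1 hx'
          refine Submodule.mem_sup.2 ⟨p, hp, q, ⟨?_, hq⟩, rfl⟩
          exact (Submodule.add_mem_iff_right _ (Submodule.mem_sup_right hp)).1 hx
        have hinv : U'.map f ≤ U' := by
          refine (Submodule.map_inf_le _).trans (inf_le_inf ?_ (hUinv _))
          rw [Submodule.map_sup]
          exact sup_le_sup ((Submodule.map_inf_le _).trans (inf_le_inf hW (hFl _))) (hFl t)
        have h1 := Submodule.finrank_sup_add_finrank_inf_eq (W ⊓ Fl (t + 1)) (Fl t)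
        rw [inf_assoc, inf_eq_right.2 (hFmono t _ t.le_succ), hsum, hj] at h1
        have h2 := Submodule.finrank_sup_add_finrank_inf_eq (Fl t) U'
        rw [show Fl t ⊓ U' = ⊥ from le_bot_iff.1 ((inf_le_inf_left _ inf_le_right).trans_eq (hdis t hts)), finrank_bot] at h2
        rcases hUirr _ U' inf_le_right hinv with h | h
        · rw [h, finrank_bot] at h2; exact ⟨j, by rw [h] at h1; omega⟩
        · refine ⟨j + 1, ?_⟩
          rw [h, hUdim] at h2
          rw [h] at h1
          rw [add_mul, one_mul]
          omega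
    obtain ⟨j, hj⟩ := hstep s le_rfl
    have htop' : Fl s = ⊤ := by
      rw [eq_top_iff, ← htop, iSup_option]
      exact sup_le (hEle s) (iSup_le fun j => hUle s j j.2)
    rw [htop', inf_top_eq, hWm] at hj
    have hle : Module.finrank F ↥(W ⊓ E) ≤ Module.finrank F E := Submodule.finrank_mono inf_le_right
    rcases Nat.eq_zero_or_pos j with rfl | hj0
    · left; omega
    · right
      refine ⟨?_, ?_⟩
      · have : a ≤ j * a := Nat.le_mul_of_pos_left a hj0
        omega
      · rw [hj, Nat.add_mul_mod_self_right]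
        exact (Nat.mod_le _ _).trans hle
  · intro h
    obtain ⟨j, r, hjs, hr, hm'⟩ : ∃ j r, j ≤ s ∧ r ≤ Module.finrank F E ∧ m = r + j * a := by
      rcases h with h | ⟨h1, h2⟩
      · exact ⟨0, m, Nat.zero_le _, h, by simp⟩
      · by_cases hk : m / a ≤ s
        · exact ⟨m / a, m % a, hk, h2, by rw [mul_comm]; exact (Nat.mod_add_div m a).symm⟩
        · refine ⟨s, m - s * a, le_rfl, by omega, ?_⟩
          have : s * a ≤ m := (Nat.mul_le_mul_right a (by omega : s ≤ m / a)).trans (Nat.div_mul_le_self m a)
          omega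
    obtain ⟨R, hRd⟩ : ∃ R : Submodule F ↥E, Module.finrank F R = r := by
      obtain ⟨g, hg⟩ := exists_linearIndependent_of_le_finrank hr
      exact ⟨Submodule.span F (Set.range g), by rw [finrank_span_eq_card hg, Fintype.card_fin]⟩
    obtain ⟨W₀, hW₀, hd⟩ : ∃ W₀ : Submodule F V, W₀ = R.map E.subtype ∧ Module.finrank F W₀ = r :=
      ⟨_, rfl, by rw [Submodule.finrank_map_subtype_eq, hRd]⟩
    have hW₀E : W₀ ≤ E := hW₀ ▸ Submodule.map_subtype_le _ _
    let W : ℕ → Submodule F V := fun t => W₀ ⊔ ⨆ i : {j : Fin s // (j : ℕ) < t}, U i.1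
    refine ⟨W j, ?_, ?_⟩
    · let D' : Option {i : Fin s // (i : ℕ) < j} → Submodule F V := fun o => o.elim W₀ fun i => U i.1
      have hind' : iSupIndep D' := by
        have hinj : Function.Injective (Option.map (Subtype.val : {i : Fin s // (i : ℕ) < j} → Fin s)) :=
          Option.map_injective Subtype.val_injective
        refine (iSupIndep.comp (t := D) hind hinj).mono ?_
        rintro (_ | i)
        · exact hW₀E
        · exact le_rfl
      have e := Cfsg.Agent.Classical.finrank_iSup_of_indep D' hind'
      rw [show (⨆ o, D' o) = W j from iSup_option D', Fintype.sum_option] at e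
      rw [e, hm']
      have e1 : (∑ i : {i : Fin s // (i : ℕ) < j}, Module.finrank F (D' (some i))) = j * a := by
        have hc : ∀ i ∈ (Finset.univ : Finset {i : Fin s // (i : ℕ) < j}), Module.finrank F (D' (some i)) = a :=
          fun i _ => hUdim i.1
        rw [Finset.sum_congr rfl hc,
          Finset.sum_const, smul_eq_mul, Finset.card_univ, Fintype.card_subtype, Fin.card_filter_val_lt, min_eq_right hjs]
      have e0 : Module.finrank F (D' none) = r := hd
      omega
    · simp only [W, Submodule.map_sup, Submodule.map_iSup]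
      exact sup_le_sup (hfE _ hW₀E) (iSup_mono fun i => hUinv i.1)

end Cfsg.Agent.S5952
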