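import Cfsg.Statements.S5953
import Cfsg.Agent.Lib.Classical.Elusive.HermTsIff
-- import your own Cfsg.Agent.* helpers here

set_option autoImplicit false
open scoped MatrixGroups
open Cfsg

namespace Cfsg.Agent.S5953

/-- Elements of prime order of PSU_n(q) with no fixed totally isotropic `m`-space. Here `T = PSU_n(q)` (`n ≥ 3`, `(n, q) ≠ (3, 2)`), realised through the matrices of determinant 1 over the field `F` with `q²` elements preserving the Hermitian form `h(u, v) = Σ u_i v_i^q`; an element of `T` of prime order `r` is such a matrix `x` with `x^r` scalar and `x` not scalar. For `r ≠ p` let `i` be the multiplicative order of `q` modulo `r`, `b = i/2` for `i` even and `b = i` for `i` odd, `c = i, i/2, 2i` according as `i ≡ 0, 2 (mod 4)` or `i` odd, and write `k = n mod c`, `ℓ = m mod b`, `ℓ' = m mod c`, `n' = ⌊n/b⌋`, `m' = ⌊m/b⌋`, `s = (r−1)/b`; `(a)_r` is the `r`-part of `a`. Let `1 ≤ m ≤ n/2` and let `r` be a prime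 dividing the number of totally isotropic `m`-spaces. Then every element of `T` of order `r` fixes a totally isotropic `m`-space if and only if either (i) `r = 2`, `p ≠ 2`, and (`m < n/2` or `(q+1)_2 ≤ (n)_2`); or (ii) `r ≠ p`, `r > 2`, `b ≤ m`, `k ≥ 2ℓ`, and either `i ≢ 2 (mod 4)`, or `i ≡ 2 (mod 4)`, `n' − 2m' ≥ s` and (`i > 2`, or `i = 2` and (`r ∣ m` or `(q+1)_r ≥ (n)_r`)). -/
theorem result {F : Type*} [Field F] [Fintype F] {p : ℕ} [Fact p.Prime] [CharP F p] {q : ℕ} (hq : Fintype.card F = q ^ 2)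
    (n m : ℕ) (hn : 3 ≤ n) (hT : (n, q) ≠ (3, 2)) (hm : 1 ≤ m) (hmn : 2 * m ≤ n)
    (r : ℕ) [Fact r.Prime]
    (hrΩ : r ∣ Nat.card {W : Submodule F (Fin n → F) // Module.finrank F ↥W = m ∧ (∀ u ∈ W, ∀ v ∈ W, Cfsg.hermForm n F q u v = 0)})
    (i b c : ℕ) (hi : i = orderOf (q : ZMod r)) (hb : b = if Even i then i / 2 else i)
    (hc : c = if i % 4 = 0 then i else if i % 4 = 2 then i / 2 else 2 * i) :
    (∀ x : Matrix.SpecialLinearGroup (Fin n) F, x ∈ Cfsg.SU n F q →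
      (∃ z : F, ((x ^ r : Matrix.SpecialLinearGroup (Fin n) F) : Matrix (Fin n) (Fin n) F) = z • (1 : Matrix (Fin n) (Fin n) F)) →
      (∀ z : F, (x : Matrix (Fin n) (Fin n) F) ≠ z • (1 : Matrix (Fin n) (Fin n) F)) →
      ∃ W : Submodule F (Fin n → F), Module.finrank F ↥W = m ∧ (∀ u ∈ W, ∀ v ∈ W, Cfsg.hermForm n F q u v = 0) ∧
        W.map (Matrix.toLin' (x : Matrix (Fin n) (Fin n) F)) ≤ W) ↔
    ((r = 2 ∧ p ≠ 2 ∧ (2 * m < n ∨ padicValNat 2 (q + 1) ≤ padicValNat 2 n)) ∨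
     (r ≠ p ∧ 2 < r ∧ b ≤ m ∧ 2 * (m % b) ≤ n % c ∧
       (i % 4 ≠ 2 ∨ (i % 4 = 2 ∧ (r - 1) / b + 2 * (m / b) ≤ n / b ∧
         (2 < i ∨ (i = 2 ∧ (r ∣ m ∨ padicValNat r n ≤ padicValNat r (q + 1)))))))) := by
  classical
  obtain ⟨p', e, σ, hp', hchar, hqe, he, hσ⟩ := Agent.Classical.exists_usigma hq
  obtain rfl : p = p' := CharP.eq F ‹CharP F p› hchar
  have hr : r.Prime := Fact.out
  have hp : p.Prime := Fact.out
  have hpq : p ∣ q := hqe ▸ dvd_pow_self p he.ne'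
  change Agent.Classical.Elusive.HermEl.AllTs F q n m r ↔ _
  have hrq : ¬ r ∣ q := (Agent.Classical.Elusive.HermEl.prime_dvd_ts hσ hr hmn hrΩ).1
  have hrp : r ≠ p := fun h => hrq (h ▸ hpq)
  by_cases hr2 : r = 2
  · subst hr2
    rw [Agent.Classical.Elusive.HermEl.all_ts_two hσ
      (by exact_mod_cast (Agent.Classical.Elusive.HermEl.cast_ne hσ hr).mpr hrq) (by omega) hm hmn]
    constructor
    · exact fun h => Or.inl ⟨rfl, Ne.symm hrp, h⟩
    · rintro (h | h)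
      · exact h.2.2
      · omega
  have hr3 : 2 < r := lt_of_le_of_ne hr.two_le (Ne.symm hr2)
  obtain ⟨hu, hdeg, hipos⟩ := Agent.Classical.Elusive.HermEl.unit_eq hr hr2 hrq hi hb hc
  haveI : Fact (2 < r) := ⟨hr3⟩
  have hi2 : i = 2 ↔ r ∣ q + 1 := by
    rw [hi, orderOf_eq_prime_iff, ← ZMod.natCast_eq_zero_iff, Nat.cast_add, Nat.cast_one, add_eq_zero_iff_eq_neg, sq_eq_one_iff]
    exact ⟨fun h => h.1.resolve_left h.2, fun h => ⟨Or.inr h, h.symm ▸ ZMod.neg_one_ne_one⟩⟩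
  by_cases hq1 : r ∣ q + 1
  · obtain rfl : i = 2 := hi2.mpr hq1
    obtain rfl : b = 1 := by simpa using hb
    obtain rfl : c = 1 := by simpa using hc
    rw [Agent.Classical.Elusive.HermEl.all_ts_plus_one hσ hr hr2 hq1 (by omega) hm hmn]
    simp only [Nat.div_one, Nat.mod_one]
    constructor
    · rintro ⟨h1, h2⟩
      exact Or.inr ⟨hrp, hr3, hm, by omega, Or.inr ⟨trivial, h1, Or.inr ⟨trivial, h2⟩⟩⟩
    · rintro (h | ⟨-, -, -, -, h | ⟨-, h1, h2 | h2⟩⟩)
      · exact absurd h.1 hr2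
      · omega
      · omega
      · exact ⟨h1, h2.2⟩
  · rw [Agent.Classical.Elusive.HermEl.all_ts_tame hσ hr hr2 hrq hq1 (by omega) hmn hrΩ, hu, hdeg]
    have hin : i ≠ 2 := fun h => hq1 (hi2.mp h)
    have hcb : c = 2 * b ↔ i % 4 ≠ 2 := by
      rcases Nat.even_or_odd i with hev | hod
      · rw [if_pos hev] at hb
        rw [Nat.even_iff] at hev
        split_ifs at hc <;> omega
      · rw [if_neg (Nat.not_even_iff_odd.mpr hod)] at hb
        rw [Nat.odd_iff] at hod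
        split_ifs at hc <;> omega
    constructor
    · rintro ⟨h1, h2, h3⟩
      refine Or.inr ⟨hrp, hr3, h1, h2, ?_⟩
      by_cases h4 : i % 4 = 2
      · exact Or.inr ⟨h4, h3.resolve_left fun h => hcb.mp h h4, Or.inl (by omega)⟩
      · exact Or.inl h4
    · rintro (h | ⟨-, -, h1, h2, h3⟩)
      · exact absurd h.1 hr2
      · exact ⟨h1, h2, h3.imp hcb.mpr fun h => h.2.1⟩

end Cfsg.Agent.S5953
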