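import Cfsg.Statements.S5954
import Cfsg.Agent.Lib.Classical.Elusive.HermNdIff
-- import your own Cfsg.Agent.* helpers here

set_option autoImplicit false
open scoped MatrixGroups
open Cfsg

namespace Cfsg.Agent.S5954

/-- Elements of prime order of PSU_n(q) with no fixed nondegenerate `m`-space. Here `T = PSU_n(q)` (`n ≥ 3`, `(n, q) ≠ (3, 2)`), realised through the matrices of determinant 1 over the field `F` with `q²` elements preserving the Hermitian form `h(u, v) = Σ u_i v_i^q`; an element of `T` of prime order `r` is such a matrix `x` with `x^r` scalar and `x` not scalar. For `r ≠ p` let `i` be the multiplicative order of `q` modulo `r`, `b = i/2` for `i` even and `b = i` for `i` odd, `c = i, i/2, 2i` according as `i ≡ 0, 2 (mod 4)` or `i` odd, and write `k = n mod c`, `ℓ = m mod b`, `ℓ' = m mod c`, `n' = ⌊n/b⌋`, `m' = ⌊m/b⌋`, `s = (r−1)/b`; `(a)_r` is the `r`-part of `a`. Let `1 ≤ m < n/2` and let `r` be a prime dividing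 the number of nondegenerate `m`-spaces. Then every element of `T` of order `r` fixes a nondegenerate `m`-space if and only if one of: (i) `r = p > 2` and every partition of `n` into parts of size at most `p` contains (as a sub-multiset) a partition of `m`; (ii) `r = p = 2` and (`n` is odd or `m` is even); (iii) `r = 2 ≠ p` and (`n` is odd, or `m` is even, or `(q+1)_2 ≥ (n)_2` and `q ≡ 3 (mod 4)`); (iv) `r ≠ p`, `r > 2`, and either `i ≠ 2`, `c ≤ m` and `k ≥ ℓ'`, or `i = 2` and (`r ∣ m` or `(q+1)_r ≥ (n)_r`). -/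
theorem result {F : Type*} [Field F] [Fintype F] {p : ℕ} [Fact p.Prime] [CharP F p] {q : ℕ} (hq : Fintype.card F = q ^ 2)
    (n m : ℕ) (hn : 3 ≤ n) (hT : (n, q) ≠ (3, 2)) (hm : 1 ≤ m) (hmn : 2 * m < n)
    (r : ℕ) [Fact r.Prime]
    (hrΩ : r ∣ Nat.card {W : Submodule F (Fin n → F) // Module.finrank F ↥W = m ∧ (∀ u ∈ W, u ≠ 0 → ∃ v ∈ W, Cfsg.hermForm n F q u v ≠ 0)})
    (i b c : ℕ) (hi : i = orderOf (q : ZMod r)) (hb : b = if Even i then i / 2 else i)
    (hc : c = if i % 4 = 0 then i else if i % 4 = 2 then i / 2 else 2 * i) :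
    (∀ x : Matrix.SpecialLinearGroup (Fin n) F, x ∈ Cfsg.SU n F q →
      (∃ z : F, ((x ^ r : Matrix.SpecialLinearGroup (Fin n) F) : Matrix (Fin n) (Fin n) F) = z • (1 : Matrix (Fin n) (Fin n) F)) →
      (∀ z : F, (x : Matrix (Fin n) (Fin n) F) ≠ z • (1 : Matrix (Fin n) (Fin n) F)) →
      ∃ W : Submodule F (Fin n → F), Module.finrank F ↥W = m ∧ (∀ u ∈ W, u ≠ 0 → ∃ v ∈ W, Cfsg.hermForm n F q u v ≠ 0) ∧
        W.map (Matrix.toLin' (x : Matrix (Fin n) (Fin n) F)) ≤ W) ↔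
    ((r = p ∧ 2 < p ∧ (∀ μ : Multiset ℕ, (∀ a ∈ μ, 0 < a ∧ a ≤ p) → μ.sum = n → ∃ ν : Multiset ℕ, ν ≤ μ ∧ ν.sum = m)) ∨
     (r = p ∧ p = 2 ∧ (Odd n ∨ Even m)) ∨
     (r = 2 ∧ p ≠ 2 ∧ (Odd n ∨ Even m ∨ (padicValNat 2 n ≤ padicValNat 2 (q + 1) ∧ q % 4 = 3))) ∨
     (r ≠ p ∧ 2 < r ∧ ((i ≠ 2 ∧ c ≤ m ∧ m % c ≤ n % c) ∨ (i = 2 ∧ (r ∣ m ∨ padicValNat r n ≤ padicValNat r (q + 1)))))) := by
  classical
  obtain ⟨p', e, σ, hp', hchar, hqe, he, hσ⟩ := Agent.Classical.exists_usigma hq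
  obtain rfl : p = p' := CharP.eq F ‹CharP F p› hchar
  have hND : ∀ W : Submodule F (Fin n → F),
      (∀ u ∈ W, u ≠ 0 → ∃ v ∈ W, Cfsg.hermForm n F q u v ≠ 0) ↔ Agent.Classical.Elusive.HermEl.ND (Cfsg.hermForm n F q) W :=
    fun W => ⟨fun h x hx h0 => by_contra fun hne => let ⟨v, hv, e⟩ := h x hx hne; e (h0 v hv),
      fun h u hu hne => by_contra fun hc => hne (h u hu fun v hv => by_contra fun e => hc ⟨v, hv, e⟩)⟩
  simp only [hND] at hrΩ ⊢
  change Agent.Classical.Elusive.HermEl.AllNd F q n m r ↔ _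
  have hr : r.Prime := Fact.out
  have hp : p.Prime := Fact.out
  have hpq : p ∣ q := hqe ▸ dvd_pow_self p he.ne'
  by_cases hrp : r = p
  · subst hrp
    rw [Agent.Classical.Elusive.HermEl.all_nd_char hσ (by omega) (by omega)]
    rcases hr.two_le.eq_or_lt with h2 | h2
    · subst h2
      rw [Agent.Classical.Elusive.HermEl.parts_two (by omega)]
      simp
    · constructor
      · exact fun h => Or.inl ⟨rfl, h2, h⟩
      · rintro (h | h | h | h)
        · exact h.2.2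
        all_goals omega
  have hrq : ¬ r ∣ q := fun h => hrp ((Nat.prime_dvd_prime_iff_eq hr hp).mp (hr.dvd_of_dvd_pow (hqe ▸ h)))
  by_cases hr2 : r = 2
  · subst hr2
    rw [Agent.Classical.Elusive.HermEl.all_nd_two hσ (by exact_mod_cast (Agent.Classical.Elusive.HermEl.cast_ne hσ hr).mpr hrq)
      (by omega) (by omega)]
    constructor
    · exact fun h => Or.inr (Or.inr (Or.inl ⟨rfl, Ne.symm hrp, h⟩))
    · rintro (h | h | h | h)
      · omega
      · omega
      · exact h.2.2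
      · omega
  have hr3 : 2 < r := lt_of_le_of_ne hr.two_le (Ne.symm hr2)
  obtain ⟨hu, hdeg, hipos⟩ := Agent.Classical.Elusive.HermEl.unit_eq hr hr2 hrq hi hb hc
  haveI : Fact (2 < r) := ⟨hr3⟩
  have hi2 : i = 2 ↔ r ∣ q + 1 := by
    rw [hi, orderOf_eq_prime_iff, ← ZMod.natCast_eq_zero_iff, Nat.cast_add, Nat.cast_one, add_eq_zero_iff_eq_neg, sq_eq_one_iff]
    exact ⟨fun h => h.1.resolve_left h.2, fun h => ⟨Or.inr h, h.symm ▸ ZMod.neg_one_ne_one⟩⟩
  by_cases hq1 : r ∣ q + 1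
  · rw [Agent.Classical.Elusive.HermEl.all_nd_plus_one hσ hr hr2 hq1 (by omega) (by omega)]
    constructor
    · exact fun h => Or.inr (Or.inr (Or.inr ⟨hrp, hr3, Or.inr ⟨hi2.mpr hq1, h⟩⟩))
    · rintro (h | h | h | ⟨-, -, h | h⟩)
      · exact absurd h.1 hrp
      · exact absurd h.1 hrp
      · exact absurd h.1 hr2
      · exact absurd (hi2.mpr hq1) h.1
      · exact h.2
  · rw [Agent.Classical.Elusive.HermEl.all_nd_tame hσ hr hr2 hrq hq1 (by omega) (by omega) hrΩ, hu]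
    constructor
    · exact fun h => Or.inr (Or.inr (Or.inr ⟨hrp, hr3, Or.inl ⟨fun h' => hq1 (hi2.mp h'), h.1, h.2⟩⟩))
    · rintro (h | h | h | ⟨-, -, h | h⟩)
      · exact absurd h.1 hrp
      · exact absurd h.1 hrp
      · exact absurd h.1 hr2
      · exact h.2
      · exact absurd (hi2.mp h.1) hq1

end Cfsg.Agent.S5954
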