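import Cfsg.Statements.S5955
import Cfsg.Agent.Lib.Classical.Elusive.TsSymp
import Cfsg.Agent.Lib.Classical.Elusive.Cases
-- import your own Cfsg.Agent.* helpers here

set_option autoImplicit false
open scoped MatrixGroups
open Cfsg

namespace Cfsg.Agent.S5955

open Cfsg.Agent.Classical in
/-- Elements of prime order of PSp_n(q) with no fixed totally isotropic `m`-space. Here `T = PSp_n(q)` with `n = 2d ≥ 4`, `(n, q) ≠ (4, 2)`, realised through the symplectic matrices over the field `F` with `q` elements (preserving the standard alternating form); an element of `T` of prime order `r` is such a matrix `x` with `x^r` scalar and `x` not scalar. For `r ≠ p` let `i` be the multiplicative order of `q` modulo `r`, `c = i` for `i` even and `c = 2i` for `i` odd, and write `k = n mod c`, `ℓ = m mod i`, `ℓ' = m mod c`, `n' = ⌊n/i⌋`, `m' = ⌊m/i⌋`, `t = (r−1)/i`. Let `1 ≤ m ≤ n/2` and let `r` be a prime dividing the number of totally isotropic `m`-spaces. Then every element of `T` of order `r` fixes a totally isotropic `m`-space if and only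 if either (i) `r = 2 ≠ p` and (`m` is even or `q ≡ 1 (mod 4)`); or (ii) `r ≠ p`, `r > 2`, `i ≤ m`, `k ≥ 2ℓ`, and (`i` is odd or `n' − 2m' ≥ t`). -/
theorem result {F : Type*} [Field F] [Fintype F] {p : ℕ} [Fact p.Prime] [CharP F p] {q : ℕ} (hq : Fintype.card F = q)
    (d m : ℕ) (hd : 2 ≤ d) (hT : (d, q) ≠ (2, 2)) (hm : 1 ≤ m) (hmd : m ≤ d)
    (r : ℕ) [Fact r.Prime]
    (hrΩ : r ∣ Nat.card {W : Submodule F (Fin d ⊕ Fin d → F) // Module.finrank F ↥W = m ∧ (∀ u ∈ W, ∀ v ∈ W, Cfsg.sympForm d F u v = 0)})
    (i c : ℕ) (hi : i = orderOf (q : ZMod r)) (hc : c = if Even i then i else 2 * i) :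
    (∀ x : ↥(Matrix.symplecticGroup (Fin d) F),
      (∃ z : F, ((x ^ r : ↥(Matrix.symplecticGroup (Fin d) F)) : Matrix (Fin d ⊕ Fin d) (Fin d ⊕ Fin d) F) = z • (1 : Matrix (Fin d ⊕ Fin d) (Fin d ⊕ Fin d) F)) →
      (∀ z : F, (x : Matrix (Fin d ⊕ Fin d) (Fin d ⊕ Fin d) F) ≠ z • (1 : Matrix (Fin d ⊕ Fin d) (Fin d ⊕ Fin d) F)) →
      ∃ W : Submodule F (Fin d ⊕ Fin d → F), Module.finrank F ↥W = m ∧ (∀ u ∈ W, ∀ v ∈ W, Cfsg.sympForm d F u v = 0) ∧
        W.map (Matrix.toLin' (x : Matrix (Fin d ⊕ Fin d) (Fin d ⊕ Fin d) F)) ≤ W) ↔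
    ((r = 2 ∧ p ≠ 2 ∧ (Even m ∨ q % 4 = 1)) ∨
     (r ≠ p ∧ 2 < r ∧ i ≤ m ∧ 2 * (m % i) ≤ (2 * d) % c ∧ (Odd i ∨ (r - 1) / i + 2 * (m / i) ≤ (2 * d) / i))) := by
  classical
  have hFq : Fintype.card F = q := hq
  subst hq
  set B := Elusive.sympB d F with hBdef
  have hB : SpCount.IsAltND B := Elusive.TsSymp.std_alt
  have hV : Module.finrank F (Fin d ⊕ Fin d → F) = 2 * d := Elusive.TsSymp.finrank_std
  have hr : r.Prime := Fact.out
  have hNB : r ∣ Nat.card {W : Submodule F (Fin d ⊕ Fin d → F) //
      Module.finrank F ↥W = m ∧ ∀ u ∈ W, ∀ v ∈ W, B u v = 0} := hrΩ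
  obtain ⟨hrp, j₀, hj₀, hj₀r⟩ := Elusive.TsSymp.prime_dvd_subspaces (p := p) hB hV hmd hr hNB
  have hr0 : (r : F) ≠ 0 := Elusive.cast_ne_zero (F := F) hrp
  have hiso : ∀ x : ↥(Matrix.symplecticGroup (Fin d) F), ∀ u v,
      B (Matrix.toLin' (x : Matrix (Fin d ⊕ Fin d) (Fin d ⊕ Fin d) F) u)
        (Matrix.toLin' (x : Matrix (Fin d ⊕ Fin d) (Fin d ⊕ Fin d) F) v) = B u v := fun x => Elusive.sympB_toLin x
  have hzz : ∀ (x : ↥(Matrix.symplecticGroup (Fin d) F)) (z : F),
      ((x ^ r : ↥(Matrix.symplecticGroup (Fin d) F)) : Matrix (Fin d ⊕ Fin d) (Fin d ⊕ Fin d) F) =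
        z • (1 : Matrix (Fin d ⊕ Fin d) (Fin d ⊕ Fin d) F) →
      z * z = 1 ∧ ∀ u, (Matrix.toLin' (x : Matrix (Fin d ⊕ Fin d) (Fin d ⊕ Fin d) F) ^ r) u = z • u := by
    intro x z hz
    haveI : Nonempty (Fin d ⊕ Fin d) := ⟨Sum.inl ⟨0, by omega⟩⟩
    obtain ⟨u, hu⟩ := exists_ne (0 : Fin d ⊕ Fin d → F)
    obtain ⟨v, hv⟩ : ∃ v, B u v ≠ 0 := by
      by_contra hc
      push Not at hc
      exact hu (hB.nondeg u hc)
    have hl : ∀ w, Matrix.toLin' ((x ^ r : ↥(Matrix.symplecticGroup (Fin d) F)) :
        Matrix (Fin d ⊕ Fin d) (Fin d ⊕ Fin d) F) w = z • w := fun w => by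
      rw [hz, map_smul, Matrix.toLin'_one, LinearMap.smul_apply, LinearMap.id_apply]
    refine ⟨?_, fun w => ?_⟩
    · have e := hiso (x ^ r) u v
      rw [hl, hl, map_smul, map_smul, LinearMap.smul_apply, smul_eq_mul, smul_eq_mul, ← mul_assoc] at e
      exact mul_right_cancel₀ hv (e.trans (one_mul _).symm)
    · rw [← hl, SubmonoidClass.coe_pow, Matrix.toLin'_pow]
  have hmap : ∀ (W : Submodule F (Fin d ⊕ Fin d → F)) (f : Module.End F (Fin d ⊕ Fin d → F)),
      (∀ w ∈ W, f w ∈ W) → W.map f ≤ W := fun W f h => by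
    rintro _ ⟨w, hw, rfl⟩
    exact h w hw
  rcases eq_or_ne r 2 with rfl | hr2
  · have hp2 : p ≠ 2 := fun h => hrp h.symm
    have h2 : (2 : F) ≠ 0 := by exact_mod_cast hr0
    constructor
    · intro hall
      refine Or.inl ⟨rfl, hp2, ?_⟩
      by_contra hcon
      rw [not_or] at hcon
      obtain ⟨hmodd, hq4⟩ := hcon
      have hns : ¬ IsSquare (-1 : F) := by
        rw [FiniteField.isSquare_neg_one_iff]
        push Not
        have hodd : Fintype.card F % 2 = 1 := FiniteField.odd_card_of_char_ne_two (by
          rw [ringChar.eq F p]; exact hp2)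
        omega
      let x : ↥(Matrix.symplecticGroup (Fin d) F) := SymplecticGroup.symJ (Fin d) F
      have hxv : (x : Matrix (Fin d ⊕ Fin d) (Fin d ⊕ Fin d) F) = Matrix.J (Fin d) F := rfl
      obtain ⟨W, hWd, hWts, hWx⟩ := hall x ⟨-1, by
          rw [SubmonoidClass.coe_pow, hxv, pow_two, Matrix.J_squared, neg_one_smul]⟩ fun z hz => by
        have := congrFun (congrFun hz (Sum.inr ⟨0, by omega⟩)) (Sum.inl ⟨0, by omega⟩)
        rw [hxv] at this
        simp [Matrix.J] at this
      have hinv : ∀ w ∈ W, Matrix.toLin' (x : Matrix (Fin d ⊕ Fin d) (Fin d ⊕ Fin d) F) w ∈ W :=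
        fun w hw => hWx ⟨w, hw, rfl⟩
      let T := (Matrix.toLin' (x : Matrix (Fin d ⊕ Fin d) (Fin d ⊕ Fin d) F)).restrict hinv
      have hT : T * T = (-1 : F) • (1 : Module.End F W) := LinearMap.ext fun w => Subtype.ext (by
        show Matrix.toLin' (x : Matrix (Fin d ⊕ Fin d) (Fin d ⊕ Fin d) F)
          (Matrix.toLin' (x : Matrix (Fin d ⊕ Fin d) (Fin d ⊕ Fin d) F) w) = ((-1 : F) • w : W).1
        rw [← LinearMap.comp_apply, ← Matrix.toLin'_mul, hxv, Matrix.J_squared, map_neg, Matrix.toLin'_one]
        simp)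
      have hdet := congrArg LinearMap.det hT
      rw [map_mul, LinearMap.det_smul, map_one, mul_one, hWd, (Nat.not_even_iff_odd.mp hmodd).neg_one_pow] at hdet
      exact hns ⟨_, hdet.symm⟩
    · rintro (⟨-, -, hmq⟩ | ⟨-, h, -⟩)
      swap
      · exact absurd h (lt_irrefl 2)
      intro x ⟨z, hz⟩ hns'
      obtain ⟨hz2, hit⟩ := hzz x z hz
      set g := Matrix.toLin' (x : Matrix (Fin d ⊕ Fin d) (Fin d ⊕ Fin d) F) with hg
      have hgg : ∀ u, g (g u) = z • u := fun u => by rw [← hit u, pow_two, Module.End.mul_apply]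
      rcases mul_self_eq_one_iff.mp hz2 with rfl | rfl
      · obtain ⟨U, hU, hUd, hUts⟩ := Elusive.TsSymp.exists_ts_involution hB hV (g := g)
          ⟨by exact_mod_cast h2, LinearMap.ext fun u => by rw [pow_two, Module.End.mul_apply, hgg, one_smul]; rfl,
            hiso x⟩ hmd
        exact ⟨U, hUd, hUts, hmap U g hU⟩
      · by_cases hsq : IsSquare (-1 : F)
        · obtain ⟨c, hc⟩ := hsq
          have hc0 : c ≠ 0 := fun h => by rw [h, mul_zero] at hc; exact one_ne_zero (neg_eq_zero.mp hc)
          -- the two eigenspaces are totally isotropic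
          let E : F → Submodule F (Fin d ⊕ Fin d → F) := fun a => LinearMap.ker (g - a • 1)
          have hE : ∀ a u, u ∈ E a ↔ g u = a • u := fun a u => by
            simp [E, sub_eq_zero]
          have hts : ∀ a, a * a = -1 → ∀ u ∈ E a, ∀ v ∈ E a, B u v = 0 := by
            intro a ha u hu v hv
            have e : B (g u) (g v) = B u v := hiso x u v
            rw [(hE a u).mp hu, (hE a v).mp hv, map_smul, map_smul, LinearMap.smul_apply, smul_eq_mul, smul_eq_mul,
              ← mul_assoc, ha] at e
            exact (mul_eq_zero.mp (show (2 : F) * B u v = 0 by linear_combination -e)).resolve_left h2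
          have htop : (⊤ : Submodule F (Fin d ⊕ Fin d → F)) ≤ E c ⊔ E (-c) := fun u _ => by
            have h2c : (2 : F) * c ≠ 0 := mul_ne_zero h2 hc0
            have e : u = ((2 * c)⁻¹ • (c • u + g u)) + (2 * c)⁻¹ • (c • u - g u) := by
              rw [← smul_add, add_add_sub_cancel, ← two_smul F (c • u), smul_smul, smul_smul, mul_assoc, inv_mul_cancel₀ h2c,
                one_smul]
            rw [e]
            refine Submodule.add_mem_sup (Submodule.smul_mem _ _ ((hE _ _).mpr ?_))
              (Submodule.smul_mem _ _ ((hE _ _).mpr ?_))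
            · rw [map_add, map_smul, hgg, hc, smul_add, smul_smul]; abel
            · rw [map_sub, map_smul, hgg, hc, smul_sub, smul_smul, neg_mul, neg_smul, neg_smul]; abel
          have h1 := Submodule.finrank_mono htop
          rw [finrank_top, hV] at h1
          have h3 := Submodule.finrank_add_le_finrank_add_finrank (E c) (E (-c))
          have h4 := Elusive.Free.two_mul_finrank_le (Elusive.TsSymp.refl_of_alt hB) (hts c hc.symm)
          have h5 := Elusive.Free.two_mul_finrank_le (Elusive.TsSymp.refl_of_alt hB)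
            (hts (-c) (by rw [neg_mul_neg, hc]))
          rw [hV] at h4 h5
          obtain ⟨W, hWle, hWd⟩ : ∃ W ≤ E c, Module.finrank F W = m := by
            obtain ⟨f, hf⟩ := exists_linearIndependent_of_le_finrank (show m ≤ Module.finrank F (E c) by omega)
            refine ⟨Submodule.span F (Set.range fun i => (f i : Fin d ⊕ Fin d → F)), ?_, ?_⟩
            · rw [Submodule.span_le]; rintro _ ⟨i, rfl⟩; exact (f i).2
            · show Module.finrank F (Submodule.span F (Set.range ((E c).subtype ∘ f))) = m
              rw [finrank_span_eq_card (hf.map' (E c).subtype (Submodule.ker_subtype _)), Fintype.card_fin]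
          refine ⟨W, hWd, fun u hu v hv => hts c hc.symm u (hWle hu) v (hWle hv), hmap W g fun w hw => ?_⟩
          rw [(hE c w).mp (hWle hw)]
          exact W.smul_mem c hw
        · have hmev : Even m := hmq.resolve_right fun h4 => hsq (by
            rw [FiniteField.isSquare_neg_one_iff]; omega)
          obtain ⟨l, hl⟩ := hmev
          obtain ⟨U, hU, hUd, hUts⟩ := Elusive.TsSymp.exists_ts_complex hB hV h2 hsq (g := g)
            (fun u => by rw [hgg, neg_one_smul]) (hiso x) l (by omega)
          exact ⟨U, by omega, hUts, hmap U g hU⟩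
  · constructor
    · intro hall
      refine Or.inr ⟨hrp, lt_of_le_of_ne hr.two_le (Ne.symm hr2), ?_⟩
      have hipos : 0 < i := hi ▸ Elusive.orderOf_pos' (F := F) hrp
      have hidiv : i ∣ 2 * (d - j₀) := by
        rw [hi]
        exact (Elusive.orderOf_dvd_iff' (F := F) _).mp hj₀r
      have kill : ∀ (M : Type _) [AddCommGroup M] [Module F M] [FiniteDimensional F M]
          (Bm : LinearMap.BilinForm F M) (g : Module.End F M) (n a L : ℕ), Elusive.Free.IsFree Bm g r →
          SpCount.IsAltND Bm → Module.finrank F M = 2 * n → n + a = d → 0 < n →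
          (∀ U : Submodule F M, (∀ u ∈ U, g u ∈ U) → (∀ u ∈ U, ∀ v ∈ U, Bm u v = 0) →
            Module.finrank F U ≤ i * L) →
          (∀ l ≤ L, i * l ≤ m → ¬ m ≤ i * l + a) → False := by
        intro M _ _ _ Bm g n a L hfree halt hM hd' hn hU hno
        obtain ⟨x, hxr, hxs, hxW⟩ := Elusive.TsSymp.exists_counterexample hr halt hfree hM hd' hn
        obtain ⟨W, hWd, hWts, hWx⟩ := hall x hxr hxs
        obtain ⟨U, hUi, hUts, hle, hle'⟩ := hxW W hWts hWx
        obtain ⟨l, hl⟩ := (hfree.exists_irred hUi).1
        rw [← hi] at hl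
        have hb := hU U hUi hUts
        rw [hl] at hb hle hle'
        rw [hWd] at hle hle'
        exact hno l (Nat.le_of_mul_le_mul_left hb hipos) hle hle'
      have hdm := Nat.div_add_mod m i
      have hmlt := Nat.mod_lt m hipos
      by_cases he : Even i
      · rw [if_pos he] at hc
        rw [hc] at *
        clear hc
        obtain ⟨h, hh⟩ := he
        have he' : Even (orderOf (Fintype.card F : ZMod r)) := hi ▸ ⟨h, hh⟩
        have hdd := Nat.div_add_mod (2 * d) i
        have hdlt := Nat.mod_lt (2 * d) hipos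
        have hild : i ≤ 2 * d := by
          have := Nat.le_of_dvd (by omega) hidiv
          omega
        have hS : 1 ≤ 2 * d / i := (Nat.one_le_div_iff hipos).mpr hild
        set S := 2 * d / i
        set t := (r - 1) / i with ht
        -- choose the number of blocks
        have run : ∀ s : ℕ, 1 ≤ s → s ≤ S →
            (∀ l ≤ (s + 1 - t) / 2, i * l ≤ m → ¬ m ≤ i * l + (d - h * s)) → False := by
          intro s hs1 hsS hno
          obtain ⟨M, _, _, _, Bm, g, hfree, halt, hM, hU⟩ :=
            Elusive.Free.exists_spread (F := F) hr hr2 hr0 he' s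
          rw [← hi] at hM hU
          have hle : h * s ≤ d := by
            have h1 : i * s ≤ i * S := Nat.mul_le_mul_left _ hsS
            simp only [hh, Nat.add_mul] at h1 hdd
            omega
          exact kill M Bm g (h * s) (d - h * s) _ hfree halt (by rw [hM, hh]; ring) (by omega)
            (Nat.mul_pos (by omega) hs1) hU hno
        have eS : i * S = 2 * (h * S) := by rw [hh]; ring
        have hmi : i ≤ m := by
          by_contra hlt
          push Not at hlt
          refine run S hS le_rfl fun l _ hlm hle => ?_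
          have hl0 : l = 0 := by
            by_contra hne
            have := Nat.le_mul_of_pos_right i (Nat.pos_of_ne_zero hne)
            omega
          subst hl0
          rw [mul_zero, zero_add] at hle
          -- j₀ < m and i divides 2 (d - j₀)
          have e1 : 2 * d % i = 2 * j₀ % i := by
            obtain ⟨w, hw⟩ := hidiv
            rw [show 2 * d = 2 * j₀ + i * w by omega, Nat.add_mul_mod_self_left]
          have e2 := Nat.mod_le (2 * j₀) i
          omega
        refine ⟨hmi, ?_, Or.inr ?_⟩
        · by_contra hbad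
          push Not at hbad
          refine run S hS le_rfl fun l _ hlm hle => ?_
          have : l ≤ m / i := (Nat.le_div_iff_mul_le hipos).mpr (by rw [mul_comm]; exact hlm)
          have := Nat.mul_le_mul_left i this
          omega
        · by_contra hbad
          push Not at hbad
          have hM1 : 1 ≤ m / i := (Nat.one_le_div_iff hipos).mpr hmi
          have ht' : r - 1 ≠ 0 := by have := hr.two_le; omega
          have ht1 : 1 ≤ t := (Nat.one_le_div_iff hipos).mpr (Nat.le_of_dvd (Nat.pos_of_ne_zero ht') (by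
            rw [hi]
            refine ZMod.orderOf_dvd_card_sub_one fun h0 => ?_
            have := Elusive.orderOf_pos' (F := F) hrp
            rw [h0, orderOf_zero] at this
            exact lt_irrefl _ this))
          by_cases hpar : S ≤ t ∨ (S + t) % 2 = 0
          · refine run S hS le_rfl fun l hl hlm hle => ?_
            have h1 : l + 1 ≤ m / i := by omega
            have h2 := Nat.mul_le_mul_left i h1
            rw [Nat.mul_add, mul_one] at h2
            omega
          · push Not at hpar
            refine run (S - 1) (by omega) (Nat.sub_le _ _) fun l hl hlm hle => ?_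
            have h1 : l + 1 ≤ m / i := by omega
            have h2 := Nat.mul_le_mul_left i h1
            rw [Nat.mul_add, mul_one] at h2
            rw [Nat.mul_sub, mul_one] at hle
            have : h ≤ h * S := Nat.le_mul_of_pos_right h (by omega)
            omega
      · rw [if_neg he] at hc
        rw [hc]
        have hodd := Nat.not_even_iff_odd.mp he
        have hid : i ∣ d - j₀ := (Nat.Coprime.dvd_mul_left (Nat.coprime_two_right.mpr hodd)).mp hidiv
        have hdd := Nat.div_add_mod d i
        have hdlt := Nat.mod_lt d hipos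
        rw [Nat.mul_mod_mul_left]
        have hild : i ≤ d := by
          have := Nat.le_of_dvd (by omega) hid
          omega
        obtain ⟨M, _, _, _, Bm, g, hfree, halt, hM⟩ := Elusive.Free.exists_paired (F := F) hr hr2 hr0 (d / i)
        rw [← hi] at hM
        have hn : 0 < i * (d / i) := Nat.mul_pos hipos ((Nat.one_le_div_iff hipos).mpr hild)
        have go : (∀ l ≤ d / i, i * l ≤ m → ¬ m ≤ i * l + d % i) → False :=
          kill M Bm g (i * (d / i)) (d % i) (d / i) hfree halt hM hdd hn fun U _ hUts => by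
            have := Elusive.Free.two_mul_finrank_le (Elusive.TsSymp.refl_of_alt halt) hUts
            rw [hM] at this
            omega
        have hmi : i ≤ m := by
          by_contra hlt
          push Not at hlt
          refine go fun l _ hlm hle => ?_
          have hl0 : l = 0 := by
            by_contra hne
            have := Nat.le_mul_of_pos_right i (Nat.pos_of_ne_zero hne)
            omega
          subst hl0
          rw [mul_zero, zero_add] at hle
          have e1 : d % i = j₀ % i := by
            obtain ⟨w, hw⟩ := hid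
            rw [show d = j₀ + i * w by omega, Nat.add_mul_mod_self_left]
          have e2 := Nat.mod_le j₀ i
          omega
        refine ⟨hmi, ?_, Or.inl hodd⟩
        by_contra hbad
        refine go fun l _ hlm hle => ?_
        have : l ≤ m / i := (Nat.le_div_iff_mul_le hipos).mpr (by rw [mul_comm]; exact hlm)
        have := Nat.mul_le_mul_left i this
        omega
    · rintro (⟨h, -⟩ | ⟨-, -, him, hcond⟩)
      · exact absurd h hr2
      intro x ⟨z, hz⟩ hns'
      obtain ⟨hz2, hit⟩ := hzz x z hz
      set g := Matrix.toLin' (x : Matrix (Fin d ⊕ Fin d) (Fin d ⊕ Fin d) F) with hg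
      have hz0 : z ≠ 0 := fun h => by rw [h, mul_zero] at hz2; exact zero_ne_one hz2
      have hzr : z ^ r * z = 1 := by
        obtain ⟨k, hk⟩ := hr.odd_of_ne_two hr2
        rw [hk, pow_succ, pow_mul, pow_two, hz2, one_pow, one_mul, hz2]
      have htame : Elusive.Free.IsTame B (z • g) r := ⟨hr0, LinearMap.ext fun u => by
          rw [smul_pow, LinearMap.smul_apply, hit, smul_smul, hzr, one_smul]; rfl,
        fun u v => by
          rw [LinearMap.smul_apply, LinearMap.smul_apply, map_smul, map_smul, LinearMap.smul_apply, smul_eq_mul,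
            smul_eq_mul, ← mul_assoc, hz2, one_mul, hiso]⟩
      subst hi
      obtain ⟨U, hU, hUd, hUts⟩ := Elusive.TsSymp.exists_ts_of_tame hB hV hr hr2 htame hmd hc hcond
      refine ⟨U, hUd, hUts, hmap U g fun w hw => ?_⟩
      have := U.smul_mem z (hU w hw)
      rwa [LinearMap.smul_apply, smul_smul, hz2, one_smul] at this

end Cfsg.Agent.S5955
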