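import Cfsg.Statements.S5956
import Cfsg.Agent.Lib.Classical.Elusive.SpNdCases
import Cfsg.Agent.Lib.Classical.Elusive.OrthFreeIff
import Cfsg.Agent.Lib.Classical.Elusive.Cases

set_option autoImplicit false
open scoped MatrixGroups
open Cfsg

namespace Cfsg.Agent.S5956

open Cfsg.Agent.Classical

/-- Elements of prime order of PSp_n(q) with no fixed nondegenerate `m`-space. Here `T = PSp_n(q)` with `n = 2d ≥ 4`, `(n, q) ≠ (4, 2)`, realised through the symplectic matrices over the field `F` with `q` elements (preserving the standard alternating form); an element of `T` of prime order `r` is such a matrix `x` with `x^r` scalar and `x` not scalar. For `r ≠ p` let `i` be the multiplicative order of `q` modulo `r`, `c = i` for `i` even and `c = 2i` for `i` odd, and write `k = n mod c`, `ℓ = m mod i`, `ℓ' = m mod c`, `n' = ⌊n/i⌋`, `m' = ⌊m/i⌋`, `t = (r−1)/i`. Let `m` be even with `2 ≤ m < n/2` and let `r` be a prime dividing the number of nondegenerate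 `m`-spaces. Then every element of `T` of order `r` fixes a nondegenerate `m`-space if and only if one of: (i) `r = p > 2` and every partition of `n` into parts of size at most `p` in which every odd part has even multiplicity contains (as a sub-multiset) a partition of `m` in which every odd part has even multiplicity; (ii) `r = p = 2` and (`n ≡ 2 (mod 4)` or `m ≡ 0 (mod 4)`); (iii) `r = 2 ≠ p`; (iv) `r ≠ p`, `r > 2`, `c ≤ m` and `k ≥ ℓ'`. -/
theorem result {F : Type*} [Field F] [Fintype F] {p : ℕ} [Fact p.Prime] [CharP F p] {q : ℕ} (hq : Fintype.card F = q)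
    (d m : ℕ) (hd : 2 ≤ d) (hT : (d, q) ≠ (2, 2)) (hm : 2 ≤ m) (hme : Even m) (hmd : m < d)
    (r : ℕ) [Fact r.Prime]
    (hrΩ : r ∣ Nat.card {W : Submodule F (Fin d ⊕ Fin d → F) // Module.finrank F ↥W = m ∧ (∀ u ∈ W, u ≠ 0 → ∃ v ∈ W, Cfsg.sympForm d F u v ≠ 0)})
    (i c : ℕ) (hi : i = orderOf (q : ZMod r)) (hc : c = if Even i then i else 2 * i) :
    (∀ x : ↥(Matrix.symplecticGroup (Fin d) F),
      (∃ z : F, ((x ^ r : ↥(Matrix.symplecticGroup (Fin d) F)) : Matrix (Fin d ⊕ Fin d) (Fin d ⊕ Fin d) F) = z • (1 : Matrix (Fin d ⊕ Fin d) (Fin d ⊕ Fin d) F)) →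
      (∀ z : F, (x : Matrix (Fin d ⊕ Fin d) (Fin d ⊕ Fin d) F) ≠ z • (1 : Matrix (Fin d ⊕ Fin d) (Fin d ⊕ Fin d) F)) →
      ∃ W : Submodule F (Fin d ⊕ Fin d → F), Module.finrank F ↥W = m ∧ (∀ u ∈ W, u ≠ 0 → ∃ v ∈ W, Cfsg.sympForm d F u v ≠ 0) ∧
        W.map (Matrix.toLin' (x : Matrix (Fin d ⊕ Fin d) (Fin d ⊕ Fin d) F)) ≤ W) ↔
    ((r = p ∧ 2 < p ∧ (∀ μ : Multiset ℕ, (∀ a ∈ μ, 0 < a ∧ a ≤ p) → (∀ a : ℕ, Odd a → Even (μ.count a)) → μ.sum = 2 * d →
        ∃ ν : Multiset ℕ, ν ≤ μ ∧ ν.sum = m ∧ ∀ a : ℕ, Odd a → Even (ν.count a))) ∨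
     (r = p ∧ p = 2 ∧ ((2 * d) % 4 = 2 ∨ m % 4 = 0)) ∨
     (r = 2 ∧ p ≠ 2) ∨
     (r ≠ p ∧ 2 < r ∧ c ≤ m ∧ m % c ≤ (2 * d) % c)) := by
  classical
  subst hq
  obtain ⟨hcu, hiu⟩ := Elusive.OFree.unit_eq (F := F) rfl hi hc
  have hr : r.Prime := Fact.out
  have hp : p.Prime := Fact.out
  have hB : SpCount.IsAltND (Elusive.sympB d F) := Elusive.TsSymp.std_alt
  have hV : Module.finrank F (Fin d ⊕ Fin d → F) = 2 * d := Elusive.TsSymp.finrank_std
  obtain ⟨e, rfl⟩ := even_iff_two_dvd.mp hme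
  have hnd : ∀ W : Submodule F (Fin d ⊕ Fin d → F), (∀ u ∈ W, u ≠ 0 → ∃ v ∈ W, Cfsg.sympForm d F u v ≠ 0) ↔
      Elusive.SpNd.ND (Elusive.sympB d F) W := fun W => by
    constructor
    · intro h u hu h0
      by_contra hne
      obtain ⟨v, hv, hv0⟩ := h u hu hne
      exact hv0 (h0 v hv)
    · intro h u hu hne
      by_contra hc'
      push Not at hc'
      exact hne (h u hu hc')
  have hmap : ∀ (W : Submodule F (Fin d ⊕ Fin d → F)) (f : Module.End F (Fin d ⊕ Fin d → F)),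
      (∀ w ∈ W, f w ∈ W) → W.map f ≤ W := fun W f h => by
    rintro _ ⟨w, hw, rfl⟩
    exact h w hw
  haveI : Nonempty (Fin d ⊕ Fin d) := ⟨Sum.inl ⟨0, by omega⟩⟩
  have hzz : ∀ (x : ↥(Matrix.symplecticGroup (Fin d) F)) (z : F),
      ((x ^ r : ↥(Matrix.symplecticGroup (Fin d) F)) : Matrix (Fin d ⊕ Fin d) (Fin d ⊕ Fin d) F) =
        z • (1 : Matrix (Fin d ⊕ Fin d) (Fin d ⊕ Fin d) F) →
      z * z = 1 ∧ ∀ u, (Matrix.toLin' (x : Matrix (Fin d ⊕ Fin d) (Fin d ⊕ Fin d) F) ^ r) u = z • u := by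
    intro x z hz
    obtain ⟨u, hu⟩ := exists_ne (0 : Fin d ⊕ Fin d → F)
    obtain ⟨v, hv⟩ : ∃ v, Elusive.sympB d F u v ≠ 0 := by
      by_contra hc'
      push Not at hc'
      exact hu (hB.nondeg u hc')
    refine ⟨?_, fun w => ?_⟩
    · have e := Elusive.sympB_toLin (x ^ r) u v
      rw [Elusive.SpNd.toLin_scalar hz, Elusive.SpNd.toLin_scalar hz, map_smul, map_smul, LinearMap.smul_apply,
        smul_eq_mul, smul_eq_mul, ← mul_assoc] at e
      exact mul_right_cancel₀ hv (e.trans (one_mul _).symm)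
    · rw [← Elusive.SpNd.toLin_scalar hz, SubmonoidClass.coe_pow, Matrix.toLin'_pow]
  -- the odd-order normalisation
  have hnorm : Odd r → ∀ (x : ↥(Matrix.symplecticGroup (Fin d) F)) (z : F),
      ((x ^ r : ↥(Matrix.symplecticGroup (Fin d) F)) : Matrix (Fin d ⊕ Fin d) (Fin d ⊕ Fin d) F) =
        z • (1 : Matrix (Fin d ⊕ Fin d) (Fin d ⊕ Fin d) F) →
      ∃ g : Module.End F (Fin d ⊕ Fin d → F), g ^ r = 1 ∧
        (∀ u v, Elusive.sympB d F (g u) (g v) = Elusive.sympB d F u v) ∧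
        ∀ W : Submodule F (Fin d ⊕ Fin d → F), (∀ w ∈ W, g w ∈ W) →
          W.map (Matrix.toLin' (x : Matrix (Fin d ⊕ Fin d) (Fin d ⊕ Fin d) F)) ≤ W := by
    intro ho x z hz
    obtain ⟨hz2, hit⟩ := hzz x z hz
    obtain ⟨j, hj⟩ := ho
    refine ⟨z • Matrix.toLin' (x : Matrix (Fin d ⊕ Fin d) (Fin d ⊕ Fin d) F), LinearMap.ext fun u => ?_, fun u v => ?_,
      fun W hW => hmap W _ fun w hw => ?_⟩
    · rw [smul_pow, LinearMap.smul_apply, hit, smul_smul, ← pow_succ, hj,
        show 2 * j + 1 + 1 = 2 * (j + 1) by omega, pow_mul, pow_two, hz2, one_pow, one_smul]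
      rfl
    · rw [LinearMap.smul_apply, LinearMap.smul_apply, map_smul, map_smul, LinearMap.smul_apply, smul_eq_mul,
        smul_eq_mul, ← mul_assoc, hz2, one_mul, Elusive.sympB_toLin]
    · have := W.smul_mem z (hW w hw)
      rwa [LinearMap.smul_apply, smul_smul, hz2, one_smul] at this
  rcases eq_or_ne r p with rfl | hrp
  · rcases eq_or_ne r 2 with rfl | hp2
    · have h2 : (2 : F) = 0 := by exact_mod_cast CharP.cast_eq_zero F 2
      constructor
      · intro H
        refine Or.inr (Or.inl ⟨rfl, rfl, ?_⟩)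
        by_contra hcon
        obtain ⟨e', he'⟩ : Even d := by rw [Nat.even_iff]; omega
        obtain ⟨x, hx, hxs, hW'⟩ := Elusive.SpNd.exists_involution (F := F) h2 (e := e') (d := d) (by omega) (by omega)
        obtain ⟨W, hd', hn, hi'⟩ := H x hx hxs
        have h4 := hW' W ((hnd W).mp hn) fun v hv => hi' ⟨v, hv, rfl⟩
        omega
      · rintro (⟨-, h, -⟩ | ⟨-, -, hcond⟩ | ⟨-, h⟩ | ⟨h, -⟩)
        · exact absurd h (lt_irrefl 2)
        swap
        · exact absurd rfl h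
        swap
        · exact absurd rfl h
        intro x ⟨z, hz⟩ _
        obtain ⟨hz2, hit⟩ := hzz x z hz
        have hz1 : z = 1 := by
          have : (z - 1) * (z - 1) = 0 := by linear_combination hz2 + (1 - z) * h2
          exact sub_eq_zero.mp (mul_self_eq_zero.mp this)
        have hgg : Matrix.toLin' (x : Matrix (Fin d ⊕ Fin d) (Fin d ⊕ Fin d) F) ^ 2 = 1 :=
          LinearMap.ext fun u => by rw [hit, hz1, one_smul]; rfl
        obtain ⟨W, hW1, hW2, hW3⟩ := Elusive.SpNd.fixed_char_two hB h2 (Elusive.sympB_toLin x)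
          (by rw [← pow_two, hgg]) (by rw [Elusive.SpNd.sub_one_pow, hgg, sub_self]) hV (e := e) (by omega)
          (by rw [Nat.odd_iff, Nat.even_iff]; omega)
        exact ⟨W, hW3, (hnd W).mpr hW1, hmap W _ hW2⟩
    · have hodd : Odd r := hr.odd_of_ne_two hp2
      have h2 : (2 : F) ≠ 0 := fun h => hp2 ((Nat.prime_dvd_prime_iff_eq hr Nat.prime_two).mp
        ((CharP.cast_eq_zero_iff F r 2).mp (by exact_mod_cast h)))
      have hr3 : 2 < r := by have := hr.two_le; omega
      constructor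
      · intro H
        refine Or.inl ⟨rfl, hr3, fun μ hμ hev hsum => ?_⟩
        by_cases hb : ∃ a ∈ μ, 2 ≤ a
        · obtain ⟨x, hx, hxs, hW'⟩ := Elusive.SpNd.exists_unipotent_element (F := F) (d := d) hp2 μ hμ hev hsum hb
          obtain ⟨W, hd', hn, hi'⟩ := H x hx hxs
          obtain ⟨ν, h1, h3, h4⟩ := hW' W ((hnd W).mp hn) fun v hv => hi' ⟨v, hv, rfl⟩
          exact ⟨ν, h1, h3.trans hd', h4⟩
        · push Not at hb
          have hμ1 : μ = Multiset.replicate μ.card 1 := Multiset.eq_replicate_card.mpr fun a ha => by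
            have := (hμ a ha).1; have := hb a ha; omega
          have hcard : μ.card = 2 * d := by
            rw [hμ1, Multiset.sum_replicate, smul_eq_mul, mul_one] at hsum
            exact hsum
          refine ⟨Multiset.replicate (2 * e) 1, ?_, by simp, fun a _ => ?_⟩
          · rw [hμ1, hcard, Multiset.replicate_le_replicate]; omega
          · rw [Multiset.count_replicate]
            split_ifs
            · exact even_two_mul e
            · exact ⟨0, rfl⟩
      · rintro (⟨-, -, hP⟩ | ⟨-, h, -⟩ | ⟨h, -⟩ | ⟨h, -⟩)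
        swap
        · exact absurd h hp2
        swap
        · exact absurd h hp2
        swap
        · exact absurd rfl h
        intro x ⟨z, hz⟩ _
        obtain ⟨g, hg, hgi, hgW⟩ := hnorm hodd x z hz
        obtain ⟨W, hW1, hW2, hW3⟩ := Elusive.SpNd.fixed_unipotent hB h2 hgi hr.one_le hg
          (by rw [Elusive.SpNd.sub_one_pow, hg, sub_self]) (m := 2 * e) (by rw [hV]; exact hP)
        exact ⟨W, hW3, (hnd W).mpr hW1, hgW W hW2⟩
  · have hr0 : (r : F) ≠ 0 := Elusive.cast_ne_zero (F := F) hrp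
    rcases eq_or_ne r 2 with rfl | hr2
    · have h2 : (2 : F) ≠ 0 := by exact_mod_cast hr0
      refine iff_of_true (fun x ⟨z, hz⟩ _ => ?_) (Or.inr (Or.inr (Or.inl ⟨rfl, fun h => hrp h.symm⟩)))
      obtain ⟨hz2, hit⟩ := hzz x z hz
      obtain ⟨W, hW1, hW2, hW3⟩ := Elusive.SpNd.fixed_two hB h2 (Elusive.sympB_toLin x) (mul_self_eq_one_iff.mp hz2)
        (fun v => by rw [← hit v, pow_two, Module.End.mul_apply]) (m := 2 * e) ⟨e, two_mul e⟩ (by omega)
      exact ⟨W, hW3, (hnd W).mpr hW1, hmap W _ hW2⟩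
    obtain ⟨hipos, hcpos, hceven⟩ := Elusive.OFree.unit_pos (F := F) hr hr0
    rw [← hcu] at hcpos hceven
    rw [← hiu] at hipos
    have hr3 : 2 < r := by have := hr.two_le; omega
    constructor
    · intro H
      refine Or.inr (Or.inr (Or.inr ⟨hrp, hr3, ?_⟩))
      have hdvd' : r ∣ Nat.card {W : Submodule F (Fin d ⊕ Fin d → F) //
          Module.finrank F ↥W = 2 * e ∧ Elusive.SpNd.ND (Elusive.sympB d F) W} := by
        rwa [Nat.card_congr (Equiv.subtypeEquivRight fun W => and_congr_right fun _ => (hnd W).symm)]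
      obtain ⟨l, hl, hrl⟩ := Elusive.SpNd.prime_dvd_nondeg (p := p) hB hV hr hrp hdvd'
      have hil : i ∣ 2 * (d - l) := by
        rw [hi]
        exact (Elusive.orderOf_dvd_iff' (F := F) _).mp hrl
      have hcl : c ∣ 2 * (d - l) := by
        rw [hc]
        split_ifs with he
        · exact hil
        · exact Nat.mul_dvd_mul_left 2
            ((Nat.Coprime.dvd_mul_left (Nat.coprime_two_right.mpr (Nat.not_even_iff_odd.mp he))).mp hil)
      have hcn : c ≤ 2 * d := (Nat.le_of_dvd (by omega) hcl).trans (by omega)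
      have hk : 2 * d % c < 2 * e := by
        obtain ⟨w, hw⟩ := hcl
        rw [show 2 * d = 2 * l + c * w by omega, Nat.add_mul_mod_self_left]
        have := Nat.mod_le (2 * l) c
        omega
      by_cases hmk : 2 * e % c ≤ 2 * d % c
      · refine ⟨?_, hmk⟩
        by_contra hlt
        rw [Nat.mod_eq_of_lt (not_le.mp hlt)] at hmk
        omega
      exfalso
      have hdm := Nat.div_add_mod (2 * d) c
      have hN : 0 < c * (2 * d / c) := Nat.mul_pos hcpos ((Nat.one_le_div_iff hcpos).mpr hcn)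
      obtain ⟨a, ha⟩ : Even (2 * d % c) := Nat.even_iff.mpr (by
        rw [Nat.mod_mod_of_dvd _ (even_iff_two_dvd.mp hceven)]; omega)
      obtain ⟨x, hx, hxs, htame, hfix⟩ := Elusive.SpNd.exists_tame_element (F := F) (d := d) (r := r)
        (N := 2 * d / c) (a := a) hr hr2 hr0 (by rw [← hcu]; omega) (by rw [← hcu]; exact hN)
      obtain ⟨W, hd', hn, hi'⟩ := H x hx hxs
      obtain ⟨j, b, hb, hba⟩ := Elusive.SpNd.tame_dim hB hr hr2 htame ((hnd W).mp hn) fun v hv => hi' ⟨v, hv, rfl⟩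
      rw [← hcu, hd'] at hb
      have hlt := Nat.mod_lt (2 * d) hcpos
      rw [hb, Nat.mul_add_mod, Nat.mod_eq_of_lt (by omega)] at hmk
      omega
    · rintro (⟨h, -⟩ | ⟨h, -⟩ | ⟨h, -⟩ | ⟨-, -, -, hk⟩)
      · exact absurd h hrp
      · exact absurd h hrp
      · exact absurd h hr2
      intro x ⟨z, hz⟩ _
      obtain ⟨g, hg, hgi, hgW⟩ := hnorm (hr.odd_of_ne_two hr2) x z hz
      obtain ⟨W, hW1, hW2, hW3⟩ := Elusive.SpNd.fixed_tame hB hr hr2 ⟨hr0, hg, hgi⟩ (m := 2 * e) ⟨e, two_mul e⟩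
        (by omega) (hcu ▸ hcpos) (hcu ▸ hceven) (by rw [hV, ← hcu]; exact hk)
      exact ⟨W, hW3, (hnd W).mpr hW1, hgW W hW2⟩

end Cfsg.Agent.S5956
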