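import Cfsg.Statements.S5957
import Cfsg.Agent.Lib.Classical.Elusive.Unipotent

set_option autoImplicit false
open scoped MatrixGroups
open Cfsg

namespace Cfsg.Agent.S5957

section Involutions

open Module Polynomial

/-- Labelling of the points into blocks of size `a` permuted by an involution. -/
theorem exists_labels {ι : Type*} [DecidableEq ι] [LinearOrder ι] (π : ι → ι) (hπ : ∀ l, π (π l) = l)
    {a : ℕ} (ha : 1 ≤ a) : ∀ (t : ℕ) (S : Finset ι), S.card = a * t → (∀ l ∈ S, π l ∈ S) →
    ∃ (g : ι → ℕ) (σ : ℕ → ℕ), (∀ j < t, σ j < t ∧ σ (σ j) = j) ∧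
      (∀ l ∈ S, g l < t ∧ g (π l) = σ (g l)) ∧ ∀ j < t, (S.filter fun l => g l = j).card = a := by
  intro t
  induction t using Nat.strong_induction_on with
  | _ t ih =>
    intro S hS hinv
    rcases Nat.eq_zero_or_pos t with rfl | ht
    · exact ⟨fun _ => 0, id, fun j hj => absurd hj (by omega), fun l hl => by
        rw [mul_zero, Finset.card_eq_zero] at hS; simp [hS] at hl, fun j hj => absurd hj (by omega)⟩
    obtain ⟨P, hP⟩ : ∃ P, P = S.filter (fun l => π l = l) := ⟨_, rfl⟩
    obtain ⟨M, hM⟩ : ∃ M, M = S.filter (fun l => π l ≠ l) := ⟨_, rfl⟩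
    have hMinv : ∀ l ∈ M, π l ∈ M := fun l hl => by
      rw [hM, Finset.mem_filter] at hl ⊢
      exact ⟨hinv l hl.1, fun h => hl.2 (by rw [hπ] at h; exact h.symm)⟩
    have hsplit : P.card + M.card = S.card := by
      rw [hP, hM]; exact Finset.card_filter_add_card_filter_not _
    have heven : ∀ j, 2 * j ≤ M.card + 1 → ∃ T ⊆ M, (∀ l ∈ T, π l ∈ T) ∧ T.card = 2 * j := by
      intro j
      induction j with
      | zero => exact fun _ => ⟨∅, Finset.empty_subset _, by simp, rfl⟩
      | succ j ihj =>
        intro hj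
        obtain ⟨T, hT, hTi, hTc⟩ := ihj (by omega)
        obtain ⟨x, hx, hxT⟩ := Finset.exists_mem_notMem_of_card_lt_card (show T.card < M.card by omega)
        have hπx : π x ∉ T := fun h => hxT (hπ x ▸ hTi _ h)
        have hne : π x ≠ x := by rw [hM, Finset.mem_filter] at hx; exact hx.2
        refine ⟨insert x (insert (π x) T), Finset.insert_subset hx (Finset.insert_subset (hMinv x hx) hT), ?_, ?_⟩
        · intro l hl
          simp only [Finset.mem_insert] at hl ⊢
          rcases hl with rfl | rfl | hl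
          · exact Or.inr (Or.inl rfl)
          · exact Or.inl (hπ x)
          · exact Or.inr (Or.inr (hTi l hl))
        · rw [Finset.card_insert_of_notMem (by simp [hne.symm, hxT]), Finset.card_insert_of_notMem hπx, hTc]
          omega
    have cons : ∀ B ⊆ S, (∀ l ∈ B, π l ∈ B) → B.card = a → ∃ (g : ι → ℕ) (σ : ℕ → ℕ),
        (∀ j < t, σ j < t ∧ σ (σ j) = j) ∧ (∀ l ∈ S, g l < t ∧ g (π l) = σ (g l)) ∧
        ∀ j < t, (S.filter fun l => g l = j).card = a := by
      intro B hB hBi hBc
      have hBi' : ∀ l, π l ∈ B → l ∈ B := fun l h => hπ l ▸ hBi _ h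
      obtain ⟨g, σ, hσ, hg, hc⟩ := ih (t - 1) (by omega) (S \ B) (by
        rw [Finset.card_sdiff_of_subset hB, hS, hBc, Nat.mul_sub_one]) (fun l hl => by
        rw [Finset.mem_sdiff] at hl ⊢
        exact ⟨hinv l hl.1, fun h => hl.2 (hBi' l h)⟩)
      refine ⟨fun l => if l ∈ B then t - 1 else g l, fun j => if j = t - 1 then t - 1 else σ j,
        fun j hj => ?_, fun l hl => ?_, fun j hj => ?_⟩
      · by_cases hjt : j = t - 1
        · simp [hjt]; omega
        · obtain ⟨h1, h2⟩ := hσ j (by omega)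
          simp only [if_neg hjt]
          rw [if_neg (by omega)]
          exact ⟨by omega, h2⟩
      · by_cases hlB : l ∈ B
        · simp only [if_pos hlB, if_pos (hBi l hlB)]
          exact ⟨by omega, (if_pos trivial).symm⟩
        · obtain ⟨h1, h2⟩ := hg l (Finset.mem_sdiff.mpr ⟨hl, hlB⟩)
          simp only [if_neg hlB, if_neg (fun h => hlB (hBi' l h))]
          rw [if_neg (by omega)]
          exact ⟨by omega, h2⟩
      · by_cases hjt : j = t - 1
        · rw [← hBc]; congr 1; ext l
          simp only [Finset.mem_filter]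
          constructor
          · rintro ⟨hl, h⟩
            by_contra hlB
            rw [if_neg hlB] at h
            have := (hg l (Finset.mem_sdiff.mpr ⟨hl, hlB⟩)).1
            omega
          · intro hlB; exact ⟨hB hlB, by rw [if_pos hlB, hjt]⟩
        · rw [← hc j (by omega)]; congr 1; ext l
          simp only [Finset.mem_filter, Finset.mem_sdiff]
          constructor
          · rintro ⟨hl, h⟩
            by_cases hlB : l ∈ B
            · rw [if_pos hlB] at h; omega
            · rw [if_neg hlB] at h; exact ⟨⟨hl, hlB⟩, h⟩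
          · rintro ⟨⟨hl, hlB⟩, h⟩; exact ⟨hl, by rw [if_neg hlB]; exact h⟩
    have hat' : a * 1 ≤ a * t := Nat.mul_le_mul_left a ht
    have fixedCase : ∀ e, e ≤ P.card → ∀ j, e + 2 * j = a → 2 * j ≤ M.card + 1 → ∃ (g : ι → ℕ) (σ : ℕ → ℕ),
        (∀ j < t, σ j < t ∧ σ (σ j) = j) ∧ (∀ l ∈ S, g l < t ∧ g (π l) = σ (g l)) ∧
        ∀ j < t, (S.filter fun l => g l = j).card = a := by
      intro e he j hej hj
      obtain ⟨E, hE, hEc⟩ := Finset.exists_subset_card_eq he
      obtain ⟨T, hT, hTi, hTc⟩ := heven j hj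
      refine cons (E ∪ T) (Finset.union_subset (hE.trans (hP ▸ Finset.filter_subset _ _))
        (hT.trans (hM ▸ Finset.filter_subset _ _))) (fun l hl => ?_) ?_
      · rw [Finset.mem_union] at hl ⊢
        rcases hl with hl | hl
        · left
          have := hE hl
          rw [hP, Finset.mem_filter] at this
          rwa [this.2]
        · exact Or.inr (hTi l hl)
      · rw [Finset.card_union_of_disjoint, hEc, hTc, hej]
        rw [Finset.disjoint_left]
        intro l h1 h2
        have h1' := hE h1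
        have h2' := hT h2
        rw [hP, Finset.mem_filter] at h1'
        rw [hM, Finset.mem_filter] at h2'
        exact h2'.2 h1'.2
    by_cases hle : a ≤ P.card
    · exact fixedCase a hle 0 (by omega) (by omega)
    by_cases hpar : 2 ∣ (a - P.card)
    · obtain ⟨j, hj⟩ := hpar
      exact fixedCase P.card le_rfl j (by omega) (by omega)
    by_cases hP0 : P.card = 0
    swap
    · exact fixedCase (P.card - 1) (by omega) ((a - P.card + 1) / 2) (by omega) (by omega)
    have ht2 : 2 ≤ t := by
      by_contra ht1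
      obtain rfl : t = 1 := by omega
      obtain ⟨T, hT, -, hTc⟩ := heven ((a + 1) / 2) (by omega)
      have := Finset.card_le_card hT
      omega
    have h2t : a * 2 ≤ a * t := Nat.mul_le_mul_left a ht2
    obtain ⟨T, hT, hTi, hTc⟩ := heven a (by omega)
    have hTS : T ⊆ S := hT.trans (hM ▸ Finset.filter_subset _ _)
    have hTne : ∀ l ∈ T, π l ≠ l := fun l hl => by
      have := hT hl
      rw [hM, Finset.mem_filter] at this
      exact this.2
    obtain ⟨A, hA⟩ : ∃ A, A = T.filter (fun l => l < π l) := ⟨_, rfl⟩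
    have hTi' : ∀ l, π l ∈ T → l ∈ T := fun l h => hπ l ▸ hTi _ h
    have hAB : (T.filter fun l => ¬ l < π l) = A.image π := by
      ext l
      simp only [Finset.mem_filter, Finset.mem_image, hA]
      constructor
      · rintro ⟨hl, hlt⟩
        exact ⟨π l, ⟨hTi l hl, by rw [hπ]; exact lt_of_le_of_ne (not_lt.mp hlt) (hTne l hl)⟩, hπ l⟩
      · rintro ⟨m, ⟨hm, hlt⟩, rfl⟩
        exact ⟨hTi m hm, by rw [hπ]; exact not_lt.mpr hlt.le⟩
    have hAc : A.card = a := by
      have h := Finset.card_filter_add_card_filter_not (s := T) (fun l => l < π l)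
      rw [hAB, ← hA, Finset.card_image_of_injective _ (Function.LeftInverse.injective hπ)] at h
      omega
    obtain ⟨g, σ, hσ, hg, hc⟩ := ih (t - 2) (by omega) (S \ T) (by
      rw [Finset.card_sdiff_of_subset hTS, hS, hTc, Nat.mul_sub, mul_comm a 2]) (fun l hl => by
      rw [Finset.mem_sdiff] at hl ⊢
      exact ⟨hinv l hl.1, fun h => hl.2 (hTi' l h)⟩)
    refine ⟨fun l => if l ∈ T then (if l < π l then t - 1 else t - 2) else g l,
      fun j => if j = t - 1 then t - 2 else if j = t - 2 then t - 1 else σ j, fun j hj => ?_, fun l hl => ?_,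
      fun j hj => ?_⟩
    · by_cases h1 : j = t - 1
      · subst h1; simp [show ¬ t - 2 = t - 1 by omega]; omega
      by_cases h2 : j = t - 2
      · subst h2; simp [show ¬ t - 2 = t - 1 by omega]; omega
      obtain ⟨h3, h4⟩ := hσ j (by omega)
      simp only [if_neg h1, if_neg h2]
      rw [if_neg (by omega), if_neg (by omega)]
      exact ⟨by omega, h4⟩
    · by_cases hlT : l ∈ T
      · simp only [if_pos hlT, if_pos (hTi l hlT), hπ]
        rcases lt_or_gt_of_ne (hTne l hlT) with h | h
        · rw [if_pos h, if_neg (not_lt.mpr h.le), if_neg (by omega : ¬ t - 2 = t - 1), if_pos rfl]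
          exact ⟨by omega, rfl⟩
        · rw [if_neg (not_lt.mpr h.le), if_pos h, if_pos rfl]
          exact ⟨by omega, rfl⟩
      · obtain ⟨h1, h2⟩ := hg l (Finset.mem_sdiff.mpr ⟨hl, hlT⟩)
        simp only [if_neg hlT, if_neg (fun h => hlT (hTi' l h))]
        rw [if_neg (by omega), if_neg (by omega)]
        exact ⟨by omega, h2⟩
    · by_cases h1 : j = t - 1
      · rw [← hAc]; congr 1; ext l
        simp only [Finset.mem_filter, hA]
        constructor
        · rintro ⟨hl, h⟩
          by_cases hlT : l ∈ T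
          · rw [if_pos hlT] at h
            by_cases hlt : l < π l
            · exact ⟨hlT, hlt⟩
            · rw [if_neg hlt] at h; omega
          · rw [if_neg hlT] at h
            have := (hg l (Finset.mem_sdiff.mpr ⟨hl, hlT⟩)).1
            omega
        · rintro ⟨hlT, hlt⟩; exact ⟨hTS hlT, by rw [if_pos hlT, if_pos hlt, h1]⟩
      by_cases h2 : j = t - 2
      · rw [← hAc, ← Finset.card_image_of_injective A (Function.LeftInverse.injective hπ), ← hAB]
        congr 1; ext l
        simp only [Finset.mem_filter]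
        constructor
        · rintro ⟨hl, h⟩
          by_cases hlT : l ∈ T
          · rw [if_pos hlT] at h
            by_cases hlt : l < π l
            · rw [if_pos hlt] at h; omega
            · exact ⟨hlT, hlt⟩
          · rw [if_neg hlT] at h
            have := (hg l (Finset.mem_sdiff.mpr ⟨hl, hlT⟩)).1
            omega
        · rintro ⟨hlT, hlt⟩; exact ⟨hTS hlT, by rw [if_pos hlT, if_neg hlt, h2]⟩
      · rw [← hc j (by omega)]; congr 1; ext l
        simp only [Finset.mem_filter, Finset.mem_sdiff]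
        constructor
        · rintro ⟨hl, h⟩
          by_cases hlT : l ∈ T
          · rw [if_pos hlT] at h; split_ifs at h <;> omega
          · rw [if_neg hlT] at h; exact ⟨⟨hl, hlT⟩, h⟩
        · rintro ⟨⟨hl, hlT⟩, h⟩; exact ⟨hl, by rw [if_neg hlT]; exact h⟩

/-- The map permutes lines of a basis involutively. -/
def Monomial {F V : Type*} [Field F] [AddCommGroup V] [Module F V] (f : Module.End F V) (ι : Type*)
    (b : Basis ι F V) : Prop :=
  ∃ (π : ι → ι) (u : ι → F), (∀ l, π (π l) = l) ∧ (∀ l, u l ≠ 0) ∧ ∀ l, f (b l) = u l • b (π l)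

open Cfsg.Agent.Small.Semisimple (exists_ker exists_summand charpoly_of_summand rootMul) in
/-- In odd characteristic a square root of a scalar is monomial. -/
theorem monomial_semisimple.{v, w} {F : Type v} [Field F] (h2 : (2 : F) ≠ 0) {c : F} (hc : c ≠ 0) :
    ∀ (N : ℕ) {V : Type w} [AddCommGroup V] [Module F V] [FiniteDimensional F V] (f : Module.End F V),
      finrank F V ≤ N → f ^ 2 = c • 1 → ∃ (ι : Type) (_ : Fintype ι) (b : Basis ι F V), Monomial f ι b := by
  intro N
  induction N with
  | zero =>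
    intro V _ _ _ f hN _
    haveI : Subsingleton V := Module.finrank_zero_iff.mp (Nat.le_zero.mp hN : finrank F V = 0)
    exact ⟨Empty, inferInstance, Basis.empty V, id, fun _ => 1, fun _ => rfl, fun l => l.elim, fun l => l.elim⟩
  | succ N ih =>
    intro V _ _ _ f hN hf
    by_cases h0 : finrank F V = 0
    · exact ih f (by omega) hf
    have hs : f.IsSemisimple := Cfsg.Agent.Classical.Elusive.isSemisimple_of_pow (r := 2) (by exact_mod_cast h2) hc hf
    have hdeg : f.charpoly.natDegree ≠ 0 := by rw [LinearMap.charpoly_natDegree]; exact h0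
    obtain ⟨q, hqm, hqi, hqd⟩ := Polynomial.exists_monic_irreducible_factor f.charpoly
      (fun hu => hdeg (natDegree_eq_zero_of_isUnit hu))
    have hP : aeval f (X ^ 2 - C c : F[X]) = 0 := by
      rw [map_sub, map_pow, aeval_X, aeval_C, hf, Algebra.algebraMap_eq_smul_one, sub_self]
    have hqP : q ∣ X ^ 2 - C c := by
      by_contra hnd
      obtain ⟨v, hv, hqv⟩ := exists_ker f hqi hqd
      obtain ⟨a, b, hab⟩ := (hqi.coprime_iff_not_dvd).2 hnd
      apply hv
      have := congrArg (fun g => aeval f g v) hab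
      simpa [Module.End.mul_apply, hqv, hP] using this.symm
    obtain ⟨U, hU, e, he⟩ := exists_summand f hs hqi hqm hqd
    obtain ⟨B, hB⟩ : ∃ B, B = AdjoinRoot.powerBasis' hqm := ⟨_, rfl⟩
    haveI := B.finite
    have hdim : finrank F V = q.natDegree + finrank F U := by
      rw [← e.finrank_eq, Module.finrank_prod, B.finrank, hB, AdjoinRoot.powerBasis'_dim]
    have hU2 : (f.restrict hU) ^ 2 = c • 1 := by
      ext x
      have := LinearMap.congr_fun hf (x : V)
      simp only [pow_two, Module.End.mul_apply, LinearMap.smul_apply, Module.End.one_apply] at this ⊢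
      exact this
    obtain ⟨ι, hι, b, π, u, hπ, hu, hb⟩ := ih (f.restrict hU) (by have := hqi.natDegree_pos; omega) hU2
    have hd2 : B.dim ≤ 2 := by
      rw [hB, AdjoinRoot.powerBasis'_dim]
      exact (natDegree_le_of_dvd hqP (X_pow_sub_C_ne_zero two_pos c)).trans_eq natDegree_X_pow_sub_C
    have hroot : AdjoinRoot.root q * AdjoinRoot.root q = c • (1 : AdjoinRoot q) := by
      have := AdjoinRoot.mk_eq_zero.mpr hqP
      rw [map_sub, map_pow, AdjoinRoot.mk_X, AdjoinRoot.mk_C, sub_eq_zero] at this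
      rw [← pow_two, this, Algebra.smul_def, mul_one]; rfl
    have hgen : B.gen = AdjoinRoot.root q := by rw [hB, AdjoinRoot.powerBasis'_gen]
    haveI : Fact (Irreducible q) := ⟨hqi⟩
    have key : ∃ (π' : Fin B.dim → Fin B.dim) (u' : Fin B.dim → F), (∀ l, π' (π' l) = l) ∧ (∀ l, u' l ≠ 0) ∧
        ∀ l, rootMul q (B.basis l) = u' l • B.basis (π' l) := by
      have happ : ∀ z, rootMul q z = AdjoinRoot.root q * z := fun z => rfl
      rcases (show B.dim = 1 ∨ B.dim = 2 by have := B.dim_pos; omega) with h1 | h1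
      · obtain ⟨i⟩ : Nonempty (Fin B.dim) := ⟨⟨0, by omega⟩⟩
        have hsub : ∀ l : Fin B.dim, l = i := fun l => Fin.ext (by omega)
        obtain ⟨s, hs⟩ : ∃ s, rootMul q (B.basis i) = s • B.basis i := ⟨B.basis.repr (rootMul q (B.basis i)) i, by
          conv_lhs => rw [← B.basis.sum_repr (rootMul q (B.basis i))]
          rw [Finset.sum_eq_single i (fun l _ hl => absurd (hsub l) hl) (by simp)]⟩
        refine ⟨id, fun _ => s, fun _ => rfl, fun _ hs0 => ?_, fun l => by rw [hsub l]; exact hs⟩
        dsimp only at hs0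
        rw [hs0, zero_smul, happ] at hs
        have h2' := congrArg (fun z => AdjoinRoot.root q * z) hs
        simp only [← mul_assoc, hroot, mul_zero, Algebra.smul_mul_assoc, one_mul] at h2'
        exact B.basis.ne_zero i ((smul_eq_zero.mp h2').resolve_left hc)
      · obtain ⟨i, hi⟩ : ∃ i : Fin B.dim, (i : ℕ) = 0 := ⟨⟨0, by omega⟩, rfl⟩
        obtain ⟨j, hj⟩ : ∃ j : Fin B.dim, (j : ℕ) = 1 := ⟨⟨1, by omega⟩, rfl⟩
        have hij : ∀ l : Fin B.dim, l = i ∨ l = j := fun l => by
          rcases (show (l : ℕ) = 0 ∨ (l : ℕ) = 1 by omega) with h | h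
          · exact Or.inl (Fin.ext (by omega))
          · exact Or.inr (Fin.ext (by omega))
        have hne : i ≠ j := fun h => by rw [h] at hi; omega
        refine ⟨Equiv.swap i j, fun l => if l = i then 1 else c, Equiv.swap_apply_self i j, fun l => ?_, fun l => ?_⟩
        · show (if l = i then (1 : F) else c) ≠ 0
          split_ifs
          · exact one_ne_zero
          · exact hc
        · show _ = (if l = i then (1 : F) else c) • _
          rw [happ, B.basis_eq_pow, B.basis_eq_pow, hgen]
          rcases hij l with rfl | rfl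
          · rw [Equiv.swap_apply_left, hi, hj, if_pos rfl, one_smul, pow_zero, mul_one, pow_one]
          · rw [Equiv.swap_apply_right, hi, hj, if_neg hne.symm, pow_one, hroot, pow_zero]
    obtain ⟨π', u', hπ', hu', hb'⟩ := key
    refine ⟨Fin B.dim ⊕ ι, inferInstance, (B.basis.prod b).map e, Sum.map π' π, Sum.elim u' u, ?_, ?_, ?_⟩
    · rintro (l | l) <;> simp [hπ, hπ']
    · rintro (l | l) <;> simp [hu, hu']
    · rintro (l | l) <;> rw [Basis.map_apply, he, Basis.map_apply, ← map_smul] <;> congr 1 <;>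
        simp [hb, hb', Prod.ext_iff, -PowerBasis.coe_basis]

/-- In characteristic two a unipotent involution is monomial. -/
theorem monomial_two {F V : Type*} [Field F] [AddCommGroup V] [Module F V] [FiniteDimensional F V] (h2 : (2 : F) = 0)
    {N : Module.End F V} (hN : N ^ 2 = 0) {l : F} (hl : l ≠ 0) :
    ∃ (ι : Type) (_ : Fintype ι) (b : Basis ι F V), Monomial (l • (1 + N)) ι b := by
  classical
  obtain ⟨t, k, b, hb⟩ := Cfsg.Agent.Small.JordanType.exists_chain N ⟨2, hN⟩
  have hk := (hb.pow_eq_zero_iff 2).mp hN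
  let L : Module.End F V := b.constr F fun x => if (x.2 : ℕ) = 0 then b x else b ⟨x.1, ⟨0, Fin.pos x.2⟩⟩ + b x
  have hL : ∀ x, L (b x) = if (x.2 : ℕ) = 0 then b x else b ⟨x.1, ⟨0, Fin.pos x.2⟩⟩ + b x := fun x => b.constr_basis F _ x
  have hLL : ∀ v, L (L v) = v := by
    intro v
    refine LinearMap.congr_fun (f := L ∘ₗ L) (g := LinearMap.id) (b.ext fun x => ?_) v
    show L (L (b x)) = b x
    rw [hL]
    by_cases h : (x.2 : ℕ) = 0
    · rw [if_pos h, hL, if_pos h]
    · rw [if_neg h, map_add, hL, hL, if_pos (show ((⟨0, Fin.pos x.2⟩ : Fin (k x.1)) : ℕ) = 0 from rfl), if_neg h,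
        ← add_assoc, ← two_smul F (b ⟨x.1, ⟨0, Fin.pos x.2⟩⟩), h2, zero_smul, zero_add]
  let Le : V ≃ₗ[F] V := LinearEquiv.ofInvolutive L hLL
  let π : (Σ i, Fin (k i)) → (Σ i, Fin (k i)) := fun x => ⟨x.1, ⟨k x.1 - 1 - (x.2 : ℕ), by omega⟩⟩
  refine ⟨Σ i, Fin (k i), inferInstance, b.map Le, π, fun _ => l, fun x => ?_, fun _ => hl, fun x => ?_⟩
  · exact Sigma.ext rfl (heq_of_eq (Fin.ext (show k x.1 - 1 - (k x.1 - 1 - (x.2 : ℕ)) = x.2 by omega)))
  · show (l • (1 + N)) (L (b x)) = l • L (b (π x))
    rw [LinearMap.smul_apply]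
    congr 1
    rw [LinearMap.add_apply, Module.End.one_apply, hL, hL]
    have hk2 := hk x.1
    obtain ⟨i, ⟨v, hv⟩⟩ := x
    simp only [π] at hk2 ⊢
    by_cases h : v = 0
    · subst h
      rw [if_pos rfl, hb]
      by_cases h1 : k i = 2
      · rw [dif_pos (show 0 + 1 < k i by omega), if_neg (show ¬ k i - 1 - 0 = 0 by omega)]
        congr 2
        exact Sigma.ext rfl (heq_of_eq (Fin.ext (show 0 + 1 = k i - 1 - 0 by omega)))
      · rw [dif_neg (show ¬ 0 + 1 < k i by omega), if_pos (show k i - 1 - 0 = 0 by omega), add_zero]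
        congr 1
        exact Sigma.ext rfl (heq_of_eq (Fin.ext (show 0 = k i - 1 - 0 by omega)))
    · rw [if_neg h, if_pos (show k i - 1 - v = 0 by omega), map_add, hb, hb, dif_pos (show 0 + 1 < k i by omega),
        dif_neg (show ¬ v + 1 < k i by omega), add_zero]
      have e1 : (⟨i, ⟨0 + 1, by omega⟩⟩ : Σ i, Fin (k i)) = ⟨i, ⟨v, hv⟩⟩ :=
        Sigma.ext rfl (heq_of_eq (Fin.ext (show 0 + 1 = v by omega)))
      have e2 : (⟨i, ⟨k i - 1 - v, by omega⟩⟩ : Σ i, Fin (k i)) = ⟨i, ⟨0, Fin.pos ⟨v, hv⟩⟩⟩ :=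
        Sigma.ext rfl (heq_of_eq (Fin.ext (show k i - 1 - v = 0 by omega)))
      rw [e1, e2, add_assoc, ← two_smul F (b ⟨i, ⟨v, hv⟩⟩), h2, zero_smul, add_zero]

end Involutions

/-- Involutions of PSL_n(q) and imprimitive subgroups. Here `T = PSL_n(F)` for a field `F` with `q = p^f` elements (`n ≥ 2`, `(n, q) ≠ (2, 2), (2, 3)`), `n = a·t` with `t ≥ 2`, and Ω is the set of direct-sum decompositions of `F^n` into `t` subspaces of dimension `a` (unordered; their number is the number of ordered ones divided by `t!`), whose stabilizers are the imprimitive subgroups of type GL_a(q) ≀ S_t (maximal except in some small cases; maximality is not assumed); an element of `T` of prime order `r` (a matrix `x` of determinant 1 with `x^r` scalar, `x` not scalar) fixes a point of Ω when it permutes the summands of some such decomposition. If the number of such decompositions is even, then every involution of `T` stabilizes one of them (the action is 2-elusive). -/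
theorem result {F : Type*} [Field F] [Fintype F] {p : ℕ} [Fact p.Prime] [CharP F p] {q : ℕ} (hq : Fintype.card F = q)
    (n a t : ℕ) (hn : 2 ≤ n) (hT : (n, q) ≠ (2, 2) ∧ (n, q) ≠ (2, 3)) (hat : n = a * t) (ha : 1 ≤ a) (ht : 2 ≤ t)
    (hΩ : 2 ∣ Nat.card {D : Fin t → Submodule F (Fin n → F) // Cfsg.Geo.IsMDecomposition a D} / Nat.factorial t)
    (x : Matrix.SpecialLinearGroup (Fin n) F)
    (hx1 : ∃ z : F, ((x ^ 2 : Matrix.SpecialLinearGroup (Fin n) F) : Matrix (Fin n) (Fin n) F) = z • (1 : Matrix (Fin n) (Fin n) F))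
    (hx2 : ∀ z : F, (x : Matrix (Fin n) (Fin n) F) ≠ z • (1 : Matrix (Fin n) (Fin n) F)) :
    ∃ D : Fin t → Submodule F (Fin n → F), Cfsg.Geo.IsMDecomposition a D ∧
        ∃ σ : Equiv.Perm (Fin t), ∀ j, (D j).map (Matrix.toLin' (x : Matrix (Fin n) (Fin n) F)) = D (σ j) := by
  classical
  open Cfsg.Agent.Classical.Elusive in
  obtain ⟨c, hc⟩ := hx1
  obtain ⟨f, hf⟩ : ∃ f, f = Matrix.toLin' (x : Matrix (Fin n) (Fin n) F) := ⟨_, rfl⟩
  rw [← hf]
  have hf2 : f ^ 2 = c • 1 := by
    rw [hf, ← Matrix.toLin'_pow, ← Matrix.SpecialLinearGroup.coe_pow, hc, map_smul, Matrix.toLin'_one]; rfl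
  have hc0 : c ≠ 0 := fun h => by
    haveI : Nonempty (Fin n) := ⟨⟨0, by omega⟩⟩
    have := congrArg Matrix.det hc
    rw [Matrix.SpecialLinearGroup.det_coe, h, zero_smul, Matrix.det_zero] at this
    exact one_ne_zero this
  obtain ⟨ι, hι, b, π, u, hπ, hu, hb⟩ : ∃ (ι : Type) (_ : Fintype ι) (b : Module.Basis ι F (Fin n → F)), Monomial f ι b := by
    by_cases h2 : (2 : F) = 0
    · haveI : CharP F 2 := CharTwo.of_one_ne_zero_of_two_eq_zero one_ne_zero h2
      haveI : Fact (Nat.Prime 2) := ⟨Nat.prime_two⟩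
      haveI := char_end (F := F) (p := 2) (n := n) (by omega)
      obtain ⟨l, hl⟩ : IsSquare c := FiniteField.isSquare_of_char_two (CharP.eq F (ringChar.charP F) inferInstance) c
      have hl0 : l ≠ 0 := fun h => hc0 (by rw [hl, h, mul_zero])
      obtain ⟨b⟩ : Nonempty (∃ (ι : Type) (_ : Fintype ι) (b : Module.Basis ι F (Fin n → F)),
          Monomial (l • (1 + (l⁻¹ • f - 1))) ι b) := ⟨monomial_two (N := l⁻¹ • f - 1) h2 (by
        rw [sub_pow_char_of_commute 2 (Commute.one_right _), one_pow, _root_.smul_pow, hf2, smul_smul, hl,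
          inv_pow, pow_two, inv_mul_cancel₀ (mul_ne_zero hl0 hl0), one_smul, sub_self]) hl0⟩
      rwa [add_sub_cancel, smul_smul, mul_inv_cancel₀ hl0, one_smul] at b
    · exact monomial_semisimple h2 hc0 _ f le_rfl hf2
  have hcard : (Finset.univ : Finset ι).card = a * t := by
    rw [Finset.card_univ, ← Module.finrank_eq_card_basis b, Module.finrank_fin_fun, hat]
  letI : LinearOrder ι := LinearOrder.lift' (Fintype.equivFin ι) (Fintype.equivFin ι).injective
  obtain ⟨g, σ, hσ, hg, hgc⟩ := exists_labels π hπ ha t Finset.univ hcard (fun _ _ => Finset.mem_univ _)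
  let D : Fin t → Submodule F (Fin n → F) := fun j => Submodule.span F (b '' {l | g l = j})
  let s : Equiv.Perm (Fin t) := Function.Involutive.toPerm (fun j => ⟨σ j, (hσ j j.2).1⟩)
    (fun j => Fin.ext (hσ j j.2).2)
  refine ⟨D, ⟨ht, ha, fun j => ?_, ?_, ?_⟩, s, fun j => ?_⟩
  · show Module.finrank F (Submodule.span F (b '' {l | g l = (j : ℕ)})) = a
    rw [Set.image_eq_range]
    have h : LinearIndependent F (fun l : {l // g l = (j : ℕ)} => b l.1) :=
      b.linearIndependent.comp _ Subtype.val_injective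
    refine (finrank_span_eq_card h).trans ?_
    rw [Fintype.card_subtype]
    exact hgc j j.2
  · intro j
    refine (b.linearIndependent.disjoint_span_image (s := {l | g l = (j : ℕ)}) (t := {l | g l ≠ (j : ℕ)})
      (Set.disjoint_left.mpr fun l h1 h2 => h2 h1)).mono_right (iSup₂_le fun k hk => Submodule.span_mono (Set.image_mono fun l hl => ?_))
    show g l ≠ (j : ℕ)
    intro h; exact hk (Fin.ext (hl.symm.trans h))
  · rw [← top_le_iff, ← b.span_eq, Submodule.span_le]
    rintro _ ⟨l, rfl⟩
    exact Submodule.mem_iSup_of_mem ⟨g l, (hg l (Finset.mem_univ _)).1⟩ (Submodule.subset_span ⟨l, rfl, rfl⟩)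
  · show (Submodule.span F (b '' {l | g l = (j : ℕ)})).map f = Submodule.span F (b '' {l | g l = σ (j : ℕ)})
    rw [Submodule.map_span]
    refine le_antisymm (Submodule.span_le.mpr ?_) (Submodule.span_le.mpr ?_)
    · rintro _ ⟨_, ⟨l, hl, rfl⟩, rfl⟩
      rw [hb]
      exact Submodule.smul_mem _ _ (Submodule.subset_span ⟨π l, by
        show g (π l) = σ (j : ℕ)
        rw [(hg l (Finset.mem_univ _)).2, show g l = (j : ℕ) from hl], rfl⟩)
    · rintro _ ⟨l, hl, rfl⟩
      have hgl : g (π l) = (j : ℕ) := by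
        rw [(hg l (Finset.mem_univ _)).2, show g l = σ (j : ℕ) from hl, (hσ j j.2).2]
      have h := Submodule.smul_mem (Submodule.span F (f '' (b '' {l | g l = (j : ℕ)}))) (u (π l))⁻¹
        (Submodule.subset_span ⟨b (π l), ⟨π l, hgl, rfl⟩, rfl⟩)
      rwa [hb, smul_smul, inv_mul_cancel₀ (hu _), one_smul, hπ] at h

end Cfsg.Agent.S5957
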