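import Cfsg.Statements.S5959
import Cfsg.Agent.Lib.Classical.Elusive.Unipotent

set_option autoImplicit false
open scoped MatrixGroups
open Cfsg

namespace Cfsg.Agent.S5959

/-- Elements of order `p` of PSL_n(q) and imprimitive subgroups: a necessary condition. Here `T = PSL_n(F)` for a field `F` with `q = p^f` elements (`n ≥ 2`, `(n, q) ≠ (2, 2), (2, 3)`), `n = a·t` with `t ≥ 2`, and Ω is the set of direct-sum decompositions of `F^n` into `t` subspaces of dimension `a` (unordered; their number is the number of ordered ones divided by `t!`), whose stabilizers are the imprimitive subgroups of type GL_a(q) ≀ S_t (maximal except in some small cases; maximality is not assumed); an element of `T` of prime order `r` (a matrix `x` of determinant 1 with `x^r` scalar, `x` not scalar) fixes a point of Ω when it permutes the summands of some such decomposition. Suppose `p > 2` divides the number of such decompositions. If every element of `T` of order `p` stabilizes such a decomposition, then every partition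 of `n` into parts of size at most `p` in which the part `p` occurs fewer than `a` times contains (as a sub-multiset) a partition of `a`. -/
theorem result {F : Type*} [Field F] [Fintype F] {p : ℕ} [Fact p.Prime] [CharP F p] {q : ℕ} (hq : Fintype.card F = q)
    (n a t : ℕ) (hn : 2 ≤ n) (hT : (n, q) ≠ (2, 2) ∧ (n, q) ≠ (2, 3)) (hat : n = a * t) (ha : 1 ≤ a) (ht : 2 ≤ t)
    (hp : 2 < p) (hΩ : p ∣ Nat.card {D : Fin t → Submodule F (Fin n → F) // Cfsg.Geo.IsMDecomposition a D} / Nat.factorial t)
    (h : ∀ x : Matrix.SpecialLinearGroup (Fin n) F,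
      (∃ z : F, ((x ^ p : Matrix.SpecialLinearGroup (Fin n) F) : Matrix (Fin n) (Fin n) F) = z • (1 : Matrix (Fin n) (Fin n) F)) →
      (∀ z : F, (x : Matrix (Fin n) (Fin n) F) ≠ z • (1 : Matrix (Fin n) (Fin n) F)) →
      ∃ D : Fin t → Submodule F (Fin n → F), Cfsg.Geo.IsMDecomposition a D ∧
        ∃ σ : Equiv.Perm (Fin t), ∀ j, (D j).map (Matrix.toLin' (x : Matrix (Fin n) (Fin n) F)) = D (σ j)) :
    (∀ μ : Multiset ℕ, (∀ b ∈ μ, 0 < b ∧ b ≤ p) → μ.sum = n → μ.count p < a → ∃ ν : Multiset ℕ, ν ≤ μ ∧ ν.sum = a) := by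
  classical
  open Cfsg.Agent.Classical.Elusive Cfsg.Agent.Small.JordanType in
  intro μ hμ hsum hcount
  by_cases h1 : ∀ b ∈ μ, b = 1
  · refine ⟨Multiset.replicate a 1, ?_, by simp⟩
    have hμ' := Multiset.eq_replicate_card.mpr h1
    rw [hμ', Multiset.sum_replicate, smul_eq_mul, mul_one] at hsum
    rw [hμ', hsum]
    have hle : a ≤ n := hat ▸ Nat.le_mul_of_pos_right a (by omega)
    exact Multiset.le_iff_count.mpr fun b => by
      rw [Multiset.count_replicate, Multiset.count_replicate]; split_ifs <;> omega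
  push Not at h1
  obtain ⟨c, hc, hc1⟩ := h1
  obtain ⟨x, N, u, k, b, hb, hk, hN, hxp, hxN⟩ := exists_unipotent (F := F) (p := p) μ hμ hsum (by omega)
  obtain ⟨D, hD, σ, hσ⟩ := h x ⟨1, hxp⟩ (by
    have hc' : c ∈ parts k := hk ▸ hc
    obtain ⟨i, -, rfl⟩ := Multiset.mem_map.mp (Multiset.mem_filter.mp hc').1
    exact not_scalar_of_chain hb hxN (i := i) (by have := (hμ _ hc).1; omega))
  obtain ⟨f, hf⟩ : ∃ f, f = Matrix.toLin' (x : Matrix (Fin n) (Fin n) F) := ⟨_, rfl⟩
  simp only [← hf] at hσ hxN
  have hfp : f ^ p = 1 := by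
    rw [hf, ← Matrix.toLin'_pow, ← Matrix.SpecialLinearGroup.coe_pow, hxp, one_smul, Matrix.toLin'_one]; rfl
  have hpow : ∀ (i : ℕ) (j : Fin t), (D j).map (f ^ i) = D ((σ ^ i) j) := by
    intro i
    induction i with
    | zero => intro j; simp [Module.End.one_eq_id]
    | succ i ih =>
      intro j
      rw [pow_succ', Module.End.mul_eq_comp, Submodule.map_comp, ih, hσ, pow_succ' σ, Equiv.Perm.mul_apply]
  have hne : ∀ j, D j ≠ ⊥ := fun j h' => by
    have := hD.finrank_eq j
    rw [h', finrank_bot] at this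
    omega
  have hinj : Function.Injective D := hD.indep.injective hne
  have hσp : ∀ j, (σ ^ p) j = j := fun j => hinj (by
    rw [← hpow, hfp, Module.End.one_eq_id, Submodule.map_id])
  have hNinv : ∀ S : Submodule F (Fin n → F), S.map f ≤ S → S.map N ≤ S := fun S hS => by
    rintro _ ⟨v, hv, rfl⟩
    have h' := S.sub_mem (hS ⟨v, hv, rfl⟩) hv
    rw [hxN] at h'
    simpa using h'
  by_cases hid : ∀ j, σ j = j
  · obtain ⟨j0⟩ : Nonempty (Fin t) := ⟨⟨0, by omega⟩⟩
    have hcompl : IsCompl (D j0) (⨆ (j) (_ : j ≠ j0), D j) := ⟨hD.indep j0, codisjoint_iff.mpr (by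
      refine top_le_iff.mp (hD.iSup_eq_top ▸ iSup_le fun j => ?_)
      by_cases hj : j = j0
      · exact hj ▸ le_sup_left
      · exact le_sup_of_le_right (le_iSup₂_of_le j hj le_rfl))⟩
    have hinv : ∀ j, (D j).map f ≤ D j := fun j => by rw [hσ, hid]
    obtain ⟨ν, ν', hadd, hν⟩ := parts_add hcompl (hNinv _ (hinv j0)) (hNinv _ (by
      simp only [Submodule.map_iSup]
      exact iSup₂_le fun j hj => (hinv j).trans (le_iSup₂_of_le j hj le_rfl))) hN hb
    exact ⟨ν, hk ▸ hadd ▸ Multiset.le_add_right ν ν', hν.trans (hD.finrank_eq j0)⟩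
  exfalso
  push Not at hid
  obtain ⟨j0, hj0⟩ := hid
  have hper : Function.IsPeriodicPt σ p j0 := by
    show (⇑σ)^[p] j0 = j0
    rw [← Equiv.Perm.coe_pow]; exact hσp j0
  have hmin : Function.minimalPeriod σ j0 = p := by
    rcases (Nat.dvd_prime Fact.out).mp hper.minimalPeriod_dvd with h' | h'
    · exact absurd (Function.minimalPeriod_eq_one_iff_isFixedPt.mp h') hj0
    · exact h'
  obtain ⟨G, hG⟩ : ∃ G, G = ∑ i ∈ Finset.range p, f ^ i := ⟨_, rfl⟩
  have hGN : G = N ^ (p - 1) := by
    have e : (Polynomial.X - 1 : Polynomial F) ^ (p - 1) = ∑ i ∈ Finset.range p, Polynomial.X ^ i := by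
      refine mul_right_cancel₀ (b := (Polynomial.X - 1 : Polynomial F)) (Polynomial.X_sub_C_ne_zero (1 : F)) ?_
      rw [geom_sum_mul, ← pow_succ, show p - 1 + 1 = p by omega, sub_pow_char, one_pow]
    have e2 := congrArg (Polynomial.aeval f) e
    simp only [map_pow, map_sub, map_sum, Polynomial.aeval_X, map_one] at e2
    rw [hG, ← e2, hxN, add_sub_cancel_left]
  have hker : ∀ v ∈ D j0, G v = 0 → v = 0 := by
    intro v hv hGv
    rw [hG, LinearMap.sum_apply, ← Finset.sum_erase_add _ _ (Finset.mem_range.mpr (by omega : 0 < p)), pow_zero,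
      Module.End.one_apply] at hGv
    have hmem : v ∈ ⨆ (j) (_ : j ≠ j0), D j := by
      rw [eq_neg_of_add_eq_zero_right hGv]
      refine neg_mem (sum_mem fun i hi => ?_)
      obtain ⟨hi0, hip⟩ := Finset.mem_erase.mp hi
      rw [Finset.mem_range] at hip
      have hne' : (σ ^ i) j0 ≠ j0 := fun he => by
        have hdiv : p ∣ i := hmin ▸ Function.IsPeriodicPt.minimalPeriod_dvd (f := σ) (x := j0) (n := i)
          (by show (⇑σ)^[i] j0 = j0; rw [← Equiv.Perm.coe_pow]; exact he)
        have := Nat.le_of_dvd (Nat.pos_of_ne_zero hi0) hdiv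
        omega
      exact Submodule.mem_iSup_of_mem _ (Submodule.mem_iSup_of_mem hne' (hpow i j0 ▸ ⟨v, hv, rfl⟩))
    exact Submodule.disjoint_def.mp (hD.indep j0) v hv hmem
  have hrank : a ≤ Module.finrank F (LinearMap.range G) := by
    rw [← hD.finrank_eq j0]
    refine LinearMap.finrank_le_finrank_of_injective (f := (G.rangeRestrict).comp (D j0).subtype) ?_
    intro v w hvw
    have := congrArg Subtype.val hvw
    exact sub_eq_zero.mp (Subtype.ext (hker _ (v - w).2 (by
      rw [AddSubgroupClass.coe_sub, map_sub, sub_eq_zero]; exact this)))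
  rw [hGN, hb.finrank_range] at hrank
  have hkp : ∀ i, k i ≤ p := (forall_parts k p).mp fun d hd => (hμ d (hk ▸ hd)).2
  rw [Finset.sum_congr rfl (fun i _ => show k i - (p - 1) = if k i = p then 1 else 0 by
    have := hkp i; split_ifs <;> omega), Finset.sum_boole, Nat.cast_id] at hrank
  rw [← hk, count_parts k (Fact.out : p.Prime).ne_zero, Nat.card_eq_fintype_card, Fintype.card_subtype] at hcount
  omega

end Cfsg.Agent.S5959
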