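import Cfsg.Statements.S5960
import Cfsg.Agent.Lib.Classical.Elusive.SympSetup
import Cfsg.Agent.S5957
-- import your own Cfsg.Agent.* helpers here

set_option autoImplicit false
open scoped MatrixGroups
open Cfsg

namespace Cfsg.Agent.S5960

open Cfsg.Agent.Classical.Elusive

/-- Involutions of PSp_n(q) and imprimitive subgroups. Here `T = PSp_n(q)`, `n = 2d ≥ 4`, `(n, q) ≠ (4, 2)`, realised through the symplectic matrices over the field `F` with `q` elements and the standard alternating form; `n = a·t` with `a` even and `t ≥ 2`, and Ω is the (nonempty) set of orthogonal decompositions of `F^n` into `t` nondegenerate subspaces of dimension `a` (unordered; counted as ordered ones divided by `t!`), whose stabilizers are the imprimitive subgroups of type Sp_a(q) ≀ S_t (maximality is not assumed); an element of `T` of prime order `r` (a symplectic matrix `x` with `x^r` scalar, `x` not scalar) fixes a point of Ω when it permutes the summands of some such decomposition. If the number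 of such decompositions is even, then every involution of `T` stabilizes one of them (the action is 2-elusive). -/
theorem result {F : Type*} [Field F] [Fintype F] {p : ℕ} [Fact p.Prime] [CharP F p] {q : ℕ} (hq : Fintype.card F = q)
    (d : ℕ) (hd : 2 ≤ d) (hT : (d, q) ≠ (2, 2))
    (a t : ℕ) (hat : 2 * d = a * t) (ha : 2 ≤ a) (hae : Even a) (ht : 2 ≤ t) (hΩ : 2 ∣ Nat.card {D : Fin t → Submodule F (Fin d ⊕ Fin d → F) // (Cfsg.Geo.IsMDecomposition a D ∧ (∀ j, ∀ u ∈ D j, u ≠ 0 → ∃ v ∈ D j, Cfsg.sympForm d F u v ≠ 0) ∧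
          (∀ j j', j ≠ j' → ∀ u ∈ D j, ∀ v ∈ D j', Cfsg.sympForm d F u v = 0))} / Nat.factorial t)
    (x : ↥(Matrix.symplecticGroup (Fin d) F))
    (hx1 : ∃ z : F, ((x ^ 2 : ↥(Matrix.symplecticGroup (Fin d) F)) : Matrix (Fin d ⊕ Fin d) (Fin d ⊕ Fin d) F) = z • (1 : Matrix (Fin d ⊕ Fin d) (Fin d ⊕ Fin d) F))
    (hx2 : ∀ z : F, (x : Matrix (Fin d ⊕ Fin d) (Fin d ⊕ Fin d) F) ≠ z • (1 : Matrix (Fin d ⊕ Fin d) (Fin d ⊕ Fin d) F)) :
    ∃ D : Fin t → Submodule F (Fin d ⊕ Fin d → F), (Cfsg.Geo.IsMDecomposition a D ∧ (∀ j, ∀ u ∈ D j, u ≠ 0 → ∃ v ∈ D j, Cfsg.sympForm d F u v ≠ 0) ∧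
          (∀ j j', j ≠ j' → ∀ u ∈ D j, ∀ v ∈ D j', Cfsg.sympForm d F u v = 0)) ∧
        ∃ σ : Equiv.Perm (Fin t), ∀ j, (D j).map (Matrix.toLin' (x : Matrix (Fin d ⊕ Fin d) (Fin d ⊕ Fin d) F)) = D (σ j) := by
  classical
  obtain ⟨z, hz⟩ := hx1
  obtain ⟨hz1, hx⟩ := sympB_sq (by omega) x hz
  obtain ⟨X, hX⟩ : ∃ X, X = Matrix.toLin' (x : Matrix (Fin d ⊕ Fin d) (Fin d ⊕ Fin d) F) := ⟨_, rfl⟩
  rw [← hX] at hx ⊢
  have hB : ∀ u w, sympB d F (X u) (X w) = sympB d F u w := by rw [hX]; exact sympB_toLin x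
  have hz0 : z ≠ 0 := by rcases hz1 with rfl | rfl <;> simp
  obtain ⟨ι, hι, hdι, π, e, f, b, hπ, hp, hR, hb⟩ := exists_planes (R := RPlane X) sympB_self hB hz0 hx
    (fun _ _ _ _ h => h) sympB_nondeg (fun Y hY hi hn => by
      by_cases h2 : (2 : F) = 0
      · refine step_two sympB_self hB h2 (fun w => ?_) Y hY hi hn
        rcases hz1 with rfl | rfl
        · rw [hx, one_smul]
        · rw [hx, show (-1 : F) = 1 by linear_combination -h2, one_smul]
      rcases hz1 with rfl | rfl
      · obtain ⟨κ, h1, h1', π', e', f', h3, h4, h5, h6⟩ :=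
          step_one sympB_self hB h2 (fun w => by rw [hx, one_smul]) Y hY hi hn
        exact ⟨κ, h1, h1', π', e', f', h3, h4, h5, fun l => rFix_plane (h6 l)⟩
      · obtain ⟨κ, h1, h1', π', e', f', h3, h4, h5, h6⟩ :=
          step_neg sympB_self hB h2 (fun w => by rw [hx, neg_one_smul]) Y hY hi hn
        exact ⟨κ, h1, h1', π', e', f', h3, h4, h5, fun l => rSwap_plane (h6 l)⟩)
  obtain ⟨a', ha'⟩ := hae
  have hcard : (Finset.univ : Finset ι).card = a' * t := by
    have h := Module.finrank_eq_card_basis b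
    rw [Module.finrank_fintype_fun_eq_card, Fintype.card_sum, Fintype.card_sum, Fintype.card_fin] at h
    rw [Finset.card_univ]
    have : a * t = a' * t + a' * t := by rw [ha']; ring
    omega
  letI : LinearOrder ι := LinearOrder.lift' (Fintype.equivFin ι) (Fintype.equivFin ι).injective
  obtain ⟨g, σ, hσ, hg, hgc⟩ := Cfsg.Agent.S5957.exists_labels π hπ (a := a') (by omega) t Finset.univ hcard
    (fun _ _ => Finset.mem_univ _)
  let gg : ι ⊕ ι → ℕ := Sum.elim g g
  let D : Fin t → Submodule F (Fin d ⊕ Fin d → F) := fun j => Submodule.span F (b '' {l | gg l = j})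
  let s : Equiv.Perm (Fin t) := Function.Involutive.toPerm (fun j => ⟨σ j, (hσ j j.2).1⟩)
    (fun j => Fin.ext (hσ j j.2).2)
  have hgg : ∀ l, gg l < t := by rintro (l | l) <;> exact (hg l (Finset.mem_univ _)).1
  have hbB : ∀ l m, gg l ≠ gg m → sympB d F (b l) (b m) = 0 := by
    rw [hb]
    rintro (l | l) (m | m) hne
    · exact (hp.2 l m).1
    · simp only [Sum.elim_inl, Sum.elim_inr, (hp.2 l m).2.2]
      rw [if_neg]; rintro rfl; exact hne rfl
    · simp only [Sum.elim_inl, Sum.elim_inr, form_swap_of_alt sympB_self (e m) (f l), (hp.2 m l).2.2]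
      rw [if_neg, neg_zero]; rintro rfl; exact hne rfl
    · exact (hp.2 l m).2.1
  have horth : ∀ (j : Fin t) (l : ι ⊕ ι), gg l ≠ (j : ℕ) → ∀ u ∈ D j, sympB d F u (b l) = 0 := by
    intro j l hl u hu
    have h : D j ≤ LinearMap.ker ((sympB d F).flip (b l)) := by
      rw [Submodule.span_le]
      rintro _ ⟨m, hm, rfl⟩
      exact hbB m l (by rw [show gg m = (j : ℕ) from hm]; exact Ne.symm hl)
    exact h hu
  refine ⟨D, ⟨⟨ht, by omega, fun j => ?_, ?_, ?_⟩, fun j u hu hu0 => ?_, fun j j' hne u hu v hv => ?_⟩, s, fun j => ?_⟩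
  · show Module.finrank F (Submodule.span F (b '' {l | gg l = (j : ℕ)})) = a
    rw [Set.image_eq_range]
    have h : LinearIndependent F (fun l : {l // gg l = (j : ℕ)} => b l.1) :=
      b.linearIndependent.comp _ Subtype.val_injective
    refine (finrank_span_eq_card h).trans ?_
    have hc : Fintype.card {l : ι // g l = (j : ℕ)} = a' := by rw [Fintype.card_subtype]; exact hgc j j.2
    rw [Fintype.card_congr (Equiv.subtypeSum (p := fun l => gg l = (j : ℕ))), Fintype.card_sum, ha']
    exact congrArg₂ (· + ·) hc hc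
  · intro j
    refine (b.linearIndependent.disjoint_span_image (s := {l | gg l = (j : ℕ)}) (t := {l | gg l ≠ (j : ℕ)})
      (Set.disjoint_left.mpr fun l h1 h2 => h2 h1)).mono_right
      (iSup₂_le fun k hk => Submodule.span_mono (Set.image_mono fun l hl => ?_))
    show gg l ≠ (j : ℕ)
    intro h; exact hk (Fin.ext (hl.symm.trans h))
  · rw [← top_le_iff, ← b.span_eq, Submodule.span_le]
    rintro _ ⟨l, rfl⟩
    exact Submodule.mem_iSup_of_mem ⟨gg l, hgg l⟩ (Submodule.subset_span ⟨l, rfl, rfl⟩)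
  · by_contra h
    push_neg at h
    refine hu0 (sympB_nondeg u fun w => ?_)
    have hall : (⊤ : Submodule F (Fin d ⊕ Fin d → F)) ≤ LinearMap.ker (sympB d F u) := by
      rw [← b.span_eq, Submodule.span_le]
      rintro _ ⟨l, rfl⟩
      by_cases hl : gg l = (j : ℕ)
      · exact h _ (Submodule.subset_span ⟨l, hl, rfl⟩)
      · exact horth j l hl u hu
    exact hall (Submodule.mem_top (x := w))
  · have h : D j' ≤ LinearMap.ker (sympB d F u) := by
      rw [Submodule.span_le]
      rintro _ ⟨l, hl, rfl⟩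
      exact horth j l (fun h => hne (Fin.ext (h.symm.trans hl))) u hu
    exact h hv
  · have key : ∀ i k : ℕ, σ i = k →
        (Submodule.span F (b '' {l | gg l = i})).map X ≤ Submodule.span F (b '' {l | gg l = k}) := by
      intro i k hik
      rw [Submodule.map_span, Submodule.span_le]
      have hin : ∀ (l : ι) (a c : F), g l = i →
          a • e (π l) + c • f (π l) ∈ Submodule.span F (b '' {l | gg l = k}) := by
        intro l a c hl
        have hk : g (π l) = k := by rw [(hg l (Finset.mem_univ _)).2, hl, hik]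
        exact Submodule.add_mem _
          (Submodule.smul_mem _ _ (Submodule.subset_span ⟨Sum.inl (π l), hk, by rw [hb]; rfl⟩))
          (Submodule.smul_mem _ _ (Submodule.subset_span ⟨Sum.inr (π l), hk, by rw [hb]; rfl⟩))
      rintro _ ⟨_, ⟨l | l, hl, rfl⟩, rfl⟩
      · obtain ⟨a, c, h⟩ := (hR l).1
        rw [show b (Sum.inl l) = e l by rw [hb]; rfl, SetLike.mem_coe, h]
        exact hin l a c hl
      · obtain ⟨a, c, h⟩ := (hR l).2
        rw [show b (Sum.inr l) = f l by rw [hb]; rfl, SetLike.mem_coe, h]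
        exact hin l a c hl
    refine le_antisymm (key j (σ j) rfl) fun w hw => ⟨z⁻¹ • X w,
      (D j).smul_mem _ (key (σ j) j (hσ j j.2).2 ⟨w, hw, rfl⟩), ?_⟩
    rw [map_smul, hx, smul_smul, inv_mul_cancel₀ hz0, one_smul]

end Cfsg.Agent.S5960
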