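import Cfsg.Statements.S5961
import Cfsg.Agent.Lib.Classical.Elusive.SpImprim
import Cfsg.Agent.Lib.Classical.Elusive.OrthFreeIff
import Cfsg.Agent.Lib.Classical.Elusive.Cases

set_option autoImplicit false
open scoped MatrixGroups
open Cfsg

namespace Cfsg.Agent.S5961

open Cfsg.Agent.Classical

/-- Elements of odd prime order of PSp_n(q) and imprimitive subgroups. Here `T = PSp_n(q)`, `n = 2d ≥ 4`, `(n, q) ≠ (4, 2)`, realised through the symplectic matrices over the field `F` with `q` elements and the standard alternating form; `n = a·t` with `a` even and `t ≥ 2`, and Ω is the (nonempty) set of orthogonal decompositions of `F^n` into `t` nondegenerate subspaces of dimension `a` (unordered; counted as ordered ones divided by `t!`), whose stabilizers are the imprimitive subgroups of type Sp_a(q) ≀ S_t (maximality is not assumed); an element of `T` of prime order `r` (a symplectic matrix `x` with `x^r` scalar, `x` not scalar) fixes a point of Ω when it permutes the summands of some such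 decomposition. Let `r ≠ p` be an odd prime dividing the number of such decompositions, let `i` be the multiplicative order of `q` modulo `r`, `c = i` if `i` is even and `c = 2i` if `i` is odd, and write `k = n mod c`, `ℓ = a mod c`. Then every element of `T` of order `r` stabilizes such a decomposition if and only if `c ≤ a` and `k = t·ℓ`. -/
theorem result {F : Type*} [Field F] [Fintype F] {p : ℕ} [Fact p.Prime] [CharP F p] {q : ℕ} (hq : Fintype.card F = q)
    (d : ℕ) (hd : 2 ≤ d) (hT : (d, q) ≠ (2, 2))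
    (a t : ℕ) (hat : 2 * d = a * t) (ha : 2 ≤ a) (hae : Even a) (ht : 2 ≤ t)
    (r : ℕ) [Fact r.Prime] (hr2 : r ≠ 2) (hrp : r ≠ p) (hΩ : r ∣ Nat.card {D : Fin t → Submodule F (Fin d ⊕ Fin d → F) // (Cfsg.Geo.IsMDecomposition a D ∧ (∀ j, ∀ u ∈ D j, u ≠ 0 → ∃ v ∈ D j, Cfsg.sympForm d F u v ≠ 0) ∧
          (∀ j j', j ≠ j' → ∀ u ∈ D j, ∀ v ∈ D j', Cfsg.sympForm d F u v = 0))} / Nat.factorial t)
    (i c : ℕ) (hi : i = orderOf (q : ZMod r)) (hc : c = if Even i then i else 2 * i) :
    (∀ x : ↥(Matrix.symplecticGroup (Fin d) F),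
      (∃ z : F, ((x ^ r : ↥(Matrix.symplecticGroup (Fin d) F)) : Matrix (Fin d ⊕ Fin d) (Fin d ⊕ Fin d) F) = z • (1 : Matrix (Fin d ⊕ Fin d) (Fin d ⊕ Fin d) F)) →
      (∀ z : F, (x : Matrix (Fin d ⊕ Fin d) (Fin d ⊕ Fin d) F) ≠ z • (1 : Matrix (Fin d ⊕ Fin d) (Fin d ⊕ Fin d) F)) →
      ∃ D : Fin t → Submodule F (Fin d ⊕ Fin d → F), (Cfsg.Geo.IsMDecomposition a D ∧ (∀ j, ∀ u ∈ D j, u ≠ 0 → ∃ v ∈ D j, Cfsg.sympForm d F u v ≠ 0) ∧
          (∀ j j', j ≠ j' → ∀ u ∈ D j, ∀ v ∈ D j', Cfsg.sympForm d F u v = 0)) ∧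
        ∃ σ : Equiv.Perm (Fin t), ∀ j, (D j).map (Matrix.toLin' (x : Matrix (Fin d ⊕ Fin d) (Fin d ⊕ Fin d) F)) = D (σ j)) ↔
    (c ≤ a ∧ (2 * d) % c = t * (a % c)) := by
  classical
  subst hq
  obtain ⟨hcu, hiu⟩ := Elusive.OFree.unit_eq (F := F) rfl hi hc
  have hr : r.Prime := Fact.out
  have hB : SpCount.IsAltND (Elusive.sympB d F) := Elusive.TsSymp.std_alt
  have hV : Module.finrank F (Fin d ⊕ Fin d → F) = 2 * d := Elusive.TsSymp.finrank_std
  have hr0 : (r : F) ≠ 0 := Elusive.cast_ne_zero (F := F) hrp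
  obtain ⟨hipos, hcpos, hceven⟩ := Elusive.OFree.unit_pos (F := F) hr hr0
  rw [← hcu] at hcpos hceven
  rw [← hiu] at hipos
  obtain ⟨h, hh⟩ := even_iff_two_dvd.mp hae
  obtain ⟨l, hl, hrl⟩ := Elusive.SpNd.prime_dvd_decomp (p := p) (F := F) (d := d) ht hh (by omega) hat hr hrp
    (hΩ.trans (Nat.div_dvd_of_dvd Elusive.SpNd.factorial_dvd))
  have hil : i ∣ 2 * (d - l) := by
    rw [hi]
    exact (Elusive.orderOf_dvd_iff' (F := F) _).mp hrl
  have hcl : c ∣ 2 * (d - l) := by
    rw [hc]
    split_ifs with he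
    · exact hil
    · exact Nat.mul_dvd_mul_left 2
        ((Nat.Coprime.dvd_mul_left (Nat.coprime_two_right.mpr (Nat.not_even_iff_odd.mp he))).mp hil)
  have hcn : c ≤ 2 * d := (Nat.le_of_dvd (by omega) hcl).trans (by omega)
  have hcr : c ≤ r - 1 := by
    have h1 : i ∣ r - 1 := by
      rw [hi]
      refine ZMod.orderOf_dvd_card_sub_one fun h0 => ?_
      rw [hi, h0, orderOf_zero] at hipos
      exact lt_irrefl 0 hipos
    have hr3 := hr.two_le
    refine Nat.le_of_dvd (by omega) ?_
    rw [hc]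
    split_ifs with he
    · exact h1
    · refine Nat.Coprime.mul_dvd_of_dvd_of_dvd (Nat.coprime_two_left.mpr (Nat.not_even_iff_odd.mp he)) ?_ h1
      exact even_iff_two_dvd.mp ((hr.odd_of_ne_two hr2).tsub_odd odd_one)
  constructor
  · intro H
    by_contra hcon
    -- an element of order `r` with moved space of the given size
    have main : ∀ N A : ℕ, c * N + 2 * A = 2 * d → 0 < c * N →
        (∀ g : Module.End F (Fin d ⊕ Fin d → F), Elusive.Free.IsTame (Elusive.sympB d F) g r →
          Module.finrank F (Elusive.Free.fixSpace g) = 2 * A →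
          ∀ D : Fin t → Submodule F (Fin d ⊕ Fin d → F), Elusive.SpNd.IsDec a D → ∀ σ : Equiv.Perm (Fin t),
            (∀ j, (D j).map g = D (σ j)) → False) → False := by
      intro N A hd' hN hbad
      obtain ⟨x, hx, hxs, htame, hfix⟩ := Elusive.SpNd.exists_tame_element (F := F) (d := d) (r := r) (N := N)
        (a := A) hr hr2 hr0 (by rw [← hcu]; exact hd') (by rw [← hcu]; exact hN)
      obtain ⟨D, hD, σ, hσ⟩ := H x hx hxs
      exact hbad _ htame hfix D hD σ hσ
    have common : ∀ g : Module.End F (Fin d ⊕ Fin d → F), Elusive.Free.IsTame (Elusive.sympB d F) g r →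
        ∀ D : Fin t → Submodule F (Fin d ⊕ Fin d → F), Elusive.SpNd.IsDec a D → ∀ σ : Equiv.Perm (Fin t),
          (∀ j, (D j).map g = D (σ j)) → (∀ j, σ j = j) ∨
            (a ≤ Module.finrank F (Elusive.Free.fixSpace g) ∧
              (r - 1) * a + Module.finrank F (Elusive.Free.fixSpace g) ≤ 2 * d) := by
      intro g htame D hD σ hσ
      refine or_iff_not_imp_left.mpr fun hne => ?_
      push Not at hne
      obtain ⟨j, hj⟩ := hne
      obtain ⟨h1, h2⟩ := Elusive.SpNd.moved_summand hB hr htame (fun j => Elusive.SpNd.nd_of (hD.2.1 j))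
        (fun j hbot => by
          have := hD.1.finrank_eq j
          rw [hbot, finrank_bot] at this
          omega) hD.2.2 hσ hj
      rw [hD.1.finrank_eq j] at h1 h2
      have h3 := Submodule.finrank_add_eq_of_isCompl htame.isCompl
      rw [hV] at h3
      exact ⟨h1, by omega⟩
    obtain ⟨w, hw⟩ : Even c := hceven
    by_cases hca : c ≤ a
    · -- the largest moved space
      have hk : ¬ (2 * d) % c = t * (a % c) := fun e => hcon ⟨hca, e⟩
      have hdm := Nat.div_add_mod (2 * d) c
      obtain ⟨A, hA⟩ : Even (2 * d % c) := Nat.even_iff.mpr (by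
        rw [Nat.mod_mod_of_dvd _ (even_iff_two_dvd.mp ⟨w, hw⟩)]; omega)
      have hlt := Nat.mod_lt (2 * d) hcpos
      refine main (2 * d / c) A (by omega) (Nat.mul_pos hcpos ((Nat.one_le_div_iff hcpos).mpr hcn)) ?_
      intro g htame hfix D hD σ hσ
      rcases common g htame D hD σ hσ with hσ1 | ⟨h1, -⟩
      swap
      · omega
      have hinv : ∀ j, ∀ v ∈ D j, g v ∈ D j := fun j v hv => by
        have := hσ j
        rw [hσ1 j] at this
        exact this.le ⟨v, hv, rfl⟩
      have hb : ∀ j, Module.finrank F ↥(D j ⊓ Elusive.Free.fixSpace g) = a % c := fun j => by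
        obtain ⟨m, hm⟩ := Elusive.SpNd.tame_dim_eq hB hr hr2 htame (Elusive.SpNd.nd_of (hD.2.1 j)) (hinv j)
        rw [hD.1.finrank_eq j, ← hcu] at hm
        have hle := Submodule.finrank_mono (inf_le_right : D j ⊓ Elusive.Free.fixSpace g ≤ Elusive.Free.fixSpace g)
        rw [hm, Nat.mul_add_mod, Nat.mod_eq_of_lt (by omega)]
      have hsum := Elusive.SpNd.sum_finrank_le (fun j => Elusive.SpNd.nd_of (hD.2.1 j)) hD.2.2
        (E := fun j => D j ⊓ Elusive.Free.fixSpace g) (fun _ => inf_le_left) (fun _ => inf_le_right)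
      simp only [hb, Finset.sum_const, Finset.card_univ, Fintype.card_fin, smul_eq_mul] at hsum
      refine hk ?_
      have hlt' : t * (a % c) < c := by omega
      rw [hat, mul_comm a t, ← Nat.mul_mod_mod t a, Nat.mod_eq_of_lt hlt']
    · -- a single unit
      refine main 1 (d - w) (by omega) (by omega) ?_
      intro g htame hfix D hD σ hσ
      rcases common g htame D hD σ hσ with hσ1 | ⟨-, h2⟩
      · have hle : ∀ j, D j ≤ Elusive.Free.fixSpace g := fun j => by
          have hinv : ∀ v ∈ D j, g v ∈ D j := fun v hv => by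
            have := hσ j
            rw [hσ1 j] at this
            exact this.le ⟨v, hv, rfl⟩
          obtain ⟨m, hm⟩ := Elusive.SpNd.tame_dim_eq hB hr hr2 htame (Elusive.SpNd.nd_of (hD.2.1 j)) hinv
          rw [hD.1.finrank_eq j, ← hcu] at hm
          have hm0 : m = 0 := by
            by_contra hne
            have := Nat.le_mul_of_pos_right c (Nat.pos_of_ne_zero hne)
            omega
          rw [hm0, mul_zero, zero_add] at hm
          exact inf_eq_left.mp (Submodule.eq_of_le_of_finrank_eq inf_le_left (hm.symm.trans (hD.1.finrank_eq j).symm))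
        have := Submodule.finrank_mono (hD.1.iSup_eq_top.ge.trans (iSup_le hle))
        rw [finrank_top, hV, hfix] at this
        omega
      · have hr1 : (r - 1) * 2 ≤ (r - 1) * a := Nat.mul_le_mul_left _ ha
        omega
  · rintro ⟨-, hk⟩ x ⟨z, hz⟩ -
    haveI : Nonempty (Fin d ⊕ Fin d) := ⟨Sum.inl ⟨0, by omega⟩⟩
    obtain ⟨u, hu⟩ := exists_ne (0 : Fin d ⊕ Fin d → F)
    obtain ⟨v, hv⟩ : ∃ v, Elusive.sympB d F u v ≠ 0 := by
      by_contra hc'
      push Not at hc'
      exact hu (hB.nondeg u hc')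
    have hz2 : z * z = 1 := by
      have e := Elusive.sympB_toLin (x ^ r) u v
      rw [Elusive.SpNd.toLin_scalar hz, Elusive.SpNd.toLin_scalar hz, map_smul, map_smul, LinearMap.smul_apply,
        smul_eq_mul, smul_eq_mul, ← mul_assoc] at e
      exact mul_right_cancel₀ hv (e.trans (one_mul _).symm)
    obtain ⟨X, hX⟩ : ∃ X, X = Matrix.toLin' (x : Matrix (Fin d ⊕ Fin d) (Fin d ⊕ Fin d) F) := ⟨_, rfl⟩
    have hXr : ∀ w, (X ^ r) w = z • w := fun w => by
      rw [← Elusive.SpNd.toLin_scalar hz, SubmonoidClass.coe_pow, Matrix.toLin'_pow, hX]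
    have htame : Elusive.Free.IsTame (Elusive.sympB d F) (z • X) r := by
      obtain ⟨j, hj⟩ := hr.odd_of_ne_two hr2
      refine ⟨hr0, LinearMap.ext fun w => ?_, fun a b => ?_⟩
      · rw [smul_pow, LinearMap.smul_apply, hXr, smul_smul, ← pow_succ, hj,
          show 2 * j + 1 + 1 = 2 * (j + 1) by omega, pow_mul, pow_two, hz2, one_pow, one_smul]
        rfl
      · rw [LinearMap.smul_apply, LinearMap.smul_apply, map_smul, map_smul, LinearMap.smul_apply, smul_eq_mul,
          smul_eq_mul, ← mul_assoc, hz2, one_mul, hX, Elusive.sympB_toLin]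
    obtain ⟨D, hD, hDo⟩ := Elusive.SpNd.exists_decomp hB hr hr2 htame hae (hcu ▸ hcpos) (hcu ▸ hceven) t ⊤
      (Elusive.SpNd.nd_top hB) (fun _ _ => trivial) (by rw [finrank_top, hV, hat]) (by
        rw [← hcu, ← hk]; exact Nat.mod_lt _ hcpos)
    refine ⟨D, Elusive.SpNd.isDec_of ht (by omega) hat (fun j => (hD j).2.1) (fun j => (hD j).2.2.2) hDo,
      Equiv.refl _, fun j => ?_⟩
    rw [← hX, Equiv.refl_apply]
    have hinj : Function.Injective X := Elusive.SpNd.iso_injective hB fun a b => by rw [hX, Elusive.sympB_toLin]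
    refine Submodule.eq_of_le_of_finrank_eq ?_ ((Submodule.equivMapOfInjective X hinj (D j)).finrank_eq.symm)
    rintro _ ⟨w, hw, rfl⟩
    have := (D j).smul_mem z ((hD j).2.2.1 w hw)
    rwa [LinearMap.smul_apply, smul_smul, hz2, one_smul] at this

end Cfsg.Agent.S5961
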