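import Cfsg.Statements.S5962
import Cfsg.Agent.Lib.Classical.Elusive.SympSetup
-- import your own Cfsg.Agent.* helpers here

set_option autoImplicit false
open scoped MatrixGroups
open Cfsg

namespace Cfsg.Agent.S5962

open Cfsg.Agent.Classical.Elusive

theorem isotropic_span {F V : Type*} [Field F] [AddCommGroup V] [Module F V] {B : V →ₗ[F] V →ₗ[F] F} {ι : Type*}
    {e : ι → V} (h : ∀ l m, B (e l) (e m) = 0) :
    ∀ u ∈ Submodule.span F (Set.range e), ∀ v ∈ Submodule.span F (Set.range e), B u v = 0 := by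
  intro u hu v hv
  have h1 : Submodule.span F (Set.range e) ≤ LinearMap.ker (B.flip v) := by
    rw [Submodule.span_le]
    rintro _ ⟨l, rfl⟩
    have h2 : Submodule.span F (Set.range e) ≤ LinearMap.ker (B (e l)) := by
      rw [Submodule.span_le]
      rintro _ ⟨m, rfl⟩
      exact h l m
    exact h2 hv
  exact h1 hu

theorem map_span_le {F V : Type*} [Field F] [AddCommGroup V] [Module F V] {ι : Type*} {x : Module.End F V}
    {e f : ι → V} (h : ∀ l, ∃ a : F, x (e l) = a • f l) :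
    (Submodule.span F (Set.range e)).map x ≤ Submodule.span F (Set.range f) := by
  rw [Submodule.map_span, Submodule.span_le]
  rintro _ ⟨_, ⟨l, rfl⟩, rfl⟩
  obtain ⟨a, ha⟩ := h l
  rw [ha]
  exact Submodule.smul_mem _ _ (Submodule.subset_span ⟨l, rfl⟩)

theorem map_eq_of_le {F V : Type*} [Field F] [AddCommGroup V] [Module F V] {x : Module.End F V} {c : F}
    (hc : c ≠ 0) (hx : ∀ w, x (x w) = c • w) {U W : Submodule F V} (h : U.map x ≤ W) (h' : W.map x ≤ U) :
    U.map x = W := by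
  refine le_antisymm h fun w hw => ⟨c⁻¹ • x w, U.smul_mem _ (h' ⟨w, hw, rfl⟩), ?_⟩
  rw [map_smul, hx, smul_smul, inv_mul_cancel₀ hc, one_smul]


/-- Involutions of PSp_n(q), q odd, and the subgroups GL_{n/2}(q).2. Here `T = PSp_n(q)`, `n = 2d ≥ 4`, `q` odd, realised through the symplectic matrices over the field `F` with `q` elements; Ω is the set of unordered pairs `{U, W}` of complementary totally isotropic `d`-spaces (`F^n = U ⊕ W`), whose stabilizers are the subgroups of type GL_d(q).2 (maximal except in some small cases; maximality is not assumed); an element of `T` of prime order `r` (a symplectic matrix `x` with `x^r` scalar, `x` not scalar) fixes such a pair when it fixes or interchanges `U` and `W`. If the number of such pairs is even, every involution of `T` fixes one of them (the action is 2-elusive). -/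
theorem result {F : Type*} [Field F] [Fintype F] {p : ℕ} [Fact p.Prime] [CharP F p] {q : ℕ} (hq : Fintype.card F = q)
    (d : ℕ) (hd : 2 ≤ d) (hT : (d, q) ≠ (2, 2)) (hodd : Odd q)
    (hΩ : 2 ∣ Nat.card {P : Submodule F (Fin d ⊕ Fin d → F) × Submodule F (Fin d ⊕ Fin d → F) // IsCompl P.1 P.2 ∧ (∀ u ∈ P.1, ∀ v ∈ P.1, Cfsg.sympForm d F u v = 0) ∧ (∀ u ∈ P.2, ∀ v ∈ P.2, Cfsg.sympForm d F u v = 0)} / 2)
    (x : ↥(Matrix.symplecticGroup (Fin d) F))
    (hx1 : ∃ z : F, ((x ^ 2 : ↥(Matrix.symplecticGroup (Fin d) F)) : Matrix (Fin d ⊕ Fin d) (Fin d ⊕ Fin d) F) = z • (1 : Matrix (Fin d ⊕ Fin d) (Fin d ⊕ Fin d) F))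
    (hx2 : ∀ z : F, (x : Matrix (Fin d ⊕ Fin d) (Fin d ⊕ Fin d) F) ≠ z • (1 : Matrix (Fin d ⊕ Fin d) (Fin d ⊕ Fin d) F)) :
    ∃ U W : Submodule F (Fin d ⊕ Fin d → F), IsCompl U W ∧ (∀ u ∈ U, ∀ v ∈ U, Cfsg.sympForm d F u v = 0) ∧ (∀ u ∈ W, ∀ v ∈ W, Cfsg.sympForm d F u v = 0) ∧
        ((U.map (Matrix.toLin' (x : Matrix (Fin d ⊕ Fin d) (Fin d ⊕ Fin d) F)) = U ∧ W.map (Matrix.toLin' (x : Matrix (Fin d ⊕ Fin d) (Fin d ⊕ Fin d) F)) = W) ∨
         (U.map (Matrix.toLin' (x : Matrix (Fin d ⊕ Fin d) (Fin d ⊕ Fin d) F)) = W ∧ W.map (Matrix.toLin' (x : Matrix (Fin d ⊕ Fin d) (Fin d ⊕ Fin d) F)) = U)) := by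
  classical
  obtain ⟨z, hz⟩ := hx1
  obtain ⟨hz1, hx⟩ := sympB_sq (by omega) x hz
  obtain ⟨X, hX⟩ : ∃ X, X = Matrix.toLin' (x : Matrix (Fin d ⊕ Fin d) (Fin d ⊕ Fin d) F) := ⟨_, rfl⟩
  rw [← hX] at hx ⊢
  have h2 : (2 : F) ≠ 0 := Ring.two_ne_zero fun hc => by
    have := FiniteField.even_card_of_char_two hc
    rw [hq] at this
    have := Nat.odd_iff.mp hodd
    omega
  have hB : ∀ u w, sympB d F (X u) (X w) = sympB d F u w := by rw [hX]; exact sympB_toLin x
  have hz0 : z ≠ 0 := by rcases hz1 with rfl | rfl <;> simp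
  have key : ∃ (ι : Type) (e f : ι → (Fin d ⊕ Fin d → F)) (b : Module.Basis (ι ⊕ ι) F (Fin d ⊕ Fin d → F)),
      ⇑b = Sum.elim e f ∧ (∀ l m, sympB d F (e l) (e m) = 0) ∧ (∀ l m, sympB d F (f l) (f m) = 0) ∧
      ((∀ l, (∃ a : F, X (e l) = a • e l) ∧ ∃ a : F, X (f l) = a • f l) ∨
       (∀ l, (∃ a : F, X (e l) = a • f l) ∧ ∃ a : F, X (f l) = a • e l)) := by
    rcases hz1 with rfl | rfl
    · obtain ⟨ι, hι, hdι, π, e, f, b, -, hp, hR, hb⟩ := exists_planes (R := RFix X) sympB_self hB hz0 hx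
        (fun _ _ _ _ h => rFix_plane h) sympB_nondeg
        (fun Y hY hi hn => step_one sympB_self hB h2 (fun w => by rw [hx, one_smul]) Y hY hi hn)
      exact ⟨ι, e, f, b, hb, fun l m => (hp.2 l m).1, fun l m => (hp.2 l m).2.1, Or.inl fun l => (hR l).2.2⟩
    · obtain ⟨ι, hι, hdι, π, e, f, b, -, hp, hR, hb⟩ := exists_planes (R := RSwap X) sympB_self hB hz0 hx
        (fun _ _ _ _ h => rSwap_plane h) sympB_nondeg
        (fun Y hY hi hn => step_neg sympB_self hB h2 (fun w => by rw [hx, neg_one_smul]) Y hY hi hn)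
      exact ⟨ι, e, f, b, hb, fun l m => (hp.2 l m).1, fun l m => (hp.2 l m).2.1, Or.inr fun l => (hR l).2.2⟩
  obtain ⟨ι, e, f, b, hb, he, hf, hmap⟩ := key
  refine ⟨Submodule.span F (Set.range e), Submodule.span F (Set.range f), ⟨?_, ?_⟩,
    isotropic_span he, isotropic_span hf, ?_⟩
  · have h := b.linearIndependent
    rw [hb, linearIndependent_sum] at h
    exact h.2.2
  · rw [codisjoint_iff, ← Submodule.span_union, ← Set.Sum.elim_range, ← hb]
    exact b.span_eq
  · rcases hmap with hm | hm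
    · exact Or.inl ⟨map_eq_of_le hz0 hx (map_span_le fun l => (hm l).1) (map_span_le fun l => (hm l).1),
        map_eq_of_le hz0 hx (map_span_le fun l => (hm l).2) (map_span_le fun l => (hm l).2)⟩
    · exact Or.inr ⟨map_eq_of_le hz0 hx (map_span_le fun l => (hm l).1) (map_span_le fun l => (hm l).2),
        map_eq_of_le hz0 hx (map_span_le fun l => (hm l).2) (map_span_le fun l => (hm l).1)⟩

end Cfsg.Agent.S5962
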