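import Cfsg.Statements.S5963
import Cfsg.Agent.Lib.Classical.Elusive.PolarPairs
import Cfsg.Agent.Lib.Classical.Elusive.Cases
import Cfsg.Agent.Lib.Small.SymplecticElems
-- import your own Cfsg.Agent.* helpers here

set_option autoImplicit false
open scoped MatrixGroups
open Cfsg

namespace Cfsg.Agent.S5963

open Cfsg.Agent.Classical.Elusive Module Matrix

theorem exists_dvd_sub_one {F : Type*} [Field F] [Fintype F] {W : Type*} [AddCommGroup W] [Module F W]
    [FiniteDimensional F W] {r : ℕ} [Fact r.Prime] (hr : ¬ r ∣ Fintype.card F) {g : Module.End F W}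
    (hg : g ^ r = 1) (hg1 : g ≠ 1) :
    ∃ j, 1 ≤ j ∧ j ≤ finrank F W ∧ r ∣ Fintype.card F ^ j - 1 := by
  classical
  have hu : IsUnit g := IsUnit.of_pow_eq_one hg (Nat.Prime.ne_zero Fact.out)
  obtain ⟨u, rfl⟩ := hu
  have hord : orderOf u = r := orderOf_eq_prime (Units.ext (by simpa using hg)) (fun h => hg1 (by simp [h]))
  let e := Units.mapEquiv (LinearMap.toMatrixAlgEquiv (Module.finBasis F W)).toRingEquiv.toMulEquiv
  have hdvd : r ∣ Nat.card (Matrix.GeneralLinearGroup (Fin (finrank F W)) F) := by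
    rw [← hord, ← MulEquiv.orderOf_eq e u]
    exact orderOf_dvd_natCard _
  rw [Matrix.card_GL_field] at hdvd
  obtain ⟨i, -, hi⟩ := (Prime.dvd_finset_prod_iff (Fact.out : r.Prime).prime _).mp hdvd
  refine ⟨finrank F W - (i : ℕ), by omega, by omega, ?_⟩
  have h : Fintype.card F ^ finrank F W - Fintype.card F ^ (i : ℕ) =
      Fintype.card F ^ (i : ℕ) * (Fintype.card F ^ (finrank F W - (i : ℕ)) - 1) := by
    rw [Nat.mul_sub_one, ← pow_add, Nat.add_sub_cancel' i.2.le]
  rw [h] at hi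
  exact ((Fact.out : r.Prime).dvd_mul.mp hi).resolve_left fun h => hr ((Fact.out : r.Prime).dvd_of_dvd_pow h)

theorem order_twice {r q i : ℕ} [Fact r.Prime] (hr2 : r ≠ 2) (hi : r ∣ q ^ i + 1)
    (hmin : ∀ k, k < i → ¬ r ∣ q ^ k + 1 ∨ k = 0) {j : ℕ} (hj : 1 ≤ j) (hd : r ∣ q ^ j - 1) (hq : 1 ≤ q) :
    2 * i ≤ j := by
  by_contra hlt
  have h1 : (q : ZMod r) ^ i = -1 := by
    rw [← add_eq_zero_iff_eq_neg]
    have := (CharP.cast_eq_zero_iff (ZMod r) r (q ^ i + 1)).mpr hi
    push_cast at this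
    exact this
  have h2 : (q : ZMod r) ^ j = 1 := by
    have := (CharP.cast_eq_zero_iff (ZMod r) r (q ^ j - 1)).mpr hd
    rw [Nat.cast_sub (Nat.one_le_pow _ _ hq), sub_eq_zero] at this
    exact_mod_cast this
  have hne : (-1 : ZMod r) ≠ 1 := by
    haveI : Fact (2 < r) := ⟨lt_of_le_of_ne (Fact.out : r.Prime).two_le (Ne.symm hr2)⟩
    exact ZMod.neg_one_ne_one
  have hback : ∀ k, 0 < k → k < i → (q : ZMod r) ^ k ≠ -1 := fun k hk hki h => by
    refine ((hmin k hki).resolve_right (by omega)) ((CharP.cast_eq_zero_iff (ZMod r) r (q ^ k + 1)).mp ?_)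
    push_cast
    rw [h, neg_add_cancel]
  rcases lt_trichotomy j i with h | h | h
  · apply hback (i - j) (by omega) (by omega)
    rw [← h1, ← mul_one ((q : ZMod r) ^ (i - j)), ← h2, ← pow_add, Nat.sub_add_cancel h.le]
  · exact hne (by rw [← h1, ← h, h2])
  · apply hback (j - i) (by omega) (by omega)
    have h3 : (q : ZMod r) ^ (j - i) * (q : ZMod r) ^ i = 1 := by rw [← pow_add, Nat.sub_add_cancel h.le, h2]
    rw [h1, mul_neg_one, neg_eq_iff_eq_neg] at h3
    exact h3

theorem irreducible_of_order {F : Type*} [Field F] [Fintype F] {W : Type*} [AddCommGroup W] [Module F W]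
    [FiniteDimensional F W] {r n : ℕ} [Fact r.Prime] (hr : ¬ r ∣ Fintype.card F) (hrF : (r : F) ≠ 0)
    (hn : finrank F W = n) (hord : ∀ j, 1 ≤ j → r ∣ Fintype.card F ^ j - 1 → n ≤ j)
    {g : Module.End F W} (hg : g ^ r = 1) (hg1 : g ≠ 1) (U : Submodule F W) (hU : ∀ u ∈ U, g u ∈ U) :
    U = ⊥ ∨ U = ⊤ := by
  have key : ∀ U : Submodule F W, ∀ hU : (∀ u ∈ U, g u ∈ U), g.restrict hU ≠ 1 → U = ⊤ := by
    intro U hU hne
    obtain ⟨j, hj, hjU, hd⟩ := exists_dvd_sub_one hr (g := g.restrict hU) (r := r) (by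
      ext u
      rw [Module.End.pow_restrict, LinearMap.restrict_coe_apply, hg]
      rfl) hne
    apply Submodule.eq_top_of_finrank_eq
    have := Submodule.finrank_le U
    have := hord j hj hd
    omega
  have hR : ∀ u ∈ LinearMap.range (g - 1), g u ∈ LinearMap.range (g - 1) := by
    rintro _ ⟨w, rfl⟩
    exact ⟨g w, by simp⟩
  have hfix : ∀ w, g w = w → w = 0 := by
    have htop : LinearMap.range (g - 1) = ⊤ := by
      apply key _ hR
      intro h
      apply hg1
      have hsq : ∀ w, g ((g - 1) w) = (g - 1) w := fun w =>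
        congrArg Subtype.val (LinearMap.congr_fun h ⟨(g - 1) w, w, rfl⟩)
      have hpow : ∀ (k : ℕ) w, (g ^ k) w = w + (k : F) • (g - 1) w := by
        intro k
        induction k with
        | zero => simp
        | succ k ih =>
          intro w
          rw [pow_succ', Module.End.mul_apply, ih, map_add, map_smul, hsq, Nat.cast_succ, add_smul, one_smul,
            show g w = w + (g - 1) w by simp]
          abel
      ext w
      have := hpow r w
      rw [hg, Module.End.one_apply, left_eq_add, smul_eq_zero, or_iff_right hrF] at this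
      rw [Module.End.one_apply]
      simpa [sub_eq_zero] using this
    intro w hw
    have hinj := LinearMap.ker_eq_bot_iff_range_eq_top.mpr htop
    exact LinearMap.ker_eq_bot'.mp hinj w (by simp [hw])
  by_cases h : g.restrict hU = 1
  · left
    rw [eq_bot_iff]
    intro u hu
    exact hfix u (congrArg Subtype.val (LinearMap.congr_fun h ⟨u, hu⟩))
  · exact Or.inr (key U hU h)


/-- Derangements of odd prime order of PSp_n(q), q odd, on pairs of complementary totally isotropic subspaces. Here `T = PSp_n(q)`, `n = 2d ≥ 4`, `q` odd, realised through the symplectic matrices over the field `F` with `q` elements; Ω is the set of unordered pairs `{U, W}` of complementary totally isotropic `d`-spaces (`F^n = U ⊕ W`), whose stabilizers are the subgroups of type GL_d(q).2 (maximal except in some small cases; maximality is not assumed); an element of `T` of prime order `r` (a symplectic matrix `x` with `x^r` scalar, `x` not scalar) fixes such a pair when it fixes or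 interchanges `U` and `W`. For every odd prime `r ≠ p` dividing the number of such pairs, some element of `T` of order `r` fixes no such pair (the action is never `r`-elusive for odd `r ≠ p`). -/
theorem result {F : Type*} [Field F] [Fintype F] {p : ℕ} [Fact p.Prime] [CharP F p] {q : ℕ} (hq : Fintype.card F = q)
    (d : ℕ) (hd : 2 ≤ d) (hT : (d, q) ≠ (2, 2)) (hodd : Odd q)
    (r : ℕ) [Fact r.Prime] (hr2 : r ≠ 2) (hrp : r ≠ p) (hΩ : r ∣ Nat.card {P : Submodule F (Fin d ⊕ Fin d → F) × Submodule F (Fin d ⊕ Fin d → F) // IsCompl P.1 P.2 ∧ (∀ u ∈ P.1, ∀ v ∈ P.1, Cfsg.sympForm d F u v = 0) ∧ (∀ u ∈ P.2, ∀ v ∈ P.2, Cfsg.sympForm d F u v = 0)} / 2) :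
    ∃ x : ↥(Matrix.symplecticGroup (Fin d) F),
      (∃ z : F, ((x ^ r : ↥(Matrix.symplecticGroup (Fin d) F)) : Matrix (Fin d ⊕ Fin d) (Fin d ⊕ Fin d) F) = z • (1 : Matrix (Fin d ⊕ Fin d) (Fin d ⊕ Fin d) F)) ∧
      (∀ z : F, (x : Matrix (Fin d ⊕ Fin d) (Fin d ⊕ Fin d) F) ≠ z • (1 : Matrix (Fin d ⊕ Fin d) (Fin d ⊕ Fin d) F)) ∧
      ¬ (∃ U W : Submodule F (Fin d ⊕ Fin d → F), IsCompl U W ∧ (∀ u ∈ U, ∀ v ∈ U, Cfsg.sympForm d F u v = 0) ∧ (∀ u ∈ W, ∀ v ∈ W, Cfsg.sympForm d F u v = 0) ∧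
        ((U.map (Matrix.toLin' (x : Matrix (Fin d ⊕ Fin d) (Fin d ⊕ Fin d) F)) = U ∧ W.map (Matrix.toLin' (x : Matrix (Fin d ⊕ Fin d) (Fin d ⊕ Fin d) F)) = W) ∨
         (U.map (Matrix.toLin' (x : Matrix (Fin d ⊕ Fin d) (Fin d ⊕ Fin d) F)) = W ∧ W.map (Matrix.toLin' (x : Matrix (Fin d ⊕ Fin d) (Fin d ⊕ Fin d) F)) = U))) := by
  classical
  have hrpr : r.Prime := Fact.out
  have hrF : (r : F) ≠ 0 := cast_ne_zero hrp
  have hrq : ¬ r ∣ Fintype.card F := by
    intro h
    obtain ⟨k, hp, hk⟩ := FiniteField.card F p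
    rw [hk] at h
    exact hrp ((Nat.prime_dvd_prime_iff_eq hrpr Fact.out).mp (hrpr.dvd_of_dvd_pow h))
  have hrN : r ∣ ∏ i ∈ Finset.range d, (Fintype.card F ^ (i + 1) + 1) := by
    have hN := card_polar (F := F) (d := d)
    have hdN : Nat.card {P : Submodule F (Fin d ⊕ Fin d → F) × Submodule F (Fin d ⊕ Fin d → F) // IsPolar P} % 2 = 0 := by
      have hqo : Odd (Fintype.card F) := hq ▸ hodd
      have he : 2 ∣ Fintype.card F ^ (d ^ 2) * ∏ i ∈ Finset.range d, (Fintype.card F ^ (i + 1) + 1) :=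
        ((hqo.pow (n := 0 + 1)).add_one.two_dvd).trans
          ((Finset.dvd_prod_of_mem (fun i => Fintype.card F ^ (i + 1) + 1) (Finset.mem_range.mpr (show 0 < d by omega))).trans
            (dvd_mul_left _ _))
      rw [← hN] at he
      have : ¬ 2 ∣ ∏ i ∈ Finset.range d, Fintype.card F ^ i := fun h => by
        obtain ⟨i, -, hi⟩ := (Prime.dvd_finset_prod_iff Nat.prime_two.prime _).mp h
        exact (Nat.not_even_iff_odd.mpr hqo.pow) (even_iff_two_dvd.mpr hi)
      have := ((Nat.prime_two.dvd_mul).mp he).resolve_right this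
      omega
    have hdiv : r ∣ Nat.card {P : Submodule F (Fin d ⊕ Fin d → F) × Submodule F (Fin d ⊕ Fin d → F) // IsPolar P} :=
      hΩ.trans (Nat.div_dvd_of_dvd (Nat.dvd_of_mod_eq_zero hdN))
    have := hdiv.mul_right (∏ i ∈ Finset.range d, Fintype.card F ^ i)
    rw [hN] at this
    exact (hrpr.dvd_mul.mp this).resolve_left fun h => hrq (hrpr.dvd_of_dvd_pow h)
  obtain ⟨i₀, hi₀, hri₀⟩ := (Prime.dvd_finset_prod_iff hrpr.prime _).mp hrN
  rw [Finset.mem_range] at hi₀
  have hex : ∃ k, 1 ≤ k ∧ r ∣ Fintype.card F ^ k + 1 := ⟨i₀ + 1, by omega, hri₀⟩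
  obtain ⟨i, hi⟩ : ∃ i, i = Nat.find hex := ⟨_, rfl⟩
  obtain ⟨hi1, hri⟩ := hi ▸ Nat.find_spec hex
  have hid : i ≤ d := by
    have := Nat.find_le (h := hex) ⟨show 1 ≤ i₀ + 1 by omega, hri₀⟩
    omega
  have hord : ∀ j, 1 ≤ j → r ∣ Fintype.card F ^ j - 1 → 2 * i ≤ j := fun j hj hd =>
    order_twice hr2 hri (fun k hk => by
      by_cases hk0 : k = 0
      · exact Or.inr hk0
      · exact Or.inl fun h => Nat.find_min hex (hi ▸ hk) ⟨by omega, h⟩) hj hd Fintype.card_pos
  have hcard : r ∣ Nat.card (symplecticGroup (Fin i) F) := by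
    rw [Cfsg.Agent.Classical.SpCount.card_symplecticGroup]
    refine Dvd.dvd.mul_left ?_ _
    refine Dvd.dvd.trans ?_ (Finset.dvd_prod_of_mem _ (Finset.mem_range.mpr (show i - 1 < i by omega)))
    rw [Nat.sub_add_cancel hi1, mul_comm, pow_mul, ← one_pow 2, Nat.sq_sub_sq]
    exact hri.mul_right _
  obtain ⟨y, hy⟩ := exists_prime_orderOf_dvd_card' r hcard
  have hid' : i + (d - i) = d := by omega
  let x : symplecticGroup (Fin d) F := Cfsg.Agent.Small.spBlockHom F hid' (y, 1)
  obtain ⟨g, hgdef⟩ : ∃ g, g = Matrix.toLin' (y : Matrix (Fin i ⊕ Fin i) (Fin i ⊕ Fin i) F) := ⟨_, rfl⟩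
  obtain ⟨X, hX⟩ : ∃ X, X = Matrix.toLin' (x : Matrix (Fin d ⊕ Fin d) (Fin d ⊕ Fin d) F) := ⟨_, rfl⟩
  let E := Cfsg.Agent.Small.spIndex hid'
  let inc : (Fin i ⊕ Fin i → F) →ₗ[F] (Fin d ⊕ Fin d → F) :=
    { toFun := fun v => Sum.elim v (0 : Fin (d - i) ⊕ Fin (d - i) → F) ∘ E.symm
      map_add' := fun v w => by funext k; rcases h : E.symm k with l | l <;> simp [h]
      map_smul' := fun c v => by funext k; rcases h : E.symm k with l | l <;> simp [h] }
  have hXfun : ∀ w, X w = Sum.elim (g (fun l => w (E (Sum.inl l)))) (fun l => w (E (Sum.inr l))) ∘ E.symm := by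
    intro w
    rw [hX, hgdef, Matrix.toLin'_apply, Matrix.toLin'_apply, Cfsg.Agent.Small.coe_spBlockHom]
    show (Matrix.reindex E E (fromBlocks _ _ _ _)) *ᵥ w = _
    rw [Matrix.reindex_apply, Matrix.submatrix_mulVec_equiv, Equiv.symm_symm, fromBlocks_mulVec,
      Matrix.zero_mulVec, Matrix.zero_mulVec, add_zero, zero_add]
    show Sum.elim _ ((1 : Matrix _ _ F) *ᵥ _) ∘ _ = _
    rw [Matrix.one_mulVec]
    rfl
  have hxr : x ^ r = 1 := by
    show Cfsg.Agent.Small.spBlockHom F hid' (y, 1) ^ r = 1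
    rw [← map_pow, Prod.pow_mk, one_pow, ← hy, pow_orderOf_eq_one, ← Prod.one_eq_mk, map_one]
  have hy1 : y ≠ 1 := fun h => by
    rw [h, orderOf_one] at hy
    exact hrpr.ne_one hy.symm
  have hx1 : x ≠ 1 := fun h => hy1 (by
    have h' : Cfsg.Agent.Small.spBlockMat F hid' ((y : Matrix _ _ F), (1 : Matrix _ _ F)) =
        Cfsg.Agent.Small.spBlockMat F hid' 1 := by
      rw [map_one]
      exact congrArg Subtype.val h
    exact Subtype.ext (congrArg Prod.fst (Cfsg.Agent.Small.spBlockMat_injective hid' h')))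
  have hgr : g ^ r = 1 := by
    rw [hgdef, ← Matrix.toLin'_pow, ← SubmonoidClass.coe_pow, ← hy, pow_orderOf_eq_one]
    exact Matrix.toLin'_one
  have hg1 : g ≠ 1 := fun h => hy1 (Subtype.ext (Matrix.toLin'.injective (by rw [← hgdef, h]; exact Matrix.toLin'_one.symm)))
  have hirr := fun U hU => irreducible_of_order hrq hrF
    (show finrank F (Fin i ⊕ Fin i → F) = 2 * i by rw [finrank_fintype_fun_eq_card, Fintype.card_sum, Fintype.card_fin, two_mul])
    hord hgr hg1 U hU
  refine ⟨x, ⟨1, by rw [hxr, one_smul]; rfl⟩, fun z hz => ?_, ?_⟩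
  · have hsq : ((x ^ 2 : symplecticGroup (Fin d) F) : Matrix (Fin d ⊕ Fin d) (Fin d ⊕ Fin d) F) = (z * z) • 1 := by
      rw [SubmonoidClass.coe_pow, hz, _root_.smul_pow, one_pow, pow_two]
    obtain ⟨hzz, -⟩ := sympB_sq (by omega) x hsq
    have hzr : z ^ r = 1 := by
      have := congrArg (fun m : symplecticGroup (Fin d) F => (m : Matrix (Fin d ⊕ Fin d) (Fin d ⊕ Fin d) F)
        (Sum.inl ⟨0, by omega⟩) (Sum.inl ⟨0, by omega⟩)) hxr
      simpa [SubmonoidClass.coe_pow, hz, _root_.smul_pow] using this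
    obtain ⟨k, hk⟩ := hrpr.odd_of_ne_two hr2
    rcases hzz with hzz | hzz
    · rw [hk, pow_succ, pow_mul, pow_two, hzz, one_pow, one_mul] at hzr
      exact hx1 (Subtype.ext (by rw [hz, hzr, one_smul]; rfl))
    · have h2F : (2 : F) ≠ 0 := Ring.two_ne_zero fun hc => by
        have := FiniteField.even_card_of_char_two hc
        rw [hq] at this
        have := Nat.odd_iff.mp hodd
        omega
      have h4 : (z * z) ^ r = 1 := by rw [← pow_two, ← pow_mul, mul_comm, pow_mul, hzr, one_pow]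
      rw [hzz, Odd.neg_one_pow ⟨k, hk⟩] at h4
      exact h2F (by linear_combination -h4)
  rintro ⟨U, W, hUW, hU, hW, hmap⟩
  rw [← hX] at hmap
  have hpowX : X ^ r = 1 := by
    rw [hX, ← Matrix.toLin'_pow, ← SubmonoidClass.coe_pow, hxr]
    exact Matrix.toLin'_one
  rcases hmap with ⟨hUm, hWm⟩ | ⟨hUm, hWm⟩
  swap
  · obtain ⟨k, hk⟩ := hrpr.odd_of_ne_two hr2
    have hev : ∀ m : ℕ, U.map (X ^ (2 * m)) = U := by
      intro m
      induction m with
      | zero => simp [Module.End.one_eq_id]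
      | succ m ih =>
        rw [show 2 * (m + 1) = 1 + (1 + 2 * m) by ring, pow_add, pow_add, pow_one, Module.End.mul_eq_comp,
          Module.End.mul_eq_comp, Submodule.map_comp, Submodule.map_comp, ih, hUm, hWm]
    have : U = W := by
      conv_lhs => rw [← Submodule.map_id U, ← Module.End.one_eq_id, ← hpowX, hk, show 2 * k + 1 = 1 + 2 * k by ring,
        pow_add, pow_one, Module.End.mul_eq_comp, Submodule.map_comp, hev, hUm]
    have hU0 : U = ⊥ := by
      have h := hUW.inf_eq_bot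
      rwa [← this, inf_idem] at h
    have hW0 : W = ⊤ := by
      have h := hUW.sup_eq_top
      rwa [hU0, bot_sup_eq] at h
    rw [hW0] at this
    haveI hne : Nonempty (Fin d) := ⟨⟨0, by omega⟩⟩
    exact bot_ne_top (hU0.symm.trans this)
  have hfixed : ∀ Z : Submodule F (Fin d ⊕ Fin d → F), Z.map X = Z →
      (∀ u ∈ Z, ∀ v ∈ Z, Cfsg.sympForm d F u v = 0) → ∀ u ∈ Z, X u = u := by
    intro Z hZ hiso u hu
    have hXinc : ∀ v, X (inc v) = inc (g v) := by
      intro v
      rw [hXfun]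
      show _ = Sum.elim (g v) 0 ∘ E.symm
      congr 1
      simp only [inc, LinearMap.coe_mk, AddHom.coe_mk, Function.comp_apply, Equiv.symm_apply_apply, Sum.elim_inl,
        Sum.elim_inr]
    rcases hirr (Z.comap inc) (fun v hv => by
      show inc (g v) ∈ Z
      rw [← hXinc, ← hZ]
      exact ⟨inc v, hv, rfl⟩) with h0 | h0
    · have hmem : (X u - u) ∈ Z := Z.sub_mem (hZ.le ⟨u, hu, rfl⟩) hu
      have hrange : X u - u = inc (fun l => X u (E (Sum.inl l)) - u (E (Sum.inl l))) := by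
        funext k
        obtain ⟨l, rfl⟩ := E.surjective k
        show _ = Sum.elim _ (0 : Fin (d - i) ⊕ Fin (d - i) → F) (E.symm (E l))
        rw [E.symm_apply_apply]
        rcases l with l | l
        · rfl
        · simp [hXfun]
      have hbot : (fun l => X u (E (Sum.inl l)) - u (E (Sum.inl l))) ∈ Z.comap inc := by
        show inc _ ∈ Z
        rw [← hrange]
        exact hmem
      rw [h0, Submodule.mem_bot] at hbot
      rw [hbot, map_zero] at hrange
      exact sub_eq_zero.mp hrange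
    · exfalso
      have hsingle : ∀ l, inc (Pi.single l 1) = Pi.single (E (Sum.inl l)) 1 := by
        intro l
        funext k
        obtain ⟨m, rfl⟩ := E.surjective k
        show Sum.elim _ (0 : Fin (d - i) ⊕ Fin (d - i) → F) (E.symm (E m)) = _
        rw [E.symm_apply_apply]
        rcases m with m | m <;> simp [Pi.single_apply, E.apply_eq_iff_eq]
      have hmem : ∀ l, (Pi.single (E (Sum.inl l)) 1 : Fin d ⊕ Fin d → F) ∈ Z := fun l => by
        rw [← hsingle]
        show Pi.single l 1 ∈ Z.comap inc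
        rw [h0]; trivial
      have := hiso _ (hmem (Sum.inl ⟨0, hi1⟩)) _ (hmem (Sum.inr ⟨0, hi1⟩))
      rw [Cfsg.sympForm, Matrix.mulVec_single_one, single_one_dotProduct] at this
      simp [E, Cfsg.Agent.Small.spIndex, Matrix.J, Fin.ext_iff] at this
  have hall : ∀ w, X w = w := by
    intro w
    obtain ⟨a, ha, b, hb, rfl⟩ := Submodule.mem_sup.mp (hUW.sup_eq_top ▸ Submodule.mem_top (x := w))
    rw [map_add, hfixed U hUm hU a ha, hfixed W hWm hW b hb]
  exact hx1 (Subtype.ext (Matrix.toLin'.injective ((hX.symm.trans (LinearMap.ext hall)).trans Matrix.toLin'_one.symm)))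

end Cfsg.Agent.S5963
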