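import Cfsg.Statements.S5964
import Cfsg.Agent.Lib.Classical.Elusive.InvolPowers
import Cfsg.Agent.Lib.Classical.Subfield
import Cfsg.Agent.Lib.Small.NilpotentCommutantGroups
import Cfsg.Agent.S5957
-- import your own Cfsg.Agent.* helpers here

set_option autoImplicit false
open scoped MatrixGroups
open Cfsg

namespace Cfsg.Agent.S5964

open Cfsg.Agent.Classical.Elusive Module Matrix

theorem mem_of_scaled {F : Type*} [Field F] {n : ℕ} {F₀ : Subfield F} (y : Matrix.SpecialLinearGroup (Fin n) F)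
    {μ : F} (hμ : μ ≠ 0) {M : Matrix (Fin n) (Fin n) F} (hM : ∀ i j, M i j ∈ F₀)
    (h : (y : Matrix (Fin n) (Fin n) F) = μ • M) :
    Matrix.SpecialLinearGroup.toGL y ∈ Cfsg.Geo.subfieldSubgroup F₀ (1 : GL (Fin n) F) := by
  rw [Cfsg.Agent.Classical.mem_subfieldSubgroup, inv_one, one_mul, mul_one]
  let s : GL (Fin n) F := Units.map (Matrix.scalar (Fin n) : F →+* Matrix (Fin n) (Fin n) F).toMonoidHom (Units.mk0 μ hμ)
  have hs : s ∈ Cfsg.Geo.scalars (Fin n) F := ⟨_, rfl⟩
  have hg : s⁻¹ * Matrix.SpecialLinearGroup.toGL y ∈ (Matrix.GeneralLinearGroup.map (F₀.subtype : F₀ →+* F)).range := by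
    refine Cfsg.Agent.Classical.mem_range_map_subfield fun i j => ?_
    have hcoe : ((s⁻¹ * Matrix.SpecialLinearGroup.toGL y : GL (Fin n) F) : Matrix (Fin n) (Fin n) F) = M := by
      rw [show s⁻¹ = Units.map (Matrix.scalar (Fin n) : F →+* Matrix (Fin n) (Fin n) F).toMonoidHom
        (Units.mk0 μ hμ)⁻¹ from (map_inv _ _).symm]
      show Matrix.scalar (Fin n) (μ⁻¹) * (y : Matrix (Fin n) (Fin n) F) = M
      rw [h, Matrix.scalar_apply, ← Matrix.smul_one_eq_diagonal, smul_mul_assoc, one_mul, smul_smul,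
        inv_mul_cancel₀ hμ, one_smul]
    rw [hcoe]
    exact hM i j
  have := Subgroup.mul_mem_sup hg hs
  have hcomm : s⁻¹ * Matrix.SpecialLinearGroup.toGL y * s = Matrix.SpecialLinearGroup.toGL y := by
    refine Units.ext ?_
    rw [show s⁻¹ = Units.map (Matrix.scalar (Fin n) : F →+* Matrix (Fin n) (Fin n) F).toMonoidHom
        (Units.mk0 μ hμ)⁻¹ from (map_inv _ _).symm]
    show Matrix.scalar (Fin n) (μ⁻¹) * (y : Matrix (Fin n) (Fin n) F) * Matrix.scalar (Fin n) μ = _
    rw [mul_assoc, ← (Matrix.scalar_commute μ (fun r' => Commute.all μ r') (y : Matrix (Fin n) (Fin n) F)).eq, ← mul_assoc,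
      ← map_mul, inv_mul_cancel₀ hμ, map_one, one_mul]
    rfl
  rwa [hcomm] at this

/-- Conjugation to a signed permutation matrix times a scalar. -/
theorem exists_conj_monomial {F : Type*} [Field F] {n : ℕ} (x : Matrix.SpecialLinearGroup (Fin n) F)
    (b : Basis (Fin n) F (Fin n → F)) (π : Fin n → Fin n) (hπ : ∀ l, π (π l) = l) (ε : Fin n → F) (μ : F)
    (hb : ∀ l, Matrix.toLin' (x : Matrix (Fin n) (Fin n) F) (b l) = (μ * ε l) • b (π l))
    (hscale : ∀ c : F, c ≠ 0 → ∃ w : Fin n → F, (∀ l, w (π l) = w l) ∧ ∏ l, w l = c) :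
    ∃ P : Matrix.SpecialLinearGroup (Fin n) F,
      ((P⁻¹ * x * P : Matrix.SpecialLinearGroup (Fin n) F) : Matrix (Fin n) (Fin n) F) =
        μ • Matrix.of fun i l => if i = π l then ε l else 0 := by
  classical
  obtain ⟨B, hB⟩ : ∃ B : Matrix (Fin n) (Fin n) F, B = (Pi.basisFun F (Fin n)).toMatrix b := ⟨_, rfl⟩
  have hBd : B.det ≠ 0 := by
    intro h
    have h1 := congrArg Matrix.det ((Pi.basisFun F (Fin n)).toMatrix_mul_toMatrix_flip b)
    rw [Matrix.det_mul, ← hB, h, zero_mul, Matrix.det_one] at h1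
    exact zero_ne_one h1
  obtain ⟨w, hw, hwd⟩ := hscale B.det⁻¹ (inv_ne_zero hBd)
  let P : Matrix.SpecialLinearGroup (Fin n) F := ⟨B * Matrix.diagonal w, by
    rw [Matrix.det_mul, Matrix.det_diagonal, hwd, mul_inv_cancel₀ hBd]⟩
  refine ⟨P, ?_⟩
  have hcol : ∀ l, B.col l = b l := fun l => funext fun i => by
    simp [hB, Matrix.col, Basis.toMatrix_apply]
  have key : (x : Matrix (Fin n) (Fin n) F) * (P : Matrix (Fin n) (Fin n) F) =
      (P : Matrix (Fin n) (Fin n) F) * (μ • Matrix.of fun i l => if i = π l then ε l else 0) := by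
    ext i l
    show ((x : Matrix (Fin n) (Fin n) F) * (B * Matrix.diagonal w)) i l = _
    have h1 : ((x : Matrix (Fin n) (Fin n) F) * B) i l = (μ * ε l) * B i (π l) := by
      have := congrFun (hb l) i
      rw [Matrix.toLin'_apply, ← hcol, ← hcol] at this
      simpa [Matrix.mul_apply, Matrix.mulVec, dotProduct, Matrix.col] using this
    rw [← mul_assoc, Matrix.mul_diagonal, h1, Matrix.mul_smul, Matrix.smul_apply, Matrix.mul_apply]
    rw [Finset.sum_eq_single (π l) (fun j _ hj => by simp [hj]) (by simp)]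
    show _ = μ • ((B * Matrix.diagonal w) i (π l) * _)
    rw [Matrix.mul_diagonal, hw, Matrix.of_apply, if_pos rfl, smul_eq_mul]
    ring
  rw [Matrix.SpecialLinearGroup.coe_mul, Matrix.SpecialLinearGroup.coe_mul, mul_assoc, key, ← mul_assoc,
    ← Matrix.SpecialLinearGroup.coe_mul, inv_mul_cancel, Matrix.SpecialLinearGroup.coe_one, one_mul]

/-- Normalising a monomial involution in characteristic two. -/
theorem monomial_normal {F V : Type*} [Field F] [AddCommGroup V] [Module F V] (h2 : (2 : F) = 0) {μ : F} (hμ : μ ≠ 0)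
    {n : ℕ} {f : Module.End F V} (hf : ∀ v, f (f v) = (μ * μ) • v) (b : Basis (Fin n) F V) (π : Fin n → Fin n)
    (hπ : ∀ l, π (π l) = l) (u : Fin n → F) (hb : ∀ l, f (b l) = u l • b (π l)) :
    ∃ b' : Basis (Fin n) F V, ∀ l, f (b' l) = μ • b' (π l) := by
  classical
  have huu : ∀ l, u l * u (π l) = μ * μ := by
    intro l
    have := hf (b l)
    rw [hb, map_smul, hb, hπ, smul_smul] at this
    have h' := congrArg (fun v => b.repr v l) this
    simpa using h'
  have hu : ∀ l, u l ≠ 0 := fun l h => by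
    have := huu l
    rw [h, zero_mul] at this
    exact mul_ne_zero hμ hμ this.symm
  let w : Fin n → Fˣ := fun l => if l ≤ π l then 1 else Units.mk0 (μ⁻¹ * u (π l)) (mul_ne_zero (inv_ne_zero hμ) (hu _))
  refine ⟨b.unitsSMul w, fun l => ?_⟩
  rw [Basis.unitsSMul_apply, Basis.unitsSMul_apply, Units.smul_def, Units.smul_def, map_smul, hb, smul_smul, smul_smul]
  congr 1
  simp only [w, hπ]
  rcases lt_trichotomy l (π l) with h | h | h
  · rw [if_pos h.le, if_neg (not_le.mpr h), Units.val_one, Units.val_mk0, one_mul, ← mul_assoc, mul_inv_cancel₀ hμ, one_mul]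
  · have hl : u l = μ := by
      have := huu l
      rw [← h] at this
      have h0 : (u l - μ) * (u l - μ) = 0 := by linear_combination this + (μ * μ - u l * μ) * h2
      exact sub_eq_zero.mp (mul_self_eq_zero.mp h0)
    rw [if_pos h.le, if_pos h.symm.le, Units.val_one, one_mul, mul_one, hl]
  · rw [if_neg (not_le.mpr h), if_pos h.le, Units.val_one, Units.val_mk0, mul_one, mul_assoc, mul_comm (u (π l)), huu,
      ← mul_assoc, inv_mul_cancel₀ hμ, one_mul]

/-- An eigenbasis in odd characteristic. -/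
theorem exists_sign_basis {F V : Type*} [Field F] [AddCommGroup V] [Module F V] [FiniteDimensional F V]
    (h2 : (2 : F) ≠ 0) {μ : F} (hμ : μ ≠ 0) {n : ℕ} (hn : finrank F V = n) {f : Module.End F V}
    (hf : ∀ v, f (f v) = (μ * μ) • v) :
    ∃ (b : Basis (Fin n) F V) (ε : Fin n → F), (∀ l, ε l = 1 ∨ ε l = -1) ∧ ∀ l, f (b l) = (μ * ε l) • b l := by
  classical
  obtain ⟨A, hA⟩ : ∃ A, A = LinearMap.ker (f - μ • 1) := ⟨_, rfl⟩
  obtain ⟨C, hC⟩ : ∃ C, C = LinearMap.ker (f + μ • 1) := ⟨_, rfl⟩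
  have hp : ∀ v ∈ A, f v = μ • v := fun v hv => by simpa [hA, sub_eq_zero] using hv
  have hq : ∀ v ∈ C, f v = -μ • v := fun v hv => by
    rw [hC, LinearMap.mem_ker, LinearMap.add_apply, LinearMap.smul_apply, Module.End.one_apply] at hv
    rw [neg_smul]; exact eq_neg_of_add_eq_zero_left hv
  have hAC : IsCompl A C := by
    refine ⟨Submodule.disjoint_def.mpr fun v h1 h2' => ?_, codisjoint_iff.mpr (eq_top_iff.mpr fun v _ => ?_)⟩
    · have h := (hp v h1).symm.trans (hq v h2')
      rw [← sub_eq_zero, ← sub_smul, sub_neg_eq_add, ← two_mul] at h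
      exact (smul_eq_zero.mp h).resolve_left (mul_ne_zero h2 hμ)
    · refine Submodule.mem_sup.mpr ⟨(2 * μ)⁻¹ • (μ • v + f v), ?_, (2 * μ)⁻¹ • (μ • v - f v), ?_, ?_⟩
      · rw [hA, LinearMap.mem_ker]
        simp only [LinearMap.sub_apply, LinearMap.smul_apply, Module.End.one_apply, map_smul, map_add, hf]
        module
      · rw [hC, LinearMap.mem_ker]
        simp only [LinearMap.add_apply, LinearMap.smul_apply, Module.End.one_apply, map_smul, map_sub, hf]
        module
      · rw [← smul_add, show μ • v + f v + (μ • v - f v) = (2 * μ) • v by rw [mul_smul, two_smul]; abel,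
          smul_smul, inv_mul_cancel₀ (mul_ne_zero h2 hμ), one_smul]
  let b₀ := ((Module.finBasis F A).prod (Module.finBasis F C)).map (Submodule.prodEquivOfIsCompl A C hAC)
  let e := Fintype.equivFinOfCardEq ((Module.finrank_eq_card_basis b₀).symm.trans hn)
  refine ⟨b₀.reindex e, fun l => Sum.elim (fun _ => 1) (fun _ => -1) (e.symm l), fun l => ?_, fun l => ?_⟩
  · rcases h : e.symm l with i | i <;> simp [h]
  · rw [Basis.reindex_apply]
    rcases h : e.symm l with i | i
    · simp only [h, Sum.elim_inl, mul_one]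
      apply hp
      simp [b₀]
    · simp only [h, Sum.elim_inr, mul_neg, mul_one]
      apply hq
      simp [b₀]

/-- For odd degree the index of the subfield type subgroup is odd. -/
theorem index_odd {F : Type*} [Field F] [Fintype F] {n : ℕ} (hn : 0 < n) {F₀ : Subfield F} {k q₀ : ℕ}
    (hF₀ : Nat.card ↥F₀ = q₀) (hqk : Fintype.card F = q₀ ^ k) (hk : Odd k) (hq : Odd (Fintype.card F)) :
    ¬ 2 ∣ ((Cfsg.Geo.subfieldSubgroup F₀ 1).comap (Matrix.SpecialLinearGroup.toGL : Matrix.SpecialLinearGroup (Fin n) F →* GL (Fin n) F)).index := by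
  classical
  obtain ⟨H, hH⟩ : ∃ H, H = (Cfsg.Geo.subfieldSubgroup F₀ (1 : GL (Fin n) F)).comap
      (Matrix.SpecialLinearGroup.toGL : Matrix.SpecialLinearGroup (Fin n) F →* GL (Fin n) F) := ⟨_, rfl⟩
  rw [← hH]
  haveI := Fintype.ofFinite ↥F₀
  have hq₀1 : 1 < q₀ := by rw [← hF₀, Nat.card_eq_fintype_card]; exact Fintype.one_lt_card
  have hq₀o : Odd q₀ := (Nat.odd_pow_iff (by rcases hk with ⟨j, hj⟩; omega)).mp (hqk ▸ hq)
  let φ := Matrix.SpecialLinearGroup.map (n := Fin n) (F₀.subtype : F₀ →+* F)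
  have hle : φ.range ≤ H := by
    rintro _ ⟨g, rfl⟩
    rw [hH, Subgroup.mem_comap]
    exact mem_of_scaled (φ g) one_ne_zero (fun i j => ((g : Matrix (Fin n) (Fin n) F₀) i j).2) (one_smul _ _).symm
  have hinj : Function.Injective φ := fun g g' h => Subtype.ext (Matrix.ext fun i j => Subtype.ext
    (congrFun (congrFun (congrArg Subtype.val h) i) j))
  have hdvd : H.index ∣ φ.range.index := Subgroup.index_dvd_of_le hle
  have hmul := φ.range.card_mul_index
  rw [Nat.card_congr (MonoidHom.ofInjective hinj).toEquiv.symm] at hmul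
  have hS := Cfsg.Agent.Small.NilCommutant.card_SL_mul (F := F) hn
  have hS₀ := Cfsg.Agent.Small.NilCommutant.card_SL_mul (F := F₀) hn
  rw [← Nat.card_eq_fintype_card (α := ↥F₀), hF₀] at hS₀
  have key : ∀ i, ∃ o, Odd o ∧ q₀ ^ (i * k) - 1 = (q₀ ^ i - 1) * o := by
    intro i
    refine ⟨∑ j ∈ Finset.range k, (q₀ ^ i) ^ j, ?_, ?_⟩
    · rw [Finset.odd_sum_iff_odd_card_odd, Finset.filter_true_of_mem (fun j _ => (hq₀o.pow).pow), Finset.card_range]
      exact hk
    · rw [pow_mul, mul_comm]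
      exact (geom_sum_mul_of_one_le (Nat.one_le_pow _ _ (by omega)) k).symm
  have hprod : ∃ O, Odd O ∧ ∏ i : Fin n, (Fintype.card F ^ n - Fintype.card F ^ (i : ℕ)) =
      (∏ i : Fin n, (q₀ ^ n - q₀ ^ (i : ℕ))) * O := by
    choose o ho heq using key
    refine ⟨∏ i : Fin n, ((q₀ ^ (i : ℕ)) ^ (k - 1) * o (n - (i : ℕ))), ?_, ?_⟩
    · rw [Nat.odd_iff, Finset.prod_nat_mod]
      simp [Nat.odd_iff.mp ((hq₀o.pow).pow.mul (ho _))]
    · rw [← Finset.prod_mul_distrib]
      refine Finset.prod_congr rfl fun i _ => ?_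
      have gen : ∀ a j : ℕ, (q₀ ^ k) ^ (a + j) - (q₀ ^ k) ^ a = (q₀ ^ (a + j) - q₀ ^ a) * ((q₀ ^ a) ^ (k - 1) * o j) := by
        intro a j
        rw [← pow_mul, ← pow_mul, show k * (a + j) = a * k + j * k by ring, show k * a = a * k by ring, pow_add,
          ← Nat.mul_sub_one, heq, pow_add, ← Nat.mul_sub_one, show a * k = a * (k - 1) + a by
            rcases k with _ | k'
            · simp at hk
            · rw [Nat.add_sub_cancel]; ring, pow_add, ← pow_mul]
        ring
      have h := gen (i : ℕ) (n - i)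
      rw [Nat.add_sub_cancel' i.2.le] at h
      rw [hqk]
      exact h
  obtain ⟨O, hO, hOeq⟩ := hprod
  obtain ⟨o₁, ho₁, ho₁eq⟩ := key 1
  rw [one_mul, pow_one, ← hqk] at ho₁eq
  rw [hOeq, ← hS₀, ← hmul, ho₁eq] at hS
  have h1 : Nat.card (Matrix.SpecialLinearGroup (Fin n) F₀) * (q₀ - 1) * (φ.range.index * o₁) =
      Nat.card (Matrix.SpecialLinearGroup (Fin n) F₀) * (q₀ - 1) * O := by rw [← hS]; ring
  have h2 : φ.range.index * o₁ = O :=
    Nat.eq_of_mul_eq_mul_left (Nat.mul_pos Nat.card_pos (by omega)) h1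
  intro h
  have h3 : 2 ∣ O := h2 ▸ (h.trans hdvd).mul_right o₁
  rw [Nat.odd_iff] at hO
  omega


/-- Involutions of PSL_n(q) and subfield subgroups. Here `T = PSL_n(F)` for a field `F` with `q = p^f` elements (`n ≥ 2`, `(n, q) ≠ (2, 2), (2, 3)`), `F₀` is the subfield with `q₀` elements where `q = q₀^k` for a prime `k`, and `H` is the subgroup of matrices of determinant 1 lying in the subfield group of `F₀` (invertible matrices over `F₀` times scalars) — a maximal subgroup of type GL_n(q₀) (the case `n = 2`, `q₀ = 2` is excluded); Ω is the set of `T`-conjugates of `H` (cosets of `H`), so an element of `T` of prime order `r` (a matrix `x` of determinant 1 with `x^r` scalar, `x` not scalar) fixes a point of Ω when some conjugate of `x` by a matrix of determinant 1 lies in `H`. Suppose the index of `H` is even. Then every involution of `T` is conjugate in `T` into `H` if and only if either `q` is even, or `k = 2` and `(n)_2 ≤ (q − 1)_2`. (For `q` odd and `k` odd the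 index of `H` is odd, so that case does not arise.) -/
theorem result {F : Type*} [Field F] [Fintype F] {p : ℕ} [Fact p.Prime] [CharP F p] {q : ℕ} (hq : Fintype.card F = q)
    (n : ℕ) (hn : 2 ≤ n) (hT : (n, q) ≠ (2, 2) ∧ (n, q) ≠ (2, 3))
    (F₀ : Subfield F) (k q₀ : ℕ) (hk : k.Prime) (hF₀ : Nat.card ↥F₀ = q₀) (hqk : q = q₀ ^ k) (hC5 : ¬ (n = 2 ∧ q₀ = 2)) (hΩ : 2 ∣ ((Cfsg.Geo.subfieldSubgroup F₀ 1).comap (Matrix.SpecialLinearGroup.toGL : Matrix.SpecialLinearGroup (Fin n) F →* GL (Fin n) F)).index) :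
    (∀ x : Matrix.SpecialLinearGroup (Fin n) F,
      (∃ z : F, ((x ^ 2 : Matrix.SpecialLinearGroup (Fin n) F) : Matrix (Fin n) (Fin n) F) = z • (1 : Matrix (Fin n) (Fin n) F)) →
      (∀ z : F, (x : Matrix (Fin n) (Fin n) F) ≠ z • (1 : Matrix (Fin n) (Fin n) F)) →
      ∃ P : Matrix.SpecialLinearGroup (Fin n) F, P⁻¹ * x * P ∈ ((Cfsg.Geo.subfieldSubgroup F₀ 1).comap (Matrix.SpecialLinearGroup.toGL : Matrix.SpecialLinearGroup (Fin n) F →* GL (Fin n) F))) ↔
    (Odd q → (k = 2 ∧ padicValNat 2 n ≤ padicValNat 2 (q - 1))) := by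
  classical
  constructor
  · intro h hodd
    have h2 : (2 : F) ≠ 0 := Ring.two_ne_zero fun hc => by
      have := FiniteField.even_card_of_char_two hc
      rw [hq] at this
      have := Nat.odd_iff.mp hodd
      omega
    have hk2 : k = 2 := by
      rcases hk.eq_two_or_odd' with h' | h'
      · exact h'
      · exact absurd hΩ (index_odd (by omega) hF₀ (hq.trans hqk) h' (hq ▸ hodd))
    refine ⟨hk2, ?_⟩
    subst hk2
    by_contra hlt
    push_neg at hlt
    obtain ⟨w, o, ho, hqo⟩ : ∃ w o, ¬ 2 ∣ o ∧ q - 1 = 2 ^ w * o :=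
      Nat.exists_eq_pow_mul_and_not_dvd (by have := Fintype.one_lt_card (α := F); omega) 2 (by norm_num)
    have hw : padicValNat 2 (q - 1) = w := by
      haveI : Fact (Nat.Prime 2) := ⟨Nat.prime_two⟩
      rw [hqo, padicValNat.mul (by positivity) (by omega), padicValNat.prime_pow, padicValNat.eq_zero_of_not_dvd ho,
        add_zero]
    rw [hw] at hlt
    have hw1 : 1 ≤ w := by
      by_contra h0
      rw [show w = 0 by omega, pow_zero, one_mul] at hqo
      have := Nat.odd_iff.mp hodd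
      have := Fintype.one_lt_card (α := F)
      omega
    obtain ⟨m', hm'⟩ : 2 ^ (w + 1) ∣ n := by
      haveI : Fact (Nat.Prime 2) := ⟨Nat.prime_two⟩
      exact (padicValNat_dvd_iff_le (by omega)).mpr hlt
    obtain ⟨m, hm⟩ : ∃ m, m = 2 ^ w * m' := ⟨_, rfl⟩
    have hnm : n = 2 * m := by rw [hm', hm, pow_succ]; ring
    obtain ⟨g, hg⟩ := IsCyclic.exists_generator (α := Fˣ)
    have hgo : orderOf g = q - 1 := by
      rw [orderOf_eq_card_of_forall_mem_zpowers hg, Nat.card_units, Nat.card_eq_fintype_card, hq]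
    obtain ⟨z, hz⟩ : ∃ z : F, z = ((g ^ o : Fˣ) : F) := ⟨_, rfl⟩
    have hz0 : z ≠ 0 := hz ▸ Units.ne_zero _
    have hzsq : ¬ IsSquare z := by
      rintro ⟨s, hs⟩
      have hs0 : s ≠ 0 := fun h0 => hz0 (by rw [hs, h0, mul_zero])
      have h1 : g ^ (o * (2 ^ (w - 1) * o)) = 1 := by
        apply Units.ext
        rw [pow_mul, Units.val_pow_eq_pow_val, ← hz, hs, ← pow_two, ← pow_mul, ← mul_assoc, ← pow_succ',
          Nat.sub_add_cancel hw1, ← hqo, ← hq, Units.val_one]
        exact FiniteField.pow_card_sub_one_eq_one s hs0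
      have hd := orderOf_dvd_iff_pow_eq_one.mpr h1
      rw [hgo, hqo] at hd
      obtain ⟨c, hc⟩ := hd
      have h2' : 2 ^ (w - 1) * (o * o) = 2 ^ (w - 1) * (2 * (o * c)) := by
        have e : 2 ^ w = 2 ^ (w - 1) * 2 := by rw [← pow_succ, Nat.sub_add_cancel hw1]
        rw [e] at hc
        linarith
      have h3 := Nat.eq_of_mul_eq_mul_left (by positivity) h2'
      exact ho ((Nat.prime_two.dvd_mul.mp ⟨o * c, h3⟩).elim id id)
    have hzm : (-z) ^ m = 1 := by
      rw [Even.neg_pow ⟨2 ^ (w - 1) * m', by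
        rw [hm, ← two_mul, ← mul_assoc, ← pow_succ', Nat.sub_add_cancel hw1]⟩, hz, hm, ← Units.val_pow_eq_pow_val,
        ← pow_mul, ← mul_assoc, mul_comm o, ← hqo, ← hgo, pow_mul, pow_orderOf_eq_one, one_pow, Units.val_one]
    let bb := ((Pi.basisFun F (Fin n)).reindex (Fintype.equivOfCardEq (show Fintype.card (Fin n) = Fintype.card (Fin 2 × Fin m) by
      simp [hnm])))
    obtain ⟨X, hX⟩ : ∃ X, X = Matrix.toLin bb bb (Matrix.blockDiagonal fun _ : Fin m => blockRoot z) := ⟨_, rfl⟩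
    have hXm : LinearMap.toMatrix bb bb X = Matrix.blockDiagonal fun _ : Fin m => blockRoot z := by
      rw [hX, LinearMap.toMatrix_toLin]
    obtain ⟨x, hx⟩ : ∃ x : Matrix.SpecialLinearGroup (Fin n) F, (x : Matrix (Fin n) (Fin n) F) = LinearMap.toMatrix' X :=
      ⟨⟨_, by
        rw [LinearMap.det_toMatrix', det_of_toMatrix hXm]
        simp [blockRoot, Matrix.det_fin_two, hzm]⟩, rfl⟩
    have hXX : X * X = z • 1 := by
      apply (LinearMap.toMatrix bb bb).injective
      rw [LinearMap.toMatrix_mul, hXm, ← Matrix.blockDiagonal_mul, map_smul, LinearMap.toMatrix_one,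
        ← Matrix.blockDiagonal_one, ← Matrix.blockDiagonal_smul]
      congr 1
      funext i
      ext a b
      fin_cases a <;> fin_cases b <;> simp [blockRoot, Matrix.mul_apply, Fin.sum_univ_two]
    have hx2 : ((x ^ 2 : Matrix.SpecialLinearGroup (Fin n) F) : Matrix (Fin n) (Fin n) F) = z • (1 : Matrix (Fin n) (Fin n) F) := by
      rw [Matrix.SpecialLinearGroup.coe_pow, hx, pow_two, ← LinearMap.toMatrix'_mul, hXX, map_smul, LinearMap.toMatrix'_one]
    obtain ⟨P, hP⟩ := h x ⟨z, hx2⟩ (fun c hc => by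
      have := hx2
      rw [Matrix.SpecialLinearGroup.coe_pow, hc, _root_.smul_pow, one_pow] at this
      have h' := congrFun (congrFun this ⟨0, by omega⟩) ⟨0, by omega⟩
      simp [pow_two] at h'
      exact hzsq ⟨c, h'.symm⟩)
    rw [Subgroup.mem_comap, Cfsg.Agent.Classical.mem_subfieldSubgroup, inv_one, one_mul, mul_one] at hP
    haveI : (Cfsg.Geo.scalars (Fin n) F).Normal := ⟨fun a ha g => by
      obtain ⟨c, rfl⟩ := ha
      have : g * Units.map (Matrix.scalar (Fin n) : F →+* Matrix (Fin n) (Fin n) F).toMonoidHom c * g⁻¹ =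
          Units.map (Matrix.scalar (Fin n) : F →+* Matrix (Fin n) (Fin n) F).toMonoidHom c := by
        refine Units.ext ?_
        show (g : Matrix (Fin n) (Fin n) F) * Matrix.scalar (Fin n) (c : F) * _ = Matrix.scalar (Fin n) (c : F)
        rw [← (Matrix.scalar_commute (c : F) (fun r' => Commute.all _ r') (g : Matrix (Fin n) (Fin n) F)).eq, mul_assoc,
          Units.mul_inv, mul_one]
      exact ⟨c, this.symm⟩⟩
    rw [Subgroup.mem_sup_of_normal_right] at hP
    obtain ⟨g₀, hg₀, s, hs, hgs⟩ := hP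
    obtain ⟨c, hc⟩ := (Cfsg.Geo.mem_scalars_iff s).mp hs
    have hy : ((P⁻¹ * x * P : Matrix.SpecialLinearGroup (Fin n) F) : Matrix (Fin n) (Fin n) F) =
        (c : F) • (g₀ : Matrix (Fin n) (Fin n) F) := by
      have := congrArg Units.val hgs
      rw [Units.val_mul, hc, mul_smul_comm, mul_one] at this
      exact this.symm
    have hy2 : ((P⁻¹ * x * P : Matrix.SpecialLinearGroup (Fin n) F) : Matrix (Fin n) (Fin n) F) *
        ((P⁻¹ * x * P : Matrix.SpecialLinearGroup (Fin n) F) : Matrix (Fin n) (Fin n) F) = z • 1 := by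
      rw [← Matrix.SpecialLinearGroup.coe_mul, show P⁻¹ * x * P * (P⁻¹ * x * P) = P⁻¹ * x ^ 2 * P by simp [pow_two, mul_assoc],
        Matrix.SpecialLinearGroup.coe_mul, Matrix.SpecialLinearGroup.coe_mul, hx2, mul_smul_comm, mul_one,
        smul_mul_assoc, ← Matrix.SpecialLinearGroup.coe_mul, inv_mul_cancel, Matrix.SpecialLinearGroup.coe_one]
    rw [hy, smul_mul_smul_comm] at hy2
    have hent := congrFun (congrFun hy2 ⟨0, by omega⟩) ⟨0, by omega⟩
    rw [Matrix.smul_apply, Matrix.smul_apply, Matrix.one_apply_eq, smul_eq_mul, smul_eq_mul, mul_one, Matrix.mul_apply] at hent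
    have hwF₀ : ∀ v ∈ F₀, IsSquare v := by
      intro v hv
      by_cases hv0 : v = 0
      · exact hv0 ▸ IsSquare.zero
      haveI := Fintype.ofFinite ↥F₀
      have hc0 := FiniteField.pow_card_sub_one_eq_one (⟨v, hv⟩ : F₀) (fun h0 => hv0 (congrArg Subtype.val h0))
      have hv1 : v ^ (q₀ - 1) = 1 := by
        have h' := congrArg Subtype.val hc0
        rw [← hF₀, Nat.card_eq_fintype_card]
        simpa using h'
      rw [FiniteField.isSquare_iff (fun hc => h2 (by
        haveI := ringChar.charP F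
        exact_mod_cast (CharP.cast_eq_zero_iff F (ringChar F) 2).mpr (dvd_of_eq hc))) hv0]
      have hq₀1 : 1 < q₀ := by rw [← hF₀, Nat.card_eq_fintype_card]; exact Fintype.one_lt_card
      obtain ⟨j, hj⟩ : Odd q₀ := (Nat.odd_pow_iff two_ne_zero).mp (hqk ▸ hodd)
      rw [hq, hqk, show q₀ ^ 2 / 2 = (q₀ - 1) * (j + 1) by
        have e : q₀ ^ 2 = 2 * ((q₀ - 1) * (j + 1)) + 1 := by
          rw [hj, Nat.add_sub_cancel]; ring
        omega, pow_mul, hv1, one_pow]
    obtain ⟨t, ht⟩ := hwF₀ _ (F₀.sum_mem (t := Finset.univ) fun l _ => F₀.mul_mem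
      (Cfsg.Agent.Classical.range_map_subfield_entries hg₀ (⟨0, by omega⟩ : Fin n) l)
      (Cfsg.Agent.Classical.range_map_subfield_entries hg₀ l ⟨0, by omega⟩))
    exact hzsq ⟨(c : F) * t, by rw [← hent, ht]; ring⟩
  · intro hcond x ⟨z, hz⟩ _
    obtain ⟨hz0, hx⟩ := sl_sq (by omega) x hz
    have hdimn : finrank F (Fin n → F) = n := finrank_fin_fun F
    by_cases h2 : (2 : F) = 0
    · haveI : CharP F 2 := CharTwo.of_one_ne_zero_of_two_eq_zero one_ne_zero h2
      haveI : Fact (Nat.Prime 2) := ⟨Nat.prime_two⟩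
      obtain ⟨μ, hμ⟩ := FiniteField.isSquare_of_char_two (ringChar.eq F 2) z
      have hμ0 : μ ≠ 0 := fun h => hz0 (by rw [hμ, h, mul_zero])
      obtain ⟨f, hf⟩ : ∃ f, f = Matrix.toLin' (x : Matrix (Fin n) (Fin n) F) := ⟨_, rfl⟩
      rw [← hf] at hx
      have hN : (μ⁻¹ • f - 1) ^ 2 = 0 := by
        apply LinearMap.ext
        intro v
        rw [pow_two, Module.End.mul_apply]
        have h1 : ∀ w : Fin n → F, μ⁻¹ • μ⁻¹ • (μ * μ) • w = w := fun w => by
          rw [smul_smul, smul_smul, show μ⁻¹ * μ⁻¹ * (μ * μ) = 1 by field_simp, one_smul]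
        simp only [LinearMap.sub_apply, LinearMap.smul_apply, Module.End.one_apply, map_sub, map_smul, hx, hμ, smul_sub,
          h1, LinearMap.zero_apply]
        linear_combination (norm := module) congrArg (fun s : F => s • (v - μ⁻¹ • f v)) h2
      obtain ⟨ι, hι, b, π, u, hπ, hu, hb⟩ := Cfsg.Agent.S5957.monomial_two h2 hN hμ0
      rw [add_sub_cancel, smul_smul, mul_inv_cancel₀ hμ0, one_smul] at hb
      let e := Fintype.equivFinOfCardEq ((Module.finrank_eq_card_basis b).symm.trans hdimn)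
      obtain ⟨b', hb'⟩ := monomial_normal h2 hμ0 (fun v => by rw [hx, hμ]) (b.reindex e) (fun l => e (π (e.symm l)))
        (fun l => by simp [hπ]) (fun l => u (e.symm l)) (fun l => by simp [hb])
      obtain ⟨P, hP⟩ := exists_conj_monomial x b' (fun l => e (π (e.symm l))) (fun l => by simp [hπ]) (fun _ => 1) μ
        (fun l => by rw [← hf, hb', mul_one]) (fun c hc => by
          obtain ⟨s, hs⟩ := FiniteField.isSquare_of_char_two (ringChar.eq F 2) c
          obtain ⟨l₀, hl₀⟩ : ∃ l₀ : Fin n, (l₀ : ℕ) = 0 := ⟨⟨0, by omega⟩, rfl⟩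
          refine ⟨fun l => (if l = l₀ then s else 1) * if e (π (e.symm l)) = l₀ then s else 1, fun l => ?_, ?_⟩
          · simp [hπ, mul_comm]
          · rw [Finset.prod_mul_distrib, Finset.prod_ite_eq', if_pos (Finset.mem_univ _),
              Finset.prod_congr rfl (fun l _ => if_congr (Q := l = e (π (e.symm l₀)))
                ⟨fun h => by simp [← h, hπ], fun h => by simp [h, hπ]⟩ rfl rfl),
              Finset.prod_ite_eq', if_pos (Finset.mem_univ _), hs])
      exact ⟨P, mem_of_scaled _ hμ0 (fun i j => by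
        simp only [Matrix.of_apply]; split_ifs
        · exact F₀.one_mem
        · exact F₀.zero_mem) hP⟩
    by_cases hsq : IsSquare z
    · obtain ⟨μ, hμ⟩ := hsq
      have hμ0 : μ ≠ 0 := fun h => hz0 (by rw [hμ, h, mul_zero])
      obtain ⟨b, ε, hε, hb⟩ := exists_sign_basis h2 hμ0 hdimn (f := Matrix.toLin' (x : Matrix (Fin n) (Fin n) F))
        (fun v => by rw [hx, hμ])
      obtain ⟨P, hP⟩ := exists_conj_monomial x b id (fun _ => rfl) ε μ hb (fun c _ => by
        obtain ⟨l₀, hl₀⟩ : ∃ l₀ : Fin n, (l₀ : ℕ) = 0 := ⟨⟨0, by omega⟩, rfl⟩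
        exact ⟨Function.update 1 l₀ c, fun _ => rfl, by simp [Finset.prod_update_of_mem]⟩)
      exact ⟨P, mem_of_scaled _ hμ0 (fun i j => by
        simp only [Matrix.of_apply]; split_ifs
        · rcases hε j with h | h <;> rw [h]
          · exact F₀.one_mem
          · exact neg_mem F₀.one_mem
        · exact F₀.zero_mem) hP⟩
    exfalso
    have hring : ringChar F ≠ 2 := fun hc => hsq (FiniteField.isSquare_of_char_two hc z)
    have hodd : Odd q := by rw [← hq, Nat.odd_iff]; exact FiniteField.odd_card_of_char_ne_two hring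
    obtain ⟨rfl, hv⟩ := hcond hodd
    have hdet := congrArg Matrix.det hz
    rw [Matrix.SpecialLinearGroup.det_coe, Matrix.det_smul, Matrix.det_one, mul_one, Fintype.card_fin] at hdet
    obtain ⟨m, hm⟩ : Even n := by
      by_contra ho
      obtain ⟨j, hj⟩ := Nat.not_even_iff_odd.mp ho
      exact hsq ⟨z ^ (j + 1), by rw [← pow_add, show j + 1 + (j + 1) = n + 1 by omega, pow_succ, ← hdet, one_mul]⟩
    obtain ⟨b, hb⟩ := exists_root_basis (m := m) (hdimn.trans (by omega)) hsq hx
    have hxd := det_of_toMatrix hb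
    rw [LinearMap.det_toLin', Matrix.SpecialLinearGroup.det_coe] at hxd
    simp [blockRoot, Matrix.det_fin_two] at hxd
    haveI : Fact (Nat.Prime 2) := ⟨Nat.prime_two⟩
    obtain ⟨w, o, ho, hqo⟩ : ∃ w o, ¬ 2 ∣ o ∧ q - 1 = 2 ^ w * o :=
      Nat.exists_eq_pow_mul_and_not_dvd (by have := Fintype.one_lt_card (α := F); omega) 2 (by norm_num)
    obtain ⟨e, o', ho', hn'⟩ : ∃ e o', ¬ 2 ∣ o' ∧ n = 2 ^ e * o' :=
      Nat.exists_eq_pow_mul_and_not_dvd (by omega) 2 (by norm_num)
    rw [hn', hqo, padicValNat.mul (by positivity) (by omega), padicValNat.mul (by positivity) (by omega),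
      padicValNat.prime_pow, padicValNat.prime_pow, padicValNat.eq_zero_of_not_dvd ho,
      padicValNat.eq_zero_of_not_dvd ho', add_zero, add_zero] at hv
    have hq₀odd : Odd q₀ := (Nat.odd_pow_iff two_ne_zero).mp (hqk ▸ hodd)
    have hm1 : IsSquare (-1 : F) := by
      rw [FiniteField.isSquare_neg_one_iff, hq, hqk, Nat.pow_mod]
      have := Nat.odd_iff.mp hq₀odd
      rcases (show q₀ % 4 = 1 ∨ q₀ % 4 = 3 by omega) with h | h <;> rw [h] <;> norm_num
    have hu : ¬ IsSquare (-z) := fun h => hsq (by simpa using hm1.mul h)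
    rw [FiniteField.isSquare_iff hring (neg_ne_zero.mpr hz0)] at hu
    have hu2 : (-z) ^ (Fintype.card F / 2) = -1 :=
      (FiniteField.pow_dichotomy hring (neg_ne_zero.mpr hz0)).resolve_left hu
    have hexp : m * (2 ^ (w - e) * o) = Fintype.card F / 2 * o' := by
      have h1 : 2 * (Fintype.card F / 2) = 2 ^ w * o := by
        rw [← hqo, ← hq]
        have := Nat.odd_iff.mp (hq ▸ hodd)
        omega
      apply Nat.eq_of_mul_eq_mul_left (show 0 < 2 by norm_num)
      calc 2 * (m * (2 ^ (w - e) * o)) = n * (2 ^ (w - e) * o) := by rw [hm]; ring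
        _ = 2 ^ e * 2 ^ (w - e) * o * o' := by rw [hn']; ring
        _ = 2 * (Fintype.card F / 2) * o' := by rw [← pow_add, Nat.add_sub_cancel' hv, h1]
        _ = _ := by ring
    have h3 : (-z) ^ (m * (2 ^ (w - e) * o)) = 1 := by rw [pow_mul, ← hxd, one_pow]
    rw [hexp, pow_mul, hu2, (Nat.odd_iff.mpr (by omega)).neg_one_pow] at h3
    exact h2 (by linear_combination -h3)

end Cfsg.Agent.S5964
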