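import Cfsg.Statements.S5966
import Cfsg.Agent.Lib.Classical.FormPower
import Cfsg.Agent.Lib.Small.JordanType

set_option autoImplicit false
open scoped MatrixGroups
open Cfsg
open scoped Matrix
open Module Cfsg.Geo Cfsg.Agent.Classical Cfsg.Agent.Small.JordanType

namespace Cfsg.Agent.S5966

universe u

variable {F : Type u} [Field F] [Fintype F] [CharP F 3] {n : ℕ}

omit [Fintype F] [CharP F 3] in
theorem exists_gl_of_basis (c : Basis (Fin n) F (Fin n → F)) :
    ∃ P : GL (Fin n) F, (∀ j, (P : Matrix (Fin n) (Fin n) F) *ᵥ Pi.single j 1 = c j) ∧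
      ∀ (A : Matrix (Fin n) (Fin n) F) i j,
        (((P⁻¹ : GL (Fin n) F) : Matrix (Fin n) (Fin n) F) * A * (P : Matrix (Fin n) (Fin n) F)) i j =
          c.repr (A *ᵥ c j) i := by
  obtain ⟨e, he⟩ : ∃ e, e = (Pi.basisFun F (Fin n)).equiv c (Equiv.refl _) := ⟨_, rfl⟩
  have hej : ∀ j, e (Pi.single j 1) = c j := fun j => by
    rw [he, ← Pi.basisFun_apply F (Fin n) j, Basis.equiv_apply]; rfl
  obtain ⟨P, hP, hPi⟩ : ∃ P : GL (Fin n) F, (P : Matrix (Fin n) (Fin n) F) = LinearMap.toMatrix' e.toLinearMap ∧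
      ((P⁻¹ : GL (Fin n) F) : Matrix (Fin n) (Fin n) F) = LinearMap.toMatrix' e.symm.toLinearMap :=
    ⟨⟨LinearMap.toMatrix' e.toLinearMap, LinearMap.toMatrix' e.symm.toLinearMap,
      by rw [← LinearMap.toMatrix'_comp]; simp, by rw [← LinearMap.toMatrix'_comp]; simp⟩, rfl, rfl⟩
  have hPv : ∀ v, (P : Matrix (Fin n) (Fin n) F) *ᵥ v = e v := fun v => by
    rw [hP, ← Matrix.toLin'_apply, Matrix.toLin'_toMatrix']; rfl
  have hPiv : ∀ v, ((P⁻¹ : GL (Fin n) F) : Matrix (Fin n) (Fin n) F) *ᵥ v = e.symm v := fun v => by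
    rw [hPi, ← Matrix.toLin'_apply, Matrix.toLin'_toMatrix']; rfl
  have hrepr : ∀ v i, e.symm v i = c.repr v i := by
    intro v i
    obtain ⟨w, rfl⟩ := e.surjective v
    rw [LinearEquiv.symm_apply_apply]
    have h1 : e w = ∑ j, w j • c j := by
      conv_lhs => rw [← (Pi.basisFun F (Fin n)).sum_repr w]
      simp [map_sum, hej]
    rw [h1, c.repr_sum_self]
  refine ⟨P, fun j => by rw [hPv, hej], fun A i j => ?_⟩
  rw [← Matrix.col_apply (A := _ * A * _), ← Matrix.mulVec_single_one, ← Matrix.mulVec_mulVec, ← Matrix.mulVec_mulVec,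
    hPv, hej, hPiv, hrepr]

theorem frob_surjective (a : F) : ∃ b : F, b ^ 3 = a := by
  haveI : Fact (Nat.Prime 3) := ⟨Nat.prime_three⟩
  obtain ⟨b, hb⟩ := (Finite.injective_iff_surjective.mp (frobenius_inj F 3)) a
  exact ⟨b, by rwa [frobenius_def] at hb⟩

theorem exists_nil {x : Matrix (Fin n) (Fin n) F} {c : F} (hn : 0 < n) (hdet : x.det ≠ 0)
    (hc : x ^ 3 = c • (1 : Matrix (Fin n) (Fin n) F)) :
    ∃ (y : F) (N : Matrix (Fin n) (Fin n) F), y ≠ 0 ∧ x = y • (1 + N) ∧ N ^ 3 = 0 := by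
  haveI : Fact (Nat.Prime 3) := ⟨Nat.prime_three⟩
  haveI : Nonempty (Fin n) := ⟨⟨0, hn⟩⟩
  haveI : CharP (Matrix (Fin n) (Fin n) F) 3 :=
    charP_of_injective_algebraMap' F (A := Matrix (Fin n) (Fin n) F) 3
  obtain ⟨y, hy⟩ := frob_surjective c
  have hy0 : y ≠ 0 := fun h => by
    rw [← hy, h, zero_pow (by norm_num), zero_smul] at hc
    have := congrArg Matrix.det hc
    rw [Matrix.det_pow, Matrix.det_zero] at this
    exact hdet (pow_eq_zero_iff (by norm_num) |>.mp this)
  refine ⟨y, y⁻¹ • x - 1, hy0, by rw [add_sub_cancel, smul_smul, mul_inv_cancel₀ hy0, one_smul], ?_⟩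
  rw [sub_pow_char_of_commute 3 (Commute.one_right _), one_pow, _root_.smul_pow, hc, smul_smul, ← hy, inv_pow,
    inv_mul_cancel₀ (pow_ne_zero _ hy0), one_smul, sub_self]

theorem exists_sq_zero_basis {m : ℕ} (σ : Fin m ⊕ Fin m ≃ Fin n) (N : Matrix (Fin n) (Fin n) F) (h2 : N * N = 0)
    (hr : N.rank = m) (S : Subfield F) (hS : ∀ i j, N i j ∈ S) :
    ∃ B : GL (Fin n) F, (∀ i j, (B : Matrix (Fin n) (Fin n) F) i j ∈ S) ∧
      ((B⁻¹ : GL (Fin n) F) : Matrix (Fin n) (Fin n) F) * N * B =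
        Matrix.reindex σ σ (Matrix.fromBlocks 0 0 1 0 : Matrix (Fin m ⊕ Fin m) (Fin m ⊕ Fin m) F) := by
  classical
  rw [Matrix.rank_eq_finrank_span_cols] at hr
  obtain ⟨f, hf, -, hind⟩ := Submodule.exists_fun_fin_finrank_span_eq F (Set.range N.col)
  obtain ⟨g, hg, hgi⟩ : ∃ g : Fin m → Fin n, (∀ i, ∃ i', N.col (g i) = f i') ∧
      LinearIndependent F (fun i => N.col (g i)) := by
    choose l hl using hf
    refine ⟨fun i => l (Fin.cast hr.symm i), fun i => ⟨_, hl _⟩, ?_⟩
    simp only [hl]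
    exact hind.comp _ (Fin.cast_injective _)
  obtain ⟨v, hv⟩ : ∃ v : Fin m ⊕ Fin m → (Fin n → F),
      v = Sum.elim (fun i => Pi.single (g i) 1) (fun i => N.col (g i)) := ⟨_, rfl⟩
  have hNv : ∀ i, N *ᵥ v (.inl i) = v (.inr i) := fun i => by simp [hv, Matrix.mulVec_single_one]
  have hNw : ∀ i, N *ᵥ v (.inr i) = 0 := fun i => by
    rw [← hNv, Matrix.mulVec_mulVec, h2, Matrix.zero_mulVec]
  have hvi : LinearIndependent F v := by
    rw [Fintype.linearIndependent_iff]
    intro w hw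
    have hgi' : LinearIndependent F (fun i => v (.inr i)) := by simpa [hv] using hgi
    have h1 := congrArg (fun z => N *ᵥ z) hw
    simp only [Matrix.mulVec_sum, Matrix.mulVec_add, Matrix.mulVec_smul, Matrix.mulVec_zero, Fintype.sum_sum_type, hNv, hNw, smul_zero,
      Finset.sum_const_zero, add_zero] at h1
    have hl := Fintype.linearIndependent_iff.mp hgi' (fun i => w (.inl i)) h1
    rw [Fintype.sum_sum_type, Finset.sum_eq_zero (fun i _ => by rw [hl i, zero_smul]), zero_add] at hw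
    have hr' := Fintype.linearIndependent_iff.mp hgi' (fun i => w (.inr i)) hw
    rintro (i | i)
    · exact hl i
    · exact hr' i
  have hcard : Fintype.card (Fin m ⊕ Fin m) = finrank F (Fin n → F) := by
    rw [Module.finrank_fin_fun, Fintype.card_congr σ, Fintype.card_fin]
  obtain ⟨c, hc⟩ : ∃ c : Basis (Fin n) F (Fin n → F), ∀ j, c j = v (σ.symm j) :=
    ⟨(Basis.mk hvi (hvi.span_eq_top_of_card_eq_finrank' hcard).ge).reindex σ, fun j => by
      rw [Basis.reindex_apply, Basis.mk_apply]⟩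
  obtain ⟨B, hB, hBent⟩ := exists_gl_of_basis c
  refine ⟨B, fun i j => ?_, ?_⟩
  · rw [← Matrix.col_apply (A := (B : Matrix (Fin n) (Fin n) F)), ← Matrix.mulVec_single_one, hB, hc, hv]
    rcases σ.symm j with l | l
    · simp only [Sum.elim_inl, Pi.single_apply]
      split_ifs <;> simp [one_mem, zero_mem]
    · exact hS _ _
  · ext i j
    rw [hBent, hc]
    obtain ⟨s, rfl⟩ := σ.surjective j
    obtain ⟨t, rfl⟩ := σ.surjective i
    rw [Equiv.symm_apply_apply, Matrix.reindex_apply, Matrix.submatrix_apply, Equiv.symm_apply_apply,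
      Equiv.symm_apply_apply]
    rcases s with l | l
    · rw [hNv, show v (.inr l) = c (σ (.inr l)) by rw [hc, Equiv.symm_apply_apply], Basis.repr_self,
        Finsupp.single_apply]
      rcases t with a | a <;> simp [Matrix.one_apply, eq_comm]
    · rw [hNw, map_zero]
      rcases t with a | a <;> simp

theorem exists_counterexample (hn : 0 < n) (he : Even n) (F₀ : Subfield F) (hk : Fintype.card F = Nat.card ↥F₀ ^ 2) :
    ∃ (x : Matrix.SpecialLinearGroup (Fin n) F) (c : F),
      (x : Matrix (Fin n) (Fin n) F) ^ 3 = c • (1 : Matrix (Fin n) (Fin n) F) ∧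
      (∀ z : F, (x : Matrix (Fin n) (Fin n) F) ≠ z • (1 : Matrix (Fin n) (Fin n) F)) ∧
      ∀ P : Matrix.SpecialLinearGroup (Fin n) F, P⁻¹ * x * P ∉ (subfieldSubgroup F₀ 1).comap
        (Matrix.SpecialLinearGroup.toGL : Matrix.SpecialLinearGroup (Fin n) F →* GL (Fin n) F) := by
  classical
  haveI : Fact (Nat.Prime 3) := ⟨Nat.prime_three⟩
  haveI : Nonempty (Fin n) := ⟨⟨0, hn⟩⟩
  haveI : CharP (Matrix (Fin n) (Fin n) F) 3 :=
    charP_of_injective_algebraMap' F (A := Matrix (Fin n) (Fin n) F) 3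
  obtain ⟨m, rfl⟩ := he
  obtain ⟨J, hJ⟩ : ∃ J, J = Matrix.reindex finSumFinEquiv finSumFinEquiv
      (Matrix.fromBlocks 0 0 1 0 : Matrix (Fin m ⊕ Fin m) (Fin m ⊕ Fin m) F) := ⟨_, rfl⟩
  have hJ2 : J * J = 0 := by
    rw [hJ, Matrix.reindex_apply, Matrix.submatrix_mul_equiv, Matrix.fromBlocks_multiply]
    simp
  have hJr : J.rank = m := by
    rw [Matrix.rank_eq_finrank_span_cols]
    have h1 : Submodule.span F (Set.range J.col) =
        Submodule.span F (Set.range fun i : Fin m => (Pi.single (finSumFinEquiv (.inr i)) 1 : Fin (m + m) → F)) := by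
      have hcol : ∀ s, J.col (finSumFinEquiv s) = Sum.elim
          (fun i : Fin m => (Pi.single (finSumFinEquiv (.inr i)) 1 : Fin (m + m) → F)) (fun _ => 0) s := by
        intro s
        funext t
        obtain ⟨t, rfl⟩ := finSumFinEquiv.surjective t
        rw [hJ, Matrix.col_apply, Matrix.reindex_apply, Matrix.submatrix_apply, Equiv.symm_apply_apply,
          Equiv.symm_apply_apply]
        rcases s with a | a <;> rcases t with b | b <;>
          simp [Matrix.one_apply, Pi.single_apply, Fin.ext_iff] <;> omega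
      refine le_antisymm (Submodule.span_le.mpr ?_) (Submodule.span_mono ?_)
      · rintro _ ⟨j, rfl⟩
        obtain ⟨s, rfl⟩ := finSumFinEquiv.surjective j
        rw [hcol]
        rcases s with a | a
        · exact Submodule.subset_span ⟨a, rfl⟩
        · exact zero_mem _
      · rintro _ ⟨i, rfl⟩
        exact ⟨_, hcol (.inl i)⟩
    rw [h1, finrank_span_eq_card, Fintype.card_fin]
    have hli := (Pi.basisFun F (Fin (m + m))).linearIndependent.comp (fun i : Fin m => finSumFinEquiv (.inr i))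
      (finSumFinEquiv.injective.comp Sum.inr_injective)
    simpa [Function.comp_def] using hli
  obtain ⟨u, hu⟩ := IsCyclic.exists_generator (α := Fˣ)
  have hnsq : ¬ IsSquare ((u : Fˣ) : F) := by
    rintro ⟨z, hz⟩
    have hz0 : z ≠ 0 := fun h => u.ne_zero (by rw [hz, h, zero_mul])
    obtain ⟨M, hM⟩ : ∃ M, Fintype.card F - 1 = 2 * M := by
      obtain ⟨f, -, hf⟩ := FiniteField.card F 3
      have h3 : Odd (Fintype.card F) := hf ▸ Odd.pow (by decide)
      obtain ⟨w, hw⟩ := h3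
      exact ⟨w, by omega⟩
    have ho : orderOf u = Fintype.card F - 1 := by
      rw [orderOf_eq_card_of_forall_mem_zpowers hu, Nat.card_units, Nat.card_eq_fintype_card]
    have h1 : u ^ M = 1 := Units.ext (by
      rw [Units.val_pow_eq_pow_val, hz, ← pow_two, ← pow_mul, ← hM, FiniteField.pow_card_sub_one_eq_one z hz0,
        Units.val_one])
    have hd := orderOf_dvd_of_pow_eq_one h1
    rw [ho, hM] at hd
    have := Fintype.one_lt_card (α := F)
    have := Nat.le_of_dvd (by omega) hd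
    omega
  obtain ⟨G, hG⟩ : ∃ G : GL (Fin (m + m)) F, (G : Matrix (Fin (m + m)) (Fin (m + m)) F).det = u :=
    ⟨Matrix.GeneralLinearGroup.mkOfDetNeZero (Matrix.diagonal (Function.update 1 ⟨0, hn⟩ (u : F)))
      (by rw [Matrix.det_diagonal, Finset.prod_update_of_mem (Finset.mem_univ _)]; simp),
      by simp [Matrix.GeneralLinearGroup.mkOfDetNeZero, Finset.prod_update_of_mem]⟩
  have hJ3 : J ^ 3 = 0 := by rw [pow_succ, pow_two, hJ2, zero_mul]
  have hx3 : ((G : Matrix _ _ F) * (1 + J) * ((G⁻¹ : GL (Fin (m + m)) F) : Matrix _ _ F)) ^ 3 = 1 := by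
    rw [Units.conj_pow, add_pow_char_of_commute 3 (Commute.one_left J), one_pow, hJ3, add_zero, mul_one,
      ← Units.val_mul, mul_inv_cancel, Units.val_one]
  have hdet : ((G : Matrix _ _ F) * (1 + J) * ((G⁻¹ : GL (Fin (m + m)) F) : Matrix _ _ F)).det = 1 :=
    frobenius_inj F 3 (by rw [frobenius_def, frobenius_def, one_pow, ← Matrix.det_pow, hx3, Matrix.det_one])
  obtain ⟨x, hxdef⟩ : ∃ x : Matrix.SpecialLinearGroup (Fin (m + m)) F, (x : Matrix _ _ F) =
      (G : Matrix _ _ F) * (1 + J) * ((G⁻¹ : GL (Fin (m + m)) F) : Matrix _ _ F) := ⟨⟨_, hdet⟩, rfl⟩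
  refine ⟨x, 1, by rw [hxdef, hx3, one_smul], fun z hz => ?_, fun P hP => ?_⟩
  · have h1 : (1 : Matrix _ _ F) + J = z • 1 := by
      rw [hxdef] at hz
      have h2 := congrArg (fun A => ((G⁻¹ : GL (Fin (m + m)) F) : Matrix _ _ F) * A * (G : Matrix _ _ F)) hz
      simp only [Matrix.mul_smul, Matrix.smul_mul, Matrix.mul_one] at h2
      rw [← Units.val_mul, inv_mul_cancel, Units.val_one] at h2
      simpa [mul_assoc] using h2
    obtain ⟨i, -⟩ : ∃ i : Fin m, True := ⟨⟨0, by omega⟩, trivial⟩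
    have h3 := congrFun (congrFun h1 (finSumFinEquiv (.inr i))) (finSumFinEquiv (.inl i))
    rw [hJ, Matrix.add_apply, Matrix.one_apply, if_neg (fun e => by simpa using finSumFinEquiv.injective e),
      Matrix.reindex_apply, Matrix.submatrix_apply, Equiv.symm_apply_apply, Equiv.symm_apply_apply,
      Matrix.smul_apply, Matrix.one_apply, if_neg (fun e => by simpa using finSumFinEquiv.injective e)] at h3
    simp at h3
  · rw [Subgroup.mem_comap, map_mul, map_mul, map_inv] at hP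
    obtain ⟨p, hp⟩ : ∃ p, p = Matrix.SpecialLinearGroup.toGL P := ⟨_, rfl⟩
    rw [← hp] at hP
    rw [mem_subfieldSubgroup, inv_one, one_mul, mul_one, Subgroup.mem_sup_of_normal_right] at hP
    obtain ⟨A, hA, s, hs, he⟩ := hP
    obtain ⟨z, hz⟩ := (mem_scalars_iff s).mp hs
    have hAe := range_map_subfield_entries hA
    obtain ⟨N, hN⟩ : ∃ N, N = ((p⁻¹ : GL (Fin (m + m)) F) : Matrix _ _ F) * ((G : Matrix _ _ F) * J *
        ((G⁻¹ : GL (Fin (m + m)) F) : Matrix _ _ F)) * (p : Matrix _ _ F) := ⟨_, rfl⟩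
    have hzA : (z : F) • (A : Matrix (Fin (m + m)) (Fin (m + m)) F) = 1 + N := by
      have h1 := congrArg (fun g : GL (Fin (m + m)) F => (g : Matrix (Fin (m + m)) (Fin (m + m)) F)) he
      simp only [Units.val_mul, hz, Matrix.mul_smul, Matrix.mul_one] at h1
      rw [h1, hN, show ((Matrix.SpecialLinearGroup.toGL x : GL (Fin (m + m)) F) : Matrix (Fin (m + m)) (Fin (m + m)) F) = (G : Matrix (Fin (m + m)) (Fin (m + m)) F) * (1 + J) * ((G⁻¹ : GL (Fin (m + m)) F) : Matrix (Fin (m + m)) (Fin (m + m)) F) from hxdef]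
      simp only [mul_add, add_mul, mul_one]
      rw [← Units.val_mul G, mul_inv_cancel, Units.val_one, mul_one, ← Units.val_mul p⁻¹, inv_mul_cancel, Units.val_one]
    have hN2 : N * N = 0 := by
      rw [hN]
      simp only [mul_assoc, Units.mul_inv_cancel_left, Units.inv_mul_cancel_left]
      rw [← mul_assoc J J, hJ2]
      simp
    have hz0 : (z : F) ∈ F₀ := by
      have h1 : ((z : F) • (A : Matrix (Fin (m + m)) (Fin (m + m)) F)) ^ 3 = 1 := by
        rw [hzA, add_pow_char_of_commute 3 (Commute.one_left N), one_pow, pow_succ, pow_two, hN2, zero_mul, add_zero]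
      rw [_root_.smul_pow] at h1
      have h2 : (A : Matrix (Fin (m + m)) (Fin (m + m)) F) ^ 3 = ((z : F) ^ 3)⁻¹ • 1 := by
        rw [← h1, smul_smul, inv_mul_cancel₀ (pow_ne_zero _ z.ne_zero), one_smul]
      have h3 : ((z : F) ^ 3)⁻¹ ∈ F₀ := by
        have hmem : ∀ l i j, ((A : Matrix (Fin (m + m)) (Fin (m + m)) F) ^ l) i j ∈ F₀ := by
          intro l
          induction l with
          | zero => intro i j; rw [pow_zero, Matrix.one_apply]; split_ifs <;> simp [one_mem, zero_mem]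
          | succ l ih =>
            intro i j
            rw [pow_succ, Matrix.mul_apply]
            exact sum_mem fun q _ => mul_mem (ih i q) (hAe q j)
        have h4 := hmem 3 ⟨0, hn⟩ ⟨0, hn⟩
        rwa [h2, Matrix.smul_apply, Matrix.one_apply_eq, smul_eq_mul, mul_one] at h4
      obtain ⟨w, hw⟩ := frob_surjective' F₀ ⟨_, inv_mem h3⟩
      have h5 : (w : F) = z := frobenius_inj F 3 (by
        rw [frobenius_def, frobenius_def, ← SubmonoidClass.coe_pow, hw]
        exact inv_inv _)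
      exact h5 ▸ w.2
    have hNe : ∀ i j, N i j ∈ F₀ := fun i j => by
      rw [eq_sub_of_add_eq' hzA.symm, Matrix.sub_apply, Matrix.smul_apply, Matrix.one_apply]
      exact sub_mem (mul_mem hz0 (hAe i j)) (by split_ifs <;> simp [one_mem, zero_mem])
    have hNr : N.rank = m := by
      rw [hN, Matrix.rank_mul_eq_left_of_isUnit_det _ _ ((Matrix.isUnit_iff_isUnit_det _).mp p.isUnit),
        Matrix.rank_mul_eq_right_of_isUnit_det _ _ ((Matrix.isUnit_iff_isUnit_det _).mp (p⁻¹).isUnit),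
        Matrix.rank_mul_eq_left_of_isUnit_det _ _ ((Matrix.isUnit_iff_isUnit_det _).mp (G⁻¹).isUnit),
        Matrix.rank_mul_eq_right_of_isUnit_det _ _ ((Matrix.isUnit_iff_isUnit_det _).mp G.isUnit), hJr]
    obtain ⟨B, hBe, hB⟩ := exists_sq_zero_basis finSumFinEquiv N hN2 hNr F₀ hNe
    rw [← hJ] at hB
    obtain ⟨C, hC⟩ : ∃ C, C = G⁻¹ * p * B := ⟨_, rfl⟩
    have hCJ : J * (C : Matrix _ _ F) = (C : Matrix _ _ F) * J := by
      conv_rhs => rw [← hB, hN]
      rw [hC]
      simp [Units.val_mul, mul_assoc]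
    have hsq : IsSquare (C : Matrix (Fin (m + m)) (Fin (m + m)) F).det := by
      obtain ⟨C', hC'⟩ : ∃ C', C' = Matrix.reindex finSumFinEquiv.symm finSumFinEquiv.symm
          (C : Matrix (Fin (m + m)) (Fin (m + m)) F) := ⟨_, rfl⟩
      have h1 : (Matrix.fromBlocks 0 0 1 0 : Matrix (Fin m ⊕ Fin m) (Fin m ⊕ Fin m) F) * C' =
          C' * Matrix.fromBlocks 0 0 1 0 := by
        have hsub : (Matrix.fromBlocks 0 0 1 0 : Matrix (Fin m ⊕ Fin m) (Fin m ⊕ Fin m) F) =
            J.submatrix finSumFinEquiv finSumFinEquiv := by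
          rw [hJ]; ext i j; simp
        rw [hsub, hC', Matrix.reindex_apply, Equiv.symm_symm, Matrix.submatrix_mul_equiv, Matrix.submatrix_mul_equiv,
          hCJ]
      rw [← Matrix.fromBlocks_toBlocks C', Matrix.fromBlocks_multiply, Matrix.fromBlocks_multiply,
        Matrix.fromBlocks_inj] at h1
      simp only [Matrix.zero_mul, Matrix.mul_zero, Matrix.one_mul, Matrix.mul_one, add_zero, zero_add] at h1
      have h2 : C'.toBlocks₁₂ = 0 := h1.1.symm
      have h3 : C'.toBlocks₂₂ = C'.toBlocks₁₁ := h1.2.2.1.symm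
      refine ⟨C'.toBlocks₁₁.det, ?_⟩
      have h4 : C'.det = (C : Matrix (Fin (m + m)) (Fin (m + m)) F).det := by rw [hC', Matrix.det_reindex_self]
      rw [← h4]
      conv_lhs => rw [← Matrix.fromBlocks_toBlocks C', h2, Matrix.det_fromBlocks_zero₁₂, h3]
    have hBdet : (B : Matrix (Fin (m + m)) (Fin (m + m)) F).det ∈ F₀ := by
      rw [Matrix.det_apply]
      exact sum_mem fun σ _ => zsmul_mem (prod_mem fun i _ => hBe _ _) _
    have hBsq : IsSquare (B : Matrix (Fin (m + m)) (Fin (m + m)) F).det := isSquare_of_mem F₀ hk hBdet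
    refine hnsq ?_
    have hd : (B : Matrix (Fin (m + m)) (Fin (m + m)) F).det =
        (G : Matrix (Fin (m + m)) (Fin (m + m)) F).det * (C : Matrix (Fin (m + m)) (Fin (m + m)) F).det := by
      rw [hC, ← Matrix.det_mul, ← Units.val_mul, ← mul_assoc, mul_inv_cancel_left, Units.val_mul, Matrix.det_mul,
        hp, show ((Matrix.SpecialLinearGroup.toGL P : GL (Fin (m + m)) F) : Matrix (Fin (m + m)) (Fin (m + m)) F).det = 1 from P.2, one_mul]
    rw [← hG, show (G : Matrix (Fin (m + m)) (Fin (m + m)) F).det =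
      (B : Matrix (Fin (m + m)) (Fin (m + m)) F).det / (C : Matrix (Fin (m + m)) (Fin (m + m)) F).det by
        rw [hd, mul_div_cancel_right₀ _ ((Matrix.isUnit_iff_isUnit_det _).mp C.isUnit).ne_zero]]
    exact hBsq.div hsq
where
  frob_surjective' (F₀ : Subfield F) (a : ↥F₀) : ∃ b : ↥F₀, ((b ^ 3 : ↥F₀) : F) = (a : F) := by
    haveI : Fact (Nat.Prime 3) := ⟨Nat.prime_three⟩
    haveI : CharP ↥F₀ 3 := (RingHom.charP_iff F₀.subtype Subtype.val_injective 3).mpr inferInstance
    obtain ⟨b, hb⟩ := (Finite.injective_iff_surjective.mp (frobenius_inj ↥F₀ 3)) a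
    exact ⟨b, by rw [← hb, frobenius_def]⟩
  isSquare_of_mem (F₀ : Subfield F) (hk : Fintype.card F = Nat.card ↥F₀ ^ 2) {b : F} (hb : b ∈ F₀) : IsSquare b := by
    by_cases hb0 : b = 0
    · exact ⟨0, by simp [hb0]⟩
    haveI : Fintype ↥F₀ := Fintype.ofFinite _
    have h2 : ringChar F ≠ 2 := by rw [ringChar.eq F 3]; norm_num
    rw [FiniteField.isSquare_iff h2 hb0]
    obtain ⟨q, hq⟩ : ∃ q, q = Nat.card ↥F₀ := ⟨_, rfl⟩
    rw [← hq] at hk
    have hb1 : b ^ (q - 1) = 1 := by
      have := FiniteField.pow_card_sub_one_eq_one (⟨b, hb⟩ : ↥F₀) (fun e => hb0 (congrArg Subtype.val e))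
      rw [← Nat.card_eq_fintype_card, ← hq] at this
      exact congrArg Subtype.val this
    have hodd : Odd q := by
      obtain ⟨f, -, hf⟩ := FiniteField.card F 3
      have h3 : Odd (q ^ 2) := by rw [← hk, hf]; exact Odd.pow (by decide)
      exact (Nat.odd_pow_iff (by norm_num)).mp h3
    obtain ⟨a, ha⟩ := hodd
    have e : Fintype.card F / 2 = (q - 1) * (a + 1) := by
      rw [hk, ha, show (2 * a + 1) ^ 2 = 2 * (2 * a * (a + 1)) + 1 by ring, Nat.add_sub_cancel]
      omega
    rw [e, pow_mul, hb1, one_pow]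

theorem exists_conj {F₀ : Subfield F} {k : ℕ} (hcase : Odd n ∨ Odd k) (hk : Fintype.card F = Nat.card ↥F₀ ^ k) (hn : 0 < n)
    (x : Matrix.SpecialLinearGroup (Fin n) F) {c : F}
    (hc : (x : Matrix (Fin n) (Fin n) F) ^ 3 = c • (1 : Matrix (Fin n) (Fin n) F)) :
    ∃ P : Matrix.SpecialLinearGroup (Fin n) F, P⁻¹ * x * P ∈ (subfieldSubgroup F₀ 1).comap
      (Matrix.SpecialLinearGroup.toGL : Matrix.SpecialLinearGroup (Fin n) F →* GL (Fin n) F) := by
  classical
  obtain ⟨y, N, hy0, hxy, hN⟩ := exists_nil hn (by rw [x.2]; exact one_ne_zero) hc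
  have hNn : IsNilpotent (Matrix.toLin' N) := ⟨3, by rw [← Matrix.toLin'_pow, hN, map_zero]⟩
  obtain ⟨t, kb, b, hb⟩ := exists_chain (Matrix.toLin' N) hNn
  have hle : ∀ i, kb i ≤ 3 := (hb.pow_eq_zero_iff 3).mp (by rw [← Matrix.toLin'_pow, hN, map_zero])
  have hsum : ∑ i, kb i = n := by rw [hb.sum_eq, Module.finrank_fin_fun]
  obtain ⟨e, -⟩ : ∃ e : (Σ i, Fin (kb i)) ≃ Fin n, True :=
    ⟨(Fintype.equivFinOfCardEq (by rw [Fintype.card_sigma]; simp [hsum])), trivial⟩
  obtain ⟨G, hG, -⟩ := exists_gl_of_basis (b.reindex e)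
  obtain ⟨a, ha⟩ : ∃ a : Fˣ, a = (Matrix.GeneralLinearGroup.det G)⁻¹ := ⟨_, rfl⟩
  obtain ⟨w, hw, hwr⟩ : ∃ w : (Σ i, Fin (kb i)) → Fˣ, ∏ s, w s = a ∧
      ∀ s s' : (Σ i, Fin (kb i)), s.1 = s'.1 → ((w s / w s' : Fˣ) : F) ∈ F₀ := by
    have mk : ∀ i (γ β : Fˣ) (j : Fin (kb i)), ((β : F) ∈ F₀) → γ ^ kb i * β = a →
        ∃ w : (Σ i, Fin (kb i)) → Fˣ, ∏ s, w s = a ∧
          ∀ s s' : (Σ i, Fin (kb i)), s.1 = s'.1 → ((w s / w s' : Fˣ) : F) ∈ F₀ := by
      intro i γ β j hβ hprod
      refine ⟨fun s => (if s.1 = i then γ else 1) * if s = ⟨i, j⟩ then β else 1, ?_, ?_⟩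
      · rw [Finset.prod_mul_distrib, Finset.prod_ite_eq', if_pos (Finset.mem_univ _), Fintype.prod_sigma,
          Finset.prod_eq_single i (fun l _ hl => by simp [hl]) (by simp)]
        simpa using hprod
      · intro s s' h
        rw [mul_div_mul_comm, show (if s.1 = i then γ else 1) / (if s'.1 = i then γ else 1) = (1 : Fˣ) by
          rw [h, div_self'], one_mul, Units.val_div_eq_div_val]
        refine div_mem ?_ ?_ <;> split_ifs <;> simp [hβ, one_mem]
    by_cases h13 : ∃ i, kb i = 1 ∨ kb i = 3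
    · obtain ⟨i, hi⟩ := h13
      rcases hi with hi | hi
      · exact mk i a 1 ⟨0, by omega⟩ (by simp [one_mem]) (by rw [hi, pow_one, mul_one])
      · obtain ⟨γ, hγ⟩ := frob_surjective (a : F)
        exact mk i (Units.mk0 γ (fun h => a.ne_zero (by rw [← hγ, h, zero_pow (by norm_num)]))) 1 ⟨0, by omega⟩
          (by simp [one_mem]) (Units.ext (by simp [hi, hγ]))
    · push Not at h13
      have h02 : ∀ i, Even (kb i) := fun i => by
        have := hle i
        have := h13 i
        rcases Nat.lt_or_ge (kb i) 1 with h | h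
        · exact ⟨0, by omega⟩
        · exact ⟨1, by omega⟩
      have hev : Even n := hsum ▸ Finset.even_sum _ (fun i _ => h02 i)
      have hko : Odd k := hcase.resolve_left (Nat.not_odd_iff_even.mpr hev)
      obtain ⟨i, hi⟩ : ∃ i, kb i ≠ 0 := by
        by_contra! h
        rw [Finset.sum_eq_zero (fun i _ => h i)] at hsum
        omega
      have hi2 : kb i = 2 := by
        have := hle i
        have := h13 i
        omega
      obtain ⟨M, hM⟩ : ∃ M, M = ∑ l ∈ Finset.range k, Nat.card ↥F₀ ^ l := ⟨_, rfl⟩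
      obtain ⟨q₀, hq0⟩ : ∃ q₀, q₀ = Nat.card ↥F₀ := ⟨_, rfl⟩
      rw [← hq0] at hk hM
      have hoddq : Odd q₀ := by
        obtain ⟨f, -, hf⟩ := FiniteField.card F 3
        have h3 : Odd (q₀ ^ k) := by rw [← hk, hf]; exact Odd.pow (by decide)
        exact (Nat.odd_pow_iff (by rintro rfl; exact absurd hko (by decide))).mp h3
      have hMo : Odd M := by
        rw [hM, Finset.odd_sum_iff_odd_card_odd, Finset.filter_true_of_mem (fun l _ => hoddq.pow),
          Finset.card_range]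
        exact hko
      have hMq : M * (q₀ - 1) + 1 = q₀ ^ k := by
        rw [hM, show q₀ = (q₀ - 1) + 1 by have := hoddq.pos; omega]
        exact geom_sum_mul_add (q₀ - 1) k
      obtain ⟨h, hh⟩ := hMo
      have hpos : 2 * h + 1 ≠ 0 := by omega
      have hmem : ((a ^ M : Fˣ) : F) ∈ F₀ := by
        haveI : Fintype ↥F₀ := Fintype.ofFinite _
        have hfix : ((a ^ M : Fˣ) : F) ^ q₀ = ((a ^ M : Fˣ) : F) := by
          have h1 : ((a : F)) ^ (M * (q₀ - 1)) = 1 := by
            rw [show M * (q₀ - 1) = Fintype.card F - 1 by rw [hk]; omega]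
            exact FiniteField.pow_card_sub_one_eq_one _ a.ne_zero
          rw [Units.val_pow_eq_pow_val, ← pow_mul, show M * q₀ = M * (q₀ - 1) + M by
            have := hoddq.pos
            nlinarith [Nat.sub_add_cancel this, Nat.mul_add M (q₀ - 1) 1], pow_add, h1, one_mul]
        exact (mem_iff_pow_eq F₀ hq0 _).mp hfix
      refine mk i ((a ^ h)⁻¹) (a ^ M) ⟨0, by omega⟩ hmem ?_
      rw [hi2, hh, inv_pow, ← pow_mul, pow_succ, mul_comm h 2, inv_mul_cancel_left]
  obtain ⟨c', hc'⟩ : ∃ c', c' = (b.unitsSMul w).reindex e := ⟨_, rfl⟩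
  obtain ⟨P, hP, hPent⟩ := exists_gl_of_basis c'
  have hPdet : (P : Matrix (Fin n) (Fin n) F).det = 1 := by
    have hPG : (P : Matrix (Fin n) (Fin n) F) =
        (G : Matrix (Fin n) (Fin n) F) * Matrix.diagonal (fun j => ((w (e.symm j) : Fˣ) : F)) := by
      refine Matrix.ext_of_mulVec_single fun j => ?_
      rw [hP, ← Matrix.mulVec_mulVec, Matrix.diagonal_mulVec_single, mul_one, ← mul_one ((w (e.symm j) : Fˣ) : F),
        ← smul_eq_mul, Pi.single_smul', Matrix.mulVec_smul, hG, hc']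
      simp [Basis.unitsSMul_apply, Units.smul_def]
    rw [hPG, Matrix.det_mul, Matrix.det_diagonal, e.symm.prod_comp (fun s => ((w s : Fˣ) : F)), ← Units.coe_prod, hw,
      ha, ← Matrix.GeneralLinearGroup.val_det_apply, ← Units.val_mul, mul_inv_cancel, Units.val_one]
  refine ⟨⟨(P : Matrix (Fin n) (Fin n) F), hPdet⟩, ?_⟩
  obtain ⟨S, hS⟩ : ∃ S : Matrix.SpecialLinearGroup (Fin n) F, S = (⟨(P : Matrix (Fin n) (Fin n) F), hPdet⟩ : Matrix.SpecialLinearGroup (Fin n) F) := ⟨_, rfl⟩
  rw [← hS, Subgroup.mem_comap, map_mul, map_mul, map_inv,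
    show Matrix.SpecialLinearGroup.toGL S = P by rw [hS]; exact Units.ext rfl]
  refine mem_subfieldSubgroup_of_scaled (ν := y⁻¹) (inv_ne_zero hy0) fun i j => ?_
  rw [inv_one, one_mul, mul_one, Units.val_mul, Units.val_mul]
  rw [show ((Matrix.SpecialLinearGroup.toGL x : GL (Fin n) F) : Matrix (Fin n) (Fin n) F) = y • (1 + N) from hxy,
    hPent, Matrix.smul_mulVec, map_smul, Finsupp.smul_apply, smul_eq_mul, ← mul_assoc, inv_mul_cancel₀ hy0, one_mul,
    Matrix.add_mulVec, Matrix.one_mulVec, map_add, Finsupp.add_apply, Basis.repr_self, Finsupp.single_apply]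
  refine add_mem (by split_ifs <;> simp [one_mem, zero_mem]) ?_
  have hcs : ∀ s, c' (e s) = (w s : F) • b s := fun s => by
    rw [hc', Basis.reindex_apply, Equiv.symm_apply_apply, Basis.unitsSMul_apply, Units.smul_def]
  obtain ⟨s, rfl⟩ := e.surjective j
  rw [hcs, Matrix.mulVec_smul, ← Matrix.toLin'_apply, hb]
  split_ifs with h
  · rw [show (w s : F) • b ⟨s.1, ⟨(s.2 : ℕ) + 1, h⟩⟩ =
      ((w s / w ⟨s.1, ⟨(s.2 : ℕ) + 1, h⟩⟩ : Fˣ) : F) • c' (e ⟨s.1, ⟨(s.2 : ℕ) + 1, h⟩⟩) by
        rw [hcs, smul_smul, ← Units.val_mul, div_mul_cancel],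
      map_smul, Finsupp.smul_apply, Basis.repr_self, Finsupp.single_apply, smul_eq_mul]
    refine mul_mem (hwr _ _ rfl) ?_
    split_ifs <;> simp [one_mem, zero_mem]
  · simp [zero_mem]
where
  mem_iff_pow_eq (F₀ : Subfield F) {q₀ : ℕ} (hq : q₀ = Nat.card ↥F₀) (a : F) : a ^ q₀ = a ↔ a ∈ F₀ := by
    classical
    haveI : Fintype ↥F₀ := Fintype.ofFinite _
    have h2 : 1 < q₀ := by rw [hq, Nat.card_eq_fintype_card]; exact Fintype.one_lt_card
    have hsub : (Finset.univ.image (fun z : ↥F₀ => (z : F))) = (Finset.univ.filter fun z : F => z ^ q₀ = z) := by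
      refine Finset.eq_of_subset_of_card_le (fun z hz => ?_) ?_
      · obtain ⟨w, -, rfl⟩ := Finset.mem_image.mp hz
        rw [Finset.mem_filter]
        refine ⟨Finset.mem_univ _, ?_⟩
        rw [← SubmonoidClass.coe_pow, hq, Nat.card_eq_fintype_card, FiniteField.pow_card]
      · rw [Finset.card_image_of_injective _ Subtype.val_injective, Finset.card_univ, ← Nat.card_eq_fintype_card, ← hq]
        refine le_trans ?_ (FiniteField.X_pow_card_sub_X_natDegree_eq F h2).le
        refine Polynomial.card_le_degree_of_subset_roots fun z hz => ?_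
        rw [Finset.mem_val, Finset.mem_filter] at hz
        rw [Polynomial.mem_roots (FiniteField.X_pow_card_sub_X_ne_zero F h2)]
        simp [hz.2]
    constructor
    · intro h
      have : a ∈ (Finset.univ.image (fun z : ↥F₀ => (z : F))) := by
        rw [hsub]; simp [h]
      obtain ⟨w, -, rfl⟩ := Finset.mem_image.mp this
      exact w.2
    · intro h
      have : a ∈ (Finset.univ.filter fun z : F => z ^ q₀ = z) := by
        rw [← hsub]; exact Finset.mem_image.mpr ⟨⟨a, h⟩, Finset.mem_univ _, rfl⟩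
      simpa using this

/-- Elements of order 3 of PSL_n(q) in characteristic 3 and subfield subgroups. Here `T = PSL_n(F)` for a field `F` with `q` elements, `q` a power of 3 (`n ≥ 2`, `(n, q) ≠ (2, 2), (2, 3)`), `F₀` is the subfield with `q₀` elements where `q = q₀^k` for a prime `k`, and `H` is the subgroup of matrices of determinant 1 lying in the subfield group of `F₀` (invertible matrices over `F₀` times scalars) — a maximal subgroup of type GL_n(q₀) (the case `n = 2`, `q₀ = 2` is excluded); Ω is the set of `T`-conjugates of `H` (cosets of `H`), so an element of `T` of prime order `r` (a matrix `x` of determinant 1 with `x^r` scalar, `x` not scalar) fixes a point of Ω when some conjugate of `x` by a matrix of determinant 1 lies in `H`. Suppose 3 divides the index of `H`. Then every element of `T` of order 3 is conjugate in `T` into `H` if and only if `n` is odd, or `n` is even and `k > 2`. -/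
theorem result {F : Type*} [Field F] [Fintype F] [CharP F 3] {q : ℕ} (hq : Fintype.card F = q)
    (n : ℕ) (hn : 2 ≤ n) (hT : (n, q) ≠ (2, 3))
    (F₀ : Subfield F) (k q₀ : ℕ) (hk : k.Prime) (hF₀ : Nat.card ↥F₀ = q₀) (hqk : q = q₀ ^ k) (hC5 : ¬ (n = 2 ∧ q₀ = 2)) (hΩ : 3 ∣ ((Cfsg.Geo.subfieldSubgroup F₀ 1).comap (Matrix.SpecialLinearGroup.toGL : Matrix.SpecialLinearGroup (Fin n) F →* GL (Fin n) F)).index) :
    (∀ x : Matrix.SpecialLinearGroup (Fin n) F,
      (∃ z : F, ((x ^ 3 : Matrix.SpecialLinearGroup (Fin n) F) : Matrix (Fin n) (Fin n) F) = z • (1 : Matrix (Fin n) (Fin n) F)) →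
      (∀ z : F, (x : Matrix (Fin n) (Fin n) F) ≠ z • (1 : Matrix (Fin n) (Fin n) F)) →
      ∃ P : Matrix.SpecialLinearGroup (Fin n) F, P⁻¹ * x * P ∈ ((Cfsg.Geo.subfieldSubgroup F₀ 1).comap (Matrix.SpecialLinearGroup.toGL : Matrix.SpecialLinearGroup (Fin n) F →* GL (Fin n) F))) ↔
    (Odd n ∨ (Even n ∧ 2 < k)) := by
  subst hq
  have hn0 : 0 < n := by omega
  constructor
  · intro H
    rcases Nat.even_or_odd n with he | ho
    · refine Or.inr ⟨he, ?_⟩
      by_contra hk2
      have hk2' : k = 2 := by have := hk.two_le; omega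
      subst hk2'
      obtain ⟨x, c, hc, hns, hno⟩ := exists_counterexample hn0 he F₀ (hF₀ ▸ hqk)
      obtain ⟨P, hP⟩ := H x ⟨c, (Matrix.SpecialLinearGroup.coe_pow x 3).trans hc⟩ hns
      exact hno P hP
    · exact Or.inl ho
  · intro h x ⟨c, hc⟩ _
    refine exists_conj (k := k) ?_ (hF₀ ▸ hqk) hn0 x ((Matrix.SpecialLinearGroup.coe_pow x 3).symm.trans hc)
    rcases h with h | ⟨-, h⟩
    · exact Or.inl h
    · exact Or.inr (hk.odd_of_ne_two (by omega))

end Cfsg.Agent.S5966
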