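import Cfsg.Statements.S5968
import Cfsg.Agent.Lib.Lead.SympIndex

set_option autoImplicit false
open scoped MatrixGroups
open Cfsg
open scoped Matrix
open Polynomial Module Cfsg.Geo Cfsg.Agent.Classical Cfsg.Agent.Lead.SympDerangement

namespace Cfsg.Agent.S5968

universe u

variable {F : Type u} [Field F] [Fintype F] {n : ℕ}

/-- The element has the required order and preserves no symplectic form up to a scalar. -/
def IsBad (r : ℕ) (x : Matrix.SpecialLinearGroup (Fin n) F) : Prop :=
  (∃ z : F, (x : Matrix (Fin n) (Fin n) F) ^ r = z • (1 : Matrix (Fin n) (Fin n) F)) ∧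
  (∀ z : F, (x : Matrix (Fin n) (Fin n) F) ≠ z • (1 : Matrix (Fin n) (Fin n) F)) ∧
  ∀ (f : (Fin n → F) → (Fin n → F) → F), IsSymplecticForm f → ∀ μ : F, μ ≠ 0 →
    (∀ u v, f (Matrix.toLin' (x : Matrix (Fin n) (Fin n) F) u) (Matrix.toLin' (x : Matrix (Fin n) (Fin n) F) v) = μ * f u v) → False

omit [Fintype F] in
theorem finrank_ker_diagonal (d : Fin n → F) (ν : F) :
    finrank F (LinearMap.ker (Matrix.toLin' (Matrix.diagonal d) - ν • (1 : Module.End F (Fin n → F)))) =
      Nat.card {i // d i = ν} := by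
  classical
  have hmem : ∀ v, v ∈ LinearMap.ker (Matrix.toLin' (Matrix.diagonal d) - ν • (1 : Module.End F (Fin n → F))) ↔
      ∀ i, d i ≠ ν → v i = 0 := by
    intro v
    rw [LinearMap.mem_ker, funext_iff]
    refine forall_congr' fun i => ?_
    simp only [LinearMap.sub_apply, Matrix.toLin'_apply, Matrix.mulVec_diagonal, LinearMap.smul_apply,
      Module.End.one_apply, Pi.sub_apply, Pi.smul_apply, smul_eq_mul, Pi.zero_apply, ← sub_mul, mul_eq_zero,
      sub_eq_zero]
    tauto
  let e : LinearMap.ker (Matrix.toLin' (Matrix.diagonal d) - ν • (1 : Module.End F (Fin n → F))) ≃ₗ[F]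
      ({i // d i = ν} → F) :=
    { toFun := fun v i => v.1 i.1
      invFun := fun w => ⟨fun i => if h : d i = ν then w ⟨i, h⟩ else 0, (hmem _).mpr fun i hi => dif_neg hi⟩
      map_add' := fun _ _ => rfl
      map_smul' := fun _ _ => rfl
      left_inv := fun v => Subtype.ext (funext fun i => by
        by_cases h : d i = ν
        · simp [h]
        · simp [h, (hmem v.1).mp v.2 i h])
      right_inv := fun w => funext fun i => by simp [i.2] }
  rw [e.finrank_eq, Module.finrank_fintype_fun_eq_card, Nat.card_eq_fintype_card]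

theorem exists_bad_one (hn : 4 ≤ n) (he : Even n) {r : ℕ} [Fact r.Prime] (hr2 : r ≠ 2)
    (hgap : ¬ (n = 6 ∧ r = 3)) (hd : r ∣ Fintype.card F - 1) :
    ∃ x : Matrix.SpecialLinearGroup (Fin n) F, IsBad r x := by
  classical
  obtain ⟨ζu, hζu⟩ := exists_prime_orderOf_dvd_card' (G := Fˣ) r (by rwa [Nat.card_units, Nat.card_eq_fintype_card])
  obtain ⟨ζ, hζ⟩ : ∃ ζ : F, ζ = (ζu : F) := ⟨_, rfl⟩
  have hord : orderOf ζ = r := by rw [hζ, orderOf_units]; exact hζu
  have hz0 : ζ ≠ 0 := hζ ▸ ζu.ne_zero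
  have hr : r.Prime := Fact.out
  have hr3 : 3 ≤ r := by have := hr.two_le; omega
  have hpow : ∀ k, ζ ^ k = 1 → r ∣ k := fun k h => hord ▸ orderOf_dvd_of_pow_eq_one h
  have h1 : ζ ≠ 1 := fun e => by
    have := Nat.le_of_dvd one_pos (hpow 1 (by rw [pow_one, e]))
    omega
  have h2 : ζ ^ 2 ≠ 1 := fun e => by
    have := Nat.le_of_dvd two_pos (hpow 2 e)
    omega
  have hζr : ζ ^ r = 1 := hord ▸ pow_orderOf_eq_one ζ
  obtain ⟨τ, hτ⟩ : ∃ τ, τ = (ζ ^ 2)⁻¹ := ⟨_, rfl⟩
  have hτr : τ ^ r = 1 := by rw [hτ, inv_pow, ← pow_mul, mul_comm, pow_mul, hζr, one_pow, inv_one]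
  have hτ1 : τ ≠ 1 := fun e => h2 (inv_eq_one.mp (hτ ▸ e))
  obtain ⟨i0, hi0⟩ : ∃ i : Fin n, (i : ℕ) = 0 := ⟨⟨0, by omega⟩, rfl⟩
  obtain ⟨i1, hi1⟩ : ∃ i : Fin n, (i : ℕ) = 1 := ⟨⟨1, by omega⟩, rfl⟩
  obtain ⟨i2, hi2⟩ : ∃ i : Fin n, (i : ℕ) = 2 := ⟨⟨2, by omega⟩, rfl⟩
  obtain ⟨i3, hi3⟩ : ∃ i : Fin n, (i : ℕ) = 3 := ⟨⟨3, by omega⟩, rfl⟩
  obtain ⟨d, hdd⟩ : ∃ d : Fin n → F, d = fun i : Fin n => if (i : ℕ) < 2 then ζ else if (i : ℕ) = 2 then τ else 1 := ⟨_, rfl⟩
  have hd0 : d i0 = ζ := by simp [hdd, hi0]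
  have hd2 : d i2 = τ := by simp [hdd, hi2]
  have hd3 : d i3 = 1 := by simp [hdd, hi3]
  have hdet : (Matrix.diagonal d).det = 1 := by
    rw [Matrix.det_diagonal, hdd, Fin.prod_univ_eq_prod_range (fun i => if i < 2 then ζ else if i = 2 then τ else 1) n,
      show n = 3 + (n - 3) by omega, Finset.prod_range_add]
    simp [Finset.prod_range_succ, hτ]
    field_simp
    refine Finset.prod_eq_one fun x _ => ?_
    rw [if_neg (by omega), if_neg (by omega)]
  have hne : ∀ i, d i ≠ 0 := fun i => by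
    simp only [hdd]
    split_ifs
    · exact hz0
    · exact hτ ▸ inv_ne_zero (pow_ne_zero _ hz0)
    · exact one_ne_zero
  refine ⟨⟨Matrix.diagonal d, hdet⟩, ⟨1, ?_⟩, fun z hz => ?_, fun f hf μ hμ hX => ?_⟩
  · show (Matrix.diagonal d) ^ r = _
    rw [Matrix.diagonal_pow, one_smul, ← Matrix.diagonal_one]
    congr 1
    funext i
    simp only [hdd, Pi.pow_apply]
    split_ifs <;> simp [hζr, hτr]
  · have e0 := congrFun (congrFun hz i0) i0
    have e3 := congrFun (congrFun hz i3) i3
    simp [hd0, hd3] at e0 e3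
    exact h1 (e0.trans e3.symm)
  have hcnt : ∀ a, a ≠ 0 → Nat.card {i // d i = a} = Nat.card {i // d i = μ / a} := fun a ha => by
    rw [← finrank_ker_diagonal, ← finrank_ker_diagonal]
    exact finrank_ker_eq hf hX (mul_div_cancel₀ μ ha) ha (div_ne_zero hμ ha)
  have hex : ∀ a, a ≠ 0 → (∃ i, d i = a) → ∃ i, d i = μ / a := fun a ha ⟨i, hi⟩ => by
    have hpos : 0 < Nat.card {i // d i = a} := Nat.card_pos_iff.mpr ⟨⟨⟨i, hi⟩⟩, inferInstance⟩
    rw [hcnt a ha] at hpos
    obtain ⟨⟨j, hj⟩⟩ := (Nat.card_pos_iff.mp hpos).1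
    exact ⟨j, hj⟩
  have hvals : ∀ a, (∃ i, d i = a) → a = ζ ∨ a = τ ∨ a = 1 := by
    rintro a ⟨i, rfl⟩
    simp only [hdd]
    split_ifs <;> simp
  have c1 := hvals _ (hex 1 one_ne_zero ⟨i3, hd3⟩)
  have cz := hvals _ (hex ζ hz0 ⟨i0, hd0⟩)
  rw [div_one] at c1
  have hcase3 : τ = ζ ↔ r = 3 := by
    constructor
    · intro e
      have h3 : ζ ^ 3 = 1 := by
        calc ζ ^ 3 = ζ ^ 2 * ζ := by ring
          _ = ζ ^ 2 * τ := by rw [e]
          _ = 1 := by rw [hτ, mul_inv_cancel₀ (pow_ne_zero _ hz0)]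
      exact (Nat.prime_dvd_prime_iff_eq hr Nat.prime_three).mp (hpow 3 h3)
    · intro e
      rw [hτ]
      refine inv_eq_of_mul_eq_one_right ?_
      rw [← pow_succ, show 2 + 1 = r by omega]
      exact hζr
  rcases c1 with c | c | c
  · -- μ = ζ
    have hc := hcnt 1 one_ne_zero
    rw [div_one, c] at hc
    have e1 : Nat.card {i // d i = (1 : F)} = n - 3 := by
      rw [Nat.card_eq_fintype_card, Fintype.card_subtype, show (Finset.univ.filter fun i => d i = 1) =
        (Finset.univ.filter fun i : Fin n => ¬ (i : ℕ) < 3) by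
          ext i
          simp only [Finset.mem_filter, Finset.mem_univ, true_and, hdd]
          split_ifs with h h'
          · simp only [h1, false_iff, not_not]; omega
          · simp only [hτ1, false_iff, not_not]; omega
          · simp only [true_iff]; omega]
      rw [Finset.filter_not, Finset.card_sdiff_of_subset (Finset.filter_subset _ _), Finset.card_univ,
        Fintype.card_fin, Fin.card_filter_val_lt]
      omega
    have e2 : Nat.card {i // d i = ζ} = if r = 3 then 3 else 2 := by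
      rw [Nat.card_eq_fintype_card, Fintype.card_subtype]
      by_cases h3 : r = 3
      · rw [if_pos h3, show (Finset.univ.filter fun i => d i = ζ) =
          (Finset.univ.filter fun i : Fin n => (i : ℕ) < 3) by
            ext i
            simp only [Finset.mem_filter, Finset.mem_univ, true_and, hdd]
            split_ifs with h h'
            · simp only [true_iff]; omega
            · simp only [hcase3.mpr h3, true_iff]; omega
            · simp only [Ne.symm h1, false_iff]; omega, Fin.card_filter_val_lt]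
        omega
      · rw [if_neg h3, show (Finset.univ.filter fun i => d i = ζ) =
          (Finset.univ.filter fun i : Fin n => (i : ℕ) < 2) by
            ext i
            simp only [Finset.mem_filter, Finset.mem_univ, true_and, hdd]
            split_ifs with h h'
            · simp only [h]
            · simp only [mt hcase3.mp h3, h]
            · simp only [Ne.symm h1, h], Fin.card_filter_val_lt]
        omega
    rw [e1, e2] at hc
    obtain ⟨m, rfl⟩ := he
    split_ifs at hc <;> omega
  · -- μ = τ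
    rw [c] at cz
    rcases cz with e | e | e
    · refine hτ1 ?_
      rw [div_eq_iff hz0, ← sq] at e
      by_contra
      have h4 : ζ ^ 4 = 1 := by
        calc ζ ^ 4 = ζ ^ 2 * ζ ^ 2 := by ring
          _ = τ * ζ ^ 2 := by rw [e]
          _ = 1 := by rw [hτ, inv_mul_cancel₀ (pow_ne_zero _ hz0)]
      have := (Nat.prime_dvd_prime_iff_eq hr Nat.prime_two).mp (hr.dvd_of_dvd_pow (n := 2) (by simpa using hpow 4 h4))
      exact hr2 this
    · rw [div_eq_iff hz0] at e
      exact h1 (mul_left_cancel₀ (hτ ▸ inv_ne_zero (pow_ne_zero _ hz0) : τ ≠ 0) (by rw [mul_one, ← e]))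
    · rw [div_eq_one_iff_eq hz0] at e
      -- then 1 and ζ are exchanged
      have hc := hcnt 1 one_ne_zero
      rw [div_one, c, e] at hc
      have e3 : r = 3 := hcase3.mp e
      have h30 : Nat.card {i // d i = ζ} = 3 := by
        rw [Nat.card_eq_fintype_card, Fintype.card_subtype, show (Finset.univ.filter fun i => d i = ζ) =
          (Finset.univ.filter fun i : Fin n => (i : ℕ) < 3) by
            ext i
            simp only [Finset.mem_filter, Finset.mem_univ, true_and, hdd]
            split_ifs with h h'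
            · simp only [true_iff]; omega
            · simp only [e, true_iff]; omega
            · simp only [Ne.symm h1, false_iff]; omega, Fin.card_filter_val_lt]
        omega
      have h10 : Nat.card {i // d i = (1 : F)} = n - 3 := by
        rw [Nat.card_eq_fintype_card, Fintype.card_subtype, show (Finset.univ.filter fun i => d i = 1) =
          (Finset.univ.filter fun i : Fin n => ¬ (i : ℕ) < 3) by
            ext i
            simp only [Finset.mem_filter, Finset.mem_univ, true_and, hdd]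
            split_ifs with h h'
            · simp only [h1, false_iff, not_not]; omega
            · simp only [hτ1, false_iff, not_not]; omega
            · simp only [true_iff]; omega]
        rw [Finset.filter_not, Finset.card_sdiff_of_subset (Finset.filter_subset _ _), Finset.card_univ,
          Fintype.card_fin, Fin.card_filter_val_lt]
        omega
      rw [h10, h30] at hc
      exact hgap ⟨by omega, e3⟩
  · -- μ = 1
    rw [c, one_div] at cz
    rcases cz with e | e | e
    · exact h2 (by rw [sq]; nth_rw 1 [← e]; exact inv_mul_cancel₀ hz0)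
    · rw [hτ, inv_inj] at e
      exact h1 (mul_left_cancel₀ hz0 (by rw [mul_one, ← sq, ← e]))
    · exact h1 (inv_eq_one.mp e)

theorem exists_bad_irreducible {p : ℕ} [Fact p.Prime] [CharP F p] (he : Even n) {r : ℕ} [Fact r.Prime] (hrp : r ≠ p)
    (hi : 3 ≤ orderOf (Fintype.card F : ZMod r)) (hio : Odd (orderOf (Fintype.card F : ZMod r)))
    (hin : orderOf (Fintype.card F : ZMod r) < n) :
    ∃ x : Matrix.SpecialLinearGroup (Fin n) F, IsBad r x := by
  classical
  obtain ⟨i, hii⟩ : ∃ i, i = orderOf (Fintype.card F : ZMod r) := ⟨_, rfl⟩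
  rw [← hii] at hi hio hin
  obtain ⟨x, ⟨c, hc⟩, hs, g, hgi, hgd, hch⟩ :=
    Elusive.exists_mixed (F := F) hrp (by rw [← hii]; omega) (a := n - i) (t := 1) (n := n) (by rw [← hii]; omega)
  rw [← hii] at hgd
  rw [pow_one] at hch
  obtain ⟨X, hX⟩ : ∃ X, X = Matrix.toLin' (x : Matrix (Fin n) (Fin n) F) := ⟨_, rfl⟩
  rw [← hX] at hs hch
  have hroot : ∀ a : F, ¬ g.IsRoot a := fun a h => by
    have := natDegree_eq_of_degree_eq (degree_eq_degree_of_associated
      ((irreducible_X_sub_C a).associated_of_dvd hgi (dvd_iff_isRoot.mpr h)))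
    rw [natDegree_X_sub_C, hgd] at this
    omega
  have hmult : ∀ a : F, X.charpoly.rootMultiplicity a = if a = 1 then n - i else 0 := fun a => by
    rw [hch, rootMultiplicity_mul (mul_ne_zero (pow_ne_zero _ (X_sub_C_ne_zero _)) hgi.ne_zero),
      rootMultiplicity_eq_zero (hroot a), add_zero]
    by_cases h : a = 1
    · rw [if_pos h, h, rootMultiplicity_X_sub_C_pow]
    · rw [if_neg h]
      exact rootMultiplicity_eq_zero (by simp [IsRoot, sub_eq_zero, h])
  have hker : ∀ a : F, finrank F (LinearMap.ker (X - a • (1 : Module.End F (Fin n → F)))) =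
      if a = 1 then n - i else 0 := fun a => by
    rw [← hmult a, ← LinearMap.finrank_maxGenEigenspace_eq, hs.isFinitelySemisimple.maxGenEigenspace_eq_eigenspace,
      Module.End.eigenspace_def]
  refine ⟨x, ⟨c, (Matrix.SpecialLinearGroup.coe_pow x r).symm.trans hc⟩, fun z hz => ?_, fun f hf μ hμ hiso => ?_⟩
  · have h1 := hker z
    rw [hX, hz, map_smul, Matrix.toLin'_one] at h1
    rw [show z • (LinearMap.id : (Fin n → F) →ₗ[F] (Fin n → F)) = z • (1 : Module.End F (Fin n → F)) from rfl,
      sub_self, LinearMap.ker_zero, finrank_top, Module.finrank_fin_fun] at h1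
    split_ifs at h1 <;> omega
  · rw [← hX] at hiso
    have h1 := finrank_ker_eq hf hiso (one_mul μ) one_ne_zero hμ
    rw [hker, hker, if_pos rfl] at h1
    have hμ1 : μ = 1 := by
      by_contra hne
      rw [if_neg hne] at h1
      omega
    have h0 := Elusive.aeval_of_charpoly hs (P := (Polynomial.X - C (1 : F)) * g) (N := n - i) (by
      rw [hch, mul_pow]
      exact mul_dvd_mul_left _ (dvd_pow_self g (by omega)))
    have hev := even_fixed hf hiso hμ1 (fun w hw => by
      obtain ⟨s, hs'⟩ := X_sub_C_dvd_sub_C_eval (a := (1 : F)) (p := g)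
      have e1 := LinearMap.congr_fun h0 w
      rw [mul_comm, map_mul, sub_eq_iff_eq_add.mp hs', map_add, map_mul, map_sub, aeval_X, aeval_C, aeval_C,
        map_one] at e1
      simp only [Module.End.mul_apply, LinearMap.add_apply, Module.algebraMap_end_apply, LinearMap.zero_apply] at e1
      have hcomm : Commute (X - 1) (aeval X s) := by
        have := (Commute.all (Polynomial.X - C (1 : F)) s).map (aeval X)
        simpa using this
      have e2 : (X - 1) ((aeval X s) ((X - 1) w)) = (aeval X s) ((X - 1) ((X - 1) w)) := LinearMap.congr_fun hcomm.eq _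
      rw [e2, hw, map_zero, zero_add, smul_eq_zero] at e1
      exact e1.resolve_left (hroot 1))
    have h2 := hker 1
    rw [one_smul, if_pos rfl] at h2
    rw [h2, Nat.even_sub (by omega)] at hev
    exact (Nat.not_even_iff_odd.mpr hio) (hev.mp he)

theorem exists_bad_unipotent {p : ℕ} [Fact p.Prime] [CharP F p] (hn : 3 ≤ n) (hp2 : p ≠ 2) :
    ∃ x : Matrix.SpecialLinearGroup (Fin n) F, IsBad p x := by
  classical
  obtain ⟨i0, hi0⟩ : ∃ i : Fin n, (i : ℕ) = 0 := ⟨⟨0, by omega⟩, rfl⟩
  obtain ⟨i1, hi1⟩ : ∃ i : Fin n, (i : ℕ) = 1 := ⟨⟨1, by omega⟩, rfl⟩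
  obtain ⟨i2, hi2⟩ : ∃ i : Fin n, (i : ℕ) = 2 := ⟨⟨2, by omega⟩, rfl⟩
  have h01 : i0 ≠ i1 := fun e => by simp [e, hi1] at hi0
  have h02 : i0 ≠ i2 := fun e => by simp [e, hi2] at hi0
  have h12 : i1 ≠ i2 := fun e => by simp [e, hi2] at hi1
  obtain ⟨N, hN⟩ : ∃ N : Matrix (Fin n) (Fin n) F, N = Matrix.single i0 i1 1 + Matrix.single i1 i2 1 := ⟨_, rfl⟩
  have hN2 : N * N = Matrix.single i0 i2 1 := by
    rw [hN]
    simp [add_mul, mul_add, Matrix.single_mul_single_same, Matrix.single_mul_single_of_ne, h01, h01.symm, h02.symm,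
      h12.symm]
  have hN3 : N * (N * N) = 0 := by
    rw [hN2, hN]
    simp [add_mul, Matrix.single_mul_single_of_ne, h01.symm, h02.symm]
  have hdet : (1 + N).det = 1 := by
    rw [Matrix.det_of_upperTriangular]
    · refine Finset.prod_eq_one fun i _ => ?_
      have a1 : ¬ (i0 = i ∧ i1 = i) := fun ⟨a, b⟩ => h01 (a.trans b.symm)
      have a2 : ¬ (i1 = i ∧ i2 = i) := fun ⟨a, b⟩ => h12 (a.trans b.symm)
      simp [hN, Matrix.single_apply, a1, a2]
    · intro i j hij
      have hlt : (j : ℕ) < i := hij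
      have a0 : i ≠ j := fun e => by simp [e] at hlt
      have a1 : ¬ (i0 = i ∧ i1 = j) := fun ⟨a, b⟩ => by rw [← a, ← b] at hlt; omega
      have a2 : ¬ (i1 = i ∧ i2 = j) := fun ⟨a, b⟩ => by rw [← a, ← b] at hlt; omega
      simp [hN, Matrix.single_apply, a0, a1, a2]
  have hp3 : 3 ≤ p := by have := (Fact.out : p.Prime).two_le; omega
  refine ⟨⟨1 + N, hdet⟩, ⟨1, ?_⟩, fun z hz => ?_, fun f hf μ hμ hX => ?_⟩
  · show (1 + N) ^ p = _
    haveI : Nonempty (Fin n) := ⟨i0⟩
    haveI : CharP (Matrix (Fin n) (Fin n) F) p := charP_of_injective_algebraMap' F (A := Matrix (Fin n) (Fin n) F) p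
    rw [add_pow_char_of_commute p (Commute.one_left N), one_pow, one_smul]
    have : N ^ p = 0 := pow_eq_zero_of_le hp3 (by rw [pow_succ', pow_two, hN3])
    rw [this, add_zero]
  · have := congrFun (congrFun hz i0) i1
    simp [hN, Matrix.single_apply, h01, h01.symm] at this
  · obtain ⟨X, hXd⟩ : ∃ X, X = Matrix.toLin' (1 + N) := ⟨_, rfl⟩
    have hX' : ∀ u v, f (X u) (X v) = μ * f u v := hXd ▸ hX
    have hXN : ∀ u, (X - 1) u = N *ᵥ u := fun u => by
      rw [hXd]; simp [Matrix.add_mulVec]
    have he0 : X (Pi.single i0 1) = Pi.single i0 1 := by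
      rw [hXd, Matrix.toLin'_apply, Matrix.add_mulVec, Matrix.one_mulVec, hN, Matrix.add_mulVec]
      ext j
      simp [Matrix.single_mulVec, h01.symm, h02.symm, Pi.single_apply]
    have h1 := finrank_ker_eq hf hX' (one_mul μ) one_ne_zero hμ
    have hpos : 0 < finrank F (LinearMap.ker (X - μ • (1 : Module.End F (Fin n → F)))) := by
      rw [← h1]
      refine Nat.pos_of_ne_zero fun h0 => ?_
      rw [Submodule.finrank_eq_zero] at h0
      have hm : (Pi.single i0 1 : Fin n → F) ∈ LinearMap.ker (X - (1 : F) • (1 : Module.End F (Fin n → F))) := by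
        simp [he0]
      rw [h0, Submodule.mem_bot] at hm
      simpa using congrFun hm i0
    obtain ⟨v, hv, hv0⟩ := Submodule.exists_mem_ne_zero_of_ne_bot (fun h0 => by
      rw [h0, finrank_bot] at hpos; exact lt_irrefl 0 hpos :
        LinearMap.ker (X - μ • (1 : Module.End F (Fin n → F))) ≠ ⊥)
    have hNv : N *ᵥ v = (μ - 1) • v := by
      rw [← hXN, LinearMap.sub_apply, Module.End.one_apply, sub_smul, one_smul]
      rw [LinearMap.mem_ker, LinearMap.sub_apply, sub_eq_zero] at hv
      rw [hv]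
      rfl
    have hN3v : ∀ u, N *ᵥ (N *ᵥ (N *ᵥ u)) = 0 := fun u => by
      rw [Matrix.mulVec_mulVec, Matrix.mulVec_mulVec, mul_assoc, hN3, Matrix.zero_mulVec]
    have hμ1 : μ = 1 := by
      have h3 := hN3v v
      rw [hNv, Matrix.mulVec_smul, hNv, smul_smul, Matrix.mulVec_smul, hNv, smul_smul, smul_eq_zero] at h3
      simpa [sub_eq_zero] using h3.resolve_right hv0
    exact no_rank_one_square hf hX' hμ1 (φ := LinearMap.proj i2) (z := Pi.single i0 1)
      (fun h => one_ne_zero (α := F) (by simpa using LinearMap.congr_fun h (Pi.single i2 1)))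
      (fun h => one_ne_zero (α := F) (by simpa using congrFun h i0))
      (fun u => by
        rw [hXN, hXN, Matrix.mulVec_mulVec, hN2, LinearMap.proj_apply]
        ext j
        simp [Matrix.single_mulVec, Pi.single_apply, Function.update_apply])
      (fun u => by rw [hXN, hXN, hXN, hN3v])

/-- Derangements of odd prime order of PSL_n(q) on the cosets of a symplectic-type subgroup. Here `T = PSL_n(F)` for a field `F` with `q` elements, `n ≥ 4` even, `f` is a nondegenerate alternating form on `F^n`, and `H` is the subgroup of matrices of determinant 1 preserving `f` up to a scalar — a maximal subgroup of type Sp_n(q); Ω is the set of `T`-conjugates of `H` (cosets of `H`), so an element of `T` of prime order `r` (a matrix `x` of determinant 1 with `x^r` scalar, `x` not scalar) fixes a point of Ω when some conjugate of `x` by a matrix of determinant 1 preserves `f` up to a scalar. For every odd prime `r` dividing the index of `H`, with `(n, r) ≠ (6, 3)`, there is an element of `T` of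 order `r` with no conjugate in `H`. (For `n = 6`, `r = 3` this can fail: when `(q − 1)_3 = 3` every element of order 3 is conjugate into `H`.) -/
theorem result {F : Type*} [Field F] [Fintype F] {p : ℕ} [Fact p.Prime] [CharP F p] {q : ℕ} (hq : Fintype.card F = q)
    (n : ℕ) (hn : 4 ≤ n) (he : Even n) (f : (Fin n → F) → (Fin n → F) → F) (hf : Cfsg.Geo.IsSymplecticForm f)
    (r : ℕ) [Fact r.Prime] (hr2 : r ≠ 2) (hgap : ¬ (n = 6 ∧ r = 3)) (hΩ : r ∣ ((Cfsg.Geo.similarityGroup f).comap (Matrix.SpecialLinearGroup.toGL : Matrix.SpecialLinearGroup (Fin n) F →* GL (Fin n) F)).index) :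
    ∃ x : Matrix.SpecialLinearGroup (Fin n) F,
      (∃ z : F, ((x ^ r : Matrix.SpecialLinearGroup (Fin n) F) : Matrix (Fin n) (Fin n) F) = z • (1 : Matrix (Fin n) (Fin n) F)) ∧
      (∀ z : F, (x : Matrix (Fin n) (Fin n) F) ≠ z • (1 : Matrix (Fin n) (Fin n) F)) ∧
      ∀ P : Matrix.SpecialLinearGroup (Fin n) F, P⁻¹ * x * P ∉ ((Cfsg.Geo.similarityGroup f).comap (Matrix.SpecialLinearGroup.toGL : Matrix.SpecialLinearGroup (Fin n) F →* GL (Fin n) F)) := by
  subst hq
  have hr : r.Prime := Fact.out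
  have hbad : ∃ x : Matrix.SpecialLinearGroup (Fin n) F, IsBad r x := by
    by_cases hrp : r = p
    · subst hrp
      exact exists_bad_unipotent (by omega) hr2
    obtain ⟨m, hm⟩ : ∃ m, n = 2 * m := ⟨n / 2, (Nat.two_mul_div_two_of_even he).symm⟩
    obtain ⟨j, hjo, hj3, hjn, hjd⟩ := exists_odd_exponent p hf hm (by omega) hr hr2 hrp hΩ
    have hij := (Elusive.orderOf_dvd_iff' j).mp hjd
    have hio : Odd (orderOf (Fintype.card F : ZMod r)) := hjo.of_dvd_nat hij
    have hile := Nat.le_of_dvd (by omega) hij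
    by_cases h1 : orderOf (Fintype.card F : ZMod r) = 1
    · exact exists_bad_one hn he hr2 hgap (Elusive.orderOf_eq_one_iff'.mp h1)
    · obtain ⟨t, ht⟩ := hio
      exact exists_bad_irreducible he hrp (by omega) ⟨t, ht⟩ (by omega)
  obtain ⟨x, ⟨z, hz⟩, hns, hno⟩ := hbad
  refine ⟨x, ⟨z, (Matrix.SpecialLinearGroup.coe_pow x r).trans hz⟩, hns, fun P hP => ?_⟩
  rw [Subgroup.mem_comap, map_mul, map_mul, map_inv] at hP
  obtain ⟨c, hc⟩ := hP
  obtain ⟨g, hg⟩ : ∃ g, g = (Matrix.SpecialLinearGroup.toGL P)⁻¹ := ⟨_, rfl⟩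
  refine hno _ (isSymplecticForm_comp hf g) (c : F) c.ne_zero fun u v => ?_
  have key : ∀ w : Fin n → F, (g : Matrix (Fin n) (Fin n) F) *ᵥ (Matrix.toLin' (x : Matrix (Fin n) (Fin n) F) w) =
      ((g * Matrix.SpecialLinearGroup.toGL x * g⁻¹ : GL (Fin n) F) : Matrix (Fin n) (Fin n) F) *ᵥ
        ((g : Matrix (Fin n) (Fin n) F) *ᵥ w) := by
    intro w
    rw [Matrix.toLin'_apply, Matrix.mulVec_mulVec, Matrix.mulVec_mulVec, ← Units.val_mul, inv_mul_cancel_right,
      Units.val_mul]
    rfl
  rw [key, key]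
  rw [← hg, ← inv_inv (Matrix.SpecialLinearGroup.toGL P), ← hg] at hc
  exact hc _ _

end Cfsg.Agent.S5968
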