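import Cfsg.Statements.S5969
import Cfsg.Agent.Lib.Classical.Elusive.InvolPowers
-- import your own Cfsg.Agent.* helpers here

set_option autoImplicit false
open scoped MatrixGroups
open Cfsg

namespace Cfsg.Agent.S5969

open Cfsg.Agent.Classical.Elusive Module Matrix

section

variable {F : Type*} [Field F] {n : ℕ} {K : Subalgebra F (Matrix (Fin n) (Fin n) F)}
  (hK : Cfsg.Geo.IsFieldSubalgebra 2 K)

include hK

theorem eq_zero_of_mulVec {k : Matrix (Fin n) (Fin n) F} (hk : k ∈ K) {v : Fin n → F} (hv : v ≠ 0) (h : k *ᵥ v = 0) :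
    k = 0 := by
  by_contra hk0
  obtain ⟨l, hl, hkl⟩ := hK.inv k hk hk0
  have h' : (l * k) *ᵥ v = v := by rw [← hK.comm k hk l hl, hkl, Matrix.one_mulVec]
  rw [← Matrix.mulVec_mulVec, h, Matrix.mulVec_zero] at h'
  exact hv h'.symm

theorem exists_gen (hn : 0 < n) :
    ∃ θ ∈ K, (∀ s : F, θ ≠ s • (1 : Matrix (Fin n) (Fin n) F)) ∧
      ∀ k ∈ K, ∃ a b : F, k = a • (1 : Matrix (Fin n) (Fin n) F) + b • θ := by
  haveI : Nonempty (Fin n) := ⟨⟨0, hn⟩⟩
  obtain ⟨θ, hθ, hns⟩ : ∃ θ ∈ K, ∀ s : F, θ ≠ s • (1 : Matrix (Fin n) (Fin n) F) := by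
    by_contra h
    push_neg at h
    have hle : Subalgebra.toSubmodule K ≤ Submodule.span F {(1 : Matrix (Fin n) (Fin n) F)} := fun k hk => by
      obtain ⟨s, hs⟩ := h k hk
      exact hs ▸ Submodule.smul_mem _ _ (Submodule.mem_span_singleton_self _)
    have h1 := Submodule.finrank_mono hle
    have h2 : finrank F (Subalgebra.toSubmodule K) = 2 := hK.finrank_eq
    rw [finrank_span_singleton (one_ne_zero : (1 : Matrix (Fin n) (Fin n) F) ≠ 0), h2] at h1
    omega
  refine ⟨θ, hθ, hns, fun k hk => ?_⟩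
  have hli : LinearIndependent F ![(1 : Matrix (Fin n) (Fin n) F), θ] :=
    (LinearIndependent.pair_iff' one_ne_zero).mpr fun s hs => hns s hs.symm
  have hsp : Submodule.span F (Set.range ![(1 : Matrix (Fin n) (Fin n) F), θ]) = Subalgebra.toSubmodule K := by
    refine Submodule.eq_of_le_of_finrank_eq (Submodule.span_le.mpr ?_) ?_
    · rintro _ ⟨i, rfl⟩
      fin_cases i
      · exact K.one_mem
      · exact hθ
    · rw [finrank_span_eq_card hli, Fintype.card_fin]
      exact hK.finrank_eq.symm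
  have hk' : k ∈ Submodule.span F (Set.range ![(1 : Matrix (Fin n) (Fin n) F), θ]) := hsp ▸ hk
  obtain ⟨c, hc⟩ := (Submodule.mem_span_range_iff_exists_fun F).mp hk'
  exact ⟨c 0, c 1, by simpa [Fin.sum_univ_two] using hc.symm⟩

theorem mem_normalizer (hn : 0 < n) {θ : Matrix (Fin n) (Fin n) F} (hθ : θ ∈ K)
    (hgen : ∀ k ∈ K, ∃ a b : F, k = a • (1 : Matrix (Fin n) (Fin n) F) + b • θ) {y : GL (Fin n) F}
    {θ' : Matrix (Fin n) (Fin n) F} (hθ' : θ' ∈ K)
    (h : (y : Matrix (Fin n) (Fin n) F) * θ = θ' * (y : Matrix (Fin n) (Fin n) F)) :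
    y ∈ Cfsg.Geo.subalgebraNormalizer K := by
  haveI : Nonempty (Fin n) := ⟨⟨0, hn⟩⟩
  let φ : Matrix (Fin n) (Fin n) F →ₗ[F] Matrix (Fin n) (Fin n) F :=
    (LinearMap.mulRight F ((y⁻¹ : GL (Fin n) F) : Matrix (Fin n) (Fin n) F)).comp
      (LinearMap.mulLeft F (y : Matrix (Fin n) (Fin n) F))
  have hφ : ∀ k, φ k = (y : Matrix (Fin n) (Fin n) F) * k * ((y⁻¹ : GL (Fin n) F) : Matrix (Fin n) (Fin n) F) :=
    fun k => rfl
  have hinj : Function.Injective φ := fun k l hkl => by
    have := congrArg (fun M => ((y⁻¹ : GL (Fin n) F) : Matrix (Fin n) (Fin n) F) * M * (y : Matrix (Fin n) (Fin n) F)) hkl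
    simpa [hφ, Matrix.mul_assoc] using this
  have hle : (Subalgebra.toSubmodule K).map φ ≤ Subalgebra.toSubmodule K := by
    rintro _ ⟨k, hk, rfl⟩
    obtain ⟨a, b, rfl⟩ := hgen k hk
    rw [map_add, map_smul, map_smul, hφ, hφ, mul_one, Units.mul_inv, h, mul_assoc, Units.mul_inv, mul_one]
    exact add_mem (Submodule.smul_mem _ _ K.one_mem) (Submodule.smul_mem _ _ hθ')
  have heq : (Subalgebra.toSubmodule K).map φ = Subalgebra.toSubmodule K :=
    Submodule.eq_of_le_of_finrank_eq hle (Submodule.equivMapOfInjective φ hinj _).finrank_eq.symm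
  intro k
  refine ⟨fun hk => hle ⟨k, hk, rfl⟩, fun hk => ?_⟩
  have : φ k ∈ (Subalgebra.toSubmodule K).map φ := by rw [heq]; exact hk
  obtain ⟨l, hl, hlk⟩ := this
  exact hinj hlk ▸ hl

/-- A normaliser element acting as a scalar on a hyperplane centralises the field. -/
theorem central_of_hyperplane (hn : 3 ≤ n) {θ : Matrix (Fin n) (Fin n) F} (hθ : θ ∈ K)
    (hns : ∀ s : F, θ ≠ s • (1 : Matrix (Fin n) (Fin n) F)) {y : GL (Fin n) F}
    (hy : y ∈ Cfsg.Geo.subalgebraNormalizer K) {μ : F} (hμ : μ ≠ 0) {H : Submodule F (Fin n → F)}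
    (hH : n - 1 ≤ finrank F H) (hu : ∀ u ∈ H, (y : Matrix (Fin n) (Fin n) F) *ᵥ u = μ • u) :
    (y : Matrix (Fin n) (Fin n) F) * θ = θ * (y : Matrix (Fin n) (Fin n) F) := by
  obtain ⟨θ', hθ'def⟩ : ∃ θ', θ' = (y : Matrix (Fin n) (Fin n) F) * θ *
    ((y⁻¹ : GL (Fin n) F) : Matrix (Fin n) (Fin n) F) := ⟨_, rfl⟩
  have hθ' : θ' ∈ K := hθ'def ▸ (hy θ).mp hθ
  have hyθ : (y : Matrix (Fin n) (Fin n) F) * θ = θ' * (y : Matrix (Fin n) (Fin n) F) := by
    rw [hθ'def, mul_assoc, Units.inv_mul, mul_one]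
  have hinj : Function.Injective (Matrix.toLin' θ) := by
    rw [← LinearMap.ker_eq_bot, LinearMap.ker_eq_bot']
    intro v hv
    by_contra hv0
    exact hns 0 (by rw [zero_smul]; exact eq_zero_of_mulVec hK hθ hv0 hv)
  have hne : H ⊓ H.map (Matrix.toLin' θ) ≠ ⊥ := by
    intro h0
    have h1 := Submodule.finrank_sup_add_finrank_inf_eq H (H.map (Matrix.toLin' θ))
    rw [h0, finrank_bot, add_zero, ← (Submodule.equivMapOfInjective _ hinj H).finrank_eq] at h1
    have h2 := Submodule.finrank_le (H ⊔ H.map (Matrix.toLin' θ))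
    rw [finrank_fin_fun] at h2
    omega
  obtain ⟨v, ⟨hvH, u, huH, rfl⟩, hv0⟩ := Submodule.exists_mem_ne_zero_of_ne_bot hne
  rw [Matrix.toLin'_apply] at hvH hv0
  have hu0 : u ≠ 0 := fun h => hv0 (by rw [h, Matrix.mulVec_zero])
  have h3 : (θ - θ') *ᵥ u = 0 := by
    have := hu _ hvH
    rw [Matrix.mulVec_mulVec, hyθ, ← Matrix.mulVec_mulVec, hu u huH, Matrix.mulVec_smul] at this
    rw [Matrix.sub_mulVec, ← smul_right_injective _ hμ this, sub_self]
  rw [hyθ, ← sub_eq_zero.mp (eq_zero_of_mulVec hK (sub_mem hθ hθ') hu0 h3)]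

theorem not_eigen {θ : Matrix (Fin n) (Fin n) F} (hθ : θ ∈ K) (hns : ∀ s : F, θ ≠ s • (1 : Matrix (Fin n) (Fin n) F))
    {w : Fin n → F} (hw : w ≠ 0) (s : F) : θ *ᵥ w ≠ s • w := by
  intro h
  refine hns s (sub_eq_zero.mp (eq_zero_of_mulVec hK (sub_mem hθ (K.smul_mem K.one_mem s)) hw ?_))
  rw [Matrix.sub_mulVec, Matrix.smul_mulVec, Matrix.one_mulVec, h, sub_self]

end

theorem toMatrix'_comm {F : Type*} [Field F] {n m : ℕ} {b : Basis (Fin 2 × Fin m) F (Fin n → F)}
    {Y : Module.End F (Fin n → F)} {M T T' : Fin m → Matrix (Fin 2) (Fin 2) F} {θ θ' : Matrix (Fin n) (Fin n) F}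
    (hY : LinearMap.toMatrix b b Y = Matrix.blockDiagonal M)
    (hθ : LinearMap.toMatrix b b (Matrix.toLin' θ) = Matrix.blockDiagonal T)
    (hθ' : LinearMap.toMatrix b b (Matrix.toLin' θ') = Matrix.blockDiagonal T') (h : ∀ i, M i * T i = T' i * M i) :
    LinearMap.toMatrix' Y * θ = θ' * LinearMap.toMatrix' Y := by
  classical
  have h1 : Y * Matrix.toLin' θ = Matrix.toLin' θ' * Y := by
    apply (LinearMap.toMatrix b b).injective
    rw [LinearMap.toMatrix_mul, LinearMap.toMatrix_mul, hY, hθ, hθ', ← Matrix.blockDiagonal_mul, ← Matrix.blockDiagonal_mul]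
    exact congrArg Matrix.blockDiagonal (funext h)
  have := congrArg LinearMap.toMatrix' h1
  rwa [LinearMap.toMatrix'_mul, LinearMap.toMatrix'_mul, LinearMap.toMatrix'_toLin', LinearMap.toMatrix'_toLin'] at this


/-- Involutions of PSL_n(q) and extension-field subgroups of degree 2. Here `T = PSL_n(F)` for a field `F` with `q = p^f` elements (`n ≥ 2`, `(n, q) ≠ (2, 2), (2, 3)`), `k` is a prime dividing `n`, `K` is a subalgebra of the `n × n` matrices that is a field of degree `k` over `F` (an extension-field structure F_{q^k} on `F^n`), and `H` is the subgroup of matrices of determinant 1 normalizing `K` — a subgroup of type GL_{n/k}(q^k) (maximal except in some small cases; maximality is not assumed); Ω is the set of cosets of `H` in `T`, so an element of `T` of prime order `r` (a matrix `x` of determinant 1 with `x^r` scalar, `x` not scalar) fixes a point of Ω when some conjugate of `x` by a matrix of determinant 1 normalizes `K`. Take `k = 2` and suppose the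 index of `H` is even. Then every involution of `T` is conjugate in `T` into `H` if and only if `n = 2`, or `q` is odd and `(q − 1)_2 ≤ (n)_2`. -/
theorem result {F : Type*} [Field F] [Fintype F] {p : ℕ} [Fact p.Prime] [CharP F p] {q : ℕ} (hq : Fintype.card F = q)
    (n : ℕ) (hn : 2 ≤ n) (hT : (n, q) ≠ (2, 2) ∧ (n, q) ≠ (2, 3))
    (k : ℕ) (hk : k.Prime) (hkn : k ∣ n) (K : Subalgebra F (Matrix (Fin n) (Fin n) F)) (hK : Cfsg.Geo.IsFieldSubalgebra k K) (hk2 : k = 2) (hΩ : 2 ∣ ((Cfsg.Geo.subalgebraNormalizer K).comap (Matrix.SpecialLinearGroup.toGL : Matrix.SpecialLinearGroup (Fin n) F →* GL (Fin n) F)).index) :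
    (∀ x : Matrix.SpecialLinearGroup (Fin n) F,
      (∃ z : F, ((x ^ 2 : Matrix.SpecialLinearGroup (Fin n) F) : Matrix (Fin n) (Fin n) F) = z • (1 : Matrix (Fin n) (Fin n) F)) →
      (∀ z : F, (x : Matrix (Fin n) (Fin n) F) ≠ z • (1 : Matrix (Fin n) (Fin n) F)) →
      ∃ P : Matrix.SpecialLinearGroup (Fin n) F, P⁻¹ * x * P ∈ ((Cfsg.Geo.subalgebraNormalizer K).comap (Matrix.SpecialLinearGroup.toGL : Matrix.SpecialLinearGroup (Fin n) F →* GL (Fin n) F))) ↔
    (n = 2 ∨ (Odd q ∧ padicValNat 2 (q - 1) ≤ padicValNat 2 n)) := by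
  classical
  subst hk2
  obtain ⟨m, hm⟩ := hkn
  obtain ⟨θ₀, hθ₀, hns₀, hgen₀⟩ := exists_gen hK (by omega)
  have hdim : finrank F (Fin n → F) = 2 * m := by rw [finrank_fin_fun, hm]
  have i₀ : Fin m := ⟨0, by omega⟩
  constructor
  · intro h
    by_contra hcon
    push_neg at hcon
    obtain ⟨hn2, hlt⟩ := hcon
    by_cases h2 : (2 : F) = 0
    · haveI : CharP F 2 := CharTwo.of_one_ne_zero_of_two_eq_zero one_ne_zero h2
      obtain ⟨i, hi⟩ : ∃ i : Fin n, (i : ℕ) = 0 := ⟨⟨0, by omega⟩, rfl⟩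
      obtain ⟨j, hj⟩ : ∃ j : Fin n, (j : ℕ) = 1 := ⟨⟨1, by omega⟩, rfl⟩
      have hij : i ≠ j := fun h => by rw [h] at hi; omega
      obtain ⟨x, hx⟩ : ∃ x : Matrix.SpecialLinearGroup (Fin n) F,
          (x : Matrix (Fin n) (Fin n) F) = Matrix.transvection i j 1 :=
        ⟨⟨_, Matrix.det_transvection_of_ne i j hij 1⟩, rfl⟩
      obtain ⟨P, hP⟩ := h x ⟨1, by
          rw [Matrix.SpecialLinearGroup.coe_pow, hx, pow_two, Matrix.transvection_mul_transvection_same i j hij,
            CharTwo.add_self_eq_zero, Matrix.transvection_zero, one_smul]⟩ (fun z hz => by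
          have := congrFun (congrFun hz i) j
          simp [hx, Matrix.transvection, hij] at this)
      rw [Subgroup.mem_comap] at hP
      obtain ⟨H, hH⟩ : ∃ H, H = LinearMap.ker ((LinearMap.proj j).comp (Matrix.toLin' (P : Matrix (Fin n) (Fin n) F))) :=
        ⟨_, rfl⟩
      have hPP : ∀ v, (↑(P⁻¹) : Matrix (Fin n) (Fin n) F) *ᵥ ((P : Matrix (Fin n) (Fin n) F) *ᵥ v) = v := fun v => by
        rw [Matrix.mulVec_mulVec, ← Matrix.SpecialLinearGroup.coe_mul, inv_mul_cancel, Matrix.SpecialLinearGroup.coe_one,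
          Matrix.one_mulVec]
      have hPP' : ∀ v, (P : Matrix (Fin n) (Fin n) F) *ᵥ ((↑(P⁻¹) : Matrix (Fin n) (Fin n) F) *ᵥ v) = v := fun v => by
        rw [Matrix.mulVec_mulVec, ← Matrix.SpecialLinearGroup.coe_mul, mul_inv_cancel, Matrix.SpecialLinearGroup.coe_one,
          Matrix.one_mulVec]
      obtain ⟨w, hw⟩ : ∃ w, w = (↑(P⁻¹) : Matrix (Fin n) (Fin n) F) *ᵥ Pi.single i (1 : F) := ⟨_, rfl⟩
      have hyv : ∀ v, ((P⁻¹ * x * P : Matrix.SpecialLinearGroup (Fin n) F) : Matrix (Fin n) (Fin n) F) *ᵥ v =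
          v + (((P : Matrix (Fin n) (Fin n) F) *ᵥ v) j) • w := by
        intro v
        rw [Matrix.SpecialLinearGroup.coe_mul, Matrix.SpecialLinearGroup.coe_mul, hx, ← Matrix.mulVec_mulVec,
          ← Matrix.mulVec_mulVec, Matrix.transvection, Matrix.add_mulVec, Matrix.one_mulVec, Matrix.mulVec_add, hPP,
          Matrix.single_mulVec, hw, ← Matrix.mulVec_smul]
        congr 2
        funext l
        by_cases hl : l = i <;> simp [hl]
      have hc := central_of_hyperplane hK (by omega) hθ₀ hns₀ hP (μ := 1) one_ne_zero (H := H) (by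
          have h1 := ((LinearMap.proj (R := F) (φ := fun _ : Fin n => F) j).comp
            (Matrix.toLin' (P : Matrix (Fin n) (Fin n) F))).finrank_range_add_finrank_ker
          rw [finrank_fin_fun, ← hH] at h1
          have h2 := (LinearMap.range ((LinearMap.proj (R := F) (φ := fun _ : Fin n => F) j).comp
            (Matrix.toLin' (P : Matrix (Fin n) (Fin n) F)))).finrank_le
          rw [finrank_self] at h2
          omega) (fun u hu => by
          rw [hH] at hu
          refine (hyv u).trans ?_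
          rw [show ((P : Matrix (Fin n) (Fin n) F) *ᵥ u) j = 0 from hu, zero_smul, add_zero, one_smul])
      change ((P⁻¹ * x * P : Matrix.SpecialLinearGroup (Fin n) F) : Matrix (Fin n) (Fin n) F) * θ₀ =
        θ₀ * ((P⁻¹ * x * P : Matrix.SpecialLinearGroup (Fin n) F) : Matrix (Fin n) (Fin n) F) at hc
      have hw0 : w ≠ 0 := fun h0 => by
        have := congrArg (fun v => ((P : Matrix (Fin n) (Fin n) F) *ᵥ v) i) h0
        simp only [hw, hPP', Pi.single_eq_same, Matrix.mulVec_zero, Pi.zero_apply] at this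
        exact one_ne_zero this
      have h5 := congrArg (fun M => M *ᵥ ((↑(P⁻¹) : Matrix (Fin n) (Fin n) F) *ᵥ Pi.single j (1 : F))) hc
      simp only [← Matrix.mulVec_mulVec] at h5
      rw [hyv, hyv, hPP', Pi.single_eq_same, one_smul, Matrix.mulVec_add, add_right_inj] at h5
      exact not_eigen hK hθ₀ hns₀ hw0 _ h5.symm
    · have hodd : Odd q := by
        rw [← hq, Nat.odd_iff]
        exact FiniteField.odd_card_of_char_ne_two fun hc => h2 (by
          haveI := ringChar.charP F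
          exact_mod_cast (CharP.cast_eq_zero_iff F (ringChar F) 2).mpr (dvd_of_eq hc))
      have hlt' := hlt hodd
      rw [← hq] at hlt'
      obtain ⟨μ, hμ⟩ := (exists_pow_eq_neg_one_iff h2 (n := n) (by omega)).mpr hlt'
      obtain ⟨x, hx2, hxs, hconj⟩ := exists_reflection (n := n) (by omega) hμ h2
      obtain ⟨P, hP⟩ := h x ⟨_, hx2⟩ hxs
      rw [Subgroup.mem_comap] at hP
      obtain ⟨H, w, hH, hwH, hu, hw⟩ := hconj P
      have hμ0 : μ ≠ 0 := fun h0 => by
        rw [h0, zero_pow (by omega)] at hμ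
        exact one_ne_zero (neg_eq_zero.mp hμ.symm)
      have hc := central_of_hyperplane hK (by omega) hθ₀ hns₀ hP hμ0 hH hu
      obtain ⟨y, hy⟩ : ∃ y, y = ((P⁻¹ * x * P : Matrix.SpecialLinearGroup (Fin n) F) : Matrix (Fin n) (Fin n) F) :=
        ⟨_, rfl⟩
      change ((P⁻¹ * x * P : Matrix.SpecialLinearGroup (Fin n) F) : Matrix (Fin n) (Fin n) F) * θ₀ =
        θ₀ * ((P⁻¹ * x * P : Matrix.SpecialLinearGroup (Fin n) F) : Matrix (Fin n) (Fin n) F) at hc
      rw [← hy] at hu hw hc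
      have htop : H ⊔ Submodule.span F {w} = ⊤ := by
        apply Submodule.eq_top_of_finrank_eq
        have hlt' : H < H ⊔ Submodule.span F {w} := lt_of_le_of_ne le_sup_left fun h' =>
          hwH (h'.symm ▸ Submodule.mem_sup_right (Submodule.mem_span_singleton_self w))
        have := Submodule.finrank_lt_finrank_of_lt hlt'
        have := Submodule.finrank_le (H ⊔ Submodule.span F {w})
        rw [finrank_fin_fun] at this ⊢
        omega
      obtain ⟨a, ha, b, hb, hab⟩ := Submodule.mem_sup.mp (htop.symm ▸ Submodule.mem_top (x := θ₀ *ᵥ w))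
      obtain ⟨s, rfl⟩ := Submodule.mem_span_singleton.mp hb
      have h5 := congrArg (fun M => M *ᵥ w) hc
      simp only [← Matrix.mulVec_mulVec, hw, Matrix.mulVec_smul, ← hab, Matrix.mulVec_add, hu a ha] at h5
      have ha0 : (2 * μ) • a = 0 := by linear_combination (norm := module) h5
      rw [(smul_eq_zero.mp ha0).resolve_left (mul_ne_zero h2 hμ0), zero_add] at hab
      exact not_eigen hK hθ₀ hns₀ (fun h0 => hwH (by rw [h0]; exact H.zero_mem)) s hab.symm
  · rintro hle x ⟨z, hz⟩ -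
    obtain ⟨hz0, hx⟩ := sl_sq (by omega) x hz
    suffices key : ∃ (b b' : Basis (Fin 2 × Fin m) F (Fin n → F)) (M : Fin m → Matrix (Fin 2) (Fin 2) F)
        (Y : Module.End F (Fin n → F)) (θ θ' : Matrix (Fin n) (Fin n) F),
        LinearMap.toMatrix b b (Matrix.toLin' (x : Matrix (Fin n) (Fin n) F)) = Matrix.blockDiagonal M ∧
        LinearMap.toMatrix b' b' Y = Matrix.blockDiagonal M ∧
        (∀ c : F, c ≠ 0 → ∃ (i : Fin m) (Z : Matrix (Fin 2) (Fin 2) F), Z.det = c ∧ Z * M i = M i * Z) ∧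
        θ ∈ K ∧ θ' ∈ K ∧ (∀ k ∈ K, ∃ a b : F, k = a • (1 : Matrix (Fin n) (Fin n) F) + b • θ) ∧
        LinearMap.toMatrix' Y * θ = θ' * LinearMap.toMatrix' Y by
      obtain ⟨b, b', M, Y, θ, θ', hxb, hY, hZ, hθ, hθ', hgen, hcomm⟩ := key
      obtain ⟨P, hP⟩ := exists_sl_conj x hxb hY hZ
      refine ⟨P, mem_normalizer hK (by omega) hθ hgen hθ' ?_⟩
      show ((P⁻¹ * x * P : Matrix.SpecialLinearGroup (Fin n) F) : Matrix (Fin n) (Fin n) F) * θ =
        θ' * ((P⁻¹ * x * P : Matrix.SpecialLinearGroup (Fin n) F) : Matrix (Fin n) (Fin n) F)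
      rw [hP]
      exact hcomm
    obtain ⟨a₀, b₀, hsq₀⟩ := hgen₀ _ (K.mul_mem hθ₀ hθ₀)
    by_cases h2 : (2 : F) = 0
    · haveI : CharP F 2 := CharTwo.of_one_ne_zero_of_two_eq_zero one_ne_zero h2
      have hring : ringChar F = 2 := ringChar.eq F 2
      have hn2 : n = 2 := by
        rcases hle with h | ⟨hodd, -⟩
        · exact h
        · have := FiniteField.even_card_of_char_two hring
          rw [hq] at this
          have := Nat.odd_iff.mp hodd
          omega
      have hb₀ : b₀ ≠ 0 := by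
        intro h0
        obtain ⟨s, hs⟩ := FiniteField.isSquare_of_char_two hring a₀
        apply hns₀ s
        obtain ⟨v, hv⟩ : ∃ v : Fin n → F, v ≠ 0 := by
          haveI : Nonempty (Fin n) := ⟨⟨0, by omega⟩⟩
          exact exists_ne 0
        have hsq : (θ₀ - s • 1) * (θ₀ - s • 1) = 0 := by
          simp only [sub_mul, mul_sub, hsq₀, h0, hs, smul_mul_assoc, one_mul, mul_smul_comm, mul_one, smul_smul]
          linear_combination (norm := module) congrArg
            (fun t : F => t • ((s * s) • (1 : Matrix (Fin n) (Fin n) F) - s • θ₀)) h2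
        by_contra hne
        obtain ⟨l, -, hl⟩ := hK.inv _ (sub_mem hθ₀ (K.smul_mem K.one_mem s)) (sub_ne_zero.mpr hne)
        have h7 := congrArg (· * l) hsq
        simp only [zero_mul, mul_assoc, hl, mul_one] at h7
        exact hne (sub_eq_zero.mp h7)
      obtain ⟨θ, hθdef⟩ : ∃ θ, θ = b₀⁻¹ • θ₀ := ⟨_, rfl⟩
      have hθ : θ ∈ K := hθdef ▸ K.smul_mem hθ₀ _
      have hθθ : θ * θ = θ + (b₀⁻¹ * b₀⁻¹ * a₀) • 1 := by
        rw [hθdef, smul_mul_smul_comm, hsq₀, smul_add, smul_smul, smul_smul, add_comm,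
          show b₀⁻¹ * b₀⁻¹ * b₀ = b₀⁻¹ by field_simp]
      have hgen : ∀ k ∈ K, ∃ a b : F, k = a • (1 : Matrix (Fin n) (Fin n) F) + b • θ := fun k hk => by
        obtain ⟨a, b, rfl⟩ := hgen₀ k hk
        exact ⟨a, b * b₀, by rw [hθdef, smul_smul, mul_assoc, mul_inv_cancel₀ hb₀, mul_one]⟩
      have hnsθ : ∀ s : F, θ ≠ s • (1 : Matrix (Fin n) (Fin n) F) := fun s hs => hns₀ (b₀ * s) (by
        rw [mul_smul, ← hs, hθdef, smul_smul, mul_inv_cancel₀ hb₀, one_smul])
      obtain ⟨μ, hμ⟩ := FiniteField.isSquare_of_char_two hring z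
      have hμ0 : μ ≠ 0 := fun h => hz0 (by rw [hμ, h, mul_zero])
      obtain ⟨t, -, -, b, hb⟩ := exists_jordan_basis hdim h2 hμ0 (fun v => by rw [hx, hμ])
      obtain ⟨v, hv⟩ : ∃ v : Fin n → F, v ≠ 0 := by
        haveI : Nonempty (Fin n) := ⟨⟨0, by omega⟩⟩
        exact exists_ne 0
      have hm1 : m = 1 := by omega
      subst hm1
      let g : Fin 2 × Fin 1 → (Fin n → F) := fun l => if l.1 = 0 then θ *ᵥ v else v
      have hli : LinearIndependent F g := by
        rw [Fintype.linearIndependent_iff]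
        intro c hc
        rw [Fintype.sum_prod_type, Fin.sum_univ_two, Fin.sum_univ_one, Fin.sum_univ_one] at hc
        simp only [g, if_true, one_ne_zero, if_false] at hc
        have hc0 : c (0, 0) = 0 := by
          by_contra h0
          apply not_eigen hK hθ hnsθ hv (-(c (0, 0))⁻¹ * c (1, 0))
          have := congrArg (fun w => (c (0, 0))⁻¹ • w) hc
          simp only [smul_add, smul_smul, inv_mul_cancel₀ h0, one_smul, smul_zero] at this
          rw [eq_neg_of_add_eq_zero_left this, neg_mul, neg_smul]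
        rw [hc0, zero_smul, zero_add, smul_eq_zero] at hc
        rintro ⟨k, i⟩
        obtain rfl : i = 0 := Subsingleton.elim _ _
        fin_cases k
        · exact hc0
        · exact hc.resolve_right hv
      obtain ⟨b', hb'⟩ := exists_basis_of_span hdim g fun w => by
        rw [hli.span_eq_top_of_card_eq_finrank' (by rw [Fintype.card_prod, Fintype.card_fin, Fintype.card_fin, hdim])]
        trivial
      obtain ⟨c, hcdef⟩ : ∃ c, c = b₀⁻¹ * b₀⁻¹ * a₀ := ⟨_, rfl⟩
      rw [← hcdef] at hθθ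
      have hTθ : LinearMap.toMatrix b' b' (Matrix.toLin' θ) = Matrix.blockDiagonal fun _ => !![1, 1; c, 0] := by
        refine toMatrix_of_apply fun k i => ?_
        obtain rfl : i = 0 := Subsingleton.elim _ _
        rw [hb']
        fin_cases k <;> simp [g, Matrix.mulVec_mulVec, hθθ, Matrix.add_mulVec, Matrix.smul_mulVec]
      obtain ⟨Y, hYdef⟩ : ∃ Y, Y = Matrix.toLin b' b'
          (Matrix.blockDiagonal fun i : Fin 1 => blockJordan μ ((i : ℕ) < t)) := ⟨_, rfl⟩
      have hY : LinearMap.toMatrix b' b' Y = Matrix.blockDiagonal fun i : Fin 1 => blockJordan μ ((i : ℕ) < t) := by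
        rw [hYdef, LinearMap.toMatrix_toLin]
      by_cases ht : t = 0
      · refine ⟨b, b', _, Y, θ, θ, hb, hY, fun c _ => centraliser_jordan hring i₀ μ t c, hθ, hθ, hgen,
          toMatrix'_comm hY hTθ hTθ fun i => ?_⟩
        ext k l; fin_cases k <;> fin_cases l <;> simp [blockJordan, ht, Matrix.mul_apply, Fin.sum_univ_two, mul_comm]
      · refine ⟨b, b', _, Y, θ, θ + 1, hb, hY, fun c _ => centraliser_jordan hring i₀ μ t c, hθ,
          add_mem hθ K.one_mem, hgen, toMatrix'_comm hY hTθ (T' := fun _ => !![1, 1; c, 0] + 1) ?_ fun i => ?_⟩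
        · rw [map_add, map_add, hTθ, Matrix.toLin'_one, LinearMap.toMatrix_id, ← Matrix.blockDiagonal_one,
            ← Matrix.blockDiagonal_add]
          rfl
        · have hi : (i : ℕ) < t := by omega
          simp only [blockJordan, if_pos hi]
          ext k l
          fin_cases k <;> fin_cases l <;>
            simp [Matrix.mul_apply, Fin.sum_univ_two, CharTwo.add_self_eq_zero] <;> ring
    obtain ⟨θ, hθdef⟩ : ∃ θ, θ = θ₀ - (b₀ / 2) • (1 : Matrix (Fin n) (Fin n) F) := ⟨_, rfl⟩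
    obtain ⟨d, hddef⟩ : ∃ d, d = a₀ + (b₀ / 2) * (b₀ / 2) := ⟨_, rfl⟩
    have hθ : θ ∈ K := hθdef ▸ sub_mem hθ₀ (K.smul_mem K.one_mem _)
    have hθθ : θ * θ = d • (1 : Matrix (Fin n) (Fin n) F) := by
      have hb2 : b₀ = b₀ / 2 + b₀ / 2 := by rw [← two_mul, mul_div_cancel₀ b₀ h2]
      simp only [hθdef, hddef, sub_mul, mul_sub, hsq₀, smul_mul_assoc, one_mul, mul_smul_comm, mul_one, smul_smul]
      generalize b₀ / 2 = s at hb2
      rw [hb2]
      module
    have hgen : ∀ k ∈ K, ∃ a b : F, k = a • (1 : Matrix (Fin n) (Fin n) F) + b • θ := fun k hk => by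
      obtain ⟨a, b, rfl⟩ := hgen₀ k hk
      exact ⟨a + b * (b₀ / 2), b, by rw [hθdef]; module⟩
    have hnsθ : ∀ s : F, θ ≠ s • (1 : Matrix (Fin n) (Fin n) F) := fun s hs => hns₀ (s + b₀ / 2) (by
      rw [add_smul, ← hs, hθdef, sub_add_cancel])
    have hd : ¬ IsSquare d := by
      rintro ⟨s, hs⟩
      have h0 : (θ - s • 1) * (θ + s • 1) = 0 := by
        simp only [sub_mul, mul_add, hθθ, hs, smul_mul_assoc, one_mul, mul_smul_comm, mul_one, smul_smul]
        module
      obtain ⟨l, -, hl⟩ := hK.inv _ (sub_mem hθ (K.smul_mem K.one_mem s)) (sub_ne_zero.mpr (hnsθ s))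
      have h7 := congrArg (l * ·) h0
      simp only [mul_zero, ← mul_assoc] at h7
      rw [mul_eq_one_comm.mp hl, one_mul] at h7
      exact hnsθ (-s) (by rw [neg_smul]; exact eq_neg_of_add_eq_zero_left h7)
    by_cases hsq : IsSquare z
    · obtain ⟨b', hb'⟩ := exists_root_basis hdim hd (x := Matrix.toLin' θ) (fun v => by
        rw [Matrix.toLin'_apply, Matrix.toLin'_apply, Matrix.mulVec_mulVec, hθθ, Matrix.smul_mulVec, Matrix.one_mulVec])
      obtain ⟨μ, hμ⟩ := hsq
      have hμ0 : μ ≠ 0 := fun h => hz0 (by rw [hμ, h, mul_zero])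
      obtain ⟨a, hadef⟩ : ∃ a, a = finrank F (LinearMap.ker (Matrix.toLin' (x : Matrix (Fin n) (Fin n) F) - μ • 1)) :=
        ⟨_, rfl⟩
      have hale : a ≤ 2 * m := by rw [hadef, ← hdim]; exact Submodule.finrank_le _
      by_cases hae : Even a
      · obtain ⟨a', ha'⟩ := hae
        let S' : Finset (Fin 2 × Fin m) := Finset.univ ×ˢ Finset.univ.filter (fun i : Fin m => (i : ℕ) < a')
        have hS' : S'.card = a := by
          rw [Finset.card_product, Finset.card_univ, Fintype.card_fin, Fin.card_filter_val_lt,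
            min_eq_right (by omega)]
          omega
        obtain ⟨b, hb⟩ := exists_eigen_basis hdim h2 hμ0 (fun v => by rw [hx, hμ]) S' (hS'.trans hadef)
        obtain ⟨Y, hYdef⟩ : ∃ Y, Y = Matrix.toLin b' b' (Matrix.blockDiagonal fun i => blockEig fun k =>
            if (k, i) ∈ S' then μ else -μ) := ⟨_, rfl⟩
        have hY := (congrArg (LinearMap.toMatrix b' b') hYdef).trans (LinearMap.toMatrix_toLin b' b' _)
        refine ⟨b, b', _, Y, θ, θ, hb, hY, fun c _ => centraliser_eig i₀ _ c, hθ, hθ, hgen,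
          toMatrix'_comm hY hb' hb' fun i => ?_⟩
        by_cases hi : (i : ℕ) < a' <;> ext k l <;> fin_cases k <;> fin_cases l <;>
          simp [blockEig, blockRoot, S', hi, Matrix.mul_apply, Fin.sum_univ_two, mul_comm]
      · obtain ⟨S, -, hS⟩ := Finset.exists_subset_card_eq (s := (Finset.univ : Finset (Fin 2 × Fin m))) (n := a)
          (by simpa using hale)
        obtain ⟨b₁, hb₁⟩ := exists_eigen_basis hdim h2 hμ0 (fun v => by rw [hx, hμ]) S (hS.trans hadef)
        have hdet := card_eigen_even hm x S hb₁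
        have hc : Sᶜ.card = 2 * m - a := by
          rw [Finset.card_compl, hS, Fintype.card_prod, Fintype.card_fin, Fintype.card_fin]
        rw [Odd.neg_one_pow (by rw [hc]; rw [Nat.not_even_iff] at hae; rw [Nat.odd_iff]; omega)] at hdet
        have hlt := (exists_pow_eq_neg_one_iff h2 (n := n) (by omega)).mp ⟨μ, by linear_combination -hdet⟩
        rw [hq] at hlt
        obtain rfl : m = 1 := by
          rcases hle with h | ⟨-, h⟩ <;> omega
        let S' : Finset (Fin 2 × Fin 1) := {(0, 0)}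
        have hS' : S'.card = a := by
          rw [Nat.not_even_iff] at hae
          rw [Finset.card_singleton]; omega
        obtain ⟨b, hb⟩ := exists_eigen_basis hdim h2 hμ0 (fun v => by rw [hx, hμ]) S' (hS'.trans hadef)
        obtain ⟨Y, hYdef⟩ : ∃ Y, Y = Matrix.toLin b' b' (Matrix.blockDiagonal fun i => blockEig fun k =>
            if (k, i) ∈ S' then μ else -μ) := ⟨_, rfl⟩
        have hY := (congrArg (LinearMap.toMatrix b' b') hYdef).trans (LinearMap.toMatrix_toLin b' b' _)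
        refine ⟨b, b', _, Y, θ, -θ, hb, hY, fun c _ => centraliser_eig i₀ _ c, hθ, neg_mem hθ, hgen,
          toMatrix'_comm hY hb' (T' := fun _ => -blockRoot d) ?_ fun i => ?_⟩
        · rw [map_neg, map_neg, hb', ← Matrix.blockDiagonal_neg]
          rfl
        · obtain rfl : i = 0 := Subsingleton.elim _ _
          ext k l; fin_cases k <;> fin_cases l <;>
            simp [blockEig, blockRoot, S', Matrix.mul_apply, Fin.sum_univ_two, mul_comm]
    · have hring : ringChar F ≠ 2 := fun hc => hsq (FiniteField.isSquare_of_char_two hc z)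
      have hd0 : d ≠ 0 := fun h => hd (h ▸ IsSquare.zero)
      obtain ⟨s, hs⟩ : IsSquare (z * d⁻¹) := by
        have h1 : quadraticChar F z = -1 := (quadraticChar_neg_one_iff_not_isSquare).mpr hsq
        have h2' : quadraticChar F d = -1 := (quadraticChar_neg_one_iff_not_isSquare).mpr hd
        have h3 : quadraticChar F (z * d⁻¹) * quadraticChar F d = quadraticChar F z := by
          rw [← map_mul, mul_assoc, inv_mul_cancel₀ hd0, mul_one]
        rw [h1, h2'] at h3
        exact (quadraticChar_one_iff_isSquare (mul_ne_zero hz0 (inv_ne_zero hd0))).mp (by linarith)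
      obtain ⟨ρ, hρdef⟩ : ∃ ρ, ρ = s • θ := ⟨_, rfl⟩
      have hρ : ρ ∈ K := hρdef ▸ K.smul_mem hθ _
      obtain ⟨b', hb'⟩ := exists_root_basis hdim hsq (x := Matrix.toLin' ρ) (fun v => by
        rw [Matrix.toLin'_apply, Matrix.toLin'_apply, Matrix.mulVec_mulVec, hρdef, smul_mul_smul_comm, hθθ, ← hs,
          smul_smul, mul_assoc, inv_mul_cancel₀ hd0, mul_one, Matrix.smul_mulVec, Matrix.one_mulVec])
      obtain ⟨b, hb⟩ := exists_root_basis hdim hsq hx
      refine ⟨b, b', _, Matrix.toLin' ρ, θ, θ, hb, hb',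
        fun c _ => by obtain ⟨i, Z, h⟩ := centraliser_root i₀ hz0 c; exact ⟨i, Z, h⟩, hθ, hθ, hgen, ?_⟩
      rw [LinearMap.toMatrix'_toLin', hρdef, smul_mul_assoc, mul_smul_comm]

end Cfsg.Agent.S5969
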