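import Cfsg.Statements.S5970
import Cfsg.Agent.Lib.Lead.SingerOrders

set_option autoImplicit false
open scoped MatrixGroups
open Cfsg
open Polynomial Cfsg.Geo Cfsg.Agent.Lead.SingerElusive

namespace Cfsg.Agent.S5970

universe u

theorem counterexample_one {F : Type u} [Field F] [Fintype F] {n : ℕ} [Fact n.Prime] (h5 : 3 < n)
    (hd : n ∣ Fintype.card F - 1) :
    ∃ x : Matrix.SpecialLinearGroup (Fin n) F, (x : Matrix (Fin n) (Fin n) F) ^ n = (1 : F) • (1 : Matrix (Fin n) (Fin n) F) ∧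
      (∀ z : F, (x : Matrix (Fin n) (Fin n) F) ≠ z • (1 : Matrix (Fin n) (Fin n) F)) ∧
      (minpoly F (x : Matrix (Fin n) (Fin n) F)).natDegree < n := by
  classical
  obtain ⟨ζ, hζ⟩ := exists_prime_orderOf_dvd_card' (G := Fˣ) n (by rwa [Nat.card_units, Nat.card_eq_fintype_card])
  have hz : (ζ : F) ^ n = 1 := by
    rw [← Units.val_pow_eq_pow_val, ← hζ, pow_orderOf_eq_one, Units.val_one]
  have hz1 : (ζ : F) ≠ 1 := fun e => by
    have : orderOf ζ = 1 := orderOf_eq_one_iff.mpr (Units.ext (by simpa using e))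
    omega
  obtain ⟨i0, hi0⟩ : ∃ i : Fin n, (i : ℕ) = 0 := ⟨⟨0, by omega⟩, rfl⟩
  obtain ⟨i1, hi1⟩ : ∃ i : Fin n, (i : ℕ) = 1 := ⟨⟨1, by omega⟩, rfl⟩
  obtain ⟨i2, hi2⟩ : ∃ i : Fin n, (i : ℕ) = 2 := ⟨⟨2, by omega⟩, rfl⟩
  have h01 : i1 ≠ i0 := fun e => by simp [← e, hi1] at hi0
  have h20 : i2 ≠ i0 := fun e => by simp [← e, hi2] at hi0
  have h21 : i2 ≠ i1 := fun e => by simp [← e, hi2] at hi1
  obtain ⟨d, hdd⟩ : ∃ d : Fin n → F, d = Function.update (Function.update (1 : Fin n → F) i0 (ζ : F)) i1 ((ζ⁻¹ : Fˣ) : F) := ⟨_, rfl⟩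
  have hd0 : d i0 = ζ := by rw [hdd, Function.update_of_ne h01.symm, Function.update_self]
  have hd2 : d i2 = 1 := by rw [hdd, Function.update_of_ne h21, Function.update_of_ne h20]; rfl
  have hval : ∀ i, d i = 1 ∨ d i = ζ ∨ d i = ((ζ⁻¹ : Fˣ) : F) := fun i => by
    by_cases a : i = i1
    · right; right; rw [hdd, a, Function.update_self]
    by_cases b : i = i0
    · right; left; rw [b, hd0]
    left; rw [hdd, Function.update_of_ne a, Function.update_of_ne b]; rfl
  have hdet : (Matrix.diagonal d).det = 1 := by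
    rw [Matrix.det_diagonal, hdd, Finset.prod_update_of_mem (Finset.mem_univ _), Finset.prod_update_of_mem
      (Finset.mem_sdiff.mpr ⟨Finset.mem_univ _, by simp [h01.symm]⟩)]
    simp
  refine ⟨⟨Matrix.diagonal d, hdet⟩, ?_, fun z hzz => ?_, ?_⟩
  · show (Matrix.diagonal d) ^ n = _
    rw [Matrix.diagonal_pow, one_smul, ← Matrix.diagonal_one]
    congr 1
    funext i
    rcases hval i with h | h | h <;> simp [h, hz, inv_pow]
  · have e0 := congrFun (congrFun hzz i0) i0
    have e2 := congrFun (congrFun hzz i2) i2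
    simp [hd0, hd2] at e0 e2
    exact hz1 (e0.trans e2.symm)
  · have h0 : aeval (Matrix.diagonal d) ((X - C 1) * (X - C (ζ : F)) * (X - C ((ζ⁻¹ : Fˣ) : F))) = 0 := by
      rw [show Matrix.diagonal d = Matrix.diagonalAlgHom F d from rfl, aeval_algHom_apply, show
        aeval d ((X - C 1) * (X - C (ζ : F)) * (X - C ((ζ⁻¹ : Fˣ) : F))) = 0 from funext fun i => by
          simp only [map_mul, map_sub, aeval_X, aeval_C, Pi.mul_apply, Pi.sub_apply, Pi.algebraMap_apply, Pi.zero_apply,
            Algebra.algebraMap_self, RingHom.id_apply]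
          rcases hval i with h | h | h <;> simp [h], map_zero]
    have h1 := natDegree_le_of_dvd (minpoly.dvd F _ h0)
      (mul_ne_zero (mul_ne_zero (X_sub_C_ne_zero _) (X_sub_C_ne_zero _)) (X_sub_C_ne_zero _))
    rw [natDegree_mul (mul_ne_zero (X_sub_C_ne_zero _) (X_sub_C_ne_zero _)) (X_sub_C_ne_zero _),
      natDegree_mul (X_sub_C_ne_zero _) (X_sub_C_ne_zero _), natDegree_X_sub_C, natDegree_X_sub_C,
      natDegree_X_sub_C] at h1
    exact lt_of_le_of_lt h1 h5

theorem counterexample {F : Type u} [Field F] [Fintype F] {p : ℕ} [Fact p.Prime] [CharP F p] {n : ℕ} [Fact n.Prime]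
    (hnp : n ≠ p) (h5 : 3 < n) (ho : orderOf (Fintype.card F : ZMod n) ≠ n - 1) :
    ∃ (x : Matrix.SpecialLinearGroup (Fin n) F) (c : F),
      (x : Matrix (Fin n) (Fin n) F) ^ n = c • (1 : Matrix (Fin n) (Fin n) F) ∧
      (∀ z : F, (x : Matrix (Fin n) (Fin n) F) ≠ z • (1 : Matrix (Fin n) (Fin n) F)) ∧
      (minpoly F (x : Matrix (Fin n) (Fin n) F)).natDegree < n := by
  classical
  by_cases h1 : orderOf (Fintype.card F : ZMod n) = 1
  · obtain ⟨x, hx⟩ := counterexample_one h5 (Classical.Elusive.orderOf_eq_one_iff'.mp h1)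
    exact ⟨x, 1, hx⟩
  have hpos := Classical.Elusive.orderOf_pos' (F := F) (p := p) (r := n) hnp
  have hi : 2 ≤ orderOf (Fintype.card F : ZMod n) := by omega
  have hle : orderOf (Fintype.card F : ZMod n) ≤ n - 1 := by
    refine Nat.le_of_dvd (by omega) (orderOf_dvd_of_pow_eq_one (ZMod.pow_card_sub_one_eq_one ?_))
    intro h0
    rw [h0, orderOf_zero] at hi
    omega
  obtain ⟨i, hii⟩ : ∃ i, i = orderOf (Fintype.card F : ZMod n) := ⟨_, rfl⟩
  rw [← hii] at ho hle hi
  obtain ⟨x, ⟨c, hc⟩, hs, g, hgi, hgd, hch⟩ :=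
    Classical.Elusive.exists_mixed (F := F) hnp (hii ▸ hi) (a := n - i) (t := 1) (n := n) (by rw [← hii]; omega)
  rw [← hii] at hgd
  refine ⟨x, c, (Matrix.SpecialLinearGroup.coe_pow x n).symm.trans hc, fun z hz => ?_, ?_⟩
  · rw [hz, Matrix.charpoly_toLin', show z • (1 : Matrix (Fin n) (Fin n) F) = Matrix.diagonal (fun _ => z) by
      rw [Matrix.smul_one_eq_diagonal], Matrix.charpoly_diagonal, Finset.prod_const, pow_one] at hch
    have hdvd : g ∣ (X - C z) ^ (Finset.univ : Finset (Fin n)).card := ⟨_, hch.trans (mul_comm _ _)⟩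
    have h2 := natDegree_eq_of_degree_eq (degree_eq_degree_of_associated
      (hgi.associated_of_dvd (irreducible_X_sub_C z) (hgi.prime.dvd_of_dvd_pow hdvd)))
    rw [hgd, natDegree_X_sub_C] at h2
    omega
  · have hne : (X - C (1 : F)) * g ≠ 0 := mul_ne_zero (X_sub_C_ne_zero _) hgi.ne_zero
    have h0 := Classical.Elusive.aeval_of_charpoly hs (P := (X - C (1 : F)) * g) (N := n - i) (by
      rw [hch, pow_one, mul_pow]
      exact mul_dvd_mul_left _ (dvd_pow_self g (by omega)))
    have h2 := natDegree_le_of_dvd (minpoly.dvd F _ h0) hne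
    rw [Matrix.minpoly_toLin', natDegree_mul (X_sub_C_ne_zero _) hgi.ne_zero, natDegree_X_sub_C, hgd] at h2
    omega

/-- Elements of order `n` of PSL_n(q), `n` prime, and the normalizer of a Singer cycle. Here `T = PSL_n(F)` for a field `F` with `q = p^f` elements (`n ≥ 2`, `(n, q) ≠ (2, 2), (2, 3)`), `k` is a prime dividing `n`, `K` is a subalgebra of the `n × n` matrices that is a field of degree `k` over `F` (an extension-field structure F_{q^k} on `F^n`), and `H` is the subgroup of matrices of determinant 1 normalizing `K` — a subgroup of type GL_{n/k}(q^k) (maximal except in some small cases; maximality is not assumed); Ω is the set of cosets of `H` in `T`, so an element of `T` of prime order `r` (a matrix `x` of determinant 1 with `x^r` scalar, `x` not scalar) fixes a point of Ω when some conjugate of `x` by a matrix of determinant 1 normalizes `K`. Take `k = n > 3` prime with `n ≠ p` (so `H` is the normalizer of a Singer cycle), and suppose `n` divides the index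 of `H`. Then every element of `T` of order `n` is conjugate in `T` into `H` if and only if the multiplicative order of `q` modulo `n` is `n − 1`. -/
theorem result {F : Type*} [Field F] [Fintype F] {p : ℕ} [Fact p.Prime] [CharP F p] {q : ℕ} (hq : Fintype.card F = q)
    (n : ℕ) (hn : 2 ≤ n) (hT : (n, q) ≠ (2, 2) ∧ (n, q) ≠ (2, 3))
    (k : ℕ) (hk : k.Prime) (hkn : k ∣ n) (K : Subalgebra F (Matrix (Fin n) (Fin n) F)) (hK : Cfsg.Geo.IsFieldSubalgebra k K) (hkn' : k = n) (hn3 : 3 < n) (hnp : n ≠ p) (hΩ : n ∣ ((Cfsg.Geo.subalgebraNormalizer K).comap (Matrix.SpecialLinearGroup.toGL : Matrix.SpecialLinearGroup (Fin n) F →* GL (Fin n) F)).index) :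
    (∀ x : Matrix.SpecialLinearGroup (Fin n) F,
      (∃ z : F, ((x ^ n : Matrix.SpecialLinearGroup (Fin n) F) : Matrix (Fin n) (Fin n) F) = z • (1 : Matrix (Fin n) (Fin n) F)) →
      (∀ z : F, (x : Matrix (Fin n) (Fin n) F) ≠ z • (1 : Matrix (Fin n) (Fin n) F)) →
      ∃ P : Matrix.SpecialLinearGroup (Fin n) F, P⁻¹ * x * P ∈ ((Cfsg.Geo.subalgebraNormalizer K).comap (Matrix.SpecialLinearGroup.toGL : Matrix.SpecialLinearGroup (Fin n) F →* GL (Fin n) F))) ↔
    orderOf (q : ZMod n) = n - 1 := by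
  subst hkn'
  subst hq
  haveI : Fact k.Prime := ⟨hk⟩
  constructor
  · intro H
    by_contra ho
    obtain ⟨x, c, hc, hns, hd⟩ := counterexample (p := p) hnp hn3 ho
    exact hd.ne (degree_of_forall_conj hk hK H x hc hns)
  · intro ho x ⟨c, hc⟩ hns
    have hc' := (Matrix.SpecialLinearGroup.coe_pow x k).symm.trans hc
    exact conj_of_degree p hk hnp hK x hc' (natDegree_of_order_eq p hnp hn3.le ho x hc' hns)

end Cfsg.Agent.S5970
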