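import Cfsg.Statements.S5971
import Cfsg.Agent.Lib.Lead.SingerOrders
import Cfsg.Agent.Lib.Local.FS.SimplePSL3

set_option autoImplicit false
open scoped MatrixGroups
open Cfsg
open Polynomial Cfsg.Geo Cfsg.Agent.Lead.SingerElusive

namespace Cfsg.Agent.S5971

universe u

theorem orderOf_two : orderOf (2 : ZMod 3) = 2 := orderOf_eq_prime (by decide) (by decide)

theorem counterexample {F : Type u} [Field F] [Fintype F] {p : ℕ} [Fact p.Prime] [CharP F p]
    (h : p = 3 ∨ 9 ∣ Fintype.card F - 1) :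
    ∃ (x : Matrix.SpecialLinearGroup (Fin 3) F) (c : F), (x : Matrix (Fin 3) (Fin 3) F) ^ 3 = c • (1 : Matrix (Fin 3) (Fin 3) F) ∧
      (∀ z : F, (x : Matrix (Fin 3) (Fin 3) F) ≠ z • (1 : Matrix (Fin 3) (Fin 3) F)) ∧
      (minpoly F (x : Matrix (Fin 3) (Fin 3) F)).natDegree ≠ 3 := by
  classical
  rcases h with rfl | h
  · obtain ⟨M, hM⟩ : ∃ M : Matrix (Fin 3) (Fin 3) F, M = !![1, 1, 0; 0, 1, 0; 0, 0, 1] := ⟨_, rfl⟩
    have h3 : (3 : F) = 0 := by
      have := CharP.cast_eq_zero F 3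
      simpa using this
    have hdet : M.det = 1 := by simp [hM, Matrix.det_fin_three]
    refine ⟨⟨M, hdet⟩, 1, ?_, fun z hz => ?_, fun hd => ?_⟩
    · show M ^ 3 = _
      ext i j
      fin_cases i <;> fin_cases j <;> simp [hM, pow_succ, Matrix.mul_apply, Fin.sum_univ_three]
      linear_combination h3
    · have := congrFun (congrFun hz 0) 1
      simp [hM] at this
    · have h0 : aeval M ((X - C 1) ^ 2 : F[X]) = 0 := by
        rw [map_pow, map_sub, aeval_X, aeval_C, map_one]
        ext i j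
        fin_cases i <;> fin_cases j <;> simp [hM, pow_succ, Matrix.mul_apply, Fin.sum_univ_three]
      have := natDegree_le_of_dvd (minpoly.dvd F M h0) (pow_ne_zero _ (X_sub_C_ne_zero 1))
      rw [natDegree_pow, natDegree_X_sub_C] at this
      exact absurd (hd ▸ this) (by norm_num)
  · obtain ⟨g, hg⟩ := IsCyclic.exists_generator (α := Fˣ)
    obtain ⟨m, hm⟩ := h
    have hord : orderOf g = 9 * m := by
      rw [orderOf_eq_card_of_forall_mem_zpowers hg, Nat.card_units, Nat.card_eq_fintype_card, hm]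
    have hm0 : 0 < m := by
      have := Fintype.one_lt_card (α := F)
      omega
    obtain ⟨a, ha⟩ : ∃ a : F, a = ((g ^ m : Fˣ) : F) := ⟨_, rfl⟩
    have ha0 : a ≠ 0 := ha ▸ Units.ne_zero _
    have h9 : a ^ 9 = 1 := by
      rw [ha, ← Units.val_pow_eq_pow_val, ← pow_mul, mul_comm, ← hord, pow_orderOf_eq_one, Units.val_one]
    have h3 : a ^ 3 ≠ 1 := fun e => by
      rw [ha, ← Units.val_pow_eq_pow_val, Units.val_eq_one, ← pow_mul, ← orderOf_dvd_iff_pow_eq_one, hord] at e
      have := Nat.le_of_dvd (by omega) e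
      omega
    obtain ⟨M, hM⟩ : ∃ M : Matrix (Fin 3) (Fin 3) F, M = !![a, 0, 0; 0, a, 0; 0, 0, a ^ 7] := ⟨_, rfl⟩
    have hdet : M.det = 1 := by
      simp [hM, Matrix.det_fin_three]
      linear_combination h9
    refine ⟨⟨M, hdet⟩, a ^ 3, ?_, fun z hz => ?_, fun hd => ?_⟩
    · show M ^ 3 = _
      ext i j
      fin_cases i <;> fin_cases j <;> simp [hM, pow_succ, Matrix.mul_apply, Fin.sum_univ_three]
      linear_combination (a ^ 12 + a ^ 3) * h9
    · have h1 := congrFun (congrFun hz 0) 0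
      have h2 := congrFun (congrFun hz 2) 2
      simp [hM] at h1 h2
      rw [← h1] at h2
      apply h3
      have h6 : a ^ 7 = a := h2
      have : a ^ 6 = 1 := mul_left_cancel₀ ha0 (by rw [mul_one, ← pow_succ', h6])
      calc a ^ 3 = a ^ 9 * (a ^ 6)⁻¹ := by field_simp
        _ = 1 := by rw [h9, this, inv_one, mul_one]
    · have h0 : aeval M ((X - C a) * (X - C (a ^ 7)) : F[X]) = 0 := by
        rw [map_mul, map_sub, map_sub, aeval_X, aeval_C, aeval_C, Algebra.algebraMap_eq_smul_one,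
          Algebra.algebraMap_eq_smul_one]
        ext i j
        fin_cases i <;> fin_cases j <;> simp [hM, Matrix.mul_apply, Fin.sum_univ_three]
      have := natDegree_le_of_dvd (minpoly.dvd F M h0) (mul_ne_zero (X_sub_C_ne_zero _) (X_sub_C_ne_zero _))
      rw [natDegree_mul (X_sub_C_ne_zero _) (X_sub_C_ne_zero _), natDegree_X_sub_C, natDegree_X_sub_C] at this
      exact absurd (hd ▸ this) (by norm_num)

theorem natDegree_of_four_seven {F : Type u} [Field F] [Fintype F] {p : ℕ} [Fact p.Prime] [CharP F p] (hp : 3 ≠ p)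
    (h3 : 3 ∣ Fintype.card F - 1) (h9 : ¬ 9 ∣ Fintype.card F - 1)
    (x : Matrix.SpecialLinearGroup (Fin 3) F) {c : F}
    (hc : (x : Matrix (Fin 3) (Fin 3) F) ^ 3 = c • (1 : Matrix (Fin 3) (Fin 3) F))
    (hns : ∀ z : F, (x : Matrix (Fin 3) (Fin 3) F) ≠ z • (1 : Matrix (Fin 3) (Fin 3) F)) :
    (minpoly F (x : Matrix (Fin 3) (Fin 3) F)).natDegree = 3 := by
  classical
  haveI : Fact (Nat.Prime 3) := ⟨Nat.prime_three⟩
  have hr0 := Classical.Elusive.cast_ne_zero (F := F) (p := p) (r := 3) hp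
  have hc0 : c ≠ 0 := fun h => by
    have h1 := congrArg Matrix.det hc
    rw [Matrix.det_pow, x.2, one_pow, h, zero_smul, Matrix.det_zero] at h1
    exact one_ne_zero h1
  obtain ⟨g, hg⟩ : ∃ g : Module.End F (Fin 3 → F), g = Matrix.toLin' (x : Matrix (Fin 3) (Fin 3) F) := ⟨_, rfl⟩
  have hm : minpoly F g = minpoly F (x : Matrix (Fin 3) (Fin 3) F) := by rw [hg, Matrix.minpoly_toLin']
  have hgr : g ^ 3 = c • 1 := by
    rw [hg, ← Matrix.toLin'_pow, hc, map_smul, Matrix.toLin'_one]
    rfl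
  have hgs := Classical.Elusive.isSemisimple_of_pow hr0 hc0 hgr
  refine le_antisymm (natDegree_minpoly_le (by norm_num) hc).2 ?_
  by_contra hlt
  push Not at hlt
  by_cases hroot : ∃ y : F, y ^ 3 = c
  swap
  · push Not at hroot
    have hirr := X_pow_sub_C_irreducible_of_prime Nat.prime_three hroot
    rw [eq_of_monic_of_associated (minpoly.monic (Algebra.IsIntegral.isIntegral _)) (monic_X_pow_sub_C c (by norm_num))
      ((hirr.dvd_iff.mp (natDegree_minpoly_le (by norm_num) hc).1).resolve_left (minpoly.not_isUnit _ _)).symm,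
      natDegree_X_pow_sub_C] at hlt
    omega
  obtain ⟨y, hy⟩ := hroot
  obtain ⟨ζ, hζ⟩ := exists_prime_orderOf_dvd_card' (G := Fˣ) 3 (by rwa [Nat.card_units, Nat.card_eq_fintype_card])
  have hζ' : IsPrimitiveRoot (ζ : F) 3 := by
    rw [← hζ, ← orderOf_units]; exact IsPrimitiveRoot.orderOf _
  have hsp : (X ^ 3 - C c).Splits := X_pow_sub_C_splits_of_isPrimitiveRoot hζ' hy
  have hgc : aeval g (X ^ 3 - C c) = 0 := by
    rw [map_sub, map_pow, aeval_X, aeval_C, hgr, Algebra.algebraMap_eq_smul_one, sub_self]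
  obtain ⟨k, qs, ⟨B⟩, hch, hq⟩ := Classical.Elusive.exists_blocks (Module.finrank F (Fin 3 → F)) g le_rfl hgs
    (minpoly F g) (minpoly.aeval F g)
  have hdeg : ∀ i, (qs i).natDegree = 1 := fun i => natDegree_eq_of_degree_eq_some
    ((hsp.of_dvd (X_pow_sub_C_ne_zero (by norm_num) c)
      ((hq i).2.2.trans (minpoly.dvd F g hgc))).degree_eq_one_of_irreducible (hq i).1)
  have hk : k = 3 := by
    have := B.sum_eq
    rw [Finset.sum_congr rfl (fun i _ => hdeg i), Module.finrank_fin_fun] at this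
    simpa using this
  subst hk
  choose a ha using fun i => (show ∃ a : F, qs i = X - C a from
    ⟨-(qs i).coeff 0, by rw [(hq i).2.1.eq_X_add_C (hdeg i)]; simp⟩)
  have hroot3 : ∀ i, a i ^ 3 = c := fun i => by
    have h1 := (hq i).2.2.trans (minpoly.dvd F g hgc)
    rw [ha i, dvd_iff_isRoot] at h1
    simpa [IsRoot, sub_eq_zero] using h1
  have hprod : a 0 * a 1 * a 2 = 1 := by
    have h1 := Matrix.det_eq_sign_charpoly_coeff (x : Matrix (Fin 3) (Fin 3) F)
    rw [x.2, ← Matrix.charpoly_toLin', ← hg, hch, coeff_zero_prod, Fin.prod_univ_three, ha, ha, ha,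
      Fintype.card_fin] at h1
    simp at h1
    linear_combination -h1
  have hc1 : c = 1 := by
    have h27 : (Units.mk0 (a 0) (fun e => hc0 (by rw [← hroot3 0, e]; simp))) ^ 9 = 1 := by
      refine Units.ext ?_
      rw [Units.val_pow_eq_pow_val, Units.val_mk0, Units.val_one]
      calc a 0 ^ 9 = (a 0 ^ 3) ^ 3 := by ring
        _ = a 0 ^ 3 * a 1 ^ 3 * a 2 ^ 3 := by rw [hroot3, hroot3, hroot3]; ring
        _ = 1 := by rw [← mul_pow, ← mul_pow, hprod, one_pow]
    have hd : orderOf (Units.mk0 (a 0) (fun e => hc0 (by rw [← hroot3 0, e]; simp))) ∣ 3 := by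
      have h1 := orderOf_dvd_of_pow_eq_one h27
      have h2 := orderOf_dvd_natCard (Units.mk0 (a 0) (fun e => hc0 (by rw [← hroot3 0, e]; simp)))
      rw [Nat.card_units, Nat.card_eq_fintype_card] at h2
      obtain ⟨i, hi, hie⟩ := (Nat.dvd_prime_pow Nat.prime_three (m := 2)).mp (by simpa using h1)
      rcases Nat.lt_or_ge i 2 with hi2 | hi2
      · rw [hie]; exact (pow_dvd_pow 3 (Nat.lt_succ_iff.mp hi2)).trans (by norm_num)
      · exact absurd (by rw [hie, le_antisymm hi hi2] at h2; simpa using h2) h9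
    have h1 := orderOf_dvd_iff_pow_eq_one.mp hd
    rw [← hroot3 0]
    simpa [Units.ext_iff] using h1
  subst hc1
  have hdist : ∀ i j, a i ≠ a j → IsCoprime (qs i) (qs j) := fun i j h => by
    rw [ha, ha]; exact isCoprime_X_sub_C_of_isUnit_sub (sub_ne_zero.mpr h).isUnit
  have hne : minpoly F g ≠ 0 := minpoly.ne_zero (Algebra.IsIntegral.isIntegral _)
  by_cases hd : a 0 ≠ a 1 ∧ a 0 ≠ a 2 ∧ a 1 ≠ a 2
  · have h1 := natDegree_le_of_dvd (((hdist 0 2 hd.2.1).mul_left (hdist 1 2 hd.2.2)).mul_dvd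
      ((hdist 0 1 hd.1).mul_dvd (hq 0).2.2 (hq 1).2.2) (hq 2).2.2) hne
    rw [natDegree_mul (mul_ne_zero (hq 0).1.ne_zero (hq 1).1.ne_zero) (hq 2).1.ne_zero,
      natDegree_mul (hq 0).1.ne_zero (hq 1).1.ne_zero, hdeg, hdeg, hdeg, hm] at h1
    omega
  have hne0 : ∀ i, a i ≠ 0 := fun i e => one_ne_zero (α := F) (by rw [← hroot3 i, e]; simp)
  have h3eq : ∀ u v w : F, u ^ 3 = 1 → u ≠ 0 → u = v → u * v * w = 1 → u = w := by
    rintro u v w h0 h hu h1
    subst hu
    refine mul_left_cancel₀ (mul_ne_zero h h) ?_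
    rw [h1, ← h0]; ring
  have hall : a 1 = a 0 ∧ a 2 = a 0 := by
    by_cases h01 : a 0 = a 1
    · exact ⟨h01.symm, (h3eq _ _ _ (hroot3 0) (hne0 0) h01 hprod).symm⟩
    by_cases h02 : a 0 = a 2
    · exact ⟨(h3eq _ _ _ (hroot3 0) (hne0 0) h02 (by linear_combination hprod)).symm, h02.symm⟩
    have h12 : a 1 = a 2 := by tauto
    have := h3eq _ _ _ (hroot3 1) (hne0 1) h12 (by linear_combination hprod : a 1 * a 2 * a 0 = 1)
    exact absurd this.symm h01
  have h0 : aeval g (X - C (a 0)) = 0 := Classical.Elusive.aeval_of_charpoly hgs (N := 3) (by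
    rw [hch, Fin.prod_univ_three, ha, ha, ha, hall.1, hall.2, pow_succ, pow_two])
  rw [map_sub, aeval_X, aeval_C, Algebra.algebraMap_eq_smul_one, sub_eq_zero, hg] at h0
  refine hns (a 0) (Matrix.toLin'.injective ?_)
  rw [h0, map_smul, Matrix.toLin'_one]
  rfl

/-- Elements of order 3 of PSL_3(q) and the normalizer of a Singer cycle. Here `T = PSL_n(F)` for a field `F` with `q = p^f` elements (`n ≥ 2`, `(n, q) ≠ (2, 2), (2, 3)`), `k` is a prime dividing `n`, `K` is a subalgebra of the `n × n` matrices that is a field of degree `k` over `F` (an extension-field structure F_{q^k} on `F^n`), and `H` is the subgroup of matrices of determinant 1 normalizing `K` — a subgroup of type GL_{n/k}(q^k) (maximal except in some small cases; maximality is not assumed); Ω is the set of cosets of `H` in `T`, so an element of `T` of prime order `r` (a matrix `x` of determinant 1 with `x^r` scalar, `x` not scalar) fixes a point of Ω when some conjugate of `x` by a matrix of determinant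 1 normalizes `K`. Take `n = k = 3` and suppose 3 divides the index of `H`. Then every element of `T` of order 3 is conjugate in `T` into `H` if and only if `q ≡ 4, 7` or `8 (mod 9)`. -/
theorem result {F : Type*} [Field F] [Fintype F] {p : ℕ} [Fact p.Prime] [CharP F p] {q : ℕ} (hq : Fintype.card F = q)
    (n : ℕ) (hn : n = 3) (k : ℕ) (hk : k.Prime) (hkn : k ∣ n) (K : Subalgebra F (Matrix (Fin n) (Fin n) F)) (hK : Cfsg.Geo.IsFieldSubalgebra k K) (hk3 : k = 3) (hΩ : 3 ∣ ((Cfsg.Geo.subalgebraNormalizer K).comap (Matrix.SpecialLinearGroup.toGL : Matrix.SpecialLinearGroup (Fin n) F →* GL (Fin n) F)).index) :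
    (∀ x : Matrix.SpecialLinearGroup (Fin n) F,
      (∃ z : F, ((x ^ 3 : Matrix.SpecialLinearGroup (Fin n) F) : Matrix (Fin n) (Fin n) F) = z • (1 : Matrix (Fin n) (Fin n) F)) →
      (∀ z : F, (x : Matrix (Fin n) (Fin n) F) ≠ z • (1 : Matrix (Fin n) (Fin n) F)) →
      ∃ P : Matrix.SpecialLinearGroup (Fin n) F, P⁻¹ * x * P ∈ ((Cfsg.Geo.subalgebraNormalizer K).comap (Matrix.SpecialLinearGroup.toGL : Matrix.SpecialLinearGroup (Fin n) F →* GL (Fin n) F))) ↔
    (q % 9 = 4 ∨ q % 9 = 7 ∨ q % 9 = 8) := by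
  subst hk3
  subst hn
  subst hq
  haveI : Fact (Nat.Prime 3) := ⟨Nat.prime_three⟩
  obtain ⟨q, hqd⟩ : ∃ q, q = Fintype.card F := ⟨_, rfl⟩
  rw [← hqd]
  have hq2 : 2 ≤ q := hqd ▸ Fintype.one_lt_card
  constructor
  · intro H
    by_cases hcx : p = 3 ∨ 9 ∣ Fintype.card F - 1
    · obtain ⟨x, c, hc, hns, hd⟩ := counterexample hcx
      exact absurd (degree_of_forall_conj Nat.prime_three hK H x hc hns) hd
    push Not at hcx
    have h3q : ¬ 3 ∣ q := fun h => by
      obtain ⟨e, -, he⟩ := FiniteField.card F p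
      rw [hqd, he] at h
      exact hcx.1 ((Nat.prime_dvd_prime_iff_eq Nat.prime_three Fact.out).mp (Nat.prime_three.dvd_of_dvd_pow h)).symm
    rw [← hqd] at hcx
    have h25 : ¬ (q % 9 = 2 ∨ q % 9 = 5) := by
      intro h25
      obtain ⟨h, hN, hns, hhc⟩ := exists_mem_normalizer Nat.prime_three hK (c := (1 : F)) one_ne_zero
      have hdet : (h : Matrix (Fin 3) (Fin 3) F).det = 1 := by
        have h1 := congrArg Matrix.det hhc
        rw [Matrix.det_pow, one_smul, Matrix.det_one] at h1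
        by_contra hne
        have h2 : orderOf (Units.mk0 _ (fun e => by rw [e] at h1; simp at h1 : (h : Matrix (Fin 3) (Fin 3) F).det ≠ 0)) = 3 :=
          orderOf_eq_prime (Units.ext (by simpa using h1)) (fun e => hne (by simpa [Units.ext_iff] using e))
        have h3 := orderOf_dvd_natCard (Units.mk0 _ (fun e => by rw [e] at h1; simp at h1 : (h : Matrix (Fin 3) (Fin 3) F).det ≠ 0))
        rw [h2, Nat.card_units, Nat.card_eq_fintype_card, ← hqd] at h3
        omega
      obtain ⟨y, hy⟩ : ∃ y : Matrix.SpecialLinearGroup (Fin 3) F, Matrix.SpecialLinearGroup.toGL y = h :=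
        ⟨⟨(h : Matrix (Fin 3) (Fin 3) F), hdet⟩, Units.ext rfl⟩
      obtain ⟨S, hS⟩ : ∃ S, S = (subalgebraNormalizer K).comap
          (Matrix.SpecialLinearGroup.toGL : Matrix.SpecialLinearGroup (Fin 3) F →* GL (Fin 3) F) := ⟨_, rfl⟩
      rw [← hS] at hΩ
      have hyS : y ∈ S := by rw [hS, Subgroup.mem_comap, hy]; exact hN
      have hy3 : orderOf y = 3 := by
        rw [← orderOf_injective _ Matrix.SpecialLinearGroup.toGL_injective y, hy]
        refine orderOf_eq_prime (Units.ext ?_) (fun e => hns 1 ?_)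
        · rw [Units.val_pow_eq_pow_val, hhc, one_smul, Units.val_one]
        · rw [e, Units.val_one, one_smul]
      have h9 : 9 ∣ Nat.card (Matrix.SpecialLinearGroup (Fin 3) F) := by
        rw [← S.card_mul_index]
        refine (show (9 : ℕ) = 3 * 3 from rfl) ▸ Nat.mul_dvd_mul ?_ hΩ
        have h3 := orderOf_dvd_natCard (⟨y, hyS⟩ : S)
        rwa [Subgroup.orderOf_mk, hy3] at h3
      have hcard := Cfsg.Agent.Local.FS.PSL3Simple.card_SL3 (F := F)
      rw [← hqd] at hcard
      obtain ⟨t, ht⟩ := h9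
      rw [ht] at hcard
      have h1 : 9 ∣ q ^ 3 * (q - 1) ^ 3 * ((q + 1) * (q ^ 2 + q + 1)) := ⟨t * (q - 1), by rw [← hcard]; ring⟩
      have hcop : Nat.Coprime 9 (q ^ 3 * (q - 1) ^ 3) := by
        have : Nat.Coprime 3 q := (Nat.prime_three.coprime_iff_not_dvd).mpr h3q
        have : Nat.Coprime 3 (q - 1) := (Nat.prime_three.coprime_iff_not_dvd).mpr (by omega)
        show Nat.Coprime (3 ^ 2) _
        exact Nat.Coprime.mul_right (by apply Nat.Coprime.pow; assumption) (by apply Nat.Coprime.pow; assumption)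
      have h2 := hcop.dvd_of_dvd_mul_left h1
      rw [Nat.dvd_iff_mod_eq_zero] at h2
      rcases h25 with h | h <;> norm_num [Nat.add_mod, Nat.mul_mod, Nat.pow_mod, h] at h2
    omega
  · intro h x ⟨c, hc⟩ hns
    have h3p : 3 ≠ p := by
      rintro rfl
      obtain ⟨e, -, he⟩ := FiniteField.card F 3
      have : 3 ∣ q := by rw [hqd, he]; exact dvd_pow_self 3 e.pos.ne'
      omega
    have hc' := (Matrix.SpecialLinearGroup.coe_pow x 3).symm.trans hc
    refine conj_of_degree p Nat.prime_three h3p hK x hc' ?_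
    by_cases h47 : q % 9 = 4 ∨ q % 9 = 7
    · exact natDegree_of_four_seven h3p (hqd ▸ by omega) (hqd ▸ by omega) x hc' hns
    · refine natDegree_of_order_eq p h3p le_rfl ?_ x hc' hns
      rw [← hqd]
      have h2 : (q : ZMod 3) = 2 := by
        rw [← ZMod.natCast_mod, show q % 3 = 2 by omega]; rfl
      rw [h2]
      exact orderOf_two

end Cfsg.Agent.S5971
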