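import Cfsg.Statements.S5972
import Cfsg.Agent.Lib.Classical.Elusive.OrthTsStmt

set_option autoImplicit false
open scoped MatrixGroups
open Cfsg

namespace Cfsg.Agent.S5972

open Cfsg.Agent.Classical

/-- Elements of prime order of Ω_n(q), n = 2d+1 ≥ 7, q odd, with no fixed totally singular `m`-space. Here `T = Ω_n(q)` is realised as the commutator subgroup of the isometry group of the quadratic form `x₀² + Σ xᵢyᵢ` over the field `F` with `q` elements (it has trivial centre, so its elements of prime order `r` are used directly); let `1 ≤ m ≤ d` and let `r` be a prime dividing the number of totally singular `m`-spaces. For `r ≠ p` let `i` be the multiplicative order of `q` modulo `r`, `c = i` for `i` even and `c = 2i` for `i` odd, and write `k = n mod c`, `ℓ = m mod i`, `n' = ⌊n/i⌋`, `m' = ⌊m/i⌋`, `t = (r−1)/i`. Then every element of `T` of order `r` fixes some totally singular `m`-space if and only if either (i) `r = 2` and (`m < (n−1)/2` or `q ≡ 1 (mod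 4)`); or (ii) `r ≠ p` is odd, `i ≤ m`, `k > 2ℓ`, and (`i` is odd or `n' − 2m' ≥ t`). -/
theorem result {F : Type*} [Field F] [Fintype F] {p : ℕ} [Fact p.Prime] [CharP F p] {q : ℕ} (hq : Fintype.card F = q) (hqodd : Odd q)
    (d m : ℕ) (hd : 3 ≤ d) (hm : 1 ≤ m) (hmd : m ≤ d)
    (r : ℕ) [Fact r.Prime]
    (hrΩ : r ∣ Nat.card {W : Submodule F (Unit ⊕ (Fin d ⊕ Fin d) → F) // Module.finrank F ↥W = m ∧ (∀ w ∈ W, Cfsg.quadFormOdd d F w = 0)})
    (i c : ℕ) (hi : i = orderOf (q : ZMod r)) (hc : c = if Even i then i else 2 * i) :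
    (∀ x : GL (Unit ⊕ (Fin d ⊕ Fin d)) F, x ∈ Cfsg.Geo.omegaGL (Cfsg.quadFormOdd d F) → orderOf x = r →
      ∃ W : Submodule F (Unit ⊕ (Fin d ⊕ Fin d) → F), Module.finrank F ↥W = m ∧ (∀ w ∈ W, Cfsg.quadFormOdd d F w = 0) ∧
        W.map (Matrix.toLin' (x : Matrix (Unit ⊕ (Fin d ⊕ Fin d)) (Unit ⊕ (Fin d ⊕ Fin d)) F)) ≤ W) ↔
    ((r = 2 ∧ (m < d ∨ q % 4 = 1)) ∨
     (r ≠ p ∧ 2 < r ∧ i ≤ m ∧ 2 * (m % i) < (2 * d + 1) % c ∧ (Odd i ∨ (r - 1) / i + 2 * (m / i) ≤ (2 * d + 1) / i))) := by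
  have hr : r.Prime := Fact.out
  obtain ⟨h2p, hq0, hq1⟩ := Elusive.OSame.char_facts (F := F) (p := p) hq
  obtain ⟨hcu, hiu⟩ := Elusive.OFree.unit_eq (F := F) hq hi hc
  have h2 : (2 : F) ≠ 0 := fun h => by
    have := hq0 (h2p.mpr h)
    rw [Nat.odd_iff] at hqodd
    omega
  have hS := Elusive.OTs.shape_odd h2 d
  rw [← OOmega.coe_odd] at hrΩ ⊢
  have hn : Fintype.card (Unit ⊕ (Fin d ⊕ Fin d)) = 2 * d + 1 := by simp; omega
  refine Iff.trans (b := Elusive.OTs.AllOrder _ m r) ?_ ((Elusive.OTs.allOrder_iff hS ⟨d, hn⟩ m hr).trans ?_)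
  · exact forall_congr' fun x => imp_congr_right fun _ => imp_congr_right fun _ =>
      exists_congr fun W => (and_assoc).symm
  have hrp : r ≠ p := (Elusive.OSame.cast_ne_iff (F := F) (p := p) hr).mp
    (Elusive.OTs.prime_dvd hS (by omega) (by omega) hr hrΩ).1
  by_cases hr2 : r = 2
  · subst hr2
    have e1 : IsSquare (-1 : F) ↔ q % 4 ≠ 3 := hq ▸ FiniteField.isSquare_neg_one_iff
    rw [Elusive.OTs.two_odd h2 hS (by omega) hmd, e1]
    rw [Nat.odd_iff] at hqodd
    simp only [lt_self_iff_false, false_and, and_false, or_false, true_and]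
    omega
  have h3 : 2 < r := by have := hr.two_le; omega
  rw [Elusive.OTs.free_cases hS (by omega) (by omega) hm hmd (by omega) hr hr2 hrΩ hcu hiu hc]
  simp only [hr2, hrp, h3, false_and, false_or, true_and, ne_eq, not_false_iff]
  rcases Nat.even_or_odd i with hev | hod
  · rw [hc, if_pos hev]
    obtain ⟨h', hh'⟩ := hev
    have hpar : (2 * d + 1) % i % 2 = 1 := by
      rw [Nat.mod_mod_of_dvd _ ⟨h', by omega⟩]; omega
    unfold Elusive.OTs.defect
    simp only [Nat.even_iff, Nat.odd_iff]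
    split_ifs <;> omega
  · have hne : ¬ Even i := Nat.not_even_iff_odd.mpr hod
    rw [hc, if_neg hne, Elusive.OTs.mod_double_succ d i hod.pos]
    simp only [hne, hod, false_and, or_false, true_and, true_or, and_true]
    omega

end Cfsg.Agent.S5972
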