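import Cfsg.Statements.S5973
import Cfsg.Agent.Lib.Classical.Elusive.OrthTsStmt

set_option autoImplicit false
open scoped MatrixGroups
open Cfsg

namespace Cfsg.Agent.S5973

open Cfsg.Agent.Classical

/-- Elements of prime order of PΩ⁺_n(q), n = 2d ≥ 8, with no fixed totally singular `m`-space, `m < n/2`. Here `T = PΩ⁺_n(q)` is realised through `Ω⁺_n(q)`, the commutator subgroup of the isometry group of the quadratic form `Σ xᵢyᵢ` over the field `F` with `q` elements; an element of `T` of prime order `r` is an element `x` of `Ω⁺_n(q)` with `x^r` scalar and `x` not scalar. Let `1 ≤ m < d` and let `r` be a prime dividing the number of totally singular `m`-spaces. For `r ≠ p` let `i` be the multiplicative order of `q` modulo `r`, `c = i` for `i` even and `c = 2i` for `i` odd, and write `k = n mod c`, `ℓ = m mod i`, `n' = ⌊n/i⌋`, `m' = ⌊m/i⌋`, `t = (r−1)/i`. Then every element of `T` of order `r` fixes some totally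 singular `m`-space if and only if one of: (i) `r = 2 ≠ p` and either `q ≡ 1 (mod 4)`, or `q ≡ 3 (mod 4)`, `m ≤ n/2 − 2` and (`m` even or `n ≡ 2 (mod 4)`); (ii) `r ≠ p` odd, `i` odd, `i ≤ m` and `k ≥ 2ℓ`; (iii) `r ≠ p` odd, `i` even, `i ≤ m`, `n' − 2m' ≥ t`, and one of: `i ≥ 2ℓ`, `k = 0`, `n/i` odd and `n' − 2m' > t`; or `k ≥ 2ℓ` and `n'` even; or `k > 2ℓ` and `n'` odd. -/
theorem result {F : Type*} [Field F] [Fintype F] {p : ℕ} [Fact p.Prime] [CharP F p] {q : ℕ} (hq : Fintype.card F = q)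
    (d m : ℕ) (hd : 4 ≤ d) (hm : 1 ≤ m) (hmd : m < d)
    (r : ℕ) [Fact r.Prime]
    (hrΩ : r ∣ Nat.card {W : Submodule F (Fin d ⊕ Fin d → F) // Module.finrank F ↥W = m ∧ (∀ w ∈ W, Cfsg.quadFormPlus d F w = 0)})
    (i c : ℕ) (hi : i = orderOf (q : ZMod r)) (hc : c = if Even i then i else 2 * i) :
    (∀ x : GL (Fin d ⊕ Fin d) F, x ∈ Cfsg.Geo.omegaGL (Cfsg.quadFormPlus d F) →
      (∃ z : F, ((x ^ r : GL (Fin d ⊕ Fin d) F) : Matrix (Fin d ⊕ Fin d) (Fin d ⊕ Fin d) F) = z • (1 : Matrix (Fin d ⊕ Fin d) (Fin d ⊕ Fin d) F)) →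
      (∀ z : F, (x : Matrix (Fin d ⊕ Fin d) (Fin d ⊕ Fin d) F) ≠ z • (1 : Matrix (Fin d ⊕ Fin d) (Fin d ⊕ Fin d) F)) →
      ∃ W : Submodule F (Fin d ⊕ Fin d → F), Module.finrank F ↥W = m ∧ (∀ w ∈ W, Cfsg.quadFormPlus d F w = 0) ∧
        W.map (Matrix.toLin' (x : Matrix (Fin d ⊕ Fin d) (Fin d ⊕ Fin d) F)) ≤ W) ↔
    ((r = 2 ∧ p ≠ 2 ∧ (q % 4 = 1 ∨ (q % 4 = 3 ∧ m + 2 ≤ d ∧ (Even m ∨ (2 * d) % 4 = 2)))) ∨
     (r ≠ p ∧ 2 < r ∧ Odd i ∧ i ≤ m ∧ 2 * (m % i) ≤ (2 * d) % c) ∨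
     (r ≠ p ∧ 2 < r ∧ Even i ∧ i ≤ m ∧ (r - 1) / i + 2 * (m / i) ≤ (2 * d) / i ∧
       ((2 * (m % i) ≤ i ∧ (2 * d) % c = 0 ∧ Odd ((2 * d) / i) ∧ (r - 1) / i + 2 * (m / i) < (2 * d) / i) ∨
        (2 * (m % i) ≤ (2 * d) % c ∧ Even ((2 * d) / i)) ∨
        (2 * (m % i) < (2 * d) % c ∧ Odd ((2 * d) / i))))) := by
  have hr : r.Prime := Fact.out
  obtain ⟨h2p, hq0, hq1⟩ := Elusive.OSame.char_facts (F := F) (p := p) hq
  obtain ⟨hcu, hiu⟩ := Elusive.OFree.unit_eq (F := F) hq hi hc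
  have hn : Fintype.card (Fin d ⊕ Fin d) = 2 * d := by simp; omega
  have hS := Elusive.OTs.shape_plus (F := F) d
  rw [← OOmega.coe_plus] at hrΩ ⊢
  refine Iff.trans (b := Elusive.OTs.All (ι := Fin d ⊕ Fin d) (OOmega.formOf d (Equiv.sumEmpty (Fin d ⊕ Fin d) Empty).symm (0 : QuadraticForm F (Empty → F))) m r) ?_ ?_
  · exact forall_congr' fun x => imp_congr_right fun _ => imp_congr_right fun _ => imp_congr_right fun _ =>
      exists_congr fun W => (and_assoc).symm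
  have hrp : r ≠ p := (Elusive.OSame.cast_ne_iff (F := F) (p := p) hr).mp
    (Elusive.OTs.prime_dvd hS (by omega) (by omega) hr hrΩ).1
  by_cases hr2 : r = 2
  · subst hr2
    have hp2 : p ≠ 2 := fun h => hrp h.symm
    have h2 : (2 : F) ≠ 0 := fun h => hp2 (h2p.mpr h)
    have e1 : IsSquare (-1 : F) ↔ q % 4 ≠ 3 := hq ▸ FiniteField.isSquare_neg_one_iff
    have e2 : IsSquare (2 : F) ↔ q % 8 ≠ 3 ∧ q % 8 ≠ 5 := hq ▸ FiniteField.isSquare_two_iff
    have := hq1 hp2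
    rw [Elusive.OTs.two_even h2 hS (by omega) (by omega) (d := d) (by omega) (by omega), Elusive.OOdd.isSquare_pow_iff h2,
      Elusive.OOdd.isSquare_pow_iff (neg_ne_zero.mpr one_ne_zero), e1, e2]
    simp only [lt_self_iff_false, false_and, and_false, or_false, true_and, ne_eq, hp2, not_false_iff, Nat.even_iff,
      Nat.odd_iff, false_iff, true_iff, OfNat.ofNat_ne_zero]
    omega
  have h3 : 2 < r := by have := hr.two_le; omega
  rw [Elusive.OTs.free_cases hS (by omega) (by omega) hm (by omega) (by omega) hr hr2 hrΩ hcu hiu hc]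
  simp only [hr2, hrp, h3, false_and, false_or, true_and, ne_eq, not_false_iff]
  rw [Nat.add_zero]
  rcases Nat.even_or_odd i with hev | hod
  · rw [hc, if_pos hev]
    obtain ⟨h', hh'⟩ := hev
    have hpar : (2 * d) % i % 2 = 0 := by
      rw [Nat.mod_mod_of_dvd _ ⟨h', by omega⟩]; omega
    unfold Elusive.OTs.defect
    simp only [Nat.even_iff, Nat.odd_iff]
    split_ifs <;> omega
  · have hne : ¬ Even i := Nat.not_even_iff_odd.mpr hod
    rw [hc, if_neg hne, Elusive.OTs.mod_double d i]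
    simp only [hne, hod, false_and, or_false, true_and]
    omega

end Cfsg.Agent.S5973
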