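import Cfsg.Statements.S5974
import Cfsg.Agent.Lib.Classical.Elusive.OrthEvenSameStmt

set_option autoImplicit false
open scoped MatrixGroups
open Cfsg

namespace Cfsg.Agent.S5974

open Cfsg.Agent.Classical

/-- Elements of prime order of PΩ⁺_n(q), n = 2d ≥ 8, with no fixed nondegenerate hyperbolic `m`-space. Here `T = PΩ⁺_n(q)` is realised through `Ω⁺_n(q)`, the commutator subgroup of the isometry group of `Q = Σ xᵢyᵢ` over the field `F` with `q` elements; an element of `T` of prime order `r` is an element `x` of `Ω⁺_n(q)` with `x^r` scalar and `x` not scalar. A hyperbolic `m`-space is a subspace `W` of even dimension `m` on which the polar form of `Q` is nondegenerate and which contains a totally singular subspace of dimension `m/2`. Let `m` be even with `2 ≤ m < n/2`, and let `r` be a prime dividing the number of hyperbolic `m`-spaces, with `r = 2` or `r ≠ p`. For `r ≠ p` let `i` be the multiplicative order of `q` modulo `r`, `c = i`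 for `i` even and `c = 2i` for `i` odd, and write `k = n mod c`, `ℓ' = m mod c`. Then every element of `T` of order `r` fixes some hyperbolic `m`-space if and only if one of: (i) `r = 2` and (`n ≡ 2 (mod 4)`, or `m ≡ 0 (mod 4)`, or `q ≡ 1 (mod 4)`); (ii) `r ≠ p` odd, `i` odd, `c ≤ m` and `k ≥ ℓ'`; (iii) `r ≠ p` odd, `i` even, and either `k = 0` and (`n/i` odd, or `ℓ' = 0` and `m/i` even), or `i ≤ m` and (`k > ℓ' > 0`, or `k = ℓ' > 0` and `(n + m − 2k)/i` even, or `k > ℓ' = 0` and `m/i` even). -/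
theorem result {F : Type*} [Field F] [Fintype F] {p : ℕ} [Fact p.Prime] [CharP F p] {q : ℕ} (hq : Fintype.card F = q)
    (d m : ℕ) (hd : 4 ≤ d) (hm : 2 ≤ m) (hme : Even m) (hmd : m < d)
    (r : ℕ) [Fact r.Prime] (hr : r = 2 ∨ r ≠ p)
    (hrΩ : r ∣ Nat.card {W : Submodule F (Fin d ⊕ Fin d → F) // (Module.finrank F ↥W = m ∧ (∀ u ∈ W, u ≠ 0 → ∃ v ∈ W, QuadraticMap.polar (Cfsg.quadFormPlus d F) u v ≠ 0) ∧
          ∃ U : Submodule F (Fin d ⊕ Fin d → F), U ≤ W ∧ 2 * Module.finrank F ↥U = m ∧ ∀ u ∈ U, Cfsg.quadFormPlus d F u = 0)})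
    (i c : ℕ) (hi : i = orderOf (q : ZMod r)) (hc : c = if Even i then i else 2 * i) :
    (∀ x : GL (Fin d ⊕ Fin d) F, x ∈ Cfsg.Geo.omegaGL (Cfsg.quadFormPlus d F) →
      (∃ z : F, ((x ^ r : GL (Fin d ⊕ Fin d) F) : Matrix (Fin d ⊕ Fin d) (Fin d ⊕ Fin d) F) = z • (1 : Matrix (Fin d ⊕ Fin d) (Fin d ⊕ Fin d) F)) →
      (∀ z : F, (x : Matrix (Fin d ⊕ Fin d) (Fin d ⊕ Fin d) F) ≠ z • (1 : Matrix (Fin d ⊕ Fin d) (Fin d ⊕ Fin d) F)) →
      ∃ W : Submodule F (Fin d ⊕ Fin d → F), (Module.finrank F ↥W = m ∧ (∀ u ∈ W, u ≠ 0 → ∃ v ∈ W, QuadraticMap.polar (Cfsg.quadFormPlus d F) u v ≠ 0) ∧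
          ∃ U : Submodule F (Fin d ⊕ Fin d → F), U ≤ W ∧ 2 * Module.finrank F ↥U = m ∧ ∀ u ∈ U, Cfsg.quadFormPlus d F u = 0) ∧
        W.map (Matrix.toLin' (x : Matrix (Fin d ⊕ Fin d) (Fin d ⊕ Fin d) F)) ≤ W) ↔
    ((r = 2 ∧ ((2 * d) % 4 = 2 ∨ m % 4 = 0 ∨ q % 4 = 1)) ∨
     (r ≠ p ∧ 2 < r ∧ Odd i ∧ c ≤ m ∧ m % c ≤ (2 * d) % c) ∨
     (r ≠ p ∧ 2 < r ∧ Even i ∧
       (((2 * d) % c = 0 ∧ (Odd ((2 * d) / i) ∨ (m % c = 0 ∧ Even (m / i)))) ∨
        (i ≤ m ∧ ((m % c < (2 * d) % c ∧ 0 < m % c) ∨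
                  ((2 * d) % c = m % c ∧ 0 < m % c ∧ Even ((2 * d + m - 2 * ((2 * d) % c)) / i)) ∨
                  (0 < (2 * d) % c ∧ m % c = 0 ∧ Even (m / i))))))) := by
  have hr' : r.Prime := Fact.out
  obtain ⟨h2p, hq0, hq1⟩ := Elusive.OSame.char_facts (F := F) (p := p) hq
  obtain ⟨hcu, hiu⟩ := Elusive.OFree.unit_eq (F := F) hq hi hc
  have hn : Fintype.card (Fin d ⊕ Fin d) = 2 * d := by simp; omega
  have hQ := OOmega.formOf_pnd (m := d) (e := (Equiv.sumEmpty (Fin d ⊕ Fin d) Empty).symm) (OOmega.pnd_empty (F := F))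
  have hT := Elusive.OSame.plus_model (F := F) d
  obtain ⟨e, he⟩ := even_iff_two_dvd.mp hme
  rw [← OOmega.coe_plus] at hrΩ ⊢
  refine (Elusive.OSame.all_congr fun W => Elusive.OSame.mem_hyperbolic W).trans ?_
  have hdvd := Elusive.OSame.dvd_congr (fun W => Elusive.OSame.mem_hyperbolic W) hrΩ
  by_cases hr2 : r = 2
  · subst hr2
    simp only [lt_self_iff_false, true_and, false_and, and_false, or_false]
    by_cases hp2 : p = 2
    · subst hp2
      have hq2 := hq0 rfl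
      by_cases hok : m % 4 = 0 ∨ Odd d
      · refine iff_of_true (Elusive.OSame.two_same (h2p.mp rfl) hQ hn hm hme (by omega) True
          (iff_of_true trivial hT) (Or.inl ⟨hT, hok⟩)) ?_
        rw [Nat.odd_iff] at hok
        omega
      · rw [Nat.odd_iff] at hok
        refine iff_of_false (Elusive.OSame.exists_derangement_sq (p := 2) hQ hn (by omega) (k := d / 2) (by omega)
          (Or.inr ⟨hT, by omega⟩) True hme fun s s' hs hss hs1 hs2 _ _ => ?_) (by omega)
        rw [Nat.even_iff] at hs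
        omega
    ·
      have h2 : (2 : F) ≠ 0 := fun h => hp2 (h2p.mpr h)
      have e2 : IsSquare (2 : F) ↔ q % 8 ≠ 3 ∧ q % 8 ≠ 5 := hq ▸ FiniteField.isSquare_two_iff
      have e1 : IsSquare (-1 : F) ↔ q % 4 ≠ 3 := hq ▸ FiniteField.isSquare_neg_one_iff
      have := hq1 hp2
      rw [he, Elusive.OSame.two_iff h2 hQ hn (by omega) (by omega) (by omega) True, eq_true hT,
        Elusive.OOdd.isSquare_pow_iff h2, Elusive.OOdd.isSquare_pow_iff (neg_ne_zero.mpr one_ne_zero),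
        Elusive.OOdd.isSquare_pow_iff (neg_ne_zero.mpr one_ne_zero), e1, e2]
      simp only [hp2, ne_eq, not_false_iff, true_and, false_and, false_or, true_iff, false_iff, not_not,
        Nat.even_iff, Nat.odd_iff]
      omega
  have hrp : r ≠ p := hr.resolve_left hr2
  have h3 : 2 < r := by have := hr'.two_le; omega
  have hr0 := (Elusive.OSame.cast_ne_iff (F := F) (p := p) hr').mpr hrp
  have hex := Elusive.OUnits.excluded hQ hr' hr2 hr0 hm hme
    (by rw [Module.finrank_fintype_fun_eq_card, hn]; omega) True hdvd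
  rw [Module.finrank_fintype_fun_eq_card, hn, eq_true hT] at hex
  rw [Elusive.OSame.free_iff hQ hn (by omega) hm hme (by omega) True hr' hr2 hr0 hdvd, eq_true hT,
    Elusive.OSame.cond_plus_plus hcu hiu hc hm hex]
  simp only [hr2, hrp, h3, ne_eq, not_false_iff, true_and, false_and, false_or]

end Cfsg.Agent.S5974
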