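import Cfsg.Statements.S5975
import Cfsg.Agent.Lib.Classical.Elusive.SelfAdjointField
import Cfsg.Agent.Lib.Classical.Elusive.SympExtension
import Cfsg.Agent.Lib.Classical.Elusive.Cases
-- import your own Cfsg.Agent.* helpers here

set_option autoImplicit false
open scoped MatrixGroups
open scoped Matrix
open Cfsg

namespace Cfsg.Agent.S5975

open Matrix Cfsg Cfsg.Agent.Classical

theorem eq_conj {n : Type*} [Fintype n] [DecidableEq n] {F : Type*} [CommRing F] {G : GL n F} {M N : Matrix n n F}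
    (h : M * (G : Matrix n n F) = (G : Matrix n n F) * N) :
    ((G⁻¹ : GL n F) : Matrix n n F) * M * (G : Matrix n n F) = N ∧
      (G : Matrix n n F) * N * ((G⁻¹ : GL n F) : Matrix n n F) = M :=
  ⟨by rw [mul_assoc, h, ← mul_assoc, Units.inv_mul, one_mul], by rw [← h, mul_assoc, Units.mul_inv, mul_one]⟩

theorem sign_mem_normalizer {ι : Type} [Fintype ι] [DecidableEq ι] {F : Type*} [Field F]
    {K : Subalgebra F (Matrix ι ι F)} {δ : Matrix ι ι F} (hδ : δ ∈ K)
    (hspan : ∀ k ∈ K, ∃ a b : F, k = a • (1 : Matrix ι ι F) + b • δ) {Y : GL ι F} {σ : F} (hσ : σ * σ = 1)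
    (hY : (Y : Matrix ι ι F) * δ = σ • (δ * (Y : Matrix ι ι F))) : Y ∈ Cfsg.Geo.subalgebraNormalizer K := by
  have hf : (Y : Matrix ι ι F) * δ * ((Y⁻¹ : GL ι F) : Matrix ι ι F) = σ • δ := by
    rw [hY, Matrix.smul_mul, mul_assoc, Units.mul_inv, mul_one]
  have hb : ((Y⁻¹ : GL ι F) : Matrix ι ι F) * δ * (Y : Matrix ι ι F) = σ • δ := by
    have e : δ * (Y : Matrix ι ι F) = σ • ((Y : Matrix ι ι F) * δ) := by rw [hY, smul_smul, hσ, one_smul]
    rw [mul_assoc, e, Matrix.mul_smul, ← mul_assoc, Units.inv_mul, one_mul]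
  intro k
  constructor
  · intro hk
    obtain ⟨a, b, rfl⟩ := hspan k hk
    simp only [mul_add, add_mul, Matrix.mul_smul, Matrix.smul_mul, mul_one, Units.mul_inv, hf]
    exact K.add_mem (K.smul_mem K.one_mem a) (K.smul_mem (K.smul_mem hδ σ) b)
  · intro hk
    obtain ⟨a, b, hab⟩ := hspan _ hk
    have e : k = ((Y⁻¹ : GL ι F) : Matrix ι ι F) * ((Y : Matrix ι ι F) * k * ((Y⁻¹ : GL ι F) : Matrix ι ι F)) *
        (Y : Matrix ι ι F) := by
      rw [← mul_assoc, ← mul_assoc, Units.inv_mul, one_mul, mul_assoc, Units.inv_mul, mul_one]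
    rw [e, hab]
    simp only [mul_add, add_mul, Matrix.mul_smul, Matrix.smul_mul, mul_one, Units.inv_mul, hb]
    exact K.add_mem (K.smul_mem K.one_mem a) (K.smul_mem (K.smul_mem hδ σ) b)

theorem two_ne {F : Type*} [Field F] [Fintype F] (h : Odd (Fintype.card F)) : (2 : F) ≠ 0 :=
  Ring.two_ne_zero fun h2 => by
    have := FiniteField.even_card_iff_char_two.mp h2
    obtain ⟨k, hk⟩ := h
    omega

theorem fix_all_pairs {F : Type*} [Field F] [Fintype F] {δ : Matrix (Fin 2 ⊕ Fin 2) (Fin 2 ⊕ Fin 2) F} {ν : F}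
    (hν : ¬ IsSquare ν) (hδ : δ * δ = ν • 1) (hadj : ∀ u v, sympForm 2 F (δ *ᵥ u) v = sympForm 2 F u (δ *ᵥ v))
    (halt : ∀ u, sympForm 2 F (δ *ᵥ u) u = 0) (h2 : (2 : F) ≠ 0) {x : GL (Fin 2 ⊕ Fin 2) F}
    (hx : x ∈ Cfsg.spGL 2 F) {z : F}
    (hz : (x : Matrix (Fin 2 ⊕ Fin 2) (Fin 2 ⊕ Fin 2) F) * x = z • 1)
    (hns : ∀ c : F, (x : Matrix (Fin 2 ⊕ Fin 2) (Fin 2 ⊕ Fin 2) F) ≠ c • 1) :
    ∃ g ∈ Cfsg.spGL 2 F, ∃ σ : F, σ * σ = 1 ∧
      ((g⁻¹ * x * g : GL (Fin 2 ⊕ Fin 2) F) : Matrix (Fin 2 ⊕ Fin 2) (Fin 2 ⊕ Fin 2) F) * δ =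
        σ • (δ * ((g⁻¹ * x * g : GL (Fin 2 ⊕ Fin 2) F) : Matrix (Fin 2 ⊕ Fin 2) (Fin 2 ⊕ Fin 2) F)) := by
  classical
  have hν0 : ν ≠ 0 := fun h => hν (h ▸ IsSquare.zero)
  obtain ⟨Q, hQ, eQ⟩ := SelfAdjointField.exists_normal hν hδ hadj halt
  have hp : ∀ u v, sympForm 2 F ((x : Matrix (Fin 2 ⊕ Fin 2) (Fin 2 ⊕ Fin 2) F) *ᵥ u)
      ((x : Matrix (Fin 2 ⊕ Fin 2) (Fin 2 ⊕ Fin 2) F) *ᵥ v) = sympForm 2 F u v := hx
  have hxx : ∀ u, (x : Matrix (Fin 2 ⊕ Fin 2) (Fin 2 ⊕ Fin 2) F) *ᵥ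
      ((x : Matrix (Fin 2 ⊕ Fin 2) (Fin 2 ⊕ Fin 2) F) *ᵥ u) = z • u := fun u => by
    rw [Matrix.mulVec_mulVec, hz, Matrix.smul_mulVec, Matrix.one_mulVec]
  have hz2 : z * z = 1 := by
    obtain ⟨u, hu⟩ := exists_ne (0 : Fin 2 ⊕ Fin 2 → F)
    obtain ⟨v, hv⟩ := Lead.Symp.exists_form_ne hu
    have h := hp ((x : Matrix (Fin 2 ⊕ Fin 2) (Fin 2 ⊕ Fin 2) F) *ᵥ u)
      ((x : Matrix (Fin 2 ⊕ Fin 2) (Fin 2 ⊕ Fin 2) F) *ᵥ v)
    rw [hxx, hxx, hp, ← Elusive.sympB_apply, map_smul, map_smul, LinearMap.smul_apply, Elusive.sympB_apply,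
      smul_eq_mul, smul_eq_mul, ← mul_assoc] at h
    exact mul_right_cancel₀ hv (h.trans (one_mul _).symm)
  have hadjx : ∀ u v, sympForm 2 F ((x : Matrix (Fin 2 ⊕ Fin 2) (Fin 2 ⊕ Fin 2) F) *ᵥ u) v =
      z * sympForm 2 F u ((x : Matrix (Fin 2 ⊕ Fin 2) (Fin 2 ⊕ Fin 2) F) *ᵥ v) := fun u v => by
    have h := hp ((x : Matrix (Fin 2 ⊕ Fin 2) (Fin 2 ⊕ Fin 2) F) *ᵥ u) v
    rw [hxx, ← Elusive.sympB_apply, map_smul, LinearMap.smul_apply, Elusive.sympB_apply, smul_eq_mul] at h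
    rw [← h]
  suffices hN : ∃ g ∈ Cfsg.spGL 2 F, ∃ (N δ' : Matrix (Fin 2 ⊕ Fin 2) (Fin 2 ⊕ Fin 2) F) (σ : F), σ * σ = 1 ∧
      δ' * δ' = ν • 1 ∧ (∀ u v, sympForm 2 F (δ' *ᵥ u) v = sympForm 2 F u (δ' *ᵥ v)) ∧
      (∀ u, sympForm 2 F (δ' *ᵥ u) u = 0) ∧ N * δ' = σ • (δ' * N) ∧
      (x : Matrix (Fin 2 ⊕ Fin 2) (Fin 2 ⊕ Fin 2) F) * (g : Matrix (Fin 2 ⊕ Fin 2) (Fin 2 ⊕ Fin 2) F) =
        (g : Matrix (Fin 2 ⊕ Fin 2) (Fin 2 ⊕ Fin 2) F) * N by
    obtain ⟨g, hg, N, δ', σ, hσ, hd1, hd2, hd3, hNd, hxg⟩ := hN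
    obtain ⟨G, hG, eG⟩ := SelfAdjointField.exists_normal hν hd1 hd2 hd3
    refine ⟨g * (Q * G⁻¹)⁻¹, mul_mem hg (inv_mem (mul_mem hQ (inv_mem hG))), σ, hσ, ?_⟩
    obtain ⟨T, hT⟩ : ∃ T, T = Q * G⁻¹ := ⟨_, rfl⟩
    rw [← hT]
    have e : (((g * T⁻¹)⁻¹ * x * (g * T⁻¹) : GL (Fin 2 ⊕ Fin 2) F) : Matrix (Fin 2 ⊕ Fin 2) (Fin 2 ⊕ Fin 2) F) =
        (T : Matrix (Fin 2 ⊕ Fin 2) (Fin 2 ⊕ Fin 2) F) * N *
          ((T⁻¹ : GL (Fin 2 ⊕ Fin 2) F) : Matrix (Fin 2 ⊕ Fin 2) (Fin 2 ⊕ Fin 2) F) := by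
      rw [← (eq_conj hxg).1, _root_.mul_inv_rev, inv_inv]
      simp only [Units.val_mul, mul_assoc]
    have eδ : δ = (T : Matrix (Fin 2 ⊕ Fin 2) (Fin 2 ⊕ Fin 2) F) * δ' *
        ((T⁻¹ : GL (Fin 2 ⊕ Fin 2) F) : Matrix (Fin 2 ⊕ Fin 2) (Fin 2 ⊕ Fin 2) F) := by
      rw [← (eq_conj eQ).2, ← (eq_conj eG).1, hT, _root_.mul_inv_rev, inv_inv]
      simp only [Units.val_mul, mul_assoc]
    rw [e, eδ]
    simp only [mul_assoc, Units.inv_mul_cancel_left]
    rw [← mul_assoc N, hNd]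
    simp only [Matrix.smul_mul, Matrix.mul_smul, mul_assoc]
  rcases mul_self_eq_one_iff.mp hz2 with rfl | rfl
  · obtain ⟨g, hg, s, e⟩ := SkewBlocks.exists_invol_normal h2
      (A := (x : Matrix (Fin 2 ⊕ Fin 2) (Fin 2 ⊕ Fin 2) F)) (hz.trans (one_smul _ _))
      (fun u v => by rw [hadjx, one_mul])
    refine ⟨g, hg, _, SelfAdjointField.S4 ν, -1, by ring, ?_, fun u v => ?_, fun u => ?_, ?_, e⟩
    · rw [SelfAdjointField.S4, Matrix.fromBlocks_multiply, ← Matrix.fromBlocks_one, Matrix.fromBlocks_smul,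
        Matrix.fromBlocks_inj]
      simp [Matrix.mul_fin_two, Matrix.one_fin_two]
    · simp [Lead.Symp.form_eq, SelfAdjointField.S4, Matrix.fromBlocks_mulVec, Matrix.vecHead, Matrix.vecTail,
        Fin.sum_univ_two]
      ring
    · simp [Lead.Symp.form_eq, SelfAdjointField.S4, Matrix.fromBlocks_mulVec, Matrix.vecHead, Matrix.vecTail,
        Fin.sum_univ_two]
      ring
    · have hsq : ∀ i, s i * s i = 1 := fun i => by
        have e1 : Matrix.diagonal (Sum.elim s s) * Matrix.diagonal (Sum.elim s s) = 1 := by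
          rw [← (eq_conj e).1]
          simp only [mul_assoc, Units.mul_inv_cancel_left]
          rw [← mul_assoc (x : Matrix (Fin 2 ⊕ Fin 2) (Fin 2 ⊕ Fin 2) F), hz, one_smul, one_mul, Units.inv_mul]
        have e2 := congrFun (congrFun e1 (Sum.inl i)) (Sum.inl i)
        simpa [Matrix.one_apply] using e2
      have hs : s 1 = -s 0 := by
        rcases mul_self_eq_mul_self_iff.mp ((hsq 1).trans (hsq 0).symm) with h | h
        · exfalso
          refine hns (s 0) ?_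
          rw [← (eq_conj e).2]
          have : Matrix.diagonal (Sum.elim s s) = s 0 • (1 : Matrix (Fin 2 ⊕ Fin 2) (Fin 2 ⊕ Fin 2) F) := by
            rw [Matrix.smul_one_eq_diagonal]
            congr 1
            funext i
            rcases i with i | i <;> fin_cases i <;> simp [h]
          rw [this, Matrix.mul_smul, mul_one, Matrix.smul_mul, Units.mul_inv]
        · exact h
      ext a b
      rcases a with a | a <;> rcases b with b | b <;> fin_cases a <;> fin_cases b <;>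
        simp [SelfAdjointField.S4, Matrix.diagonal_mul, Matrix.mul_diagonal, hs, mul_comm]
  · obtain ⟨g, hg, e⟩ := SkewBlocks.exists_skew_normal (neg_ne_zero.mpr one_ne_zero) h2 hz
      (fun u v => by rw [hadjx, neg_one_mul])
    obtain ⟨a, b, hab⟩ := SkewBlocks.exists_norm (neg_ne_zero.mpr one_ne_zero) h2 ν
    refine ⟨g, hg, _, Matrix.fromBlocks !![a, b; b, -a] 0 0 !![a, b; b, -a], 1, one_mul 1, ?_, fun u v => ?_,
      fun u => ?_, ?_, e⟩
    · rw [Matrix.fromBlocks_multiply, ← Matrix.fromBlocks_one, Matrix.fromBlocks_smul, Matrix.fromBlocks_inj]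
      simp only [Matrix.mul_fin_two, Matrix.zero_mul, Matrix.mul_zero, add_zero, zero_add, smul_zero, and_self,
        and_true, true_and]
      ext i j
      fin_cases i <;> fin_cases j <;> simp <;> first | ring1 | linear_combination hab
    · simp [Lead.Symp.form_eq, Matrix.fromBlocks_mulVec, Matrix.vecHead, Matrix.vecTail, Fin.sum_univ_two]
      ring
    · simp [Lead.Symp.form_eq, Matrix.fromBlocks_mulVec, Matrix.vecHead, Matrix.vecTail, Fin.sum_univ_two]
      ring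
    · simp [SkewBlocks.S, Matrix.fromBlocks_multiply]

/-- Elements of prime order of PSp_n(q) and the field-extension subgroups of type Sp_{n/k}(q^k). Here `T = PSp_{2d}(F)` for a field `F` with `q` elements (`d ≥ 2`, `(d, q) ≠ (2, 2)`), realised through the matrices preserving the standard alternating form `f`; `k` is a prime and `K` is a subalgebra of the `2d × 2d` matrices that is a field of degree `k` over `F` whose elements are self-adjoint for `f` and satisfy `f(a v, v) = 0` (so `F^{2d}` becomes a vector space over `K ≅ F_{q^k}` on which `f` is the trace of a `K`-bilinear alternating form); `H` is the subgroup of `T` normalizing `K` — the symplectic maps that are `K`-linear or `K`-semilinear, a subgroup of type Sp_{2d/k}(q^k) (maximality is not assumed). Ω is the set of cosets of `H` in `T`, so an element of `T` of prime order `r` (`x ∈ T` with `x^r` scalar, `x` not scalar) fixes a point of Ω exactly when some `T`-conjugate of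 `x` normalizes `K`. Let `r` be a prime dividing the index of `H`. Then every element of `T` of order `r` fixes a point of Ω if and only if `r = 2`, `d = 2`, `k = 2` and `q` is odd. -/
theorem result {F : Type*} [Field F] [Fintype F] {p : ℕ} [Fact p.Prime] [CharP F p] {q : ℕ} (hq : Fintype.card F = q)
    (d : ℕ) (hd : 2 ≤ d) (hT : (d, q) ≠ (2, 2)) (k : ℕ) (hk : k.Prime)
    (K : Subalgebra F (Matrix (Fin d ⊕ Fin d) (Fin d ⊕ Fin d) F)) (hK : Cfsg.Geo.IsFieldSubalgebra k K)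
    (hKf : Cfsg.Geo.IsSelfAdjointFor (Cfsg.sympForm d F) K) (hKalt : ∀ a ∈ K, ∀ v : Fin d ⊕ Fin d → F, Cfsg.sympForm d F (a *ᵥ v) v = 0)
    (r : ℕ) [Fact r.Prime]
    (hΩ : r ∣ (Cfsg.Geo.subalgebraNormalizer K).relIndex (Cfsg.spGL d F)) :
    (∀ x ∈ Cfsg.spGL d F, (∃ z : F, ((x ^ r : GL (Fin d ⊕ Fin d) F) : Matrix (Fin d ⊕ Fin d) (Fin d ⊕ Fin d) F) = z • (1 : Matrix (Fin d ⊕ Fin d) (Fin d ⊕ Fin d) F)) →
      (∀ z : F, (x : Matrix (Fin d ⊕ Fin d) (Fin d ⊕ Fin d) F) ≠ z • (1 : Matrix (Fin d ⊕ Fin d) (Fin d ⊕ Fin d) F)) →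
      ∃ g ∈ Cfsg.spGL d F, g⁻¹ * x * g ∈ Cfsg.Geo.subalgebraNormalizer K) ↔
    (r = 2 ∧ d = 2 ∧ k = 2 ∧ Odd q) := by
  classical
  have hFq : Fintype.card F = q := hq
  subst hq
  have hr : r.Prime := Fact.out
  have hp : p.Prime := Fact.out
  haveI : Nonempty (Fin d ⊕ Fin d) := ⟨Sum.inl ⟨0, by omega⟩⟩
  obtain ⟨hkd, hrj⟩ := SympExtension.prime_dvd_index (by omega) hK hKf hKalt hr hΩ
  have hkle : k ≤ d := Nat.le_of_dvd (by omega) hkd
  -- eigenvalues of the field in the base field force scalars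
  have heig : ∀ a ∈ K, ∀ (c : F) (v : Fin d ⊕ Fin d → F), v ≠ 0 → a *ᵥ v = c • v →
      a = c • (1 : Matrix (Fin d ⊕ Fin d) (Fin d ⊕ Fin d) F) := by
    intro a ha c v hv h
    by_contra hne
    obtain ⟨b, -, hb⟩ := hK.inv _ (K.sub_mem ha (K.smul_mem K.one_mem c)) (sub_ne_zero.mpr hne)
    apply hv
    rw [← Matrix.one_mulVec v, ← mul_eq_one_comm.mp hb, ← Matrix.mulVec_mulVec, Matrix.sub_mulVec, h,
      Matrix.smul_mulVec, Matrix.one_mulVec, sub_self, Matrix.mulVec_zero]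
  have hnon : ∃ a ∈ K, ∀ c : F, a ≠ c • (1 : Matrix (Fin d ⊕ Fin d) (Fin d ⊕ Fin d) F) := by
    by_contra hc
    push Not at hc
    have h1 : Module.finrank F K ≤ 1 := finrank_le_one (1 : K) fun a => by
      obtain ⟨c, hc'⟩ := hc a a.2
      exact ⟨c, Subtype.ext hc'.symm⟩
    rw [hK.finrank_eq] at h1
    have := hk.two_le
    omega
  constructor
  · intro hall
    by_contra hcon
    suffices hbad : ∃ x : GL (Fin d ⊕ Fin d) F, x ∈ Cfsg.spGL d F ∧ x ^ r = 1 ∧
        (∀ z : F, (x : Matrix (Fin d ⊕ Fin d) (Fin d ⊕ Fin d) F) ≠ z • 1) ∧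
        (r ≠ k ∨ ∃ W : Submodule F (Fin d ⊕ Fin d → F), d < Module.finrank F W ∧
          ∀ w ∈ W, (x : Matrix (Fin d ⊕ Fin d) (Fin d ⊕ Fin d) F) *ᵥ w = w) ∧
        ∀ g ∈ Cfsg.spGL d F, (∀ a ∈ K,
          ((g : Matrix (Fin d ⊕ Fin d) (Fin d ⊕ Fin d) F) * a *
            ((g⁻¹ : GL (Fin d ⊕ Fin d) F) : Matrix (Fin d ⊕ Fin d) (Fin d ⊕ Fin d) F)) * x =
          x * ((g : Matrix (Fin d ⊕ Fin d) (Fin d ⊕ Fin d) F) * a *
            ((g⁻¹ : GL (Fin d ⊕ Fin d) F) : Matrix (Fin d ⊕ Fin d) (Fin d ⊕ Fin d) F))) → False by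
      obtain ⟨x, hx, hxr, hxs, hcase, hxno⟩ := hbad
      obtain ⟨g, hg, hY⟩ := hall x hx ⟨1, by rw [hxr, Units.val_one, one_smul]⟩ hxs
      refine hxno g hg fun a ha => ?_
      have hcom : g⁻¹ * x * g ∈ SympExtension.cent K := by
        rcases hcase with h | ⟨W, hW, hWx⟩
        · refine SympExtension.commute_of_order (by omega) hk hK hY hr ?_ h
          rw [show g⁻¹ * x * g = g⁻¹ * x * (g⁻¹)⁻¹ by rw [inv_inv], conj_pow, hxr, mul_one, mul_inv_cancel]
        · refine SympExtension.commute_of_fix hK hY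
            (W.map (Matrix.toLin' ((g⁻¹ : GL (Fin d ⊕ Fin d) F) : Matrix (Fin d ⊕ Fin d) (Fin d ⊕ Fin d) F))) ?_ ?_
          · have hinj : Function.Injective (Matrix.toLin' ((g⁻¹ : GL (Fin d ⊕ Fin d) F) :
                Matrix (Fin d ⊕ Fin d) (Fin d ⊕ Fin d) F)) := fun u v h => by
              simp only [Matrix.toLin'_apply] at h
              have := congrArg (fun w => (g : Matrix (Fin d ⊕ Fin d) (Fin d ⊕ Fin d) F) *ᵥ w) h
              simpa [Matrix.mulVec_mulVec] using this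
            rwa [LinearEquiv.finrank_eq (Submodule.equivMapOfInjective _ hinj W).symm]
          · rintro _ ⟨w, hw, rfl⟩
            rw [Matrix.toLin'_apply, Matrix.mulVec_mulVec, ← Units.val_mul, mul_assoc, mul_inv_cancel, mul_one,
              Units.val_mul, ← Matrix.mulVec_mulVec, hWx w hw]
      have h := hcom a ha
      rw [Units.val_mul, Units.val_mul] at h
      calc (g : Matrix (Fin d ⊕ Fin d) (Fin d ⊕ Fin d) F) * a *
            ((g⁻¹ : GL (Fin d ⊕ Fin d) F) : Matrix (Fin d ⊕ Fin d) (Fin d ⊕ Fin d) F) * x =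
          (g : Matrix (Fin d ⊕ Fin d) (Fin d ⊕ Fin d) F) * (a *
            (((g⁻¹ : GL (Fin d ⊕ Fin d) F) : Matrix (Fin d ⊕ Fin d) (Fin d ⊕ Fin d) F) * x * g)) *
            ((g⁻¹ : GL (Fin d ⊕ Fin d) F) : Matrix (Fin d ⊕ Fin d) (Fin d ⊕ Fin d) F) := by
            simp only [mul_assoc, Units.mul_inv, mul_one]
        _ = _ := by
            rw [← h]
            simp only [mul_assoc, Units.mul_inv_cancel_left]
    rcases eq_or_ne r p with hrp | hrp
    · subst hrp
      obtain ⟨i⟩ : Nonempty (Fin d ⊕ Fin d) := inferInstance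
      obtain ⟨v, hv⟩ : ∃ v : Fin d ⊕ Fin d → F, v = Pi.single i 1 := ⟨_, rfl⟩
      have hv0 : v ≠ 0 := fun h => by simpa [hv] using congrFun h i
      have hpow : ∀ j : ℕ, sympTransvection d v (1 : F) ^ j = sympTransvection d v ((j : F)) := by
        intro j
        induction j with
        | zero => simp [sympTransvection]
        | succ j ih => rw [pow_succ, ih, Lead.Symp.trans_add, Nat.cast_succ]
      obtain ⟨x, hxmat⟩ : ∃ x : GL (Fin d ⊕ Fin d) F,
          (x : Matrix (Fin d ⊕ Fin d) (Fin d ⊕ Fin d) F) = sympTransvection d v 1 :=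
        ⟨⟨sympTransvection d v 1, sympTransvection d v (-1),
          by rw [Lead.Symp.trans_add, add_neg_cancel]; simp [sympTransvection],
          by rw [Lead.Symp.trans_add, neg_add_cancel]; simp [sympTransvection]⟩, rfl⟩
      have hxv : ∀ w, (x : Matrix (Fin d ⊕ Fin d) (Fin d ⊕ Fin d) F) *ᵥ w = w + sympForm d F w v • v := fun w => by
        rw [hxmat, Lead.Symp.trans_mulVec, one_mul]
      obtain ⟨w, hw⟩ := Lead.Symp.exists_form_ne hv0
      have hwv : sympForm d F w v ≠ 0 := by rw [Lead.Symp.form_swap]; exact neg_ne_zero.mpr hw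
      refine ⟨x, fun a b => ?_, ?_, fun z hz => ?_, Or.inr ⟨LinearMap.ker (Elusive.sympB d F v), ?_, fun u hu => ?_⟩,
        fun g hg hA => ?_⟩
      · show sympForm d F ((x : Matrix (Fin d ⊕ Fin d) (Fin d ⊕ Fin d) F) *ᵥ a)
          ((x : Matrix (Fin d ⊕ Fin d) (Fin d ⊕ Fin d) F) *ᵥ b) = sympForm d F a b
        rw [hxmat]
        exact Lead.Symp.form_preserved (Lead.Symp.trans_mem v 1) a b
      · refine Units.ext ?_
        rw [Units.val_pow_eq_pow_val, hxmat, hpow, CharP.cast_eq_zero]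
        simp [sympTransvection]
      · have h1 := hxv v
        rw [hz, Matrix.smul_mulVec, Matrix.one_mulVec, Lead.Symp.form_self, zero_smul, add_zero] at h1
        have hz1 : z = 1 := by
          by_contra hz1
          exact hv0 ((smul_eq_zero.mp (show (z - 1) • v = 0 by rw [sub_smul, h1, one_smul, sub_self])).resolve_left
            (sub_ne_zero.mpr hz1))
        have h3 := hxv w
        rw [hz, hz1, one_smul, Matrix.one_mulVec, left_eq_add] at h3
        exact hv0 ((smul_eq_zero.mp h3).resolve_left hwv)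
      · have h1 := LinearMap.finrank_range_add_finrank_ker (Elusive.sympB d F v)
        have h2 := Submodule.finrank_le (LinearMap.range (Elusive.sympB d F v))
        rw [Module.finrank_fintype_fun_eq_card, Fintype.card_sum, Fintype.card_fin] at h1
        rw [Module.finrank_self] at h2
        omega
      · rw [hxv, Lead.Symp.form_swap, show sympForm d F v u = 0 from hu, neg_zero, zero_smul, add_zero]
      · obtain ⟨a, ha, hac⟩ := hnon
        obtain ⟨A, hAdef⟩ : ∃ A, A = (g : Matrix (Fin d ⊕ Fin d) (Fin d ⊕ Fin d) F) * a *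
            ((g⁻¹ : GL (Fin d ⊕ Fin d) F) : Matrix (Fin d ⊕ Fin d) (Fin d ⊕ Fin d) F) := ⟨_, rfl⟩
        have h0 := hA a ha
        rw [← hAdef] at h0
        have h1 : (A * (x : Matrix (Fin d ⊕ Fin d) (Fin d ⊕ Fin d) F)) *ᵥ w =
            ((x : Matrix (Fin d ⊕ Fin d) (Fin d ⊕ Fin d) F) * A) *ᵥ w := by rw [h0]
        rw [← Matrix.mulVec_mulVec, ← Matrix.mulVec_mulVec, hxv, hxv, Matrix.mulVec_add, Matrix.mulVec_smul,
          add_right_inj] at h1
        obtain ⟨c, hc⟩ : ∃ c, A *ᵥ v = c • v := ⟨(sympForm d F w v)⁻¹ * sympForm d F (A *ᵥ w) v, by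
          rw [mul_smul, ← h1, smul_smul, inv_mul_cancel₀ hwv, one_smul]⟩
        refine hac c (heig a ha c (((g⁻¹ : GL (Fin d ⊕ Fin d) F) : Matrix (Fin d ⊕ Fin d) (Fin d ⊕ Fin d) F) *ᵥ v)
          (fun h => hv0 ?_) ?_)
        · rw [← Matrix.one_mulVec v, ← Units.mul_inv g, ← Matrix.mulVec_mulVec, h, Matrix.mulVec_zero]
        · rw [← Matrix.mulVec_smul, ← hc, hAdef, Matrix.mulVec_mulVec, Matrix.mulVec_mulVec]
          simp only [← mul_assoc, Units.inv_mul, one_mul]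
    have hrdvd : ¬ r ∣ Fintype.card F := fun h => by
      obtain ⟨n, hp', hn⟩ := FiniteField.card F p
      rw [hn] at h
      exact hrp ((Nat.prime_dvd_prime_iff_eq hr hp').mp (hr.dvd_of_dvd_pow h))
    rcases eq_or_ne r 2 with rfl | hr2
    · -- an involution
      have hqodd : Odd (Fintype.card F) := Nat.not_even_iff_odd.mp fun h => hrdvd (even_iff_two_dvd.mp h)
      have h2 := two_ne hqodd
      rcases eq_or_lt_of_le hd with rfl | hd3
      · exact (hcon ⟨rfl, rfl, by have := hk.two_le; omega, hqodd⟩).elim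
      obtain ⟨s, hs⟩ : ∃ s : Fin d → F, ∀ i, s i = if (i : ℕ) = 0 then -1 else 1 := ⟨_, fun _ => rfl⟩
      have hs2 : ∀ i, s i * s i = 1 := fun i => by rw [hs]; split_ifs <;> ring
      have hD2 : Matrix.diagonal (Sum.elim s s) * Matrix.diagonal (Sum.elim s s) =
          (1 : Matrix (Fin d ⊕ Fin d) (Fin d ⊕ Fin d) F) := by
        rw [Matrix.diagonal_mul_diagonal, ← Matrix.diagonal_one]
        congr 1
        funext i
        rcases i with i | i <;> simp [hs2]
      obtain ⟨x, hxmat⟩ : ∃ x : GL (Fin d ⊕ Fin d) F,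
          (x : Matrix (Fin d ⊕ Fin d) (Fin d ⊕ Fin d) F) = Matrix.diagonal (Sum.elim s s) :=
        ⟨⟨_, _, hD2, hD2⟩, rfl⟩
      have hxapp : ∀ w t, ((x : Matrix (Fin d ⊕ Fin d) (Fin d ⊕ Fin d) F) *ᵥ w) t = Sum.elim s s t * w t :=
        fun w t => by rw [hxmat, Matrix.mulVec_diagonal]
      let i₀ : Fin d := ⟨0, by omega⟩
      let i₁ : Fin d := ⟨1, by omega⟩
      refine ⟨x, fun u v => ?_, ?_, fun z hz => ?_, Or.inr ?_, fun g hg hA => ?_⟩
      · show sympForm d F ((x : Matrix (Fin d ⊕ Fin d) (Fin d ⊕ Fin d) F) *ᵥ u)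
          ((x : Matrix (Fin d ⊕ Fin d) (Fin d ⊕ Fin d) F) *ᵥ v) = sympForm d F u v
        rw [Lead.Symp.form_eq, Lead.Symp.form_eq]
        refine Finset.sum_congr rfl fun i _ => ?_
        simp only [hxapp, Sum.elim_inl, Sum.elim_inr]
        linear_combination (u (Sum.inr i) * v (Sum.inl i) - u (Sum.inl i) * v (Sum.inr i)) * hs2 i
      · refine Units.ext ?_
        rw [Units.val_pow_eq_pow_val, hxmat, pow_two, hD2, Units.val_one]
      · have e0 := congrFun (congrFun hz (Sum.inl i₀)) (Sum.inl i₀)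
        have e1 := congrFun (congrFun hz (Sum.inl i₁)) (Sum.inl i₁)
        simp [hxmat, hs, i₀, i₁] at e0 e1
        exact h2 (by linear_combination e1 - e0)
      · let π : (Fin d ⊕ Fin d → F) →ₗ[F] F × F :=
          (LinearMap.proj (Sum.inl i₀)).prod (LinearMap.proj (Sum.inr i₀))
        refine ⟨LinearMap.ker π, ?_, fun w hw => funext fun t => ?_⟩
        · have h1 := LinearMap.finrank_range_add_finrank_ker π
          have h3 := Submodule.finrank_le (LinearMap.range π)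
          rw [Module.finrank_fintype_fun_eq_card, Fintype.card_sum, Fintype.card_fin] at h1
          rw [Module.finrank_prod, Module.finrank_self] at h3
          omega
        · rw [hxapp]
          rw [LinearMap.mem_ker] at hw
          obtain ⟨hw1, hw2⟩ : w (Sum.inl i₀) = 0 ∧ w (Sum.inr i₀) = 0 := by simpa [π] using hw
          rcases t with i | i
          · by_cases hi : i = i₀
            · rw [hi, hw1, mul_zero]
            · rw [Sum.elim_inl, hs, if_neg (fun h => hi (Fin.ext h)), one_mul]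
          · by_cases hi : i = i₀
            · rw [hi, hw2, mul_zero]
            · rw [Sum.elim_inr, hs, if_neg (fun h => hi (Fin.ext h)), one_mul]
      · obtain ⟨a, ha, hac⟩ := hnon
        obtain ⟨A, hAdef⟩ : ∃ A, A = (g : Matrix (Fin d ⊕ Fin d) (Fin d ⊕ Fin d) F) * a *
            ((g⁻¹ : GL (Fin d ⊕ Fin d) F) : Matrix (Fin d ⊕ Fin d) (Fin d ⊕ Fin d) F) := ⟨_, rfl⟩
        have h0 := hA a ha
        rw [← hAdef] at h0
        obtain ⟨e, he⟩ : ∃ e : Fin d ⊕ Fin d → F, e = Pi.single (Sum.inl i₀) 1 := ⟨_, rfl⟩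
        have hs0 : s i₀ = -1 := by rw [hs]; exact if_pos rfl
        have hxe : (x : Matrix (Fin d ⊕ Fin d) (Fin d ⊕ Fin d) F) *ᵥ e = (-1 : F) • e := funext fun t => by
          rw [hxapp, Pi.smul_apply, smul_eq_mul]
          by_cases ht : t = Sum.inl i₀
          · rw [ht, Sum.elim_inl, hs0]
          · rw [he, Pi.single_eq_of_ne ht, mul_zero, mul_zero]
        have hxAe : ∀ t, Sum.elim s s t * (A *ᵥ e) t = -(A *ᵥ e) t := fun t => by
          rw [← hxapp, Matrix.mulVec_mulVec, ← h0, ← Matrix.mulVec_mulVec, hxe, Matrix.mulVec_smul, Pi.smul_apply,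
            neg_one_smul]
        have hzero : ∀ i : Fin d, i ≠ i₀ → (A *ᵥ e) (Sum.inl i) = 0 ∧ (A *ᵥ e) (Sum.inr i) = 0 := by
          intro i hi
          have hsi : s i = 1 := by rw [hs, if_neg (fun h => hi (Fin.ext h))]
          have e1 := hxAe (Sum.inl i)
          have e2 := hxAe (Sum.inr i)
          rw [Sum.elim_inl, hsi, one_mul] at e1
          rw [Sum.elim_inr, hsi, one_mul] at e2
          exact ⟨(mul_eq_zero.mp (show (2 : F) * _ = 0 by linear_combination e1)).resolve_left h2,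
            (mul_eq_zero.mp (show (2 : F) * _ = 0 by linear_combination e2)).resolve_left h2⟩
        have hAe : sympForm d F (A *ᵥ e) e = 0 := by
          have hgi : (g : Matrix (Fin d ⊕ Fin d) (Fin d ⊕ Fin d) F) *ᵥ
              (((g⁻¹ : GL (Fin d ⊕ Fin d) F) : Matrix (Fin d ⊕ Fin d) (Fin d ⊕ Fin d) F) *ᵥ e) = e := by
            rw [Matrix.mulVec_mulVec, Units.mul_inv, Matrix.one_mulVec]
          have hpg : ∀ u v, sympForm d F ((g : Matrix (Fin d ⊕ Fin d) (Fin d ⊕ Fin d) F) *ᵥ u)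
              ((g : Matrix (Fin d ⊕ Fin d) (Fin d ⊕ Fin d) F) *ᵥ v) = sympForm d F u v := hg
          rw [hAdef, ← Matrix.mulVec_mulVec, ← Matrix.mulVec_mulVec]
          conv_lhs => arg 4; rw [← hgi]
          rw [hpg]
          exact hKalt a ha _
        have hr0 : (A *ᵥ e) (Sum.inr i₀) = 0 := by
          rw [Lead.Symp.form_eq, Finset.sum_eq_single i₀ (fun i _ hi => by
            rw [he, Pi.single_eq_of_ne (by simp [hi]), Pi.single_eq_of_ne (by simp), mul_zero, mul_zero, sub_zero])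
            (fun h => absurd (Finset.mem_univ _) h), he, Pi.single_eq_same, Pi.single_eq_of_ne (by simp), mul_one,
            mul_zero, sub_zero] at hAe
          rwa [he]
        refine hac ((A *ᵥ e) (Sum.inl i₀)) (heig a ha _
          (((g⁻¹ : GL (Fin d ⊕ Fin d) F) : Matrix (Fin d ⊕ Fin d) (Fin d ⊕ Fin d) F) *ᵥ e) (fun h => ?_) ?_)
        · have : e = 0 := by rw [← Matrix.one_mulVec e, ← Units.mul_inv g, ← Matrix.mulVec_mulVec, h, Matrix.mulVec_zero]
          simpa [he] using congrFun this (Sum.inl i₀)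
        · have hAe' : A *ᵥ e = (A *ᵥ e) (Sum.inl i₀) • e := funext fun t => by
            rw [Pi.smul_apply, smul_eq_mul]
            rcases t with i | i <;> by_cases hi : i = i₀
            · rw [hi, he, Pi.single_eq_same, mul_one]
            · rw [(hzero i hi).1, he, Pi.single_eq_of_ne (by simp [hi]), mul_zero]
            · rw [hi, hr0, he, Pi.single_eq_of_ne (by simp), mul_zero]
            · rw [(hzero i hi).2, he, Pi.single_eq_of_ne (by simp), mul_zero]
          rw [← Matrix.mulVec_smul, ← hAe', hAdef, Matrix.mulVec_mulVec, Matrix.mulVec_mulVec]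
          simp only [← mul_assoc, Units.inv_mul, one_mul]
    -- odd order different from the characteristic
    have hr0 : (r : F) ≠ 0 := Elusive.cast_ne_zero (F := F) hrp
    obtain ⟨j, hj1, hjd, hkj, hrj⟩ := hrj.resolve_left hrdvd
    set e := orderOf (Fintype.card F : ZMod r) with he
    have hepos : 0 < e := Elusive.orderOf_pos' (F := F) hrp
    have hej : e ∣ 2 * j := (Elusive.orderOf_dvd_iff' (F := F) _).mp hrj
    have hsub : e ∣ r - 1 := by
      refine ZMod.orderOf_dvd_card_sub_one fun h0 => ?_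
      rw [he, h0, orderOf_zero] at hepos
      exact lt_irrefl _ hepos
    obtain ⟨n, hn, hnj, hnr, M, _, _, _, B, g₀, hfree, halt, hM, hfix⟩ :
        ∃ n, 0 < n ∧ n ∣ j ∧ 2 * n ≤ r - 1 ∧ ∃ (M : Type _) (_ : AddCommGroup M) (_ : Module F M)
          (_ : FiniteDimensional F M) (B : LinearMap.BilinForm F M) (g₀ : Module.End F M),
          Elusive.Free.IsFree B g₀ r ∧ SpCount.IsAltND B ∧ Module.finrank F M = 2 * n ∧
          ∀ D : Module.End F M, (∀ u, D (g₀ u) = g₀ (D u)) → (∀ u v, B (D u) v = B u (D v)) →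
            ∃ v, v ≠ 0 ∧ (D ^ (Fintype.card F ^ n)) v = D v := by
      by_cases hev : Even e
      · obtain ⟨h, hh⟩ := hev
        obtain ⟨M, _, _, _, B, g₀, hfree, halt, hM, -⟩ :=
          Elusive.Free.exists_spread (F := F) hr hr2 hr0 ⟨h, hh⟩ 1
        rw [mul_one, ← he] at hM
        exact ⟨h, by omega, Nat.dvd_of_mul_dvd_mul_left two_pos (by rw [two_mul h, ← hh]; exact hej),
          by rw [two_mul h, ← hh]; exact Nat.le_of_dvd (by have := hr.two_le; omega) hsub,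
          M, ‹_›, ‹_›, ‹_›, B, g₀, hfree, halt, by rw [hM, hh]; ring,
          fun D h1 h3 => SelfAdjointField.frob_fixed_even (Elusive.TsSymp.refl_of_alt halt) hfree
            (hM.trans (by rw [he])) (by rw [← he, hh]; ring) D h1 h3⟩
      · have hodd := Nat.not_even_iff_odd.mp hev
        obtain ⟨M, _, _, _, B, g₀, hfree, halt, hM⟩ := Elusive.Free.exists_paired (F := F) hr hr2 hr0 1
        rw [mul_one, ← he] at hM
        refine ⟨e, hepos, (Nat.Coprime.dvd_mul_left (Nat.coprime_two_right.mpr hodd)).mp hej, ?_,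
          M, ‹_›, ‹_›, ‹_›, B, g₀, hfree, halt, hM,
          fun D h1 h3 => SelfAdjointField.frob_fixed_odd halt hfree (hM.trans (by rw [he])) hodd D h1 h3⟩
        obtain ⟨w, hw⟩ := hsub
        obtain ⟨kr, hkr⟩ := hr.odd_of_ne_two hr2
        have hwe : Even w := by
          have : Even (e * w) := ⟨kr, by omega⟩
          exact (Nat.even_mul.mp this).resolve_left hev
        have hw2 : 2 ≤ w := by
          rcases hwe with ⟨w', rfl⟩
          have : w' ≠ 0 := fun h0 => by rw [h0, add_zero, mul_zero] at hw; have := hr.two_le; omega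
          omega
        rw [hw]
        rw [mul_comm e w]
        exact Nat.mul_le_mul_right e hw2
    have hkn : ¬ k ∣ n := fun h => hkj (h.trans hnj)
    have hnd : n ≤ d := (Nat.le_of_dvd hj1 hnj).trans hjd
    obtain ⟨x, ι, hx, hxr, hxs, ⟨W, hW, hWx⟩, hι, hιf, hιA⟩ :=
      SelfAdjointField.exists_extend (d := d) halt hfree hM (show n + (d - n) = d by omega) hn
    refine ⟨x, hx, Units.ext (by rw [Units.val_pow_eq_pow_val, hxr, Units.val_one]), hxs, ?_, fun g hg hA => ?_⟩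
    · rcases eq_or_ne r k with hrk | hrk
      · exact Or.inr ⟨W, by rw [hW]; omega, hWx⟩
      · exact Or.inl hrk
    have hroot : ∀ a ∈ K, a ^ (Fintype.card F ^ n) = a := by
      intro a ha
      obtain ⟨A, hAdef⟩ : ∃ A, A = (g : Matrix (Fin d ⊕ Fin d) (Fin d ⊕ Fin d) F) * a *
          ((g⁻¹ : GL (Fin d ⊕ Fin d) F) : Matrix (Fin d ⊕ Fin d) (Fin d ⊕ Fin d) F) := ⟨_, rfl⟩
      obtain ⟨D, hD, hDι⟩ := hιA A (by rw [hAdef]; exact hA a ha)
      have hpg : ∀ u v, sympForm d F ((g : Matrix (Fin d ⊕ Fin d) (Fin d ⊕ Fin d) F) *ᵥ u)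
          ((g : Matrix (Fin d ⊕ Fin d) (Fin d ⊕ Fin d) F) *ᵥ v) = sympForm d F u v := hg
      have hgi : ∀ w, (g : Matrix (Fin d ⊕ Fin d) (Fin d ⊕ Fin d) F) *ᵥ
          (((g⁻¹ : GL (Fin d ⊕ Fin d) F) : Matrix (Fin d ⊕ Fin d) (Fin d ⊕ Fin d) F) *ᵥ w) = w := fun w => by
        rw [Matrix.mulVec_mulVec, Units.mul_inv, Matrix.one_mulVec]
      have hAadj : ∀ u v, sympForm d F (A *ᵥ u) v = sympForm d F u (A *ᵥ v) := fun u v => by
        rw [hAdef]
        simp only [← Matrix.mulVec_mulVec]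
        conv_lhs => arg 4; rw [← hgi v]
        conv_rhs => arg 3; rw [← hgi u]
        rw [hpg, hpg, hKf a ha]
      obtain ⟨v, hv, hDv⟩ := hfix D hD fun u v => by rw [← hιf, ← hιf, ← hDι, ← hDι, hAadj]
      have hpowι : ∀ (N : ℕ) u, (A ^ N) *ᵥ ι u = ι ((D ^ N) u) := by
        intro N
        induction N with
        | zero => intro u; simp
        | succ N ih =>
          intro u
          rw [pow_succ', ← Matrix.mulVec_mulVec, ih, hDι, pow_succ', Module.End.mul_apply]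
      have hAv : (A ^ (Fintype.card F ^ n)) *ᵥ ι v = A *ᵥ ι v := by rw [hpowι, hDv, hDι]
      by_contra hne
      obtain ⟨b, -, hb⟩ := hK.inv _ (K.sub_mem (K.pow_mem ha _) ha) (sub_ne_zero.mpr hne)
      have hconj : ∀ N : ℕ, A ^ N = (g : Matrix (Fin d ⊕ Fin d) (Fin d ⊕ Fin d) F) * a ^ N *
          ((g⁻¹ : GL (Fin d ⊕ Fin d) F) : Matrix (Fin d ⊕ Fin d) (Fin d ⊕ Fin d) F) := fun N => by
        rw [hAdef, Units.conj_pow]
      rw [hconj, hAdef, ← Matrix.mulVec_mulVec, ← Matrix.mulVec_mulVec, ← Matrix.mulVec_mulVec,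
        ← Matrix.mulVec_mulVec] at hAv
      obtain ⟨u, hu⟩ : ∃ u, u = ((g⁻¹ : GL (Fin d ⊕ Fin d) F) : Matrix (Fin d ⊕ Fin d) (Fin d ⊕ Fin d) F) *ᵥ ι v :=
        ⟨_, rfl⟩
      rw [← hu] at hAv
      have h' : (a ^ (Fintype.card F ^ n)) *ᵥ u = a *ᵥ u := by
        have := congrArg (fun w => ((g⁻¹ : GL (Fin d ⊕ Fin d) F) : Matrix (Fin d ⊕ Fin d) (Fin d ⊕ Fin d) F) *ᵥ w) hAv
        simpa [Matrix.mulVec_mulVec, ← mul_assoc] using this
      have hu0 : u = 0 := by
        rw [← Matrix.one_mulVec u, ← mul_eq_one_comm.mp hb, ← Matrix.mulVec_mulVec, Matrix.sub_mulVec, h', sub_self,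
          Matrix.mulVec_zero]
      apply hv
      apply hι
      rw [map_zero, ← hgi (ι v), ← hu, hu0, Matrix.mulVec_zero]
    haveI : Finite K := Finite.of_injective _ Subtype.val_injective
    letI : CommRing K := { K.toRing with mul_comm := fun a b => Subtype.ext (hK.comm a a.2 b b.2) }
    haveI : Nontrivial K := ⟨⟨0, 1, fun e => zero_ne_one (congrArg Subtype.val e)⟩⟩
    haveI : NoZeroDivisors K := ⟨fun {a b} hab =>
      (fieldSubalgebra_mul_eq_zero hK a.2 (congrArg Subtype.val hab)).imp (fun h => Subtype.ext h)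
        fun h => Subtype.ext h⟩
    haveI : IsDomain K := NoZeroDivisors.to_isDomain _
    letI : Field K := (Finite.isDomain_to_isField K).toField
    letI : Fintype K := Fintype.ofFinite K
    have hcK : Fintype.card K = Fintype.card F ^ k := by rw [Module.card_eq_pow_finrank (K := F), hK.finrank_eq]
    set m := n % k with hm
    have hm0 : 0 < m := Nat.pos_of_ne_zero fun h => hkn (Nat.dvd_of_mod_eq_zero h)
    have hroot' : ∀ a : K, a ^ (Fintype.card F ^ m) = a := fun a => by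
      have h1 : a ^ (Fintype.card F ^ n) = a := Subtype.ext (by rw [SubmonoidClass.coe_pow]; exact hroot a a.2)
      rw [show n = k * (n / k) + m from (Nat.div_add_mod n k).symm, pow_add, pow_mul, pow_mul, ← hcK,
        FiniteField.pow_card_pow] at h1
      exact h1
    have hq1 : 1 < Fintype.card F ^ m := Nat.one_lt_pow hm0.ne' Fintype.one_lt_card
    have hle := Polynomial.card_le_degree_of_subset_roots (p := (Polynomial.X ^ (Fintype.card F ^ m) - Polynomial.X : Polynomial K))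
      (Z := Finset.univ) (fun a _ => by
        rw [Polynomial.mem_roots (FiniteField.X_pow_card_sub_X_ne_zero K hq1), Polynomial.IsRoot]
        simp [hroot' a])
    rw [FiniteField.X_pow_card_sub_X_natDegree_eq K hq1, Finset.card_univ, hcK] at hle
    have := Nat.pow_lt_pow_right (Fintype.one_lt_card (α := F)) (Nat.mod_lt n hk.pos)
    rw [hm] at hle
    omega
  · rintro ⟨rfl, rfl, rfl, hqodd⟩ x hx ⟨z, hz⟩ hns
    have h2 := two_ne hqodd
    obtain ⟨a, ha, hac⟩ := hnon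
    have hind : ∀ c e : F, c • (1 : Matrix (Fin 2 ⊕ Fin 2) (Fin 2 ⊕ Fin 2) F) + e • a = 0 → c = 0 ∧ e = 0 := by
      intro c e h
      by_cases he : e = 0
      · subst he
        rw [zero_smul, add_zero, smul_eq_zero] at h
        exact ⟨h.resolve_right one_ne_zero, rfl⟩
      exfalso
      refine hac (-(e⁻¹ * c)) ?_
      rw [neg_smul, mul_smul, ← smul_neg, ← eq_neg_of_add_eq_zero_right h, smul_smul, inv_mul_cancel₀ he, one_smul]
    have hspan : ∀ k ∈ K, ∃ c e : F, k = c • (1 : Matrix (Fin 2 ⊕ Fin 2) (Fin 2 ⊕ Fin 2) F) + e • a := by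
      intro k hk'
      have hli : LinearIndependent F ![(1 : K), ⟨a, ha⟩] := by
        rw [LinearIndependent.pair_iff]
        intro c e h
        exact hind c e (congrArg Subtype.val h)
      have hsp := hli.span_eq_top_of_card_eq_finrank (by rw [Fintype.card_fin, hK.finrank_eq])
      have hmem : (⟨k, hk'⟩ : K) ∈ Submodule.span F (Set.range ![(1 : K), ⟨a, ha⟩]) := hsp ▸ Submodule.mem_top
      rw [Matrix.range_cons, Matrix.range_cons, Matrix.range_empty, Set.union_empty, ← Set.insert_eq,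
        Submodule.mem_span_pair] at hmem
      obtain ⟨c, e, h⟩ := hmem
      exact ⟨c, e, (congrArg Subtype.val h).symm⟩
    obtain ⟨c, e, hsqa⟩ := hspan _ (K.mul_mem ha ha)
    obtain ⟨δ, hδ⟩ : ∃ δ, δ = a - (e / 2) • (1 : Matrix (Fin 2 ⊕ Fin 2) (Fin 2 ⊕ Fin 2) F) := ⟨_, rfl⟩
    have hδK : δ ∈ K := hδ ▸ K.sub_mem ha (K.smul_mem K.one_mem _)
    have hδsq : δ * δ = (c + e / 2 * (e / 2)) • (1 : Matrix (Fin 2 ⊕ Fin 2) (Fin 2 ⊕ Fin 2) F) := by
      rw [hδ, sub_mul, mul_sub, mul_sub, hsqa, Matrix.mul_smul, Matrix.smul_mul, mul_one, one_mul, Matrix.smul_mul,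
        one_mul]
      match_scalars <;> field_simp <;> ring
    have hν : ¬ IsSquare (c + e / 2 * (e / 2)) := by
      rintro ⟨w, hw⟩
      rw [hw] at hδsq
      have e1 : (δ - w • (1 : Matrix (Fin 2 ⊕ Fin 2) (Fin 2 ⊕ Fin 2) F)) *
          (δ + w • (1 : Matrix (Fin 2 ⊕ Fin 2) (Fin 2 ⊕ Fin 2) F)) = 0 := by
        rw [mul_add, sub_mul, sub_mul, hδsq, Matrix.mul_smul, mul_one, Matrix.smul_mul, one_mul, Matrix.smul_mul,
          one_mul, smul_smul]
        abel
      rcases fieldSubalgebra_mul_eq_zero hK (K.sub_mem hδK (K.smul_mem K.one_mem w)) e1 with h | h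
      · exact hac (e / 2 + w) (by rw [add_smul, ← sub_eq_zero, ← h, hδ]; abel)
      · exact hac (e / 2 - w) (by rw [sub_smul, ← sub_eq_zero, ← h, hδ]; abel)
    have hspan' : ∀ k ∈ K, ∃ c' e' : F, k = c' • (1 : Matrix (Fin 2 ⊕ Fin 2) (Fin 2 ⊕ Fin 2) F) + e' • δ := by
      intro k hk'
      obtain ⟨c', e', h⟩ := hspan k hk'
      exact ⟨c' + e' * (e / 2), e', by rw [h, hδ]; match_scalars <;> ring⟩
    obtain ⟨g, hg, σ, hσ, hY⟩ := fix_all_pairs hν hδsq (fun u v => hKf δ hδK u v) (fun u => hKalt δ hδK u) h2 hx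
      (by rw [← pow_two, ← Units.val_pow_eq_pow_val]; exact hz) hns
    exact ⟨g, hg, sign_mem_normalizer hδK hspan' hσ hY⟩

end Cfsg.Agent.S5975
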