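import Cfsg.Statements.S5976
import Cfsg.Agent.Lib.Classical.Elusive.SkewObstruction
import Cfsg.Agent.Lib.Classical.Elusive.SkewUnitary
import Cfsg.Agent.Lib.Classical.Elusive.Cases
import Cfsg.Agent.Lib.Classical.FieldSubalgebra
-- import your own Cfsg.Agent.* helpers here

set_option autoImplicit false
open scoped MatrixGroups
open Cfsg

namespace Cfsg.Agent.S5976

open Matrix Cfsg Cfsg.Agent.Classical

theorem eq_conj {n : Type*} [Fintype n] [DecidableEq n] {F : Type*} [CommRing F] {G : GL n F} {M N : Matrix n n F}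
    (h : M * (G : Matrix n n F) = (G : Matrix n n F) * N) :
    ((G⁻¹ : GL n F) : Matrix n n F) * M * (G : Matrix n n F) = N ∧
      (G : Matrix n n F) * N * ((G⁻¹ : GL n F) : Matrix n n F) = M :=
  ⟨by rw [mul_assoc, h, ← mul_assoc, Units.inv_mul, one_mul], by rw [← h, mul_assoc, Units.mul_inv, mul_one]⟩

theorem sign_mem_normalizer {ι : Type} [Fintype ι] [DecidableEq ι] {F : Type*} [Field F]
    {K : Subalgebra F (Matrix ι ι F)} {δ : Matrix ι ι F} (hδ : δ ∈ K)
    (hspan : ∀ k ∈ K, ∃ a b : F, k = a • (1 : Matrix ι ι F) + b • δ) {Y : GL ι F} {σ : F} (hσ : σ * σ = 1)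
    (hY : (Y : Matrix ι ι F) * δ = σ • (δ * (Y : Matrix ι ι F))) : Y ∈ Cfsg.Geo.subalgebraNormalizer K := by
  have hf : (Y : Matrix ι ι F) * δ * ((Y⁻¹ : GL ι F) : Matrix ι ι F) = σ • δ := by
    rw [hY, Matrix.smul_mul, mul_assoc, Units.mul_inv, mul_one]
  have hb : ((Y⁻¹ : GL ι F) : Matrix ι ι F) * δ * (Y : Matrix ι ι F) = σ • δ := by
    have e : δ * (Y : Matrix ι ι F) = σ • ((Y : Matrix ι ι F) * δ) := by rw [hY, smul_smul, hσ, one_smul]
    rw [mul_assoc, e, Matrix.mul_smul, ← mul_assoc, Units.inv_mul, one_mul]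
  intro k
  constructor
  · intro hk
    obtain ⟨a, b, rfl⟩ := hspan k hk
    simp only [mul_add, add_mul, Matrix.mul_smul, Matrix.smul_mul, mul_one, Units.mul_inv, hf]
    exact K.add_mem (K.smul_mem K.one_mem a) (K.smul_mem (K.smul_mem hδ σ) b)
  · intro hk
    obtain ⟨a, b, hab⟩ := hspan _ hk
    have e : k = ((Y⁻¹ : GL ι F) : Matrix ι ι F) * ((Y : Matrix ι ι F) * k * ((Y⁻¹ : GL ι F) : Matrix ι ι F)) *
        (Y : Matrix ι ι F) := by
      rw [← mul_assoc, ← mul_assoc, Units.inv_mul, one_mul, mul_assoc, Units.inv_mul, mul_one]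
    rw [e, hab]
    simp only [mul_add, add_mul, Matrix.mul_smul, Matrix.smul_mul, mul_one, Units.inv_mul, hb]
    exact K.add_mem (K.smul_mem K.one_mem a) (K.smul_mem (K.smul_mem hδ σ) b)

theorem exists_tau {F : Type*} [Field F] [Fintype F] {d : ℕ} (h2 : (2 : F) ≠ 0) {ν : F} (hν : ν ≠ 0) :
    ∃ τ : Matrix (Fin d ⊕ Fin d) (Fin d ⊕ Fin d) F, τ * τ = (-1 : F) • 1 ∧
      (∀ u v, sympForm d F (τ *ᵥ u) v = -sympForm d F u (τ *ᵥ v)) ∧
      τ * SkewBlocks.S d ν = (-1 : F) • (SkewBlocks.S d ν * τ) := by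
  obtain ⟨a, c, hac⟩ := SkewBlocks.exists_norm hν h2 (-1)
  refine ⟨Matrix.fromBlocks (a • 1) ((-(ν * c)) • 1) (c • 1) ((-a) • 1), ?_, fun u v => ?_, ?_⟩
  · rw [Matrix.fromBlocks_multiply, ← Matrix.fromBlocks_one, Matrix.fromBlocks_smul, Matrix.fromBlocks_inj]
    simp only [Matrix.smul_mul, Matrix.mul_smul, mul_one, smul_smul, ← add_smul, smul_zero]
    refine ⟨?_, ?_, ?_, ?_⟩
    · rw [show a * a + c * -(ν * c) = -1 by linear_combination hac]
    · rw [show -(ν * c) * a + -a * -(ν * c) = 0 by ring, zero_smul]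
    · rw [show a * c + c * -a = 0 by ring, zero_smul]
    · rw [show -(ν * c) * c + -a * -a = -1 by linear_combination hac]
  · rw [Lead.Symp.form_eq, Lead.Symp.form_eq, ← Finset.sum_neg_distrib]
    refine Finset.sum_congr rfl fun i _ => ?_
    simp only [Matrix.fromBlocks_mulVec, Sum.elim_inl, Sum.elim_inr, Matrix.smul_mulVec, Matrix.one_mulVec,
      Pi.add_apply, Pi.smul_apply, Function.comp_apply, smul_eq_mul]
    ring
  · rw [SkewBlocks.S, Matrix.fromBlocks_multiply, Matrix.fromBlocks_multiply, Matrix.fromBlocks_smul,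
      Matrix.fromBlocks_inj]
    simp only [Matrix.smul_mul, Matrix.mul_smul, mul_one, smul_smul, smul_add, zero_add, add_zero, Matrix.mul_zero,
      Matrix.zero_mul, smul_zero]
    refine ⟨?_, ?_, ?_, ?_⟩ <;> congr 1 <;> ring

/-- Elements of prime order of PSp_n(q), q odd, and the subgroups of type GU_{n/2}(q). Here `T = PSp_{2d}(F)` for a field `F` with `q` elements, `q` odd, `d ≥ 2`, realised through the matrices preserving the standard alternating form `f`; `K` is a subalgebra of the `2d × 2d` matrices that is a field of degree 2 over `F`, closed under taking adjoints for `f` but not consisting of self-adjoint elements (so `F^{2d}` becomes a `d`-dimensional space over `K ≅ F_{q²}` on which `f` is the trace of a multiple of a non-degenerate hermitian form); `H` is the subgroup of `T` normalizing `K` — the symplectic maps that are `K`-linear or `K`-semilinear, a subgroup of type GU_d(q) (maximality is not assumed). Ω is the set of cosets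 of `H` in `T`, so an element of `T` of prime order `r` (`x ∈ T` with `x^r` scalar, `x` not scalar) fixes a point of Ω exactly when some `T`-conjugate of `x` normalizes `K`. Let `r` be a prime dividing the index of `H`. Then every element of `T` of order `r` fixes a point of Ω if and only if `r = 2`. -/
theorem result {F : Type*} [Field F] [Fintype F] {p : ℕ} [Fact p.Prime] [CharP F p] {q : ℕ} (hq : Fintype.card F = q)
    (hodd : Odd q) (d : ℕ) (hd : 2 ≤ d)
    (K : Subalgebra F (Matrix (Fin d ⊕ Fin d) (Fin d ⊕ Fin d) F)) (hK : Cfsg.Geo.IsFieldSubalgebra 2 K)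
    (hKf : Cfsg.Geo.IsAdjointClosedFor (Cfsg.sympForm d F) K) (hKns : ¬ Cfsg.Geo.IsSelfAdjointFor (Cfsg.sympForm d F) K)
    (r : ℕ) [Fact r.Prime]
    (hΩ : r ∣ (Cfsg.Geo.subalgebraNormalizer K).relIndex (Cfsg.spGL d F)) :
    (∀ x ∈ Cfsg.spGL d F, (∃ z : F, ((x ^ r : GL (Fin d ⊕ Fin d) F) : Matrix (Fin d ⊕ Fin d) (Fin d ⊕ Fin d) F) = z • (1 : Matrix (Fin d ⊕ Fin d) (Fin d ⊕ Fin d) F)) →
      (∀ z : F, (x : Matrix (Fin d ⊕ Fin d) (Fin d ⊕ Fin d) F) ≠ z • (1 : Matrix (Fin d ⊕ Fin d) (Fin d ⊕ Fin d) F)) →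
      ∃ g ∈ Cfsg.spGL d F, g⁻¹ * x * g ∈ Cfsg.Geo.subalgebraNormalizer K) ↔ r = 2 := by
  classical
  have hFq : Fintype.card F = q := hq
  subst hq
  obtain ⟨k₀, hk₀⟩ := hodd
  have hF2 : ringChar F ≠ 2 := fun h => by
    have := FiniteField.even_card_iff_char_two.mp h
    omega
  have h2 : (2 : F) ≠ 0 := Ring.two_ne_zero hF2
  -- a skew element of the field
  obtain ⟨a₀, ha₀, hne⟩ : ∃ a ∈ K, ∃ u v, sympForm d F (a *ᵥ u) v ≠ sympForm d F u (a *ᵥ v) := by
    by_contra hc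
    push Not at hc
    exact hKns hc
  obtain ⟨u₀, v₀, hne⟩ := hne
  obtain ⟨a₁, ha₁, hadj⟩ := hKf a₀ ha₀
  obtain ⟨δ, hδdef⟩ : ∃ δ, δ = a₀ - a₁ := ⟨_, rfl⟩
  have hδK : δ ∈ K := hδdef ▸ K.sub_mem ha₀ ha₁
  have hskew : ∀ u v, sympForm d F (δ *ᵥ u) v = -sympForm d F u (δ *ᵥ v) := fun u v => by
    have e : sympForm d F (a₁ *ᵥ u) v = sympForm d F u (a₀ *ᵥ v) := by
      rw [Lead.Symp.form_swap v, ← hadj, Lead.Symp.form_swap u (a₀ *ᵥ v), neg_neg]
    rw [← Elusive.sympB_apply, ← Elusive.sympB_apply, hδdef, Matrix.sub_mulVec, Matrix.sub_mulVec, map_sub, map_sub,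
      LinearMap.sub_apply, Elusive.sympB_apply, Elusive.sympB_apply, Elusive.sympB_apply, Elusive.sympB_apply, e, hadj]
    ring
  haveI : Nonempty (Fin d ⊕ Fin d) := ⟨Sum.inl ⟨0, by omega⟩⟩
  have hδ0 : δ ≠ 0 := fun h => hne (by
    rw [hadj, show a₁ = a₀ from (sub_eq_zero.mp (hδdef.symm.trans h)).symm])
  have hind : ∀ a b : F, a • (1 : Matrix (Fin d ⊕ Fin d) (Fin d ⊕ Fin d) F) + b • δ = 0 → a = 0 ∧ b = 0 := by
    intro a b hab
    by_cases hb : b = 0
    · subst hb
      rw [zero_smul, add_zero, smul_eq_zero] at hab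
      exact ⟨hab.resolve_right one_ne_zero, rfl⟩
    exfalso
    have e : δ = (-(b⁻¹ * a)) • (1 : Matrix (Fin d ⊕ Fin d) (Fin d ⊕ Fin d) F) := by
      rw [neg_smul, mul_smul, ← smul_neg, ← eq_neg_of_add_eq_zero_right hab, smul_smul, inv_mul_cancel₀ hb, one_smul]
    obtain ⟨w, hw⟩ := exists_ne (0 : Fin d ⊕ Fin d → F)
    obtain ⟨w', hw'⟩ := Lead.Symp.exists_form_ne hw
    have h := hskew w w'
    rw [e, Matrix.smul_mulVec, Matrix.smul_mulVec, Matrix.one_mulVec, Matrix.one_mulVec, ← Elusive.sympB_apply,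
      ← Elusive.sympB_apply, map_smul, LinearMap.smul_apply, map_smul, smul_eq_mul, Elusive.sympB_apply] at h
    have hc : -(b⁻¹ * a) = 0 := by
      have : 2 * (-(b⁻¹ * a)) * sympForm d F w w' = 0 := by linear_combination h
      exact (mul_eq_zero.mp ((mul_eq_zero.mp this).resolve_right hw')).resolve_left h2
    exact hδ0 (by rw [e, hc, zero_smul])
  have hspan : ∀ k ∈ K, ∃ a b : F, k = a • (1 : Matrix (Fin d ⊕ Fin d) (Fin d ⊕ Fin d) F) + b • δ := by
    intro k hk
    have hli : LinearIndependent F ![(1 : K), ⟨δ, hδK⟩] := by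
      rw [LinearIndependent.pair_iff]
      intro a b hab
      exact hind a b (congrArg Subtype.val hab)
    have hsp := hli.span_eq_top_of_card_eq_finrank (by rw [Fintype.card_fin, hK.finrank_eq])
    have hmem : (⟨k, hk⟩ : K) ∈ Submodule.span F (Set.range ![(1 : K), ⟨δ, hδK⟩]) := hsp ▸ Submodule.mem_top
    rw [Matrix.range_cons, Matrix.range_cons, Matrix.range_empty, Set.union_empty, ← Set.insert_eq,
      Submodule.mem_span_pair] at hmem
    obtain ⟨a, b, hab⟩ := hmem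
    exact ⟨a, b, (congrArg Subtype.val hab).symm⟩
  obtain ⟨ν, hsq⟩ : ∃ ν : F, δ * δ = ν • (1 : Matrix (Fin d ⊕ Fin d) (Fin d ⊕ Fin d) F) := by
    obtain ⟨a, b, hab⟩ := hspan _ (K.mul_mem hδK hδK)
    refine ⟨a, ?_⟩
    obtain ⟨w, w', hw⟩ : ∃ w w', sympForm d F (δ *ᵥ w) w' ≠ 0 := by
      by_contra hc
      push Not at hc
      refine hδ0 (Matrix.ext_of_mulVec_single fun s => ?_)
      rw [Matrix.zero_mulVec]
      by_contra hne'
      obtain ⟨z, hz⟩ := Lead.Symp.exists_form_ne hne'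
      exact hz (hc _ z)
    have h : sympForm d F ((δ * δ) *ᵥ w) w' = sympForm d F w ((δ * δ) *ᵥ w') := by
      rw [← Matrix.mulVec_mulVec, ← Matrix.mulVec_mulVec, hskew, hskew, neg_neg]
    rw [hab, Matrix.add_mulVec, Matrix.smul_mulVec, Matrix.smul_mulVec, Matrix.one_mulVec, Matrix.add_mulVec,
      Matrix.smul_mulVec, Matrix.smul_mulVec, Matrix.one_mulVec, ← Elusive.sympB_apply, ← Elusive.sympB_apply,
      map_add, map_add, LinearMap.add_apply] at h
    simp only [map_smul, LinearMap.smul_apply, smul_eq_mul, Elusive.sympB_apply] at h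
    have hb : b = 0 := by
      have e := hskew w w'
      have : 2 * b * sympForm d F (δ *ᵥ w) w' = 0 := by linear_combination h + b * e
      exact (mul_eq_zero.mp ((mul_eq_zero.mp this).resolve_right hw)).resolve_left h2
    rw [hab, hb, zero_smul, add_zero]
  have hνsq : ¬ IsSquare ν := by
    rintro ⟨s, rfl⟩
    have e1 : (δ - s • (1 : Matrix (Fin d ⊕ Fin d) (Fin d ⊕ Fin d) F)) *
        (δ + s • (1 : Matrix (Fin d ⊕ Fin d) (Fin d ⊕ Fin d) F)) = 0 := by
      rw [mul_add, sub_mul, sub_mul, hsq, Matrix.mul_smul, mul_one, Matrix.smul_mul, one_mul, Matrix.smul_mul,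
        one_mul, smul_smul]
      abel
    rcases fieldSubalgebra_mul_eq_zero hK (K.sub_mem hδK (K.smul_mem K.one_mem s)) e1 with h | h
    · exact absurd (hind (-s) 1 (by rw [one_smul, neg_smul, ← h]; abel)).2 one_ne_zero
    · exact absurd (hind s 1 (by rw [one_smul, ← h]; abel)).2 one_ne_zero
  have hν0 : ν ≠ 0 := fun h => hνsq (h ▸ IsSquare.zero)
  obtain ⟨Q, hQ, eQ⟩ := SkewBlocks.exists_skew_normal hν0 h2 hsq hskew
  have hr : r.Prime := Fact.out
  constructor
  · intro hall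
    by_contra hr2
    obtain ⟨kr, hkr⟩ := hr.odd_of_ne_two hr2
    -- an element without fixed point
    suffices hno : ∃ x : GL (Fin d ⊕ Fin d) F, x ∈ Cfsg.spGL d F ∧
        (x : Matrix (Fin d ⊕ Fin d) (Fin d ⊕ Fin d) F) ^ r = 1 ∧
        (∀ z : F, (x : Matrix (Fin d ⊕ Fin d) (Fin d ⊕ Fin d) F) ≠ z • 1) ∧
        ∀ A : Matrix (Fin d ⊕ Fin d) (Fin d ⊕ Fin d) F, A * x = x * A →
          (∀ u v, sympForm d F (A *ᵥ u) v = -sympForm d F u (A *ᵥ v)) → A * A = ν • 1 → False by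
      obtain ⟨x, hx, hxr, hxs, hxA⟩ := hno
      obtain ⟨g, hg, hY⟩ := hall x hx ⟨1, by rw [Units.val_pow_eq_pow_val, hxr, one_smul]⟩ hxs
      obtain ⟨Y, hYdef⟩ : ∃ Y, Y = g⁻¹ * x * g := ⟨_, rfl⟩
      rw [← hYdef] at hY
      obtain ⟨a, b, hab⟩ := hspan _ ((hY δ).mp hδK)
      have e1 : (Y : Matrix (Fin d ⊕ Fin d) (Fin d ⊕ Fin d) F) * δ * ((Y⁻¹ : GL (Fin d ⊕ Fin d) F) : Matrix (Fin d ⊕ Fin d) (Fin d ⊕ Fin d) F) *
          ((Y : Matrix (Fin d ⊕ Fin d) (Fin d ⊕ Fin d) F) * δ * ((Y⁻¹ : GL (Fin d ⊕ Fin d) F) : Matrix (Fin d ⊕ Fin d) (Fin d ⊕ Fin d) F)) = ν • 1 := by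
        simp only [mul_assoc, Units.inv_mul_cancel_left]
        rw [← mul_assoc δ, hsq, Matrix.smul_mul, one_mul, Matrix.mul_smul, Units.mul_inv]
      rw [hab, mul_add, add_mul, add_mul, Matrix.smul_mul, one_mul, Matrix.mul_smul, mul_one, Matrix.smul_mul,
        one_mul, Matrix.smul_mul, Matrix.mul_smul, hsq, smul_smul, smul_smul, smul_smul, smul_smul] at e1
      have e2 : (a * a + b * b * ν - ν) • (1 : Matrix (Fin d ⊕ Fin d) (Fin d ⊕ Fin d) F) + (2 * (a * b)) • δ = 0 := by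
        rw [← sub_eq_zero] at e1
        rw [← e1]
        match_scalars <;> ring
      obtain ⟨e3, e4⟩ := hind _ _ e2
      obtain ⟨rfl, hb⟩ : a = 0 ∧ b * b = 1 := by
        rcases mul_eq_zero.mp ((mul_eq_zero.mp e4).resolve_left h2) with rfl | rfl
        · exact ⟨rfl, mul_right_cancel₀ hν0 (by linear_combination e3)⟩
        · exact absurd ⟨a, by linear_combination -e3⟩ hνsq
      rw [zero_smul, zero_add] at hab
      have e5 : (Y : Matrix (Fin d ⊕ Fin d) (Fin d ⊕ Fin d) F) * δ = b • (δ * Y) := by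
        rw [← Matrix.smul_mul, ← hab]
        simp only [mul_assoc, Units.inv_mul, mul_one]
      have e6 : ∀ j : ℕ, (Y : Matrix (Fin d ⊕ Fin d) (Fin d ⊕ Fin d) F) ^ j * δ =
          b ^ j • (δ * (Y : Matrix (Fin d ⊕ Fin d) (Fin d ⊕ Fin d) F) ^ j) := by
        intro j
        induction j with
        | zero => simp
        | succ j ih => rw [pow_succ (Y : Matrix (Fin d ⊕ Fin d) (Fin d ⊕ Fin d) F), mul_assoc, e5, Matrix.mul_smul,
            ← mul_assoc, ih, Matrix.smul_mul, smul_smul, mul_assoc, ← pow_succ']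
      have hYr : (Y : Matrix (Fin d ⊕ Fin d) (Fin d ⊕ Fin d) F) ^ r = 1 := by
        rw [← Units.val_pow_eq_pow_val, hYdef, show g⁻¹ * x * g = g⁻¹ * x * (g⁻¹)⁻¹ by rw [inv_inv], conj_pow,
          Units.val_mul, Units.val_mul, Units.val_pow_eq_pow_val, hxr, mul_one, ← Units.val_mul, mul_inv_cancel,
          Units.val_one]
      have e7 := e6 r
      rw [hYr, one_mul, mul_one, hkr, pow_succ, pow_mul, pow_two, hb, one_pow, one_mul] at e7
      have hb1 : b = 1 := by
        by_contra hb1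
        exact hδ0 ((smul_eq_zero.mp (show (b - 1) • δ = 0 by rw [sub_smul, one_smul, ← e7, sub_self])).resolve_left
          (sub_ne_zero.mpr hb1))
      rw [hb1, one_smul] at e5
      obtain ⟨A, hA⟩ : ∃ A, A = (g : Matrix (Fin d ⊕ Fin d) (Fin d ⊕ Fin d) F) * δ *
          ((g⁻¹ : GL (Fin d ⊕ Fin d) F) : Matrix (Fin d ⊕ Fin d) (Fin d ⊕ Fin d) F) := ⟨_, rfl⟩
      refine hxA A ?_ (fun u v => ?_) ?_
      · have ex : (x : Matrix (Fin d ⊕ Fin d) (Fin d ⊕ Fin d) F) =
            (g : Matrix (Fin d ⊕ Fin d) (Fin d ⊕ Fin d) F) * (Y : Matrix (Fin d ⊕ Fin d) (Fin d ⊕ Fin d) F) * ((g⁻¹ : GL (Fin d ⊕ Fin d) F) : Matrix (Fin d ⊕ Fin d) (Fin d ⊕ Fin d) F) := by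
          rw [← Units.val_mul, ← Units.val_mul, hYdef]; group
        rw [hA, ex]
        simp only [mul_assoc, Units.inv_mul_cancel_left]
        simp only [← mul_assoc]
        rw [mul_assoc _ δ, ← e5, ← mul_assoc]
      · have hp : ∀ w w', sympForm d F ((g : Matrix (Fin d ⊕ Fin d) (Fin d ⊕ Fin d) F) *ᵥ w)
            ((g : Matrix (Fin d ⊕ Fin d) (Fin d ⊕ Fin d) F) *ᵥ w') = sympForm d F w w' := hg
        have hgi : ∀ w, (g : Matrix (Fin d ⊕ Fin d) (Fin d ⊕ Fin d) F) *ᵥ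
            (((g⁻¹ : GL (Fin d ⊕ Fin d) F) : Matrix (Fin d ⊕ Fin d) (Fin d ⊕ Fin d) F) *ᵥ w) = w := fun w => by
          rw [Matrix.mulVec_mulVec, Units.mul_inv, Matrix.one_mulVec]
        rw [hA]
        simp only [← Matrix.mulVec_mulVec]
        conv_lhs => arg 4; rw [← hgi v]
        conv_rhs => arg 1; arg 3; rw [← hgi u]
        rw [hp, hp, hskew]
      · rw [hA]
        simp only [mul_assoc, Units.inv_mul_cancel_left]
        rw [← mul_assoc δ, hsq, Matrix.smul_mul, one_mul, Matrix.mul_smul, Units.mul_inv]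
    -- the index divides a product
    have hdvd : r ∣ Fintype.card F ^ (d ^ 2 - d * (d - 1) / 2) * ∏ i ∈ Finset.range d,
        (if Even i then Fintype.card F ^ (i + 1) - 1 else Fintype.card F ^ (i + 1) + 1) := by
      let C : Subgroup (GL (Fin d ⊕ Fin d) F) :=
        { carrier := {g | (g : Matrix (Fin d ⊕ Fin d) (Fin d ⊕ Fin d) F) * δ = δ * g}
          mul_mem' := fun {g g'} h h' => by
            simp only [Set.mem_setOf_eq, Units.val_mul] at h h' ⊢
            rw [mul_assoc, h', ← mul_assoc, h, mul_assoc]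
          one_mem' := by simp
          inv_mem' := fun {g} h => by
            simp only [Set.mem_setOf_eq] at h ⊢
            rw [← one_mul (δ * _), ← Units.inv_mul g, mul_assoc _ (g : Matrix (Fin d ⊕ Fin d) (Fin d ⊕ Fin d) F),
              ← mul_assoc (g : Matrix (Fin d ⊕ Fin d) (Fin d ⊕ Fin d) F), h, mul_assoc δ, Units.mul_inv, mul_one] }
      have hCle : C ≤ Cfsg.Geo.subalgebraNormalizer K := fun g hg =>
        sign_mem_normalizer hδK hspan (one_mul 1) (by rw [one_smul]; exact hg)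
      refine hΩ.trans ((Subgroup.relIndex_dvd_of_le_left _ hCle).trans (dvd_of_eq ?_))
      have hc := Subgroup.card_mul_index (C.subgroupOf (Cfsg.spGL d F))
      have hcard : Nat.card ↥(C.subgroupOf (Cfsg.spGL d F)) = Nat.card {X : Matrix (Fin d ⊕ Fin d) (Fin d ⊕ Fin d) F //
          X ∈ Matrix.symplecticGroup (Fin d) F ∧ X * SkewBlocks.S d ν = SkewBlocks.S d ν * X} := by
        have hmemsp : ∀ w : GL (Fin d ⊕ Fin d) F, w ∈ Cfsg.spGL d F →
            (w : Matrix (Fin d ⊕ Fin d) (Fin d ⊕ Fin d) F) ∈ Matrix.symplecticGroup (Fin d) F := by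
          intro w hw
          rw [SymplecticGroup.mem_iff']
          refine Matrix.ext fun i j => ?_
          have h := hw (Pi.single i 1) (Pi.single j 1)
          change sympForm d F (w.1 *ᵥ Pi.single i 1) (w.1 *ᵥ Pi.single j 1) = _ at h
          rw [sympForm, sympForm, Matrix.mulVec_mulVec, ← Matrix.vecMul_transpose, ← Matrix.dotProduct_mulVec,
            Matrix.mulVec_mulVec, ← Matrix.mul_assoc] at h
          simpa [dotProduct, Pi.single_apply] using h
        refine Nat.card_eq_of_bijective (fun g => ⟨((Q⁻¹ * g.1.1 * Q : GL (Fin d ⊕ Fin d) F) : Matrix (Fin d ⊕ Fin d) (Fin d ⊕ Fin d) F),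
          hmemsp _ (mul_mem (mul_mem (inv_mem hQ) g.1.2) hQ), ?_⟩) ⟨?_, ?_⟩
        · have hgδ : (g.1.1 : Matrix (Fin d ⊕ Fin d) (Fin d ⊕ Fin d) F) * δ = δ * g.1.1 := g.2
          rw [← (eq_conj eQ).1, Units.val_mul, Units.val_mul]
          simp only [mul_assoc, Units.mul_inv_cancel_left]
          simp only [← mul_assoc]
          rw [mul_assoc _ _ δ, hgδ, ← mul_assoc]
        · intro g g' h
          exact Subtype.ext (Subtype.ext (mul_left_cancel (mul_right_cancel
            (Units.ext (congrArg Subtype.val h) : Q⁻¹ * g.1.1 * Q = Q⁻¹ * g'.1.1 * Q))))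
        · rintro ⟨X, hX, hXc⟩
          obtain ⟨w, hw, rfl⟩ : ∃ w : GL (Fin d ⊕ Fin d) F, w ∈ Cfsg.spGL d F ∧
              (w : Matrix (Fin d ⊕ Fin d) (Fin d ⊕ Fin d) F) = X :=
            ⟨⟨X, ((⟨X, hX⟩ : ↥(Matrix.symplecticGroup (Fin d) F))⁻¹).1,
              congrArg Subtype.val (mul_inv_cancel (⟨X, hX⟩ : ↥(Matrix.symplecticGroup (Fin d) F))),
              congrArg Subtype.val (inv_mul_cancel (⟨X, hX⟩ : ↥(Matrix.symplecticGroup (Fin d) F)))⟩,
              fun u v => Lead.Symp.form_preserved hX u v, rfl⟩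
          refine ⟨⟨⟨Q * w * Q⁻¹, mul_mem (mul_mem hQ hw) (inv_mem hQ)⟩, ?_⟩, Subtype.ext ?_⟩
          · show ((Q * w * Q⁻¹ : GL (Fin d ⊕ Fin d) F) : Matrix (Fin d ⊕ Fin d) (Fin d ⊕ Fin d) F) * δ = δ * ((Q * w * Q⁻¹ : GL (Fin d ⊕ Fin d) F) : Matrix (Fin d ⊕ Fin d) (Fin d ⊕ Fin d) F)
            rw [← (eq_conj eQ).2, Units.val_mul, Units.val_mul]
            simp only [mul_assoc, Units.inv_mul_cancel_left]
            simp only [← mul_assoc]
            rw [mul_assoc _ _ (SkewBlocks.S d ν), hXc, ← mul_assoc]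
          · show ((Q⁻¹ * (Q * w * Q⁻¹) * Q : GL (Fin d ⊕ Fin d) F) : Matrix (Fin d ⊕ Fin d) (Fin d ⊕ Fin d) F) = (w : Matrix (Fin d ⊕ Fin d) (Fin d ⊕ Fin d) F)
            congr 1
            group
      rw [hcard, SkewUnitary.card_commutant rfl hνsq, SkewUnitary.card_spGL_eq rfl] at hc
      refine Nat.eq_of_mul_eq_mul_left ?_ hc
      rw [← SkewUnitary.card_commutant (d := d) rfl hνsq, ← hcard]
      exact Nat.card_pos
    rcases eq_or_ne r p with hrp | hrp
    · subst hrp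
      obtain ⟨i⟩ : Nonempty (Fin d ⊕ Fin d) := inferInstance
      obtain ⟨v, hv⟩ : ∃ v : Fin d ⊕ Fin d → F, v = Pi.single i 1 := ⟨_, rfl⟩
      have hv0 : v ≠ 0 := fun h => by simpa [hv] using congrFun h i
      have hpow : ∀ j : ℕ, sympTransvection d v (1 : F) ^ j = sympTransvection d v ((j : F)) := by
        intro j
        induction j with
        | zero => simp [sympTransvection]
        | succ j ih => rw [pow_succ, ih, Lead.Symp.trans_add, Nat.cast_succ]
      obtain ⟨x, hxmat⟩ : ∃ x : GL (Fin d ⊕ Fin d) F,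
          (x : Matrix (Fin d ⊕ Fin d) (Fin d ⊕ Fin d) F) = sympTransvection d v 1 :=
        ⟨⟨sympTransvection d v 1, sympTransvection d v (-1),
          by rw [Lead.Symp.trans_add, add_neg_cancel]; simp [sympTransvection],
          by rw [Lead.Symp.trans_add, neg_add_cancel]; simp [sympTransvection]⟩, rfl⟩
      have hxv : ∀ w, (x : Matrix (Fin d ⊕ Fin d) (Fin d ⊕ Fin d) F) *ᵥ w = w + sympForm d F w v • v := fun w => by
        rw [hxmat, Lead.Symp.trans_mulVec, one_mul]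
      obtain ⟨w, hw⟩ := Lead.Symp.exists_form_ne hv0
      have hwv : sympForm d F w v ≠ 0 := by rw [Lead.Symp.form_swap]; exact neg_ne_zero.mpr hw
      refine ⟨x, fun a b => ?_, ?_, fun z hz => ?_, fun A hA hskA hAA => ?_⟩
      · show sympForm d F ((x : Matrix (Fin d ⊕ Fin d) (Fin d ⊕ Fin d) F) *ᵥ a)
          ((x : Matrix (Fin d ⊕ Fin d) (Fin d ⊕ Fin d) F) *ᵥ b) = sympForm d F a b
        rw [hxmat]
        exact Lead.Symp.form_preserved (Lead.Symp.trans_mem v 1) a b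
      · rw [hxmat, hpow, CharP.cast_eq_zero]
        simp [sympTransvection]
      · have h1 := hxv v
        rw [hz, Matrix.smul_mulVec, Matrix.one_mulVec, Lead.Symp.form_self, zero_smul, add_zero] at h1
        have hz1 : z = 1 := by
          by_contra hz1
          exact hv0 ((smul_eq_zero.mp (show (z - 1) • v = 0 by rw [sub_smul, h1, one_smul, sub_self])).resolve_left
            (sub_ne_zero.mpr hz1))
        have h3 := hxv w
        rw [hz, hz1, one_smul, Matrix.one_mulVec, left_eq_add] at h3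
        exact hv0 ((smul_eq_zero.mp h3).resolve_left hwv)
      · have h1 : (A * (x : Matrix (Fin d ⊕ Fin d) (Fin d ⊕ Fin d) F)) *ᵥ w =
            ((x : Matrix (Fin d ⊕ Fin d) (Fin d ⊕ Fin d) F) * A) *ᵥ w := by rw [hA]
        rw [← Matrix.mulVec_mulVec, ← Matrix.mulVec_mulVec, hxv, hxv, Matrix.mulVec_add, Matrix.mulVec_smul,
          add_right_inj] at h1
        obtain ⟨c, hc⟩ : ∃ c, A *ᵥ v = c • v := ⟨(sympForm d F w v)⁻¹ * sympForm d F (A *ᵥ w) v, by
          rw [mul_smul, ← h1, smul_smul, inv_mul_cancel₀ hwv, one_smul]⟩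
        have h4 : (A * A) *ᵥ v = (c * c) • v := by
          rw [← Matrix.mulVec_mulVec, hc, Matrix.mulVec_smul, hc, smul_smul]
        rw [hAA, Matrix.smul_mulVec, Matrix.one_mulVec] at h4
        exact hνsq ⟨c, sub_eq_zero.mp ((smul_eq_zero.mp (show (ν - c * c) • v = 0 by
          rw [sub_smul, h4, sub_self])).resolve_right hv0)⟩
    have hr0 : (r : F) ≠ 0 := Elusive.cast_ne_zero (F := F) hrp
    have hnd : ¬ r ∣ Fintype.card F ^ (d ^ 2 - d * (d - 1) / 2) := fun h => by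
      obtain ⟨n, hp', hn⟩ := FiniteField.card F p
      rw [hn] at h
      exact hrp ((Nat.prime_dvd_prime_iff_eq hr hp').mp (hr.dvd_of_dvd_pow (hr.dvd_of_dvd_pow h)))
    obtain ⟨i, hi, hri⟩ := (Prime.dvd_finset_prod_iff hr.prime _).mp ((hr.dvd_mul.mp hdvd).resolve_left hnd)
    rw [Finset.mem_range] at hi
    set e := orderOf (Fintype.card F : ZMod r) with he
    have hepos : 0 < e := Elusive.orderOf_pos' (F := F) hrp
    by_cases hie : Even i
    · rw [if_pos hie] at hri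
      have hdiv : e ∣ i + 1 := (Elusive.orderOf_dvd_iff' (F := F) _).mp hri
      have heodd : Odd e := hie.add_one.of_dvd_nat hdiv
      have hed := Nat.le_of_dvd (Nat.succ_pos i) hdiv
      obtain ⟨M, _, _, _, B, g, hfree, halt, hM⟩ := Elusive.Free.exists_paired (F := F) hr hr2 hr0 1
      rw [mul_one, ← he] at hM
      exact SkewObstruction.exists_no_commutant halt hfree hM (show e + (d - e) = d by omega) hepos
        fun D h1 h2' h3 => SkewObstruction.no_commutant_odd hF2 hνsq halt hfree (hM.trans (by rw [he]))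
          heodd D h1 h2' h3
    · rw [if_neg hie] at hri
      have hneg : (Fintype.card F : ZMod r) ^ (i + 1) = -1 := by
        rw [← ZMod.natCast_eq_zero_iff, Nat.cast_add, Nat.cast_pow, Nat.cast_one] at hri
        exact eq_neg_of_add_eq_zero_left hri
      have hdiv : e ∣ 2 * (i + 1) := orderOf_dvd_of_pow_eq_one (by rw [mul_comm, pow_mul, hneg, neg_one_sq])
      have hnd' : ¬ e ∣ i + 1 := fun h => by
        rw [orderOf_dvd_iff_pow_eq_one, hneg] at h
        have h' : ((2 : ℕ) : ZMod r) = 0 := by push_cast; linear_combination -h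
        exact hr2 ((Nat.prime_dvd_prime_iff_eq hr Nat.prime_two).mp ((ZMod.natCast_eq_zero_iff _ _).mp h'))
      have hev : Even e := by
        by_contra hne'
        exact hnd' ((Nat.Coprime.dvd_mul_left (Nat.coprime_two_right.mpr (Nat.not_even_iff_odd.mp hne'))).mp hdiv)
      obtain ⟨h, hh⟩ := hev
      have hhev : Even h := by
        by_contra hne'
        obtain ⟨m, hm⟩ := Nat.not_even_iff_odd.mp hie
        obtain ⟨w, hw⟩ : h ∣ i + 1 := Nat.dvd_of_mul_dvd_mul_left two_pos (by rw [two_mul, ← hh]; exact hdiv)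
        have hwe : Even w := by
          have : Even (h * w) := ⟨m + 1, by omega⟩
          exact (Nat.even_mul.mp this).resolve_left hne'
        obtain ⟨w', rfl⟩ := hwe
        exact hnd' ⟨w', by rw [hw, hh]; ring⟩
      obtain ⟨h', hh'⟩ := hhev
      have hle := Nat.le_of_dvd (by omega) hdiv
      obtain ⟨M, _, _, _, B, g, hfree, halt, hM, -⟩ := Elusive.Free.exists_spread (F := F) hr hr2 hr0 ⟨h, hh⟩ 1
      rw [mul_one, ← he] at hM
      exact SkewObstruction.exists_no_commutant halt hfree (n := h) (by rw [hM, hh]; ring)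
        (show h + (d - h) = d by omega) (by omega)
        fun D h1 h2' h3 => SkewObstruction.no_commutant_four hF2 hνsq (Elusive.TsSymp.refl_of_alt halt) hfree
          (hM.trans (by rw [he])) ⟨h', by omega⟩ D h1 h2' h3
  · rintro rfl x hx ⟨z, hz⟩ -
    rw [Units.val_pow_eq_pow_val, pow_two] at hz
    have hp : ∀ u v, sympForm d F ((x : Matrix (Fin d ⊕ Fin d) (Fin d ⊕ Fin d) F) *ᵥ u)
        ((x : Matrix (Fin d ⊕ Fin d) (Fin d ⊕ Fin d) F) *ᵥ v) = sympForm d F u v := hx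
    have hxx : ∀ u, (x : Matrix (Fin d ⊕ Fin d) (Fin d ⊕ Fin d) F) *ᵥ
        ((x : Matrix (Fin d ⊕ Fin d) (Fin d ⊕ Fin d) F) *ᵥ u) = z • u := fun u => by
      rw [Matrix.mulVec_mulVec, hz, Matrix.smul_mulVec, Matrix.one_mulVec]
    have hz2 : z * z = 1 := by
      obtain ⟨u, hu⟩ := exists_ne (0 : Fin d ⊕ Fin d → F)
      obtain ⟨v, hv⟩ := Lead.Symp.exists_form_ne hu
      have h := hp ((x : Matrix (Fin d ⊕ Fin d) (Fin d ⊕ Fin d) F) *ᵥ u)
        ((x : Matrix (Fin d ⊕ Fin d) (Fin d ⊕ Fin d) F) *ᵥ v)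
      rw [hxx, hxx, hp, ← Elusive.sympB_apply, map_smul, map_smul, LinearMap.smul_apply, Elusive.sympB_apply,
        smul_eq_mul, smul_eq_mul, ← mul_assoc] at h
      exact mul_right_cancel₀ hv (h.trans (one_mul _).symm)
    have hadjx : ∀ u v, sympForm d F ((x : Matrix (Fin d ⊕ Fin d) (Fin d ⊕ Fin d) F) *ᵥ u) v =
        z * sympForm d F u ((x : Matrix (Fin d ⊕ Fin d) (Fin d ⊕ Fin d) F) *ᵥ v) := fun u v => by
      have h := hp ((x : Matrix (Fin d ⊕ Fin d) (Fin d ⊕ Fin d) F) *ᵥ u) v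
      rw [hxx, ← Elusive.sympB_apply, map_smul, LinearMap.smul_apply, Elusive.sympB_apply, smul_eq_mul] at h
      rw [← h]
    suffices hN : ∃ g ∈ Cfsg.spGL d F, ∃ (N : Matrix (Fin d ⊕ Fin d) (Fin d ⊕ Fin d) F) (σ : F), σ * σ = 1 ∧
        N * SkewBlocks.S d ν = σ • (SkewBlocks.S d ν * N) ∧
        (x : Matrix (Fin d ⊕ Fin d) (Fin d ⊕ Fin d) F) * (g : Matrix (Fin d ⊕ Fin d) (Fin d ⊕ Fin d) F) =
          (g : Matrix (Fin d ⊕ Fin d) (Fin d ⊕ Fin d) F) * N by
      obtain ⟨g, hg, N, σ, hσ, hNS, hxg⟩ := hN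
      refine ⟨g * Q⁻¹, mul_mem hg (inv_mem hQ), sign_mem_normalizer hδK hspan hσ ?_⟩
      have e : (((g * Q⁻¹)⁻¹ * x * (g * Q⁻¹) : GL (Fin d ⊕ Fin d) F) : Matrix (Fin d ⊕ Fin d) (Fin d ⊕ Fin d) F) =
          (Q : Matrix (Fin d ⊕ Fin d) (Fin d ⊕ Fin d) F) * N * ((Q⁻¹ : GL (Fin d ⊕ Fin d) F) : Matrix (Fin d ⊕ Fin d) (Fin d ⊕ Fin d) F) := by
        rw [← (eq_conj hxg).1, _root_.mul_inv_rev, inv_inv]
        simp only [Units.val_mul, mul_assoc]
      rw [e, ← (eq_conj eQ).2]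
      simp only [mul_assoc, Units.inv_mul_cancel_left]
      rw [← mul_assoc N, hNS]
      simp only [Matrix.smul_mul, Matrix.mul_smul, mul_assoc]
    rcases mul_self_eq_one_iff.mp hz2 with rfl | rfl
    · obtain ⟨g, hg, s, e⟩ := SkewBlocks.exists_invol_normal h2 (A := (x : Matrix (Fin d ⊕ Fin d) (Fin d ⊕ Fin d) F))
        (hz.trans (one_smul _ _)) (fun u v => by rw [hadjx, one_mul])
      refine ⟨g, hg, _, 1, one_mul 1, ?_, e⟩
      rw [one_smul]
      ext a b
      rcases a with a | a <;> rcases b with b | b <;>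
        simp [SkewBlocks.S, Matrix.one_apply, Matrix.diagonal_mul, Matrix.mul_diagonal, mul_comm] <;> aesop
    · obtain ⟨g, hg, e⟩ := SkewBlocks.exists_skew_normal (neg_ne_zero.mpr one_ne_zero) h2 hz
        (fun u v => by rw [hadjx, neg_one_mul])
      obtain ⟨τ, hτ, hτskew, hτS⟩ := exists_tau (d := d) h2 hν0
      obtain ⟨g₂, hg₂, e₂⟩ := SkewBlocks.exists_skew_normal (neg_ne_zero.mpr one_ne_zero) h2 hτ hτskew
      refine ⟨g * g₂⁻¹, mul_mem hg (inv_mem hg₂), τ, -1, by ring, hτS, ?_⟩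
      rw [Units.val_mul, ← mul_assoc, e, ← (eq_conj e₂).1]
      simp only [mul_assoc, Units.mul_inv, mul_one]

end Cfsg.Agent.S5976
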