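import Cfsg.Statements.S5979
import Cfsg.Agent.Lib.Classical.Elusive.TensorGL

set_option autoImplicit false
open scoped MatrixGroups
open Cfsg

namespace Cfsg.Agent.S5979

open Cfsg.Agent.Classical.Elusive Module
open scoped Kronecker

/-- Elements of prime order of PSL_n(q) and the stabilizers of tensor decompositions with factors of different dimensions. Here `T = PSL_n(F)` for a field `F` with `q` elements and `n = a·b` with `2 ≤ a < b`; a tensor decomposition `F^n ≅ F^a ⊗ F^b` is given by a bijection `e` of index sets and a change of basis `P`, and `H` is the subgroup of matrices of determinant 1 in its stabilizer (the conjugate by `P` of the group of Kronecker products `g₁ ⊗ g₂`) — a subgroup of type GL_a(q) ⊗ GL_b(q) (maximality is not assumed); Ω is the set of cosets of `H` in `T`, so an element of `T` of prime order `r` (a matrix `x` of determinant 1 with `x^r` scalar, `x` not scalar) fixes a point of Ω exactly when some conjugate of `x` by a matrix of determinant 1 lies in `H`. Let `r` be a prime dividing the index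 of `H`. Then every element of `T` of order `r` fixes a point of Ω if and only if `r = 2`, `a = 2`, `q` is odd and `(q − 1)_2 ≤ (n)_2` (2-parts). -/
theorem result {F : Type*} [Field F] [Fintype F] {p : ℕ} [Fact p.Prime] [CharP F p] {q : ℕ} (hq : Fintype.card F = q)
    (n a b : ℕ) (hab : n = a * b) (ha : 2 ≤ a) (hlt : a < b) (e : Fin n ≃ Fin a × Fin b) (P : GL (Fin n) F)
    (r : ℕ) [Fact r.Prime]
    (hΩ : r ∣ (Cfsg.Geo.tensorProductSubgroup a b e P).relIndex (Cfsg.Geo.specialLinear (Fin n) F)) :
    (∀ x ∈ Cfsg.Geo.specialLinear (Fin n) F, (∃ z : F, ((x ^ r : GL (Fin n) F) : Matrix (Fin n) (Fin n) F) = z • (1 : Matrix (Fin n) (Fin n) F)) →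
      (∀ z : F, (x : Matrix (Fin n) (Fin n) F) ≠ z • (1 : Matrix (Fin n) (Fin n) F)) →
      ∃ g ∈ Cfsg.Geo.specialLinear (Fin n) F, g⁻¹ * x * g ∈ Cfsg.Geo.tensorProductSubgroup a b e P) ↔
    (r = 2 ∧ a = 2 ∧ Odd q ∧ padicValNat 2 (q - 1) ≤ padicValNat 2 n) := by
  subst hq
  classical
  constructor
  · intro hall
    by_contra hne
    obtain ⟨x, hx, ⟨z, hz⟩, hns, hno⟩ := TensorGL.exists_der e P hab ha hlt (p := p) hΩ hne
    obtain ⟨g, -, hg⟩ := hall x hx ⟨z, by rw [Units.val_pow_eq_pow_val]; exact hz⟩ hns
    exact hno g hg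
  · rintro ⟨rfl, rfl, hodd, hv⟩ x hx ⟨z, hz⟩ -
    rw [Units.val_pow_eq_pow_val] at hz
    have h2 : (2 : F) ≠ 0 := fun h => by
      have h' := FiniteField.cast_card_eq_zero F
      obtain ⟨k, hk⟩ := hodd
      rw [hk] at h'
      push_cast at h'
      exact one_ne_zero (show (1 : F) = 0 by linear_combination h' - (k : F) * h)
    have hdetx : x.1.det = 1 := congrArg Units.val (show Matrix.GeneralLinearGroup.det x = 1 from hx)
    have hn0 : 0 < n := by omega
    have hfr : finrank F (Fin n → F) = 2 * b := by rw [Module.finrank_fin_fun, hab]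
    have hz0 : z ≠ 0 := fun h => by
      haveI : Nonempty (Fin n) := ⟨⟨0, hn0⟩⟩
      have := congrArg Matrix.det hz
      rw [Matrix.det_pow, hdetx, one_pow, h, zero_smul, Matrix.det_zero] at this
      exact one_ne_zero this
    obtain ⟨g, hg⟩ : ∃ g, g = Matrix.toLin' (x : Matrix (Fin n) (Fin n) F) := ⟨_, rfl⟩
    have hg2 : ∀ v, g (g v) = z • v := fun v => by
      rw [hg, Matrix.toLin'_apply, Matrix.toLin'_apply, Matrix.mulVec_mulVec, ← pow_two, hz, Matrix.smul_mulVec,
        Matrix.one_mulVec]
    by_cases hsq : IsSquare z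
    · obtain ⟨μ, rfl⟩ := hsq
      have hμ : μ ≠ 0 := fun h => hz0 (by rw [h, mul_zero])
      have hμn : μ ^ n ≠ -1 := fun h => by
        obtain ⟨o, ho⟩ := pow_padicValNat_dvd (p := 2) (n := Fintype.card F - 1)
        obtain ⟨c, hc⟩ : 2 ^ padicValNat 2 (Fintype.card F - 1) ∣ n := (pow_dvd_pow 2 hv).trans pow_padicValNat_dvd
        have hoo : Odd o := by
          by_contra hc'
          obtain ⟨k, hk⟩ := Nat.not_odd_iff_even.mp hc'
          have e2 : 2 ^ (padicValNat 2 (Fintype.card F - 1) + 1) * k =
              2 ^ padicValNat 2 (Fintype.card F - 1) * o := by rw [hk, pow_succ]; ring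
          have := Fintype.one_lt_card (α := F)
          exact pow_succ_padicValNat_not_dvd (by omega) ⟨k, ho.trans e2.symm⟩
        have h1 : μ ^ (n * o) = 1 := by
          rw [show n * o = (Fintype.card F - 1) * c by
            conv_lhs => rw [hc]
            conv_rhs => rw [ho]
            ring, pow_mul, FiniteField.pow_card_sub_one_eq_one μ hμ, one_pow]
        rw [pow_mul, h, hoo.neg_one_pow] at h1
        exact h2 (by linear_combination -h1)
      obtain ⟨k, hk⟩ : ∃ k, k = finrank F (LinearMap.ker (g - μ • (1 : Module.End F (Fin n → F)))) := ⟨_, rfl⟩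
      have hkle : k ≤ 2 * b := hk ▸ hfr ▸ Submodule.finrank_le _
      obtain ⟨S₀, -, hS₀⟩ := Finset.exists_subset_card_eq (s := (Finset.univ : Finset (Fin 2 × Fin b))) (n := k)
        (by rw [Finset.card_univ, Fintype.card_prod, Fintype.card_fin, Fintype.card_fin]; exact hkle)
      obtain ⟨b₀, hb₀⟩ := exists_eigen_basis hfr h2 hμ hg2 S₀ (hS₀.trans hk)
      have hkev : Even k := by
        by_contra hko
        have hd := det_of_toMatrix hb₀
        rw [hg, LinearMap.det_toLin', hdetx] at hd
        have e1 : ∀ i, (blockEig fun j => if (j, i) ∈ S₀ then μ else -μ).det = ∏ j, (if (j, i) ∈ S₀ then μ else -μ) :=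
          fun i => Matrix.det_diagonal
        rw [Finset.prod_congr rfl fun i _ => e1 i, Finset.prod_comm, ← Fintype.prod_prod_type'
          (f := fun (j : Fin 2) (i : Fin b) => if (j, i) ∈ S₀ then μ else -μ)] at hd
        rw [Finset.prod_congr rfl fun l _ => show (if (l.1, l.2) ∈ S₀ then μ else -μ) =
            μ * (if l ∈ S₀ then 1 else -1) by split_ifs <;> ring, Finset.prod_mul_distrib, Finset.prod_const,
          Finset.card_univ, Fintype.card_prod, Fintype.card_fin, Fintype.card_fin, ← hab, Finset.prod_ite,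
          Finset.prod_const_one, one_mul, Finset.prod_const] at hd
        have hc : Odd (Finset.univ.filter fun l => l ∉ S₀).card := by
          rw [Finset.filter_not, Finset.card_sdiff_of_subset (Finset.filter_subset _ _), Finset.card_univ,
            Fintype.card_prod, Fintype.card_fin, Fintype.card_fin,
            show (Finset.univ.filter fun l => l ∈ S₀) = S₀ by ext; simp, hS₀, Nat.odd_sub hkle]
          exact iff_of_false (Nat.not_odd_iff_even.mpr (even_two_mul b)) hko
        rw [hc.neg_one_pow] at hd
        exact hμn (by linear_combination hd)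
      obtain ⟨j, hj⟩ := hkev
      obtain ⟨T, -, hT⟩ := Finset.exists_subset_card_eq (s := (Finset.univ : Finset (Fin b))) (n := j)
        (by rw [Finset.card_univ, Fintype.card_fin]; omega)
      obtain ⟨bs, hbs⟩ := exists_eigen_basis hfr h2 hμ hg2 ((Finset.univ : Finset (Fin 2)) ×ˢ T) (by
        rw [Finset.card_product, Finset.card_univ, Fintype.card_fin, hT, ← hk, hj, two_mul])
      obtain ⟨d, hd⟩ : ∃ d : Fin b → F, d = fun i => if i ∈ T then μ else -μ := ⟨_, rfl⟩
      have hd0 : ∀ i, d i ≠ 0 := fun i => by simp only [hd]; split_ifs <;> simp [hμ]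
      obtain ⟨B, hB⟩ : ∃ B : GL (Fin b) F, B.1 = Matrix.diagonal d :=
        ⟨Matrix.GeneralLinearGroup.mkOfDetNeZero (Matrix.diagonal d) (by
          rw [Matrix.det_diagonal]
          exact Finset.prod_ne_zero_iff.mpr fun i _ => hd0 i), rfl⟩
      have hY : (1 : GL (Fin 2) F).1 ⊗ₖ B.1 = Matrix.diagonal (fun l : Fin 2 × Fin b => d l.2) := by
        rw [hB, Units.val_one, ← Matrix.diagonal_one, Matrix.diagonal_kronecker_diagonal]
        simp
      refine TensorGL.fix_of_model e P bs x (A := 1) (B := B) ?_ fun u _ => ?_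
      · rw [← hg, hbs, hY]
        ext ⟨k₁, i₁⟩ ⟨k₂, i₂⟩
        rw [Matrix.blockDiagonal_apply, Matrix.diagonal_apply]
        by_cases h : i₁ = i₂
        · subst h
          simp [blockEig, Matrix.diagonal_apply, hd]
        · simp [h]
      · rw [hY]
        refine ⟨Matrix.diagonal (Function.update 1 ((0 : Fin 2), (⟨0, by omega⟩ : Fin b)) u), ?_, ?_⟩
        · simp [Matrix.det_diagonal, Finset.prod_update_of_mem]
        · rw [Matrix.diagonal_mul_diagonal, Matrix.diagonal_mul_diagonal]
          congr 1
          funext l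
          exact mul_comm _ _
    · obtain ⟨bs, hbs⟩ := exists_root_basis hfr hsq hg2
      obtain ⟨A, hA⟩ : ∃ A : GL (Fin 2) F, A.1 = blockRoot z :=
        ⟨Matrix.GeneralLinearGroup.mkOfDetNeZero (blockRoot z) (by simp [blockRoot, Matrix.det_fin_two, hz0]), rfl⟩
      have hY : A.1 ⊗ₖ (1 : GL (Fin b) F).1 = Matrix.blockDiagonal (fun _ : Fin b => blockRoot z) := by
        rw [hA, Units.val_one, Matrix.kronecker_one]
      refine TensorGL.fix_of_model e P bs x (A := A) (B := 1) (by rw [← hg, hbs, hY]) fun u _ => ?_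
      obtain ⟨i, Z, hZd, hZc⟩ := centraliser_root (⟨0, by omega⟩ : Fin b) hz0 u
      rw [hY]
      refine ⟨Matrix.blockDiagonal (Function.update 1 i Z), ?_, ?_⟩
      · rw [Matrix.det_blockDiagonal, Finset.prod_eq_single i (fun j _ hj => by simp [Function.update_of_ne hj]) (by simp),
          Function.update_self, hZd]
      · rw [← Matrix.blockDiagonal_mul, ← Matrix.blockDiagonal_mul]
        congr 1
        funext j
        by_cases hj : j = i
        · subst hj; simpa using hZc
        · simp [Function.update_of_ne hj]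

end Cfsg.Agent.S5979
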