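import Cfsg.Statements.S5980
import Cfsg.Agent.Lib.Classical.Elusive.TensorSpO
import Cfsg.Agent.Lib.Small.SpJordan

set_option autoImplicit false
open scoped MatrixGroups
open Cfsg

namespace Cfsg.Agent.S5980

open Cfsg.Agent.Classical
open Cfsg.Agent.Classical.Elusive.TensorSpO
open Matrix
open scoped Kronecker

section

variable {F : Type*} [Field F] {d a b : ℕ} (e : (Fin d ⊕ Fin d) ≃ Fin a × Fin b) (P : GL (Fin d ⊕ Fin d) F)

/-- The coordinates of the decomposition. -/
noncomputable def coord : (Fin a × Fin b → F) ≃ₗ[F] (Fin d ⊕ Fin d → F) :=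
  LinearEquiv.ofBijective
    ((Matrix.toLin' (P : Matrix (Fin d ⊕ Fin d) (Fin d ⊕ Fin d) F)) ∘ₗ (LinearEquiv.funCongrLeft F F e).toLinearMap)
    (((Matrix.mulVec_injective_iff_isUnit.2 P.isUnit).comp (LinearEquiv.injective _)) |> fun hi =>
      ⟨hi, (LinearMap.injective_iff_surjective_of_finrank_eq_finrank (by
        rw [Module.finrank_fintype_fun_eq_card, Module.finrank_fintype_fun_eq_card, Fintype.card_congr e])).mp hi⟩)

theorem coord_apply (v : Fin a × Fin b → F) :
    coord e P v = (P : Matrix (Fin d ⊕ Fin d) (Fin d ⊕ Fin d) F) *ᵥ (v ∘ e) := rfl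

theorem mem_tensor {K : GL (Fin d ⊕ Fin d) F} (hK : K ∈ Cfsg.Geo.tensorProductSubgroup a b e P) :
    ∃ (A : GL (Fin a) F) (B : GL (Fin b) F), ∀ v, (K : Matrix (Fin d ⊕ Fin d) (Fin d ⊕ Fin d) F) *ᵥ coord e P v =
      coord e P (((A : Matrix (Fin a) (Fin a) F) ⊗ₖ (B : Matrix (Fin b) (Fin b) F)) *ᵥ v) := by
  obtain ⟨_, ⟨g, ⟨A, B, hg⟩, rfl⟩, rfl⟩ := hK
  refine ⟨A, B, fun v => ?_⟩
  rw [← hg]
  simp only [MulEquiv.coe_toMonoidHom, MulAut.conj_apply, coord_apply, Units.val_mul, Matrix.mulVec_mulVec]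
  rw [mul_assoc, mul_assoc, ← Units.val_mul, inv_mul_cancel, Units.val_one, mul_one, ← Matrix.mulVec_mulVec]
  congr 1
  show ((g : Matrix (Fin a × Fin b) (Fin a × Fin b) F).submatrix e e) *ᵥ (v ∘ e) = _
  rw [Matrix.submatrix_mulVec_equiv]
  simp [Function.comp_def]

theorem exists_tensor (A : GL (Fin a) F) (B : GL (Fin b) F) :
    ∃ K ∈ Cfsg.Geo.tensorProductSubgroup a b e P, ∀ v,
      (K : Matrix (Fin d ⊕ Fin d) (Fin d ⊕ Fin d) F) *ᵥ coord e P v =
      coord e P (((A : Matrix (Fin a) (Fin a) F) ⊗ₖ (B : Matrix (Fin b) (Fin b) F)) *ᵥ v) := by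
  have h1 : ((A : Matrix (Fin a) (Fin a) F) ⊗ₖ (B : Matrix (Fin b) (Fin b) F)) *
      (((A⁻¹ : GL (Fin a) F) : Matrix (Fin a) (Fin a) F) ⊗ₖ ((B⁻¹ : GL (Fin b) F) : Matrix (Fin b) (Fin b) F)) = 1 := by
    rw [← Matrix.mul_kronecker_mul, ← Units.val_mul, ← Units.val_mul, mul_inv_cancel, mul_inv_cancel,
      Units.val_one, Units.val_one, Matrix.one_kronecker_one]
  have h2 : (((A⁻¹ : GL (Fin a) F) : Matrix (Fin a) (Fin a) F) ⊗ₖ ((B⁻¹ : GL (Fin b) F) : Matrix (Fin b) (Fin b) F)) *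
      ((A : Matrix (Fin a) (Fin a) F) ⊗ₖ (B : Matrix (Fin b) (Fin b) F)) = 1 := by
    rw [← Matrix.mul_kronecker_mul, ← Units.val_mul, ← Units.val_mul, inv_mul_cancel, inv_mul_cancel,
      Units.val_one, Units.val_one, Matrix.one_kronecker_one]
  obtain ⟨g, hg⟩ : ∃ g : GL (Fin a × Fin b) F, (g : Matrix (Fin a × Fin b) (Fin a × Fin b) F) =
      (A : Matrix (Fin a) (Fin a) F) ⊗ₖ (B : Matrix (Fin b) (Fin b) F) := ⟨⟨_, _, h1, h2⟩, rfl⟩
  refine ⟨_, ⟨_, ⟨g, ⟨A, B, hg⟩, rfl⟩, rfl⟩, fun v => ?_⟩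
  rw [← hg]
  simp only [MulEquiv.coe_toMonoidHom, MulAut.conj_apply, coord_apply, Units.val_mul, Matrix.mulVec_mulVec]
  rw [mul_assoc, mul_assoc, ← Units.val_mul, inv_mul_cancel, Units.val_one, mul_one, ← Matrix.mulVec_mulVec]
  congr 1
  show ((g : Matrix (Fin a × Fin b) (Fin a × Fin b) F).submatrix e e) *ᵥ (v ∘ e) = _
  rw [Matrix.submatrix_mulVec_equiv]
  simp [Function.comp_def]

variable {f₁ : (Fin a → F) → (Fin a → F) → F} {f₂ : (Fin b → F) → (Fin b → F) → F}

theorem form_coord (hS : Cfsg.Geo.IsTensorFormStructure id (Cfsg.sympForm d F) f₁ f₂ e P) :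
    ∃ c : F, c ≠ 0 ∧ ∀ x y, Cfsg.sympForm d F (coord e P x) (coord e P y) =
      c * (x ⬝ᵥ ((Cfsg.Geo.gramMatrix f₁ ⊗ₖ Cfsg.Geo.gramMatrix f₂) *ᵥ y)) := by
  obtain ⟨c, hc, h⟩ := hS
  refine ⟨c, hc, fun x y => ?_⟩
  rw [coord_apply, coord_apply, h]
  congr 1
  simp [Cfsg.Geo.formOfGram, dotProduct, Matrix.mulVec, Finset.mul_sum, mul_assoc]

end


/-- Elements of prime order of PSp_n(q), q odd, and the stabilizers of tensor decompositions Sp_a(q) ⊗ O_b(q). Here `T = PSp_{2d}(F)` for a field `F` with `q` elements, `q` odd, `d ≥ 2`, realised through the matrices preserving the standard alternating form `f`; `2d = a·b` with `a` even, `b ≥ 3`, and the bijection `e` and change of basis `P` exhibit `f` as a non-zero scalar multiple of the tensor product of a non-degenerate alternating form `f₁` on `F^a` and a non-degenerate symmetric bilinear form `f₂` on `F^b`; `H` is the subgroup of `T` stabilizing this tensor decomposition (the elements of `T` in the conjugate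 by `P` of the group of Kronecker products) — a subgroup of type Sp_a(q) ⊗ O^ε_b(q) (maximality is not assumed). Ω is the set of cosets of `H` in `T`, so an element of `T` of prime order `r` (`x ∈ T` with `x^r` scalar, `x` not scalar) fixes a point of Ω exactly when some `T`-conjugate of `x` lies in `H`. Let `r` be a prime dividing the index of `H`. Then every element of `T` of order `r` fixes a point of Ω if and only if `r = 2` and `a = 2`. -/
theorem result {F : Type*} [Field F] [Fintype F] {p : ℕ} [Fact p.Prime] [CharP F p] {q : ℕ} (hq : Fintype.card F = q)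
    (hodd : Odd q) (d : ℕ) (hd : 2 ≤ d) (a b : ℕ) (hab : 2 * d = a * b) (ha : Even a) (ha2 : 2 ≤ a) (hb : 3 ≤ b)
    (e : (Fin d ⊕ Fin d) ≃ Fin a × Fin b) (P : GL (Fin d ⊕ Fin d) F)
    (f₁ : (Fin a → F) → (Fin a → F) → F) (f₂ : (Fin b → F) → (Fin b → F) → F)
    (hf₁ : Cfsg.Geo.IsSymplecticForm f₁) (hf₂ : Cfsg.Geo.IsSymmetricForm f₂)
    (hS : Cfsg.Geo.IsTensorFormStructure id (Cfsg.sympForm d F) f₁ f₂ e P)
    (r : ℕ) [Fact r.Prime]
    (hΩ : r ∣ (Cfsg.Geo.tensorProductSubgroup a b e P).relIndex (Cfsg.spGL d F)) :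
    (∀ x ∈ Cfsg.spGL d F, (∃ z : F, ((x ^ r : GL (Fin d ⊕ Fin d) F) : Matrix (Fin d ⊕ Fin d) (Fin d ⊕ Fin d) F) = z • (1 : Matrix (Fin d ⊕ Fin d) (Fin d ⊕ Fin d) F)) →
      (∀ z : F, (x : Matrix (Fin d ⊕ Fin d) (Fin d ⊕ Fin d) F) ≠ z • (1 : Matrix (Fin d ⊕ Fin d) (Fin d ⊕ Fin d) F)) →
      ∃ g ∈ Cfsg.spGL d F, g⁻¹ * x * g ∈ Cfsg.Geo.tensorProductSubgroup a b e P) ↔ (r = 2 ∧ a = 2) := by
  classical
  have h2 : (2 : F) ≠ 0 := fun h => by
    have h' := FiniteField.cast_card_eq_zero F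
    rw [hq] at h'
    obtain ⟨k, hk⟩ := hodd
    rw [hk] at h'
    push_cast at h'
    exact one_ne_zero (show (1 : F) = 0 by linear_combination h' - (k : F) * h)
  obtain ⟨c0, hc0, hform⟩ := form_coord e P hS
  obtain ⟨G₁, hG₁⟩ : ∃ G, G = Cfsg.Geo.gramMatrix f₁ := ⟨_, rfl⟩
  obtain ⟨G₂, hG₂⟩ : ∃ G, G = Cfsg.Geo.gramMatrix f₂ := ⟨_, rfl⟩
  rw [← hG₁, ← hG₂] at hform
  have hs₁ : ∀ i j, G₁ j i = -G₁ i j := fun i j => by rw [hG₁]; exact hf₁.skew _ _
  have hd₁ : ∀ i, G₁ i i = 0 := fun i => by rw [hG₁]; exact hf₁.alternating _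
  have hs₂ : G₂ᵀ = G₂ := by rw [hG₂]; ext i j; exact hf₂.symm _ _
  have hnd : ∀ u w, (∀ y, (tv u w) ⬝ᵥ ((G₁ ⊗ₖ G₂) *ᵥ y) = 0) → tv u w = 0 := fun u w h => by
    apply (coord e P).injective
    rw [map_zero]
    refine Elusive.sympB_nondeg _ fun z => ?_
    obtain ⟨y, rfl⟩ := (coord e P).surjective z
    rw [Elusive.sympB_apply, hform, h y, mul_zero]
  have hnd₁ : ∀ u, (∀ u', u ⬝ᵥ (G₁ *ᵥ u') = 0) → u = 0 := fun u h => by
    have h0 : u ᵥ* G₁ = 0 := funext fun k => by
      have := h (Pi.single k 1)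
      rwa [Matrix.dotProduct_mulVec, dotProduct_single_one] at this
    have h1 := hnd u (Pi.single ⟨0, by omega⟩ 1) fun y => by
      rw [Matrix.dotProduct_mulVec, show tv u (Pi.single (⟨0, by omega⟩ : Fin b) (1 : F)) ᵥ* (G₁ ⊗ₖ G₂) =
        tv (u ᵥ* G₁) (Pi.single (⟨0, by omega⟩ : Fin b) (1 : F) ᵥ* G₂) by
          rw [← Matrix.mulVec_transpose, ← Matrix.mulVec_transpose, ← Matrix.mulVec_transpose,
            ← Matrix.kroneckerMap_transpose, kron_tv], h0]
      simp [tv, dotProduct]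
    funext k
    simpa [tv] using congrFun h1 (k, ⟨0, by omega⟩)
  have hnd₂ : ∀ w, (∀ w', w ⬝ᵥ (G₂ *ᵥ w') = 0) → w = 0 := fun w h => by
    have h0 : w ᵥ* G₂ = 0 := funext fun k => by
      have := h (Pi.single k 1)
      rwa [Matrix.dotProduct_mulVec, dotProduct_single_one] at this
    have h1 := hnd (Pi.single ⟨0, by omega⟩ 1) w fun y => by
      rw [Matrix.dotProduct_mulVec, show tv (Pi.single (⟨0, by omega⟩ : Fin a) (1 : F)) w ᵥ* (G₁ ⊗ₖ G₂) =
        tv (Pi.single (⟨0, by omega⟩ : Fin a) (1 : F) ᵥ* G₁) (w ᵥ* G₂) by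
          rw [← Matrix.mulVec_transpose, ← Matrix.mulVec_transpose, ← Matrix.mulVec_transpose,
            ← Matrix.kroneckerMap_transpose, kron_tv], h0]
      simp [tv, dotProduct]
    funext k
    simpa [tv] using congrFun h1 (⟨0, by omega⟩, k)
  constructor
  · -- derangements
    intro hall
    by_contra hnot
    have hfr : Module.finrank F (Fin d ⊕ Fin d → F) = 2 * d := Elusive.TsSymp.finrank_std
    have kill : ∀ (x : GL (Fin d ⊕ Fin d) F) (k : ℕ), x ∈ Cfsg.spGL d F → x ^ r = 1 →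
        rk (Matrix.toLin' (x : Matrix (Fin d ⊕ Fin d) (Fin d ⊕ Fin d) F)) = k → 0 < k →
        (k < 2 * d ∨ r ≠ 2) →
        ∃ (A : Matrix (Fin a) (Fin a) F) (B : Matrix (Fin b) (Fin b) F), (A ^ r) ⊗ₖ (B ^ r) = 1 ∧
          rk (Matrix.toLin' (A ⊗ₖ B)) = k ∧ ∀ u u' w w', (A *ᵥ u) ⬝ᵥ (G₁ *ᵥ (A *ᵥ u')) *
            ((B *ᵥ w) ⬝ᵥ (G₂ *ᵥ (B *ᵥ w'))) = u ⬝ᵥ (G₁ *ᵥ u') * (w ⬝ᵥ (G₂ *ᵥ w')) := by
      intro x k hx hxr hk hk0 hkd
      obtain ⟨g, hg, hgH⟩ := hall x hx ⟨1, by rw [hxr, one_smul]; rfl⟩ fun z hz => by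
        have hsc : ∀ v, Matrix.toLin' (x : Matrix (Fin d ⊕ Fin d) (Fin d ⊕ Fin d) F) v = z • v := fun v => by
          rw [Matrix.toLin'_apply, hz, Matrix.smul_mulVec, Matrix.one_mulVec]
        rcases rk_scalar hsc with h | h
        · omega
        rw [hk, hfr] at h
        have hr' : r ≠ 2 := hkd.resolve_left (by omega)
        obtain ⟨i0⟩ : Nonempty (Fin d) := ⟨⟨0, by omega⟩⟩
        have hzr : z ^ r = 1 := by
          have h1 := congrArg (fun M : GL (Fin d ⊕ Fin d) F => (M : Matrix (Fin d ⊕ Fin d) (Fin d ⊕ Fin d) F) (.inl i0) (.inl i0)) hxr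
          simpa [Units.val_pow_eq_pow_val, hz, smul_pow, Matrix.one_apply] using h1
        have hz2 : z * z = 1 := by
          have h1 : Cfsg.sympForm d F ((x : Matrix (Fin d ⊕ Fin d) (Fin d ⊕ Fin d) F) *ᵥ Pi.single (.inr i0) 1)
              ((x : Matrix (Fin d ⊕ Fin d) (Fin d ⊕ Fin d) F) *ᵥ Pi.single (.inl i0) 1) =
              Cfsg.sympForm d F (Pi.single (.inr i0) 1) (Pi.single (.inl i0) 1) := hx _ _
          rw [hz, Matrix.smul_mulVec, Matrix.one_mulVec, Matrix.smul_mulVec, Matrix.one_mulVec] at h1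
          simpa [Lead.Symp.form_eq, Pi.single_apply] using h1
        obtain ⟨j, hj⟩ := (Fact.out : r.Prime).odd_of_ne_two hr'
        rw [hj, pow_succ, pow_mul, _root_.sq, hz2, one_pow, one_mul] at hzr
        have h0 : Matrix.toLin' (x : Matrix (Fin d ⊕ Fin d) (Fin d ⊕ Fin d) F) - 1 = 0 :=
          LinearMap.ext fun v => by rw [LinearMap.sub_apply, hsc, hzr, one_smul, Module.End.one_apply, sub_self]; rfl
        rw [rk, h0, LinearMap.range_zero, finrank_bot] at hk
        omega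
      obtain ⟨A, B, hAB⟩ := mem_tensor e P hgH
      obtain ⟨K, hK⟩ : ∃ K, K = g⁻¹ * x * g := ⟨_, rfl⟩
      rw [← hK] at hAB
      have hpow : ∀ (j : ℕ) v, ((K ^ j : GL (Fin d ⊕ Fin d) F) : Matrix (Fin d ⊕ Fin d) (Fin d ⊕ Fin d) F) *ᵥ coord e P v =
          coord e P (((A : Matrix (Fin a) (Fin a) F) ⊗ₖ (B : Matrix (Fin b) (Fin b) F)) ^ j *ᵥ v) := by
        intro j
        induction j with
        | zero => intro v; simp
        | succ j ih =>
          intro v
          rw [pow_succ', Units.val_mul, ← Matrix.mulVec_mulVec, ih, hAB, Matrix.mulVec_mulVec, ← pow_succ']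
      refine ⟨A, B, ?_, ?_, fun u u' w w' => ?_⟩
      · rw [← kron_pow]
        refine Matrix.ext_of_mulVec_single fun v => (coord e P).injective ?_
        rw [← hpow, show K ^ r = 1 by
          rw [hK, show g⁻¹ * x * g = g⁻¹ * x * (g⁻¹)⁻¹ by rw [inv_inv], conj_pow, hxr, mul_one, mul_inv_cancel],
          Units.val_one, Matrix.one_mulVec, Matrix.one_mulVec]
      · rw [← hk, ← rk_conj (coord e P) (f := Matrix.toLin' (K : Matrix (Fin d ⊕ Fin d) (Fin d ⊕ Fin d) F))
          (fun v => by rw [Matrix.toLin'_apply, Matrix.toLin'_apply, hAB])]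
        refine (rk_conj (Matrix.GeneralLinearGroup.toLin g).toLinearEquiv fun v => ?_).symm
        change (x : Matrix (Fin d ⊕ Fin d) (Fin d ⊕ Fin d) F) *ᵥ ((g : Matrix (Fin d ⊕ Fin d) (Fin d ⊕ Fin d) F) *ᵥ v) =
          (g : Matrix (Fin d ⊕ Fin d) (Fin d ⊕ Fin d) F) *ᵥ ((K : Matrix (Fin d ⊕ Fin d) (Fin d ⊕ Fin d) F) *ᵥ v)
        rw [Matrix.mulVec_mulVec, Matrix.mulVec_mulVec, ← Units.val_mul, ← Units.val_mul, hK, ← mul_assoc, ← mul_assoc,
          mul_inv_cancel, one_mul]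
      · have hKs : K ∈ Cfsg.spGL d F := hK ▸ mul_mem (mul_mem (inv_mem hg) hx) hg
        have h1 : Cfsg.sympForm d F ((K : Matrix (Fin d ⊕ Fin d) (Fin d ⊕ Fin d) F) *ᵥ coord e P (tv u w))
            ((K : Matrix (Fin d ⊕ Fin d) (Fin d ⊕ Fin d) F) *ᵥ coord e P (tv u' w')) =
            Cfsg.sympForm d F (coord e P (tv u w)) (coord e P (tv u' w')) := hKs _ _
        rw [hAB, hAB, hform, hform, kron_tv, kron_tv, tv_dot, tv_dot] at h1
        exact mul_left_cancel₀ hc0 h1
    -- the three kinds of primes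
    by_cases hr2 : r = 2
    · have ha4 : 4 ≤ a := by
        have : a ≠ 2 := fun h => hnot ⟨hr2, h⟩
        obtain ⟨j, hj⟩ := ha
        omega
      obtain ⟨i0⟩ : Nonempty (Fin d) := ⟨⟨0, by omega⟩⟩
      obtain ⟨s, hs⟩ : ∃ s : Fin d → F, s = fun j => if j = i0 then -1 else 1 := ⟨_, rfl⟩
      have hss : ∀ j, s j * s j = 1 := fun j => by rw [hs]; dsimp only; split_ifs <;> ring
      obtain ⟨M, hM⟩ : ∃ M, M = Matrix.diagonal (Sum.elim s s) := ⟨_, rfl⟩
      have hMM : M * M = 1 := by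
        rw [hM, Matrix.diagonal_mul_diagonal, ← Matrix.diagonal_one]
        congr 1
        funext k
        rcases k with k | k <;> exact hss k
      obtain ⟨A, B, -, hk, -⟩ := kill ⟨M, M, hMM, hMM⟩ 2
        (fun u v => by
          show Cfsg.sympForm d F (M *ᵥ u) (M *ᵥ v) = _
          rw [Lead.Symp.form_eq, Lead.Symp.form_eq]
          refine Finset.sum_congr rfl fun j _ => ?_
          simp only [hM, Matrix.mulVec_diagonal, Sum.elim_inl, Sum.elim_inr]
          linear_combination (u (.inr j) * v (.inl j) - u (.inl j) * v (.inr j)) * hss j)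
        (by rw [hr2, _root_.sq]; exact Units.ext hMM)
        (by
          show rk (Matrix.toLin' M) = 2
          have e1 : Matrix.toLin' M - 1 = Matrix.mulVecLin (Matrix.diagonal (fun k => Sum.elim s s k - 1)) := by
            refine LinearMap.ext fun v => funext fun k => ?_
            simp [hM, Matrix.mulVec_diagonal, sub_mul]
          rw [rk, e1, ← Matrix.rank, Matrix.rank_diagonal, Fintype.card_subtype]
          have h22 : (-1 : F) - 1 ≠ 0 := fun h => h2 (by linear_combination -h)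
          have e2 : (Finset.univ.filter fun k => Sum.elim s s k - 1 ≠ 0) = {Sum.inl i0, Sum.inr i0} := by
            ext k
            rcases k with k | k <;>
              simp only [Finset.mem_filter, Finset.mem_univ, true_and, Sum.elim_inl, Sum.elim_inr, hs,
                Finset.mem_insert, Finset.mem_singleton, Sum.inl.injEq, Sum.inr.injEq, reduceCtorEq, or_false,
                false_or] <;>
              by_cases hki : k = i0 <;> simp [hki, h22]
          rw [e2, Finset.card_pair Sum.inl_ne_inr])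
        two_pos (Or.inl (by omega))
      by_cases hB : ∃ z : F, B = z • 1
      · obtain ⟨z, rfl⟩ := hB
        rw [Matrix.kronecker_smul, ← Matrix.smul_kronecker, rk_kron_one] at hk
        rcases Nat.eq_zero_or_pos (rk (Matrix.toLin' (z • A))) with h | h
        · rw [h, mul_zero] at hk; omega
        · nlinarith
      by_cases hA : ∃ z : F, A = z • 1
      · obtain ⟨z, rfl⟩ := hA
        rw [Matrix.smul_kronecker, ← Matrix.kronecker_smul, rk_one_kron] at hk
        rcases Nat.eq_zero_or_pos (rk (Matrix.toLin' (z • B))) with h | h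
        · rw [h, mul_zero] at hk; omega
        · nlinarith
      · have := le_rk_kron hb (fun z hz => hA ⟨z, hz⟩) (fun z hz => hB ⟨z, hz⟩)
        omega
    by_cases hrp : r = p
    · obtain ⟨i0⟩ : Nonempty (Fin d) := ⟨⟨0, by omega⟩⟩
      obtain ⟨v, hv⟩ : ∃ v : Fin d ⊕ Fin d → F, v = Pi.single (.inl i0) 1 := ⟨_, rfl⟩
      obtain ⟨M, hM⟩ : ∃ M, M = Cfsg.sympTransvection d v (1 : F) := ⟨_, rfl⟩
      have hMx : ∀ u, M *ᵥ u = u + Cfsg.sympForm d F u v • v := fun u => by
        rw [hM, Lead.Symp.trans_mulVec, one_mul]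
      have hpow : ∀ (j : ℕ) u, (M ^ j) *ᵥ u = u + ((j : F) * Cfsg.sympForm d F u v) • v := by
        intro j
        induction j with
        | zero => intro u; simp
        | succ j ih =>
          intro u
          rw [pow_succ, ← Matrix.mulVec_mulVec, hMx, Matrix.mulVec_add, Matrix.mulVec_smul, ih, ih,
            Lead.Symp.form_self, mul_zero, zero_smul, add_zero, add_assoc, ← add_smul]
          congr 2
          push_cast
          ring
      have hMr : M ^ r = 1 := Matrix.ext_of_mulVec_single fun k => by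
        rw [hpow, hrp, CharP.cast_eq_zero F p, zero_mul, zero_smul, add_zero, Matrix.one_mulVec]
      obtain ⟨x, hx⟩ := IsUnit.of_pow_eq_one hMr (Fact.out : r.Prime).ne_zero
      obtain ⟨A, B, -, hk, -⟩ := kill x 1
        (fun u w => by
          show Cfsg.sympForm d F ((x : Matrix (Fin d ⊕ Fin d) (Fin d ⊕ Fin d) F) *ᵥ u)
            ((x : Matrix (Fin d ⊕ Fin d) (Fin d ⊕ Fin d) F) *ᵥ w) = _
          rw [hx, hM]
          exact Lead.Symp.form_preserved (Lead.Symp.trans_mem v 1) u w)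
        (Units.ext (by rw [Units.val_pow_eq_pow_val, hx, hMr]; rfl))
        (by
          have hr' : LinearMap.range (Matrix.toLin' (x : Matrix (Fin d ⊕ Fin d) (Fin d ⊕ Fin d) F) - 1) =
              Submodule.span F {v} := by
            refine le_antisymm ?_ ((Submodule.span_singleton_le_iff_mem _ _).mpr ⟨Pi.single (.inr i0) 1, ?_⟩)
            · rintro _ ⟨u, rfl⟩
              rw [LinearMap.sub_apply, Matrix.toLin'_apply, hx, hMx, Module.End.one_apply, add_sub_cancel_left]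
              exact Submodule.smul_mem _ _ (Submodule.mem_span_singleton_self v)
            · rw [LinearMap.sub_apply, Matrix.toLin'_apply, hx, hMx, Module.End.one_apply, add_sub_cancel_left, hv]
              simp [Lead.Symp.form_eq, Pi.single_apply]
          rw [rk, hr', finrank_span_singleton (by rw [hv]; simp)])
        one_pos (Or.inl (by omega))
      by_cases hB : ∃ z : F, B = z • 1
      · obtain ⟨z, rfl⟩ := hB
        rw [Matrix.kronecker_smul, ← Matrix.smul_kronecker, rk_kron_one] at hk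
        have := Nat.eq_one_of_mul_eq_one_right hk
        omega
      by_cases hA : ∃ z : F, A = z • 1
      · obtain ⟨z, rfl⟩ := hA
        rw [Matrix.smul_kronecker, ← Matrix.kronecker_smul, rk_one_kron] at hk
        have := Nat.eq_one_of_mul_eq_one_right hk
        omega
      · have := le_rk_kron hb (fun z hz => hA ⟨z, hz⟩) (fun z hz => hB ⟨z, hz⟩)
        omega
    -- odd primes different from the characteristic
    have hr := (Fact.out : r.Prime)
    have hr0 : (r : F) ≠ 0 := Elusive.cast_ne_zero (F := F) hrp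
    have hipos : 0 < orderOf (Fintype.card F : ZMod r) := Elusive.orderOf_pos' (F := F) hrp
    obtain ⟨c, hc⟩ : ∃ c, c = if Even (orderOf (Fintype.card F : ZMod r)) then orderOf (Fintype.card F : ZMod r)
      else 2 * orderOf (Fintype.card F : ZMod r) := ⟨_, rfl⟩
    have hc1 : 0 < c ∧ c ≤ 2 * orderOf (Fintype.card F : ZMod r) := by
      rw [hc]; split_ifs <;> omega
    obtain ⟨⟨y, hy⟩, hyo⟩ := exists_prime_orderOf_dvd_card' (G := ↥(Cfsg.spGL d F)) r
      (hΩ.trans (Subgroup.relIndex_dvd_card _ _))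
    rw [← Subgroup.orderOf_coe] at hyo
    change orderOf y = r at hyo
    have hy1 : y ≠ 1 := fun h => by
      rw [h] at hyo
      simp at hyo
      exact hr.ne_one hyo.symm
    have hcd : c ≤ 2 * d := by
      rw [← hfr]
      refine c_le (B := Elusive.sympB d F) (g := Matrix.toLin' (y : Matrix (Fin d ⊕ Fin d) (Fin d ⊕ Fin d) F))
        Elusive.TsSymp.std_alt hr hr2 hr0 ?_ (fun u v => ?_) ?_ hc
      · rw [← Matrix.toLin'_pow, ← Units.val_pow_eq_pow_val, ← hyo, pow_orderOf_eq_one, Units.val_one, Matrix.toLin'_one]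
        rfl
      · rw [Elusive.sympB_apply, Elusive.sympB_apply, Matrix.toLin'_apply, Matrix.toLin'_apply]
        exact hy u v
      · intro h
        refine hy1 (Units.ext (Matrix.toLin'.injective ?_))
        rw [h, Units.val_one, Matrix.toLin'_one]
        rfl
    obtain ⟨x, hx, hxr, hxk⟩ := exists_small_moved (F := F) hr hr2 hr0 hc hcd
    obtain ⟨A, B, hpow, hk, hsim⟩ := kill x c hx hxr hxk hc1.1 (Or.inr hr2)
    have hrk : ∀ {n : ℕ} (M : Matrix (Fin n) (Fin n) F), M ^ r = 1 →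
        orderOf (Fintype.card F : ZMod r) ∣ rk (Matrix.toLin' M) := fun {n} M hM =>
      (moved_facts (B := 0) hr hr2 ⟨hr0, by rw [← Matrix.toLin'_pow, hM, Matrix.toLin'_one]; rfl,
        fun _ _ => rfl⟩).1
    by_cases hB : ∃ z : F, B = z • 1
    · obtain ⟨z, rfl⟩ := hB
      rw [Matrix.kronecker_smul, ← Matrix.smul_kronecker, rk_kron_one] at hk
      rw [smul_pow, one_pow, Matrix.kronecker_smul, ← Matrix.smul_kronecker, ← smul_pow] at hpow
      have hM : (z • A) ^ r = 1 := by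
        ext i j
        have := congrFun (congrFun hpow (i, ⟨0, by omega⟩)) (j, ⟨0, by omega⟩)
        simpa [Matrix.one_apply] using this
      obtain ⟨l, hl⟩ := hrk _ hM
      rw [hl] at hk
      rcases Nat.eq_zero_or_pos l with rfl | hl0
      · simp at hk; omega
      · have h3 : 3 * orderOf (Fintype.card F : ZMod r) ≤ c := hk ▸ Nat.mul_le_mul hb (Nat.le_mul_of_pos_right _ hl0)
        omega
    by_cases hA : ∃ z : F, A = z • 1
    · obtain ⟨z, rfl⟩ := hA
      rw [Matrix.smul_kronecker, ← Matrix.kronecker_smul, rk_one_kron] at hk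
      rw [smul_pow, one_pow, Matrix.smul_kronecker, ← Matrix.kronecker_smul, ← smul_pow] at hpow
      have hM : (z • B) ^ r = 1 := by
        ext i j
        have := congrFun (congrFun hpow (⟨0, by omega⟩, i)) (⟨0, by omega⟩, j)
        simpa [Matrix.one_apply] using this
      obtain ⟨u, u', huu⟩ : ∃ u u', u ⬝ᵥ (G₁ *ᵥ u') ≠ 0 := by
        by_contra! h0
        have := congrFun (hnd₁ (Pi.single ⟨0, by omega⟩ 1) (h0 _)) ⟨0, by omega⟩
        simp at this
      obtain ⟨B₂, hB₂⟩ : ∃ B₂ : LinearMap.BilinForm F (Fin b → F), B₂ = Matrix.toLinearMap₂' F G₂ := ⟨_, rfl⟩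
      have hB₂a : ∀ w w', B₂ w w' = w ⬝ᵥ (G₂ *ᵥ w') := fun w w' => by rw [hB₂, Matrix.toLinearMap₂'_apply']
      have hswap : ∀ w w', B₂ w' w = B₂ w w' := fun w w' => by
        rw [hB₂a, hB₂a, Matrix.dotProduct_mulVec, ← Matrix.mulVec_transpose, hs₂, dotProduct_comm]
      have hiso : ∀ w w', B₂ (Matrix.toLin' (z • B) w) (Matrix.toLin' (z • B) w') = B₂ w w' := fun w w' => by
        have h1 := hsim u u' w w'
        rw [hB₂a, hB₂a, Matrix.toLin'_apply, Matrix.toLin'_apply]
        simp only [Matrix.smul_mulVec, Matrix.one_mulVec, smul_dotProduct, Matrix.mulVec_smul, dotProduct_smul,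
          smul_eq_mul] at h1 ⊢
        refine mul_left_cancel₀ huu ?_
        linear_combination h1
      obtain ⟨hdvd, -, hev⟩ := moved_facts (B := B₂) hr hr2
        ⟨hr0, by rw [← Matrix.toLin'_pow, hM, Matrix.toLin'_one]; rfl, hiso⟩
      obtain ⟨l, hl⟩ := hdvd
      rw [hl] at hk
      rcases Nat.eq_zero_or_pos l with rfl | hl0
      · simp at hk; omega
      have hil := Nat.le_mul_of_pos_right (orderOf (Fintype.card F : ZMod r)) hl0
      have h4 : 2 * (orderOf (Fintype.card F : ZMod r) * l) ≤ c := hk ▸ Nat.mul_le_mul_right _ ha2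
      have hodd' : ¬ Even (orderOf (Fintype.card F : ZMod r)) := fun he => by
        rw [if_pos he] at hc
        omega
      refine hodd' (Eq.subst (motive := fun k => Even k) (show rk (Matrix.toLin' (z • B)) = _ by omega)
        (hev ⟨⟨1, fun w w' => by rw [one_mul]; exact hswap w w'⟩,
          fun w h => hnd₂ w fun w' => (hB₂a w w').symm.trans (h w')⟩ (by omega)))
    · -- both factors non-scalar
      have := le_rk_kron hb (fun z hz => hA ⟨z, hz⟩) (fun z hz => hB ⟨z, hz⟩)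
      obtain ⟨w, w', hww⟩ : ∃ w w', w ⬝ᵥ (G₂ *ᵥ w') ≠ 0 := by
        by_contra! h0
        have := congrFun (hnd₂ (Pi.single ⟨0, by omega⟩ 1) (h0 _)) ⟨0, by omega⟩
        simp at this
      obtain ⟨ν, hν⟩ : ∃ ν, ν = (B *ᵥ w) ⬝ᵥ (G₂ *ᵥ (B *ᵥ w')) := ⟨_, rfl⟩
      obtain ⟨u₀, u₀', huu⟩ : ∃ u u', u ⬝ᵥ (G₁ *ᵥ u') ≠ 0 := by
        by_contra! h0
        have := congrFun (hnd₁ (Pi.single ⟨0, by omega⟩ 1) (h0 _)) ⟨0, by omega⟩
        simp at this
      have hν0 : ν ≠ 0 := fun h => by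
        have h1 := hsim u₀ u₀' w w'
        rw [← hν, h, mul_zero] at h1
        exact mul_ne_zero huu hww h1.symm
      obtain ⟨μ, hμ⟩ : ∃ μ, μ = (w ⬝ᵥ (G₂ *ᵥ w')) / ν := ⟨_, rfl⟩
      have hμ0 : μ ≠ 0 := hμ ▸ div_ne_zero hww hν0
      obtain ⟨B₁, hB₁⟩ : ∃ B₁ : LinearMap.BilinForm F (Fin a → F), B₁ = Matrix.toLinearMap₂' F G₁ := ⟨_, rfl⟩
      have hB₁a : ∀ u u', B₁ u u' = u ⬝ᵥ (G₁ *ᵥ u') := fun u u' => by rw [hB₁, Matrix.toLinearMap₂'_apply']
      have halt : SpCount.IsAltND B₁ := ⟨fun u => by rw [hB₁a]; exact Cfsg.Agent.Small.SpJordan.alt_self hs₁ hd₁ u,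
        fun u h => hnd₁ u fun u' => (hB₁a u u').symm.trans (h u')⟩
      have hAμ : ∀ u u', B₁ (A *ᵥ u) (A *ᵥ u') = μ * B₁ u u' := fun u u' => by
        rw [hB₁a, hB₁a, hμ, div_mul_eq_mul_div, eq_div_iff hν0, hν, hsim, mul_comm]
      obtain ⟨β, hβ⟩ : ∃ β, A ^ r = β • 1 := by
        obtain ⟨t, ht⟩ : ∃ t, t = (B ^ r) ⟨0, by omega⟩ ⟨0, by omega⟩ := ⟨_, rfl⟩
        have h1 : ∀ i j, (A ^ r) i j * t = (1 : Matrix (Fin a) (Fin a) F) i j := fun i j => by
          have := congrFun (congrFun hpow (i, ⟨0, by omega⟩)) (j, ⟨0, by omega⟩)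
          simpa [ht, Matrix.one_apply] using this
        refine ⟨t⁻¹, Matrix.ext fun i j => ?_⟩
        have ht0 : t ≠ 0 := fun h => by
          have := h1 ⟨0, by omega⟩ ⟨0, by omega⟩
          simp [h] at this
        rw [Matrix.smul_apply, ← h1, smul_eq_mul]
        field_simp
      have hApow : ∀ (k : ℕ) u u', B₁ (A ^ k *ᵥ u) (A ^ k *ᵥ u') = μ ^ k * B₁ u u' := by
        intro k
        induction k with
        | zero => intro u u'; simp
        | succ k ih => intro u u'; rw [pow_succ', ← Matrix.mulVec_mulVec, ← Matrix.mulVec_mulVec, hAμ, ih, pow_succ']; ring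
      have hμr : μ ^ r = β * β := by
        have h1 := hApow r u₀ u₀'
        rw [hβ, Matrix.smul_mulVec, Matrix.one_mulVec, Matrix.smul_mulVec, Matrix.one_mulVec, map_smul, map_smul,
          LinearMap.smul_apply, smul_eq_mul, smul_eq_mul, ← mul_assoc] at h1
        exact mul_right_cancel₀ (by rw [hB₁a]; exact huu) h1.symm
      have hca : c ≤ a := by
        have h := c_le (g := Matrix.toLin' (μ⁻¹ • (A * A))) halt hr hr2 hr0 ?_ (fun u u' => ?_) ?_ hc
        · rwa [Module.finrank_fin_fun] at h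
        · rw [← Matrix.toLin'_pow, smul_pow, ← pow_two, ← pow_mul, mul_comm 2 r, pow_mul, hβ, smul_pow, one_pow,
            smul_smul, inv_pow, hμr, pow_two, inv_mul_cancel₀ (hμr ▸ pow_ne_zero _ hμ0), one_smul, Matrix.toLin'_one]
          rfl
        · rw [Matrix.toLin'_apply, Matrix.toLin'_apply, Matrix.smul_mulVec, Matrix.smul_mulVec, ← pow_two, map_smul,
            map_smul, LinearMap.smul_apply, hApow, smul_eq_mul, smul_eq_mul]
          field_simp
        · intro h
          have hA2 : A * A = μ • 1 := by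
            have h1 : μ⁻¹ • (A * A) = 1 := Matrix.toLin'.injective (by rw [h, Matrix.toLin'_one]; rfl)
            rw [← h1, smul_smul, mul_inv_cancel₀ hμ0, one_smul]
          obtain ⟨k, hk'⟩ := hr.odd_of_ne_two hr2
          refine hA ⟨(μ ^ k)⁻¹ * β, ?_⟩
          have h1 : A ^ r = μ ^ k • A := by
            rw [hk', pow_succ, pow_mul, pow_two, hA2, smul_pow, one_pow, Matrix.smul_mul, Matrix.one_mul]
          rw [mul_smul, ← hβ, h1, smul_smul, inv_mul_cancel₀ (pow_ne_zero _ hμ0), one_smul]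
      omega
  · -- involutions for a = 2
    rintro ⟨rfl, rfl⟩ x hx ⟨z, hz⟩ hns
    obtain rfl : b = d := by omega
    obtain ⟨i0⟩ : Nonempty (Fin b) := ⟨⟨0, by omega⟩⟩
    rw [_root_.sq, Units.val_mul] at hz
    have hxx : ∀ v, (x : Matrix (Fin b ⊕ Fin b) (Fin b ⊕ Fin b) F) *ᵥ
        ((x : Matrix (Fin b ⊕ Fin b) (Fin b ⊕ Fin b) F) *ᵥ v) = z • v := fun v => by
      rw [Matrix.mulVec_mulVec, hz, Matrix.smul_mulVec, Matrix.one_mulVec]
    have hxf : ∀ u v, Cfsg.sympForm b F ((x : Matrix (Fin b ⊕ Fin b) (Fin b ⊕ Fin b) F) *ᵥ u)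
        ((x : Matrix (Fin b ⊕ Fin b) (Fin b ⊕ Fin b) F) *ᵥ v) = Cfsg.sympForm b F u v := fun u v => hx u v
    have hB : ∀ (t : F) (u v : Fin b ⊕ Fin b → F), Cfsg.sympForm b F (t • u) v = t * Cfsg.sympForm b F u v :=
      fun t u v => by rw [← Elusive.sympB_apply, map_smul, LinearMap.smul_apply, Elusive.sympB_apply, smul_eq_mul]
    have hB' : ∀ (t : F) (u v : Fin b ⊕ Fin b → F), Cfsg.sympForm b F u (t • v) = t * Cfsg.sympForm b F u v :=
      fun t u v => by rw [← Elusive.sympB_apply, map_smul, Elusive.sympB_apply, smul_eq_mul]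
    have hz2 : z * z = 1 := by
      have h1 := hxf (Pi.single (.inr i0) 1) (Pi.single (.inl i0) 1)
      rw [← hxf, hxx, hxx, hB, hB'] at h1
      simpa [Lead.Symp.form_eq, Pi.single_apply] using h1
    have hadj : ∀ u v, Cfsg.sympForm b F ((x : Matrix (Fin b ⊕ Fin b) (Fin b ⊕ Fin b) F) *ᵥ u) v =
        z * Cfsg.sympForm b F u ((x : Matrix (Fin b ⊕ Fin b) (Fin b ⊕ Fin b) F) *ᵥ v) := fun u v => by
      rw [← hxf ((x : Matrix (Fin b ⊕ Fin b) (Fin b ⊕ Fin b) F) *ᵥ u) v, hxx, hB]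
    have hg : G₁ 0 1 ≠ 0 := fun h => by
      have h1 := hnd₁ (Pi.single 0 1) fun u' => by
        rw [single_one_dotProduct, Matrix.mulVec, dotProduct, Fin.sum_univ_two, h, hd₁]
        ring
      simpa using congrFun h1 0
    rcases mul_self_eq_one_iff.mp hz2 with rfl | rfl
    · -- an involution
      rw [one_smul] at hz
      obtain ⟨g, hg', s, hs⟩ := SkewBlocks.exists_invol_normal h2 hz fun u v => by rw [hadj, one_mul]
      have hss : ∀ j, s j * s j = 1 := by
        have h1 : (g : Matrix (Fin b ⊕ Fin b) (Fin b ⊕ Fin b) F) *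
            (Matrix.diagonal (Sum.elim s s) * Matrix.diagonal (Sum.elim s s)) =
            (g : Matrix (Fin b ⊕ Fin b) (Fin b ⊕ Fin b) F) * 1 := by
          rw [← mul_assoc, ← hs, mul_assoc, ← hs, ← mul_assoc, hz, one_mul, mul_one]
        have h3 := g.isUnit.mul_left_cancel h1
        intro j
        simpa [Matrix.diagonal_mul_diagonal] using congrFun (congrFun h3 (.inl j)) (.inl j)
      obtain ⟨B₂, hB₂⟩ : ∃ B₂ : LinearMap.BilinForm F (Fin b → F), B₂ = Matrix.toLinearMap₂' F G₂ := ⟨_, rfl⟩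
      have hB₂a : ∀ w w', B₂ w w' = w ⬝ᵥ (G₂ *ᵥ w') := fun w w' => by rw [hB₂, Matrix.toLinearMap₂'_apply']
      haveI : Invertible (2 : F) := invertibleOfNonzero h2
      obtain ⟨w₀, hw₀⟩ := LinearMap.BilinForm.exists_orthogonal_basis (B := B₂) ⟨fun w w' => by
        show B₂ w w' = B₂ w' w
        rw [hB₂a, hB₂a, Matrix.dotProduct_mulVec, ← Matrix.mulVec_transpose, hs₂, dotProduct_comm]⟩
      obtain ⟨w, hw⟩ : ∃ w : Module.Basis (Fin b) F (Fin b → F),
          w = w₀.reindex (finCongr (Module.finrank_fin_fun F)) := ⟨_, rfl⟩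
      have horth : ∀ i j, i ≠ j → (w i) ⬝ᵥ (G₂ *ᵥ w j) = 0 := fun i j hij => by
        rw [← hB₂a, hw, Module.Basis.reindex_apply, Module.Basis.reindex_apply]
        exact hw₀ (fun h => hij ((finCongr _).symm.injective h))
      have hq0 : ∀ j, (w j) ⬝ᵥ (G₂ *ᵥ w j) ≠ 0 := fun j h => by
        refine w.ne_zero j (hnd₂ _ fun v => ?_)
        rw [← hB₂a, ← w.sum_repr v, map_sum]
        refine Finset.sum_eq_zero fun k _ => ?_
        rw [map_smul, hB₂a]
        rcases eq_or_ne j k with rfl | hjk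
        · rw [h, smul_zero]
        · rw [horth j k hjk, smul_zero]
      obtain ⟨T, hT⟩ : ∃ T, T = LinearMap.toMatrix' (w.constr F fun j => s j • w j) := ⟨_, rfl⟩
      have hTw : ∀ j, T *ᵥ w j = s j • w j := fun j => by
        rw [hT, LinearMap.toMatrix'_mulVec, Module.Basis.constr_basis]
      have hTT : T * T = 1 := by
        refine Matrix.toLin'.injective (w.ext fun j => ?_)
        rw [Matrix.toLin'_apply, ← Matrix.mulVec_mulVec, hTw, Matrix.mulVec_smul, hTw, smul_smul, hss, one_smul,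
          Matrix.toLin'_one, LinearMap.id_apply]
      obtain ⟨K, hKH, hK⟩ := exists_tensor e P 1 ⟨T, T, hTT, hTT⟩
      obtain ⟨τ, hτ⟩ : ∃ τ : Fin b → F, ∀ j, c0 * (-(G₁ 0 1)) * τ j * ((w j) ⬝ᵥ (G₂ *ᵥ w j)) = 1 :=
        ⟨fun j => (c0 * (-(G₁ 0 1)) * ((w j) ⬝ᵥ (G₂ *ᵥ w j)))⁻¹, fun j => by
          rw [mul_right_comm]
          exact mul_inv_cancel₀ (mul_ne_zero (mul_ne_zero hc0 (neg_ne_zero.mpr hg)) (hq0 j))⟩
      obtain ⟨g', hg'', hs'⟩ := SkewBlocks.exists_conj
        (Sum.elim (fun j => coord e P (tv (τ j • Pi.single 0 1) (w j))) fun j => coord e P (tv (Pi.single 1 1) (w j)))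
        (fun i j => by
          simp only [Sum.elim_inl, hform, tv_dot, Matrix.mulVec_smul, smul_dotProduct, dotProduct_smul,
            single_one_dotProduct, Matrix.mulVec_single_one, Matrix.col_apply, hd₁, smul_zero, zero_mul, mul_zero])
        (fun i j => by
          simp only [Sum.elim_inr, hform, tv_dot, single_one_dotProduct, Matrix.mulVec_single_one, Matrix.col_apply,
            hd₁, zero_mul, mul_zero])
        (fun i j => by
          simp only [Sum.elim_inl, Sum.elim_inr, hform, tv_dot, Matrix.mulVec_smul, dotProduct_smul,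
            single_one_dotProduct, Matrix.mulVec_single_one, Matrix.col_apply, smul_eq_mul, hs₁ 0 1]
          split_ifs with hij
          · subst hij
            rw [← hτ i]
            ring
          · rw [horth i j hij, mul_zero, mul_zero])
        (K : Matrix (Fin b ⊕ Fin b) (Fin b ⊕ Fin b) F) (Matrix.diagonal (Sum.elim s s)) (by
          rintro (j | j)
          all_goals
            simp only [Sum.elim_inl, Sum.elim_inr, hK, kron_tv, Units.val_one, Matrix.one_mulVec, hTw,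
              Fintype.sum_sum_type, Matrix.diagonal_apply, Sum.inl.injEq, Sum.inr.injEq, reduceCtorEq, if_false,
              zero_smul, Finset.sum_const_zero, add_zero, zero_add, ite_smul, Finset.sum_ite_eq', Finset.mem_univ,
              if_true]
            rw [← LinearEquiv.map_smul (coord e P)]
            congr 1
            funext k
            simp [tv]
            ring)
      refine ⟨g * g'⁻¹, mul_mem hg' (inv_mem hg''), ?_⟩
      have e1 : g⁻¹ * x * g = g'⁻¹ * K * g' := Units.ext (by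
        rw [mul_assoc, mul_assoc, Units.val_mul, Units.val_mul, Units.val_mul, Units.val_mul, hs, hs', ← mul_assoc,
          ← mul_assoc, ← Units.val_mul, ← Units.val_mul, inv_mul_cancel, inv_mul_cancel])
      rw [show (g * g'⁻¹)⁻¹ * x * (g * g'⁻¹) = g' * (g⁻¹ * x * g) * g'⁻¹ by group, e1,
        show g' * (g'⁻¹ * K * g') * g'⁻¹ = K by group]
      exact hKH
    · -- a square root of minus one
      obtain ⟨g, hg', hs⟩ := SkewBlocks.exists_skew_normal (ν := (-1 : F)) (neg_ne_zero.mpr one_ne_zero) h2 hz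
        fun u v => by rw [hadj, neg_one_mul]
      obtain ⟨S, hS'⟩ : ∃ S : Matrix (Fin 2) (Fin 2) F, S = !![0, 1; -1, 0] := ⟨_, rfl⟩
      have hSS : S * S = (-1 : F) • 1 := by
        rw [hS']; ext i j; fin_cases i <;> fin_cases j <;> simp [Matrix.mul_apply, Fin.sum_univ_two]
      have hSG : Sᵀ * G₁ * S = G₁ := by
        rw [hS']; ext i j; fin_cases i <;> fin_cases j <;>
          simp [Matrix.mul_apply, Fin.sum_univ_two, hd₁, hs₁ 0 1]
      obtain ⟨K, hKH, hK⟩ := exists_tensor e P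
        ⟨S, -S, by rw [mul_neg, hSS, neg_one_smul, neg_neg], by rw [neg_mul, hSS, neg_one_smul, neg_neg]⟩ 1
      simp only [Units.val_one] at hK
      have hKK : (K : Matrix (Fin b ⊕ Fin b) (Fin b ⊕ Fin b) F) * (K : Matrix (Fin b ⊕ Fin b) (Fin b ⊕ Fin b) F) =
          (-1 : F) • 1 := by
        refine Matrix.ext_of_mulVec_single fun k => ?_
        obtain ⟨v, hv⟩ := (coord e P).surjective (Pi.single k 1)
        rw [← hv, ← Matrix.mulVec_mulVec, hK, hK, Matrix.mulVec_mulVec, ← Matrix.mul_kronecker_mul, hSS, one_mul,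
          Matrix.smul_kronecker, Matrix.one_kronecker_one, Matrix.smul_mulVec, Matrix.one_mulVec, map_smul,
          Matrix.smul_mulVec, Matrix.one_mulVec]
      have hKf : ∀ u v, Cfsg.sympForm b F ((K : Matrix (Fin b ⊕ Fin b) (Fin b ⊕ Fin b) F) *ᵥ u)
          ((K : Matrix (Fin b ⊕ Fin b) (Fin b ⊕ Fin b) F) *ᵥ v) = Cfsg.sympForm b F u v := fun u v => by
        obtain ⟨u, rfl⟩ := (coord e P).surjective u
        obtain ⟨v, rfl⟩ := (coord e P).surjective v
        rw [hK, hK, hform, hform, ← Matrix.vecMul_transpose, ← Matrix.dotProduct_mulVec, Matrix.mulVec_mulVec,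
          Matrix.mulVec_mulVec, ← Matrix.kroneckerMap_transpose, ← Matrix.mul_kronecker_mul,
          ← Matrix.mul_kronecker_mul, hSG, Matrix.transpose_one, one_mul, mul_one]
      obtain ⟨g', hg'', hs'⟩ := SkewBlocks.exists_skew_normal (ν := (-1 : F)) (neg_ne_zero.mpr one_ne_zero) h2 hKK
        fun u v => by
          rw [← hKf ((K : Matrix (Fin b ⊕ Fin b) (Fin b ⊕ Fin b) F) *ᵥ u) v, Matrix.mulVec_mulVec, hKK,
            Matrix.smul_mulVec, Matrix.one_mulVec, hB, neg_one_mul]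
      refine ⟨g * g'⁻¹, mul_mem hg' (inv_mem hg''), ?_⟩
      have e1 : g⁻¹ * x * g = g'⁻¹ * K * g' := Units.ext (by
        rw [mul_assoc, mul_assoc, Units.val_mul, Units.val_mul, Units.val_mul, Units.val_mul, hs, hs', ← mul_assoc,
          ← mul_assoc, ← Units.val_mul, ← Units.val_mul, inv_mul_cancel, inv_mul_cancel])
      rw [show (g * g'⁻¹)⁻¹ * x * (g * g'⁻¹) = g' * (g⁻¹ * x * g) * g'⁻¹ by group, e1,
        show g' * (g'⁻¹ * K * g') * g'⁻¹ = K by group]
      exact hKH

end Cfsg.Agent.S5980
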