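import Cfsg.Statements.S5983
import Cfsg.Agent.Lib.Classical.Elusive.CharTwoForms
-- import your own Cfsg.Agent.* helpers here

set_option autoImplicit false
open scoped MatrixGroups
open Cfsg

namespace Cfsg.Agent.S5983

open Cfsg.Agent.Classical in
/-- Elements of prime order of PSp_n(q), q even, and the subgroups of orthogonal type. Here `T = Sp_{2d}(F)` for a field `F` of characteristic 2 with `q` elements (`d ≥ 2`, `(d, q) ≠ (2, 2)`), realised as the invertible matrices preserving the standard alternating form; `Q` is a non-degenerate quadratic form on `F^{2d}` whose polar form is that alternating form, and `H` is the subgroup of `T` preserving `Q` up to a scalar (equivalently preserving `Q`) — a subgroup of type O^±_{2d}(q) (maximality is not assumed); `Q` is of plus type when `F^{2d}` contains a `d`-dimensional subspace on which `Q` vanishes, of minus type otherwise. Ω is the set of cosets of `H` in `T`, so an element of `T` of prime order `r` (`x ∈ T` with `x^r` scalar, `x` not scalar) fixes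 a point of Ω exactly when some `T`-conjugate of `x` preserves `Q`. Let `r` be a prime dividing the index of `H`. Then every element of `T` of order `r` fixes a point of Ω if and only if `r = 2` and either `Q` is of plus type or `d` is odd. -/
theorem result {F : Type*} [Field F] [Fintype F] {p : ℕ} [Fact p.Prime] [CharP F p] {q : ℕ} (hq : Fintype.card F = q)
    (hp : p = 2) (d : ℕ) (hd : 2 ≤ d) (hT : (d, q) ≠ (2, 2)) (Q : (Fin d ⊕ Fin d → F) → F) (hQ : Cfsg.Geo.IsNondegenerateQuadraticForm Q)
    (hQf : ∀ u v, QuadraticMap.polar Q u v = Cfsg.sympForm d F u v)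
    (r : ℕ) [Fact r.Prime]
    (hΩ : r ∣ (Cfsg.Geo.quadSimilarityGroup Q).relIndex (Cfsg.spGL d F)) :
    (∀ x ∈ Cfsg.spGL d F, (∃ z : F, ((x ^ r : GL (Fin d ⊕ Fin d) F) : Matrix (Fin d ⊕ Fin d) (Fin d ⊕ Fin d) F) = z • (1 : Matrix (Fin d ⊕ Fin d) (Fin d ⊕ Fin d) F)) →
      (∀ z : F, (x : Matrix (Fin d ⊕ Fin d) (Fin d ⊕ Fin d) F) ≠ z • (1 : Matrix (Fin d ⊕ Fin d) (Fin d ⊕ Fin d) F)) →
      ∃ g ∈ Cfsg.spGL d F, g⁻¹ * x * g ∈ Cfsg.Geo.quadSimilarityGroup Q) ↔
    (r = 2 ∧ (Cfsg.Geo.IsPlusTypeOn Q ⊤ ∨ Odd d)) := by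
  subst hp
  have h2 : (2 : F) = 0 := CharTwo.two_eq_zero
  obtain ⟨Qf, rfl, -⟩ := ONotMax.exists_qform hQ
  have hB : CharTwoQuad.PolarSymp Qf := hQf
  have hd1 : 1 ≤ d := by omega
  have hpnd := CharTwoQuad.pnd_of_polarSymp hB
  have hV : Module.finrank F (Fin d ⊕ Fin d → F) = 2 * d := by
    rw [Module.finrank_fintype_fun_eq_card, Fintype.card_sum, Fintype.card_fin]; ring
  have hcard : Fintype.card (Fin d ⊕ Fin d) = 2 * d := by rw [Fintype.card_sum, Fintype.card_fin]; ring
  have hplus : Cfsg.Geo.IsPlusTypeOn ⇑Qf ⊤ ↔ CharTwoQuad.zeros Qf = CharTwoQuad.plusN (Fintype.card F) d :=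
    CharTwoQuad.isPlus_iff hpnd hd1 hcard
  have hpm := CharTwoQuad.plus_ne_minus (q := Fintype.card F) Fintype.one_lt_card hd1
  have hne := CharTwoQuad.exists_nonzero_value hpnd (by omega)
  have hBp : CharTwoQuad.PolarSymp (CharTwoQuad.plusForm d F) := CharTwoQuad.polar_plusForm h2
  constructor
  · intro hall
    rcases eq_or_ne r 2 with rfl | hr2
    · refine ⟨rfl, ?_⟩
      by_contra hcon
      rw [not_or, Nat.not_odd_iff_even, hplus] at hcon
      obtain ⟨hnp, k, hk⟩ := hcon
      subst hk
      obtain ⟨x, hx, hx2, hx1, hts, -⟩ := CharTwoQuad.exists_ts_involution (F := F) h2 (k := k) (by omega)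
      simp only [← CharTwoQuad.coe_plusForm (d := k + k) (F := F)] at hx hts
      have hxi := CharTwoQuad.mem_isometry.mp hx
      have hxs := CharTwoQuad.isometry_mem_spGL hBp hxi
      obtain ⟨Q', hB', hz', hinv⟩ := (CharTwoQuad.conj_iff h2 hB hd1 hxs).mp
        (hall x hxs ⟨1, by rw [hx2, Units.val_one, one_smul]⟩ fun z hz => hx1
          (CharTwoQuad.scalar_eq_one h2 (CharTwoQuad.exists_nonzero_value CharTwoQuad.plusForm_pnd (by omega)) hxi hz))
      refine hnp ?_
      let g : Module.End F (Fin (k + k) ⊕ Fin (k + k) → F) :=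
        Matrix.mulVecLin (x : Matrix (Fin (k + k) ⊕ Fin (k + k)) (Fin (k + k) ⊕ Fin (k + k)) F)
      have hgg : ∀ v, g (g v) = v := fun v => by
        simp only [g, Matrix.mulVecLin_apply, Matrix.mulVec_mulVec]
        rw [← _root_.sq, ← Units.val_pow_eq_pow_val, hx2, Units.val_one, Matrix.one_mulVec]
      rw [← hz']
      -- the two invariant forms agree on the fixed space
      refine (CharTwoQuad.fix_ts h2 (CharTwoQuad.pnd_of_polarSymp hB') hd1 hV hgg hinv fun v hv => ?_).2
      have hadd : ∀ a b, (Q' - CharTwoQuad.plusForm (k + k) F) (a + b) =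
          (Q' - CharTwoQuad.plusForm (k + k) F) a + (Q' - CharTwoQuad.plusForm (k + k) F) b := fun a b => by
        have e := (hB' a b).trans (hBp a b).symm
        simp only [QuadraticMap.polar] at e
        simp only [QuadraticMap.sub_apply]
        linear_combination e
      -- the fixed space is the image of `g + 1`
      let a : Module.End F (Fin (k + k) ⊕ Fin (k + k) → F) := g + LinearMap.id
      obtain ⟨w, hw⟩ : ∃ w, g w + w = v := by
        have hneg : ∀ u : Fin (k + k) ⊕ Fin (k + k) → F, -u = u := fun u => by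
          rw [neg_eq_iff_add_eq_zero, ← two_smul F u, h2, zero_smul]
        have hle : LinearMap.range a ≤ LinearMap.ker a := by
          rintro _ ⟨u, rfl⟩
          rw [LinearMap.mem_ker]
          show g (g u + u) + (g u + u) = 0
          rw [map_add, hgg, add_comm u, ← two_smul F (g u + u), h2, zero_smul]
        have hkd : Module.finrank F (LinearMap.ker a) ≤ k + k := by
          have := Witt.finrank_le_half (CharTwoQuad.plusForm (k + k) F) (CharTwoQuad.nondeg CharTwoQuad.plusForm_pnd)
            (W := LinearMap.ker a) fun u hu => hts u (by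
              have h0 : g u + u = 0 := hu
              rw [add_eq_zero_iff_eq_neg, hneg] at h0
              exact h0)
          omega
        have h1 := LinearMap.finrank_range_add_finrank_ker a
        have h3 := Submodule.finrank_mono hle
        rw [hV] at h1
        have heq : LinearMap.range a = LinearMap.ker a := Submodule.eq_of_le_of_finrank_eq hle (by omega)
        have hmem : v ∈ LinearMap.ker a := by
          rw [LinearMap.mem_ker]
          show g v + v = 0
          rw [hv, ← two_smul F v, h2, zero_smul]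
        rw [← heq] at hmem
        exact hmem
      have e1 := hadd (g w) w
      have es : ∀ u, (Q' - CharTwoQuad.plusForm (k + k) F) u = Q' u - CharTwoQuad.plusForm (k + k) F u := fun u => rfl
      rw [hw, es, es, es, hts v hv, show Q' (g w) = Q' w from hinv w,
        show CharTwoQuad.plusForm (k + k) F (g w) = CharTwoQuad.plusForm (k + k) F w from hxi w] at e1
      linear_combination e1 + (Q' w - CharTwoQuad.plusForm (k + k) F w) * h2
    · exfalso
      have hr : r.Prime := Fact.out
      rcases CharTwoQuad.dvd_of_dvd_index h2 hB hd1 hr hr2 hΩ with ⟨hz, hdvd⟩ | ⟨hz, hdvd⟩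
      · have hBA : SpCount.IsAltND (QuadraticMap.polarBilin Qf) := ⟨fun v => by
          rw [QuadraticMap.polarBilin_apply_apply, QuadraticMap.polar_self, two_nsmul]
          exact CharTwoQuad.add_self' h2 _, hpnd⟩
        obtain ⟨g, hgr, hgfix, hgB⟩ := CharTwoQuad.exists_fixfree_isom h2 hBA hd1 hV hr hdvd
        set x := CharTwoQuad.glOf g r hr.ne_zero hgr with hxdef
        have hxv : ∀ v, Matrix.mulVec (x : Matrix (Fin d ⊕ Fin d) (Fin d ⊕ Fin d) F) v = g v := fun v => by
          rw [hxdef, CharTwoQuad.glOf_mulVec]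
        have hxs : x ∈ Cfsg.spGL d F := fun u v => by
          show Cfsg.sympForm d F (Matrix.mulVec (x : Matrix (Fin d ⊕ Fin d) (Fin d ⊕ Fin d) F) u)
            (Matrix.mulVec (x : Matrix (Fin d ⊕ Fin d) (Fin d ⊕ Fin d) F) v) = _
          rw [hxv, hxv, ← hB, ← hB]
          exact hgB u v
        have hxr := CharTwoQuad.glOf_pow hr.ne_zero hgr
        rw [← hxdef] at hxr
        obtain ⟨Q', hB', hz', hinv⟩ := (CharTwoQuad.conj_iff h2 hB hd1 hxs).mp
          (hall x hxs ⟨1, by rw [hxr, Units.val_one, one_smul]⟩ fun z hzz => by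
            obtain ⟨v, hv⟩ := hne
            have hv0 : v ≠ 0 := fun h => hv (by rw [h, QuadraticMap.map_zero])
            have e : ∀ w, z • w = g w := fun w => by rw [← hxv, hzz, Matrix.smul_mulVec, Matrix.one_mulVec]
            have e2 := hgB v
            obtain ⟨w, hw⟩ : ∃ w, QuadraticMap.polarBilin Qf v w ≠ 0 := by
              by_contra hc; push Not at hc; exact hv0 (hpnd v hc)
            have e3 := hgB v w
            rw [← e, ← e, map_smul, map_smul, LinearMap.smul_apply, smul_eq_mul, smul_eq_mul] at e3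
            have hz1 : z = 1 := sub_eq_zero.mp (mul_self_eq_zero.mp ((mul_eq_zero.mp
              (show (z - 1) * (z - 1) * QuadraticMap.polarBilin Qf v w = 0 by
                linear_combination e3 + (1 - z) * QuadraticMap.polarBilin Qf v w * h2)).resolve_right hw))
            exact hv0 (hgfix v (by rw [← e, hz1, one_smul])))
        have hd := CharTwoQuad.dvd_zeros hgr hgfix fun v => by rw [← hxv]; exact hinv v
        rw [hz', hz] at hd
        exact CharTwoQuad.not_dvd_plus Fintype.card_pos hd1 hr hr2 hdvd hd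
      · obtain ⟨x, hx, hxr, hfix⟩ := CharTwoQuad.exists_fixfree_plus (F := F) hd1 hr hdvd
        rw [← CharTwoQuad.coe_plusForm] at hx
        have hxi := CharTwoQuad.mem_isometry.mp hx
        have hxs := CharTwoQuad.isometry_mem_spGL hBp hxi
        have hnp := CharTwoQuad.exists_nonzero_value (Q := CharTwoQuad.plusForm d F) CharTwoQuad.plusForm_pnd (by omega)
        have hx1 : x ≠ 1 := fun h => by
          obtain ⟨v, hv⟩ := hnp
          exact hv (by rw [hfix v (by rw [h, Units.val_one, Matrix.one_mulVec]), QuadraticMap.map_zero])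
        obtain ⟨Q', hB', hz', hinv⟩ := (CharTwoQuad.conj_iff h2 hB hd1 hxs).mp
          (hall x hxs ⟨1, by rw [hxr, Units.val_one, one_smul]⟩
            fun z hzz => hx1 (CharTwoQuad.scalar_eq_one h2 hnp hxi hzz))
        have e : Q' = CharTwoQuad.plusForm d F := CharTwoQuad.eq_of_fixfree
          (g := Matrix.mulVecLin (x : Matrix (Fin d ⊕ Fin d) (Fin d ⊕ Fin d) F)) hfix hinv hxi
          fun u v => (hB' u v).trans (hBp u v).symm
        rw [e, CharTwoQuad.zeros_plusForm, hz] at hz'
        exact hpm hz'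
  · rintro ⟨rfl, hor⟩ x hx hz hns
    let g : Module.End F (Fin d ⊕ Fin d → F) := Matrix.mulVecLin (x : Matrix (Fin d ⊕ Fin d) (Fin d ⊕ Fin d) F)
    have hg : ∀ v, g (g v) = v := by
      obtain ⟨z, hz⟩ := hz
      intro v
      have h1 : Matrix.mulVec ((x ^ 2 : GL (Fin d ⊕ Fin d) F) : Matrix (Fin d ⊕ Fin d) (Fin d ⊕ Fin d) F) v = z • v := by
        rw [hz, Matrix.smul_mulVec, Matrix.one_mulVec]
      have hx2 : ∀ w, g (g w) = z • w := fun w => by
        simp only [g, Matrix.mulVecLin_apply, Matrix.mulVec_mulVec]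
        rw [← _root_.sq, ← Units.val_pow_eq_pow_val, hz, Matrix.smul_mulVec, Matrix.one_mulVec]
      obtain ⟨v₀, hv₀⟩ := hne
      obtain ⟨w, hw⟩ : ∃ w, QuadraticMap.polarBilin Qf v₀ w ≠ 0 := by
        by_contra hc; push Not at hc
        exact hv₀ (by rw [hpnd v₀ hc, QuadraticMap.map_zero])
      have e3 : QuadraticMap.polar Qf (g (g v₀)) (g (g w)) = QuadraticMap.polar Qf v₀ w :=
        (CharTwoQuad.spGL_polar hB hx _ _).trans (CharTwoQuad.spGL_polar hB hx _ _)
      rw [hx2, hx2, QuadraticMap.polar_smul_left, QuadraticMap.polar_smul_right, smul_eq_mul, smul_eq_mul] at e3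
      have hz1 : z = 1 := sub_eq_zero.mp (mul_self_eq_zero.mp ((mul_eq_zero.mp
        (show (z - 1) * (z - 1) * QuadraticMap.polar Qf v₀ w = 0 by
          linear_combination e3 + (1 - z) * QuadraticMap.polar Qf v₀ w * h2)).resolve_right hw))
      rw [hx2, hz1, one_smul]
    obtain ⟨Q₁, hp₁, hinv₁⟩ := CharTwoQuad.exists_invariant h2 Qf hg (CharTwoQuad.spGL_polar hB hx)
    have hB₁ : CharTwoQuad.PolarSymp Q₁ := fun u v => (hp₁ u v).trans (hB u v)
    have hpnd₁ := CharTwoQuad.pnd_of_polarSymp hB₁
    refine (CharTwoQuad.conj_iff h2 hB hd1 hx).mpr ?_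
    by_cases hts : ∀ v, g v = v → Q₁ v = 0
    · obtain ⟨hev, hz₁⟩ := CharTwoQuad.fix_ts h2 hpnd₁ hd1 hV hg hinv₁ hts
      exact ⟨Q₁, hB₁, hz₁.trans (hplus.mp (hor.resolve_right (Nat.not_odd_iff_even.mpr hev))).symm, hinv₁⟩
    · push Not at hts
      obtain ⟨w, hw, hQw⟩ := hts
      obtain ⟨Q₂, hp₂, hinv₂, hne₂⟩ := CharTwoQuad.exists_other h2 hpnd₁ hd1 hV hinv₁ hw hQw
      have hB₂ : CharTwoQuad.PolarSymp Q₂ := fun u v => (hp₂ u v).trans (hB₁ u v)
      have c₁ := CharTwoQuad.zeros_cases hpnd₁ hd1 hV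
      have c₂ := CharTwoQuad.zeros_cases (CharTwoQuad.pnd_of_polarSymp hB₂) hd1 hV
      have c := CharTwoQuad.zeros_cases hpnd hd1 hV
      by_cases he : CharTwoQuad.zeros Q₁ = CharTwoQuad.zeros Qf
      · exact ⟨Q₁, hB₁, he, hinv₁⟩
      · exact ⟨Q₂, hB₂, by omega, hinv₂⟩

end Cfsg.Agent.S5983
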