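import Cfsg.Statements.S5984
import Cfsg.Agent.Lib.Classical.Elusive.UnitaryPairs
import Cfsg.Agent.Lib.Classical.Elusive.Cases
-- import your own Cfsg.Agent.* helpers here

set_option autoImplicit false
open scoped MatrixGroups
open Cfsg

namespace Cfsg.Agent.S5984

open Matrix Module Cfsg Cfsg.Geo Cfsg.Agent.Classical

theorem conj_of_invol {F : Type*} [Field F] {n : ℕ} (h2 : (2 : F) ≠ 0) {A B : Matrix (Fin n) (Fin n) F}
    (hA : A * A = 1) (hB : B * B = 1)
    (h : finrank F (LinearMap.ker (Matrix.toLin' A - 1)) = finrank F (LinearMap.ker (Matrix.toLin' B - 1))) :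
    ∃ G : GL (Fin n) F, (G : Matrix (Fin n) (Fin n) F) * A = B * (G : Matrix (Fin n) (Fin n) F) := by
  classical
  have hc : ∀ A : Matrix (Fin n) (Fin n) F, A * A = 1 →
      IsCompl (LinearMap.ker (Matrix.toLin' A - 1)) (LinearMap.ker (Matrix.toLin' A + 1)) := by
    intro A hA
    have hAA : ∀ u, Matrix.toLin' A (Matrix.toLin' A u) = u := fun u => by
      rw [Matrix.toLin'_apply, Matrix.toLin'_apply, Matrix.mulVec_mulVec, hA, Matrix.one_mulVec]
    refine ⟨disjoint_iff.mpr (eq_bot_iff.mpr fun u hu => ?_), codisjoint_iff.mpr (eq_top_iff.mpr fun u _ => ?_)⟩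
    · obtain ⟨h1, h2'⟩ := hu
      simp only [SetLike.mem_coe, LinearMap.mem_ker, LinearMap.sub_apply, LinearMap.add_apply,
        Module.End.one_apply, sub_eq_zero] at h1 h2'
      rw [h1, ← two_smul F] at h2'
      exact (Submodule.mem_bot F).mpr ((smul_eq_zero.mp h2').resolve_left h2)
    · have e : u = (2 : F)⁻¹ • (u + Matrix.toLin' A u) + (2 : F)⁻¹ • (u - Matrix.toLin' A u) := by
        rw [← smul_add, add_add_sub_cancel, ← two_smul F u, smul_smul, inv_mul_cancel₀ h2, one_smul]
      rw [e]
      refine Submodule.add_mem_sup (Submodule.smul_mem _ _ ?_) (Submodule.smul_mem _ _ ?_) <;>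
        simp only [LinearMap.mem_ker, LinearMap.sub_apply, LinearMap.add_apply, Module.End.one_apply, map_add,
          map_sub, hAA] <;> abel
  have hA' := hc A hA
  have hB' := hc B hB
  have h' : finrank F (LinearMap.ker (Matrix.toLin' A + 1)) = finrank F (LinearMap.ker (Matrix.toLin' B + 1)) := by
    have e1 := Submodule.finrank_add_eq_of_isCompl hA'
    have e2 := Submodule.finrank_add_eq_of_isCompl hB'
    omega
  obtain ⟨f⟩ : Nonempty (LinearMap.ker (Matrix.toLin' A - 1) ≃ₗ[F] LinearMap.ker (Matrix.toLin' B - 1)) :=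
    ⟨LinearEquiv.ofFinrankEq _ _ h⟩
  obtain ⟨g⟩ : Nonempty (LinearMap.ker (Matrix.toLin' A + 1) ≃ₗ[F] LinearMap.ker (Matrix.toLin' B + 1)) :=
    ⟨LinearEquiv.ofFinrankEq _ _ h'⟩
  obtain ⟨T, hT⟩ : ∃ T : (Fin n → F) ≃ₗ[F] (Fin n → F),
      T = (Submodule.prodEquivOfIsCompl _ _ hA').symm ≪≫ₗ (f.prodCongr g) ≪≫ₗ Submodule.prodEquivOfIsCompl _ _ hB' :=
    ⟨_, rfl⟩
  have hTp : ∀ u : LinearMap.ker (Matrix.toLin' A - 1), ∀ v : LinearMap.ker (Matrix.toLin' A + 1),
      T (u.1 + v.1) = (f u).1 + (g v).1 := fun u v => by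
    have e : (Submodule.prodEquivOfIsCompl _ _ hA').symm (u.1 + v.1) = (u, v) := by
      rw [LinearEquiv.symm_apply_eq]
      rfl
    rw [hT, LinearEquiv.trans_apply, LinearEquiv.trans_apply, e]
    rfl
  have hcomm : ∀ w, T (Matrix.toLin' A w) = Matrix.toLin' B (T w) := by
    intro w
    obtain ⟨u, hu, v, hv, rfl⟩ := Submodule.mem_sup.mp
      (hA'.sup_eq_top ▸ Submodule.mem_top : w ∈ LinearMap.ker (Matrix.toLin' A - 1) ⊔ LinearMap.ker (Matrix.toLin' A + 1))
    have e1 : Matrix.toLin' A u = u := sub_eq_zero.mp hu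
    have e2 : Matrix.toLin' A v = -v := eq_neg_of_add_eq_zero_left hv
    rw [map_add (Matrix.toLin' A), e1, e2]
    have e3 := hTp ⟨u, hu⟩ (-⟨v, hv⟩)
    rw [map_neg, Submodule.coe_neg, Submodule.coe_neg] at e3
    rw [e3, hTp ⟨u, hu⟩ ⟨v, hv⟩, map_add,
      show Matrix.toLin' B (f ⟨u, hu⟩).1 = (f ⟨u, hu⟩).1 from sub_eq_zero.mp (f ⟨u, hu⟩).2,
      show Matrix.toLin' B (g ⟨v, hv⟩).1 = -(g ⟨v, hv⟩).1 from eq_neg_of_add_eq_zero_left (g ⟨v, hv⟩).2]
  refine ⟨⟨LinearMap.toMatrix' T.toLinearMap, LinearMap.toMatrix' T.symm.toLinearMap,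
    by rw [← LinearMap.toMatrix'_comp, T.comp_symm, LinearMap.toMatrix'_id],
    by rw [← LinearMap.toMatrix'_comp, T.symm_comp, LinearMap.toMatrix'_id]⟩, Matrix.toLin'.injective ?_⟩
  rw [Matrix.toLin'_mul, Matrix.toLin'_mul, Matrix.toLin'_toMatrix']
  exact LinearMap.ext hcomm

theorem finrank_ker_diag {F : Type*} [Field F] [DecidableEq F] {n : ℕ} (d : Fin n → F) :
    finrank F (LinearMap.ker (Matrix.toLin' (Matrix.diagonal d) - 1)) = Fintype.card {k // d k = 1} := by
  classical
  rw [← finrank_fintype_fun_eq_card F (η := {k // d k = 1})]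
  refine LinearEquiv.finrank_eq
    { toFun := fun u k => u.1 k.1
      map_add' := fun u v => rfl
      map_smul' := fun c u => rfl
      invFun := fun w => ⟨fun k => if h : d k = 1 then w ⟨k, h⟩ else 0, ?_⟩
      left_inv := fun u => Subtype.ext (funext fun k => ?_)
      right_inv := fun w => funext fun k => ?_ }
  · rw [LinearMap.mem_ker, LinearMap.sub_apply, Module.End.one_apply, sub_eq_zero]
    funext k
    rw [Matrix.toLin'_apply, Matrix.mulVec_diagonal]
    by_cases h : d k = 1 <;> simp [h]
  · show (if h : d k = 1 then u.1 k else 0) = u.1 k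
    split_ifs with h
    · rfl
    · have h1 : (Matrix.toLin' (Matrix.diagonal d)) u.1 = u.1 := sub_eq_zero.mp u.2
      have h2 := congrFun h1 k
      rw [Matrix.toLin'_apply, Matrix.mulVec_diagonal] at h2
      by_contra hne
      exact h (mul_right_cancel₀ (Ne.symm hne) (h2.trans (one_mul _).symm))
  · show (if h : d k.1 = 1 then w ⟨k.1, h⟩ else 0) = w k
    rw [dif_pos k.2]

theorem irreducible_of_order {F : Type*} [Field F] [Fintype F] {b r : ℕ} [Fact r.Prime] (hr0 : (r : F) ≠ 0)
    (hnd : ∀ j, 1 ≤ j → j < b → ¬ r ∣ Fintype.card F ^ j - 1) {y : Matrix (Fin b) (Fin b) F} (hyr : y ^ r = 1)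
    (hy1 : y ≠ 1) {N : Submodule F (Fin b → F)} (hN : ∀ w ∈ N, y *ᵥ w ∈ N) : N = ⊥ ∨ N = ⊤ := by
  classical
  have hr : r.Prime := Fact.out
  have key : ∀ U : Submodule F (Fin b → F), (∀ w ∈ U, y *ᵥ w ∈ U) → U ≠ ⊤ → ∀ w ∈ U, y *ᵥ w = w := by
    intro U hU hne
    let k := finrank F U
    have hk : k < b := by
      have h1 := Submodule.finrank_lt hne
      rwa [finrank_fin_fun] at h1
    let bU := finBasis F U
    let R : Module.End F U := (Matrix.toLin' y).restrict (p := U) (q := U) fun w hw => by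
      rw [Matrix.toLin'_apply]; exact hU w hw
    have hR : ∀ (j : ℕ) (w : U), ((R ^ j) w).1 = (y ^ j) *ᵥ w.1 := by
      intro j
      induction j with
      | zero => intro w; simp
      | succ j ih =>
        intro w
        rw [pow_succ' R, pow_succ' y, ← Matrix.mulVec_mulVec, ← ih, Module.End.mul_apply]
        rfl
    have hRr : R ^ r = 1 := LinearMap.ext fun w => Subtype.ext (by rw [hR, hyr, Matrix.one_mulVec]; rfl)
    obtain ⟨u, hu⟩ : ∃ u : (Module.End F U)ˣ, (u : Module.End F U) = R :=
      ⟨⟨R, R ^ (r - 1), by rw [← pow_succ', Nat.sub_add_cancel hr.one_le, hRr],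
        by rw [← pow_succ, Nat.sub_add_cancel hr.one_le, hRr]⟩, rfl⟩
    have hur : u ^ r = 1 := Units.ext (by rw [Units.val_pow_eq_pow_val, hu, hRr, Units.val_one])
    by_cases hu1 : u = 1
    · intro w hw
      have h1 : R ⟨w, hw⟩ = ⟨w, hw⟩ := by rw [← hu, hu1]; rfl
      exact congrArg Subtype.val h1
    exfalso
    have hord : orderOf u = r := orderOf_eq_prime hur hu1
    let Φ : (Module.End F U)ˣ ≃ GL (Fin k) F := (Units.mapEquiv (algEquivMatrix bU).toMulEquiv).toEquiv
    have hdvd : r ∣ Nat.card (GL (Fin k) F) := by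
      rw [← Nat.card_congr Φ, ← hord]
      exact orderOf_dvd_natCard u
    rw [Matrix.card_GL_field] at hdvd
    obtain ⟨i, -, hi⟩ := (Prime.dvd_finset_prod_iff hr.prime _).mp hdvd
    rw [show Fintype.card F ^ k - Fintype.card F ^ (i : ℕ) =
      Fintype.card F ^ (i : ℕ) * (Fintype.card F ^ (k - i) - 1) by
        rw [Nat.mul_sub, mul_one, ← pow_add, Nat.add_sub_cancel' i.2.le]] at hi
    rcases hr.dvd_mul.mp hi with h | h
    · apply hr0
      obtain ⟨p, hp⟩ := CharP.exists F
      obtain ⟨nn, hpp, hcard⟩ := FiniteField.card F p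
      have := hr.dvd_of_dvd_pow h
      rw [hcard] at this
      rw [(Nat.prime_dvd_prime_iff_eq hr hpp).mp (hr.dvd_of_dvd_pow this)]
      exact CharP.cast_eq_zero F p
    · exact hnd _ (by have := i.2; omega) (by omega) h
  by_contra hcon
  rw [not_or] at hcon
  have hfix := key N hN hcon.2
  obtain ⟨w₀, hw₀, hw₀0⟩ := Submodule.exists_mem_ne_zero_of_ne_bot hcon.1
  set M := LinearMap.range (Matrix.toLin' (y - 1)) with hM
  have hMne : M ≠ ⊤ := fun h => by
    have hinj := LinearMap.injective_iff_surjective.mpr (LinearMap.range_eq_top.mp h)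
    refine hw₀0 (hinj ?_)
    rw [map_zero, Matrix.toLin'_apply, Matrix.sub_mulVec, Matrix.one_mulVec, hfix w₀ hw₀, sub_self]
  have hMy : ∀ w ∈ M, y *ᵥ w ∈ M := by
    rintro _ ⟨v, rfl⟩
    refine ⟨y *ᵥ v, ?_⟩
    simp only [Matrix.toLin'_apply, Matrix.mulVec_mulVec, sub_mul, mul_sub, one_mul, mul_one]
  have hsq : (y - 1) * (y - 1) = 0 := by
    refine Matrix.toLin'.injective (LinearMap.ext fun v => ?_)
    rw [Matrix.toLin'_mul, LinearMap.comp_apply, map_zero, LinearMap.zero_apply, Matrix.toLin'_apply,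
      Matrix.sub_mulVec, Matrix.one_mulVec, key M hMy hMne _ ⟨v, rfl⟩, sub_self]
  have hpow : ∀ j : ℕ, y ^ j = 1 + (j : F) • (y - 1) := by
    intro j
    induction j with
    | zero => simp
    | succ j ih =>
      conv_lhs => rw [pow_succ, ih, show y = 1 + (y - 1) by abel]
      rw [add_sub_cancel_left, mul_add, add_mul, add_mul, mul_one, Matrix.smul_mul, Matrix.smul_mul, hsq, smul_zero,
        add_zero, one_mul, mul_one, Nat.cast_succ, add_smul, one_smul]
      abel
  have h1 := hpow r
  rw [hyr, left_eq_add, smul_eq_zero] at h1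
  exact hy1 (sub_eq_zero.mp (h1.resolve_left hr0))

theorem herm_blocks {F : Type*} [Field F] {q n b c : ℕ} (e : Fin b ⊕ Fin c ≃ Fin n) (u v : Fin n → F) :
    hermForm n F q u v = hermForm b F q (fun i => u (e (Sum.inl i))) (fun i => v (e (Sum.inl i))) +
      hermForm c F q (fun i => u (e (Sum.inr i))) (fun i => v (e (Sum.inr i))) := by
  simp only [hermForm]
  rw [← Equiv.sum_comp e, Fintype.sum_sum_type]

/-- Elements of prime order of PSU_n(q) and the stabilizers of pairs of complementary totally singular subspaces. Here `T = PSU_n(q)` is realised through `SU_n(q)`, the matrices of determinant 1 over the field `F` with `q²` elements preserving the hermitian form `Σ uᵢ vᵢ^q`, with `n ≥ 4` even; `D` is a pair of complementary subspaces of dimension `n/2` on each of which the form vanishes identically, and `H` is the subgroup of `SU_n(q)` fixing or interchanging the two members — a subgroup of type GL_{n/2}(q²).2 (maximality is not assumed). Ω is the set of cosets of `H`, so an element of `T` of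 prime order `r` (`x ∈ SU_n(q)` with `x^r` scalar, `x` not scalar) fixes a point of Ω exactly when some `SU_n(q)`-conjugate of `x` lies in `H`. Let `r` be a prime dividing the index of `H`. Then every element of `T` of order `r` fixes a point of Ω if and only if `r = 2`, `q` is odd and `(q + 1)_2 ≤ (n)_2` (2-parts). -/
theorem result {F : Type*} [Field F] [Fintype F] {p : ℕ} [Fact p.Prime] [CharP F p] {q : ℕ} (hq : Fintype.card F = q ^ 2)
    (n : ℕ) (hn : 4 ≤ n) (he : Even n) (D : Fin 2 → Submodule F (Fin n → F)) (hD : Cfsg.Geo.IsMDecomposition (n / 2) D)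
    (hDs : ∀ i, Cfsg.Geo.IsTotallySingularFor (Cfsg.hermForm n F q) (D i))
    (r : ℕ) [Fact r.Prime]
    (hΩ : r ∣ (Cfsg.Geo.decompositionStabilizer D).relIndex (Cfsg.GU n F q ⊓ Cfsg.Geo.specialLinear (Fin n) F)) :
    (∀ x ∈ Cfsg.GU n F q ⊓ Cfsg.Geo.specialLinear (Fin n) F, (∃ z : F, ((x ^ r : GL (Fin n) F) : Matrix (Fin n) (Fin n) F) = z • (1 : Matrix (Fin n) (Fin n) F)) →
      (∀ z : F, (x : Matrix (Fin n) (Fin n) F) ≠ z • (1 : Matrix (Fin n) (Fin n) F)) →
      ∃ g ∈ Cfsg.GU n F q ⊓ Cfsg.Geo.specialLinear (Fin n) F, g⁻¹ * x * g ∈ Cfsg.Geo.decompositionStabilizer D) ↔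
    (r = 2 ∧ Odd q ∧ padicValNat 2 (q + 1) ≤ padicValNat 2 n) := by
  classical
  obtain ⟨p', e', σ, -, -, -, -, hσ⟩ := Cfsg.Agent.Classical.exists_usigma hq
  have hU := hσ.isUnitaryForm (n := n)
  have hr : r.Prime := Fact.out
  have hq2 := hσ.two_le
  obtain ⟨m, hm⟩ : ∃ m, n = 2 * m := ⟨n / 2, (Nat.two_mul_div_two_of_even he).symm⟩
  have hm0 : 0 < m := by omega
  have hn2 : n / 2 = m := by omega
  have hDd : ∀ i, finrank F (D i) = m := fun i => (hD.finrank_eq i).trans hn2
  have htop : D 0 ⊔ D 1 = ⊤ := by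
    rw [← hD.iSup_eq_top]
    refine le_antisymm (sup_le (le_iSup D 0) (le_iSup D 1)) (iSup_le fun i => ?_)
    fin_cases i
    · exact le_sup_left
    · exact le_sup_right
  obtain ⟨f, hf, hfl, hfr⟩ := UnitaryPairs.exists_frame hσ (hDs 0) (hDs 1) (hDd 0) (hDd 1) htop
  let ε₀ : Fin n ≃ Fin m ⊕ Fin m := (finCongr (by omega)).trans finSumFinEquiv.symm
  have hqo : Odd q → (2 : F) ≠ 0 := fun ho => Ring.two_ne_zero fun h2 => by
    have h := FiniteField.even_card_iff_char_two.mp h2
    rw [hq] at h
    obtain ⟨k, hk⟩ := ho.pow (n := 2)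
    omega
  constructor
  · intro hall
    by_contra hcon
    suffices hbad : ∃ x : GL (Fin n) F, x ∈ Cfsg.GU n F q ⊓ Cfsg.Geo.specialLinear (Fin n) F ∧
        (∃ z : F, (x : Matrix (Fin n) (Fin n) F) ^ r = z • 1) ∧
        (∀ z : F, (x : Matrix (Fin n) (Fin n) F) ≠ z • 1) ∧
        (r = 2 → ∀ E : Submodule F (Fin n → F), finrank F E = m →
          ∃ u ∈ E, u ≠ 0 ∧ ∃ c : F, (x : Matrix (Fin n) (Fin n) F) *ᵥ u = c • u) ∧
        ∀ E₀ E₁ : Submodule F (Fin n → F), E₀ ⊔ E₁ = ⊤ → E₀ ⊓ E₁ = ⊥ →
          IsTotallySingularFor (hermForm n F q) E₀ → IsTotallySingularFor (hermForm n F q) E₁ →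
          (∀ u ∈ E₀, (x : Matrix (Fin n) (Fin n) F) *ᵥ u ∈ E₀) →
          (∀ u ∈ E₁, (x : Matrix (Fin n) (Fin n) F) *ᵥ u ∈ E₁) → False by
      obtain ⟨x, hx, ⟨z, hxz⟩, hxs, hswap, hpres⟩ := hbad
      obtain ⟨g, hg, π, hπ⟩ := hall x hx ⟨z, by rw [Units.val_pow_eq_pow_val]; exact hxz⟩ hxs
      obtain ⟨E, hE⟩ : ∃ E : Fin 2 → Submodule F (Fin n → F),
          ∀ i, E i = (D i).map (Matrix.toLin' (g : Matrix (Fin n) (Fin n) F)) := ⟨_, fun _ => rfl⟩
      have hginj : Function.Injective (Matrix.toLin' (g : Matrix (Fin n) (Fin n) F)) := fun u v h => by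
        simp only [Matrix.toLin'_apply] at h
        have := congrArg (fun w => ((g⁻¹ : GL (Fin n) F) : Matrix (Fin n) (Fin n) F) *ᵥ w) h
        simpa [Matrix.mulVec_mulVec] using this
      have hgsurj := LinearMap.injective_iff_surjective.mp hginj
      have hEx : ∀ i, (E i).map (Matrix.toLin' (x : Matrix (Fin n) (Fin n) F)) = E (π i) := fun i => by
        rw [hE, hE, ← hπ i, ← Submodule.map_comp, ← Submodule.map_comp, ← Matrix.toLin'_mul, ← Matrix.toLin'_mul,
          ← Units.val_mul, ← Units.val_mul, ← mul_assoc, ← mul_assoc, mul_inv_cancel, one_mul]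
      have hEts : ∀ i, IsTotallySingularFor (hermForm n F q) (E i) := fun i => by
        rw [hE]
        rintro _ ⟨u, hu, rfl⟩ _ ⟨v, hv, rfl⟩
        rw [Matrix.toLin'_apply, Matrix.toLin'_apply]
        exact (mem_GU_iff.mp hg.1 u v).trans (hDs i u hu v hv)
      have hEtop : E 0 ⊔ E 1 = ⊤ := by
        rw [hE, hE, ← Submodule.map_sup, htop, Submodule.map_top, LinearMap.range_eq_top.mpr hgsurj]
      have hEdim : ∀ i, finrank F (E i) = m := fun i => by
        rw [hE, ← (Submodule.equivMapOfInjective _ hginj (D i)).finrank_eq, hDd]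
      have hEbot : E 0 ⊓ E 1 = ⊥ := by
        have h1 := Submodule.finrank_sup_add_finrank_inf_eq (E 0) (E 1)
        rw [hEtop, finrank_top, hEdim, hEdim, finrank_fin_fun] at h1
        exact Submodule.finrank_eq_zero.mp (by omega)
      have hsub : ∀ i j, π i = j → ∀ u ∈ E i, (x : Matrix (Fin n) (Fin n) F) *ᵥ u ∈ E j := fun i j hij u hu => by
        rw [← hij, ← hEx i]
        exact ⟨u, hu, Matrix.toLin'_apply _ _⟩
      rcases eq_or_ne (π 0) 0 with h0 | h0
      · have h1 : π 1 = 1 := by
          by_contra h1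
          have : π 1 = 0 := by omega
          exact absurd (π.injective (this.trans h0.symm)) (by decide)
        exact hpres _ _ hEtop hEbot (hEts 0) (hEts 1) (hsub 0 0 h0) (hsub 1 1 h1)
      · have h01 : π 0 = 1 := by omega
        have h10 : π 1 = 0 := by
          by_contra h1
          have : π 1 = 1 := by omega
          exact absurd (π.injective (this.trans h01.symm)) (by decide)
        rcases eq_or_ne r 2 with hr2 | hr2
        · obtain ⟨u, hu, hu0, c, hc⟩ := hswap hr2 (E 0) (hEdim 0)
          have h2 : c • u ∈ E 0 ⊓ E 1 := ⟨(E 0).smul_mem c hu, hc ▸ hsub 0 1 h01 u hu⟩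
          rw [hEbot, Submodule.mem_bot, smul_eq_zero] at h2
          have hc0 := h2.resolve_right hu0
          apply hu0
          have h3 := congrArg (fun w => ((x⁻¹ : GL (Fin n) F) : Matrix (Fin n) (Fin n) F) *ᵥ w) hc
          simpa [Matrix.mulVec_mulVec, hc0] using h3
        · obtain ⟨k, hk⟩ := hr.odd_of_ne_two hr2
          have hit : ∀ j, ∀ u ∈ E 0, ((x : Matrix (Fin n) (Fin n) F) ^ (2 * j + 1)) *ᵥ u ∈ E 1 := by
            intro j
            induction j with
            | zero =>
              intro u hu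
              rw [mul_zero, zero_add, pow_one]
              exact hsub 0 1 h01 u hu
            | succ j ih =>
              intro u hu
              rw [show 2 * (j + 1) + 1 = 2 * j + 1 + 1 + 1 by ring, pow_succ', ← Matrix.mulVec_mulVec, pow_succ',
                ← Matrix.mulVec_mulVec]
              exact hsub 0 1 h01 _ (hsub 1 0 h10 _ (ih u hu))
          obtain ⟨u, hu, hu0⟩ := Submodule.exists_mem_ne_zero_of_ne_bot
            (fun h => by have := hEdim 0; rw [h, finrank_bot] at this; omega : E 0 ≠ ⊥)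
          have h2 := hit k u hu
          rw [← hk, hxz, Matrix.smul_mulVec, Matrix.one_mulVec] at h2
          have h3 : z • u ∈ E 0 ⊓ E 1 := ⟨(E 0).smul_mem z hu, h2⟩
          rw [hEbot, Submodule.mem_bot, smul_eq_zero] at h3
          have hz0 := h3.resolve_right hu0
          apply hu0
          have h4 : ((x⁻¹ ^ r : GL (Fin n) F) : Matrix (Fin n) (Fin n) F) * (x : Matrix (Fin n) (Fin n) F) ^ r = 1 := by
            rw [← Units.val_pow_eq_pow_val x, ← Units.val_mul, inv_pow, inv_mul_cancel, Units.val_one]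
          rw [hxz, hz0, zero_smul, mul_zero] at h4
          rw [← Matrix.one_mulVec u, ← h4, Matrix.zero_mulVec]
    rcases eq_or_ne r p with hrp | hrp
    · -- a transvection
      subst hrp
      obtain ⟨ε, hε0, hε⟩ := hσ.norm_surjective (t := -1) (neg_ne_zero.mpr one_ne_zero) (by rw [map_neg, map_one])
      obtain ⟨cc, hcc0, hcc⟩ := hσ.exists_skew
      let i₀ : Fin n := ⟨0, by omega⟩
      let i₁ : Fin n := ⟨1, by omega⟩
      have hne : i₀ ≠ i₁ := by simp [i₀, i₁, Fin.ext_iff]
      obtain ⟨v, hv⟩ : ∃ v : Fin n → F, v = Pi.single i₀ 1 + Pi.single i₁ ε := ⟨_, rfl⟩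
      have hv0 : v ≠ 0 := fun h => by simpa [hv, hne] using congrFun h i₀
      have hvv : hermForm n F q v v = 0 := by
        rw [hv, hU.add_left, hσ.hermForm_single, hσ.hermForm_single]
        simp [hne, hne.symm, hε]
      obtain ⟨N, hN⟩ : ∃ N : Matrix (Fin n) (Fin n) F, N = Matrix.vecMulVec v (fun i => σ (v i)) := ⟨_, rfl⟩
      have hNapp : ∀ u, N *ᵥ u = hermForm n F q u v • v := fun u => by
        rw [hN, Matrix.vecMulVec_mulVec, hσ.hermForm_eq]
        funext k
        simp [dotProduct, mul_comm]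
      have hNN : N * N = 0 := by
        refine Matrix.toLin'.injective (LinearMap.ext fun u => ?_)
        rw [Matrix.toLin'_apply, ← Matrix.mulVec_mulVec, hNapp u, Matrix.mulVec_smul, hNapp, hvv, zero_smul,
          smul_zero, map_zero, LinearMap.zero_apply]
      have hpow : ∀ j : ℕ, (1 + cc • N) ^ j = 1 + ((j : F) * cc) • N := by
        intro j
        induction j with
        | zero => simp
        | succ j ih =>
          rw [pow_succ, ih, add_mul, one_mul, Matrix.smul_mul, mul_add, mul_one, Matrix.mul_smul, hNN, smul_zero,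
            add_zero, Nat.cast_succ, add_mul, one_mul, add_smul]
          abel
      obtain ⟨x, hxmat⟩ : ∃ x : GL (Fin n) F, (x : Matrix (Fin n) (Fin n) F) = 1 + cc • N :=
        ⟨⟨1 + cc • N, 1 + (-cc) • N,
          by rw [add_mul, one_mul, Matrix.smul_mul, mul_add, mul_one, Matrix.mul_smul, hNN, smul_zero, add_zero]
             module,
          by rw [add_mul, one_mul, Matrix.smul_mul, mul_add, mul_one, Matrix.mul_smul, hNN, smul_zero, add_zero]
             module⟩, rfl⟩
      have hxapp : ∀ u, (x : Matrix (Fin n) (Fin n) F) *ᵥ u = u + (cc * hermForm n F q u v) • v := fun u => by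
        rw [hxmat, Matrix.add_mulVec, Matrix.one_mulVec, Matrix.smul_mulVec, hNapp, smul_smul]
      obtain ⟨w, hw⟩ : ∃ w, hermForm n F q w v ≠ 0 := by
        obtain ⟨⟨w, hw⟩, -⟩ := hU.nondegenerate v hv0
        exact ⟨w, hw⟩
      have hright : ∀ (c : F) (u u' : Fin n → F), hermForm n F q u (c • u') = σ c * hermForm n F q u u' := by
        intro c u u'
        rw [hU.herm u, hU.smul_left, map_mul, ← hU.herm]
      refine ⟨x, ⟨mem_GU_iff.mpr fun u u' => ?_, ?_⟩, ⟨1, by rw [hxmat, hpow, CharP.cast_eq_zero]; simp⟩,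
        fun z hz => ?_, fun _ E hE => ?_, fun E₀ E₁ htop' hbot h0 h1 hp0 hp1 => ?_⟩
      · have hadd : ∀ u w w' : Fin n → F, hermForm n F q u (w + w') = hermForm n F q u w + hermForm n F q u w' :=
          fun u w w' => by rw [hU.herm u, hU.add_left, map_add, ← hU.herm, ← hU.herm]
        have e1 : σ cc = -cc := eq_neg_of_add_eq_zero_right hcc
        rw [hxapp, hxapp, hU.add_left, hU.smul_left, hadd, hright, hadd, hright, hvv, hU.herm v u', map_mul, e1]
        ring
      · refine MonoidHom.mem_ker.mpr (Units.ext ?_)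
        rw [Matrix.GeneralLinearGroup.val_det_apply, hxmat, hN, ← Matrix.smul_vecMulVec, Matrix.vecMulVec_eq Unit,
          Matrix.det_one_add_replicateCol_mul_replicateRow, Units.val_one]
        have e : (fun i => σ (v i)) ⬝ᵥ (cc • v) = cc * hermForm n F q v v := by
          rw [hσ.hermForm_eq, dotProduct, Finset.mul_sum]
          exact Finset.sum_congr rfl fun i _ => by simp; ring
        rw [e, hvv, mul_zero, add_zero]
      · have h1 := hxapp v
        rw [hz, Matrix.smul_mulVec, Matrix.one_mulVec, hvv, mul_zero, zero_smul, add_zero] at h1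
        have hz1 : z = 1 := by
          by_contra hz1
          exact hv0 ((smul_eq_zero.mp (show (z - 1) • v = 0 by rw [sub_smul, h1, one_smul, sub_self])).resolve_left
            (sub_ne_zero.mpr hz1))
        have h3 := hxapp w
        rw [hz, hz1, one_smul, Matrix.one_mulVec, left_eq_add] at h3
        exact hv0 ((smul_eq_zero.mp h3).resolve_left (mul_ne_zero hcc0 hw))
      · let L : E →ₗ[F] F :=
          { toFun := fun u => hermForm n F q u.1 v
            map_add' := fun u u' => hU.add_left u.1 u'.1 v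
            map_smul' := fun c u => hU.smul_left c u.1 v }
        obtain ⟨u, hu, hu0⟩ : ∃ u ∈ LinearMap.ker L, u ≠ 0 := Submodule.exists_mem_ne_zero_of_ne_bot fun h => by
          have h1 := L.finrank_range_add_finrank_ker
          have h2 := Submodule.finrank_le (LinearMap.range L)
          rw [h, finrank_bot, hE] at h1
          rw [finrank_self] at h2
          omega
        refine ⟨u.1, u.2, fun h => hu0 (Subtype.ext h), 1, ?_⟩
        rw [hxapp, show hermForm n F q u.1 v = 0 from LinearMap.mem_ker.mp hu, mul_zero, zero_smul, add_zero, one_smul]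
      · have key : ∀ A B : Submodule F (Fin n → F), A ⊓ B = ⊥ → A ⊔ B = ⊤ →
            IsTotallySingularFor (hermForm n F q) A → (∀ u ∈ B, (x : Matrix (Fin n) (Fin n) F) *ᵥ u ∈ B) →
            v ∈ A → False := by
          intro A B hAB hABtop hA hB hvA
          obtain ⟨a, ha, b, hb, hab⟩ := Submodule.mem_sup.mp (hABtop ▸ Submodule.mem_top : w ∈ A ⊔ B)
          apply hw
          rw [← hab, hU.add_left, hA a ha v hvA, zero_add]
          have h1 : (cc * hermForm n F q b v) • v ∈ A ⊓ B := ⟨A.smul_mem _ hvA, by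
            have h2 := B.sub_mem (hB b hb) hb
            rwa [hxapp, add_sub_cancel_left] at h2⟩
          rw [hAB, Submodule.mem_bot, smul_eq_zero] at h1
          exact (mul_eq_zero.mp (h1.resolve_right hv0)).resolve_left hcc0
        have hmem : ∀ (E : Submodule F (Fin n → F)), (∀ u ∈ E, (x : Matrix (Fin n) (Fin n) F) *ᵥ u ∈ E) →
            ∀ u ∈ E, hermForm n F q u v ≠ 0 → v ∈ E := by
          intro E hE u hu hne'
          have h2 := E.sub_mem (hE u hu) hu
          rw [hxapp, add_sub_cancel_left] at h2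
          have h3 := E.smul_mem (cc * hermForm n F q u v)⁻¹ h2
          rwa [smul_smul, inv_mul_cancel₀ (mul_ne_zero hcc0 hne'), one_smul] at h3
        obtain ⟨a, ha, b, hb, hab⟩ := Submodule.mem_sup.mp (htop' ▸ Submodule.mem_top : w ∈ E₀ ⊔ E₁)
        by_cases ha' : hermForm n F q a v = 0
        · exact key E₁ E₀ (by rw [inf_comm, hbot]) (by rw [sup_comm, htop']) h1 hp0
            (hmem E₁ hp1 b hb fun h => hw (by rw [← hab, hU.add_left, ha', h, add_zero]))
        · exact key E₀ E₁ hbot htop' h0 hp1 (hmem E₀ hp0 a ha ha')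
    have hrq : ¬ r ∣ q := fun h => by
      obtain ⟨nn, hp', hn'⟩ := FiniteField.card F p
      have h1 : r ∣ Fintype.card F := hq ▸ dvd_pow h two_ne_zero
      rw [hn'] at h1
      exact hrp ((Nat.prime_dvd_prime_iff_eq hr hp').mp (hr.dvd_of_dvd_pow h1))
    rcases eq_or_ne r 2 with hr2 | hr2
    · -- an element with a non-square scalar part
      subst hr2
      have hqodd : Odd q := Nat.not_even_iff_odd.mp fun h => hrq (even_iff_two_dvd.mp h)
      have h2 := hqo hqodd
      have hlt : padicValNat 2 n < padicValNat 2 (q + 1) := by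
        by_contra h
        exact hcon ⟨rfl, hqodd, not_lt.mp h⟩
      obtain ⟨v, hv⟩ : ∃ v, v = padicValNat 2 n := ⟨_, rfl⟩
      have hdvd : 2 ^ (v + 1) ∣ q + 1 :=
        (pow_dvd_pow 2 (by omega : v + 1 ≤ padicValNat 2 (q + 1))).trans pow_padicValNat_dvd
      obtain ⟨g, -, hord⟩ := hσ.exists_gen
      have hfac : q ^ 2 - 1 = (q + 1) * (q - 1) := by rw [← Nat.sq_sub_sq, one_pow]
      obtain ⟨k, hk⟩ : 2 ^ (v + 1) ∣ q ^ 2 - 1 := hfac ▸ hdvd.mul_right _
      have hk0 : 0 < k := Nat.pos_of_ne_zero fun h => by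
        rw [h, mul_zero] at hk
        have : 2 ^ 2 ≤ q ^ 2 := Nat.pow_le_pow_left hq2 2
        omega
      obtain ⟨c, hc⟩ : ∃ c : Fˣ, c = g ^ k := ⟨_, rfl⟩
      have hoc : orderOf c = 2 ^ (v + 1) := by
        rw [hc, orderOf_pow_of_dvd hk0.ne' (by rw [hord, hk]; exact dvd_mul_left _ _), hord, hk,
          Nat.mul_div_cancel _ hk0]
      have hcn : c ^ n = -1 := by
        obtain ⟨w, hw⟩ := pow_padicValNat_dvd (p := 2) (n := n)
        rw [← hv] at hw
        have hwodd : Odd w := Nat.not_even_iff_odd.mp fun hev => by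
          obtain ⟨w', rfl⟩ := hev
          refine pow_succ_padicValNat_not_dvd (p := 2) (show n ≠ 0 by omega) ?_
          rw [← hv, hw]
          exact ⟨w', by ring⟩
        have h1 : c ^ 2 ^ v = -1 := by
          have hsq : (c ^ 2 ^ v) * (c ^ 2 ^ v) = 1 := by
            rw [← pow_add, ← two_mul, ← pow_succ', ← hoc, pow_orderOf_eq_one]
          have hne : c ^ 2 ^ v ≠ 1 := fun h => by
            have h' := Nat.le_of_dvd (by positivity) (hoc ▸ orderOf_dvd_of_pow_eq_one h)
            have : 2 ^ v < 2 ^ (v + 1) := Nat.pow_lt_pow_right one_lt_two (by omega)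
            omega
          refine Units.ext ?_
          have e := congrArg Units.val hsq
          rw [Units.val_mul, Units.val_one] at e
          exact (mul_self_eq_one_iff.mp e).resolve_left fun h => hne (Units.ext h)
        rw [hw, pow_mul, h1, hwodd.neg_one_pow]
      have hcnorm : (c : F) * σ (c : F) = 1 := UCount.norm_of_pow_eq_one hσ
        (orderOf_dvd_iff_pow_eq_one.mp (hoc.symm ▸ hdvd))
      let i₀ : Fin n := ⟨0, by omega⟩
      let dg : Fin n → F := fun i => if i = i₀ then -(c : F) else (c : F)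
      obtain ⟨x, hx, hxmat⟩ := UCount.exists_diag hσ dg (fun i => by
        by_cases h : i = i₀ <;> simp [dg, h, hcnorm])
      have hdet : (x : Matrix (Fin n) (Fin n) F).det = 1 := by
        rw [hxmat, Matrix.det_diagonal, Fintype.prod_eq_mul_prod_compl i₀]
        have : ∀ i ∈ ({i₀}ᶜ : Finset (Fin n)), dg i = (c : F) := fun i hi => if_neg (by simpa using hi)
        rw [Finset.prod_congr rfl this, Finset.prod_const, Finset.card_compl, Finset.card_singleton,
          Fintype.card_fin]
        simp only [dg, if_true]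
        rw [neg_mul, ← pow_succ', show n - 1 + 1 = n by omega, ← Units.val_pow_eq_pow_val, hcn]
        simp
      have hxapp : ∀ u k, ((x : Matrix (Fin n) (Fin n) F) *ᵥ u) k = dg k * u k := fun u k => by
        rw [hxmat, Matrix.mulVec_diagonal]
      refine ⟨x, ⟨hx, MonoidHom.mem_ker.mpr (Units.ext (by
        rw [Matrix.GeneralLinearGroup.val_det_apply]; exact hdet))⟩, ⟨(c : F) ^ 2, ?_⟩, fun z hz => ?_,
        fun _ E hE => ?_, fun E₀ E₁ htop' _ h0 h1 hp0 hp1 => ?_⟩
      · rw [hxmat, Matrix.diagonal_pow, Matrix.smul_one_eq_diagonal]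
        congr 1
        funext i
        by_cases h : i = i₀ <;> simp [dg, h]
      · have e0 := congrFun (congrFun hz i₀) i₀
        have e1 := congrFun (congrFun hz ⟨1, by omega⟩) ⟨1, by omega⟩
        simp [hxmat, dg, i₀, Fin.ext_iff] at e0 e1
        exact c.ne_zero ((mul_eq_zero.mp (show (2 : F) * (c : F) = 0 by linear_combination e1 - e0)).resolve_left h2)
      · let L : E →ₗ[F] F := (LinearMap.proj i₀).comp E.subtype
        obtain ⟨u, hu, hu0⟩ : ∃ u ∈ LinearMap.ker L, u ≠ 0 := Submodule.exists_mem_ne_zero_of_ne_bot fun h => by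
          have h1 := L.finrank_range_add_finrank_ker
          have h2 := Submodule.finrank_le (LinearMap.range L)
          rw [h, finrank_bot, hE] at h1
          rw [finrank_self] at h2
          omega
        refine ⟨u.1, u.2, fun h => hu0 (Subtype.ext h), c, funext fun k => ?_⟩
        rw [hxapp, Pi.smul_apply, smul_eq_mul]
        by_cases h : k = i₀
        · rw [h, show u.1 i₀ = 0 from LinearMap.mem_ker.mp hu, mul_zero, mul_zero]
        · simp [dg, h]
      · have hzero : ∀ E : Submodule F (Fin n → F), IsTotallySingularFor (hermForm n F q) E →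
            (∀ u ∈ E, (x : Matrix (Fin n) (Fin n) F) *ᵥ u ∈ E) → ∀ u ∈ E, u i₀ = 0 := by
          intro E hE hEx u hu
          by_contra hne
          have h3 := E.sub_mem (hEx u hu) (E.smul_mem (c : F) hu)
          have e : (x : Matrix (Fin n) (Fin n) F) *ᵥ u - (c : F) • u = Pi.single i₀ (-(2 * (c : F) * u i₀)) := by
            funext k
            rw [Pi.sub_apply, hxapp, Pi.smul_apply, smul_eq_mul]
            by_cases h : k = i₀
            · subst h; simp [dg]; ring
            · simp [dg, h]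
          rw [e] at h3
          have h4 := hE _ h3 _ h3
          rw [hσ.hermForm_single, Pi.single_eq_same, mul_eq_zero, map_eq_zero, or_self, neg_eq_zero] at h4
          exact hne ((mul_eq_zero.mp h4).resolve_left (mul_ne_zero h2 c.ne_zero))
        obtain ⟨a, ha, b, hb, hab⟩ := Submodule.mem_sup.mp
          (htop' ▸ Submodule.mem_top : (Pi.single i₀ (1 : F) : Fin n → F) ∈ E₀ ⊔ E₁)
        have h5 := congrFun hab i₀
        rw [Pi.add_apply, hzero E₀ h0 hp0 a ha, hzero E₁ h1 hp1 b hb, add_zero, Pi.single_eq_same] at h5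
        exact one_ne_zero h5.symm
    -- odd prime different from the characteristic
    have hidx := hΩ.trans (UnitaryPairs.relIndex_dvd hσ ε₀ hm0 hDd hf hfl hfr)
    obtain ⟨i, hi, hri⟩ := (Prime.dvd_finset_prod_iff hr.prime _).mp
      ((hr.dvd_mul.mp hidx).resolve_left fun h => hrq (hr.dvd_of_dvd_pow h))
    rw [Finset.mem_range] at hi
    have hr0 : (r : F) ≠ 0 := Elusive.cast_ne_zero (F := F) hrp
    set b := orderOf ((q : ZMod r) ^ 2) with hb
    have hq2i : (q : ZMod r) ^ (2 * i + 1) = -1 := by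
      rw [← ZMod.natCast_eq_zero_iff, Nat.cast_add, Nat.cast_pow, Nat.cast_one] at hri
      exact eq_neg_of_add_eq_zero_left hri
    have hbdiv : b ∣ 2 * i + 1 := orderOf_dvd_of_pow_eq_one (by
      rw [← pow_mul, mul_comm 2, pow_mul, hq2i, neg_one_sq])
    have hbodd : Odd b := (odd_two_mul_add_one i).of_dvd_nat hbdiv
    have hbpos : 0 < b := hbodd.pos
    have hbn : b < n := by have := Nat.le_of_dvd (Nat.succ_pos _) hbdiv; omega
    have hqb : r ∣ q ^ b + 1 := by
      rw [← ZMod.natCast_eq_zero_iff, Nat.cast_add, Nat.cast_pow, Nat.cast_one]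
      obtain ⟨w, hw⟩ := hbdiv
      have hwodd : Odd w := (odd_two_mul_add_one i).of_dvd_nat ⟨b, by rw [hw, mul_comm]⟩
      have h1 : ((q : ZMod r) ^ b) * ((q : ZMod r) ^ b) = 1 := by
        rw [← pow_add, ← two_mul, pow_mul, hb, pow_orderOf_eq_one]
      rcases mul_self_eq_one_iff.mp h1 with h | h
      · exfalso
        rw [hw, pow_mul, h, one_pow] at hq2i
        have h' : ((2 : ℕ) : ZMod r) = 0 := by push_cast; linear_combination hq2i
        exact hr2 ((Nat.prime_dvd_prime_iff_eq hr Nat.prime_two).mp ((ZMod.natCast_eq_zero_iff _ _).mp h'))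
      · rw [h, neg_add_cancel]
    have hnd : ∀ j, 1 ≤ j → j < b → ¬ r ∣ Fintype.card F ^ j - 1 := by
      intro j hj hjb h
      rw [hq, ← ZMod.natCast_eq_zero_iff, Nat.cast_sub (Nat.one_le_pow _ _ (by positivity)), Nat.cast_pow,
        Nat.cast_pow, Nat.cast_one, sub_eq_zero] at h
      have := Nat.le_of_dvd hj (orderOf_dvd_of_pow_eq_one h)
      omega
    suffices hM : ∃ x : GL (Fin n) F, x ∈ Cfsg.GU n F q ⊓ Cfsg.Geo.specialLinear (Fin n) F ∧
        (x : Matrix (Fin n) (Fin n) F) ^ r = 1 ∧ (x : Matrix (Fin n) (Fin n) F) ≠ 1 ∧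
        ∀ E : Submodule F (Fin n → F), IsTotallySingularFor (hermForm n F q) E →
          (∀ u ∈ E, (x : Matrix (Fin n) (Fin n) F) *ᵥ u ∈ E) → ∀ u ∈ E, (x : Matrix (Fin n) (Fin n) F) *ᵥ u = u by
      obtain ⟨x, hx, hxr, hx1, hxE⟩ := hM
      refine ⟨x, hx, ⟨1, by rw [hxr, one_smul]⟩, fun z hz => ?_, fun h => absurd h hr2,
        fun E₀ E₁ htop' _ h0 h1 hp0 hp1 => hx1 (Matrix.ext_of_mulVec_single fun k => ?_)⟩
      · have hn0 : 0 < n := by omega
        have hzr : z ^ r = 1 := by
          have h3 := hxr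
          rw [hz, smul_pow, one_pow] at h3
          simpa using congrFun (congrFun h3 ⟨0, hn0⟩) ⟨0, hn0⟩
        have hdet1 : z ^ n = 1 := by
          have h4 := congrArg Units.val (MonoidHom.mem_ker.mp hx.2)
          rw [Matrix.GeneralLinearGroup.val_det_apply, hz, Matrix.det_smul, Matrix.det_one, mul_one,
            Fintype.card_fin, Units.val_one] at h4
          exact h4
        have hzq : z * σ z = 1 := by
          have h5 := mem_GU_iff.mp hx.1 (Pi.single ⟨0, hn0⟩ 1) (Pi.single ⟨0, hn0⟩ 1)
          rw [hz, Matrix.smul_mulVec, Matrix.one_mulVec, hU.smul_left, hU.herm, hU.smul_left, map_mul,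
            hσ.hermForm_single, Pi.single_eq_same, map_one, one_mul, map_one, mul_one] at h5
          exact h5
        obtain ⟨E, hE, hEts⟩ : ∃ E : Submodule F (Fin n → F), E ≠ ⊥ ∧ IsTotallySingularFor (hermForm n F q) E :=
          ⟨D 0, fun h => by have := hDd 0; rw [h, finrank_bot] at this; omega, hDs 0⟩
        obtain ⟨u, hu, hu0⟩ := Submodule.exists_mem_ne_zero_of_ne_bot hE
        have h6 := hxE E hEts (fun w hw => by
          rw [hz, Matrix.smul_mulVec, Matrix.one_mulVec]; exact E.smul_mem z hw) u hu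
        rw [hz, Matrix.smul_mulVec, Matrix.one_mulVec] at h6
        refine hx1 ?_
        rw [hz, show z = 1 from sub_eq_zero.mp ((smul_eq_zero.mp (show (z - 1) • u = 0 by
          rw [sub_smul, h6, one_smul, sub_self])).resolve_right hu0), one_smul]
      · obtain ⟨a, ha, b', hb', hab⟩ := Submodule.mem_sup.mp
          (htop' ▸ Submodule.mem_top : (Pi.single k (1 : F) : Fin n → F) ∈ E₀ ⊔ E₁)
        rw [← hab, Matrix.mulVec_add, hxE E₀ h0 hp0 a ha, hxE E₁ h1 hp1 b' hb', Matrix.one_mulVec]
    by_cases hb1 : b = 1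
    · -- two eigenlines
      rw [hb1, pow_one] at hqb
      have hroot : ∃ ζ : Fˣ, orderOf ζ = r := exists_prime_orderOf_dvd_card' r (by
        rw [Nat.card_units, Nat.card_eq_fintype_card, hq,
          show q ^ 2 - 1 = (q + 1) * (q - 1) by rw [← Nat.sq_sub_sq, one_pow]]
        exact hqb.mul_right _)
      obtain ⟨ζ, hζ⟩ := hroot
      have hζnorm : (ζ : F) * σ (ζ : F) = 1 := UCount.norm_of_pow_eq_one hσ
        (orderOf_dvd_iff_pow_eq_one.mp (hζ.symm ▸ hqb))
      have hζ1 : (ζ : F) ≠ 1 := fun h => by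
        rw [Units.val_eq_one] at h
        rw [h, orderOf_one] at hζ
        exact hr.one_lt.ne hζ
      have hζi : (ζ : F)⁻¹ ≠ (ζ : F) := fun h => by
        have h2' : ζ ^ 2 = 1 := by
          rw [pow_two]; refine Units.ext ?_
          rw [Units.val_mul, Units.val_one]
          nth_rewrite 1 [← h]
          exact inv_mul_cancel₀ ζ.ne_zero
        have := Nat.le_of_dvd two_pos (hζ ▸ orderOf_dvd_of_pow_eq_one h2')
        have := hr.two_le
        omega
      have hζσ : σ (ζ : F) = (ζ : F)⁻¹ := eq_inv_of_mul_eq_one_right hζnorm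
      let i₀ : Fin n := ⟨0, by omega⟩
      let i₁ : Fin n := ⟨1, by omega⟩
      have hne : i₀ ≠ i₁ := by simp [i₀, i₁, Fin.ext_iff]
      obtain ⟨s, hs⟩ := UCount.exists_SU_diag hσ i₀ i₁ hne hζnorm
      obtain ⟨x, hx⟩ : ∃ x : GL (Fin n) F, x = Matrix.SpecialLinearGroup.toGL s.1 := ⟨_, rfl⟩
      have hxmat : (x : Matrix (Fin n) (Fin n) F) =
          Matrix.diagonal (Function.update (Function.update 1 i₀ (ζ : F)) i₁ ((ζ : F)⁻¹)) := by
        rw [hx, ← hζσ, ← hs]
        rfl
      refine ⟨x, ⟨?_, ?_⟩, ?_, fun h => ?_, fun E hE hEx u hu => ?_⟩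
      · rw [hx]; exact s.2
      · refine MonoidHom.mem_ker.mpr (Units.ext ?_)
        rw [Matrix.GeneralLinearGroup.val_det_apply, hx]
        exact s.1.2
      · rw [hxmat, Matrix.diagonal_pow, ← Matrix.diagonal_one]
        congr 1
        funext k
        have hζr : (ζ : F) ^ r = 1 := by
          rw [← Units.val_pow_eq_pow_val, ← hζ, pow_orderOf_eq_one, Units.val_one]
        rw [Pi.pow_apply]
        by_cases h1 : k = i₁
        · rw [h1, Function.update_self, inv_pow, hζr, inv_one]
        · rw [Function.update_of_ne h1]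
          by_cases h0 : k = i₀
          · rw [h0, Function.update_self, hζr]
          · rw [Function.update_of_ne h0, Pi.one_apply, one_pow]
      · have := congrFun (congrFun (hxmat.symm.trans h) i₀) i₀
        simp [hne, hζ1] at this
      · have hd : ∀ w : Fin n → F, (x : Matrix (Fin n) (Fin n) F) *ᵥ w - w =
            Pi.single i₀ (((ζ : F) - 1) * w i₀) + Pi.single i₁ (((ζ : F)⁻¹ - 1) * w i₁) := by
          intro w
          funext k
          rw [Pi.sub_apply, Pi.add_apply, hxmat, Matrix.mulVec_diagonal]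
          by_cases h1 : k = i₁
          · subst h1; simp [hne]; ring
          · by_cases h0 : k = i₀
            · subst h0; simp [hne]; ring
            · simp [h0, h1]
        have hm1 := E.sub_mem (hEx u hu) hu
        rw [hd] at hm1
        have hm2 := E.sub_mem (hEx _ hm1) (E.smul_mem (ζ : F) hm1)
        have e : (x : Matrix (Fin n) (Fin n) F) *ᵥ (Pi.single i₀ (((ζ : F) - 1) * u i₀) +
            Pi.single i₁ (((ζ : F)⁻¹ - 1) * u i₁)) - (ζ : F) • (Pi.single i₀ (((ζ : F) - 1) * u i₀) +
            Pi.single i₁ (((ζ : F)⁻¹ - 1) * u i₁)) =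
            Pi.single i₁ (((ζ : F)⁻¹ - (ζ : F)) * (((ζ : F)⁻¹ - 1) * u i₁)) := by
          funext k
          rw [Pi.sub_apply, hxmat, Matrix.mulVec_diagonal, Pi.smul_apply, smul_eq_mul]
          by_cases h1 : k = i₁
          · subst h1; simp [hne.symm]; ring
          · by_cases h0 : k = i₀
            · subst h0; simp [hne]
            · simp [h0, h1]
        rw [e] at hm2
        have h4 := hE _ hm2 _ hm2
        rw [hσ.hermForm_single, Pi.single_eq_same, mul_eq_zero, map_eq_zero, or_self, mul_eq_zero] at h4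
        have hu1 : ((ζ : F)⁻¹ - 1) * u i₁ = 0 := h4.resolve_left (sub_ne_zero.mpr hζi)
        rw [hu1, Pi.single_zero, add_zero] at hm1
        have h5 := hE _ hm1 _ hm1
        rw [hσ.hermForm_single, Pi.single_eq_same, mul_eq_zero, map_eq_zero, or_self] at h5
        exact sub_eq_zero.mp (by rw [hd, h5, hu1, Pi.single_zero, Pi.single_zero, add_zero])
    · -- an irreducible block
      have hGU : r ∣ Nat.card (Cfsg.GU b F q) := by
        rw [UCount.card_GU hσ]
        refine Dvd.dvd.mul_left (hqb.trans ?_) _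
        have h := Finset.dvd_prod_of_mem (fun i => if Even i then q ^ (i + 1) + 1 else q ^ (i + 1) - 1)
          (Finset.mem_range.mpr (show b - 1 < b by omega))
        simp only [if_pos (Nat.Odd.sub_odd hbodd odd_one : Even (b - 1)), Nat.sub_add_cancel hbpos] at h
        exact h
      obtain ⟨y, hy⟩ := exists_prime_orderOf_dvd_card' r hGU
      have hyr : ((y.1 : GL (Fin b) F) : Matrix (Fin b) (Fin b) F) ^ r = 1 := by
        rw [← Units.val_pow_eq_pow_val, ← SubmonoidClass.coe_pow, ← hy, pow_orderOf_eq_one, OneMemClass.coe_one,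
          Units.val_one]
      have hy1 : ((y.1 : GL (Fin b) F) : Matrix (Fin b) (Fin b) F) ≠ 1 := fun h => by
        rw [show y = 1 from Subtype.ext (Units.ext h), orderOf_one] at hy
        exact hr.one_lt.ne hy
      have hydet : ((y.1 : GL (Fin b) F) : Matrix (Fin b) (Fin b) F).det = 1 := by
        obtain ⟨dd, hdd⟩ : ∃ dd : Fˣ, dd = Matrix.GeneralLinearGroup.det (y.1 : GL (Fin b) F) := ⟨_, rfl⟩
        have h1 : dd ^ r = 1 := by
          rw [hdd, ← map_pow, ← SubmonoidClass.coe_pow, ← hy, pow_orderOf_eq_one, OneMemClass.coe_one, map_one]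
        rcases (Nat.dvd_prime hr).mp (orderOf_dvd_of_pow_eq_one h1) with h | h
        · rw [← Matrix.GeneralLinearGroup.val_det_apply, ← hdd, orderOf_eq_one_iff.mp h, Units.val_one]
        · exfalso
          refine hnd 1 le_rfl (by omega) ?_
          rw [pow_one, ← h, ← Nat.card_eq_fintype_card, ← Nat.card_units]
          exact orderOf_dvd_natCard dd
      let e : Fin b ⊕ Fin (n - b) ≃ Fin n := finSumFinEquiv.trans (finCongr (by omega))
      let X : Matrix (Fin b) (Fin b) F → Matrix (Fin n) (Fin n) F := fun M =>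
        (Matrix.fromBlocks M 0 0 1).submatrix e.symm e.symm
      have hXmul : ∀ M M', X (M * M') = X M * X M' := fun M M' => by
        simp only [X]
        rw [Matrix.submatrix_mul_equiv, Matrix.fromBlocks_multiply]
        simp
      have hX1 : X 1 = 1 := by simp [X]
      obtain ⟨x, hxmat⟩ : ∃ x : GL (Fin n) F,
          (x : Matrix (Fin n) (Fin n) F) = X ((y.1 : GL (Fin b) F) : Matrix (Fin b) (Fin b) F) :=
        ⟨⟨X (y.1 : GL (Fin b) F).1, X ((y.1 : GL (Fin b) F)⁻¹ : GL (Fin b) F).1,
          by rw [← hXmul, Units.mul_inv, hX1], by rw [← hXmul, Units.inv_mul, hX1]⟩, rfl⟩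
      have hxl : ∀ u k, ((x : Matrix (Fin n) (Fin n) F) *ᵥ u) (e (Sum.inl k)) =
          (((y.1 : GL (Fin b) F) : Matrix (Fin b) (Fin b) F) *ᵥ fun i => u (e (Sum.inl i))) k := fun u k => by
        simp [hxmat, X, Matrix.mulVec, dotProduct, ← Equiv.sum_comp e, Fintype.sum_sum_type]
      have hxr' : ∀ u k, ((x : Matrix (Fin n) (Fin n) F) *ᵥ u) (e (Sum.inr k)) = u (e (Sum.inr k)) := fun u k => by
        simp [hxmat, X, Matrix.mulVec, dotProduct, ← Equiv.sum_comp e, Fintype.sum_sum_type, Matrix.one_apply]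
      refine ⟨x, ⟨mem_GU_iff.mpr fun u v => ?_, ?_⟩, ?_, fun h => hy1 ?_, fun E hE hEx u hu => ?_⟩
      · rw [herm_blocks e, herm_blocks e u v]
        simp only [hxl, hxr']
        rw [mem_GU_iff.mp y.2]
      · refine MonoidHom.mem_ker.mpr (Units.ext ?_)
        rw [Matrix.GeneralLinearGroup.val_det_apply, hxmat]
        simp only [X, Matrix.det_submatrix_equiv_self, Matrix.det_fromBlocks_zero₁₂, hydet, Matrix.det_one, mul_one,
          Units.val_one]
      · rw [hxmat]
        have hXpow : ∀ j : ℕ, X ((y.1 : GL (Fin b) F) : Matrix (Fin b) (Fin b) F) ^ j =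
            X (((y.1 : GL (Fin b) F) : Matrix (Fin b) (Fin b) F) ^ j) := by
          intro j
          induction j with
          | zero => rw [pow_zero, pow_zero, hX1]
          | succ j ih => rw [pow_succ, ih, ← hXmul, ← pow_succ]
        rw [hXpow, hyr, hX1]
      · refine Matrix.ext fun i j => ?_
        have := congrFun (congrFun (hxmat.symm.trans h) (e (Sum.inl i))) (e (Sum.inl j))
        simpa [X, Matrix.one_apply] using this
      · let ι : (Fin b → F) →ₗ[F] (Fin n → F) :=
          { toFun := fun w k => Sum.elim w 0 (e.symm k)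
            map_add' := fun w w' => funext fun k => by
              rw [Pi.add_apply]; rcases e.symm k with i | i <;> simp
            map_smul' := fun c w => funext fun k => by
              rw [Pi.smul_apply, RingHom.id_apply]; rcases e.symm k with i | i <;> simp }
        have hι : ∀ w, (x : Matrix (Fin n) (Fin n) F) *ᵥ ι w =
            ι (((y.1 : GL (Fin b) F) : Matrix (Fin b) (Fin b) F) *ᵥ w) := fun w => funext fun k => by
          obtain ⟨k, rfl⟩ := e.surjective k
          rcases k with k | k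
          · rw [hxl]; simp [ι]
          · rw [hxr']; simp [ι]
        have hd : (x : Matrix (Fin n) (Fin n) F) *ᵥ u - u =
            ι (((y.1 : GL (Fin b) F) : Matrix (Fin b) (Fin b) F) *ᵥ (fun i => u (e (Sum.inl i))) -
              fun i => u (e (Sum.inl i))) := funext fun k => by
          obtain ⟨k, rfl⟩ := e.surjective k
          rcases k with k | k
          · rw [Pi.sub_apply, hxl]; simp [ι]
          · rw [Pi.sub_apply, hxr']; simp [ι]
        rcases irreducible_of_order hr0 hnd hyr hy1 (N := E.comap ι) (fun w hw => by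
          rw [Submodule.mem_comap] at hw ⊢
          rw [← hι]
          exact hEx _ hw) with hN | hN
        · have h1 := E.sub_mem (hEx u hu) hu
          rw [hd] at h1
          have h2 : _ ∈ E.comap ι := h1
          rw [hN, Submodule.mem_bot] at h2
          rw [← sub_eq_zero, hd, h2, map_zero]
        · exfalso
          have h1 : ι (Pi.single ⟨0, hbpos⟩ 1) ∈ E := by
            have : Pi.single ⟨0, hbpos⟩ (1 : F) ∈ E.comap ι := hN ▸ Submodule.mem_top
            exact this
          have h2 := hE _ h1 _ h1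
          rw [herm_blocks e] at h2
          simp [ι, hermForm, Pi.single_apply, show q ≠ 0 by omega] at h2
  · rintro ⟨rfl, hqodd, hle⟩ x hx ⟨z, hz⟩ hns
    have h2 := hqo hqodd
    rw [Units.val_pow_eq_pow_val, pow_two] at hz
    have hxx : ∀ u, (x : Matrix (Fin n) (Fin n) F) *ᵥ ((x : Matrix (Fin n) (Fin n) F) *ᵥ u) = z • u := fun u => by
      rw [Matrix.mulVec_mulVec, hz, Matrix.smul_mulVec, Matrix.one_mulVec]
    have hznorm : z * σ z = 1 := by
      have hn0 : 0 < n := by omega
      have h := mem_GU_iff.mp hx.1 ((x : Matrix (Fin n) (Fin n) F) *ᵥ Pi.single ⟨0, hn0⟩ 1)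
        ((x : Matrix (Fin n) (Fin n) F) *ᵥ Pi.single ⟨0, hn0⟩ 1)
      rw [hxx, mem_GU_iff.mp hx.1, hU.smul_left, hU.herm, hU.smul_left, map_mul, hσ.hermForm_single,
        Pi.single_eq_same, map_one, one_mul, map_one, mul_one] at h
      exact h
    have hz0 : z ≠ 0 := fun h => by rw [h, zero_mul] at hznorm; exact zero_ne_one hznorm
    obtain ⟨c, hc⟩ : ∃ c : F, z = c * c := by
      obtain ⟨g, hg, hord⟩ := hσ.exists_gen
      obtain ⟨a, ha⟩ := hg (Units.mk0 z hz0)
      have h1 : g ^ (a * (q + 1)) = 1 := by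
        rw [pow_mul, ← ha]
        exact UCount.pow_eq_one_of_norm hσ (by simpa using hznorm)
      have h3 : q - 1 ∣ a := by
        have h := orderOf_dvd_of_pow_eq_one h1
        rw [hord, show q ^ 2 - 1 = (q - 1) * (q + 1) by rw [mul_comm, ← Nat.sq_sub_sq, one_pow]] at h
        exact Nat.dvd_of_mul_dvd_mul_right (Nat.succ_pos q) h
      obtain ⟨a', ha'⟩ : 2 ∣ a := (even_iff_two_dvd.mp (Nat.Odd.sub_odd hqodd odd_one)).trans h3
      refine ⟨((g ^ a' : Fˣ) : F), ?_⟩
      rw [← Units.val_mul, ← pow_add, ← two_mul, ← ha', ← ha, Units.val_mk0]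
    have hc0 : c ≠ 0 := fun h => hz0 (by rw [hc, h, mul_zero])
    have hcc : (c * σ c) * (c * σ c) = 1 := by
      rw [← hznorm, hc, map_mul]; ring
    obtain ⟨g', f', hg', hf', heig⟩ : ∃ (g' : GL (Fin n) F) (f' : Fin m ⊕ Fin m → (Fin n → F)),
        g' ∈ Cfsg.GU n F q ∧ UnitaryPairs.IsFrame q f' ∧ ∀ s, ∃ l : F,
          (x : Matrix (Fin n) (Fin n) F) *ᵥ ((g' : Matrix (Fin n) (Fin n) F) *ᵥ f' s) =
            l • ((g' : Matrix (Fin n) (Fin n) F) *ᵥ f' s) := by
      have hinv : ((c⁻¹ • (x : Matrix (Fin n) (Fin n) F)) * (c⁻¹ • (x : Matrix (Fin n) (Fin n) F))) = 1 := by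
        rw [Matrix.smul_mul, Matrix.mul_smul, hz, hc, smul_smul, smul_smul,
          show c⁻¹ * c⁻¹ * (c * c) = 1 by field_simp, one_smul]
      letI : StarRing F := Small.Hermitian.starRingOfInvolution (σ : F →+* F) hσ.involutive
      have hstar : ∀ w : F, star w = w ^ q := fun w => hσ.apply_eq w
      suffices hN : ∃ (N : GL (Fin n) F) (f' : Fin m ⊕ Fin m → (Fin n → F)), N ∈ Cfsg.GU n F q ∧
          UnitaryPairs.IsFrame q f' ∧ (∀ s, ∃ l : F, (N : Matrix (Fin n) (Fin n) F) *ᵥ f' s = l • f' s) ∧
          (c⁻¹ • (N : Matrix (Fin n) (Fin n) F)) * (c⁻¹ • (N : Matrix (Fin n) (Fin n) F)) = 1 ∧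
          finrank F (LinearMap.ker (Matrix.toLin' (c⁻¹ • (N : Matrix (Fin n) (Fin n) F)) - 1)) =
            finrank F (LinearMap.ker (Matrix.toLin' (c⁻¹ • (x : Matrix (Fin n) (Fin n) F)) - 1)) by
        obtain ⟨N, f', hN, hf', hNf, hNinv, hdim⟩ := hN
        obtain ⟨G, hG⟩ := conj_of_invol h2 hNinv hinv hdim
        rw [Matrix.mul_smul, Matrix.smul_mul] at hG
        have hG' : (G : Matrix (Fin n) (Fin n) F) * N = x * (G : Matrix (Fin n) (Fin n) F) :=
          smul_right_injective _ (inv_ne_zero hc0) hG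
        have hconj : IsConj N x := isConj_iff.mpr ⟨G, Units.ext (by
          rw [Units.val_mul, Units.val_mul, hG', mul_assoc, Units.mul_inv, mul_one])⟩
        obtain ⟨k, hk⟩ := isConj_iff.mp ((Small.UnitaryConj.conj_GU hstar hq ⟨N, hN⟩ ⟨x, hx.1⟩).mpr hconj)
        refine ⟨k.1, f', k.2, hf', fun s => ?_⟩
        obtain ⟨l, hl⟩ := hNf s
        refine ⟨l, ?_⟩
        have hk' : (k.1 : GL (Fin n) F) * N = x * k.1 := by
          have := congrArg Subtype.val hk
          simp only [Subgroup.coe_mul, Subgroup.coe_inv] at this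
          rw [← this]; group
        rw [Matrix.mulVec_mulVec, ← Units.val_mul, ← hk', Units.val_mul, ← Matrix.mulVec_mulVec, hl,
          Matrix.mulVec_smul]
      -- frames built from pairs of coordinates
      have hframe : ∀ ε : F, ε * σ ε = -1 → UnitaryPairs.IsFrame q
          (Sum.elim (fun j => (2 : F)⁻¹ • (Pi.single (ε₀.symm (Sum.inl j)) 1 + Pi.single (ε₀.symm (Sum.inr j)) ε))
            (fun j => (Pi.single (ε₀.symm (Sum.inl j)) 1 - Pi.single (ε₀.symm (Sum.inr j)) ε : Fin n → F))) := by
        intro ε hε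
        have hσ2 : σ (2 : F) = 2 := map_ofNat σ 2
        intro s t
        rw [hσ.hermForm_eq, ← Equiv.sum_comp ε₀.symm, Fintype.sum_sum_type]
        have h22 : (2 : F)⁻¹ + (2 : F)⁻¹ = 1 := by rw [← two_mul, mul_inv_cancel₀ h2]
        rcases s with s | s <;> rcases t with t | t <;>
          simp [Pi.single_apply, apply_ite σ, map_inv₀, hσ2, Finset.sum_add_distrib, mul_add, add_mul, mul_sub,
            sub_mul, eq_comm] <;> split_ifs with h <;>
          first | (exfalso; omega) | simp_all | skip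
        all_goals first | linear_combination (-((2 : F)⁻¹ * (2 : F)⁻¹)) * hε | linear_combination (2 : F)⁻¹ * hε - h22 | linear_combination hε | linear_combination h22 - (2 : F)⁻¹ * hε | ring
      rcases mul_self_eq_one_iff.mp hcc with hA | hB
      · -- a scalar times an involution with an even eigenspace
        obtain ⟨a, ha⟩ : ∃ a, a = finrank F (LinearMap.ker
            (Matrix.toLin' (c⁻¹ • (x : Matrix (Fin n) (Fin n) F)) - 1)) := ⟨_, rfl⟩
        have han : a ≤ n := by
          have h1 := Submodule.finrank_le (LinearMap.ker (Matrix.toLin' (c⁻¹ • (x : Matrix (Fin n) (Fin n) F)) - 1))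
          rw [← ha, finrank_fin_fun] at h1
          exact h1
        have hne1 : (-1 : F) ≠ 1 := fun h => h2 (by linear_combination -h)
        have hcount : Fintype.card {k : Fin n // (if (k : ℕ) < a then (1 : F) else -1) = 1} = a := by
          have e : ∀ k : Fin n, (if (k : ℕ) < a then (1 : F) else -1) = 1 ↔ (k : ℕ) < a := fun k => by
            split_ifs with h <;> simp [h, hne1]
          rw [Fintype.card_congr (Equiv.subtypeEquivRight e)]
          exact (Fintype.card_congr (Fin.castLEquiv han).symm).trans (Fintype.card_fin a)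
        obtain ⟨T, hT⟩ := conj_of_invol h2 (A := c⁻¹ • (x : Matrix (Fin n) (Fin n) F))
          (B := Matrix.diagonal fun k : Fin n => if (k : ℕ) < a then (1 : F) else -1) hinv
          (by rw [Matrix.diagonal_mul_diagonal, ← Matrix.diagonal_one]; congr 1; funext k; split_ifs <;> ring)
          (by rw [← ha, finrank_ker_diag, hcount])
        have hev : Even a := by
          have hd := congrArg Matrix.det hT
          rw [Matrix.det_mul, Matrix.det_mul, mul_comm (Matrix.det _) (Matrix.det (T : Matrix (Fin n) (Fin n) F))] at hd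
          have hd' := mul_left_cancel₀ (Matrix.GeneralLinearGroup.det_ne_zero T) hd
          rw [Matrix.det_smul, Fintype.card_fin, ← Matrix.GeneralLinearGroup.val_det_apply,
            show Matrix.GeneralLinearGroup.det x = 1 from MonoidHom.mem_ker.mp hx.2, Units.val_one, mul_one,
            Matrix.det_diagonal, Finset.prod_ite, Finset.prod_const_one, one_mul, Finset.prod_const] at hd'
          by_contra hodd
          have hcard : (Finset.univ.filter fun k : Fin n => ¬ (k : ℕ) < a).card = n - a := by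
            have h1 := Finset.card_filter_add_card_filter_not (s := (Finset.univ : Finset (Fin n)))
              (p := fun k : Fin n => (k : ℕ) < a)
            rw [Finset.card_univ, Fintype.card_fin, ← Fintype.card_subtype,
              (Fintype.card_congr (Fin.castLEquiv han).symm).trans (Fintype.card_fin a)] at h1
            omega
          rw [hcard, (Nat.Even.sub_odd han (by exact he) (Nat.not_even_iff_odd.mp hodd)).neg_one_pow, inv_pow,
            inv_eq_iff_eq_inv, inv_neg, inv_one] at hd'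
          -- the order of `c` is too small for this
          obtain ⟨cu, hcu⟩ : ∃ cu : Fˣ, (cu : F) = c := ⟨Units.mk0 c hc0, rfl⟩
          have hcn : cu ^ n = -1 := Units.ext (by rw [Units.val_pow_eq_pow_val, hcu, hd']; simp)
          have hcq : cu ^ (q + 1) = 1 := UCount.pow_eq_one_of_norm hσ (by rw [hcu]; exact hA)
          obtain ⟨w, hw⟩ := pow_padicValNat_dvd (p := 2) (n := n)
          obtain ⟨w', hw'⟩ : 2 ^ padicValNat 2 (q + 1) ∣ n :=
            (pow_dvd_pow 2 hle).trans pow_padicValNat_dvd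
          obtain ⟨w'', hw''⟩ := pow_padicValNat_dvd (p := 2) (n := q + 1)
          have hodd'' : Odd w'' := Nat.not_even_iff_odd.mp fun hev' => by
            obtain ⟨w₃, rfl⟩ := hev'
            refine pow_succ_padicValNat_not_dvd (p := 2) (show q + 1 ≠ 0 by omega) ?_
            rw [pow_succ]
            exact ⟨w₃, hw''.trans (by ring)⟩
          have e1 : cu ^ (n * w'') = 1 := by
            rw [show n * w'' = (q + 1) * w' by
              calc n * w'' = 2 ^ padicValNat 2 (q + 1) * w' * w'' := by rw [← hw']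
                _ = 2 ^ padicValNat 2 (q + 1) * w'' * w' := by ring
                _ = (q + 1) * w' := by rw [← hw''], pow_mul, hcq, one_pow]
          rw [pow_mul, hcn, hodd''.neg_one_pow] at e1
          exact hne1 (by simpa using congrArg Units.val e1)
        obtain ⟨a', ha'⟩ := hev
        obtain ⟨ε, hε0, hε⟩ := hσ.norm_surjective (t := -1) (neg_ne_zero.mpr one_ne_zero) (by rw [map_neg, map_one])
        obtain ⟨s, hs⟩ : ∃ s : Fin m → F, ∀ j, s j = if (j : ℕ) < a' then 1 else -1 := ⟨_, fun _ => rfl⟩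
        obtain ⟨N, hN, hNmat⟩ := UCount.exists_diag hσ (fun k => c * Sum.elim s s (ε₀ k)) (fun k => by
          rcases ε₀ k with j | j <;> simp only [Sum.elim_inl, Sum.elim_inr, hs] <;>
            split_ifs <;> simp [hA])
        refine ⟨N, _, hN, hframe ε hε, fun t => ⟨c * Sum.elim s s t, funext fun k => ?_⟩, ?_, ?_⟩
        · rw [hNmat, Matrix.mulVec_diagonal, Pi.smul_apply, smul_eq_mul]
          obtain ⟨k, rfl⟩ := ε₀.symm.surjective k
          rcases t with t | t <;> rcases k with k | k <;> by_cases hkt : k = t <;> simp [hkt]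
        · rw [hNmat, Matrix.smul_mul, Matrix.mul_smul, Matrix.diagonal_mul_diagonal, smul_smul, ← Matrix.diagonal_smul,
            ← Matrix.diagonal_one]
          congr 1
          funext k
          simp only [Pi.smul_apply, smul_eq_mul]
          rcases ε₀ k with j | j <;> simp only [Sum.elim_inl, Sum.elim_inr, hs] <;> split_ifs <;> field_simp
        · rw [hNmat, ← Matrix.diagonal_smul, finrank_ker_diag, ← ha]
          have e : ∀ k : Fin n, (c⁻¹ • fun k => c * Sum.elim s s (ε₀ k)) k = 1 ↔
              Sum.elim (fun j : Fin m => (j : ℕ) < a') (fun j : Fin m => (j : ℕ) < a') (ε₀ k) := fun k => by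
            rw [Pi.smul_apply, smul_eq_mul, ← mul_assoc, inv_mul_cancel₀ hc0, one_mul]
            rcases ε₀ k with j | j <;> simp only [Sum.elim_inl, Sum.elim_inr, hs] <;>
              split_ifs with h <;> simp [h, hne1]
          have ham : a' ≤ m := by omega
          rw [Fintype.card_congr ((Equiv.subtypeEquivRight e).trans
            (ε₀.subtypeEquiv (q := fun t : Fin m ⊕ Fin m =>
              Sum.elim (fun j : Fin m => (j : ℕ) < a') (fun j : Fin m => (j : ℕ) < a') t) fun k => Iff.rfl)),
            Fintype.card_congr Equiv.subtypeSum, Fintype.card_sum]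
          refine (congrArg₂ (· + ·) ?_ ?_).trans ha'.symm <;>
            refine Eq.trans ?_ ((Fintype.card_congr (Fin.castLEquiv ham).symm).trans (Fintype.card_fin a')) <;>
            convert rfl using 3 <;> rfl
      · -- the two eigenspaces are totally singular
        have hdimX : ∀ M : GL (Fin n) F, M ∈ Cfsg.GU n F q → (M : Matrix (Fin n) (Fin n) F) * M = z • 1 →
            finrank F (LinearMap.ker (Matrix.toLin' (c⁻¹ • (M : Matrix (Fin n) (Fin n) F)) - 1)) = m := by
          intro M hM hMM
          have hker : ∀ s : F, s * s = 1 → ∀ u, c⁻¹ • ((M : Matrix (Fin n) (Fin n) F) *ᵥ u) = s • u →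
              ∀ v, c⁻¹ • ((M : Matrix (Fin n) (Fin n) F) *ᵥ v) = s • v → hermForm n F q u v = 0 := by
            intro s hs' u hu v hv
            have e1 : (M : Matrix (Fin n) (Fin n) F) *ᵥ u = (c * s) • u := by
              rw [mul_smul, ← hu, smul_smul, mul_inv_cancel₀ hc0, one_smul]
            have e2 : (M : Matrix (Fin n) (Fin n) F) *ᵥ v = (c * s) • v := by
              rw [mul_smul, ← hv, smul_smul, mul_inv_cancel₀ hc0, one_smul]
            have h := mem_GU_iff.mp hM u v
            rw [e1, e2, hU.smul_left, hU.herm u, hU.smul_left, map_mul, ← hU.herm u, map_mul] at h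
            have hss : σ s = s := by
              rcases mul_self_eq_one_iff.mp hs' with rfl | rfl <;> simp
            rw [hss] at h
            exact (mul_eq_zero.mp (show (2 : F) * hermForm n F q u v = 0 by
              linear_combination (-1 : F) * h + s * s * hermForm n F q u v * hB - hermForm n F q u v * hs')).resolve_left h2
          have hhalf : ∀ W : Submodule F (Fin n → F), (∀ u ∈ W, ∀ v ∈ W, hermForm n F q u v = 0) →
              finrank F W ≤ m := by
            intro W hW
            have hle' : W ≤ unitaryPerp hσ W := fun v hv => hσ.mem_perp.mpr fun w hw => hW w hw v hv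
            have h1 := Submodule.finrank_mono hle'
            have h3 := hσ.finrank_perp W
            omega
          have hsum : (⊤ : Submodule F (Fin n → F)) ≤
              LinearMap.ker (Matrix.toLin' (c⁻¹ • (M : Matrix (Fin n) (Fin n) F)) - 1) ⊔
                LinearMap.ker (Matrix.toLin' (c⁻¹ • (M : Matrix (Fin n) (Fin n) F)) + 1) := fun u _ => by
            have hMu : ∀ u, c⁻¹ • ((M : Matrix (Fin n) (Fin n) F) *ᵥ (c⁻¹ • ((M : Matrix (Fin n) (Fin n) F) *ᵥ u))) = u := by
              intro u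
              rw [Matrix.mulVec_smul, Matrix.mulVec_mulVec, hMM, Matrix.smul_mulVec, Matrix.one_mulVec, smul_smul,
                smul_smul, hc, show c⁻¹ * c⁻¹ * (c * c) = 1 by field_simp, one_smul]
            have e : u = (2 : F)⁻¹ • (u + c⁻¹ • ((M : Matrix (Fin n) (Fin n) F) *ᵥ u)) +
                (2 : F)⁻¹ • (u - c⁻¹ • ((M : Matrix (Fin n) (Fin n) F) *ᵥ u)) := by
              rw [← smul_add, add_add_sub_cancel, ← two_smul F u, smul_smul, inv_mul_cancel₀ h2, one_smul]
            rw [e]
            refine Submodule.add_mem_sup (Submodule.smul_mem _ _ ?_) (Submodule.smul_mem _ _ ?_) <;>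
              simp only [LinearMap.mem_ker, LinearMap.sub_apply, LinearMap.add_apply, Module.End.one_apply,
                Matrix.toLin'_apply, Matrix.smul_mulVec, Matrix.mulVec_add, Matrix.mulVec_sub, smul_add, smul_sub,
                hMu] <;> abel
          have h1 := hhalf (LinearMap.ker (Matrix.toLin' (c⁻¹ • (M : Matrix (Fin n) (Fin n) F)) - 1)) fun u hu v hv => by
            rw [LinearMap.mem_ker, LinearMap.sub_apply, sub_eq_zero, Matrix.toLin'_apply, Matrix.smul_mulVec,
              Module.End.one_apply] at hu hv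
            exact hker 1 (one_mul 1) u (by rw [one_smul]; exact hu) v (by rw [one_smul]; exact hv)
          have h3 := hhalf (LinearMap.ker (Matrix.toLin' (c⁻¹ • (M : Matrix (Fin n) (Fin n) F)) + 1)) fun u hu v hv => by
            rw [LinearMap.mem_ker, LinearMap.add_apply, Matrix.toLin'_apply, Matrix.smul_mulVec,
              Module.End.one_apply, add_eq_zero_iff_eq_neg] at hu hv
            exact hker (-1) (by ring) u (by rw [neg_one_smul]; exact hu) v (by rw [neg_one_smul]; exact hv)
          have h4 := (Submodule.finrank_mono hsum).trans (Submodule.finrank_add_le_finrank_add_finrank _ _)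
          rw [finrank_top, finrank_fin_fun] at h4
          omega
        obtain ⟨M₀, hM₀⟩ : ∃ M₀ : Matrix (Fin n) (Fin n) F, M₀ =
            (Matrix.fromBlocks 0 (z • (1 : Matrix (Fin m) (Fin m) F)) 1 0).submatrix ε₀ ε₀ := ⟨_, rfl⟩
        have hMM₀ : M₀ * M₀ = z • 1 := by
          rw [hM₀, Matrix.submatrix_mul_equiv, Matrix.fromBlocks_multiply]
          simp only [Matrix.zero_mul, Matrix.mul_one, Matrix.one_mul, zero_add, add_zero, Matrix.mul_zero,
            Matrix.smul_mul, smul_zero]
          rw [show Matrix.fromBlocks (z • (1 : Matrix (Fin m) (Fin m) F)) 0 0 (z • 1) = z • 1 by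
            rw [← Matrix.fromBlocks_one, Matrix.fromBlocks_smul, smul_zero]]
          ext i j
          simp [Matrix.one_apply]
        obtain ⟨N, hNmat⟩ : ∃ N : GL (Fin n) F, (N : Matrix (Fin n) (Fin n) F) = M₀ :=
          ⟨⟨M₀, z⁻¹ • M₀, by rw [Matrix.mul_smul, hMM₀, smul_smul, inv_mul_cancel₀ hz0, one_smul],
            by rw [Matrix.smul_mul, hMM₀, smul_smul, inv_mul_cancel₀ hz0, one_smul]⟩, rfl⟩
        have hapl : ∀ u j, (M₀ *ᵥ u) (ε₀.symm (Sum.inl j)) = z * u (ε₀.symm (Sum.inr j)) := fun u j => by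
          simp [hM₀, Matrix.mulVec, dotProduct, ← Equiv.sum_comp ε₀.symm, Fintype.sum_sum_type, Matrix.one_apply]
        have hapr : ∀ u j, (M₀ *ᵥ u) (ε₀.symm (Sum.inr j)) = u (ε₀.symm (Sum.inl j)) := fun u j => by
          simp [hM₀, Matrix.mulVec, dotProduct, ← Equiv.sum_comp ε₀.symm, Fintype.sum_sum_type, Matrix.one_apply]
        have hN : N ∈ Cfsg.GU n F q := mem_GU_iff.mpr fun u v => by
          rw [hσ.hermForm_eq, hσ.hermForm_eq, ← Equiv.sum_comp ε₀.symm, ← Equiv.sum_comp ε₀.symm]
          simp only [Fintype.sum_sum_type, hNmat, hapl, hapr, map_mul]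
          rw [add_comm]
          congr 1
          refine Finset.sum_congr rfl fun j _ => ?_
          linear_combination (u (ε₀.symm (Sum.inr j)) * σ (v (ε₀.symm (Sum.inr j)))) * hznorm
        refine ⟨N, _, hN, hframe c⁻¹ ?_, fun t => ⟨Sum.elim (fun _ => c) (fun _ => -c) t, funext fun k => ?_⟩, ?_, ?_⟩
        · rw [map_inv₀, ← mul_inv, hB, inv_neg, inv_one]
        · rw [hNmat, Pi.smul_apply, smul_eq_mul]
          obtain ⟨k, rfl⟩ := ε₀.symm.surjective k
          rcases t with t | t <;> rcases k with k | k <;> (first | rw [hapl] | rw [hapr]) <;>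
            by_cases hkt : k = t <;> simp [hkt, hc] <;> field_simp
        · rw [hNmat, Matrix.smul_mul, Matrix.mul_smul, hMM₀, hc, smul_smul, smul_smul,
            show c⁻¹ * c⁻¹ * (c * c) = 1 by field_simp, one_smul]
        · rw [hdimX N hN (by rw [hNmat]; exact hMM₀), hdimX x hx.1 hz]
    have hgf : UnitaryPairs.IsFrame q fun s => (g' : Matrix (Fin n) (Fin n) F) *ᵥ f' s := fun s t => by
      rw [mem_GU_iff.mp hg']; exact hf' s t
    obtain ⟨g, hg, hgmove⟩ := UnitaryPairs.exists_SU_move hσ ε₀ hm0 hf hgf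
    refine ⟨g, hg, 1, fun i => ?_⟩
    rw [Equiv.Perm.coe_one, id_eq]
    have hY : ∀ s, ∃ l : F, ((g⁻¹ * x * g : GL (Fin n) F) : Matrix (Fin n) (Fin n) F) *ᵥ f s = l • f s := by
      intro s
      obtain ⟨l, hl0, hl⟩ := hgmove s
      obtain ⟨l', hl'⟩ := heig s
      refine ⟨l', ?_⟩
      rw [Units.val_mul, Units.val_mul, ← Matrix.mulVec_mulVec, ← Matrix.mulVec_mulVec, hl, Matrix.mulVec_smul,
        hl', smul_comm l l', ← hl, Matrix.mulVec_smul, Matrix.mulVec_mulVec, ← Units.val_mul, inv_mul_cancel,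
        Units.val_one, Matrix.one_mulVec]
    have hli : LinearIndependent F f := by
      rw [Fintype.linearIndependent_iff]
      intro w hw s
      have hwP : UnitaryPairs.frameMat ε₀ f *ᵥ (fun k => w (ε₀ k)) = 0 := by
        rw [← hw, ← Equiv.sum_comp ε₀]
        funext i
        simp [Matrix.mulVec, dotProduct, UnitaryPairs.frameMat, mul_comm]
      have h0 := Matrix.mulVec_injective_iff_isUnit.mpr ((Matrix.isUnit_iff_isUnit_det _).mpr
        (UnitaryPairs.frame_isUnit hσ ε₀ hf)) (hwP.trans (Matrix.mulVec_zero _).symm)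
      simpa using congrFun h0 (ε₀.symm s)
    refine Submodule.eq_of_le_of_finrank_le ?_ ?_
    · have key : ∀ (κ : Fin 2) (inj : Fin m → Fin m ⊕ Fin m), Function.Injective inj → (∀ j, f (inj j) ∈ D κ) →
          (D κ).map (Matrix.toLin' ((g⁻¹ * x * g : GL (Fin n) F) : Matrix (Fin n) (Fin n) F)) ≤ D κ := by
        intro κ inj hinj hmem
        have hspan : Submodule.span F (Set.range (f ∘ inj)) = D κ := by
          refine Submodule.eq_of_le_of_finrank_le (Submodule.span_le.mpr ?_) ?_
          · rintro _ ⟨j, rfl⟩; exact hmem j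
          · rw [finrank_span_eq_card (hli.comp inj hinj), Fintype.card_fin, hDd]
        nth_rewrite 1 [← hspan]
        rw [Submodule.map_span, Submodule.span_le]
        rintro _ ⟨_, ⟨j, rfl⟩, rfl⟩
        obtain ⟨l, hl⟩ := hY (inj j)
        rw [Matrix.toLin'_apply, Function.comp_apply, hl]
        exact (D κ).smul_mem l (hmem j)
      fin_cases i
      · exact key 0 Sum.inl Sum.inl_injective hfl
      · exact key 1 Sum.inr Sum.inr_injective hfr
    · refine le_of_eq (LinearEquiv.finrank_eq (Submodule.equivMapOfInjective _ (fun u v huv => ?_) (D i)))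
      rw [Matrix.toLin'_apply, Matrix.toLin'_apply] at huv
      have h' := congrArg (fun w => ((g⁻¹ * x * g)⁻¹ : GL (Fin n) F).1 *ᵥ w) huv
      simp only [Matrix.mulVec_mulVec, ← Units.val_mul, inv_mul_cancel, Units.val_one, Matrix.one_mulVec] at h'
      exact h'

end Cfsg.Agent.S5984
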