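import Cfsg.Statements.S5985
import Cfsg.Agent.Lib.Classical.Elusive.CharTwoModels
-- import your own Cfsg.Agent.* helpers here

set_option autoImplicit false
open scoped MatrixGroups
open Cfsg

namespace Cfsg.Agent.S5985

open Cfsg.Agent.Classical in
/-- Elements of prime order of Ω⁺_n(q), q even, with no fixed nonsingular 1-space. Here `T = PΩ⁺_n(F)`, `n = 2d ≥ 8`, realised through `Ω⁺_n(q)`, the commutator subgroup of the isometry group of `Q = Σ xᵢyᵢ` over the field `F` with `q` elements; an element of `T` of prime order `r` is an element `x` of `Ω⁺_n(q)` with `x^r` scalar and `x` not scalar; `q` is even (so the centre is trivial). Let Ω be the set of 1-dimensional subspaces spanned by a vector `v` with `Q(v) ≠ 0`, and let `r` be a prime dividing their number. Then every element of `T` of order `r` fixes some nonsingular 1-space if and only if `r = 2` and `n ≡ 2 (mod 4)` (that is, `d` is odd). -/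
theorem result {F : Type*} [Field F] [Fintype F] {p : ℕ} [Fact p.Prime] [CharP F p] {q : ℕ} (hq : Fintype.card F = q)
    (hp : p = 2) (d : ℕ) (hd : 4 ≤ d) (r : ℕ) [Fact r.Prime]
    (hrΩ : r ∣ Nat.card {W : Submodule F (Fin d ⊕ Fin d → F) // Module.finrank F ↥W = 1 ∧ ∃ v ∈ W, Cfsg.quadFormPlus d F v ≠ 0}) :
    (∀ x : GL (Fin d ⊕ Fin d) F, x ∈ Cfsg.Geo.omegaGL (Cfsg.quadFormPlus d F) →
      (∃ z : F, ((x ^ r : GL (Fin d ⊕ Fin d) F) : Matrix (Fin d ⊕ Fin d) (Fin d ⊕ Fin d) F) = z • (1 : Matrix (Fin d ⊕ Fin d) (Fin d ⊕ Fin d) F)) →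
      (∀ z : F, (x : Matrix (Fin d ⊕ Fin d) (Fin d ⊕ Fin d) F) ≠ z • (1 : Matrix (Fin d ⊕ Fin d) (Fin d ⊕ Fin d) F)) →
      ∃ W : Submodule F (Fin d ⊕ Fin d → F), (Module.finrank F ↥W = 1 ∧ ∃ v ∈ W, Cfsg.quadFormPlus d F v ≠ 0) ∧ W.map (Matrix.toLin' (x : Matrix (Fin d ⊕ Fin d) (Fin d ⊕ Fin d) F)) ≤ W) ↔ (r = 2 ∧ Odd d) := by
  subst hp
  have h2 : (2 : F) = 0 := CharTwo.two_eq_zero
  have hpnd : OCount.PND (CharTwoQuad.plusForm d F) := CharTwoQuad.plusForm_pnd
  have hV : Module.finrank F (Fin d ⊕ Fin d → F) = 2 * d := by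
    rw [Module.finrank_fintype_fun_eq_card, Fintype.card_sum, Fintype.card_fin]; ring
  have hne := CharTwoQuad.exists_nonzero_value hpnd (by simp; omega)
  simp only [← CharTwoQuad.coe_plusForm (d := d) (F := F)] at hrΩ ⊢
  constructor
  · intro hall
    rcases eq_or_ne r 2 with rfl | hr2
    · refine ⟨rfl, Nat.not_even_iff_odd.mp fun ⟨k, hk⟩ => ?_⟩
      subst hk
      obtain ⟨x, hx, hx2, hx1, hts, hΩ⟩ := CharTwoQuad.exists_ts_involution (F := F) h2 (k := k) (by omega)
      simp only [← CharTwoQuad.coe_plusForm (d := k + k) (F := F)] at hx hts hΩ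
      have hxi := CharTwoQuad.mem_isometry.mp hx
      obtain ⟨v, hv, hQv⟩ := (CharTwoQuad.exists_point_iff h2 hxi).mp
        (hall x (hΩ (by omega)) ⟨1, by rw [hx2, Units.val_one, one_smul]⟩
          fun z hz => hx1 (CharTwoQuad.scalar_eq_one h2 hne hxi hz))
      exact hQv (hts v hv)
    · exfalso
      have hr : r.Prime := Fact.out
      have hq2 : 2 ≤ Fintype.card F := Fintype.one_lt_card
      have hcount := CharTwoQuad.card_points (Q := CharTwoQuad.plusForm d F)
      obtain ⟨k, rfl⟩ : ∃ k, d = k + 1 := ⟨d - 1, by omega⟩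
      rw [CharTwoQuad.zeros_plusForm, CharTwoQuad.plusN_succ, Fintype.card_sum, Fintype.card_fin] at hcount
      obtain ⟨c, hc⟩ := hrΩ
      rw [hc] at hcount
      have hdvd : r ∣ Fintype.card F ^ (k + 1) - 1 := by
        refine ((Nat.Prime.dvd_mul hr (m := Fintype.card F ^ k)).mp ⟨c, ?_⟩).resolve_left
          fun h => CharTwoQuad.prime_not_dvd_card h2 hr hr2 (hr.dvd_of_dvd_pow h)
        have hpos : 0 < Fintype.card F - 1 := by omega
        refine Nat.eq_of_mul_eq_mul_left hpos ?_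
        have h1 : 1 ≤ Fintype.card F ^ (k + 1) := Nat.one_le_pow _ _ (by omega)
        zify [h1, (by omega : 1 ≤ Fintype.card F)] at hcount ⊢
        rw [pow_add] at hcount
        simp only [pow_succ] at hcount ⊢
        linear_combination -hcount
      obtain ⟨x, hx, hxr, hfix⟩ := CharTwoQuad.exists_fixfree_plus (F := F) (d := k + 1) (by omega) hr hdvd
      rw [← CharTwoQuad.coe_plusForm] at hx
      have hxi := CharTwoQuad.mem_isometry.mp hx
      have hx1 : x ≠ 1 := fun h => by
        obtain ⟨v, hv⟩ := hne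
        exact hv (by rw [hfix v (by rw [h, Units.val_one, Matrix.one_mulVec]), QuadraticMap.map_zero])
      obtain ⟨v, hv, hQv⟩ := (CharTwoQuad.exists_point_iff h2 hxi).mp
        (hall x (CharTwoQuad.mem_omegaGL_of_odd hpnd (by simp; omega) hx (hr.odd_of_ne_two hr2) hxr)
          ⟨1, by rw [hxr, Units.val_one, one_smul]⟩ fun z hz => hx1 (CharTwoQuad.scalar_eq_one h2 hne hxi hz))
      exact hQv (by rw [hfix v hv, QuadraticMap.map_zero])
  · rintro ⟨rfl, hodd⟩ x hx hz hns
    have hiso : x ∈ Cfsg.isometryGroup F ⇑(CharTwoQuad.plusForm d F) := Subgroup.map_subtype_le _ hx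
    have hxi := CharTwoQuad.mem_isometry.mp hiso
    have hx2 := CharTwoQuad.pow_eq_one_of_scalar h2 hne hiso hz
    refine (CharTwoQuad.exists_point_iff h2 hxi).mpr (by_contra fun hcon => ?_)
    push Not at hcon
    obtain ⟨hev, -⟩ := CharTwoQuad.fix_ts h2 hpnd (by omega) hV
      (g := Matrix.mulVecLin (x : Matrix (Fin d ⊕ Fin d) (Fin d ⊕ Fin d) F))
      (fun v => by
        simp only [Matrix.mulVecLin_apply, Matrix.mulVec_mulVec]
        rw [← _root_.sq, ← Units.val_pow_eq_pow_val, hx2, Units.val_one, Matrix.one_mulVec])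
      hxi hcon
    exact Nat.not_even_iff_odd.mpr hodd hev

end Cfsg.Agent.S5985
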