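import Cfsg.Statements.S5986
import Cfsg.Agent.Lib.Classical.Elusive.CharTwoModels
-- import your own Cfsg.Agent.* helpers here

set_option autoImplicit false
open scoped MatrixGroups
open Cfsg

namespace Cfsg.Agent.S5986

open Cfsg.Agent.Classical in
/-- Elements of prime order of Ω⁻_n(q), q even, with no fixed nonsingular 1-space. Here `T = PΩ⁻_n(F)`, `n = 2d ≥ 8`, realised through `Ω⁻_n(q)`, the commutator subgroup of the isometry group of `Q = Σ_{i<d−1} xᵢyᵢ + z₁² + a z₁z₂ + b z₂²` with `z₁² + a z₁z₂ + b z₂²` anisotropic, over the field `F` with `q` elements; an element of `T` of prime order `r` is an element `x` of `Ω⁻_n(q)` with `x^r` scalar and `x` not scalar; `q` is even (so the centre is trivial). Let Ω be the set of 1-dimensional subspaces spanned by a vector `v` with `Q(v) ≠ 0`, and let `r` be a prime dividing their number. Then every element of `T` of order `r` fixes some nonsingular 1-space if and only if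 `r = 2`. -/
theorem result {F : Type*} [Field F] [Fintype F] {p : ℕ} [Fact p.Prime] [CharP F p] {q : ℕ} (hq : Fintype.card F = q)
    (hp : p = 2) (d : ℕ) (hd : 4 ≤ d) (a b : F) (hab : ∀ x y : F, x ^ 2 + a * x * y + b * y ^ 2 = 0 → x = 0 ∧ y = 0) (r : ℕ) [Fact r.Prime]
    (hrΩ : r ∣ Nat.card {W : Submodule F ((Fin (d - 1) ⊕ Fin (d - 1)) ⊕ Fin 2 → F) // Module.finrank F ↥W = 1 ∧ ∃ v ∈ W, Cfsg.quadFormMinus (d - 1) F a b v ≠ 0}) :
    (∀ x : GL ((Fin (d - 1) ⊕ Fin (d - 1)) ⊕ Fin 2) F, x ∈ Cfsg.Geo.omegaGL (Cfsg.quadFormMinus (d - 1) F a b) →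
      (∃ z : F, ((x ^ r : GL ((Fin (d - 1) ⊕ Fin (d - 1)) ⊕ Fin 2) F) : Matrix ((Fin (d - 1) ⊕ Fin (d - 1)) ⊕ Fin 2) ((Fin (d - 1) ⊕ Fin (d - 1)) ⊕ Fin 2) F) = z • (1 : Matrix ((Fin (d - 1) ⊕ Fin (d - 1)) ⊕ Fin 2) ((Fin (d - 1) ⊕ Fin (d - 1)) ⊕ Fin 2) F)) →
      (∀ z : F, (x : Matrix ((Fin (d - 1) ⊕ Fin (d - 1)) ⊕ Fin 2) ((Fin (d - 1) ⊕ Fin (d - 1)) ⊕ Fin 2) F) ≠ z • (1 : Matrix ((Fin (d - 1) ⊕ Fin (d - 1)) ⊕ Fin 2) ((Fin (d - 1) ⊕ Fin (d - 1)) ⊕ Fin 2) F)) →
      ∃ W : Submodule F ((Fin (d - 1) ⊕ Fin (d - 1)) ⊕ Fin 2 → F), (Module.finrank F ↥W = 1 ∧ ∃ v ∈ W, Cfsg.quadFormMinus (d - 1) F a b v ≠ 0) ∧ W.map (Matrix.toLin' (x : Matrix ((Fin (d - 1) ⊕ Fin (d - 1)) ⊕ Fin 2) ((Fin (d - 1) ⊕ Fin (d - 1)) ⊕ Fin 2) F)) ≤ W) ↔ r = 2 := by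
  subst hp
  have h2 : (2 : F) = 0 := CharTwo.two_eq_zero
  obtain ⟨k, hk⟩ : ∃ k, d - 1 = k := ⟨_, rfl⟩
  rw [hk] at hrΩ ⊢
  obtain rfl : d = k + 1 := by omega
  set Q : QuadraticForm F ((Fin k ⊕ Fin k) ⊕ Fin 2 → F) := OOmega.formOf k (Equiv.refl _) (OCount.planeForm a b)
    with hQdef
  have hcoe : ⇑Q = Cfsg.quadFormMinus k F a b := OOmega.coe_minus k a b
  have hpnd : OCount.PND Q := OOmega.formOf_pnd (OOmega.pnd_plane hab)
  have hz0 : CharTwoQuad.zeros Q = CharTwoQuad.minusN (Fintype.card F) (k + 1) := by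
    rw [CharTwoQuad.zeros, hcoe]; exact CharTwoQuad.card_minus_zeros k hab
  have hV : Module.finrank F ((Fin k ⊕ Fin k) ⊕ Fin 2 → F) = 2 * (k + 1) := by
    rw [Module.finrank_fintype_fun_eq_card, Fintype.card_sum, Fintype.card_sum, Fintype.card_fin,
      Fintype.card_fin]; ring
  have hcard : Fintype.card ((Fin k ⊕ Fin k) ⊕ Fin 2) = 2 * (k + 1) := by
    rw [← hV, Module.finrank_fintype_fun_eq_card]
  have hne := CharTwoQuad.exists_nonzero_value hpnd (by omega)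
  have hpm := CharTwoQuad.plus_ne_minus (q := Fintype.card F) Fintype.one_lt_card (m := k + 1) (by omega)
  simp only [← hcoe] at hrΩ ⊢
  constructor
  · intro hall
    by_contra hr2
    have hr : r.Prime := Fact.out
    have hq2 : 2 ≤ Fintype.card F := Fintype.one_lt_card
    have hcount := CharTwoQuad.card_points (Q := Q)
    rw [hz0, CharTwoQuad.minusN_succ (by omega), hcard] at hcount
    obtain ⟨c, hc⟩ := hrΩ
    rw [hc] at hcount
    have hdvd : r ∣ Fintype.card F ^ (k + 1) + 1 := by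
      refine ((Nat.Prime.dvd_mul hr (m := Fintype.card F ^ k)).mp ⟨c, ?_⟩).resolve_left
        fun h => CharTwoQuad.prime_not_dvd_card h2 hr hr2 (hr.dvd_of_dvd_pow h)
      have hpos : 0 < Fintype.card F - 1 := by omega
      refine Nat.eq_of_mul_eq_mul_left hpos ?_
      have h1 : 1 ≤ Fintype.card F ^ k := Nat.one_le_pow _ _ (by omega)
      zify [h1, (by omega : 1 ≤ Fintype.card F)] at hcount ⊢
      simp only [pow_succ, pow_mul', pow_two] at hcount ⊢
      linear_combination -hcount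
    have hB : SpCount.IsAltND (QuadraticMap.polarBilin Q) := ⟨fun v => by
      rw [QuadraticMap.polarBilin_apply_apply, QuadraticMap.polar_self, two_nsmul]
      exact CharTwoQuad.add_self' h2 _, hpnd⟩
    obtain ⟨g, hgr, hgfix, hgB⟩ := CharTwoQuad.exists_fixfree_isom h2 hB (d := k + 1) (by omega) hV hr hdvd
    obtain ⟨Q', hpol, hinv⟩ := CharTwoQuad.exists_average h2 Q (hr.odd_of_ne_two hr2) hgr hgB
    have hpnd' : OCount.PND Q' := fun v hv => hpnd v fun w => by rw [← hpol]; exact hv w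
    have hz' : CharTwoQuad.zeros Q' = CharTwoQuad.zeros Q := by
      rcases CharTwoQuad.zeros_cases hpnd' (by omega) hV with h | h
      · have hd := CharTwoQuad.dvd_zeros hgr hgfix hinv
        rw [h] at hd
        exact absurd hd (CharTwoQuad.not_dvd_plus (by omega) (by omega) hr hr2 hdvd)
      · rw [h, hz0]
    obtain ⟨φ, hφ⟩ := CharTwoQuad.exists_isometry h2 hpnd' hpnd (by omega) hV hV hz'
    have hgr' : (φ.conj g) ^ r = (1 : Module.End F _) := by
      show (φ.conjAlgEquiv F g) ^ r = 1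
      rw [← map_pow, hgr, map_one]
    set x := CharTwoQuad.glOf (φ.conj g) r hr.ne_zero hgr' with hxdef
    have hxv : ∀ v, Matrix.mulVec (x : Matrix ((Fin k ⊕ Fin k) ⊕ Fin 2) ((Fin k ⊕ Fin k) ⊕ Fin 2) F) v = φ (g (φ.symm v)) := fun v => by
      rw [hxdef, CharTwoQuad.glOf_mulVec]; rfl
    have hx : x ∈ Cfsg.isometryGroup F ⇑Q := CharTwoQuad.mem_isometry.mpr fun v => by
      rw [hxv, hφ, hinv, ← hφ, φ.apply_symm_apply]
    have hxi := CharTwoQuad.mem_isometry.mp hx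
    have hfix : ∀ v, Matrix.mulVec (x : Matrix ((Fin k ⊕ Fin k) ⊕ Fin 2) ((Fin k ⊕ Fin k) ⊕ Fin 2) F) v = v → v = 0 := fun v hv => by
      rw [hxv, ← LinearEquiv.eq_symm_apply] at hv
      simpa using hgfix _ hv
    have hx1 : x ≠ 1 := fun h => by
      obtain ⟨v, hv⟩ := hne
      exact hv (by rw [hfix v (by rw [h, Units.val_one, Matrix.one_mulVec]), QuadraticMap.map_zero])
    have hxr := CharTwoQuad.glOf_pow hr.ne_zero hgr'
    rw [← hxdef] at hxr
    obtain ⟨v, hv, hQv⟩ := (CharTwoQuad.exists_point_iff h2 hxi).mp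
      (hall x (CharTwoQuad.mem_omegaGL_of_odd hpnd (by omega) hx (hr.odd_of_ne_two hr2) hxr)
        ⟨1, by rw [hxr, Units.val_one, one_smul]⟩ fun z hz => hx1 (CharTwoQuad.scalar_eq_one h2 hne hxi hz))
    exact hQv (by rw [hfix v hv, QuadraticMap.map_zero])
  · rintro rfl x hx hz hns
    have hiso : x ∈ Cfsg.isometryGroup F ⇑Q := Subgroup.map_subtype_le _ hx
    have hxi := CharTwoQuad.mem_isometry.mp hiso
    have hx2 := CharTwoQuad.pow_eq_one_of_scalar h2 hne hiso hz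
    refine (CharTwoQuad.exists_point_iff h2 hxi).mpr (by_contra fun hcon => ?_)
    push Not at hcon
    obtain ⟨-, hzz⟩ := CharTwoQuad.fix_ts h2 hpnd (by omega) hV
      (g := Matrix.mulVecLin (x : Matrix ((Fin k ⊕ Fin k) ⊕ Fin 2) ((Fin k ⊕ Fin k) ⊕ Fin 2) F))
      (fun v => by
        simp only [Matrix.mulVecLin_apply, Matrix.mulVec_mulVec]
        rw [← _root_.sq, ← Units.val_pow_eq_pow_val, hx2, Units.val_one, Matrix.one_mulVec])
      hxi hcon
    exact hpm (hzz.symm.trans hz0)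

end Cfsg.Agent.S5986
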