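import Cfsg.Statements.S5987
import Cfsg.Agent.Lib.Classical.Elusive.OrthTsStmt

set_option autoImplicit false
open scoped MatrixGroups
open Cfsg

namespace Cfsg.Agent.S5987

open Cfsg.Agent.Classical

/-- Elements of prime order of PΩ⁻_n(q) with no fixed totally singular `m`-space. Here `T = PΩ⁻_n(F)`, `n = 2d ≥ 8`, realised through `Ω⁻_n(q)`, the commutator subgroup of the isometry group of `Q = Σ_{i<d−1} xᵢyᵢ + z₁² + a z₁z₂ + b z₂²` with `z₁² + a z₁z₂ + b z₂²` anisotropic, over the field `F` with `q` elements; an element of `T` of prime order `r` is an element `x` of `Ω⁻_n(q)` with `x^r` scalar and `x` not scalar. Let `1 ≤ m ≤ d − 1` and let `r` be a prime dividing the number of totally singular `m`-spaces (subspaces of dimension `m` on which `Q` vanishes); for `r ≠ p` let `i` be the multiplicative order of `q` modulo `r`, `c = i` for `i` even and `c = 2i` for `i` odd, and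 write `k = n mod c`, `ℓ = m mod i`, `n' = ⌊n/i⌋`, `m' = ⌊m/i⌋`, `t = (r−1)/i`. Then every element of `T` of order `r` fixes some totally singular `m`-space if and only if one of: (i) `r = 2 ≠ p` and (`n ≡ 0 (mod 4)`, or `m` is even, or `q ≢ 7 (mod 8)`); (ii) `r ≠ p` odd, `i` odd, `i ≤ m` and (`k = 0` or `k > 2ℓ`); (iii) `r ≠ p` odd, `i` even, `i ≤ m`, `n' − 2m' ≥ t`, and one of: (a) `i ≥ 2ℓ`, `k = 0`, `n/i` even and `n' − 2m' > t` (all four); (b) `k ≥ 2ℓ` and `n'` odd; (c) `k > 2ℓ` and `n'` even. -/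
theorem result {F : Type*} [Field F] [Fintype F] {p : ℕ} [Fact p.Prime] [CharP F p] {q : ℕ} (hq : Fintype.card F = q)
    (d m : ℕ) (hd : 4 ≤ d) (hm : 1 ≤ m) (hmd : m + 1 ≤ d) (a b : F) (hab : ∀ x y : F, x ^ 2 + a * x * y + b * y ^ 2 = 0 → x = 0 ∧ y = 0)
    (r : ℕ) [Fact r.Prime]
    (hrΩ : r ∣ Nat.card {W : Submodule F ((Fin (d - 1) ⊕ Fin (d - 1)) ⊕ Fin 2 → F) // Module.finrank F ↥W = m ∧ Cfsg.Geo.IsTotallySingularQuad (Cfsg.quadFormMinus (d - 1) F a b) W})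
    (i c : ℕ) (hi : i = orderOf (q : ZMod r)) (hc : c = if Even i then i else 2 * i) :
    (∀ x : GL ((Fin (d - 1) ⊕ Fin (d - 1)) ⊕ Fin 2) F, x ∈ Cfsg.Geo.omegaGL (Cfsg.quadFormMinus (d - 1) F a b) →
      (∃ z : F, ((x ^ r : GL ((Fin (d - 1) ⊕ Fin (d - 1)) ⊕ Fin 2) F) : Matrix ((Fin (d - 1) ⊕ Fin (d - 1)) ⊕ Fin 2) ((Fin (d - 1) ⊕ Fin (d - 1)) ⊕ Fin 2) F) = z • (1 : Matrix ((Fin (d - 1) ⊕ Fin (d - 1)) ⊕ Fin 2) ((Fin (d - 1) ⊕ Fin (d - 1)) ⊕ Fin 2) F)) →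
      (∀ z : F, (x : Matrix ((Fin (d - 1) ⊕ Fin (d - 1)) ⊕ Fin 2) ((Fin (d - 1) ⊕ Fin (d - 1)) ⊕ Fin 2) F) ≠ z • (1 : Matrix ((Fin (d - 1) ⊕ Fin (d - 1)) ⊕ Fin 2) ((Fin (d - 1) ⊕ Fin (d - 1)) ⊕ Fin 2) F)) →
      ∃ W : Submodule F ((Fin (d - 1) ⊕ Fin (d - 1)) ⊕ Fin 2 → F), (Module.finrank F ↥W = m ∧ Cfsg.Geo.IsTotallySingularQuad (Cfsg.quadFormMinus (d - 1) F a b) W) ∧ W.map (Matrix.toLin' (x : Matrix ((Fin (d - 1) ⊕ Fin (d - 1)) ⊕ Fin 2) ((Fin (d - 1) ⊕ Fin (d - 1)) ⊕ Fin 2) F)) ≤ W) ↔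
    ((r = 2 ∧ p ≠ 2 ∧ (Even d ∨ Even m ∨ q % 8 ≠ 7)) ∨
     (r ≠ p ∧ 2 < r ∧ Odd i ∧ i ≤ m ∧ ((2 * d) % c = 0 ∨ 2 * (m % i) < (2 * d) % c)) ∨
     (r ≠ p ∧ 2 < r ∧ Even i ∧ i ≤ m ∧ (r - 1) / i + 2 * (m / i) ≤ (2 * d) / i ∧
       ((2 * (m % i) ≤ i ∧ (2 * d) % c = 0 ∧ Even ((2 * d) / i) ∧ (r - 1) / i + 2 * (m / i) < (2 * d) / i) ∨
        (2 * (m % i) ≤ (2 * d) % c ∧ Odd ((2 * d) / i)) ∨
        (2 * (m % i) < (2 * d) % c ∧ Even ((2 * d) / i))))) := by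
  have hr : r.Prime := Fact.out
  obtain ⟨h2p, hq0, hq1⟩ := Elusive.OSame.char_facts (F := F) (p := p) hq
  obtain ⟨hcu, hiu⟩ := Elusive.OFree.unit_eq (F := F) hq hi hc
  have hn : Fintype.card ((Fin (d - 1) ⊕ Fin (d - 1)) ⊕ Fin 2) = 2 * d := by simp; omega
  have hS := Elusive.OTs.shape_minus (F := F) (d - 1) hab
  rw [← OOmega.coe_minus] at hrΩ ⊢
  refine Iff.trans (b := Elusive.OTs.All (ι := (Fin (d - 1) ⊕ Fin (d - 1)) ⊕ Fin 2) (OOmega.formOf (d - 1) (Equiv.refl ((Fin (d - 1) ⊕ Fin (d - 1)) ⊕ Fin 2)) (OCount.planeForm a b)) m r) Iff.rfl ?_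
  have hrp : r ≠ p := (Elusive.OSame.cast_ne_iff (F := F) (p := p) hr).mp
    (Elusive.OTs.prime_dvd hS (by omega) (by omega) hr hrΩ).1
  by_cases hr2 : r = 2
  · subst hr2
    have hp2 : p ≠ 2 := fun h => hrp h.symm
    have h2 : (2 : F) ≠ 0 := fun h => hp2 (h2p.mpr h)
    have e1 : IsSquare (-1 : F) ↔ q % 4 ≠ 3 := hq ▸ FiniteField.isSquare_neg_one_iff
    have e2 : IsSquare (2 : F) ↔ q % 8 ≠ 3 ∧ q % 8 ≠ 5 := hq ▸ FiniteField.isSquare_two_iff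
    have := hq1 hp2
    rw [Elusive.OTs.two_even h2 hS (by omega) (by omega) (d := d) (by omega) (by omega), Elusive.OOdd.isSquare_pow_iff h2,
      Elusive.OOdd.isSquare_pow_iff (neg_ne_zero.mpr one_ne_zero), e1, e2]
    simp only [lt_self_iff_false, false_and, and_false, or_false, true_and, ne_eq, hp2, not_false_iff, Nat.even_iff,
      Nat.odd_iff, false_iff, true_iff, OfNat.ofNat_ne_zero]
    omega
  have h3 : 2 < r := by have := hr.two_le; omega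
  rw [Elusive.OTs.free_cases hS (by omega) (by omega) hm (by omega) (by omega) hr hr2 hrΩ hcu hiu hc]
  simp only [hr2, hrp, h3, false_and, false_or, true_and, ne_eq, not_false_iff]
  rw [show 2 * (d - 1) + 2 = 2 * d by omega]
  rcases Nat.even_or_odd i with hev | hod
  · rw [hc, if_pos hev]
    obtain ⟨h', hh'⟩ := hev
    have hpar : (2 * d) % i % 2 = 0 := by
      rw [Nat.mod_mod_of_dvd _ ⟨h', by omega⟩]; omega
    unfold Elusive.OTs.defect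
    simp only [Nat.even_iff, Nat.odd_iff]
    split_ifs <;> omega
  · have hne : ¬ Even i := Nat.not_even_iff_odd.mpr hod
    rw [hc, if_neg hne, Elusive.OTs.mod_double d i]
    have := Elusive.OTs.mod_pred d i (by omega) hod.pos
    have := Nat.mod_lt m hod.pos
    simp only [hne, hod, false_and, or_false, true_and]
    omega

end Cfsg.Agent.S5987
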