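import Cfsg.Statements.S5988
import Cfsg.Agent.Lib.Classical.Elusive.OrthEvenSameStmt

set_option autoImplicit false
open scoped MatrixGroups
open Cfsg

namespace Cfsg.Agent.S5988

open Cfsg.Agent.Classical

/-- Elements of prime order of PΩ⁺_n(q) with no fixed elliptic `m`-space. Here `T = PΩ⁺_n(F)`, `n = 2d ≥ 8`, realised through `Ω⁺_n(q)`, the commutator subgroup of the isometry group of `Q = Σ xᵢyᵢ` over the field `F` with `q` elements; an element of `T` of prime order `r` is an element `x` of `Ω⁺_n(q)` with `x^r` scalar and `x` not scalar; a nondegenerate `m`-space (even `m`) is a subspace on which the polar form of `Q` is nondegenerate; it is hyperbolic if it contains an `m/2`-dimensional subspace on which `Q` vanishes, elliptic otherwise. Let `m` be even with `2 ≤ m < n/2` and let `r` be a prime dividing the number of elliptic `m`-spaces; for `r ≠ p` let `i` be the multiplicative order of `q` modulo `r`, `c = i` for `i`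 even and `c = 2i` for `i` odd, and write `k = n mod c`, `ℓ = m mod i`, `ℓ' = m mod c`, `n' = ⌊n/i⌋`, `m' = ⌊m/i⌋`, `t = (r−1)/i`. Then every element of `T` of order `r` fixes some elliptic `m`-space if and only if one of: (i) `r = 2 ≠ p` and either `n ≡ 0 (mod 4)`, `q ≡ 3 (mod 4)` and `m ≡ 2 (mod 4)`, or `n ≡ 2 (mod 4)` and `q ≢ 1 (mod 8)`; (ii) `r ≠ p` odd, `i` odd, `c ≤ m` and `k > ℓ' > 0`; (iii) `r ≠ p` odd, `i` even, and either `k = 0` and (`n/i` odd, or `ℓ' = 0` and `m/i` odd), or `i ≤ m` and (`k > ℓ' > 0`, or `k = ℓ' > 0` and `(n + m − 2k)/i` odd, or `k > ℓ' = 0` and `m/i` odd). (For `r = p` there is always an element of order `p` fixing no elliptic `m`-space.) -/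
theorem result {F : Type*} [Field F] [Fintype F] {p : ℕ} [Fact p.Prime] [CharP F p] {q : ℕ} (hq : Fintype.card F = q)
    (d m : ℕ) (hd : 4 ≤ d) (hm : 2 ≤ m) (hme : Even m) (hmd : m < d)
    (r : ℕ) [Fact r.Prime]
    (hrΩ : r ∣ Nat.card {W : Submodule F (Fin d ⊕ Fin d → F) // Module.finrank F ↥W = m ∧ Cfsg.Geo.IsNondegenerateOn (QuadraticMap.polar (Cfsg.quadFormPlus d F)) W ∧ ¬ Cfsg.Geo.IsPlusTypeOn (Cfsg.quadFormPlus d F) W})
    (i c : ℕ) (hi : i = orderOf (q : ZMod r)) (hc : c = if Even i then i else 2 * i) :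
    (∀ x : GL (Fin d ⊕ Fin d) F, x ∈ Cfsg.Geo.omegaGL (Cfsg.quadFormPlus d F) →
      (∃ z : F, ((x ^ r : GL (Fin d ⊕ Fin d) F) : Matrix (Fin d ⊕ Fin d) (Fin d ⊕ Fin d) F) = z • (1 : Matrix (Fin d ⊕ Fin d) (Fin d ⊕ Fin d) F)) →
      (∀ z : F, (x : Matrix (Fin d ⊕ Fin d) (Fin d ⊕ Fin d) F) ≠ z • (1 : Matrix (Fin d ⊕ Fin d) (Fin d ⊕ Fin d) F)) →
      ∃ W : Submodule F (Fin d ⊕ Fin d → F), (Module.finrank F ↥W = m ∧ Cfsg.Geo.IsNondegenerateOn (QuadraticMap.polar (Cfsg.quadFormPlus d F)) W ∧ ¬ Cfsg.Geo.IsPlusTypeOn (Cfsg.quadFormPlus d F) W) ∧ W.map (Matrix.toLin' (x : Matrix (Fin d ⊕ Fin d) (Fin d ⊕ Fin d) F)) ≤ W) ↔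
    ((r = 2 ∧ p ≠ 2 ∧ ((Even d ∧ q % 4 = 3 ∧ m % 4 = 2) ∨ (Odd d ∧ q % 8 ≠ 1))) ∨
     (r ≠ p ∧ 2 < r ∧ Odd i ∧ c ≤ m ∧ 0 < m % c ∧ m % c < (2 * d) % c) ∨
     (r ≠ p ∧ 2 < r ∧ Even i ∧
       (((2 * d) % c = 0 ∧ (Odd ((2 * d) / i) ∨ (m % c = 0 ∧ Odd (m / i)))) ∨
        (i ≤ m ∧ ((0 < m % c ∧ m % c < (2 * d) % c) ∨
                  (0 < m % c ∧ m % c = (2 * d) % c ∧ Odd ((2 * d + m - 2 * ((2 * d) % c)) / i)) ∨
                  (m % c = 0 ∧ 0 < (2 * d) % c ∧ Odd (m / i))))))) := by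
  have hr' : r.Prime := Fact.out
  obtain ⟨h2p, hq0, hq1⟩ := Elusive.OSame.char_facts (F := F) (p := p) hq
  obtain ⟨hcu, hiu⟩ := Elusive.OFree.unit_eq (F := F) hq hi hc
  have hn : Fintype.card (Fin d ⊕ Fin d) = 2 * d := by simp; omega
  have hQ := OOmega.formOf_pnd (m := d) (e := (Equiv.sumEmpty (Fin d ⊕ Fin d) Empty).symm) (OOmega.pnd_empty (F := F))
  have hT := Elusive.OSame.plus_model (F := F) d
  obtain ⟨e, he⟩ := even_iff_two_dvd.mp hme
  rw [← OOmega.coe_plus] at hrΩ ⊢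
  refine (Elusive.OSame.all_congr fun W => Elusive.OSame.mem_elliptic W).trans ?_
  have hdvd := Elusive.OSame.dvd_congr (fun W => Elusive.OSame.mem_elliptic W) hrΩ
  by_cases hrp : r = p
  · subst hrp
    refine iff_of_false (Elusive.OSame.exists_derangement_sq (p := r) hQ hn (by omega) (k := d / 2) (by omega)
      (Or.inr ⟨hT, by omega⟩) False hme fun s s' _ hss hs1 hs2 hs3 hs4 => ?_) (by omega)
    have e1 : 2 * s ≠ m := fun h => hs3 h
    have e2 : 2 * s' + m ≠ 2 * d := fun h => (hs4 h).mpr hT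
    omega
  by_cases hr2 : r = 2
  · subst hr2
    simp only [lt_self_iff_false, true_and, false_and, and_false, or_false]
    have hp2 : p ≠ 2 := fun h => hrp h.symm
    have h2 : (2 : F) ≠ 0 := fun h => hp2 (h2p.mpr h)
    have e2 : IsSquare (2 : F) ↔ q % 8 ≠ 3 ∧ q % 8 ≠ 5 := hq ▸ FiniteField.isSquare_two_iff
    have e1 : IsSquare (-1 : F) ↔ q % 4 ≠ 3 := hq ▸ FiniteField.isSquare_neg_one_iff
    have := hq1 hp2
    rw [he, Elusive.OSame.two_iff h2 hQ hn (by omega) (by omega) (by omega) False, eq_true hT,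
      Elusive.OOdd.isSquare_pow_iff h2, Elusive.OOdd.isSquare_pow_iff (neg_ne_zero.mpr one_ne_zero),
      Elusive.OOdd.isSquare_pow_iff (neg_ne_zero.mpr one_ne_zero), e1, e2]
    simp only [hp2, ne_eq, not_false_iff, true_and, false_and, false_or, true_iff, false_iff, not_not,
      Nat.even_iff, Nat.odd_iff]
    omega
  · have h3 : 2 < r := by have := hr'.two_le; omega
    have hr0 := (Elusive.OSame.cast_ne_iff (F := F) (p := p) hr').mpr hrp
    have hex := Elusive.OUnits.excluded hQ hr' hr2 hr0 hm hme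
      (by rw [Module.finrank_fintype_fun_eq_card, hn]; omega) False hdvd
    rw [Module.finrank_fintype_fun_eq_card, hn, eq_true hT] at hex
    rw [Elusive.OSame.free_iff hQ hn (by omega) hm hme (by omega) False hr' hr2 hr0 hdvd, eq_true hT,
      Elusive.OSame.cond_plus_minus hcu hiu hc hm hex]
    simp only [hr2, hrp, h3, ne_eq, not_false_iff, true_and, false_and, false_or]

end Cfsg.Agent.S5988
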