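import Cfsg.Statements.S5989
import Cfsg.Agent.Lib.Classical.Elusive.OrthEvenIff

set_option autoImplicit false
open scoped MatrixGroups
open Cfsg

namespace Cfsg.Agent.S5989

open Cfsg.Agent.Classical

/-- Elements of prime order of PΩ⁺_n(q), q odd, with no fixed nondegenerate `m`-space of odd dimension. Here `T = PΩ⁺_n(F)`, `n = 2d ≥ 8`, realised through `Ω⁺_n(q)`, the commutator subgroup of the isometry group of `Q = Σ xᵢyᵢ` over the field `F` with `q` elements; an element of `T` of prime order `r` is an element `x` of `Ω⁺_n(q)` with `x^r` scalar and `x` not scalar; `q` and `m` are odd, `1 ≤ m < n/2`. The nondegenerate `m`-spaces (subspaces on which the polar form is nondegenerate) fall into two isometry classes, each an orbit of `T`, and the two actions are equivalent; fix one such space `W₀` and let Ω be the set of nondegenerate `m`-spaces isometric to `W₀` (some linear isomorphism preserves `Q`). Let `r` be a prime dividing the size of Ω; for `r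 ≠ p` let `i` be the multiplicative order of `q` modulo `r`, `c = i` for `i` even and `c = 2i` for `i` odd, and write `k = n mod c`, `ℓ = m mod i`, `ℓ' = m mod c`, `n' = ⌊n/i⌋`, `m' = ⌊m/i⌋`, `t = (r−1)/i`. Then every element of `T` of order `r` fixes a member of Ω if and only if one of: (i) `r = 2`, `n ≡ 2 (mod 4)` and `q ≢ 1 (mod 8)`; (ii) `r ≠ p` odd, `i` odd, `c ≤ m` and `k > ℓ' > 0`; (iii) `r ≠ p` odd, `i` even, and either `k = 0` and `n/i` odd, or `i ≤ m` and `k > ℓ' > 0`. (For `r = p` there is always an element of order `p` fixing no member of Ω.) -/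
theorem result {F : Type*} [Field F] [Fintype F] {p : ℕ} [Fact p.Prime] [CharP F p] {q : ℕ} (hq : Fintype.card F = q)
    (hodd : Odd q) (d m : ℕ) (hd : 4 ≤ d) (hm : Odd m) (hmd : m < d)
    (W₀ : Submodule F (Fin d ⊕ Fin d → F)) (hW₀ : Module.finrank F ↥W₀ = m ∧ Cfsg.Geo.IsNondegenerateOn (QuadraticMap.polar (Cfsg.quadFormPlus d F)) W₀)
    (r : ℕ) [Fact r.Prime]
    (hrΩ : r ∣ Nat.card {W : Submodule F (Fin d ⊕ Fin d → F) // Module.finrank F ↥W = m ∧ Cfsg.Geo.IsNondegenerateOn (QuadraticMap.polar (Cfsg.quadFormPlus d F)) W ∧ Cfsg.Geo.AreIsometricFor (Cfsg.quadFormPlus d F) W W₀})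
    (i c : ℕ) (hi : i = orderOf (q : ZMod r)) (hc : c = if Even i then i else 2 * i) :
    (∀ x : GL (Fin d ⊕ Fin d) F, x ∈ Cfsg.Geo.omegaGL (Cfsg.quadFormPlus d F) →
      (∃ z : F, ((x ^ r : GL (Fin d ⊕ Fin d) F) : Matrix (Fin d ⊕ Fin d) (Fin d ⊕ Fin d) F) = z • (1 : Matrix (Fin d ⊕ Fin d) (Fin d ⊕ Fin d) F)) →
      (∀ z : F, (x : Matrix (Fin d ⊕ Fin d) (Fin d ⊕ Fin d) F) ≠ z • (1 : Matrix (Fin d ⊕ Fin d) (Fin d ⊕ Fin d) F)) →
      ∃ W : Submodule F (Fin d ⊕ Fin d → F), (Module.finrank F ↥W = m ∧ Cfsg.Geo.IsNondegenerateOn (QuadraticMap.polar (Cfsg.quadFormPlus d F)) W ∧ Cfsg.Geo.AreIsometricFor (Cfsg.quadFormPlus d F) W W₀) ∧ W.map (Matrix.toLin' (x : Matrix (Fin d ⊕ Fin d) (Fin d ⊕ Fin d) F)) ≤ W) ↔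
    ((r = 2 ∧ Odd d ∧ q % 8 ≠ 1) ∨
     (r ≠ p ∧ 2 < r ∧ Odd i ∧ c ≤ m ∧ 0 < m % c ∧ m % c < (2 * d) % c) ∨
     (r ≠ p ∧ 2 < r ∧ Even i ∧ (((2 * d) % c = 0 ∧ Odd ((2 * d) / i)) ∨ (i ≤ m ∧ 0 < m % c ∧ m % c < (2 * d) % c)))) := by
  obtain ⟨hcu, hiu⟩ := Elusive.OFree.unit_eq (F := F) hq hi hc
  have h2 : (2 : F) ≠ 0 := fun h => by
    obtain ⟨e, -, hpe⟩ := FiniteField.card F p
    have h' : (p : ℕ) ∣ 2 := (CharP.cast_eq_zero_iff F p 2).mp (by exact_mod_cast h)
    rw [(Nat.prime_dvd_prime_iff_eq (Fact.out : p.Prime) Nat.prime_two).mp h'] at hpe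
    rw [← hq, hpe, Nat.odd_pow_iff e.ne_zero] at hodd
    exact absurd hodd (by decide)
  have hr : r.Prime := Fact.out
  have hr0 : (r : F) ≠ 0 ↔ r ≠ p := not_congr ⟨fun h => ((Nat.prime_dvd_prime_iff_eq (Fact.out : p.Prime) hr).mp
    ((CharP.cast_eq_zero_iff F p r).mp h)).symm, fun h => h ▸ CharP.cast_eq_zero F p⟩
  have hq8 : q % 8 % 2 = 1 := by have := Nat.odd_iff.mp hodd; omega
  have e2 : IsSquare (2 : F) ↔ q % 8 ≠ 3 ∧ q % 8 ≠ 5 := hq ▸ FiniteField.isSquare_two_iff
  have e1 : IsSquare (-1 : F) ↔ q % 4 ≠ 3 := hq ▸ FiniteField.isSquare_neg_one_iff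
  have hci : ∀ he : Even i, c = i := fun he => by rw [hc, if_pos he]
  have hr3 : r ≠ 2 ↔ 2 < r := by have := hr.two_le; omega
  have hn : Fintype.card (Fin d ⊕ Fin d) = 2 * d := by simp; omega
  have hQ := OOmega.formOf_pnd (m := d) (e := (Equiv.sumEmpty (Fin d ⊕ Fin d) Empty).symm) (OOmega.pnd_empty (F := F))
  rw [← OOmega.coe_plus] at hW₀ hrΩ ⊢
  have key := Elusive.OOdd.odd_iff h2 hQ hn hd hm hmd hW₀ hr hrΩ
  rw [key, ← hcu, ← hiu]
  have hp : Elusive.OType.IsPlus (OOmega.formOf d (Equiv.sumEmpty (Fin d ⊕ Fin d) Empty).symm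
      (0 : QuadraticForm F (Empty → F))) ⊤ := by
    let S : (Fin d → F) →ₗ[F] (Fin d ⊕ Fin d → F) :=
      { toFun := fun x => Sum.elim x 0
        map_add' := fun x y => by funext i; rcases i with i | i <;> simp
        map_smul' := fun r x => by funext i; rcases i with i | i <;> simp }
    refine ⟨LinearMap.range S, le_top, ?_, ?_⟩
    · rintro _ ⟨x, rfl⟩
      rw [OOmega.coe_plus]
      simp [Cfsg.quadFormPlus, S]
    · rw [LinearMap.finrank_range_of_inj, Module.finrank_fin_fun, finrank_top, Module.finrank_fintype_fun_eq_card, hn]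
      exact fun x y h => funext fun i => congrFun h (.inl i)
  rw [iff_true_intro hp, true_iff, true_iff, Elusive.OOdd.isSquare_pow_iff h2,
    Elusive.OOdd.isSquare_pow_iff (neg_ne_zero.mpr one_ne_zero), e1, e2, hr0, hr3]
  have drop : ∀ (P : Prop) (x y : ℕ), (0 < y ∧ P ∧ 0 < x ∧ x < y) ↔ (P ∧ 0 < x ∧ x < y) :=
    fun P x y => ⟨And.right, fun h => ⟨by omega, h⟩⟩
  rcases Nat.even_or_odd d with hde | hdo
  · have hnd : ¬ Odd d := Nat.not_odd_iff_even.mpr hde
    simp only [hde, hnd, true_or, and_self, not_true, and_false, false_and, false_or]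
    rcases Nat.even_or_odd i with hie | hio
    · have hni : ¬ Odd i := Nat.not_odd_iff_even.mpr hie
      rw [hci hie]
      simp only [hie, hni, false_or, true_and, false_and, and_false, Nat.not_even_iff_odd]
      simp only [drop, and_left_comm]
    · have hni : ¬ Even i := Nat.not_even_iff_odd.mpr hio
      simp only [hio, hni, true_or, not_true, and_false, false_or, true_and, false_and, or_false]
      simp only [drop, and_left_comm]
  · have hnd : ¬ Even d := Nat.not_even_iff_odd.mpr hdo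
    have h8 : ¬ ((q % 8 ≠ 3 ∧ q % 8 ≠ 5) ∧ q % 4 ≠ 3) ↔ q % 8 ≠ 1 := by omega
    simp only [hdo, hnd, false_or, h8, true_and]
    rcases Nat.even_or_odd i with hie | hio
    · have hni : ¬ Odd i := Nat.not_odd_iff_even.mpr hie
      rw [hci hie]
      simp only [hie, hni, false_or, true_and, false_and, and_false, Nat.not_even_iff_odd]
      simp only [drop, and_left_comm]
    · have hni : ¬ Even i := Nat.not_even_iff_odd.mpr hio
      simp only [hio, hni, true_or, not_true, and_false, false_or, true_and, false_and, or_false]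
      simp only [drop, and_left_comm]

end Cfsg.Agent.S5989
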