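import Cfsg.Statements.S5990
import Cfsg.Agent.Lib.Classical.Elusive.OrthEvenSameStmt

set_option autoImplicit false
open scoped MatrixGroups
open Cfsg

namespace Cfsg.Agent.S5990

open Cfsg.Agent.Classical

/-- Elements of prime order of PΩ⁻_n(q) with no fixed elliptic `m`-space. Here `T = PΩ⁻_n(F)`, `n = 2d ≥ 8`, realised through `Ω⁻_n(q)`, the commutator subgroup of the isometry group of `Q = Σ_{i<d−1} xᵢyᵢ + z₁² + a z₁z₂ + b z₂²` with `z₁² + a z₁z₂ + b z₂²` anisotropic, over the field `F` with `q` elements; an element of `T` of prime order `r` is an element `x` of `Ω⁻_n(q)` with `x^r` scalar and `x` not scalar; a nondegenerate `m`-space (even `m`) is a subspace on which the polar form of `Q` is nondegenerate; it is hyperbolic if it contains an `m/2`-dimensional subspace on which `Q` vanishes, elliptic otherwise. Let `m` be even with `2 ≤ m ≤ n − 2` (no restriction `m < n/2`: fixing an elliptic `m`-space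 is the same as fixing its hyperbolic orthogonal complement) and let `r` be a prime dividing the number of elliptic `m`-spaces, with `r = 2` or `r ≠ p`; for `r ≠ p` let `i` be the multiplicative order of `q` modulo `r`, `c = i` for `i` even and `c = 2i` for `i` odd, and write `k = n mod c`, `ℓ = m mod i`, `ℓ' = m mod c`, `n' = ⌊n/i⌋`, `m' = ⌊m/i⌋`, `t = (r−1)/i`. Then every element of `T` of order `r` fixes some elliptic `m`-space if and only if one of: (i) `r = p = 2` and (`n ≡ 0 (mod 4)` or `m ≡ 2 (mod 4)`); (ii) `r = 2 ≠ p` and (`n ≡ 0 (mod 4)`, or `q ≢ 7 (mod 8)`, or `m ≡ 2 (mod 4)`); (iii) `r ≠ p` odd, `i` odd, and `k = 0` or (`c ≤ m` and `k ≥ ℓ' > 0`); (iv) `r ≠ p` odd, `i` even, and either `k = 0` and (`n/i` even, or `ℓ' = 0` and `m/i` odd), or `k > 0`, `i ≤ m` and (`k > ℓ' > 0`, or `ℓ' = 0` and `m/i` odd, or `k = ℓ'` and `(n + m − 2k)/i` even). (Odd `r = p` is not covered by this statement.) -/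
theorem result {F : Type*} [Field F] [Fintype F] {p : ℕ} [Fact p.Prime] [CharP F p] {q : ℕ} (hq : Fintype.card F = q)
    (d m : ℕ) (hd : 4 ≤ d) (hm : 2 ≤ m) (hme : Even m) (hmn : m + 2 ≤ 2 * d) (a b : F) (hab : ∀ x y : F, x ^ 2 + a * x * y + b * y ^ 2 = 0 → x = 0 ∧ y = 0)
    (r : ℕ) [Fact r.Prime] (hr : r = 2 ∨ r ≠ p)
    (hrΩ : r ∣ Nat.card {W : Submodule F ((Fin (d - 1) ⊕ Fin (d - 1)) ⊕ Fin 2 → F) // Module.finrank F ↥W = m ∧ Cfsg.Geo.IsNondegenerateOn (QuadraticMap.polar (Cfsg.quadFormMinus (d - 1) F a b)) W ∧ ¬ Cfsg.Geo.IsPlusTypeOn (Cfsg.quadFormMinus (d - 1) F a b) W})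
    (i c : ℕ) (hi : i = orderOf (q : ZMod r)) (hc : c = if Even i then i else 2 * i) :
    (∀ x : GL ((Fin (d - 1) ⊕ Fin (d - 1)) ⊕ Fin 2) F, x ∈ Cfsg.Geo.omegaGL (Cfsg.quadFormMinus (d - 1) F a b) →
      (∃ z : F, ((x ^ r : GL ((Fin (d - 1) ⊕ Fin (d - 1)) ⊕ Fin 2) F) : Matrix ((Fin (d - 1) ⊕ Fin (d - 1)) ⊕ Fin 2) ((Fin (d - 1) ⊕ Fin (d - 1)) ⊕ Fin 2) F) = z • (1 : Matrix ((Fin (d - 1) ⊕ Fin (d - 1)) ⊕ Fin 2) ((Fin (d - 1) ⊕ Fin (d - 1)) ⊕ Fin 2) F)) →
      (∀ z : F, (x : Matrix ((Fin (d - 1) ⊕ Fin (d - 1)) ⊕ Fin 2) ((Fin (d - 1) ⊕ Fin (d - 1)) ⊕ Fin 2) F) ≠ z • (1 : Matrix ((Fin (d - 1) ⊕ Fin (d - 1)) ⊕ Fin 2) ((Fin (d - 1) ⊕ Fin (d - 1)) ⊕ Fin 2) F)) →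
      ∃ W : Submodule F ((Fin (d - 1) ⊕ Fin (d - 1)) ⊕ Fin 2 → F), (Module.finrank F ↥W = m ∧ Cfsg.Geo.IsNondegenerateOn (QuadraticMap.polar (Cfsg.quadFormMinus (d - 1) F a b)) W ∧ ¬ Cfsg.Geo.IsPlusTypeOn (Cfsg.quadFormMinus (d - 1) F a b) W) ∧ W.map (Matrix.toLin' (x : Matrix ((Fin (d - 1) ⊕ Fin (d - 1)) ⊕ Fin 2) ((Fin (d - 1) ⊕ Fin (d - 1)) ⊕ Fin 2) F)) ≤ W) ↔
    ((r = 2 ∧ p = 2 ∧ (Even d ∨ m % 4 = 2)) ∨
     (r = 2 ∧ p ≠ 2 ∧ (Even d ∨ q % 8 ≠ 7 ∨ m % 4 = 2)) ∨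
     (r ≠ p ∧ 2 < r ∧ Odd i ∧ ((2 * d) % c = 0 ∨ (c ≤ m ∧ 0 < m % c ∧ m % c ≤ (2 * d) % c))) ∨
     (r ≠ p ∧ 2 < r ∧ Even i ∧
       (((2 * d) % c = 0 ∧ (Even ((2 * d) / i) ∨ (m % c = 0 ∧ Odd (m / i)))) ∨
        (0 < (2 * d) % c ∧ i ≤ m ∧ ((0 < m % c ∧ m % c < (2 * d) % c) ∨ (m % c = 0 ∧ Odd (m / i)) ∨
                                    (m % c = (2 * d) % c ∧ Even ((2 * d + m - 2 * ((2 * d) % c)) / i))))))) := by
  have hr' : r.Prime := Fact.out
  obtain ⟨h2p, hq0, hq1⟩ := Elusive.OSame.char_facts (F := F) (p := p) hq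
  obtain ⟨hcu, hiu⟩ := Elusive.OFree.unit_eq (F := F) hq hi hc
  have hn : Fintype.card ((Fin (d - 1) ⊕ Fin (d - 1)) ⊕ Fin 2) = 2 * d := by simp; omega
  have hQ := OOmega.formOf_pnd (m := d - 1) (e := Equiv.refl ((Fin (d - 1) ⊕ Fin (d - 1)) ⊕ Fin 2))
    (OOmega.pnd_plane hab)
  have hT := Elusive.OSame.minus_model (F := F) (j := d - 1) hab
  obtain ⟨e, he⟩ := even_iff_two_dvd.mp hme
  rw [← OOmega.coe_minus] at hrΩ ⊢
  refine (Elusive.OSame.all_congr fun W => Elusive.OSame.mem_elliptic W).trans ?_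
  have hdvd := Elusive.OSame.dvd_congr (fun W => Elusive.OSame.mem_elliptic W) hrΩ
  by_cases hr2 : r = 2
  · subst hr2
    simp only [lt_self_iff_false, true_and, false_and, and_false, or_false]
    by_cases hp2 : p = 2
    · subst hp2
      simp only [ne_eq, not_true, false_and, or_false, true_and]
      by_cases hok : Even d ∨ m % 4 = 2
      · refine iff_of_true (Elusive.OSame.two_same (h2p.mp rfl) hQ hn hm hme hmn False
          (iff_of_false id hT) (Or.inr ⟨hT, ?_⟩)) hok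
        rw [Nat.even_iff] at hok ⊢
        omega
      · refine iff_of_false (Elusive.OSame.exists_derangement_sq (p := 2) hQ hn (by omega) (k := (d - 1) / 2)
          (by omega) (Or.inl (by omega)) False hme fun s s' hs hss hs1 hs2 hs3 _ => ?_) hok
        have e1 : 2 * s ≠ m := fun h => hs3 h
        rw [Nat.even_iff] at hs hok
        omega
    ·
      have h2 : (2 : F) ≠ 0 := fun h => hp2 (h2p.mpr h)
      have e2 : IsSquare (2 : F) ↔ q % 8 ≠ 3 ∧ q % 8 ≠ 5 := hq ▸ FiniteField.isSquare_two_iff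
      have e1 : IsSquare (-1 : F) ↔ q % 4 ≠ 3 := hq ▸ FiniteField.isSquare_neg_one_iff
      have := hq1 hp2
      rw [he, Elusive.OSame.two_iff h2 hQ hn (by omega) (by omega) (by omega) False, eq_false hT,
        Elusive.OOdd.isSquare_pow_iff h2, Elusive.OOdd.isSquare_pow_iff (neg_ne_zero.mpr one_ne_zero),
        Elusive.OOdd.isSquare_pow_iff (neg_ne_zero.mpr one_ne_zero), e1, e2]
      simp only [hp2, ne_eq, not_false_iff, true_and, false_and, false_or, true_iff, false_iff, not_not,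
        Nat.even_iff, Nat.odd_iff]
      omega
  have hrp : r ≠ p := hr.resolve_left hr2
  have h3 : 2 < r := by have := hr'.two_le; omega
  have hr0 := (Elusive.OSame.cast_ne_iff (F := F) (p := p) hr').mpr hrp
  have hex := Elusive.OUnits.excluded hQ hr' hr2 hr0 hm hme
    (by rw [Module.finrank_fintype_fun_eq_card, hn]; omega) False hdvd
  rw [Module.finrank_fintype_fun_eq_card, hn, eq_false hT] at hex
  rw [Elusive.OSame.free_iff hQ hn (by omega) hm hme (by omega) False hr' hr2 hr0 hdvd, eq_false hT,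
    Elusive.OSame.cond_minus_minus hcu hiu hc hm hex]
  simp only [hr2, hrp, h3, ne_eq, not_false_iff, true_and, false_and, false_or]

end Cfsg.Agent.S5990
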