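import Cfsg.Statements.S5991
import Cfsg.Agent.Lib.Classical.Elusive.OrthEvenIff

set_option autoImplicit false
open scoped MatrixGroups
open Cfsg

namespace Cfsg.Agent.S5991

open Cfsg.Agent.Classical

/-- Elements of prime order of PΩ⁻_n(q), q odd, with no fixed nondegenerate `m`-space of odd dimension. Here `T = PΩ⁻_n(F)`, `n = 2d ≥ 8`, realised through `Ω⁻_n(q)`, the commutator subgroup of the isometry group of `Q = Σ_{i<d−1} xᵢyᵢ + z₁² + a z₁z₂ + b z₂²` with `z₁² + a z₁z₂ + b z₂²` anisotropic, over the field `F` with `q` elements; an element of `T` of prime order `r` is an element `x` of `Ω⁻_n(q)` with `x^r` scalar and `x` not scalar; `q` and `m` are odd, `1 ≤ m < n/2`. The nondegenerate `m`-spaces fall into two isometry classes, each an orbit of `T`, with equivalent actions; fix one such space `W₀` and let Ω be the set of nondegenerate `m`-spaces isometric to `W₀`. Let `r` be a prime dividing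 the size of Ω; for `r ≠ p` let `i` be the multiplicative order of `q` modulo `r`, `c = i` for `i` even and `c = 2i` for `i` odd, and write `k = n mod c`, `ℓ = m mod i`, `ℓ' = m mod c`, `n' = ⌊n/i⌋`, `m' = ⌊m/i⌋`, `t = (r−1)/i`. Then every element of `T` of order `r` fixes a member of Ω if and only if one of: (i) `r = 2` and (`n ≡ 0 (mod 4)` or `q ≢ 7 (mod 8)`); (ii) `r ≠ p` odd, `i` odd, and `k = 0` or (`c ≤ m` and `k > ℓ' > 0`); (iii) `r ≠ p` odd, `i` even, and either `k = 0` and `n/i` even, or `k > 0`, `i ≤ m` and `k > ℓ' > 0`. (For `r = p` there is always an element of order `p` fixing no member of Ω.) -/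
theorem result {F : Type*} [Field F] [Fintype F] {p : ℕ} [Fact p.Prime] [CharP F p] {q : ℕ} (hq : Fintype.card F = q)
    (hodd : Odd q) (d m : ℕ) (hd : 4 ≤ d) (hm : Odd m) (hmd : m < d) (a b : F) (hab : ∀ x y : F, x ^ 2 + a * x * y + b * y ^ 2 = 0 → x = 0 ∧ y = 0)
    (W₀ : Submodule F ((Fin (d - 1) ⊕ Fin (d - 1)) ⊕ Fin 2 → F)) (hW₀ : Module.finrank F ↥W₀ = m ∧ Cfsg.Geo.IsNondegenerateOn (QuadraticMap.polar (Cfsg.quadFormMinus (d - 1) F a b)) W₀)
    (r : ℕ) [Fact r.Prime]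
    (hrΩ : r ∣ Nat.card {W : Submodule F ((Fin (d - 1) ⊕ Fin (d - 1)) ⊕ Fin 2 → F) // Module.finrank F ↥W = m ∧ Cfsg.Geo.IsNondegenerateOn (QuadraticMap.polar (Cfsg.quadFormMinus (d - 1) F a b)) W ∧ Cfsg.Geo.AreIsometricFor (Cfsg.quadFormMinus (d - 1) F a b) W W₀})
    (i c : ℕ) (hi : i = orderOf (q : ZMod r)) (hc : c = if Even i then i else 2 * i) :
    (∀ x : GL ((Fin (d - 1) ⊕ Fin (d - 1)) ⊕ Fin 2) F, x ∈ Cfsg.Geo.omegaGL (Cfsg.quadFormMinus (d - 1) F a b) →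
      (∃ z : F, ((x ^ r : GL ((Fin (d - 1) ⊕ Fin (d - 1)) ⊕ Fin 2) F) : Matrix ((Fin (d - 1) ⊕ Fin (d - 1)) ⊕ Fin 2) ((Fin (d - 1) ⊕ Fin (d - 1)) ⊕ Fin 2) F) = z • (1 : Matrix ((Fin (d - 1) ⊕ Fin (d - 1)) ⊕ Fin 2) ((Fin (d - 1) ⊕ Fin (d - 1)) ⊕ Fin 2) F)) →
      (∀ z : F, (x : Matrix ((Fin (d - 1) ⊕ Fin (d - 1)) ⊕ Fin 2) ((Fin (d - 1) ⊕ Fin (d - 1)) ⊕ Fin 2) F) ≠ z • (1 : Matrix ((Fin (d - 1) ⊕ Fin (d - 1)) ⊕ Fin 2) ((Fin (d - 1) ⊕ Fin (d - 1)) ⊕ Fin 2) F)) →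
      ∃ W : Submodule F ((Fin (d - 1) ⊕ Fin (d - 1)) ⊕ Fin 2 → F), (Module.finrank F ↥W = m ∧ Cfsg.Geo.IsNondegenerateOn (QuadraticMap.polar (Cfsg.quadFormMinus (d - 1) F a b)) W ∧ Cfsg.Geo.AreIsometricFor (Cfsg.quadFormMinus (d - 1) F a b) W W₀) ∧ W.map (Matrix.toLin' (x : Matrix ((Fin (d - 1) ⊕ Fin (d - 1)) ⊕ Fin 2) ((Fin (d - 1) ⊕ Fin (d - 1)) ⊕ Fin 2) F)) ≤ W) ↔
    ((r = 2 ∧ (Even d ∨ q % 8 ≠ 7)) ∨
     (r ≠ p ∧ 2 < r ∧ Odd i ∧ ((2 * d) % c = 0 ∨ (c ≤ m ∧ 0 < m % c ∧ m % c < (2 * d) % c))) ∨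
     (r ≠ p ∧ 2 < r ∧ Even i ∧ (((2 * d) % c = 0 ∧ Even ((2 * d) / i)) ∨ (0 < (2 * d) % c ∧ i ≤ m ∧ 0 < m % c ∧ m % c < (2 * d) % c)))) := by
  obtain ⟨hcu, hiu⟩ := Elusive.OFree.unit_eq (F := F) hq hi hc
  have h2 : (2 : F) ≠ 0 := fun h => by
    obtain ⟨e, -, hpe⟩ := FiniteField.card F p
    have h' : (p : ℕ) ∣ 2 := (CharP.cast_eq_zero_iff F p 2).mp (by exact_mod_cast h)
    rw [(Nat.prime_dvd_prime_iff_eq (Fact.out : p.Prime) Nat.prime_two).mp h'] at hpe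
    rw [← hq, hpe, Nat.odd_pow_iff e.ne_zero] at hodd
    exact absurd hodd (by decide)
  have hr : r.Prime := Fact.out
  have hr0 : (r : F) ≠ 0 ↔ r ≠ p := not_congr ⟨fun h => ((Nat.prime_dvd_prime_iff_eq (Fact.out : p.Prime) hr).mp
    ((CharP.cast_eq_zero_iff F p r).mp h)).symm, fun h => h ▸ CharP.cast_eq_zero F p⟩
  have hq8 : q % 8 % 2 = 1 := by have := Nat.odd_iff.mp hodd; omega
  have e2 : IsSquare (2 : F) ↔ q % 8 ≠ 3 ∧ q % 8 ≠ 5 := hq ▸ FiniteField.isSquare_two_iff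
  have e1 : IsSquare (-1 : F) ↔ q % 4 ≠ 3 := hq ▸ FiniteField.isSquare_neg_one_iff
  have hci : ∀ he : Even i, c = i := fun he => by rw [hc, if_pos he]
  have hr3 : r ≠ 2 ↔ 2 < r := by have := hr.two_le; omega
  have hn : Fintype.card ((Fin (d - 1) ⊕ Fin (d - 1)) ⊕ Fin 2) = 2 * d := by simp; omega
  have hQ := OOmega.formOf_pnd (m := d - 1) (e := Equiv.refl ((Fin (d - 1) ⊕ Fin (d - 1)) ⊕ Fin 2))
    (OOmega.pnd_plane hab)
  rw [← OOmega.coe_minus] at hW₀ hrΩ ⊢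
  have key := Elusive.OOdd.odd_iff h2 hQ hn hd hm hmd hW₀ hr hrΩ
  rw [key, ← hcu, ← hiu]
  have hp : ¬ Elusive.OType.IsPlus (OOmega.formOf (d - 1) (Equiv.refl ((Fin (d - 1) ⊕ Fin (d - 1)) ⊕ Fin 2))
      (OCount.planeForm a b)) ⊤ := by
    rintro ⟨U, -, hU, hUd⟩
    have h := OEven.minus_model_no_half hab (U := U) fun v hv => by
      rw [← OOmega.coe_minus]; exact hU v hv
    rw [finrank_top, Module.finrank_fintype_fun_eq_card, hn] at hUd
    omega
  rw [iff_false_intro hp, false_iff, false_iff, not_not, Elusive.OOdd.isSquare_pow_iff h2,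
    Elusive.OOdd.isSquare_pow_iff (neg_ne_zero.mpr one_ne_zero), e1, e2, hr0, hr3]
  have drop : ∀ (P : Prop) (x y : ℕ), (0 < y ∧ P ∧ 0 < x ∧ x < y) ↔ (P ∧ 0 < x ∧ x < y) :=
    fun P x y => ⟨And.right, fun h => ⟨by omega, h⟩⟩
  rcases Nat.even_or_odd d with hde | hdo
  · simp only [hde, true_or, not_true, and_false, not_false_iff, and_true]
    rcases Nat.even_or_odd i with hie | hio
    · have hni : ¬ Odd i := Nat.not_odd_iff_even.mpr hie
      rw [hci hie]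
      simp only [hie, hni, false_or, true_and, false_and, and_false]
      simp only [drop, and_left_comm]
    · have hni : ¬ Even i := Nat.not_even_iff_odd.mpr hio
      simp only [hio, hni, true_or, and_true, true_and, false_and, and_false, or_false]
      simp only [drop, and_left_comm]
  · have hnd : ¬ Even d := Nat.not_even_iff_odd.mpr hdo
    have h8 : ¬ ((q % 8 ≠ 3 ∧ q % 8 ≠ 5) ∧ ¬ q % 4 ≠ 3) ↔ q % 8 ≠ 7 := by omega
    simp only [hnd, false_or, h8]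
    rcases Nat.even_or_odd i with hie | hio
    · have hni : ¬ Odd i := Nat.not_odd_iff_even.mpr hie
      rw [hci hie]
      simp only [hie, hni, false_or, true_and, false_and, and_false]
      simp only [drop, and_left_comm]
    · have hni : ¬ Even i := Nat.not_even_iff_odd.mpr hio
      simp only [hio, hni, true_or, and_true, true_and, false_and, and_false, or_false]
      simp only [drop, and_left_comm]

end Cfsg.Agent.S5991
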