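import Cfsg.Statements.S5992
import Cfsg.Agent.Lib.Classical.Elusive.OrthFreeIff

set_option autoImplicit false
open scoped MatrixGroups
open Cfsg

namespace Cfsg.Agent.S5992

open Cfsg.Agent.Classical

/-- Elements of prime order r ≠ p of Ω_n(q), nq odd, with no fixed hyperbolic `m`-space. Here `T = Ω_n(F)`, `n = 2d+1 ≥ 7`, `q` odd, realised as the commutator subgroup of the isometry group of `Q = x₀² + Σ xᵢyᵢ` over the field `F` with `q` elements (trivial centre, so its elements of prime order `r` are used directly); a nondegenerate `m`-space (even `m`) is a subspace on which the polar form of `Q` is nondegenerate; it is hyperbolic if it contains an `m/2`-dimensional subspace on which `Q` vanishes, elliptic otherwise. Let `m` be even with `2 ≤ m ≤ n − 1` (no restriction `m < n/2`) and let `r ≠ p` be a prime dividing the number of hyperbolic `m`-spaces; for `r ≠ p` let `i` be the multiplicative order of `q` modulo `r`, `c = i` for `i` even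 and `c = 2i` for `i` odd, and write `k = n mod c`, `ℓ' = m mod c`. Then every element of `T` of order `r` fixes some hyperbolic `m`-space if and only if `r = 2`, or `r` is odd and one of: (i) `i` odd, `c ≤ m` and either `k > ℓ' > 0` or `ℓ' = 0`; (ii) `i` even, `i ≤ m`, `k > ℓ'`, and `m/i` even whenever `ℓ' = 0`. (`r = p` is not covered by this statement.) -/
theorem result {F : Type*} [Field F] [Fintype F] {p : ℕ} [Fact p.Prime] [CharP F p] {q : ℕ} (hq : Fintype.card F = q) (hqodd : Odd q)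
    (d m : ℕ) (hd : 3 ≤ d) (hm : 2 ≤ m) (hme : Even m) (hmn : m ≤ 2 * d)
    (r : ℕ) [Fact r.Prime] (hrp : r ≠ p)
    (hrΩ : r ∣ Nat.card {W : Submodule F (Unit ⊕ (Fin d ⊕ Fin d) → F) // Module.finrank F ↥W = m ∧ Cfsg.Geo.IsNondegenerateOn (QuadraticMap.polar (Cfsg.quadFormOdd d F)) W ∧ Cfsg.Geo.IsPlusTypeOn (Cfsg.quadFormOdd d F) W})
    (i c : ℕ) (hi : i = orderOf (q : ZMod r)) (hc : c = if Even i then i else 2 * i) :
    (∀ x : GL (Unit ⊕ (Fin d ⊕ Fin d)) F, x ∈ Cfsg.Geo.omegaGL (Cfsg.quadFormOdd d F) → orderOf x = r →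
      ∃ W : Submodule F (Unit ⊕ (Fin d ⊕ Fin d) → F), (Module.finrank F ↥W = m ∧ Cfsg.Geo.IsNondegenerateOn (QuadraticMap.polar (Cfsg.quadFormOdd d F)) W ∧ Cfsg.Geo.IsPlusTypeOn (Cfsg.quadFormOdd d F) W) ∧ W.map (Matrix.toLin' (x : Matrix (Unit ⊕ (Fin d ⊕ Fin d)) (Unit ⊕ (Fin d ⊕ Fin d)) F)) ≤ W) ↔
    (r = 2 ∨
     (2 < r ∧ Odd i ∧ c ≤ m ∧ (m % c = 0 ∨ (0 < m % c ∧ m % c < (2 * d + 1) % c))) ∨
     (2 < r ∧ Even i ∧ i ≤ m ∧ m % c < (2 * d + 1) % c ∧ (0 < m % c ∨ Even (m / i)))) := by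
  obtain ⟨hcu, hiu⟩ := Elusive.OFree.unit_eq (F := F) hq hi hc
  have h2 : (2 : F) ≠ 0 := fun h => by
    obtain ⟨e, -, hpe⟩ := FiniteField.card F p
    have h' : (p : ℕ) ∣ 2 := (CharP.cast_eq_zero_iff F p 2).mp (by exact_mod_cast h)
    rw [(Nat.prime_dvd_prime_iff_eq (Fact.out : p.Prime) Nat.prime_two).mp h'] at hpe
    rw [← hq, hpe, Nat.odd_pow_iff e.ne_zero] at hqodd
    exact absurd hqodd (by decide)
  have hr : r.Prime := Fact.out
  have hr0 : r ≠ p → (r : F) ≠ 0 := fun hne h =>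
    hne (((Nat.prime_dvd_prime_iff_eq (Fact.out : p.Prime) hr).mp ((CharP.cast_eq_zero_iff F p r).mp h)).symm)
  have hn : Fintype.card (Unit ⊕ (Fin d ⊕ Fin d)) = 2 * d + 1 := by simp; omega
  have hodd : Odd (Fintype.card (Unit ⊕ (Fin d ⊕ Fin d))) := hn ▸ ⟨d, rfl⟩
  have hmn' : m < Fintype.card (Unit ⊕ (Fin d ⊕ Fin d)) := by omega
  have hQ := OOmega.formOf_pnd (m := d) (e := Equiv.sumComm Unit (Fin d ⊕ Fin d)) (OOmega.pnd_line h2)
  rw [← OOmega.coe_odd] at hrΩ ⊢
  rcases eq_or_ne r 2 with hr2 | hr2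
  · refine iff_of_true (fun x hx ho => ?_) (Or.inl hr2)
    obtain ⟨W, ⟨h1, h3, h4⟩, h5⟩ := Elusive.OFree.two_fixed h2 hQ hodd hm hme hmn' True x hx (ho.trans hr2)
    exact ⟨W, ⟨h1, h3, h4.mpr trivial⟩, h5⟩
  have key := Elusive.OFree.free_iff h2 hr hr2 (hr0 hrp) hQ hodd hm hme hmn' True (by simpa only [iff_true] using hrΩ)
  simp only [iff_true, true_iff] at key
  rw [key, ← hcu, ← hiu, hn]
  have hr3 : 2 < r := by have := hr.two_le; omega
  have hceven : Even c := by
    rw [hc]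
    split_ifs with h
    · exact h
    · exact even_two_mul i
  have hkodd : 0 < (2 * d + 1) % c := by
    refine Nat.pos_of_ne_zero fun h0 => ?_
    obtain ⟨t, ht⟩ := even_iff_two_dvd.mp hceven
    have := dvd_trans (Dvd.intro t ht.symm) (Nat.dvd_of_mod_eq_zero h0)
    omega
  rcases Nat.even_or_odd i with hie | hio
  · have hci : c = i := by rw [hc, if_pos hie]
    subst hci
    constructor
    · rintro ⟨h1, h3, h4⟩
      refine Or.inr (Or.inr ⟨hr3, hie, h1, h3, ?_⟩)
      rcases Nat.eq_zero_or_pos (m % c) with h0 | h0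
      · exact Or.inr ((h4 h0).resolve_left (Nat.not_odd_iff_even.mpr hie))
      · exact Or.inl h0
    · rintro (h | ⟨-, h, -⟩ | ⟨-, -, h1, h3, h4⟩)
      · exact absurd h hr2
      · exact absurd h (Nat.not_odd_iff_even.mpr hie)
      · exact ⟨h1, h3, fun h0 => Or.inr (h4.resolve_left (by omega))⟩
  · constructor
    · rintro ⟨h1, h3, -⟩
      exact Or.inr (Or.inl ⟨hr3, hio, h1, by omega⟩)
    · rintro (h | ⟨-, -, h1, h3⟩ | ⟨-, h, -⟩)
      · exact absurd h hr2
      · exact ⟨h1, by omega, fun _ => Or.inl hio⟩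
      · exact absurd hio (Nat.not_odd_iff_even.mpr h)

end Cfsg.Agent.S5992
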