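import Cfsg.Statements.S5993
import Cfsg.Agent.Lib.Classical.Elusive.OrthUnipotent
import Cfsg.Agent.Lib.Classical.Elusive.OrthFreeIff

set_option autoImplicit false
open scoped MatrixGroups
open Cfsg

namespace Cfsg.Agent.S5993

open Cfsg.Agent.Classical

/-- Elements of prime order of Ω_n(q), nq odd, with no fixed elliptic `m`-space. Here `T = Ω_n(F)`, `n = 2d+1 ≥ 7`, `q` odd, realised as the commutator subgroup of the isometry group of `Q = x₀² + Σ xᵢyᵢ` over the field `F` with `q` elements (trivial centre, so its elements of prime order `r` are used directly); a nondegenerate `m`-space (even `m`) is a subspace on which the polar form of `Q` is nondegenerate; it is hyperbolic if it contains an `m/2`-dimensional subspace on which `Q` vanishes, elliptic otherwise. Let `m` be even with `2 ≤ m ≤ n − 1` (no restriction `m < n/2`) and let `r` be a prime dividing the number of elliptic `m`-spaces; for `r ≠ p` let `i` be the multiplicative order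 of `q` modulo `r`, `c = i` for `i` even and `c = 2i` for `i` odd, and write `k = n mod c`, `ℓ' = m mod c`. Then every element of `T` of order `r` fixes some elliptic `m`-space if and only if `r = 2`, or `r ≠ p` is odd and one of: (i) `i` odd, `c ≤ m` and `k > ℓ' > 0`; (ii) `i` even, `i ≤ m`, `k > ℓ'`, and `m/i` odd whenever `ℓ' = 0`. (For `r = p` there is always an element of order `p` fixing no elliptic `m`-space.) -/
theorem result {F : Type*} [Field F] [Fintype F] {p : ℕ} [Fact p.Prime] [CharP F p] {q : ℕ} (hq : Fintype.card F = q) (hqodd : Odd q)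
    (d m : ℕ) (hd : 3 ≤ d) (hm : 2 ≤ m) (hme : Even m) (hmn : m ≤ 2 * d)
    (r : ℕ) [Fact r.Prime]
    (hrΩ : r ∣ Nat.card {W : Submodule F (Unit ⊕ (Fin d ⊕ Fin d) → F) // Module.finrank F ↥W = m ∧ Cfsg.Geo.IsNondegenerateOn (QuadraticMap.polar (Cfsg.quadFormOdd d F)) W ∧ ¬ Cfsg.Geo.IsPlusTypeOn (Cfsg.quadFormOdd d F) W})
    (i c : ℕ) (hi : i = orderOf (q : ZMod r)) (hc : c = if Even i then i else 2 * i) :
    (∀ x : GL (Unit ⊕ (Fin d ⊕ Fin d)) F, x ∈ Cfsg.Geo.omegaGL (Cfsg.quadFormOdd d F) → orderOf x = r →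
      ∃ W : Submodule F (Unit ⊕ (Fin d ⊕ Fin d) → F), (Module.finrank F ↥W = m ∧ Cfsg.Geo.IsNondegenerateOn (QuadraticMap.polar (Cfsg.quadFormOdd d F)) W ∧ ¬ Cfsg.Geo.IsPlusTypeOn (Cfsg.quadFormOdd d F) W) ∧ W.map (Matrix.toLin' (x : Matrix (Unit ⊕ (Fin d ⊕ Fin d)) (Unit ⊕ (Fin d ⊕ Fin d)) F)) ≤ W) ↔
    (r = 2 ∨
     (r ≠ p ∧ 2 < r ∧ Odd i ∧ c ≤ m ∧ 0 < m % c ∧ m % c < (2 * d + 1) % c) ∨
     (r ≠ p ∧ 2 < r ∧ Even i ∧ i ≤ m ∧ m % c < (2 * d + 1) % c ∧ (0 < m % c ∨ Odd (m / i)))) := by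
  obtain ⟨hcu, hiu⟩ := Elusive.OFree.unit_eq (F := F) hq hi hc
  have h2 : (2 : F) ≠ 0 := fun h => by
    obtain ⟨e, -, hpe⟩ := FiniteField.card F p
    have h' : (p : ℕ) ∣ 2 := (CharP.cast_eq_zero_iff F p 2).mp (by exact_mod_cast h)
    rw [(Nat.prime_dvd_prime_iff_eq (Fact.out : p.Prime) Nat.prime_two).mp h'] at hpe
    rw [← hq, hpe, Nat.odd_pow_iff e.ne_zero] at hqodd
    exact absurd hqodd (by decide)
  have hr : r.Prime := Fact.out
  have hr0 : r ≠ p → (r : F) ≠ 0 := fun hne h =>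
    hne (((Nat.prime_dvd_prime_iff_eq (Fact.out : p.Prime) hr).mp ((CharP.cast_eq_zero_iff F p r).mp h)).symm)
  have hn : Fintype.card (Unit ⊕ (Fin d ⊕ Fin d)) = 2 * d + 1 := by simp; omega
  have hodd : Odd (Fintype.card (Unit ⊕ (Fin d ⊕ Fin d))) := hn ▸ ⟨d, rfl⟩
  have hmn' : m < Fintype.card (Unit ⊕ (Fin d ⊕ Fin d)) := by omega
  have hQ := OOmega.formOf_pnd (m := d) (e := Equiv.sumComm Unit (Fin d ⊕ Fin d)) (OOmega.pnd_line h2)
  rw [← OOmega.coe_odd] at hrΩ ⊢
  rcases eq_or_ne r 2 with hr2 | hr2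
  · refine iff_of_true (fun x hx ho => ?_) (Or.inl hr2)
    obtain ⟨W, ⟨h1, h3, h4⟩, h5⟩ := Elusive.OFree.two_fixed h2 hQ hodd hm hme hmn' False x hx (ho.trans hr2)
    exact ⟨W, ⟨h1, h3, h4.mp⟩, h5⟩
  rcases eq_or_ne r p with rfl | hrp
  · refine iff_of_false (fun H => ?_) (by rintro (h | ⟨h, -⟩ | ⟨h, -⟩) <;> contradiction)
    have hp3 : 3 ≤ r := by have := hr.two_le; omega
    obtain ⟨j, a, ha, hdj, hj⟩ : ∃ j a : ℕ, (a = 1 ∨ a = 3) ∧ 2 * d + 1 = a + 4 * j ∧ 1 ≤ j := by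
      rcases Nat.even_or_odd' d with ⟨j, h | h⟩
      · exact ⟨j, 1, Or.inl rfl, by omega, by omega⟩
      · exact ⟨j, 3, Or.inr rfl, by omega, by omega⟩
    obtain ⟨ν, hν, hνs, -, hW⟩ := Elusive.subpartition_of_fixed (p := r) h2 hQ
      (fun W => ¬ Cfsg.Geo.IsPlusTypeOn _ W)
      (fun x hx hxp hxs => H x hx (orderOf_eq_prime hxp fun h => hxs 1 (by rw [h, one_smul]; rfl)))
      (a ::ₘ Multiset.replicate (2 * j) 2)
      (fun e he => by
        rcases Multiset.mem_cons.mp he with rfl | he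
        · omega
        · rw [Multiset.eq_of_mem_replicate he]; omega)
      (fun e he => by
        obtain ⟨u, hu⟩ := he
        rw [Multiset.count_cons_of_ne (by omega), Multiset.count_replicate]
        split_ifs
        · exact ⟨j, by omega⟩
        · exact ⟨0, rfl⟩)
      (by simp; omega)
      ⟨a, Multiset.mem_cons_self _ _, Nat.odd_iff.mpr (by omega)⟩
      ⟨2, Multiset.mem_cons_of_mem (Multiset.mem_replicate.mpr ⟨by omega, rfl⟩), le_rfl⟩
    rcases Elusive.le_cons_cases hν with h | ⟨ν₁, rfl, h⟩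
    · obtain ⟨W, hW1, hW2⟩ := hW fun b hb => by
        rw [Multiset.eq_of_mem_replicate (Multiset.mem_of_le h hb)]
        exact even_two
      exact hW1 hW2
    · obtain ⟨w, hw⟩ := hme
      obtain ⟨b, -, rfl⟩ := Multiset.le_replicate_iff.mp h
      rw [Multiset.sum_cons, Multiset.sum_replicate, smul_eq_mul] at hνs
      omega
  have key := Elusive.OFree.free_iff h2 hr hr2 (hr0 hrp) hQ hodd hm hme hmn' False
    (by simpa only [iff_false] using hrΩ)
  simp only [iff_false, false_iff] at key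
  rw [key, ← hcu, ← hiu, hn]
  have hr3 : 2 < r := by have := hr.two_le; omega
  rcases Nat.even_or_odd i with hie | hio
  · have hci : c = i := by rw [hc, if_pos hie]
    subst hci
    constructor
    · rintro ⟨h1, h3, h4⟩
      refine Or.inr (Or.inr ⟨hrp, hr3, hie, h1, h3, ?_⟩)
      rcases Nat.eq_zero_or_pos (m % c) with h0 | h0
      · exact Or.inr (Nat.not_even_iff_odd.mp fun he => h4 h0 (Or.inr he))
      · exact Or.inl h0
    · rintro (h | ⟨-, -, h, -⟩ | ⟨-, -, -, h1, h3, h4⟩)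
      · exact absurd h hr2
      · exact absurd h (Nat.not_odd_iff_even.mpr hie)
      · refine ⟨h1, h3, fun h0 h => ?_⟩
        rcases h with h | h
        · exact Nat.not_odd_iff_even.mpr hie h
        · exact Nat.not_odd_iff_even.mpr h (h4.resolve_left (by omega))
  · constructor
    · rintro ⟨h1, h3, h4⟩
      exact Or.inr (Or.inl ⟨hrp, hr3, hio, h1, Nat.pos_of_ne_zero fun h0 => h4 h0 (Or.inl hio), h3⟩)
    · rintro (h | ⟨-, -, -, h1, h3, h4⟩ | ⟨-, -, h, -⟩)
      · exact absurd h hr2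
      · exact ⟨h1, h4, fun h0 => by omega⟩
      · exact absurd hio (Nat.not_odd_iff_even.mpr h)

end Cfsg.Agent.S5993
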