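import Cfsg.Statements.S5994
import Cfsg.Agent.Lib.Classical.Elusive.OrthUnipotent

set_option autoImplicit false
open scoped MatrixGroups
open Cfsg

namespace Cfsg.Agent.S5994

open Cfsg.Agent.Classical

/-- A necessary condition for every element of order p of PΩ⁻_n(q), q odd, to fix an elliptic `m`-space. Here `T = PΩ⁻_n(F)`, `n = 2d ≥ 8`, realised through `Ω⁻_n(q)`, the commutator subgroup of the isometry group of `Q = Σ_{i<d−1} xᵢyᵢ + z₁² + a z₁z₂ + b z₂²` with `z₁² + a z₁z₂ + b z₂²` anisotropic, over the field `F` with `q` elements; an element of `T` of prime order `r` is an element `x` of `Ω⁻_n(q)` with `x^r` scalar and `x` not scalar; `q` is odd; a nondegenerate `m`-space (even `m`) is a subspace on which the polar form of `Q` is nondegenerate; it is hyperbolic if it contains an `m/2`-dimensional subspace on which `Q` vanishes, elliptic otherwise. Let `m` be even with `2 ≤ m ≤ n − 2` and suppose `p` divides the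 number of elliptic `m`-spaces. If every element of `T` of order `p` fixes some elliptic `m`-space, then `n ≡ m (mod 4)` and every partition of `n` into parts of size at most `p` in which every even part has even multiplicity contains (as a sub-multiset) a partition of `m` in which every even part has even multiplicity. -/
theorem result {F : Type*} [Field F] [Fintype F] {p : ℕ} [Fact p.Prime] [CharP F p] {q : ℕ} (hq : Fintype.card F = q) (hqodd : Odd q)
    (d m : ℕ) (hd : 4 ≤ d) (hm : 2 ≤ m) (hme : Even m) (hmn : m + 2 ≤ 2 * d) (a b : F) (hab : ∀ x y : F, x ^ 2 + a * x * y + b * y ^ 2 = 0 → x = 0 ∧ y = 0)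
    (hpΩ : p ∣ Nat.card {W : Submodule F ((Fin (d - 1) ⊕ Fin (d - 1)) ⊕ Fin 2 → F) // Module.finrank F ↥W = m ∧ Cfsg.Geo.IsNondegenerateOn (QuadraticMap.polar (Cfsg.quadFormMinus (d - 1) F a b)) W ∧ ¬ Cfsg.Geo.IsPlusTypeOn (Cfsg.quadFormMinus (d - 1) F a b) W}) :
    (∀ x : GL ((Fin (d - 1) ⊕ Fin (d - 1)) ⊕ Fin 2) F, x ∈ Cfsg.Geo.omegaGL (Cfsg.quadFormMinus (d - 1) F a b) →
      (∃ z : F, ((x ^ p : GL ((Fin (d - 1) ⊕ Fin (d - 1)) ⊕ Fin 2) F) : Matrix ((Fin (d - 1) ⊕ Fin (d - 1)) ⊕ Fin 2) ((Fin (d - 1) ⊕ Fin (d - 1)) ⊕ Fin 2) F) = z • (1 : Matrix ((Fin (d - 1) ⊕ Fin (d - 1)) ⊕ Fin 2) ((Fin (d - 1) ⊕ Fin (d - 1)) ⊕ Fin 2) F)) →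
      (∀ z : F, (x : Matrix ((Fin (d - 1) ⊕ Fin (d - 1)) ⊕ Fin 2) ((Fin (d - 1) ⊕ Fin (d - 1)) ⊕ Fin 2) F) ≠ z • (1 : Matrix ((Fin (d - 1) ⊕ Fin (d - 1)) ⊕ Fin 2) ((Fin (d - 1) ⊕ Fin (d - 1)) ⊕ Fin 2) F)) →
      ∃ W : Submodule F ((Fin (d - 1) ⊕ Fin (d - 1)) ⊕ Fin 2 → F), (Module.finrank F ↥W = m ∧ Cfsg.Geo.IsNondegenerateOn (QuadraticMap.polar (Cfsg.quadFormMinus (d - 1) F a b)) W ∧ ¬ Cfsg.Geo.IsPlusTypeOn (Cfsg.quadFormMinus (d - 1) F a b) W) ∧ W.map (Matrix.toLin' (x : Matrix ((Fin (d - 1) ⊕ Fin (d - 1)) ⊕ Fin 2) ((Fin (d - 1) ⊕ Fin (d - 1)) ⊕ Fin 2) F)) ≤ W) →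
    ((2 * d) % 4 = m % 4 ∧ (∀ μ : Multiset ℕ, (∀ e ∈ μ, 0 < e ∧ e ≤ p) → (∀ e : ℕ, Even e → Even (μ.count e)) → μ.sum = 2 * d →
        ∃ ν : Multiset ℕ, ν ≤ μ ∧ ν.sum = m ∧ ∀ e : ℕ, Even e → Even (ν.count e))) := by
  intro H
  obtain ⟨e, -, hpe⟩ := FiniteField.card F p
  have hpodd : Odd p := by
    rw [← hq, hpe] at hqodd
    exact (Nat.odd_pow_iff e.ne_zero).mp hqodd
  have h2 : (2 : F) ≠ 0 := fun h => by
    have h' : (p : ℕ) ∣ 2 := (CharP.cast_eq_zero_iff F p 2).mp (by exact_mod_cast h)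
    rw [(Nat.prime_dvd_prime_iff_eq (Fact.out : p.Prime) Nat.prime_two).mp h'] at hpodd
    exact absurd hpodd (by decide)
  have hp3 : 3 ≤ p := by
    have := (Fact.out : p.Prime).two_le
    obtain ⟨r, hr⟩ := hpodd
    omega
  rw [← Cfsg.Agent.Classical.OOmega.coe_minus] at H
  have key : ∀ μ : Multiset ℕ, (∀ e ∈ μ, 0 < e ∧ e ≤ p) → (∀ e : ℕ, Even e → Even (μ.count e)) → μ.sum = 2 * d →
      (∃ e ∈ μ, Odd e) → (∃ e ∈ μ, 2 ≤ e) → ∃ ν : Multiset ℕ, ν ≤ μ ∧ ν.sum = m ∧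
        (∀ e : ℕ, Even e → Even (ν.count e)) ∧ ¬ ∀ e ∈ ν, Even e := by
    intro μ hμ hev hsum ho hb
    obtain ⟨ν, h1, h3, h4, h5⟩ := Elusive.subpartition_of_fixed (p := p) h2
      (Cfsg.Agent.Classical.OOmega.formOf_pnd (Cfsg.Agent.Classical.OOmega.pnd_plane
        (fun x y h => hab x y h))) _
      (fun x hx hxp hxs => H x hx ⟨1, by rw [hxp, one_smul]; rfl⟩ hxs) μ hμ hev
      (by simp [hsum]; omega) ho hb
    refine ⟨ν, h1, h3, h4, fun hall => ?_⟩
    obtain ⟨W, hW, hW'⟩ := h5 hall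
    exact hW hW'
  refine ⟨?_, fun μ => Elusive.partition_cond hpodd hme (by omega) (fun μ a b c e f => by
    obtain ⟨ν, h1, h3, h4, -⟩ := key μ a b c e f
    exact ⟨ν, h1, h3, h4⟩) μ⟩
  obtain ⟨w, hw⟩ := hme
  have four : ∀ (c₁ c₂ j : ℕ), Odd c₁ → Odd c₂ → c₁ ≤ 3 → c₂ ≤ 3 → 1 ≤ j → c₁ + c₂ + 4 * j = 2 * d →
      m % 4 = (c₁ + c₂) % 4 ∨ m % 4 = 0 ∧ c₁ ≠ c₂ := by
    intro c₁ c₂ j h1 h2' h3 h4 hj hsum
    obtain ⟨u₁, hu₁⟩ := h1
    obtain ⟨u₂, hu₂⟩ := h2'
    obtain ⟨ν, hν, hνs, hνe, hνo⟩ := key (c₁ ::ₘ c₂ ::ₘ Multiset.replicate (2 * j) 2)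
      (fun e he => by
        rcases Multiset.mem_cons.mp he with rfl | he
        · omega
        rcases Multiset.mem_cons.mp he with rfl | he
        · omega
        rw [Multiset.eq_of_mem_replicate he]; omega)
      (fun e he => by
        obtain ⟨u, hu⟩ := he
        rw [Multiset.count_cons_of_ne (by omega), Multiset.count_cons_of_ne (by omega), Multiset.count_replicate]
        split_ifs
        · exact ⟨j, by omega⟩
        · exact ⟨0, rfl⟩)
      (by simp; omega)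
      ⟨c₁, Multiset.mem_cons_self _ _, ⟨u₁, hu₁⟩⟩
      ⟨2, Multiset.mem_cons_of_mem (Multiset.mem_cons_of_mem (Multiset.mem_replicate.mpr ⟨by omega, rfl⟩)), le_rfl⟩
    have hne := hνe 2 even_two
    rcases Elusive.le_cons_cases hν with h | ⟨ν₁, rfl, h⟩
    · rcases Elusive.le_cons_cases h with h' | ⟨ν₂, rfl, h'⟩
      · exact absurd (fun e he => by rw [Multiset.eq_of_mem_replicate (Multiset.mem_of_le h' he)]; exact even_two) hνo
      · rw [Multiset.count_cons_of_ne (by omega)] at hne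
        have := Elusive.sum_mod_four_of_twos h' hne
        rw [Multiset.sum_cons] at hνs
        omega
    · rw [Multiset.count_cons_of_ne (by omega)] at hne
      rcases Elusive.le_cons_cases h with h' | ⟨ν₂, rfl, h'⟩
      · have := Elusive.sum_mod_four_of_twos h' hne
        rw [Multiset.sum_cons] at hνs
        omega
      · rw [Multiset.count_cons_of_ne (by omega)] at hne
        have := Elusive.sum_mod_four_of_twos h' hne
        simp only [Multiset.sum_cons] at hνs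
        omega
  rcases Nat.even_or_odd' d with ⟨k, hk | hk⟩
  · rcases four 3 1 (k - 1) (by decide) (by decide) le_rfl (by omega) (by omega) (by omega) with h | h <;> omega
  · rcases four 1 1 k (by decide) (by decide) (by omega) (by omega) (by omega) (by omega) with h | h <;> omega

end Cfsg.Agent.S5994
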