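import Cfsg.Statements.S5995
import Cfsg.Agent.Lib.Classical.Elusive.OrthUnipotent

set_option autoImplicit false
open scoped MatrixGroups
open Cfsg

namespace Cfsg.Agent.S5995

open Cfsg.Agent.Classical

/-- A necessary condition for every element of order p of Ω_n(q), nq odd, to fix a hyperbolic `m`-space. Here `T = Ω_n(F)`, `n = 2d+1 ≥ 7`, `q` odd, realised as the commutator subgroup of the isometry group of `Q = x₀² + Σ xᵢyᵢ` over the field `F` with `q` elements (trivial centre, so its elements of prime order `r` are used directly); a nondegenerate `m`-space (even `m`) is a subspace on which the polar form of `Q` is nondegenerate; it is hyperbolic if it contains an `m/2`-dimensional subspace on which `Q` vanishes, elliptic otherwise. Let `m` be even with `2 ≤ m ≤ n − 1` and suppose `p` divides the number of hyperbolic `m`-spaces. If every element of `T` of order `p` fixes some hyperbolic `m`-space, then `m ≡ 0 (mod 4)` and every partition of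 `n` into parts of size at most `p` in which every even part has even multiplicity contains (as a sub-multiset) a partition of `m` in which every even part has even multiplicity. -/
theorem result {F : Type*} [Field F] [Fintype F] {p : ℕ} [Fact p.Prime] [CharP F p] {q : ℕ} (hq : Fintype.card F = q) (hqodd : Odd q)
    (d m : ℕ) (hd : 3 ≤ d) (hm : 2 ≤ m) (hme : Even m) (hmn : m ≤ 2 * d)
    (hpΩ : p ∣ Nat.card {W : Submodule F (Unit ⊕ (Fin d ⊕ Fin d) → F) // Module.finrank F ↥W = m ∧ Cfsg.Geo.IsNondegenerateOn (QuadraticMap.polar (Cfsg.quadFormOdd d F)) W ∧ Cfsg.Geo.IsPlusTypeOn (Cfsg.quadFormOdd d F) W}) :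
    (∀ x : GL (Unit ⊕ (Fin d ⊕ Fin d)) F, x ∈ Cfsg.Geo.omegaGL (Cfsg.quadFormOdd d F) → orderOf x = p →
      ∃ W : Submodule F (Unit ⊕ (Fin d ⊕ Fin d) → F), (Module.finrank F ↥W = m ∧ Cfsg.Geo.IsNondegenerateOn (QuadraticMap.polar (Cfsg.quadFormOdd d F)) W ∧ Cfsg.Geo.IsPlusTypeOn (Cfsg.quadFormOdd d F) W) ∧ W.map (Matrix.toLin' (x : Matrix (Unit ⊕ (Fin d ⊕ Fin d)) (Unit ⊕ (Fin d ⊕ Fin d)) F)) ≤ W) →
    (m % 4 = 0 ∧ (∀ μ : Multiset ℕ, (∀ e ∈ μ, 0 < e ∧ e ≤ p) → (∀ e : ℕ, Even e → Even (μ.count e)) → μ.sum = 2 * d + 1 →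
        ∃ ν : Multiset ℕ, ν ≤ μ ∧ ν.sum = m ∧ ∀ e : ℕ, Even e → Even (ν.count e))) := by
  intro H
  obtain ⟨e, -, hpe⟩ := FiniteField.card F p
  have hpodd : Odd p := by
    rw [← hq, hpe] at hqodd
    exact (Nat.odd_pow_iff e.ne_zero).mp hqodd
  have h2 : (2 : F) ≠ 0 := fun h => by
    have h' : (p : ℕ) ∣ 2 := (CharP.cast_eq_zero_iff F p 2).mp (by exact_mod_cast h)
    rw [(Nat.prime_dvd_prime_iff_eq (Fact.out : p.Prime) Nat.prime_two).mp h'] at hpodd
    exact absurd hpodd (by decide)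
  have hp3 : 3 ≤ p := by
    have := (Fact.out : p.Prime).two_le
    obtain ⟨r, hr⟩ := hpodd
    omega
  rw [← Cfsg.Agent.Classical.OOmega.coe_odd] at H
  have key : ∀ μ : Multiset ℕ, (∀ e ∈ μ, 0 < e ∧ e ≤ p) → (∀ e : ℕ, Even e → Even (μ.count e)) → μ.sum = 2 * d + 1 →
      (∃ e ∈ μ, Odd e) → (∃ e ∈ μ, 2 ≤ e) → ∃ ν : Multiset ℕ, ν ≤ μ ∧ ν.sum = m ∧ ∀ e : ℕ, Even e → Even (ν.count e) := by
    intro μ hμ hev hsum ho hb
    obtain ⟨ν, h1, h3, h4, -⟩ := Elusive.subpartition_of_fixed (p := p) h2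
      (Cfsg.Agent.Classical.OOmega.formOf_pnd (Cfsg.Agent.Classical.OOmega.pnd_line h2)) _
      (fun x hx hxp hxs => H x hx (orderOf_eq_prime hxp fun h => hxs 1 (by rw [h, one_smul]; rfl))) μ hμ hev
      (by simp [hsum]; omega) ho hb
    exact ⟨ν, h1, h3, h4⟩
  refine ⟨?_, fun μ => Elusive.partition_cond hpodd hme (by omega) key μ⟩
  obtain ⟨j, c, hc, hdj, hc2⟩ : ∃ j c : ℕ, (c = 1 ∨ c = 3) ∧ 2 * d + 1 = c + 4 * j ∧ 1 ≤ j := by
    rcases Nat.even_or_odd' d with ⟨j, h | h⟩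
    · exact ⟨j, 1, Or.inl rfl, by omega, by omega⟩
    · exact ⟨j, 3, Or.inr rfl, by omega, by omega⟩
  obtain ⟨ν, hν, hνs, hνe⟩ := key (c ::ₘ Multiset.replicate (2 * j) 2)
    (fun e he => by
      rcases Multiset.mem_cons.mp he with rfl | he
      · omega
      · rw [Multiset.eq_of_mem_replicate he]; omega)
    (fun e he => by
      obtain ⟨u, hu⟩ := he
      rw [Multiset.count_cons_of_ne (by omega), Multiset.count_replicate]
      split_ifs
      · exact ⟨j, by omega⟩
      · exact ⟨0, rfl⟩)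
    (by simp; omega)
    ⟨c, Multiset.mem_cons_self _ _, Nat.odd_iff.mpr (by omega)⟩
    ⟨2, Multiset.mem_cons_of_mem (Multiset.mem_replicate.mpr ⟨by omega, rfl⟩), le_rfl⟩
  rcases Elusive.le_cons_cases hν with h | ⟨ν₁, rfl, h⟩
  · have := Elusive.sum_mod_four_of_twos h (hνe 2 even_two)
    omega
  · have hne := hνe 2 even_two
    rw [Multiset.count_cons_of_ne (by omega)] at hne
    have := Elusive.sum_mod_four_of_twos h hne
    rw [Multiset.sum_cons] at hνs
    obtain ⟨w, hw⟩ := hme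
    omega

end Cfsg.Agent.S5995
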