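import Cfsg.Statements.S5997
import Cfsg.Agent.Lib.Classical.Dickson.Polyhedral

set_option autoImplicit false
open scoped MatrixGroups
open Cfsg

namespace Cfsg.Agent.S5997

open Cfsg.Agent.Classical Cfsg.Agent.Small Cfsg.Agent.Small.SL2C in
/-- A quaternion group in `GL₂` is the full preimage of a four-group of `PSL₂`. -/
theorem quaternion_pair {F : Type*} [Field F] [Fintype F] (h2 : (2 : F) ≠ 0) (R : Subgroup (GL (Fin 2) F))
    (e : R ≃* QuaternionGroup 2) :
    ∃ (A j : Matrix.SpecialLinearGroup (Fin 2) F) (h : SL2Four.IsPair (PSL2.pr A, PSL2.pr j)),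
      R ≤ (Matrix.SpecialLinearGroup.toGL : Matrix.SpecialLinearGroup (Fin 2) F →* GL (Fin 2) F).range ∧
      R.comap Matrix.SpecialLinearGroup.toGL = (SL2Four.pairGroup h).comap PSL2.pr := by
  classical
  obtain ⟨i, hi⟩ : ∃ i : GL (Fin 2) F, i = (e.symm (QuaternionGroup.a 1) : R) := ⟨_, rfl⟩
  obtain ⟨k, hk⟩ : ∃ k : GL (Fin 2) F, k = (e.symm (QuaternionGroup.xa 0) : R) := ⟨_, rfl⟩
  obtain ⟨z, hz⟩ : ∃ z : GL (Fin 2) F, z = (e.symm (QuaternionGroup.a 2) : R) := ⟨_, rfl⟩
  have tr : ∀ u v : QuaternionGroup 2, ((e.symm (u * v) : R) : GL (Fin 2) F) = (e.symm u : R) * (e.symm v : R) :=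
    fun u v => by rw [map_mul, Subgroup.coe_mul]
  have hz1 : z ≠ 1 := fun h => by
    rw [hz, OneMemClass.coe_eq_one, map_eq_one_iff _ e.symm.injective] at h
    exact absurd h (by decide)
  have hii : i * i = z := by rw [hi, hz, ← tr]; rfl
  have hkk : k * k = z := by rw [hk, hz, ← tr]; rfl
  have hzz : z * z = 1 := by
    rw [hz, ← tr, show (QuaternionGroup.a 2 : QuaternionGroup 2) * QuaternionGroup.a 2 = 1 from by decide, map_one]; rfl
  have hki : k * i = i * z * k := by rw [hk, hi, hz, ← tr, ← tr, ← tr]; rfl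
  have hne : k * i ≠ i * k := fun h => by
    rw [hk, hi, ← tr, ← tr] at h
    exact absurd (e.symm.injective (Subtype.ext h)) (by decide)
  have hzs : IsSc z.1 := by
    by_contra hs
    have hci : i.1 * z.1 = z.1 * i.1 := by rw [← Units.val_mul, ← Units.val_mul, ← hii, mul_assoc]
    have hck : k.1 * z.1 = z.1 * k.1 := by rw [← Units.val_mul, ← Units.val_mul, ← hkk, mul_assoc]
    obtain ⟨a, b, ha⟩ := exists_comb hs hci
    obtain ⟨c, d, hc⟩ := exists_comb hs hck
    exact hne (Units.ext (by rw [Units.val_mul, Units.val_mul, ha, hc]; simp [comb, mul_add, add_mul, smul_smul, mul_comm]; abel))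
  obtain ⟨c, hc⟩ := hzs
  have hc1 : c = -1 := by
    have h1 : c * c = 1 := by
      have := congrArg (fun g : GL (Fin 2) F => g.1 0 0) hzz
      simpa [Units.val_mul, hc, Matrix.mul_apply, Fin.sum_univ_two] using this
    exact (mul_self_eq_one_iff.mp h1).resolve_left fun h => hz1 (Units.ext (by rw [hc, h, one_smul]; rfl))
  subst hc1
  have hi2 : i.1 * i.1 = -1 := by rw [← Units.val_mul, hii, hc, neg_one_smul]
  have hk2 : k.1 * k.1 = -1 := by rw [← Units.val_mul, hkk, hc, neg_one_smul]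
  have key : ∀ u : GL (Fin 2) F, u.1 * u.1 = -1 → ¬ IsSc u.1 → u.1.det = 1 ∧ u.1.trace = 0 := fun u hu hs => by
    have h00 := congrFun (congrFun hu 0) 0
    have h01 := congrFun (congrFun hu 0) 1
    have h10 := congrFun (congrFun hu 1) 0
    have h11 := congrFun (congrFun hu 1) 1
    simp [Matrix.mul_apply, Fin.sum_univ_two] at h00 h01 h10 h11
    have ht : u.1 0 0 + u.1 1 1 = 0 := by
      by_contra ht
      have e01 : u.1 0 1 = 0 := (mul_eq_zero.mp (by linear_combination h01 : u.1 0 1 * (u.1 0 0 + u.1 1 1) = 0)).resolve_right ht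
      have e10 : u.1 1 0 = 0 := (mul_eq_zero.mp (by linear_combination h10 : u.1 1 0 * (u.1 0 0 + u.1 1 1) = 0)).resolve_right ht
      have e00 : u.1 0 0 = u.1 1 1 := by
        rcases eq_or_ne (u.1 0 0) (u.1 1 1) with h | h
        · exact h
        · exact ((mul_eq_zero.mp (by linear_combination h00 - h11 : (u.1 0 0 - u.1 1 1) * (u.1 0 0 + u.1 1 1) = 0)).resolve_right ht |> sub_ne_zero.mpr h).elim
      exact hs ⟨u.1 0 0, by ext a b; fin_cases a <;> fin_cases b <;> simp [e01, e10, e00]⟩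
    refine ⟨?_, by rw [Matrix.trace_fin_two]; exact ht⟩
    rw [Matrix.det_fin_two]
    linear_combination -h00 + u.1 0 0 * ht
  have his : ¬ IsSc i.1 := fun ⟨a, ha⟩ => hne (Units.ext (by rw [Units.val_mul, Units.val_mul, ha]; simp))
  have hks : ¬ IsSc k.1 := fun ⟨a, ha⟩ => hne (Units.ext (by rw [Units.val_mul, Units.val_mul, ha]; simp))
  obtain ⟨hdi, hti⟩ := key i hi2 his
  obtain ⟨hdk, htk⟩ := key k hk2 hks
  obtain ⟨A, hA⟩ : ∃ A : Matrix.SpecialLinearGroup (Fin 2) F, A.1 = i.1 := ⟨⟨i.1, hdi⟩, rfl⟩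
  obtain ⟨j, hj⟩ : ∃ j : Matrix.SpecialLinearGroup (Fin 2) F, j.1 = k.1 := ⟨⟨k.1, hdk⟩, rfl⟩
  have hanti : SL2Four.Anti A j := by
    have := congrArg Units.val hki
    rw [Units.val_mul, Units.val_mul, Units.val_mul, hc] at this
    show A.1 * j.1 = -(j.1 * A.1)
    rw [hA, hj, this]; simp
  have hp : SL2Four.IsPair (PSL2.pr A, PSL2.pr j) := (SL2Four.isPair_pr_iff h2 (A, j)).mpr ⟨hA ▸ hti, hanti⟩
  have hAi : Matrix.SpecialLinearGroup.toGL A = i := Units.ext hA
  have hjk : Matrix.SpecialLinearGroup.toGL j = k := Units.ext hj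
  have hiR : i ∈ R := hi ▸ (e.symm _).2
  have hkR : k ∈ R := hk ▸ (e.symm _).2
  have hcl : R ≤ Subgroup.closure ({i, k} : Set (GL (Fin 2) F)) := fun w hw => by
    obtain ⟨u, hu⟩ : ∃ u, u = e ⟨w, hw⟩ := ⟨_, rfl⟩
    have hw' : ((e.symm u : R) : GL (Fin 2) F) = w := by rw [hu, e.symm_apply_apply]
    rw [← hw']
    have hmi : ∀ m : ℕ, ((e.symm (QuaternionGroup.a 1 ^ m) : R) : GL (Fin 2) F) ∈ Subgroup.closure ({i, k} : Set (GL (Fin 2) F)) := fun m => by
      rw [map_pow, Subgroup.coe_pow, ← hi]; exact pow_mem (Subgroup.subset_closure (Set.mem_insert _ _)) m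
    rcases u with m | m
    · have := hmi m.val
      rwa [QuaternionGroup.a_one_pow, ZMod.natCast_zmod_val] at this
    · have e1 : (QuaternionGroup.xa m : QuaternionGroup 2) = QuaternionGroup.xa 0 * QuaternionGroup.a 1 ^ m.val := by
        rw [QuaternionGroup.a_one_pow, ZMod.natCast_zmod_val, QuaternionGroup.xa_mul_a, zero_add]
      rw [e1, tr, ← hk]
      exact mul_mem (Subgroup.subset_closure (Set.mem_insert_of_mem _ rfl)) (hmi _)
  refine ⟨A, j, hp, hcl.trans ((Subgroup.closure_le _).mpr ?_), le_antisymm ?_ ?_⟩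
  · rintro w (rfl | rfl)
    · exact ⟨A, hAi⟩
    · exact ⟨j, hjk⟩
  · intro x hx
    have hle : R ≤ ((SL2Four.pairGroup hp).comap PSL2.pr).map Matrix.SpecialLinearGroup.toGL :=
      hcl.trans ((Subgroup.closure_le _).mpr (by
        rintro w (rfl | rfl)
        · exact ⟨A, Or.inr (Or.inl rfl), hAi⟩
        · exact ⟨j, Or.inr (Or.inr (Or.inl rfl)), hjk⟩))
    obtain ⟨y, hy, hxy⟩ := hle hx
    rwa [Matrix.SpecialLinearGroup.toGL_injective hxy] at hy
  · intro x hx
    have hneg : ∀ y : Matrix.SpecialLinearGroup (Fin 2) F, Matrix.SpecialLinearGroup.toGL y ∈ R →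
        PSL2.pr x = PSL2.pr y → Matrix.SpecialLinearGroup.toGL x ∈ R := fun y hy hxy => by
      obtain ⟨ε, hε, h⟩ := (PSL2.pr_eq_iff _ _).mp hxy
      rcases mul_self_eq_one_iff.mp hε with rfl | rfl
      · rw [one_smul] at h; rwa [Subtype.ext h]
      · have : Matrix.SpecialLinearGroup.toGL x = z * Matrix.SpecialLinearGroup.toGL y :=
          Units.ext (show x.1 = z.1 * y.1 by rw [hc, Matrix.smul_mul, Matrix.one_mul]; exact h)
        rw [this]; exact mul_mem (hz ▸ (e.symm _).2) hy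
    rcases (hx : PSL2.pr x ∈ SL2Four.pairGroup hp) with h | h | h | h
    · exact hneg 1 (by rw [map_one]; exact one_mem R) (h.trans (map_one _).symm)
    · exact hneg A (hAi ▸ hiR) h
    · exact hneg j (hjk ▸ hkR) h
    · exact hneg (A * j) (by rw [map_mul, hAi, hjk]; exact mul_mem hiR hkR) (h.trans (map_mul _ _ _).symm)

/-- Elements of prime order of PSL_2(p) and the normalizer of a quaternion subgroup. Here `T = PSL_2(F)` for the field `F` with `p` elements, `p ≥ 5` prime; `R` is a subgroup of GL_2(F) isomorphic to the quaternion group of order 8 (an absolutely irreducible 2-group of symplectic type), and `H` is the subgroup of matrices of determinant 1 normalizing `R` — a subgroup of type 2^{1+2}.O₂⁻(2), isomorphic modulo scalars to A₄ or S₄ (maximality is not assumed). Ω is the set of cosets of `H` in `T`, so an element of `T` of prime order `r` (a matrix `x` of determinant 1 with `x^r` scalar, `x` not scalar) fixes a point of Ω exactly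 when some conjugate of `x` by a matrix of determinant 1 normalizes `R`. Let `r` be a prime dividing the index of `H`. Then every element of `T` of order `r` fixes a point of Ω if and only if `r = 2` or `r = 3`. -/
theorem result {F : Type*} [Field F] [Fintype F] {p : ℕ} [Fact p.Prime] [CharP F p] (hF : Fintype.card F = p) (hp : 5 ≤ p)
    (R : Subgroup (GL (Fin 2) F)) (hR : Nonempty (↥R ≃* QuaternionGroup 2))
    (r : ℕ) [Fact r.Prime]
    (hΩ : r ∣ (Cfsg.Geo.subgroupNormalizer R).relIndex (Cfsg.Geo.specialLinear (Fin 2) F)) :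
    (∀ x ∈ Cfsg.Geo.specialLinear (Fin 2) F, (∃ z : F, ((x ^ r : GL (Fin 2) F) : Matrix (Fin 2) (Fin 2) F) = z • (1 : Matrix (Fin 2) (Fin 2) F)) →
      (∀ z : F, (x : Matrix (Fin 2) (Fin 2) F) ≠ z • (1 : Matrix (Fin 2) (Fin 2) F)) →
      ∃ g ∈ Cfsg.Geo.specialLinear (Fin 2) F, g⁻¹ * x * g ∈ Cfsg.Geo.subgroupNormalizer R) ↔ (r = 2 ∨ r = 3) := by
  classical
  open Cfsg.Agent.Classical Cfsg.Agent.Small Cfsg.Agent.Small.SL2C in
  have h2 : (2 : F) ≠ 0 := not_two_dvd_iff.mp (by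
    rw [hF]; intro h
    have := (Nat.prime_dvd_prime_iff_eq Nat.prime_two Fact.out).mp h
    omega)
  have h3 : (3 : F) ≠ 0 := fun h => by
    have h' : ((3 : ℕ) : F) = 0 := by exact_mod_cast h
    rw [CharP.cast_eq_zero_iff F p] at h'
    have := Nat.le_of_dvd (by norm_num) h'
    omega
  obtain ⟨e⟩ := hR
  obtain ⟨A, j, hp', hle, hcomap⟩ := quaternion_pair h2 R e
  let T : Matrix.SpecialLinearGroup (Fin 2) F →* GL (Fin 2) F := Matrix.SpecialLinearGroup.toGL
  have hSL : Cfsg.Geo.specialLinear (Fin 2) F = T.range := by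
    ext g
    constructor
    · intro hg
      exact ⟨⟨g.1, congrArg Units.val (MonoidHom.mem_ker.mp hg)⟩, Units.ext rfl⟩
    · rintro ⟨x, rfl⟩
      exact MonoidHom.mem_ker.mpr (Units.ext x.2)
  obtain ⟨N, hN⟩ : ∃ N, N = Subgroup.normalizer (SL2Four.pairGroup hp' : Set (Matrix.ProjectiveSpecialLinearGroup (Fin 2) F)) := ⟨_, rfl⟩
  have hNc : (Cfsg.Geo.subgroupNormalizer R).comap T = N.comap PSL2.pr := by
    rw [hN, Subgroup.comap_normalizer_eq_of_surjective _ PSL2.pr_surjective]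
    ext x
    rw [← hcomap, Subgroup.mem_comap]
    show T x ∈ Subgroup.normalizer (R : Set (GL (Fin 2) F)) ↔ _
    rw [Subgroup.mem_normalizer_iff, Subgroup.mem_normalizer_iff]
    constructor
    · intro h y
      rw [Subgroup.mem_comap, Subgroup.mem_comap, map_mul, map_mul, map_inv]
      exact h (T y)
    · intro h w
      constructor
      · intro hw
        obtain ⟨y, rfl⟩ := hle hw
        rw [← map_inv, ← map_mul, ← map_mul]
        exact (h y).mp hw
      · intro hw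
        obtain ⟨y, hy⟩ := hle hw
        have hw' : w = T (x⁻¹ * y * x) := by
          rw [map_mul, map_mul, map_inv, hy]; group
        rw [← hy] at hw
        rw [hw']
        exact (h (x⁻¹ * y * x)).mpr (by rw [show x * (x⁻¹ * y * x) * x⁻¹ = y by group]; exact hw)
  have hidx : (Cfsg.Geo.subgroupNormalizer R).relIndex (Cfsg.Geo.specialLinear (Fin 2) F) = N.index := by
    rw [hSL, ← Subgroup.index_comap, hNc, Subgroup.index_comap_of_surjective _ PSL2.pr_surjective]
  rw [hidx] at hΩ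
  have hcN : Nat.card N = 12 ∨ Nat.card N = 24 := by
    rw [hN]; exact (Dickson.card_normalizer_klein h2 hp').imp And.left And.left
  have hconj : ∀ x : Matrix.SpecialLinearGroup (Fin 2) F, (∃ u, IsConj (PSL2.pr x) u ∧ u ∈ N) ↔
      ∃ g ∈ Cfsg.Geo.specialLinear (Fin 2) F, g⁻¹ * T x * g ∈ Cfsg.Geo.subgroupNormalizer R := fun x => by
    constructor
    · rintro ⟨u, hu, huN⟩
      obtain ⟨c, rfl⟩ := isConj_iff.mp hu
      obtain ⟨g, rfl⟩ := PSL2.pr_surjective c
      refine ⟨T g⁻¹, hSL ▸ ⟨g⁻¹, rfl⟩, ?_⟩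
      rw [← map_inv, ← map_mul, ← map_mul, inv_inv]
      show g * x * g⁻¹ ∈ (Cfsg.Geo.subgroupNormalizer R).comap T
      rw [hNc, Subgroup.mem_comap, map_mul, map_mul, map_inv]
      exact huN
    · rintro ⟨g, hg, hgx⟩
      rw [hSL] at hg
      obtain ⟨g, rfl⟩ := hg
      refine ⟨_, isConj_iff.mpr ⟨(PSL2.pr g)⁻¹, rfl⟩, ?_⟩
      rw [inv_inv, ← map_inv, ← map_mul, ← map_mul, ← Subgroup.mem_comap, ← hNc, Subgroup.mem_comap, map_mul, map_mul, map_inv]
      exact hgx
  have hpr : ∀ x : Matrix.SpecialLinearGroup (Fin 2) F, orderOf (PSL2.pr x) = r ↔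
      (∃ z : F, ((T x ^ r : GL (Fin 2) F) : Matrix (Fin 2) (Fin 2) F) = z • (1 : Matrix (Fin 2) (Fin 2) F)) ∧
      ∀ z : F, (T x : Matrix (Fin 2) (Fin 2) F) ≠ z • (1 : Matrix (Fin 2) (Fin 2) F) := fun x => by
    have e1 : PSL2.pr x ^ r = 1 ↔
        ∃ z : F, ((T x ^ r : GL (Fin 2) F) : Matrix (Fin 2) (Fin 2) F) = z • (1 : Matrix (Fin 2) (Fin 2) F) := by
      rw [← map_pow, pr_eq_one_iff, ← map_pow]; rfl
    have e2 : PSL2.pr x ≠ 1 ↔ ∀ z : F, (T x : Matrix (Fin 2) (Fin 2) F) ≠ z • (1 : Matrix (Fin 2) (Fin 2) F) := by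
      rw [ne_eq, pr_eq_one_iff, IsSc, not_exists]; rfl
    rw [← e1, ← e2]
    constructor
    · intro h
      refine ⟨h ▸ pow_orderOf_eq_one _, fun h1 => ?_⟩
      rw [h1, orderOf_one] at h
      exact (Fact.out : r.Prime).one_lt.ne h
    · rintro ⟨h1, h2'⟩; exact orderOf_eq_prime h1 h2'
  constructor
  · intro h
    obtain ⟨w, hw⟩ := exists_prime_orderOf_dvd_card' r (hΩ.trans N.index_dvd_card)
    obtain ⟨x, rfl⟩ := PSL2.pr_surjective w
    obtain ⟨hx1, hx2⟩ := (hpr x).mp hw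
    obtain ⟨u, hu, huN⟩ := (hconj x).mpr (h (T x) (hSL ▸ ⟨x, rfl⟩) hx1 hx2)
    have hou : orderOf u = r := by
      obtain ⟨c, rfl⟩ := isConj_iff.mp hu
      rw [← MulAut.conj_apply, (MulAut.conj c).orderOf_eq, hw]
    have hd : r ∣ Nat.card N := by
      rw [← hou, ← Subgroup.orderOf_mk u huN]; exact orderOf_dvd_natCard _
    have hd24 : r ∣ 2 ^ 3 * 3 := by
      rcases hcN with h | h <;> rw [h] at hd
      · exact hd.trans ⟨2, rfl⟩
      · exact hd
    rcases (Nat.Prime.dvd_mul Fact.out).mp hd24 with h | h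
    · exact Or.inl ((Nat.prime_dvd_prime_iff_eq Fact.out Nat.prime_two).mp ((Fact.out : r.Prime).dvd_of_dvd_pow h))
    · exact Or.inr ((Nat.prime_dvd_prime_iff_eq Fact.out Nat.prime_three).mp h)
  · intro hr y hy h1 h2'
    rw [hSL] at hy
    obtain ⟨x, rfl⟩ := hy
    have hox := (hpr x).mpr ⟨h1, h2'⟩
    refine (hconj x).mp ?_
    rcases hr with rfl | rfl
    · refine ⟨PSL2.pr A, SL2Four.involutions_conj h2 hox hp'.1, ?_⟩
      rw [hN]
      exact Subgroup.le_normalizer (Or.inr (Or.inl rfl))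
    · obtain ⟨u, hu⟩ := exists_prime_orderOf_dvd_card' (G := N) 3 (by rcases hcN with h | h <;> rw [h] <;> norm_num)
      refine ⟨(u : Matrix.ProjectiveSpecialLinearGroup (Fin 2) F), ?_, u.2⟩
      obtain ⟨Y, hY⟩ := PSL2.pr_surjective (u : Matrix.ProjectiveSpecialLinearGroup (Fin 2) F)
      have hoY : orderOf (PSL2.pr Y) = 3 := by rw [hY, Subgroup.orderOf_coe, hu]
      have key : ∀ w : Matrix.SpecialLinearGroup (Fin 2) F, orderOf (PSL2.pr w) = 3 → ¬ IsSc w.1 ∧ w.1.trace ^ 2 = 1 := fun w hw => by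
        rcases Dickson.trace_of_pow (w := w) (n := 3) (hw ▸ pow_orderOf_eq_one _) with ⟨hs, -⟩ | ⟨hns, -, h', -⟩
        · rw [pr_eq_one_iff.mpr hs, orderOf_one] at hw
          exact absurd hw (by norm_num)
        · exact ⟨hns, h' rfl⟩
      obtain ⟨hxs, hxt⟩ := key x hox
      obtain ⟨hYs, hYt⟩ := key Y hoY
      have hne : x.1.trace * x.1.trace ≠ 4 := fun h => h3 (by rw [← pow_two, hxt] at h; linear_combination -h)
      rcases eq_or_eq_neg_of_sq_eq_sq _ _ (hxt.trans hYt.symm) with h | h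
      · exact hY ▸ MonoidHom.map_isConj _ (isConj_of_trace hxs hYs h (Or.inr hne))
      · have hn : (⟨-Y.1, by rw [Matrix.det_neg, Y.2]; simp⟩ : Matrix.SpecialLinearGroup (Fin 2) F).1 = -Y.1 := rfl
        have hnY : PSL2.pr ⟨-Y.1, by rw [Matrix.det_neg, Y.2]; simp⟩ = PSL2.pr Y :=
          (PSL2.pr_eq_iff _ _).mpr ⟨-1, by ring, by rw [hn, neg_one_smul]⟩
        rw [← hY, ← hnY]
        refine MonoidHom.map_isConj _ (isConj_of_trace hxs ?_ (by rw [hn, Matrix.trace_neg]; exact h) (Or.inr hne))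
        rintro ⟨a, ha⟩
        exact hYs ⟨-a, by rw [hn] at ha; rw [neg_smul, ← ha, neg_neg]⟩

end Cfsg.Agent.S5997
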