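import Cfsg.Statements.S5998
import Cfsg.Agent.Lib.Classical.Elusive.HeisenbergThreeOrders

set_option autoImplicit false
open scoped MatrixGroups
open Cfsg

namespace Cfsg.Agent.S5998

/-- Elements of prime order of PSL_3(p), p ≡ 1 (mod 3), and the normalizer of an extraspecial subgroup of order 27. Here `T = PSL_3(F)` for the field `F` with `p` elements, `p` a prime with `p ≡ 1 (mod 3)`; `R` is a non-abelian subgroup of GL_3(F) of order 27 and exponent 3 (an extraspecial group 3^{1+2}, acting absolutely irreducibly), and `H` is the subgroup of matrices of determinant 1 normalizing `R` — a subgroup of type 3^{1+2}.Sp₂(3) (maximality is not assumed). Ω is the set of cosets of `H` in `T`, so an element of `T` of prime order `r` (a matrix `x` of determinant 1 with `x^r` scalar, `x` not scalar) fixes a point of Ω exactly when some conjugate of `x` by a matrix of determinant 1 normalizes `R`. Let `r` be a prime dividing the index of `H`. Then every element of `T` of order `r` fixes a point of Ω if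 and only if `r = 2`, or `r = 3` and `p ≡ 1 (mod 9)`. -/
theorem result {F : Type*} [Field F] [Fintype F] {p : ℕ} [Fact p.Prime] [CharP F p] (hF : Fintype.card F = p) (hp3 : p % 3 = 1)
    (R : Subgroup (GL (Fin 3) F)) (hR : Nat.card R = 27) (hRe : Monoid.exponent R = 3) (hRna : ¬ IsMulCommutative R)
    (r : ℕ) [Fact r.Prime]
    (hΩ : r ∣ (Cfsg.Geo.subgroupNormalizer R).relIndex (Cfsg.Geo.specialLinear (Fin 3) F)) :
    (∀ x ∈ Cfsg.Geo.specialLinear (Fin 3) F, (∃ z : F, ((x ^ r : GL (Fin 3) F) : Matrix (Fin 3) (Fin 3) F) = z • (1 : Matrix (Fin 3) (Fin 3) F)) →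
      (∀ z : F, (x : Matrix (Fin 3) (Fin 3) F) ≠ z • (1 : Matrix (Fin 3) (Fin 3) F)) →
      ∃ g ∈ Cfsg.Geo.specialLinear (Fin 3) F, g⁻¹ * x * g ∈ Cfsg.Geo.subgroupNormalizer R) ↔ (r = 2 ∨ (r = 3 ∧ p % 9 = 1)) := by
  have hp : p.Prime := Fact.out
  have hw : ∃ w : Fˣ, w ^ 3 = 1 ∧ w ≠ 1 :=
    Cfsg.Agent.Classical.HeisThree.exists_omega (by rw [hF]; omega)
  obtain ⟨w, hw, hw1⟩ := hw
  have h2 : (2 : F) ≠ 0 := by
    intro e
    have : p ∣ 2 := (CharP.cast_eq_zero_iff F p 2).mp (by exact_mod_cast e)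
    have := (Nat.prime_dvd_prime_iff_eq hp Nat.prime_two).mp this
    omega
  have h3 : (3 : F) ≠ 0 := by
    intro e
    have : p ∣ 3 := (CharP.cast_eq_zero_iff F p 3).mp (by exact_mod_cast e)
    have := (Nat.prime_dvd_prime_iff_eq hp Nat.prime_three).mp this
    omega
  have h := Cfsg.Agent.Classical.HeisThree.criterion (Cfsg.Agent.Classical.HeisThree.amb_top (F := F)) h2 h3 hw hw1 R
    le_top hR hRe hRna (p % 9 = 1)
    (fun hc c hc3 => by
      obtain ⟨l, -, hl⟩ := Cfsg.Agent.Classical.HeisThree.exists_ninth (F := F) (by rw [hF]; omega) hc3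
      exact ⟨l, Subgroup.mem_top _, hl⟩)
    (fun hc => Cfsg.Agent.Classical.HeisThree.not_dvd_linear hp3 hc
      (by simpa [hF] using Cfsg.Agent.Classical.HeisThree.card_top_inf (F := F)))
    r (by rwa [top_inf_eq])
  simpa only [top_inf_eq] using h

end Cfsg.Agent.S5998
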